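import Cfsg.Statements.S4016
import Cfsg.Agent.S0183
import Cfsg.Agent.S4018
import Cfsg.Agent.Lib.Coprime.Basic
import Cfsg.Agent.Lib.Coprime.Sylow
import Cfsg.Agent.Lib.Invol.CyclicSylow
import Cfsg.Agent.Lib.ClassK.Core
import Cfsg.Agent.Lib.Complement.Reduction

/-!
A group with cyclic Sylow `p`-subgroup and abelian `p'`-subgroups is `p`-nilpotent or has a normal
Sylow `p`-subgroup.

In a minimal counterexample every centralizer is abelian, or we are in the situation of S4018.
In the first case an involution `t` exists by the odd order CN theorem, and counting the pairs of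
involutions with nontrivial `p`-element product gives `I (I - ε) = Y * |P|` where `p` divides `ε`,
`|P|` divides `I` and `Y` is prime to `p`.
-/

set_option autoImplicit false
set_option linter.unusedSectionVars false
set_option linter.style.haveILetI false
open Cfsg Subgroup

universe u

namespace Cfsg.Agent.S4016

section general

variable {G : Type u} [Group G]

theorem mem_of_coprime_pow_mem {S : Subgroup G} {g : G} {a b : ℕ} (h : Nat.Coprime a b)
    (ha : g ^ a ∈ S) (hb : g ^ b ∈ S) : g ∈ S := by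
  have e := Nat.gcd_eq_gcd_ab a b
  rw [h.gcd_eq_one, Nat.cast_one] at e
  rw [← zpow_one g, e, zpow_add, zpow_mul, zpow_mul, zpow_natCast, zpow_natCast]
  exact mul_mem (zpow_mem ha _) (zpow_mem hb _)

/-- An element lies in `S` once its `p`-part and its `p'`-part do. -/
theorem mem_of_parts [Finite G] {p : ℕ} [Fact p.Prime] {S : Subgroup G} {g : G}
    (h1 : ∀ a ∈ zpowers g, (∃ k, orderOf a = p ^ k) → a ∈ S)
    (h2 : ∀ a ∈ zpowers g, (orderOf a).Coprime p → a ∈ S) : g ∈ S := by
  have hp : p.Prime := Fact.out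
  have hn : orderOf g ≠ 0 := (orderOf_pos g).ne'
  set k := (orderOf g).factorization p with hk
  set m := orderOf g / p ^ k with hm
  have hdvd : p ^ k ∣ orderOf g := Nat.ordProj_dvd _ _
  have hcop : Nat.Coprime (p ^ k) m := (Nat.coprime_ordCompl hp hn).pow_left k
  refine mem_of_coprime_pow_mem hcop ?_ ?_
  · refine h2 _ (npow_mem_zpowers g _) ?_
    rw [orderOf_pow' g (pow_ne_zero _ hp.ne_zero), Nat.gcd_eq_right hdvd]
    exact (Nat.coprime_ordCompl hp hn).symm
  · refine h1 _ (npow_mem_zpowers g _) ⟨k, ?_⟩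
    have hmd : m ∣ orderOf g := Nat.div_dvd_of_dvd hdvd
    have hm0 : m ≠ 0 := fun h => hn (by simpa [h] using hmd)
    rw [orderOf_pow' g hm0, Nat.gcd_eq_right hmd]
    rw [hm, Nat.div_div_self hdvd hn]

theorem coprime_of_not_dvd {p n : ℕ} [Fact p.Prime] (h : ¬ p ∣ n) : n.Coprime p :=
  ((Fact.out : p.Prime).coprime_iff_not_dvd.2 h).symm

theorem not_dvd_of_coprime {p n : ℕ} [Fact p.Prime] (h : n.Coprime p) : ¬ p ∣ n :=
  (Fact.out : p.Prime).coprime_iff_not_dvd.1 h.symm

end general

/-- The hypothesis: cyclic Sylow `p`-subgroups and abelian `p'`-subgroups. -/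
structure Hyp (p : ℕ) (G : Type u) [Group G] : Prop where
  cyc : ∀ D : Subgroup G, IsPGroup p D → IsCyclic D
  ab : ∀ H : Subgroup G, ¬ p ∣ Nat.card H → IsMulCommutative H

variable {p : ℕ} [hp : Fact p.Prime]

theorem Hyp.subgroup {G : Type u} [Group G] (hG : Hyp p G) (K : Subgroup G) : Hyp p ↥K := by
  refine ⟨fun D hD => ?_, fun H hH => ?_⟩
  · exact (D.equivMapOfInjective _ K.subtype_injective).isCyclic.2 (hG.cyc _ (hD.map _))
  · have h := hG.ab (H.map K.subtype) (by rwa [card_map_of_injective K.subtype_injective])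
    refine ⟨⟨fun a b => (H.equivMapOfInjective _ K.subtype_injective).injective ?_⟩⟩
    rw [map_mul, map_mul]
    exact h.is_comm.comm _ _

theorem Hyp.quotient {G : Type u} [Group G] [Finite G] (hG : Hyp p G) (N : Subgroup G) [N.Normal]
    (hN : (Nat.card N).Coprime p) : Hyp p (G ⧸ N) := by
  refine ⟨fun D hD => ?_, fun H hH => ?_⟩
  · obtain ⟨P⟩ : Nonempty (Sylow p G) := inferInstance
    have hs := QuotientGroup.mk'_surjective N
    set Q := P.mapSurjective hs
    have hQc : IsCyclic (Q : Subgroup (G ⧸ N)) := by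
      haveI := hG.cyc _ P.2
      refine isCyclic_of_surjective ((QuotientGroup.mk' N).subgroupMap (P : Subgroup G)) ?_
      exact (QuotientGroup.mk' N).subgroupMap_surjective _
    exact CfsgLib.Invol.isCyclic_pGroup hQc hD
  · set K := H.comap (QuotientGroup.mk' N) with hK
    have hdiv : Nat.card K ∣ Nat.card N * Nat.card H := by
      let f : K →* H := (QuotientGroup.mk' N).subgroupComap H
      have h1 := Subgroup.card_eq_card_quotient_mul_card_subgroup f.ker
      have h2 : Nat.card (K ⧸ f.ker) ∣ Nat.card H := by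
        rw [Nat.card_congr (QuotientGroup.quotientKerEquivRange f).toEquiv]
        exact card_subgroup_dvd_card _
      have h3 : Nat.card f.ker ∣ Nat.card N := by
        have : f.ker.map K.subtype ≤ N := by
          rintro _ ⟨a, ha, rfl⟩
          exact (QuotientGroup.eq_one_iff _).1 (congrArg Subtype.val ha)
        rw [← card_map_of_injective K.subtype_injective]
        exact card_dvd_of_le this
      rw [h1, mul_comm (Nat.card N)]
      exact mul_dvd_mul h2 h3
    have hKab := hG.ab K fun h => by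
      rcases (Nat.Prime.dvd_mul hp.out).1 (h.trans hdiv) with h | h
      · exact not_dvd_of_coprime hN h
      · exact hH h
    refine ⟨⟨fun a b => ?_⟩⟩
    obtain ⟨a', ha'⟩ := QuotientGroup.mk'_surjective N (a : G ⧸ N)
    obtain ⟨b', hb'⟩ := QuotientGroup.mk'_surjective N (b : G ⧸ N)
    have := congrArg (fun z : K => QuotientGroup.mk' N (z : G)) (hKab.is_comm.comm
      ⟨a', show QuotientGroup.mk' N a' ∈ H from ha'.symm ▸ a.2⟩
      ⟨b', show QuotientGroup.mk' N b' ∈ H from hb'.symm ▸ b.2⟩)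
    refine Subtype.ext ?_
    simp only [Subgroup.coe_mul, map_mul, ha', hb'] at this
    exact this

/-- The conclusion. -/
def Concl (p : ℕ) (G : Type u) [Group G] : Prop :=
  Cfsg.HasNormalPComplement p G ∨ ∀ P : Sylow p G, (P : Subgroup G).Normal

/-- The data of a minimal counterexample. -/
structure Setting {G : Type u} [Group G] (p : ℕ) (P : Sylow p G) : Prop where
  hyp : Hyp p G
  odd : p ≠ 2
  core : Cfsg.pPrimeCore p G = ⊥
  proper : ∀ H : Subgroup G, H ≠ ⊤ → Concl p ↥H
  moved : ∃ h ∈ normalizer ((P : Subgroup G) : Set G), (orderOf h).Coprime p ∧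
    h ∉ centralizer ((P : Subgroup G) : Set G)
  nonnormal : ¬ (P : Subgroup G).Normal
  noComp : ¬ Cfsg.HasNormalPComplement p G

variable {G : Type u} [Group G] [Finite G] {P : Sylow p G}

theorem mem_sylow_of_normalizes {g : G} (hg : g ∈ normalizer ((P : Subgroup G) : Set G))
    (ho : ∃ k, orderOf g = p ^ k) : g ∈ (P : Subgroup G) := by
  obtain ⟨k, hk⟩ := ho
  have hgp : IsPGroup p (zpowers g) := IsPGroup.of_card (n := k) (by rw [Nat.card_zpowers, hk])
  have h := P.3 (P.2.to_sup_of_normal_left' hgp (zpowers_le.2 hg)) le_sup_left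
  exact h ▸ mem_sup_right (mem_zpowers g)

theorem exists_moved_of_not_central (hcyc : IsCyclic (P : Subgroup G))
    (h : ¬ normalizer ((P : Subgroup G) : Set G) ≤ centralizer ((P : Subgroup G) : Set G)) :
    ∃ h ∈ normalizer ((P : Subgroup G) : Set G), (orderOf h).Coprime p ∧
      h ∉ centralizer ((P : Subgroup G) : Set G) := by
  by_contra hne
  push Not at hne
  refine h fun g hg => mem_of_parts (p := p) (fun a ha hao => ?_)
    (fun a ha hao => hne a (zpowers_le.2 hg ha) hao)
  have haP := mem_sylow_of_normalizes (zpowers_le.2 hg ha) hao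
  refine mem_centralizer_iff.2 fun w hw => ?_
  let := hcyc.commGroup
  exact congrArg Subtype.val (mul_comm (⟨w, hw⟩ : (P : Subgroup G)) ⟨a, haP⟩)

namespace Setting

variable (S : Setting p P)
include S

theorem cyclic : IsCyclic (P : Subgroup G) := S.hyp.cyc _ P.2

theorem commP {a b : G} (ha : a ∈ (P : Subgroup G)) (hb : b ∈ (P : Subgroup G)) : a * b = b * a := by
  let := S.cyclic.commGroup
  exact congrArg Subtype.val (mul_comm (⟨a, ha⟩ : (P : Subgroup G)) ⟨b, hb⟩)

theorem sylow_le_centralizer : (P : Subgroup G) ≤ centralizer ((P : Subgroup G) : Set G) :=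
  fun _ hx => mem_centralizer_iff.2 fun _ hy => S.commP hy hx

theorem dvd_card : p ∣ Nat.card (P : Subgroup G) := by
  obtain ⟨m, hm⟩ := P.2.exists_card_eq
  rcases Nat.eq_zero_or_pos m with rfl | hpos
  · exact absurd (by rw [Subgroup.eq_bot_of_card_eq (P : Subgroup G) (by simpa using hm)]; infer_instance)
      S.nonnormal
  · rw [hm]; exact dvd_pow_self p hpos.ne'

theorem exists_z : ∃ z ∈ (P : Subgroup G), orderOf z = p := by
  obtain ⟨z, hz⟩ := exists_prime_orderOf_dvd_card' (G := (P : Subgroup G)) p S.dvd_card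
  exact ⟨z, z.2, by rw [Subgroup.orderOf_coe]; exact hz⟩

theorem mem_zpowers_z {z x : G} (hz : z ∈ (P : Subgroup G)) (hzo : orderOf z = p)
    (hx : x ∈ (P : Subgroup G)) (hxp : x ^ p = 1) : x ∈ zpowers z := by
  haveI := S.cyclic
  obtain ⟨j, hj⟩ := mem_zpowers_iff.1 (CfsgLib.PGroup.mem_zpowers_of_pow_eq_one
    (z := (⟨z, hz⟩ : (P : Subgroup G))) (w := ⟨x, hx⟩) (n := p)
    (by rw [Subgroup.orderOf_mk, hzo]) (Subtype.ext hxp))
  exact ⟨j, congrArg Subtype.val hj⟩

/-- Every nontrivial element of `P` has the element `z` of order `p` among its powers. -/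
theorem z_mem_zpowers {z y : G} (hz : z ∈ (P : Subgroup G)) (hzo : orderOf z = p)
    (hy : y ∈ (P : Subgroup G)) (hy1 : y ≠ 1) : z ∈ zpowers y := by
  obtain ⟨k, hk⟩ := P.2 ⟨y, hy⟩
  have hd : orderOf y ∣ p ^ k := orderOf_dvd_of_pow_eq_one (congrArg Subtype.val hk)
  obtain ⟨j, -, hj⟩ := (Nat.dvd_prime_pow hp.out).1 hd
  have hj0 : j ≠ 0 := fun h => hy1 (orderOf_eq_one_iff.1 (by rw [hj, h, pow_zero]))
  set y' := y ^ (orderOf y / p) with hy'
  have hy'o : orderOf y' = p :=
    orderOf_pow_orderOf_div (orderOf_pos y).ne' (hj ▸ dvd_pow_self p hj0)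
  have h1 := S.mem_zpowers_z hz hzo ((P : Subgroup G).pow_mem hy _)
    (by rw [← hy'o]; exact pow_orderOf_eq_one y')
  have h2 : zpowers y' = zpowers z := eq_of_le_of_card_ge (zpowers_le.2 h1)
    (by rw [Nat.card_zpowers, Nat.card_zpowers, hzo, hy'o])
  have h3 : z ∈ zpowers y' := h2 ▸ mem_zpowers z
  exact zpowers_le.2 (npow_mem_zpowers y _) h3

theorem normalizer_zpowers_le {z : G} (hz : z ∈ (P : Subgroup G)) (hzo : orderOf z = p) :
    normalizer (zpowers z : Set G) ≤ normalizer ((P : Subgroup G) : Set G) := by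
  set N := normalizer (zpowers z : Set G)
  have hzN : ∀ g ∈ normalizer ((P : Subgroup G) : Set G), g ∈ N := by
    intro g hg
    rw [CfsgLib.Coprime.mem_normalizer_iff_map_conj, MonoidHom.map_zpowers]
    refine eq_of_le_of_card_ge (zpowers_le.2 (S.mem_zpowers_z hz hzo ?_ ?_)) ?_
    · exact (mem_normalizer_iff.1 hg z).1 hz
    · rw [MulEquiv.coe_toMonoidHom, ← map_pow, ← hzo, pow_orderOf_eq_one, map_one]
    · rw [Nat.card_zpowers, Nat.card_zpowers, MulEquiv.coe_toMonoidHom, MulEquiv.orderOf_eq]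
  have hPN : (P : Subgroup G) ≤ N := fun g hg => hzN g (le_normalizer hg)
  by_cases hN : N = ⊤
  · exfalso
    have hzn : (zpowers z).Normal := normalizer_eq_top_iff.1 hN
    set C := centralizer (zpowers z : Set G) with hC
    haveI : C.Normal := inferInstance
    have hPC : (P : Subgroup G) ≤ C := fun a ha =>
      mem_centralizer_iff.2 fun b hb => S.commP (zpowers_le.2 hz hb) ha
    by_cases hCtop : C = ⊤
    · refine S.noComp (CfsgLib.Invol.hasNormalPComplement_of_central S.cyclic
        (P.2.to_le (zpowers_le.2 hz)) ?_ fun h1 => hp.out.ne_one (by rw [← hzo, h1, orderOf_one]))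
      rw [mem_center_iff]
      intro g
      exact (mem_centralizer_iff.1 (hCtop.ge (mem_top g) : g ∈ C) z (mem_zpowers z)).symm
    obtain ⟨T, hT⟩ : ∃ T : Sylow p ↥C, (T : Subgroup ↥C) = (P : Subgroup G).subgroupOf C :=
      ⟨P.subtype hPC, rfl⟩
    rcases S.proper C hCtop with h | h
    · obtain ⟨K, hK, hKc, hKq⟩ := CfsgLib.Transfer.hasNormalPComplement_iff_exists.1 h
      have hKbot : K.map C.subtype = ⊥ := eq_bot_iff.2 <| S.core ▸
        CfsgLib.ClassK.le_pPrimeCore_of_isSubnormal
          (Subgroup.IsSubnormal.step _ C (map_subtype_le _) (Subgroup.Normal.isSubnormal ‹C.Normal›)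
            (by rwa [subgroupOf, comap_map_eq_self_of_injective C.subtype_injective]))
          (by rwa [card_map_of_injective C.subtype_injective])
      have hKb : K = ⊥ := (map_eq_bot_iff_of_injective _ C.subtype_injective).1 hKbot
      have hCp : IsPGroup p C := by
        subst hKb
        exact hKq.of_equiv (QuotientGroup.quotientBot)
      exact S.nonnormal (P.3 hCp hPC ▸ ‹C.Normal›)
    · have hTn := h T
      haveI := T.characteristic_of_normal hTn
      have : ((T : Subgroup ↥C).map C.subtype).Normal := ConjAct.normal_of_characteristic_of_normal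
      rw [hT, map_subgroupOf_eq_of_le hPC] at this
      exact S.nonnormal this
  · obtain ⟨h, hh, hhp, hhC⟩ := S.moved
    rcases S.proper N hN with hc | hc
    · exfalso
      refine hhC (CfsgLib.Transfer.mem_centralizer_of_hasNormalPComplement P.2 ?_ hh hhp)
      exact CfsgLib.Transfer.hasNormalPComplement_of_injective
        (Subgroup.inclusion (fun g hg => hzN g hg)) (Subgroup.inclusion_injective _) hc
    · have hn := hc (P.subtype hPN)
      rw [Sylow.coe_subtype] at hn
      exact (Subgroup.normal_subgroupOf_iff_le_normalizer hPN).1 hn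

/-- Fusion of nontrivial elements of `P` is controlled by the normalizer of `P`. -/
theorem mem_of_conj {g y : G} (hy : y ∈ (P : Subgroup G)) (hy1 : y ≠ 1)
    (hg : g * y * g⁻¹ ∈ (P : Subgroup G)) : g ∈ normalizer ((P : Subgroup G) : Set G) := by
  obtain ⟨z, hz, hzo⟩ := S.exists_z
  refine S.normalizer_zpowers_le hz hzo ?_
  obtain ⟨k, hk⟩ := S.z_mem_zpowers hz hzo hy hy1
  simp only at hk
  rw [CfsgLib.Coprime.mem_normalizer_iff_map_conj, MonoidHom.map_zpowers]
  refine eq_of_le_of_card_ge (zpowers_le.2 (S.mem_zpowers_z hz hzo ?_ ?_)) ?_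
  · rw [MulEquiv.coe_toMonoidHom, MulAut.conj_apply, ← hk, ← conj_zpow]
    exact zpow_mem hg k
  · rw [MulEquiv.coe_toMonoidHom, ← map_pow, ← hzo, pow_orderOf_eq_one, map_one]
  · rw [Nat.card_zpowers, Nat.card_zpowers, MulEquiv.coe_toMonoidHom, MulEquiv.orderOf_eq]

theorem centralizer_le {y : G} (hy : y ∈ (P : Subgroup G)) (hy1 : y ≠ 1) :
    centralizer ({y} : Set G) ≤ normalizer ((P : Subgroup G) : Set G) := fun g hg =>
  S.mem_of_conj hy hy1 (by rw [mem_centralizer_singleton_iff.1 hg, mul_inv_cancel_right]; exact hy)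

/-- A `p'`-element of the normalizer fixing a nontrivial element of `P` centralizes `P`. -/
theorem fpf {g y : G} (hg : g ∈ normalizer ((P : Subgroup G) : Set G)) (hgp : (orderOf g).Coprime p)
    (hy : y ∈ (P : Subgroup G)) (hy1 : y ≠ 1) (hc : g * y = y * g) :
    g ∈ centralizer ((P : Subgroup G) : Set G) :=
  CfsgLib.Invol.mem_centralizer_of_cyclic P.2 S.cyclic hg hgp hy hy1 hc

theorem no_normal_pgroup (R : Subgroup G) [R.Normal] (hR : IsPGroup p R) : R = ⊥ := by
  by_contra hne
  obtain ⟨T, hT⟩ := hR.exists_le_sylow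
  obtain ⟨g, hg⟩ := MulAction.exists_smul_eq G T P
  have hRP : R ≤ (P : Subgroup G) := by
    intro x hx
    rw [← hg]
    have h1 : g⁻¹ * x * g ∈ R := by simpa using Subgroup.Normal.conj_mem ‹_› x hx g⁻¹
    refine ⟨g⁻¹ * x * g, hT h1, ?_⟩
    simp [mul_assoc]
  obtain ⟨w, hw, hw1⟩ := R.ne_bot_iff_exists_ne_one.1 hne |> fun ⟨⟨w, hw⟩, h⟩ =>
    (⟨w, hw, fun e => h (Subtype.ext e)⟩ : ∃ w ∈ R, w ≠ 1)
  refine S.nonnormal (normalizer_eq_top_iff.1 (top_le_iff.1 fun g _ => ?_))
  exact S.mem_of_conj (hRP hw) hw1 (hRP (‹R.Normal›.conj_mem w hw g))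

theorem simple : IsSimpleGroup G := by
  haveI : Nontrivial G := by
    obtain ⟨z, hz, hzo⟩ := S.exists_z
    exact ⟨z, 1, fun h => hp.out.ne_one (by rw [← hzo, h, orderOf_one])⟩
  refine ⟨fun N hN => ?_⟩
  by_cases htop : N = ⊤
  · exact Or.inr htop
  left
  rcases S.proper N htop with h | h
  · obtain ⟨K, hK, hKc, hKq⟩ := CfsgLib.Transfer.hasNormalPComplement_iff_exists.1 h
    have hKbot : K.map N.subtype = ⊥ := eq_bot_iff.2 <| S.core ▸
      CfsgLib.ClassK.le_pPrimeCore_of_isSubnormal
        (Subgroup.IsSubnormal.step _ N (map_subtype_le _) (Subgroup.Normal.isSubnormal hN)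
          (by rwa [subgroupOf, comap_map_eq_self_of_injective N.subtype_injective]))
        (by rwa [card_map_of_injective N.subtype_injective])
    obtain rfl : K = ⊥ := (map_eq_bot_iff_of_injective _ N.subtype_injective).1 hKbot
    exact S.no_normal_pgroup N (hKq.of_equiv QuotientGroup.quotientBot)
  · obtain ⟨T⟩ : Nonempty (Sylow p ↥N) := inferInstance
    haveI := T.characteristic_of_normal (h T)
    haveI : ((T : Subgroup ↥N).map N.subtype).Normal := ConjAct.normal_of_characteristic_of_normal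
    have hT := S.no_normal_pgroup _ (T.2.map N.subtype)
    have hTb : (T : Subgroup ↥N) = ⊥ := (map_eq_bot_iff_of_injective _ N.subtype_injective).1 hT
    have hnd : ¬ p ∣ Nat.card N := by
      intro hd
      have h1 := T.dvd_card_of_dvd_card hd
      rw [hTb, Subgroup.card_bot] at h1
      exact hp.out.ne_one (Nat.dvd_one.1 h1)
    exact eq_bot_iff.2 (S.core ▸ CfsgLib.ClassK.le_pPrimeCore hN (coprime_of_not_dvd hnd))

/-- If no nontrivial `p'`-element centralizes `P`, centralizers are abelian; contradiction. -/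
theorem false_of_self_centralizing
    (hK : ∀ x ∈ centralizer ((P : Subgroup G) : Set G), (orderOf x).Coprime p → x = 1) : False := by
  haveI := S.simple
  have hp2 := hp.out.two_le
  -- centralizers of nontrivial elements of `P`
  have hCP : ∀ y ∈ (P : Subgroup G), y ≠ 1 → centralizer ({y} : Set G) ≤ (P : Subgroup G) := by
    intro y hy hy1 g hg
    refine mem_of_parts (p := p) (fun a ha hao => ?_) (fun a ha hao => ?_)
    · exact mem_sylow_of_normalizes (S.centralizer_le hy hy1 (zpowers_le.2 hg ha)) hao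
    · have ha' := zpowers_le.2 hg ha
      rw [hK a (S.fpf (S.centralizer_le hy hy1 ha') hao hy hy1
        (mem_centralizer_singleton_iff.1 ha')) hao]
      exact one_mem _
  -- a nontrivial `p`-element lies in a conjugate of `P`
  have hconjP : ∀ y : G, (∃ k, orderOf y = p ^ k) → ∃ g : G, g * y * g⁻¹ ∈ (P : Subgroup G) := by
    rintro y ⟨k, hk⟩
    obtain ⟨T, hT⟩ := (IsPGroup.of_card (n := k) (by rw [Nat.card_zpowers, hk]) :
      IsPGroup p (zpowers y)).exists_le_sylow
    obtain ⟨g, hg⟩ := MulAction.exists_smul_eq G T P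
    exact ⟨g, hg ▸ ⟨y, hT (mem_zpowers y), rfl⟩⟩
  have hCab : ∀ x : G, x ≠ 1 → (orderOf x).Coprime p → ¬ p ∣ Nat.card (centralizer ({x} : Set G)) := by
    intro x hx1 hxp hd
    obtain ⟨⟨y, hy⟩, hyo⟩ := exists_prime_orderOf_dvd_card' p hd
    rw [Subgroup.orderOf_mk] at hyo
    obtain ⟨g, hg⟩ := hconjP y ⟨1, by rw [hyo, pow_one]⟩
    have hgy : g * y * g⁻¹ ≠ 1 := by
      simp only [ne_eq, conj_eq_one_iff]
      intro h; rw [h, orderOf_one] at hyo; exact hp.out.ne_one hyo.symm
    have hmem : g * x * g⁻¹ ∈ (P : Subgroup G) := by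
      refine hCP _ hg hgy (mem_centralizer_singleton_iff.2 ?_)
      have h := mem_centralizer_singleton_iff.1 hy
      calc g * x * g⁻¹ * (g * y * g⁻¹) = g * (x * y) * g⁻¹ := by group
        _ = g * (y * x) * g⁻¹ := by rw [h]
        _ = g * y * g⁻¹ * (g * x * g⁻¹) := by group
    obtain ⟨k, hk⟩ := P.2 ⟨_, hmem⟩
    have h1 : orderOf x ∣ p ^ k := by
      rw [((SemiconjBy.conj_mk g x).orderOf_eq g)]
      exact orderOf_dvd_of_pow_eq_one (congrArg Subtype.val hk)
    exact hx1 (orderOf_eq_one_iff.1 (Nat.eq_one_of_dvd_coprimes (hxp.pow_right k) dvd_rfl h1))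
  -- every nontrivial centralizer is abelian
  have hcab : ∀ x : G, x ≠ 1 → IsMulCommutative (centralizer ({x} : Set G)) := by
    intro x hx1
    have ho1 : orderOf x ≠ 1 := fun h => hx1 (orderOf_eq_one_iff.1 h)
    obtain ⟨r, hr, hrd⟩ := Nat.exists_prime_and_dvd ho1
    set x' := x ^ (orderOf x / r) with hx'
    have hx'o : orderOf x' = r := orderOf_pow_orderOf_div (orderOf_pos x).ne' hrd
    have hle : centralizer ({x} : Set G) ≤ centralizer ({x'} : Set G) := fun g hg =>
      mem_centralizer_singleton_iff.2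
        ((show Commute g x from mem_centralizer_singleton_iff.1 hg).pow_right _).eq
    suffices hC : IsMulCommutative (centralizer ({x'} : Set G)) from
      ⟨⟨fun a b => Subtype.ext (congrArg Subtype.val (hC.is_comm.comm ⟨a, hle a.2⟩ ⟨b, hle b.2⟩) :)⟩⟩
    have hx'1 : x' ≠ 1 := fun h => hr.ne_one (by rw [← hx'o, h, orderOf_one])
    by_cases hrp : r = p
    · obtain ⟨g, hg⟩ := hconjP x' ⟨1, by rw [hx'o, hrp, pow_one]⟩
      have hgy : g * x' * g⁻¹ ≠ 1 := by simpa only [ne_eq, conj_eq_one_iff] using hx'1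
      have hmem : ∀ a ∈ centralizer ({x'} : Set G), g * a * g⁻¹ ∈ (P : Subgroup G) := by
        intro a ha
        refine hCP _ hg hgy (mem_centralizer_singleton_iff.2 ?_)
        have h := mem_centralizer_singleton_iff.1 ha
        calc g * a * g⁻¹ * (g * x' * g⁻¹) = g * (a * x') * g⁻¹ := by group
          _ = g * (x' * a) * g⁻¹ := by rw [h]
          _ = g * x' * g⁻¹ * (g * a * g⁻¹) := by group
      refine ⟨⟨fun a b => Subtype.ext ?_⟩⟩
      have := S.commP (hmem a a.2) (hmem b b.2)
      refine mul_left_cancel (a := g) (mul_right_cancel (b := g⁻¹) ?_)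
      simpa [mul_assoc] using this
    · exact S.hyp.ab _ (hCab x' hx'1 (by
        rw [hx'o]; exact (Nat.coprime_primes hr hp.out).2 hrp))
  -- an involution exists
  obtain ⟨t, ht⟩ : ∃ t : G, orderOf t = 2 := by
    by_cases hev : 2 ∣ Nat.card G
    · exact exists_prime_orderOf_dvd_card' 2 hev
    exfalso
    have hsol : Group.IsSolvable G := Cfsg.Agent.S0183.result
      (Nat.odd_iff.2 (Nat.two_dvd_ne_zero.1 hev)) (fun g hg => by
        letI : CommGroup ↥(centralizer ({g} : Set G)) :=
          { (inferInstance : Group ↥(centralizer ({g} : Set G))) with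
            mul_comm := (hcab g hg).is_comm.comm }
        exact CommGroup.isNilpotent)
    refine S.nonnormal ⟨fun n hn g => ?_⟩
    rw [IsSimpleGroup.comm_iff_isSolvable.2 hsol g n, mul_inv_cancel_right]
    exact hn
  have sq : ∀ {a : G}, orderOf a = 2 → a * a = 1 := fun ha => by
    rw [← pow_two, ← ha, pow_orderOf_eq_one]
  have hinvol : ∀ {a : G}, orderOf a = 2 → a⁻¹ = a := fun ha =>
    inv_eq_of_mul_eq_one_right (sq ha)
  have h2p : Nat.Coprime 2 p := (Nat.coprime_primes Nat.prime_two hp.out).2 (Ne.symm S.odd)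
  have hne1 : ∀ {a : G}, orderOf a = 2 → a ≠ 1 := fun ha h => by
    rw [h, orderOf_one] at ha; exact absurd ha (by norm_num)
  -- two involutions commute or have a `p`-element as product
  have hpair : ∀ a b : G, orderOf a = 2 → orderOf b = 2 → a * b ≠ b * a →
      ∃ k, orderOf (a * b) = p ^ k := by
    intro a b ha hb hab
    by_contra hne
    push Not at hne
    obtain ⟨r, hr, hrd, hrp⟩ : ∃ r, r.Prime ∧ r ∣ orderOf (a * b) ∧ r ≠ p := by
      by_contra hall
      push Not at hall
      exact hne _ (Nat.eq_prime_pow_of_unique_prime_dvd (orderOf_pos (a * b)).ne'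
        fun hd hdd => hall _ hd hdd)
    set d := (a * b) ^ (orderOf (a * b) / r) with hd
    have hdo : orderOf d = r := orderOf_pow_orderOf_div (orderOf_pos (a * b)).ne' hrd
    have hd1 : d ≠ 1 := fun h => hr.ne_one (by rw [← hdo, h, orderOf_one])
    have hconj : a * d * a⁻¹ = d⁻¹ := by
      rw [hd, ← conj_pow, hinvol ha, ← mul_assoc a a b, sq ha, one_mul, ← inv_pow, mul_inv_rev,
        hinvol ha, hinvol hb]
    by_cases hr2 : r = 2
    · have hca : a ∈ centralizer ({d} : Set G) := by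
        rw [mem_centralizer_singleton_iff]
        rw [hinvol (hdo.trans hr2)] at hconj
        exact mul_inv_eq_iff_eq_mul.1 hconj
      have hcb : b ∈ centralizer ({d} : Set G) := by
        have e : b = a * (a * b) := by rw [← mul_assoc, sq ha, one_mul]
        rw [e]
        refine mul_mem hca (mem_centralizer_singleton_iff.2 ?_)
        exact ((Commute.refl (a * b)).pow_right _).eq
      exact hab (congrArg Subtype.val ((hcab d hd1).is_comm.comm ⟨a, hca⟩ ⟨b, hcb⟩))
    · have hnorm : zpowers a ≤ normalizer (zpowers d : Set G) := by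
        rw [zpowers_le, CfsgLib.Coprime.mem_normalizer_iff_map_conj, MonoidHom.map_zpowers,
          MulEquiv.coe_toMonoidHom, MulAut.conj_apply, hconj, zpowers_inv]
      have hinf : zpowers a ⊓ zpowers d = ⊥ := CfsgLib.Coprime.inf_eq_bot_of_coprime (by
        rw [Nat.card_zpowers, Nat.card_zpowers, ha, hdo]
        exact (Nat.coprime_primes Nat.prime_two hr).2 (Ne.symm hr2))
      have hcard := CfsgLib.Coprime.card_sup_of_inf_eq_bot hnorm hinf
      rw [Nat.card_zpowers, Nat.card_zpowers, ha, hdo] at hcard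
      have hab' := S.hyp.ab _ (by
        rw [hcard]
        exact not_dvd_of_coprime (Nat.Coprime.mul_left ((Nat.coprime_primes hr hp.out).2 hrp) h2p))
      have hc := congrArg Subtype.val (hab'.is_comm.comm
        (⟨a, mem_sup_right (mem_zpowers a)⟩ : ↥(zpowers d ⊔ zpowers a))
        ⟨d, mem_sup_left (mem_zpowers d)⟩)
      simp only [Subgroup.coe_mul] at hc
      rw [hc, mul_inv_cancel_right] at hconj
      have h2 : orderOf d ∣ 2 := orderOf_dvd_of_pow_eq_one (by
        rw [pow_two]; nth_rewrite 2 [hconj]; exact mul_inv_cancel d)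
      rw [hdo] at h2
      exact hr2 ((Nat.prime_dvd_prime_iff_eq hr Nat.prime_two).1 h2)
  set A := centralizer ({t} : Set G) with hA
  have hAab : IsMulCommutative A := hcab t (hne1 ht)
  have hAp : ¬ p ∣ Nat.card A := hCab t (hne1 ht) (by rw [ht]; exact h2p)
  have hcommA : ∀ a ∈ A, ∀ b ∈ A, a * b = b * a := fun a ha b hb =>
    congrArg Subtype.val (hAab.is_comm.comm ⟨a, ha⟩ ⟨b, hb⟩)
  have htA : t ∈ A := mem_centralizer_singleton_iff.2 rfl
  have hCs : ∀ s ∈ A, orderOf s = 2 → centralizer ({s} : Set G) = A := by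
    intro s hs hso
    refine le_antisymm (fun g hg => ?_) fun g hg => mem_centralizer_singleton_iff.2 (hcommA g hg s hs)
    refine mem_centralizer_singleton_iff.2 ?_
    exact congrArg Subtype.val ((hcab s (hne1 hso)).is_comm.comm ⟨g, hg⟩
      ⟨t, mem_centralizer_singleton_iff.2 (hcommA t htA s hs)⟩)
  obtain ⟨E, hE⟩ := (IsPGroup.of_card (n := 1) (by rw [Nat.card_zpowers, ht, pow_one]) :
    IsPGroup 2 (zpowers t)).exists_le_sylow
  have hEA : (E : Subgroup G) ≤ A := by
    obtain ⟨k, hk⟩ := E.2.exists_card_eq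
    have := S.hyp.ab (E : Subgroup G) (not_dvd_of_coprime (hk ▸ h2p.pow_left k))
    intro e he
    exact mem_centralizer_singleton_iff.2
      (congrArg Subtype.val (this.is_comm.comm ⟨e, he⟩ ⟨t, hE (mem_zpowers t)⟩))
  have hinto : ∀ s : G, orderOf s = 2 → ∃ g : G, g * s * g⁻¹ ∈ A := by
    intro s hs
    obtain ⟨T, hT⟩ := (IsPGroup.of_card (n := 1) (by rw [Nat.card_zpowers, hs, pow_one]) :
      IsPGroup 2 (zpowers s)).exists_le_sylow
    obtain ⟨g, hg⟩ := MulAction.exists_smul_eq G T E
    exact ⟨g, hEA (hg ▸ ⟨s, hT (mem_zpowers s), rfl⟩)⟩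
  have hcentconj : ∀ (g s : G), centralizer ({g * s * g⁻¹} : Set G) =
      (centralizer ({s} : Set G)).map (MulAut.conj g).toMonoidHom := by
    intro g s
    ext w
    rw [CfsgLib.Coprime.mem_map_conj, mem_centralizer_singleton_iff, mem_centralizer_singleton_iff]
    constructor
    · intro h
      calc g⁻¹ * w * g * s = g⁻¹ * (w * (g * s * g⁻¹)) * g := by group
        _ = g⁻¹ * (g * s * g⁻¹ * w) * g := by rw [h]
        _ = s * (g⁻¹ * w * g) := by group
    · intro h
      calc w * (g * s * g⁻¹) = g * (g⁻¹ * w * g * s) * g⁻¹ := by group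
        _ = g * (s * (g⁻¹ * w * g)) * g⁻¹ := by rw [h]
        _ = g * s * g⁻¹ * w := by group
  set N := normalizer (A : Set G) with hN
  have hmemN : ∀ g s : G, s ∈ A → orderOf s = 2 → g * s * g⁻¹ ∈ A → g ∈ N := by
    intro g s hs hso hgs
    rw [hN, CfsgLib.Coprime.mem_normalizer_iff_map_conj]
    nth_rewrite 1 [← hCs s hs hso]
    rw [← hcentconj, hCs _ hgs (by rw [← ((SemiconjBy.conj_mk g s).orderOf_eq g)]; exact hso)]
  -- the set of involutions of `A`
  set IA : Set G := {s | s ∈ A ∧ orderOf s = 2} with hIA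
  obtain ⟨V⟩ : Nonempty (Sylow p ↥N) := inferInstance
  have hVne : (V : Subgroup ↥N) ≠ ⊥ := by
    intro hV
    have hNp : ¬ p ∣ Nat.card N := by
      intro hd
      have h1 := V.dvd_card_of_dvd_card hd
      rw [hV, Subgroup.card_bot] at h1
      exact hp.out.ne_one (Nat.dvd_one.1 h1)
    have hNab := S.hyp.ab N hNp
    have hNE : normalizer ((E : Subgroup G) : Set G) ≤ centralizer ((E : Subgroup G) : Set G) := by
      intro g hg
      have htE : t ∈ (E : Subgroup G) := hE (mem_zpowers t)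
      have hgN : g ∈ N := hmemN g t htA ht (hEA ((mem_normalizer_iff.1 hg t).1 htE))
      exact mem_centralizer_iff.2 fun e he => congrArg Subtype.val
        (hNab.is_comm.comm ⟨e, le_normalizer (hEA he)⟩ ⟨g, hgN⟩)
    obtain ⟨E', K, hK, hc⟩ := CfsgLib.Transfer.hasNormalPComplement_of_normalizer_le_centralizer E hNE
    have h2 : 2 ∣ Nat.card (E' : Subgroup G) := by
      apply E'.dvd_card_of_dvd_card
      rw [← ht]; exact orderOf_dvd_natCard t
    rcases (inferInstance : IsSimpleGroup G).eq_bot_or_eq_top_of_normal K hK with h | h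
    · subst h
      rw [isComplement'_bot_left] at hc
      obtain ⟨k, hk⟩ := E'.2.exists_card_eq
      rw [hc, Subgroup.card_top] at hk
      have h3 : p ∣ 2 ^ k := hk ▸ S.dvd_card.trans (card_subgroup_dvd_card _)
      exact not_dvd_of_coprime (h2p.pow_left k) h3
    · subst h
      rw [isComplement'_top_left] at hc
      rw [hc, Subgroup.card_bot] at h2
      norm_num at h2
  have hfree : ∀ v : ↥(V : Subgroup ↥N), ∀ s ∈ IA,
      ((v : ↥N) : G) * s * ((v : ↥N) : G)⁻¹ = s → v = 1 := by
    intro v s hs hv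
    have hvA : ((v : ↥N) : G) ∈ A := by
      rw [← hCs s hs.1 hs.2, mem_centralizer_singleton_iff]
      exact mul_inv_eq_iff_eq_mul.1 hv
    obtain ⟨k, hk⟩ := V.2 v
    refine Subtype.ext (Subtype.ext (orderOf_eq_one_iff.1 ?_))
    have h1 : orderOf ((v : ↥N) : G) ∣ p ^ k := orderOf_dvd_of_pow_eq_one (by
      have := congrArg (fun z : ↥(V : Subgroup ↥N) => ((z : ↥N) : G)) hk
      simpa using this)
    exact Nat.eq_one_of_dvd_coprimes ((coprime_of_not_dvd hAp).pow_right k)
      (A.orderOf_dvd_natCard hvA) h1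
  have hIAN : ∀ g ∈ N, ∀ s ∈ IA, g * s * g⁻¹ ∈ IA := fun g hg s hs =>
    ⟨(mem_normalizer_iff.1 hg s).1 hs.1,
      by rw [← ((SemiconjBy.conj_mk g s).orderOf_eq g)]; exact hs.2⟩
  have hVdvd : Nat.card (V : Subgroup ↥N) ∣ IA.ncard := by
    letI : MulAction ↥(V : Subgroup ↥N) ↥IA :=
      { smul := fun v s => ⟨_, hIAN _ (v : ↥N).2 _ s.2⟩
        one_smul := fun s => Subtype.ext (show ((1 : ↥N) : G) * s * ((1 : ↥N) : G)⁻¹ = _ by simp)
        mul_smul := fun a b s => Subtype.ext (by
          show (((a : ↥N) * (b : ↥N) : ↥N) : G) * s * (((a : ↥N) * (b : ↥N) : ↥N) : G)⁻¹ =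
            ((a : ↥N) : G) * (((b : ↥N) : G) * s * ((b : ↥N) : G)⁻¹) * ((a : ↥N) : G)⁻¹
          rw [Subgroup.coe_mul]; group) }
    have hst : ∀ s : ↥IA, MulAction.stabilizer ↥(V : Subgroup ↥N) s = ⊥ := by
      intro s
      rw [eq_bot_iff]
      intro v hv
      exact mem_bot.2 (hfree v s s.2 (congrArg Subtype.val hv))
    haveI : Fintype (Quotient (MulAction.orbitRel ↥(V : Subgroup ↥N) ↥IA)) := Fintype.ofFinite _
    rw [← Nat.card_coe_set_eq,
      Nat.card_congr (MulAction.selfEquivSigmaOrbitsQuotientStabilizer ↥(V : Subgroup ↥N) ↥IA),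
      Nat.card_sigma]
    refine Finset.dvd_sum fun ω _ => ?_
    rw [hst, Nat.card_congr (QuotientGroup.quotientBot (G := ↥(V : Subgroup ↥N))).toEquiv]
  have hpIA : p ∣ IA.ncard := by
    refine dvd_trans ?_ hVdvd
    obtain ⟨k, hk⟩ := V.2.exists_card_eq
    rw [hk]
    refine dvd_pow_self p fun h => hVne (Subgroup.eq_bot_of_card_eq _ ?_)
    rw [hk, h, pow_zero]
  -- all involutions
  classical
  haveI : Fintype G := Fintype.ofFinite G
  set Inv : Finset G := Finset.univ.filter fun s => orderOf s = 2 with hInv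
  have hmemInv : ∀ s, s ∈ Inv ↔ orderOf s = 2 := fun s => by simp [hInv]
  haveI : Fintype (Subgroup G) := Fintype.ofFinite _
  set 𝒜 : Finset (Subgroup G) :=
    Finset.univ.image (fun g : G => A.map (MulAut.conj g).toMonoidHom) with h𝒜
  have h𝒜card : 𝒜.card = N.index := by
    let F : G ⧸ N → Subgroup G := fun c => Quotient.liftOn' c
      (fun g => A.map (MulAut.conj g).toMonoidHom) (fun a b hab => by
        rw [QuotientGroup.leftRel_apply] at hab
        have h1 := CfsgLib.Coprime.map_conj_of_mem_normalizer hab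
        show A.map (MulAut.conj a).toMonoidHom = A.map (MulAut.conj b).toMonoidHom
        nth_rewrite 1 [← h1]
        rw [CfsgLib.Coprime.map_conj_conj, mul_inv_cancel_left])
    have hF : Function.Injective F := by
      intro c c' h
      obtain ⟨a, rfl⟩ := QuotientGroup.mk_surjective c
      obtain ⟨b, rfl⟩ := QuotientGroup.mk_surjective c'
      rw [QuotientGroup.eq, hN, CfsgLib.Coprime.mem_normalizer_iff_map_conj,
        ← CfsgLib.Coprime.map_conj_conj]
      have h' : A.map (MulAut.conj a).toMonoidHom = A.map (MulAut.conj b).toMonoidHom := h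
      rw [← h', CfsgLib.Coprime.map_conj_conj, inv_mul_cancel]
      ext w; simp
    rw [Subgroup.index_eq_card, ← Nat.card_range_of_injective hF, Nat.card_coe_set_eq,
      ← Set.ncard_coe_finset]
    congr 1
    ext B
    simp only [h𝒜, Finset.coe_image, Finset.coe_univ, Set.image_univ, Set.mem_range]
    exact ⟨fun ⟨g, hg⟩ => ⟨(g : G ⧸ N), hg⟩, fun ⟨c, hc⟩ => by
      obtain ⟨g, rfl⟩ := QuotientGroup.mk_surjective c
      exact ⟨g, hc⟩⟩
  have hCinv : ∀ s : G, orderOf s = 2 → centralizer ({s} : Set G) ∈ 𝒜 := by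
    intro s hs
    obtain ⟨g, hg⟩ := hinto s hs
    have h1 := hCs _ hg (by rw [← ((SemiconjBy.conj_mk g s).orderOf_eq g)]; exact hs)
    refine Finset.mem_image.2 ⟨g⁻¹, Finset.mem_univ _, ?_⟩
    rw [← h1, ← hcentconj]
    congr 2
    group
  have hfib : ∀ B ∈ 𝒜, (Inv.filter fun s => centralizer ({s} : Set G) = B).card = IA.ncard := by
    intro B hB
    obtain ⟨g, -, rfl⟩ := Finset.mem_image.1 hB
    rw [← Set.ncard_coe_finset,
      show IA.ncard = ((fun s => g * s * g⁻¹) '' IA).ncard from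
        (Set.ncard_image_of_injective _ (MulAut.conj g).injective).symm]
    congr 1
    ext w
    simp only [Finset.coe_filter, hmemInv, Set.mem_ofPred_eq, Set.mem_image]
    constructor
    · rintro ⟨hw, hwC⟩
      have hwA : g⁻¹ * w * g ∈ A := by
        rw [← CfsgLib.Coprime.mem_map_conj, ← hwC]
        exact mem_centralizer_singleton_iff.2 rfl
      refine ⟨g⁻¹ * w * g, ⟨hwA, ?_⟩, by group⟩
      have := (SemiconjBy.conj_mk g⁻¹ w).orderOf_eq g⁻¹
      rw [inv_inv] at this
      rw [← this]; exact hw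
    · rintro ⟨s, hs, rfl⟩
      exact ⟨by rw [← ((SemiconjBy.conj_mk g s).orderOf_eq g)]; exact hs.2,
        by rw [hcentconj, hCs s hs.1 hs.2]⟩
  have hIcard : Inv.card = N.index * IA.ncard := by
    rw [Finset.card_eq_sum_card_fiberwise (t := 𝒜) (f := fun s => centralizer ({s} : Set G))
      (fun s hs => hCinv s ((hmemInv s).1 hs)), Finset.sum_congr rfl hfib, Finset.sum_const,
      h𝒜card, smul_eq_mul]
  -- the `p`-elements
  set Pel : Finset G := Finset.univ.filter fun y => y ≠ 1 ∧ ∃ k, orderOf y = p ^ k with hPel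
  set R : Finset (G × G) := (Inv ×ˢ Inv).filter fun x => x.1 * x.2 ≠ x.2 * x.1 with hR
  have hcommcount : ∀ s ∈ Inv, (Inv.filter fun b => s * b = b * s).card = IA.ncard := by
    intro s hs
    rw [← hfib _ (hCinv s ((hmemInv s).1 hs))]
    congr 1
    refine Finset.filter_congr fun b hb => ⟨fun h => ?_, fun h => ?_⟩
    · obtain ⟨g, hg⟩ := hinto s ((hmemInv s).1 hs)
      have hso : orderOf (g * s * g⁻¹) = 2 := by
        rw [← ((SemiconjBy.conj_mk g s).orderOf_eq g)]; exact (hmemInv s).1 hs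
      have hbo : orderOf (g * b * g⁻¹) = 2 := by
        rw [← ((SemiconjBy.conj_mk g b).orderOf_eq g)]; exact (hmemInv b).1 hb
      have hbA : g * b * g⁻¹ ∈ A := by
        rw [← hCs _ hg hso, hcentconj, CfsgLib.Coprime.mem_map_conj, mem_centralizer_singleton_iff]
        calc g⁻¹ * (g * b * g⁻¹) * g * s = b * s := by group
          _ = s * b := h.symm
          _ = s * (g⁻¹ * (g * b * g⁻¹) * g) := by group
      have e := (hCs _ hbA hbo).trans (hCs _ hg hso).symm
      rw [hcentconj, hcentconj] at e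
      exact map_injective (MulAut.conj g).injective e
    · exact mem_centralizer_singleton_iff.1 (h ▸ mem_centralizer_singleton_iff.2 rfl :
        s ∈ centralizer ({b} : Set G))
  have hRcard : R.card + Inv.card * IA.ncard = Inv.card * Inv.card := by
    have h1 := Finset.card_filter_add_card_filter_not
      (s := Inv ×ˢ Inv) (fun x : G × G => x.1 * x.2 = x.2 * x.1)
    have h2 : ((Inv ×ˢ Inv).filter fun x : G × G => x.1 * x.2 = x.2 * x.1).card =
        Inv.card * IA.ncard := by
      rw [Finset.card_filter, Finset.sum_product]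
      have : ∀ s ∈ Inv, (∑ b ∈ Inv, if (s, b).1 * (s, b).2 = (s, b).2 * (s, b).1 then 1 else 0) =
          IA.ncard := fun s hs => by rw [← hcommcount s hs, Finset.card_filter]
      rw [Finset.sum_congr rfl this, Finset.sum_const, smul_eq_mul]
    rw [← h2, ← Finset.card_product, ← h1, add_comm, hR]
  set J : G → Finset G := fun y => Inv.filter fun s => s * y * s⁻¹ = y⁻¹ with hJ
  have hRsum : R.card = ∑ y ∈ Pel, (J y).card := by
    rw [← Finset.card_sigma]
    refine Finset.card_bij (fun x _ => ⟨x.1 * x.2, x.1⟩) ?_ ?_ ?_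
    · rintro ⟨a, b⟩ hx
      simp only [hR, Finset.mem_filter, Finset.mem_product, hmemInv] at hx
      obtain ⟨⟨ha, hb⟩, hne⟩ := hx
      simp only [Finset.mem_sigma, hPel, hJ, Finset.mem_filter, Finset.mem_univ, true_and, hmemInv]
      refine ⟨⟨fun h => hne ?_, hpair a b ha hb hne⟩, ha, ?_⟩
      · rw [eq_inv_of_mul_eq_one_right h, mul_inv_cancel, inv_mul_cancel]
      · rw [← mul_assoc a a b, sq ha, one_mul, mul_inv_rev, hinvol ha, hinvol hb]
    · rintro ⟨a, b⟩ _ ⟨a', b'⟩ _ h
      simp only [Sigma.mk.injEq, heq_eq_eq] at h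
      obtain ⟨h1, rfl⟩ := h
      rw [mul_left_cancel h1]
    · rintro ⟨y, a⟩ hy
      simp only [Finset.mem_sigma, hPel, hJ, Finset.mem_filter, Finset.mem_univ, true_and,
        hmemInv] at hy
      obtain ⟨⟨hy1, k, hk⟩, ha, hay⟩ := hy
      have h1 : a * y * a = y⁻¹ := by
        nth_rewrite 2 [← hinvol ha]; exact hay
      have hb2 : (a * y) * (a * y) = 1 := by rw [← mul_assoc, h1, inv_mul_cancel]
      have hb1 : a * y ≠ 1 := fun h => by
        have h3 : y = a := by rw [eq_inv_of_mul_eq_one_right h, hinvol ha]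
        rw [h3, ha] at hk
        have h4 : 2 ∣ p ^ k := hk ▸ dvd_rfl
        exact S.odd ((Nat.prime_dvd_prime_iff_eq Nat.prime_two hp.out).1
          (Nat.prime_two.dvd_of_dvd_pow h4)).symm
      refine ⟨(a, a * y), ?_, by simp [← mul_assoc, sq ha]⟩
      simp only [hR, Finset.mem_filter, Finset.mem_product, hmemInv]
      refine ⟨⟨ha, orderOf_eq_prime (by rw [pow_two, hb2]) hb1⟩, fun hc => hy1 ?_⟩
      rw [← mul_assoc, sq ha, one_mul, h1] at hc
      have h2 : orderOf y ∣ 2 := orderOf_dvd_of_pow_eq_one (by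
        rw [pow_two]; nth_rewrite 2 [hc]; exact mul_inv_cancel y)
      rw [hk] at h2
      exact orderOf_eq_one_iff.1 (hk.trans
        (Nat.eq_one_of_dvd_coprimes (h2p.pow_right k) h2 dvd_rfl))
  -- involutions inverting an element of `P`
  have hJP : ∀ y ∈ (P : Subgroup G), y ≠ 1 →
      J y = Inv.filter (fun s => s ∈ normalizer ((P : Subgroup G) : Set G)) := by
    intro y hy hy1
    refine Finset.filter_congr fun s hs => ⟨fun h => S.mem_of_conj hy hy1 ?_, fun h => ?_⟩
    · rw [h]; exact inv_mem hy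
    · have hso := (hmemInv s).1 hs
      set c := y * (s * y * s⁻¹)
      have hcP : s * y * s⁻¹ ∈ (P : Subgroup G) := (mem_normalizer_iff.1 h y).1 hy
      have hfix : s * c * s⁻¹ = c := by
        calc s * c * s⁻¹ = (s * y * s⁻¹) * (s * s * y * (s * s)⁻¹) := by simp only [c]; group
          _ = (s * y * s⁻¹) * y := by rw [sq hso]; group
          _ = c := S.commP hcP hy
      by_contra hne
      refine hne1 hso (hK s (S.fpf h (by rw [hso]; exact h2p) (mul_mem hy hcP) (fun hc1 => hne ?_)
        (mul_inv_eq_iff_eq_mul.1 hfix)) (by rw [hso]; exact h2p))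
      exact (eq_inv_of_mul_eq_one_right hc1)
  set δ := (Inv.filter fun s => s ∈ normalizer ((P : Subgroup G) : Set G)).card with hδ
  have hJcard : ∀ y ∈ Pel, (J y).card = δ := by
    intro y hy
    simp only [hPel, Finset.mem_filter, Finset.mem_univ, true_and] at hy
    obtain ⟨g, hg⟩ := hconjP y hy.2
    rw [hδ, ← hJP _ hg (by simpa only [ne_eq, conj_eq_one_iff] using hy.1)]
    refine Finset.card_bij (fun s _ => g * s * g⁻¹) ?_ ?_ ?_
    · intro s hs
      simp only [hJ, Finset.mem_filter, hmemInv] at hs ⊢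
      refine ⟨by rw [← ((SemiconjBy.conj_mk g s).orderOf_eq g)]; exact hs.1, ?_⟩
      calc g * s * g⁻¹ * (g * y * g⁻¹) * (g * s * g⁻¹)⁻¹ = g * (s * y * s⁻¹) * g⁻¹ := by group
        _ = (g * y * g⁻¹)⁻¹ := by rw [hs.2]; group
    · intro a _ b _ h
      exact mul_left_cancel (mul_right_cancel h)
    · intro s hs
      simp only [hJ, Finset.mem_filter, hmemInv] at hs ⊢
      refine ⟨g⁻¹ * s * g, ⟨?_, ?_⟩, by group⟩
      · have := (SemiconjBy.conj_mk g⁻¹ s).orderOf_eq g⁻¹
        rw [inv_inv] at this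
        rw [← this]; exact hs.1
      · calc g⁻¹ * s * g * y * (g⁻¹ * s * g)⁻¹ = g⁻¹ * (s * (g * y * g⁻¹) * s⁻¹) * g := by group
          _ = y⁻¹ := by rw [hs.2]; group
  have hkey : Inv.card * IA.ncard + Pel.card * δ = Inv.card * Inv.card := by
    rw [← hRcard, hRsum, Finset.sum_congr rfl hJcard, Finset.sum_const, smul_eq_mul, add_comm]
  have hIApos : 0 < IA.ncard := (Set.ncard_pos).2 ⟨t, htA, ht⟩
  obtain ⟨z, hz, hzo⟩ := S.exists_z
  have hz1 : z ≠ 1 := fun h => hp.out.ne_one (by rw [← hzo, h, orderOf_one])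
  by_cases hδ0 : (Inv.filter fun s => s ∈ normalizer ((P : Subgroup G) : Set G)) = ∅
  · rw [hδ, hδ0, Finset.card_empty, mul_zero, add_zero] at hkey
    have hI0 : 0 < Inv.card := Finset.card_pos.2 ⟨t, (hmemInv t).2 ht⟩
    have hIe : IA.ncard = Inv.card := Nat.eq_of_mul_eq_mul_left hI0 hkey
    have hidx : N.index = 1 := by
      refine Nat.eq_of_mul_eq_mul_right hIApos ?_
      rw [← hIcard, one_mul, hIe]
    have hAn : A.Normal := normalizer_eq_top_iff.1 (Subgroup.index_eq_one.1 hidx)
    rcases (inferInstance : IsSimpleGroup G).eq_bot_or_eq_top_of_normal A hAn with h | h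
    · exact hne1 ht (mem_bot.1 (h ▸ htA))
    · exact hAp (h ▸ by rw [Subgroup.card_top]; exact S.dvd_card.trans (card_subgroup_dvd_card _))
  obtain ⟨s₀, hs₀⟩ := Finset.nonempty_iff_ne_empty.2 hδ0
  have hδP : δ = Nat.card (P : Subgroup G) := by
    simp only [Finset.mem_filter, hmemInv] at hs₀
    have hinv0 : ∀ y ∈ (P : Subgroup G), s₀ * y * s₀⁻¹ = y⁻¹ := by
      intro y hy
      by_cases hy1 : y = 1
      · rw [hy1]; simp
      have h1 : s₀ ∈ J y := by
        rw [hJP y hy hy1, Finset.mem_filter, hmemInv]; exact hs₀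
      exact (Finset.mem_filter.1 h1).2
    rw [hδ, ← Set.ncard_coe_finset,
      show Nat.card (P : Subgroup G) = ((fun v => s₀ * v) '' ((P : Subgroup G) : Set G)).ncard by
        rw [Set.ncard_image_of_injective _ (mul_right_injective s₀)]; rfl]
    congr 1
    ext s
    simp only [Finset.coe_filter, hmemInv, Set.mem_ofPred_eq, Set.mem_image]
    constructor
    · rintro ⟨hso, hsM⟩
      refine ⟨s₀ * s, ?_, by rw [← mul_assoc, sq hs₀.1, one_mul]⟩
      have hsz : s * z * s⁻¹ = z⁻¹ := by
        have h1 : s ∈ J z := by rw [hJP z hz hz1, Finset.mem_filter, hmemInv]; exact ⟨hso, hsM⟩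
        exact (Finset.mem_filter.1 h1).2
      refine hCP z hz hz1 (mem_centralizer_singleton_iff.2 (mul_inv_eq_iff_eq_mul.1 ?_))
      rw [show s₀ * s * z * (s₀ * s)⁻¹ = s₀ * (s * z * s⁻¹) * s₀⁻¹ by group, hsz,
        hinv0 z⁻¹ (inv_mem hz), inv_inv]
    · rintro ⟨v, hv, rfl⟩
      refine ⟨orderOf_eq_prime ?_ fun h => ?_, mul_mem hs₀.2 (le_normalizer hv)⟩
      · rw [pow_two, show s₀ * v * (s₀ * v) = s₀ * v * s₀⁻¹ * (s₀ * s₀) * v by group, sq hs₀.1,
          mul_one, hinv0 v hv, inv_mul_cancel]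
      · have hs0P : s₀ ∈ (P : Subgroup G) := by
          rw [eq_inv_of_mul_eq_one_left h]; exact inv_mem hv
        obtain ⟨k, hk⟩ := P.2 ⟨s₀, hs0P⟩
        have h1 : orderOf s₀ ∣ p ^ k := orderOf_dvd_of_pow_eq_one (congrArg Subtype.val hk)
        rw [hs₀.1] at h1
        exact S.odd ((Nat.prime_dvd_prime_iff_eq Nat.prime_two hp.out).1
          (Nat.prime_two.dvd_of_dvd_pow h1)).symm
  -- the number of nontrivial `p`-elements is prime to `p`
  obtain ⟨m, hm⟩ := P.2.exists_card_eq
  have hPelcard : ¬ p ∣ Pel.card := by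
    have hcover : (↑Pel : Set G) = ⋃ T ∈ (Set.univ : Set (Sylow p G)), ((T : Subgroup G) : Set G) \ {1} := by
      ext y
      simp only [hPel, Finset.coe_filter, Finset.mem_univ, true_and, Set.mem_ofPred_eq, Set.mem_iUnion,
        Set.mem_univ, exists_prop, Set.mem_sdiff, Set.mem_singleton_iff, SetLike.mem_coe]
      constructor
      · rintro ⟨hy1, k, hk⟩
        obtain ⟨T, hT⟩ := (IsPGroup.of_card (n := k) (by rw [Nat.card_zpowers, hk]) :
          IsPGroup p (zpowers y)).exists_le_sylow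
        exact ⟨T, hT (mem_zpowers y), hy1⟩
      · rintro ⟨T, hy, hy1⟩
        refine ⟨hy1, ?_⟩
        obtain ⟨k, hk⟩ := T.2 ⟨y, hy⟩
        obtain ⟨j, -, hj⟩ := (Nat.dvd_prime_pow hp.out).1
          (orderOf_dvd_of_pow_eq_one (congrArg Subtype.val hk : y ^ p ^ k = 1))
        exact ⟨j, hj⟩
    haveI : Fintype (Sylow p G) := Fintype.ofFinite _
    have hcount : Pel.card = Nat.card (Sylow p G) * (p ^ m - 1) := by
      rw [← Set.ncard_coe_finset, hcover, (Set.toFinite _).ncard_biUnion
        (fun T _ => Set.toFinite _) ?_]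
      · have hc : ∀ T ∈ (Set.univ : Set (Sylow p G)),
            (((T : Subgroup G) : Set G) \ {1}).ncard = p ^ m - 1 := by
          intro T _
          rw [Set.ncard_sdiff_singleton_of_mem (one_mem _), ← Nat.card_coe_set_eq,
            SetLike.coe_sort_coe, Nat.card_congr (T.equiv P).toEquiv, hm]
        rw [finsum_mem_congr rfl hc, finsum_mem_eq_finite_toFinset_sum _ (Set.toFinite _),
          Finset.sum_const, smul_eq_mul, ← Set.ncard_eq_toFinset_card _ (Set.toFinite _),
          Set.ncard_univ]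
      · intro T₁ _ T₂ _ hne
        rw [Function.onFun, Set.disjoint_left]
        rintro y ⟨hy1', hy1⟩ ⟨hy2', -⟩
        apply hne
        obtain ⟨g₁, hg₁⟩ := MulAction.exists_smul_eq G T₁ P
        obtain ⟨g₂, hg₂⟩ := MulAction.exists_smul_eq G T₂ P
        have m1 : g₁ * y * g₁⁻¹ ∈ (P : Subgroup G) := hg₁ ▸ ⟨y, hy1', rfl⟩
        have m2 : g₂ * y * g₂⁻¹ ∈ (P : Subgroup G) := hg₂ ▸ ⟨y, hy2', rfl⟩
        have hmem : g₂ * g₁⁻¹ ∈ normalizer ((P : Subgroup G) : Set G) := by
          refine S.mem_of_conj m1 (fun h => hy1 (conj_eq_one_iff.1 h)) ?_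
          have e : g₂ * g₁⁻¹ * (g₁ * y * g₁⁻¹) * (g₂ * g₁⁻¹)⁻¹ = g₂ * y * g₂⁻¹ := by group
          rwa [e]
        have h3 : (g₂ * g₁⁻¹) • P = P := Sylow.smul_eq_iff_mem_normalizer.2 hmem
        calc T₁ = g₁⁻¹ • P := by rw [← hg₁, inv_smul_smul]
          _ = g₂⁻¹ • P := by
            conv_rhs => rw [← h3, smul_smul, inv_mul_cancel_left]
          _ = T₂ := by rw [← hg₂, inv_smul_smul]
    rw [hcount, Nat.Prime.dvd_mul hp.out, not_or]
    refine ⟨not_dvd_card_sylow p G, fun hd => ?_⟩
    have hm0 : m ≠ 0 := by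
      rintro rfl
      have := S.dvd_card; rw [hm, pow_zero] at this
      exact hp.out.ne_one (Nat.dvd_one.1 this)
    have h1 : p ∣ p ^ m := dvd_pow_self p hm0
    have h2 := Nat.dvd_sub h1 hd
    rw [Nat.sub_sub_self (Nat.one_le_pow _ _ hp.out.pos)] at h2
    exact hp.out.ne_one (Nat.dvd_one.1 h2)
  -- `|P|` divides the number of involutions
  have hPI : p ^ m ∣ Inv.card := by
    rw [hIcard]
    obtain ⟨r, hr⟩ := hVdvd
    have h1 : p ^ m ∣ N.index * Nat.card (V : Subgroup ↥N) := by
      refine (Nat.Coprime.pow_left m ((coprime_of_not_dvd V.not_dvd_index).symm)).dvd_of_dvd_mul_right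
        (?_ : p ^ m ∣ N.index * Nat.card (V : Subgroup ↥N) * (V : Subgroup ↥N).index)
      rw [mul_assoc, Subgroup.card_mul_index, Subgroup.index_mul_card, ← hm]
      exact card_subgroup_dvd_card _
    rw [hr, ← mul_assoc]
    exact h1.mul_right r
  rw [hδP, hm] at hkey
  obtain ⟨c, hc⟩ := hPI
  obtain ⟨e, he⟩ := hpIA
  have hpI : p ∣ Inv.card := by rw [hIcard, he]; exact Dvd.intro (N.index * e) (by ring)
  obtain ⟨c', hc'⟩ := hpI
  apply hPelcard
  have h1 : p ^ m * p ∣ Pel.card * p ^ m := by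
    have h2 : Pel.card * p ^ m = Inv.card * Inv.card - Inv.card * IA.ncard := by omega
    rw [h2]
    refine Nat.dvd_sub ?_ ?_
    · nth_rewrite 1 [hc]; rw [hc']; exact Dvd.intro (c * c') (by ring)
    · rw [hc, he]; exact Dvd.intro (c * e) (by ring)
  rw [mul_comm (Pel.card)] at h1
  exact Nat.dvd_of_mul_dvd_mul_left (pow_pos hp.out.pos m) h1

/-- If some nontrivial `p'`-element centralizes `P`, we are in the situation of S4018. -/
theorem false_of_centralized {x₀ : G} (hx₀ : x₀ ∈ centralizer ((P : Subgroup G) : Set G))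
    (hx₀p : (orderOf x₀).Coprime p) (hx₀1 : x₀ ≠ 1) : False := by
  haveI := S.simple
  have h2p : Nat.Coprime 2 p := (Nat.coprime_primes Nat.prime_two hp.out).2 (Ne.symm S.odd)
  set M := normalizer ((P : Subgroup G) : Set G) with hM
  obtain ⟨m, hm⟩ := P.2.exists_card_eq
  haveI : ((P : Subgroup G).subgroupOf M).Normal := normal_in_normalizer
  have hPM : (P : Subgroup G) ≤ M := le_normalizer
  have hPcop : (Nat.card ((P : Subgroup G).subgroupOf M)).Coprime
      ((P : Subgroup G).subgroupOf M).index := by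
    rw [← Sylow.coe_subtype P hPM]
    exact (P.subtype hPM).card_coprime_index
  obtain ⟨T', hT'⟩ := Subgroup.exists_right_complement'_of_coprime hPcop
  set T := T'.map M.subtype with hT
  have hTM : T ≤ M := map_subtype_le _
  have hTcard : Nat.card T * Nat.card (P : Subgroup G) = Nat.card M := by
    rw [hT, card_map_of_injective M.subtype_injective, mul_comm,
      ← CfsgLib.Coprime.card_subgroupOf hPM]
    exact hT'.card_mul
  have hTp : ¬ p ∣ Nat.card T := by
    rw [hT, card_map_of_injective M.subtype_injective, ← hT'.symm.index_eq_card,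
      ← Sylow.coe_subtype P hPM]
    exact (P.subtype hPM).not_dvd_index
  have hTab := S.hyp.ab T hTp
  have hTcomm : ∀ a ∈ T, ∀ b ∈ T, a * b = b * a := fun a ha b hb =>
    congrArg Subtype.val (hTab.is_comm.comm ⟨a, ha⟩ ⟨b, hb⟩)
  have hTord : ∀ a ∈ T, (orderOf a).Coprime p := fun a ha =>
    (coprime_of_not_dvd hTp).coprime_dvd_left (T.orderOf_dvd_natCard ha)
  have hdec : ∀ g ∈ M, ∃ w ∈ (P : Subgroup G), ∃ τ ∈ T, g = w * τ := by
    intro g hg
    obtain ⟨⟨⟨w, hw⟩, ⟨τ, hτ⟩⟩, hwt⟩ := hT'.existsUnique ⟨g, hg⟩ |>.exists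
    exact ⟨w, hw, τ, ⟨τ, hτ, rfl⟩, (congrArg Subtype.val hwt).symm⟩
  have hpart : ∀ w ∈ (P : Subgroup G), (orderOf w).Coprime p → w = 1 := by
    intro w hw hcop
    obtain ⟨k, hk⟩ := P.2 ⟨w, hw⟩
    exact orderOf_eq_one_iff.1 (Nat.eq_one_of_dvd_coprimes (hcop.pow_right k) dvd_rfl
      (orderOf_dvd_of_pow_eq_one (congrArg Subtype.val hk)))
  set K := T ⊓ centralizer ((P : Subgroup G) : Set G) with hKdef
  have hCmem : ∀ g ∈ centralizer ((P : Subgroup G) : Set G), (orderOf g).Coprime p → g ∈ K := by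
    intro g hg hgp
    obtain ⟨w, hw, τ, hτ, rfl⟩ := hdec g (centralizer_le_normalizer _ hg)
    have hτC : τ ∈ centralizer ((P : Subgroup G) : Set G) :=
      (Subgroup.mul_mem_cancel_left _ (S.sylow_le_centralizer hw)).1 hg
    have hcomm : Commute w τ := mem_centralizer_iff.1 hτC w hw
    suffices hw1 : w = 1 by rw [hw1, one_mul]; exact mem_inf.2 ⟨hτ, hτC⟩
    -- the `p`-part of a `p'`-element
    apply hpart w hw
    refine Nat.Coprime.coprime_dvd_left ?_ (Nat.Coprime.mul_left hgp (hTord τ hτ))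
    have h2 : Commute (w * τ) τ⁻¹ := (hcomm.mul_left (Commute.refl τ)).inv_right
    have h1 := h2.orderOf_mul_dvd_mul_orderOf
    rwa [mul_inv_cancel_right, orderOf_inv] at h1
  obtain ⟨h, hhM, hhp, hhC⟩ := S.moved
  obtain ⟨τ₀, hτ₀T, hτ₀⟩ : ∃ τ ∈ T, τ ∉ centralizer ((P : Subgroup G) : Set G) := by
    obtain ⟨w, hw, τ, hτ, rfl⟩ := hdec h hhM
    exact ⟨τ, hτ, fun hc => hhC (mul_mem (S.sylow_le_centralizer hw) hc)⟩
  have hCK : ∀ k ∈ K, k ≠ 1 → centralizer ({k} : Set G) = M := by
    intro k hk hk1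
    obtain ⟨hkT, hkC⟩ := mem_inf.1 hk
    have hPk : (P : Subgroup G) ≤ centralizer ({k} : Set G) := fun a ha =>
      mem_centralizer_singleton_iff.2 (mem_centralizer_iff.1 hkC a ha)
    have hle : M ≤ centralizer ({k} : Set G) := fun g hg => by
      obtain ⟨w, hw, τ, hτ, rfl⟩ := hdec g hg
      exact mul_mem (hPk hw) (mem_centralizer_singleton_iff.2 (hTcomm τ hτ k hkT))
    refine le_antisymm ?_ hle
    have hne : centralizer ({k} : Set G) ≠ ⊤ := by
      intro htop
      haveI : (zpowers k).Normal := ⟨fun a ha g => by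
        obtain ⟨i, rfl⟩ := ha
        have hc : Commute g k := mem_centralizer_singleton_iff.1 (htop.ge (mem_top g))
        simp only
        rw [(hc.zpow_right i).eq, mul_inv_cancel_right]
        exact zpow_mem (mem_zpowers k) i⟩
      have := CfsgLib.ClassK.le_pPrimeCore (p := p) ‹(zpowers k).Normal› (by
        rw [Nat.card_zpowers]; exact hTord k hkT)
      rw [S.core, le_bot_iff, zpowers_eq_bot] at this
      exact hk1 this
    rcases S.proper _ hne with hc | hc
    · exact absurd (CfsgLib.Transfer.mem_centralizer_of_hasNormalPComplement P.2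
        (CfsgLib.Transfer.hasNormalPComplement_of_injective (Subgroup.inclusion hle)
          (Subgroup.inclusion_injective _) hc) (hTM hτ₀T) (hTord τ₀ hτ₀T)) hτ₀
    · have hn := hc (P.subtype hPk)
      rw [Sylow.coe_subtype] at hn
      exact (Subgroup.normal_subgroupOf_iff_le_normalizer hPk).1 hn
  have hNM : ∀ g : G, (∀ a ∈ M, g * a * g⁻¹ ∈ M) → g ∈ M := by
    intro g hg
    obtain ⟨z, hz, hzo⟩ := S.exists_z
    refine S.mem_of_conj hz (fun h1 => hp.out.ne_one (by rw [← hzo, h1, orderOf_one])) ?_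
    exact mem_sylow_of_normalizes (hg z (hPM hz))
      ⟨1, by rw [← ((SemiconjBy.conj_mk g z).orderOf_eq g), hzo, pow_one]⟩
  have hKconj : ∀ g k : G, k ∈ K → k ≠ 1 → g * k * g⁻¹ ∈ K → g ∈ M := by
    intro g k hk hk1 hgk
    refine hNM g fun a ha => ?_
    rw [← hCK _ hgk (by simpa only [ne_eq, conj_eq_one_iff] using hk1), mem_centralizer_singleton_iff]
    rw [← hCK k hk hk1, mem_centralizer_singleton_iff] at ha
    calc g * a * g⁻¹ * (g * k * g⁻¹) = g * (a * k) * g⁻¹ := by group
      _ = g * (k * a) * g⁻¹ := by rw [ha]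
      _ = g * k * g⁻¹ * (g * a * g⁻¹) := by group
  -- an element of prime order `q` in `K`
  have hx₀K := hCmem x₀ hx₀ hx₀p
  obtain ⟨q, hq, hqd⟩ := Nat.exists_prime_and_dvd (fun h => hx₀1 (orderOf_eq_one_iff.1 h))
  haveI : Fact q.Prime := ⟨hq⟩
  set x := x₀ ^ (orderOf x₀ / q) with hx
  have hxo : orderOf x = q := orderOf_pow_orderOf_div (orderOf_pos x₀).ne' hqd
  have hxK : x ∈ K := K.pow_mem hx₀K _
  have hxT : x ∈ T := (mem_inf.1 hxK).1
  have hx1 : x ≠ 1 := fun h => hq.ne_one (by rw [← hxo, h, orderOf_one])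
  have hqp : q ≠ p := by
    intro h
    have := hTord x hxT
    rw [hxo, h, Nat.coprime_self] at this
    exact hp.out.ne_one this
  -- the Sylow `q`-subgroup of `T`
  obtain ⟨R'⟩ : Nonempty (Sylow q ↥T) := inferInstance
  set R := (R' : Subgroup ↥T).map T.subtype with hR
  have hRT : R ≤ T := map_subtype_le _
  have hxR : x ∈ R := by
    haveI : (R' : Subgroup ↥T).Normal := ⟨fun a ha g => by
      rw [hTab.is_comm.comm g a, mul_inv_cancel_right]; exact ha⟩
    have hle := R'.3 (R'.2.to_sup_of_normal_left (H := (R' : Subgroup ↥T))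
      (K := zpowers (⟨x, hxT⟩ : ↥T)) (IsPGroup.of_card (n := 1)
        (by rw [Nat.card_zpowers, Subgroup.orderOf_mk, hxo, pow_one]))) le_sup_left
    exact ⟨⟨x, hxT⟩, hle ▸ mem_sup_right (mem_zpowers _), rfl⟩
  obtain ⟨Q₁, hQ₁⟩ := (IsPGroup.of_card (n := 1) (by rw [Nat.card_zpowers, hxo, pow_one]) :
    IsPGroup q (zpowers x)).exists_le_sylow
  have hQ₁M : (Q₁ : Subgroup G) ≤ M := by
    obtain ⟨k, hk⟩ := Q₁.2.exists_card_eq
    have := S.hyp.ab (Q₁ : Subgroup G) (not_dvd_of_coprime (by
      rw [hk]; exact ((Nat.coprime_primes hq hp.out).2 hqp).pow_left k))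
    intro a ha
    rw [← hCK x hxK hx1, mem_centralizer_singleton_iff]
    exact congrArg Subtype.val (this.is_comm.comm ⟨a, ha⟩ ⟨x, hQ₁ (mem_zpowers x)⟩)
  have hRcard : Nat.card R = Nat.card (Q₁ : Subgroup G) := by
    rw [hR, card_map_of_injective T.subtype_injective, R'.card_eq_multiplicity,
      Q₁.card_eq_multiplicity]
    refine Nat.dvd_antisymm (pow_dvd_pow q ?_) (pow_dvd_pow q ?_)
    · exact (Nat.factorization_le_iff_dvd Nat.card_pos.ne' Nat.card_pos.ne').2
        (card_subgroup_dvd_card T) q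
    · have h1 : Nat.card (Q₁ : Subgroup G) ∣ Nat.card T := by
        refine Nat.Coprime.dvd_of_dvd_mul_right ?_ (hTcard ▸ card_dvd_of_le hQ₁M)
        obtain ⟨k, hk⟩ := Q₁.2.exists_card_eq
        rw [hk, hm]
        exact ((Nat.coprime_primes hq hp.out).2 hqp).pow k m
      rw [Q₁.card_eq_multiplicity] at h1
      exact (hq.pow_dvd_iff_le_factorization Nat.card_pos.ne').1 h1
  set RS : Sylow q G := Sylow.ofCard R (hRcard.trans Q₁.card_eq_multiplicity) with hRS
  have hRScoe : (RS : Subgroup G) = R := rfl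
  -- some `p`-element normalizing `R` moves `x`
  obtain ⟨u, huR, hup, hux⟩ : ∃ u ∈ normalizer (R : Set G),
      (∃ k, orderOf u = p ^ k) ∧ u * x ≠ x * u := by
    by_contra hall
    push Not at hall
    haveI hcomm : IsMulCommutative (RS : Subgroup G) := ⟨⟨fun a b => Subtype.ext (hTcomm a
      (hRT a.2) b (hRT b.2))⟩⟩
    have hfixN : ∀ g ∈ normalizer (R : Set G), g ∈ centralizer ({x} : Set G) := by
      intro g hg
      refine mem_of_parts (p := p) (fun a ha hao => mem_centralizer_singleton_iff.2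
        (hall a (zpowers_le.2 hg ha) hao)) fun a ha hao => mem_centralizer_singleton_iff.2 ?_
      have haN := zpowers_le.2 hg ha
      obtain ⟨k, hk⟩ : ∃ k, Nat.card R = q ^ k := ⟨_, hRcard.trans Q₁.card_eq_multiplicity⟩
      have hab := S.hyp.ab (R ⊔ zpowers a) (fun hd => by
        have hnorm : zpowers a ≤ normalizer (R : Set G) := zpowers_le.2 haN
        haveI := CfsgLib.Coprime.normal_subgroupOf_of_le_normalizer
          (sup_le le_normalizer hnorm : R ⊔ zpowers a ≤ normalizer (R : Set G))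
        have h1 := CfsgLib.ClassK.card_sup_dvd_mul (R.subgroupOf (R ⊔ zpowers a))
          ((zpowers a).subgroupOf (R ⊔ zpowers a))
        rw [← Subgroup.subgroupOf_sup le_sup_left le_sup_right, subgroupOf_self, Subgroup.card_top,
          CfsgLib.Coprime.card_subgroupOf le_sup_left, CfsgLib.Coprime.card_subgroupOf le_sup_right,
          Nat.card_zpowers, hk] at h1
        rcases (Nat.Prime.dvd_mul hp.out).1 (hd.trans h1) with h2 | h2
        · exact hqp ((Nat.prime_dvd_prime_iff_eq hp.out hq).1 (hp.out.dvd_of_dvd_pow h2)).symm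
        · exact not_dvd_of_coprime hao h2)
      exact congrArg Subtype.val (hab.is_comm.comm ⟨a, mem_sup_right (mem_zpowers a)⟩
        ⟨x, mem_sup_left hxR⟩)
    -- transfer
    let := (inferInstance : IsMulCommutative (RS : Subgroup G))
    have hkey : ∀ (k : ℕ) (g₀ : G), g₀⁻¹ * x ^ k * g₀ ∈ (RS : Subgroup G) →
        g₀⁻¹ * x ^ k * g₀ = x ^ k := by
      intro k g₀ hg₀
      obtain ⟨n, hn, hn'⟩ := RS.conj_eq_normalizer_conj_of_mem (x ^ k) g₀
        ((RS : Subgroup G).pow_mem (hRScoe ▸ hxR) k) hg₀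
      have hc : Commute n x := mem_centralizer_singleton_iff.1 (hfixN n hn)
      rw [hn', mul_assoc, ← (hc.pow_right k).eq, inv_mul_cancel_left]
    let φ : ↥(RS : Subgroup G) →* ↥(RS : Subgroup G) := MonoidHom.id _
    letI : CommGroup ↥(RS : Subgroup G) :=
      { (inferInstance : Group ↥(RS : Subgroup G)) with mul_comm := hcomm.is_comm.comm }
    have htr := MonoidHom.transfer_eq_pow φ x hkey
    set f := MonoidHom.transfer φ
    have hfx : f x ≠ 1 := by
      rw [htr]
      intro h1
      have h2 : x ^ (RS : Subgroup G).index = 1 := congrArg Subtype.val h1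
      rw [← orderOf_dvd_iff_pow_eq_one, hxo] at h2
      exact RS.not_dvd_index h2
    rcases (inferInstance : IsSimpleGroup G).eq_bot_or_eq_top_of_normal f.ker inferInstance with h1 | h1
    · refine S.nonnormal ⟨fun a ha g => ?_⟩
      have hinj := (MonoidHom.ker_eq_bot_iff f).1 h1
      have : g * a * g⁻¹ = a := hinj (by
        rw [map_mul, map_mul, map_inv, mul_comm (f g), mul_inv_cancel_right])
      rwa [this]
    · exact hfx (h1.ge (mem_top x))
  -- `u` normalizes `T`
  set y := u * x * u⁻¹ with hy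
  have hyR : y ∈ R := (mem_normalizer_iff.1 huR x).1 hxR
  have huP : ∀ g ∈ M, (∃ k, orderOf g = p ^ k) → g * x = x * g := by
    intro g hg hgo
    exact (mem_centralizer_iff.1 (mem_inf.1 hxK).2 g (mem_sylow_of_normalizes hg hgo))
  have hyK : y ∉ K := fun hyK => hux (huP u (hKconj u x hxK hx1 hyK) hup)
  have hyC : y ∉ centralizer ((P : Subgroup G) : Set G) := fun hc =>
    hyK (hCmem y hc (hTord y (hRT hyR)))
  have hCR : centralizer (R : Set G) = T := by
    refine le_antisymm (fun g hg => ?_) fun a ha => mem_centralizer_iff.2 fun b hb =>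
      hTcomm b (hRT hb) a ha
    have hgM : g ∈ M := by
      rw [← hCK x hxK hx1]
      exact mem_centralizer_singleton_iff.2 (mem_centralizer_iff.1 hg x hxR).symm
    obtain ⟨w, hw, τ, hτ, rfl⟩ := hdec g hgM
    suffices hw1 : w = 1 by rw [hw1, one_mul]; exact hτ
    by_contra hw1
    have hwy : Commute y w := by
      have h1 : Commute y (w * τ) := mem_centralizer_iff.1 hg y hyR
      have h2 : Commute y τ := hTcomm y (hRT hyR) τ hτ
      have h3 := h1.mul_right h2.inv_right
      rwa [mul_inv_cancel_right] at h3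
    exact hyC (S.fpf (hTM (hRT hyR)) (hTord y (hRT hyR)) hw hw1 hwy.eq)
  have huT : u ∈ normalizer (T : Set G) := by
    rw [CfsgLib.Coprime.mem_normalizer_iff_map_conj, ← hCR]
    ext a
    rw [CfsgLib.Coprime.mem_map_conj, mem_centralizer_iff, mem_centralizer_iff]
    constructor
    · intro h b hb
      have hb' : u⁻¹ * b * u ∈ R := by
        have := (mem_normalizer_iff.1 (inv_mem huR) b).1 hb
        rwa [inv_inv] at this
      have e := h _ hb'
      calc b * a = u * ((u⁻¹ * b * u) * (u⁻¹ * a * u)) * u⁻¹ := by group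
        _ = u * ((u⁻¹ * a * u) * (u⁻¹ * b * u)) * u⁻¹ := by rw [e]
        _ = a * b := by group
    · intro h b hb
      have e := h _ ((mem_normalizer_iff.1 huR b).1 hb)
      calc b * (u⁻¹ * a * u) = u⁻¹ * ((u * b * u⁻¹) * a) * u := by group
        _ = u⁻¹ * (a * (u * b * u⁻¹)) * u := by rw [e]
        _ = u⁻¹ * a * u * b := by group
  -- a power of `u` of order `p` modulo the stabilizer
  obtain ⟨v, hvT, hvo, hvx, hvp⟩ : ∃ v : G, v ∈ normalizer (T : Set G) ∧
      (∃ k, orderOf v = p ^ k) ∧ v * x ≠ x * v ∧ v ^ p * x = x * v ^ p := by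
    obtain ⟨k, hk⟩ := hup
    have hex : ∃ j, u ^ p ^ j * x = x * u ^ p ^ j := ⟨k, by
      rw [← hk, pow_orderOf_eq_one, one_mul, mul_one]⟩
    classical
    have hj0 : Nat.find hex ≠ 0 := fun h0 => hux (by
      have := Nat.find_spec hex; rwa [h0, pow_zero, pow_one] at this)
    obtain ⟨j, hj⟩ := Nat.exists_eq_succ_of_ne_zero hj0
    refine ⟨u ^ p ^ j, pow_mem huT _, ?_, Nat.find_min hex (by omega), ?_⟩
    · obtain ⟨i, -, hi⟩ := (Nat.dvd_prime_pow hp.out).1 (hk ▸ orderOf_pow_dvd (p ^ j) : _ ∣ p ^ k)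
      exact ⟨i, hi⟩
    · have := Nat.find_spec hex
      rw [hj, pow_succ, pow_mul] at this
      exact this
  have hvi : ∀ i : ℕ, i % p ≠ 0 → v ^ i ∉ M := by
    intro i hi hmem
    obtain ⟨k, hk⟩ := hvo
    have hc : v ^ i * x = x * v ^ i := huP _ hmem (by
      obtain ⟨j, -, hj⟩ := (Nat.dvd_prime_pow hp.out).1 (hk ▸ orderOf_pow_dvd i : _ ∣ p ^ k)
      exact ⟨j, hj⟩)
    refine hvx (mem_centralizer_singleton_iff.1 (mem_of_coprime_pow_mem (S := centralizer {x})
      (a := i) (b := p) ?_ (mem_centralizer_singleton_iff.2 hc) (mem_centralizer_singleton_iff.2 hvp)))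
    exact coprime_of_not_dvd fun hd => hi (Nat.mod_eq_zero_of_dvd hd)
  -- the action of `T` on `⟨z⟩`
  obtain ⟨z, hz, hzo⟩ := S.exists_z
  have hz1 : z ≠ 1 := fun h => hp.out.ne_one (by rw [← hzo, h, orderOf_one])
  set Z := zpowers z with hZ
  have hMZ : M ≤ normalizer (Z : Set G) := by
    intro g hg
    rw [CfsgLib.Coprime.mem_normalizer_iff_map_conj, hZ, MonoidHom.map_zpowers]
    refine eq_of_le_of_card_ge (zpowers_le.2 (S.mem_zpowers_z hz hzo
      ((mem_normalizer_iff.1 hg z).1 hz) ?_)) ?_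
    · rw [MulEquiv.coe_toMonoidHom, ← map_pow, ← hzo, pow_orderOf_eq_one, map_one]
    · rw [Nat.card_zpowers, Nat.card_zpowers, MulEquiv.coe_toMonoidHom, MulEquiv.orderOf_eq]
  haveI : IsCyclic Z := by rw [hZ]; infer_instance
  have hZc : Nat.card Z = p := by rw [hZ, Nat.card_zpowers, hzo]
  let e₁ : MulAut ↥Z ≃* (ZMod (Nat.card ↥Z))ˣ := IsCyclic.mulAutMulEquiv ↥Z
  haveI : Fact (Nat.card ↥Z).Prime := ⟨hZc ▸ hp.out⟩
  haveI hAut : IsCyclic (MulAut ↥Z) := e₁.isCyclic.2 inferInstance
  have hAutcard : Nat.card (MulAut ↥Z) = p - 1 := by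
    rw [IsCyclic.card_mulAut, hZc, Nat.totient_prime hp.out]
  let f : ↥T →* MulAut ↥Z := Z.normalizerMonoidHom.comp (Subgroup.inclusion (hTM.trans hMZ))
  have hf : ∀ τ : ↥T, f τ = 1 ↔ (τ : G) ∈ K := by
    intro τ
    constructor
    · intro h1
      have h2 := congrArg (fun F : MulAut ↥Z => ((F ⟨z, mem_zpowers z⟩ : ↥Z) : G)) h1
      refine mem_inf.2 ⟨τ.2, S.fpf (hTM τ.2) (hTord τ τ.2) hz hz1 (mul_inv_eq_iff_eq_mul.1 ?_)⟩
      exact h2
    · intro hK
      refine MulEquiv.ext fun a => Subtype.ext ?_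
      show (τ : G) * (a : G) * (τ : G)⁻¹ = a
      rw [← mem_centralizer_iff.1 (mem_inf.1 hK).2 (a : G) (zpowers_le.2 hz a.2),
        mul_inv_cancel_right]
  -- the conjugate of `K` by `v` meets `K` trivially
  have hvinv : ∀ i : ℕ, ∀ τ ∈ T, v ^ i * τ * (v ^ i)⁻¹ ∈ T := fun i τ hτ =>
    (mem_normalizer_iff.1 (pow_mem hvT i) τ).1 hτ
  let cj : ↥T →* ↥T := ((MulAut.conj v).toMonoidHom.comp T.subtype).codRestrict T
    fun τ => by simpa using hvinv 1 τ τ.2
  have hcjK : ∀ k : ↥T, (k : G) ∈ K → f (cj k) = 1 → k = 1 := by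
    intro k hk h1
    by_contra hk1
    have h2 : v * (k : G) * v⁻¹ ∈ K := (hf _).1 h1
    refine hvi 1 (by rw [Nat.one_mod_eq_one.2 hp.out.ne_one]; exact one_ne_zero) ?_
    rw [pow_one]
    exact hKconj v k hk (fun h => hk1 (Subtype.ext h)) h2
  -- counting elements of order `q`
  haveI : Fintype ↥T := Fintype.ofFinite _
  haveI : Fintype (MulAut ↥Z) := Fintype.ofFinite _
  classical
  set B : Finset ↥T := Finset.univ.filter fun τ => τ ^ q = 1 with hB
  have hroots : (Finset.univ.filter fun F : MulAut ↥Z => F ^ q = 1).card ≤ q :=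
    IsCyclic.card_pow_eq_one_le hq.pos
  have hBK : (B.filter fun τ => f τ = 1).card ≤ q := by
    refine le_trans (Finset.card_le_card_of_injOn (fun τ => f (cj τ)) ?_ ?_) hroots
    · intro τ hτ
      simp only [hB, Finset.coe_filter, Finset.mem_filter, Finset.mem_univ, true_and,
        Set.mem_ofPred_eq] at hτ ⊢
      rw [← map_pow, ← map_pow, hτ.1, map_one, map_one]
    · intro a ha b hb hab
      simp only [hB, Finset.coe_filter, Finset.mem_filter, Finset.mem_univ, true_and,
        Set.mem_ofPred_eq] at ha hb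
      have h1 := hcjK (a * b⁻¹) (K.mul_mem ((hf a).1 ha.2) (K.inv_mem ((hf b).1 hb.2))) (by
        simp only at hab
        rw [map_mul, map_mul, map_inv, map_inv, hab, mul_inv_cancel])
      exact mul_inv_eq_one.1 h1
  have hBle : B.card ≤ q * q := by
    refine le_trans (Finset.card_le_mul_card_image (f := fun τ => f τ) B q fun F hF => ?_)
      (Nat.mul_le_mul le_rfl ?_)
    · obtain ⟨τ₁, hτ₁, rfl⟩ := Finset.mem_image.1 hF
      refine le_trans (Finset.card_le_card_of_injOn (fun τ => τ * τ₁⁻¹) ?_ ?_) hBK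
      · intro τ hτ
        simp only [hB, Finset.coe_filter, Finset.mem_filter, Finset.mem_univ, true_and,
          Set.mem_ofPred_eq] at hτ hτ₁ ⊢
        have hcm : Commute τ τ₁⁻¹ := hTab.is_comm.comm _ _
        refine ⟨by rw [hcm.mul_pow, inv_pow, hτ.1, hτ₁, inv_one, mul_one], ?_⟩
        rw [map_mul, map_inv, hτ.2, mul_inv_cancel]
      · intro a _ b _ hab
        exact mul_right_cancel hab
    · refine le_trans (Finset.card_le_card ?_) hroots
      intro F hF
      obtain ⟨τ, hτ, rfl⟩ := Finset.mem_image.1 hF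
      simp only [hB, Finset.mem_filter, Finset.mem_univ, true_and] at hτ ⊢
      rw [← map_pow, hτ, map_one]
  have hmemB : ∀ i j : ℕ, (⟨v ^ i * x ^ j * (v ^ i)⁻¹, hvinv i _ (T.pow_mem hxT j)⟩ : ↥T) ∈ B := by
    intro i j
    simp only [hB, Finset.mem_filter, Finset.mem_univ, true_and]
    refine Subtype.ext ?_
    show (v ^ i * x ^ j * (v ^ i)⁻¹) ^ q = 1
    rw [conj_pow, ← pow_mul, mul_comm, pow_mul, ← hxo, pow_orderOf_eq_one, one_pow]
    group
  have hpq : p * (q - 1) + 1 ≤ B.card := by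
    let s : Finset ↥T := (Finset.range p ×ˢ Finset.Ico 1 q).image
      fun ij => ⟨v ^ ij.1 * x ^ ij.2 * (v ^ ij.1)⁻¹, hvinv ij.1 _ (T.pow_mem hxT ij.2)⟩
    have hs : s.card = p * (q - 1) := by
      rw [Finset.card_image_of_injOn, Finset.card_product, Finset.card_range, Nat.card_Ico]
      rintro ⟨i, j⟩ hij ⟨i', j'⟩ hij' h
      simp only [Finset.coe_product, Set.mem_prod, Finset.coe_range, Set.mem_Iio, Finset.coe_Ico,
        Set.mem_Ico] at hij hij'
      wlog hle : i ≤ i' generalizing i j i' j'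
      · exact (this i' j' i j h.symm hij' hij (by omega)).symm
      have h' : v ^ i * x ^ j * (v ^ i)⁻¹ = v ^ i' * x ^ j' * (v ^ i')⁻¹ := congrArg Subtype.val h
      obtain ⟨d, rfl⟩ := Nat.exists_eq_add_of_le hle
      rw [pow_add] at h'
      have h'' : x ^ j = v ^ d * x ^ j' * (v ^ d)⁻¹ := by
        have := congrArg (fun w => (v ^ i)⁻¹ * w * v ^ i) h'
        simpa [mul_assoc] using this
      rcases Nat.eq_zero_or_pos d with rfl | hd
      · rw [pow_zero, one_mul, inv_one, mul_one] at h''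
        have := pow_injOn_Iio_orderOf (show j ∈ Set.Iio (orderOf x) by rw [hxo]; exact hij.2.2)
          (show j' ∈ Set.Iio (orderOf x) by rw [hxo]; exact hij'.2.2) h''
        simp [this]
      · exfalso
        refine hvi d (by rw [Nat.mod_eq_of_lt (by omega)]; omega) (hKconj _ (x ^ j') (K.pow_mem hxK j')
          ?_ (h''.symm ▸ K.pow_mem hxK j))
        intro h1
        rw [← orderOf_dvd_iff_pow_eq_one, hxo] at h1
        have := Nat.le_of_dvd (by omega) h1
        omega
    have h1 : (1 : ↥T) ∉ s := by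
      intro h
      obtain ⟨⟨i, j⟩, hij, h'⟩ := Finset.mem_image.1 h
      simp only [Finset.mem_product, Finset.mem_range, Finset.mem_Ico] at hij
      have h2 : v ^ i * x ^ j * (v ^ i)⁻¹ = 1 := congrArg Subtype.val h'
      rw [conj_eq_one_iff, ← orderOf_dvd_iff_pow_eq_one, hxo] at h2
      have := Nat.le_of_dvd (by omega) h2
      omega
    rw [← hs, ← Finset.card_insert_of_notMem h1]
    refine Finset.card_le_card (Finset.insert_subset ?_ ?_)
    · simp [hB]
    · intro w hw
      obtain ⟨⟨i, j⟩, -, rfl⟩ := Finset.mem_image.1 hw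
      exact hmemB i j
  have hq1 : q ∣ p - 1 := by
    rw [← hAutcard]
    set yT : ↥T := ⟨y, hRT hyR⟩ with hyT
    have hyo : orderOf yT = q := by
      rw [hyT, Subgroup.orderOf_mk, hy, ← ((SemiconjBy.conj_mk u x).orderOf_eq u), hxo]
    have hne : f yT ≠ 1 := fun h1 => hyK ((hf yT).1 h1)
    have hfo : orderOf (f yT) = q := by
      rcases (Nat.dvd_prime hq).1 (hyo ▸ orderOf_map_dvd f yT : orderOf (f yT) ∣ q) with h | h
      · exact absurd (orderOf_eq_one_iff.1 h) hne
      · exact h
    rw [← hfo]; exact orderOf_dvd_natCard _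
  obtain ⟨hq2, hp3⟩ : q = 2 ∧ p = 3 := by
    have h2 := hq.two_le
    have h1 : p * (q - 1) + 1 ≤ q * q := hpq.trans hBle
    have hlt : q < p := by
      have := Nat.le_of_dvd (by have := hp.out.two_le; omega) hq1
      omega
    obtain ⟨a, ha⟩ : ∃ a, q = a + 2 := ⟨q - 2, by omega⟩
    subst ha
    rw [show a + 2 - 1 = a + 1 by omega] at h1
    have h4 : p ≤ a + 3 := by nlinarith
    have h5 : p = a + 3 := by omega
    rcases Nat.even_or_odd a with ⟨c, hc⟩ | ⟨c, hc⟩
    · have : 2 ∣ a + 2 := ⟨c + 1, by omega⟩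
      have := (Nat.prime_dvd_prime_iff_eq Nat.prime_two hq).1 this
      omega
    · have : 2 ∣ p := ⟨c + 2, by omega⟩
      exact absurd ((Nat.prime_dvd_prime_iff_eq Nat.prime_two hp.out).1 this).symm S.odd
  -- orders
  have hxo2 : orderOf x = 2 := hxo.trans hq2
  have hker : f.ker = K.subgroupOf T := by
    ext τ; rw [MonoidHom.mem_ker, mem_subgroupOf, hf]
  have hKT : K ≤ T := inf_le_left
  have hrange : Nat.card f.range = 2 := by
    have h1 : Nat.card f.range ∣ 2 := by
      have := card_subgroup_dvd_card f.range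
      rwa [hAutcard, hp3] at this
    rcases (Nat.dvd_prime Nat.prime_two).1 h1 with h2 | h2
    · exfalso
      rw [Subgroup.card_eq_one, MonoidHom.range_eq_bot_iff] at h2
      exact hτ₀ (mem_inf.1 ((hf ⟨τ₀, hτ₀T⟩).1 (by rw [h2]; rfl))).2
    · exact h2
  have hKcard : Nat.card K = 2 := by
    refine le_antisymm ?_ ?_
    · rw [← CfsgLib.Coprime.card_subgroupOf hKT, ← hrange]
      refine Nat.card_le_card_of_injective (fun k => ⟨f (cj k), _, rfl⟩) fun a b hab => ?_
      have h1 := hcjK ((a : ↥T) * (b : ↥T)⁻¹) (K.mul_mem a.2 (K.inv_mem b.2)) (by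
        have := congrArg Subtype.val hab
        rw [map_mul, map_mul, map_inv, map_inv]
        simp only at this
        rw [this, mul_inv_cancel])
      exact Subtype.ext (mul_inv_eq_one.1 h1)
    · have := Nat.le_of_dvd Nat.card_pos (hxo2 ▸ K.orderOf_dvd_natCard hxK)
      exact this
  have hT4 : Nat.card T = 4 := by
    rw [Subgroup.card_eq_card_quotient_mul_card_subgroup f.ker,
      Nat.card_congr (QuotientGroup.quotientKerEquivRange f).toEquiv, hrange, hker,
      CfsgLib.Coprime.card_subgroupOf hKT, hKcard]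
  have hMcard : Nat.card M = 4 * Nat.card (P : Subgroup G) := by rw [← hTcard, hT4]
  have hCcard : Nat.card (centralizer ((P : Subgroup G) : Set G)) = 2 * Nat.card (P : Subgroup G) := by
    have hKn : K ≤ normalizer ((P : Subgroup G) : Set G) := hKT.trans hTM
    have hsup : centralizer ((P : Subgroup G) : Set G) = (P : Subgroup G) ⊔ K := by
      refine le_antisymm (fun g hg => ?_) (sup_le S.sylow_le_centralizer inf_le_right)
      obtain ⟨w, hw, τ, hτ, rfl⟩ := hdec g (centralizer_le_normalizer _ hg)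
      exact mul_mem (mem_sup_left hw) (mem_sup_right (mem_inf.2
        ⟨hτ, (Subgroup.mul_mem_cancel_left _ (S.sylow_le_centralizer hw)).1 hg⟩))
    rw [hsup, CfsgLib.Coprime.card_sup_of_inf_eq_bot hKn (CfsgLib.Coprime.inf_eq_bot_of_coprime ?_),
      hKcard, mul_comm]
    rw [hKcard, hm]; exact h2p.pow_right m
  -- involutions
  have hRe : R = T := by
    refine eq_of_le_of_card_ge hRT ?_
    rw [hR, card_map_of_injective T.subtype_injective, hT4]
    have h := R'.card_eq_multiplicity
    rw [hT4] at h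
    rw [h, hq2, show (4 : ℕ) = 2 ^ 2 by norm_num, Nat.Prime.factorization_pow Nat.prime_two,
      Finsupp.single_eq_same]
  have hinvT : ∀ s ∈ T, s ≠ 1 → ∃ i : ℕ, s = v ^ i * x * (v ^ i)⁻¹ := by
    intro s hs hs1
    let e : ℕ → ↥T := fun i => ⟨v ^ i * x * (v ^ i)⁻¹, hvinv i _ hxT⟩
    have hinj : Set.InjOn e (Finset.range 3 : Set ℕ) := by
      intro i hi j hj hij
      simp only [Finset.coe_range, Set.mem_Iio] at hi hj
      wlog hle : i ≤ j generalizing i j
      · exact (this hij.symm hj hi (by omega)).symm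
      obtain ⟨d, rfl⟩ := Nat.exists_eq_add_of_le hle
      have h' : v ^ i * x * (v ^ i)⁻¹ = v ^ (i + d) * x * (v ^ (i + d))⁻¹ := congrArg Subtype.val hij
      rw [pow_add] at h'
      have h'' : x = v ^ d * x * (v ^ d)⁻¹ := by
        have := congrArg (fun w => (v ^ i)⁻¹ * w * v ^ i) h'
        simpa [mul_assoc] using this
      rcases Nat.eq_zero_or_pos d with rfl | hd
      · rfl
      · exact absurd (hKconj _ x hxK hx1 (by rw [← h'']; exact hxK))
          (hvi d (by rw [Nat.mod_eq_of_lt (by omega)]; omega))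
    set W : Finset ↥T := insert 1 ((Finset.range 3).image e)
    have hW : W = Finset.univ := by
      rw [← Finset.card_eq_iff_eq_univ, ← Nat.card_eq_fintype_card, hT4,
        Finset.card_insert_of_notMem, Finset.card_image_of_injOn hinj, Finset.card_range]
      intro h
      obtain ⟨i, -, hi⟩ := Finset.mem_image.1 h
      exact hx1 (conj_eq_one_iff.1 (congrArg Subtype.val hi))
    have := Finset.mem_univ (⟨s, hs⟩ : ↥T)
    rw [← hW, Finset.mem_insert] at this
    rcases this with h | h
    · exact absurd (congrArg Subtype.val h) hs1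
    · obtain ⟨i, -, hi⟩ := Finset.mem_image.1 h
      exact ⟨i, (congrArg Subtype.val hi).symm⟩
  have hcentM : ∀ s : G, orderOf s = 2 → Nat.card (centralizer ({s} : Set G)) = Nat.card M := by
    intro s hs
    haveI : Fact (Nat.Prime 2) := ⟨Nat.prime_two⟩
    obtain ⟨T₁, hT₁⟩ := (IsPGroup.of_card (n := 1) (by rw [Nat.card_zpowers, hs, hq2, pow_one]) :
      IsPGroup q (zpowers s)).exists_le_sylow
    obtain ⟨g, hg⟩ := MulAction.exists_smul_eq G T₁ RS
    have hgs : g * s * g⁻¹ ∈ T := hRT (hRScoe ▸ hg ▸ ⟨s, hT₁ (mem_zpowers s), rfl⟩)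
    have hgs1 : g * s * g⁻¹ ≠ 1 := by
      rw [ne_eq, conj_eq_one_iff]
      intro h; rw [h, orderOf_one] at hs; norm_num at hs
    obtain ⟨i, hi⟩ := hinvT _ hgs hgs1
    have e : s = (g⁻¹ * v ^ i) * x * (g⁻¹ * v ^ i)⁻¹ := by
      calc s = g⁻¹ * (g * s * g⁻¹) * g := by group
        _ = _ := by rw [hi]; group
    rw [e, ← hCK x hxK hx1]
    symm
    refine Nat.card_congr ((MulAut.conj (g⁻¹ * v ^ i)).toEquiv.subtypeEquiv fun a => ?_)
    rw [mem_centralizer_singleton_iff, mem_centralizer_singleton_iff]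
    simp only [MulEquiv.toEquiv_eq_coe, EquivLike.coe_coe, MulAut.conj_apply]
    constructor
    · intro h
      calc (g⁻¹ * v ^ i) * a * (g⁻¹ * v ^ i)⁻¹ * ((g⁻¹ * v ^ i) * x * (g⁻¹ * v ^ i)⁻¹)
          = (g⁻¹ * v ^ i) * (a * x) * (g⁻¹ * v ^ i)⁻¹ := by group
        _ = (g⁻¹ * v ^ i) * (x * a) * (g⁻¹ * v ^ i)⁻¹ := by rw [h]
        _ = _ := by group
    · intro h
      calc a * x = (g⁻¹ * v ^ i)⁻¹ * ((g⁻¹ * v ^ i) * a * (g⁻¹ * v ^ i)⁻¹ *
            ((g⁻¹ * v ^ i) * x * (g⁻¹ * v ^ i)⁻¹)) * (g⁻¹ * v ^ i) := by group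
        _ = x * a := by rw [h]; group
  -- the normalizer of `T`
  have hNT : Nat.card (normalizer (T : Set G)) ∣ 12 := by
    set NT := normalizer (T : Set G)
    let ψ : ↥NT →* MulAut ↥T := T.normalizerMonoidHom
    have hψker : Nat.card ψ.ker = 4 := by
      rw [Subgroup.normalizerMonoidHom_ker]
      have hC : centralizer (T : Set G) = T := by
        nth_rewrite 1 [← hRe]; exact hCR
      rw [hC, CfsgLib.Coprime.card_subgroupOf le_normalizer, hT4]
    let ξ : MulAut ↥T →* Equiv.Perm {a : ↥T // a ≠ 1} := MonoidHom.mk'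
      (fun F => F.toEquiv.subtypeEquiv fun a => by simp) fun F F' => by ext a; rfl
    have hξ : Function.Injective ξ := by
      intro F F' h
      refine MulEquiv.ext fun a => ?_
      by_cases ha : a = 1
      · rw [ha, map_one, map_one]
      · exact congrArg (fun σ : Equiv.Perm {a : ↥T // a ≠ 1} => (σ ⟨a, ha⟩).1) h
    have h6 : Nat.card (MulAut ↥T) ∣ 6 := by
      have := Subgroup.card_dvd_of_injective ξ hξ
      have h3 : Nat.card {a : ↥T // a ≠ 1} = 3 := by
        have hc : Nat.card {a : ↥T // a ≠ 1} = ({1}ᶜ : Set ↥T).ncard := Nat.card_coe_set_eq _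
        rw [hc, Set.ncard_compl, Set.ncard_singleton, hT4]
      rw [Nat.card_perm, h3] at this
      exact this
    have hsplit : Nat.card ↥NT = Nat.card ψ.range * 4 := by
      rw [← hψker, Subgroup.card_eq_card_quotient_mul_card_subgroup ψ.ker,
        Nat.card_congr (QuotientGroup.quotientKerEquivRange ψ).toEquiv]
    have hr6 : Nat.card ψ.range ∣ 6 := (card_subgroup_dvd_card _).trans h6
    have hodd : ¬ 2 ∣ Nat.card ψ.range := by
      intro hd
      have h8 : 2 ^ 3 ∣ Nat.card G := by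
        refine dvd_trans ?_ (card_subgroup_dvd_card NT)
        rw [hsplit]
        obtain ⟨c, hc⟩ := hd
        exact ⟨c, by rw [hc]; ring⟩
      have hcard4 : Nat.card (RS : Subgroup G) = 4 := by rw [hRScoe, hRe, hT4]
      have := RS.card_eq_multiplicity
      rw [hcard4, hq2] at this
      have h3 := (Nat.prime_two.pow_dvd_iff_le_factorization Nat.card_pos.ne').1 h8
      have h4 : (2 : ℕ) ^ 3 ≤ 2 ^ (Nat.card G).factorization 2 := Nat.pow_le_pow_right (by norm_num) h3
      omega
    rw [hsplit, show (12 : ℕ) = 3 * 4 by norm_num]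
    refine mul_dvd_mul_right ?_ 4
    exact ((Nat.prime_two.coprime_iff_not_dvd).2 hodd).symm.dvd_of_dvd_mul_left hr6
  -- the hypotheses of S4018
  have hTI : Cfsg.IsTISubset (centralizer ((P : Subgroup G) : Set G) : Set G) := by
    intro g hg c hc hgc
    by_contra hc1
    apply hg
    have hgM : g ∈ M := by
      by_cases hcp : (orderOf c).Coprime p
      · exact hKconj g c (hCmem c hc hcp) hc1 (hCmem _ hgc
          (by rwa [← ((SemiconjBy.conj_mk g c).orderOf_eq g)]))
      · have hd : p ∣ orderOf c := by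
          by_contra hd; exact hcp (coprime_of_not_dvd hd)
        set c' := c ^ (orderOf c / p) with hc'
        have hc'o : orderOf c' = p := orderOf_pow_orderOf_div (orderOf_pos c).ne' hd
        have hmemP : ∀ d : G, d ∈ centralizer ((P : Subgroup G) : Set G) → orderOf d = p →
            d ∈ (P : Subgroup G) := fun d hd hdo =>
          mem_sylow_of_normalizes (centralizer_le_normalizer _ hd) ⟨1, by rw [hdo, pow_one]⟩
        refine S.mem_of_conj (hmemP c' (pow_mem hc _) hc'o)
          (fun h1 => hp.out.ne_one (by rw [← hc'o, h1, orderOf_one])) ?_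
        refine hmemP _ ?_ (by rw [← ((SemiconjBy.conj_mk g c').orderOf_eq g)]; exact hc'o)
        rw [hc', ← conj_pow]
        exact pow_mem hgc _
    rw [CfsgLib.Coprime.mem_normalizer_iff_map_conj]
    refine eq_of_le_of_card_ge ?_ (le_of_eq (CfsgLib.Coprime.card_map_conj g _).symm)
    rintro _ ⟨a, ha, rfl⟩
    rw [SetLike.mem_coe, mem_centralizer_iff] at ha
    rw [mem_centralizer_iff]
    intro w hw
    have hw' : g⁻¹ * w * g ∈ (P : Subgroup G) := by
      have := (mem_normalizer_iff.1 (inv_mem hgM) w).1 hw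
      rwa [inv_inv] at this
    have e := ha _ hw'
    simp only [MulEquiv.coe_toMonoidHom, MulAut.conj_apply]
    calc w * (g * a * g⁻¹) = g * ((g⁻¹ * w * g) * a) * g⁻¹ := by group
      _ = g * (a * (g⁻¹ * w * g)) * g⁻¹ := by rw [e]
      _ = g * a * g⁻¹ * w := by group
  have h3P : 3 ∣ Nat.card (P : Subgroup G) := hp3 ▸ S.dvd_card
  have heven : ∀ H : Subgroup G, H ≠ ⊤ → 2 ∣ Nat.card H →
      Nat.card H ∣ 4 * Nat.card (P : Subgroup G) := by
    intro H hH h2H
    rw [← hMcard]
    obtain ⟨⟨s, hsH⟩, hso⟩ := exists_prime_orderOf_dvd_card' 2 h2H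
    rw [Subgroup.orderOf_mk] at hso
    have habel : IsMulCommutative H → Nat.card H ∣ Nat.card M := fun h => by
      rw [← hcentM s hso]
      exact card_dvd_of_le fun a ha => mem_centralizer_singleton_iff.2
        (congrArg Subtype.val (h.is_comm.comm ⟨a, ha⟩ ⟨s, hsH⟩))
    by_cases hpH : p ∣ Nat.card H
    swap
    · exact habel (S.hyp.ab H hpH)
    rcases S.proper H hH with hc | hc
    · obtain ⟨L, hL, hLc, hLq⟩ := CfsgLib.Transfer.hasNormalPComplement_iff_exists.1 hc
      have hsL : (⟨s, hsH⟩ : ↥H) ∈ L := by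
        rw [← QuotientGroup.eq_one_iff, ← orderOf_eq_one_iff]
        obtain ⟨k, hk⟩ := hLq (QuotientGroup.mk' L ⟨s, hsH⟩)
        refine Nat.eq_one_of_dvd_coprimes (h2p.pow_right k) ?_ (orderOf_dvd_of_pow_eq_one hk)
        have := orderOf_map_dvd (QuotientGroup.mk' L) (⟨s, hsH⟩ : ↥H)
        rwa [Subgroup.orderOf_mk, hso] at this
      haveI : Fact (Nat.Prime 2) := ⟨Nat.prime_two⟩
      obtain ⟨L2⟩ : Nonempty (Sylow 2 ↥L) := inferInstance
      have hLab := (S.hyp.subgroup H).ab L (not_dvd_of_coprime hLc)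
      haveI hL2n : (L2 : Subgroup ↥L).Normal := ⟨fun a ha g => by
        rw [hLab.is_comm.comm g a, mul_inv_cancel_right]; exact ha⟩
      haveI := L2.characteristic_of_normal hL2n
      haveI hDn : ((L2 : Subgroup ↥L).map L.subtype).Normal := ConjAct.normal_of_characteristic_of_normal
      set D := ((L2 : Subgroup ↥L).map L.subtype).map H.subtype with hD
      have hsD : s ∈ D := by
        have hle := L2.3 (L2.2.to_sup_of_normal_left (H := (L2 : Subgroup ↥L))
          (K := zpowers (⟨⟨s, hsH⟩, hsL⟩ : ↥L)) (IsPGroup.of_card (n := 1)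
            (by rw [Nat.card_zpowers, Subgroup.orderOf_mk, Subgroup.orderOf_mk, hso, pow_one])))
            le_sup_left
        exact ⟨⟨s, hsH⟩, ⟨⟨⟨s, hsH⟩, hsL⟩, hle ▸ mem_sup_right (mem_zpowers _), rfl⟩, rfl⟩
      have hD2 : IsPGroup q D := by
        rw [hq2]; exact (L2.2.map _).map _
      have hHD : H ≤ normalizer (D : Set G) := by
        intro a ha
        rw [CfsgLib.Coprime.mem_normalizer_iff_map_conj]
        refine eq_of_le_of_card_ge ?_ (le_of_eq (CfsgLib.Coprime.card_map_conj a _).symm)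
        rintro _ ⟨_, ⟨b, hb, rfl⟩, rfl⟩
        exact ⟨⟨a, ha⟩ * b * ⟨a, ha⟩⁻¹, hDn.conj_mem b hb _, rfl⟩
      obtain ⟨T₁, hT₁⟩ := hD2.exists_le_sylow
      obtain ⟨g, hg⟩ := MulAction.exists_smul_eq G T₁ RS
      have hDT : D.map (MulAut.conj g).toMonoidHom ≤ T := by
        rintro _ ⟨d, hd, rfl⟩
        exact hRT (hRScoe ▸ hg ▸ ⟨d, hT₁ hd, rfl⟩)
      have hDd : Nat.card D ∣ 2 ^ 2 := by
        rw [show (2 : ℕ) ^ 2 = Nat.card T by rw [hT4]; norm_num, ← CfsgLib.Coprime.card_map_conj g D]
        exact card_dvd_of_le hDT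
      obtain ⟨j, hj, hDj⟩ := (Nat.dvd_prime_pow Nat.prime_two).1 hDd
      interval_cases j
      · exfalso
        have := D.orderOf_dvd_natCard hsD
        rw [hso, hDj] at this
        norm_num at this
      · rw [← hcentM s hso]
        refine card_dvd_of_le fun a ha => mem_centralizer_singleton_iff.2 ?_
        have hDe : zpowers s = D := eq_of_le_of_card_ge (zpowers_le.2 hsD)
          (by rw [hDj, Nat.card_zpowers, hso]; norm_num)
        have h1 : a * s * a⁻¹ ∈ D := (mem_normalizer_iff.1 (hHD ha) s).1 hsD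
        rw [← hDe] at h1
        obtain ⟨i, hi, hie⟩ := Finset.mem_image.1
          ((isOfFinOrder_of_finite s).mem_zpowers_iff_mem_range_orderOf.1 h1)
        rw [Finset.mem_range, hso] at hi
        interval_cases i
        · exfalso
          simp only [pow_zero] at hie
          have := conj_eq_one_iff.1 hie.symm
          rw [this, orderOf_one] at hso; norm_num at hso
        · simp only [pow_one] at hie
          exact mul_inv_eq_iff_eq_mul.1 hie.symm
      · have hDTe : D.map (MulAut.conj g).toMonoidHom = T := eq_of_le_of_card_ge hDT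
          (by rw [CfsgLib.Coprime.card_map_conj, hDj, hT4]; norm_num)
        have hle : H.map (MulAut.conj g).toMonoidHom ≤ normalizer (T : Set G) := by
          rw [← hDTe]
          exact le_trans (Subgroup.map_mono hHD) (le_normalizer_map _)
        rw [← CfsgLib.Coprime.card_map_conj g H]
        refine (card_dvd_of_le hle).trans (hNT.trans ?_)
        rw [hMcard]
        exact (show (12 : ℕ) = 4 * 3 by norm_num) ▸ mul_dvd_mul_left 4 h3P
    · obtain ⟨T₂⟩ : Nonempty (Sylow p ↥H) := inferInstance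
      have hn := hc T₂
      obtain ⟨⟨w, hw⟩, hwo⟩ := exists_prime_orderOf_dvd_card' (G := (T₂ : Subgroup ↥H)) p
        (T₂.dvd_card_of_dvd_card hpH)
      rw [Subgroup.orderOf_mk] at hwo
      obtain ⟨T₁, hT₁⟩ := (T₂.2.map H.subtype).exists_le_sylow
      obtain ⟨g, hg⟩ := MulAction.exists_smul_eq G T₁ P
      have hmemP : ∀ a ∈ (T₂ : Subgroup ↥H), g * (a : G) * g⁻¹ ∈ (P : Subgroup G) := fun a ha =>
        hg ▸ ⟨(a : G), hT₁ ⟨a, ha, rfl⟩, rfl⟩
      rw [← CfsgLib.Coprime.card_map_conj g H]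
      refine card_dvd_of_le ?_
      rintro _ ⟨a, ha, rfl⟩
      refine S.mem_of_conj (hmemP w hw) ?_ ?_
      · rw [ne_eq, conj_eq_one_iff]
        intro h1
        have h2 : w = 1 := Subtype.ext h1
        rw [h2, orderOf_one] at hwo
        exact hp.out.ne_one hwo.symm
      · have := hmemP (⟨a, ha⟩ * w * ⟨a, ha⟩⁻¹) (hn.conj_mem w hw _)
        simp only [MulEquiv.coe_toMonoidHom, MulAut.conj_apply]
        convert this using 1
        simp [mul_assoc]
  subst hp3
  exact Cfsg.Agent.S4018.result P ⟨⟨fun a b => Subtype.ext (S.commP a.2 b.2)⟩⟩ hMcard hCcard hTI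
    heven S.simple

end Setting

/-- The theorem for every Sylow subgroup, by induction on the order. -/
theorem concl : ∀ (n : ℕ) (G : Type u) [Group G] [Finite G], Nat.card G = n → Hyp p G → Concl p G := by
  intro n
  induction n using Nat.strong_induction_on with
  | _ n ih =>
  intro G _ _ hn hyp
  by_contra hcon
  simp only [Concl, not_or, not_forall] at hcon
  obtain ⟨hno, P, hPn⟩ := hcon
  have hcyc := hyp.cyc _ P.2
  have hodd : p ≠ 2 := by
    rintro rfl
    refine hno (CfsgLib.Transfer.hasNormalPComplement_of_normalizer_le_centralizer P ?_)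
    have h2 : 2 ∣ Nat.card G := by
      by_contra h
      apply hPn
      obtain ⟨k, hk⟩ := P.2.exists_card_eq
      rcases Nat.eq_zero_or_pos k with rfl | hpos
      · rw [Subgroup.eq_bot_of_card_eq (P : Subgroup G) (by simpa using hk)]; infer_instance
      · exact absurd ((hk ▸ dvd_pow_self 2 hpos.ne').trans (card_subgroup_dvd_card _)) h
    exact hcyc.normalizer_le_centralizer ((Nat.minFac_eq_two_iff _).2 h2)
  have hnc : ¬ normalizer ((P : Subgroup G) : Set G) ≤ centralizer ((P : Subgroup G) : Set G) :=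
    fun h => hno (CfsgLib.Transfer.hasNormalPComplement_of_normalizer_le_centralizer P h)
  have hmoved := exists_moved_of_not_central hcyc hnc
  have hcore : Cfsg.pPrimeCore p G = ⊥ := by
    by_contra hO
    set N := Cfsg.pPrimeCore p G with hN
    haveI : N.Normal := Cfsg.pPrimeCore_normal p G
    have hNc : (Nat.card N).Coprime p := CfsgLib.ClassK.coprime_card_pPrimeCore
    have hlt : Nat.card (G ⧸ N) < n := by
      rw [← hn, Subgroup.card_eq_card_quotient_mul_card_subgroup N]
      exact lt_mul_of_one_lt_right Nat.card_pos ((one_lt_card_iff_ne_bot _).2 hO)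
    rcases ih _ hlt (G ⧸ N) rfl (hyp.quotient N hNc) with hc | hc
    · exact hno (CfsgLib.Complement.hasNormalPComplement_of_quotient N hNc hc)
    -- `N P` is normal and `P` centralizes `N`
    obtain ⟨h, hh, hhp, hhC⟩ := hmoved
    have hNab := hyp.ab N (not_dvd_of_coprime hNc)
    have hNh : ∀ a ∈ N, a * h = h * a := by
      have hnorm : zpowers h ≤ normalizer (N : Set G) := by rw [normalizer_eq_top N]; exact le_top
      have hab := hyp.ab (N ⊔ zpowers h) (fun hd => by
        rcases (Nat.Prime.dvd_mul hp.out).1 (hd.trans (CfsgLib.ClassK.card_sup_dvd_mul N _)) with h1 | h1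
        · exact not_dvd_of_coprime hNc h1
        · rw [Nat.card_zpowers] at h1; exact not_dvd_of_coprime hhp h1)
      intro a ha
      exact congrArg Subtype.val (hab.is_comm.comm ⟨a, mem_sup_left ha⟩
        ⟨h, mem_sup_right (mem_zpowers h)⟩)
    set C := centralizer (N : Set G) with hC
    haveI : C.Normal := inferInstance
    have hhN : h ∈ C := mem_centralizer_iff.2 hNh
    have hPC : (P : Subgroup G) ≤ C := by
      let := hcyc.commGroup
      let ψ : ↥(P : Subgroup G) →* ↥(P : Subgroup G) := MonoidHom.mk'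
        (fun w => ⟨h * (w : G) * h⁻¹, (mem_normalizer_iff.1 hh w).1 w.2⟩ * w⁻¹) fun a b => by
          have e : (⟨h * ((a * b : ↥(P : Subgroup G)) : G) * h⁻¹,
              (mem_normalizer_iff.1 hh _).1 (a * b).2⟩ : ↥(P : Subgroup G)) =
              ⟨h * (a : G) * h⁻¹, (mem_normalizer_iff.1 hh a).1 a.2⟩ *
              ⟨h * (b : G) * h⁻¹, (mem_normalizer_iff.1 hh b).1 b.2⟩ :=
            Subtype.ext (by simp [mul_assoc])
          rw [e, mul_inv]
          exact mul_mul_mul_comm _ _ _ _
      have hψ : Function.Injective ψ := (injective_iff_map_eq_one ψ).2 fun w hw => by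
        by_contra hw1
        refine hhC (CfsgLib.Invol.mem_centralizer_of_cyclic P.2 hcyc hh hhp w.2
          (fun h1 => hw1 (Subtype.ext h1)) (mul_inv_eq_iff_eq_mul.1 ?_))
        have := congrArg Subtype.val (mul_inv_eq_one.1 (show _ * w⁻¹ = 1 from hw))
        exact this
      intro a ha
      obtain ⟨w, hw⟩ := (Finite.injective_iff_surjective.1 hψ) ⟨a, ha⟩
      have e : a = h * ((w : G) * h⁻¹ * (w : G)⁻¹) := by
        have e0 : (ψ w : G) = a := congrArg Subtype.val hw
        rw [← e0]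
        show h * (w : G) * h⁻¹ * (w : G)⁻¹ = _
        group
      rw [e]
      exact mul_mem hhN (‹C.Normal›.conj_mem _ (inv_mem hhN) _)
    have hQn := hc (P.mapSurjective (QuotientGroup.mk'_surjective N))
    refine hPn ⟨fun a ha g => ?_⟩
    have h1 : QuotientGroup.mk' N (g * a * g⁻¹) ∈ (P : Subgroup G).map (QuotientGroup.mk' N) := by
      rw [map_mul, map_mul, map_inv]
      exact hQn.conj_mem _ (mem_map_of_mem _ ha) _
    obtain ⟨b, hb, hbe⟩ := h1
    have hcN : b⁻¹ * (g * a * g⁻¹) ∈ N := QuotientGroup.eq.1 hbe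
    -- a `p`-element `b c` with `c ∈ N` commuting with `b`
    obtain ⟨k, hk⟩ := P.2 ⟨a, ha⟩
    obtain ⟨l, hl⟩ := P.2 ⟨b, hb⟩
    have ha' : a ^ p ^ k = 1 := congrArg Subtype.val hk
    have hb' : b ^ p ^ l = 1 := congrArg Subtype.val hl
    set c := b⁻¹ * (g * a * g⁻¹) with hcdef
    have hbc : Commute b c := (mem_centralizer_iff.1 (hPC hb) c hcN).symm
    have hga : (g * a * g⁻¹) ^ p ^ (k + l) = 1 := by
      rw [conj_pow, pow_add, pow_mul, ha', one_pow, mul_one, mul_inv_cancel]
    have e : b * c = g * a * g⁻¹ := by rw [hcdef, mul_inv_cancel_left]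
    rw [← e, hbc.mul_pow, show b ^ p ^ (k + l) = 1 by rw [add_comm, pow_add, pow_mul, hb', one_pow],
      one_mul] at hga
    have hc1 : c = 1 := orderOf_eq_one_iff.1 (Nat.eq_one_of_dvd_coprimes (hNc.pow_right (k + l))
      (N.orderOf_dvd_natCard hcN) (orderOf_dvd_of_pow_eq_one hga))
    rw [← e, hc1, mul_one]
    exact hb
  have S : Setting p P :=
    ⟨hyp, hodd, hcore, fun H hH => ih _ (hn ▸ lt_of_le_of_ne (card_le_card_group H) fun h =>
      hH (eq_top_of_card_eq _ h)) H rfl (hyp.subgroup H), hmoved, hPn, hno⟩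
  by_cases hK : ∀ x ∈ centralizer ((P : Subgroup G) : Set G), (orderOf x).Coprime p → x = 1
  · exact S.false_of_self_centralizing hK
  · push Not at hK
    obtain ⟨x, hx, hxp, hx1⟩ := hK
    exact S.false_of_centralized hx hxp hx1

/-- Let G be a finite group and p a prime such that a Sylow p-subgroup P of G is cyclic and every subgroup of G of order prime to p is abelian. Then G has a normal p-complement or P is normal in G. -/
theorem result {G : Type*} [Group G] [Finite G] {p : ℕ}
    [Fact p.Prime] (P : Sylow p G) (hcyc : IsCyclic P)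
    (hab : ∀ H : Subgroup G, ¬ p ∣ Nat.card H → IsMulCommutative H) :
    Cfsg.HasNormalPComplement p G ∨ (P : Subgroup G).Normal :=
  (concl _ G rfl ⟨fun _ hD => CfsgLib.Invol.isCyclic_pGroup hcyc hD, hab⟩).imp id fun h => h P

end Cfsg.Agent.S4016
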