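import Cfsg.Statements.S4017
import Cfsg.Agent.Lib.StructC.MixedCount

set_option autoImplicit false
open Cfsg

namespace Cfsg.Agent.S4017

/-- Let G be a finite group and let p and q be distinct primes dividing the order of G, with p odd. Suppose that p divides the order of every proper subgroup of G that is neither a q-group nor of order prime to q. Let q^a be the q-part of the order of G. If p > q^a − 1, or if p = q^a − 1 and the Sylow p-subgroups of G are abelian, then p and q are the only primes dividing the order of G. -/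
theorem result {G : Type*} [Group G] [Finite G]
    {p q : ℕ} (hp : p.Prime) (hq : q.Prime) (hpq : p ≠ q) (hp2 : p ≠ 2)
    (hpG : p ∣ Nat.card G) (hqG : q ∣ Nat.card G)
    (hmix : ∀ H : Subgroup G, H ≠ ⊤ → ¬ IsPGroup q H → q ∣ Nat.card H → p ∣ Nat.card H)
    (hlarge : q ^ (Nat.card G).factorization q - 1 < p ∨
      (p = q ^ (Nat.card G).factorization q - 1 ∧ ∀ P : Sylow p G, IsMulCommutative P)) :
    ∀ r : ℕ, r.Prime → r ∣ Nat.card G → r = p ∨ r = q := by
  haveI : Fact p.Prime := ⟨hp⟩
  haveI : Fact q.Prime := ⟨hq⟩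
  by_cases hc : Cfsg.HasNormalPComplement q G
  · exact CfsgLib.StructC.Mixed.primes_of_complement hpq hmix hpG hqG hc
  -- some `p`-element moves a `q`-subgroup
  have hex : ∃ (i j : ℕ), j < i ∧ i ≤ (Nat.card G).factorization q ∧ p ≤ q ^ (i - j) - 1 := by
    by_contra hcon
    refine hc (CfsgLib.Transfer.hasNormalPComplement_of_surjective (⊤ : Subgroup G).subtype
      (fun g => ⟨⟨g, Subgroup.mem_top g⟩, rfl⟩)
      (CfsgLib.StructC.Mixed.complement_of_fixed hpq hmix hpG ⊤ ?_))
    intro H _ hH x _ hxp hxn h hh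
    by_contra hne
    obtain ⟨i, j, -, -, h1, h2, h3⟩ :=
      CfsgLib.StructC.Mixed.moved_bound hpq hH hxn hxp hh hne
    exact hcon ⟨i, j, h1, h2, h3⟩
  obtain ⟨i, j, hji, hia, hle⟩ := hex
  have hmono : q ^ (i - j) ≤ q ^ (Nat.card G).factorization q :=
    Nat.pow_le_pow_right hq.pos (by omega)
  rcases hlarge with h | ⟨heq, hab⟩
  · omega
  have hq2 : q = 2 := by
    rcases hq.eq_two_or_odd' with h | h
    · exact h
    · exfalso
      obtain ⟨c, hc'⟩ := h.pow (n := (Nat.card G).factorization q)
      have h2 : 2 ∣ p := ⟨c, by omega⟩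
      exact hp2 ((Nat.prime_dvd_prime_iff_eq Nat.prime_two hp).1 h2).symm
  subst hq2
  exact CfsgLib.StructC.Mixed.Spec.primes_eq (a := (Nat.card G).factorization 2)
    ⟨hp, hp2, hmix, hpG, rfl, by have := hp.two_le; omega, hab, hc⟩

end Cfsg.Agent.S4017
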