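import Cfsg.Statements.S4022
import Cfsg.Agent.Lib.Coprime.Complements
import Cfsg.Agent.Lib.Solvable.MinNormal
import Cfsg.Agent.Lib.StructB.Kazarin
import Mathlib.GroupTheory.SchurZassenhaus

set_option autoImplicit false
open Cfsg

namespace Cfsg.Agent.S4022

open Subgroup

universe u

variable {G : Type u} [Group G]

/-- Conjugacy of subgroups. -/
def Conj (H K : Subgroup G) : Prop := ∃ g : G, K = H.map (MulAut.conj g).toMonoidHom

theorem Conj.trans {H K L : Subgroup G} (h1 : Conj H K) (h2 : Conj K L) : Conj H L := by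
  obtain ⟨g, rfl⟩ := h1
  obtain ⟨k, rfl⟩ := h2
  refine ⟨k * g, ?_⟩
  rw [map_map, show (MulAut.conj k).toMonoidHom.comp (MulAut.conj g).toMonoidHom =
    (MulAut.conj (k * g)).toMonoidHom from MonoidHom.ext fun z => by simp [mul_assoc]]

theorem Conj.symm {H K : Subgroup G} (h : Conj H K) : Conj K H := by
  obtain ⟨g, rfl⟩ := h
  refine ⟨g⁻¹, ?_⟩
  rw [map_map, show (MulAut.conj g⁻¹).toMonoidHom.comp (MulAut.conj g).toMonoidHom =
    MonoidHom.id G from MonoidHom.ext fun z => by simp [mul_assoc], map_id]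

variable [Finite G]

theorem sylow_cyclic_quotient {r : ℕ} (hcyc : ∀ p : ℕ, p.Prime → p ≠ r → ∀ P : Sylow p G, IsCyclic P)
    (N : Subgroup G) [N.Normal] :
    ∀ p : ℕ, p.Prime → p ≠ r → ∀ P : Sylow p (G ⧸ N), IsCyclic P := by
  intro p hp hpr P
  have : Fact p.Prime := ⟨hp⟩
  obtain ⟨T, rfl⟩ := Sylow.mapSurjective_surjective (QuotientGroup.mk'_surjective N) p P
  have := hcyc p hp hpr T
  exact isCyclic_of_surjective ((QuotientGroup.mk' N).subgroupMap (T : Subgroup G))
    (MonoidHom.subgroupMap_surjective _ _)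

/-- A cyclic normal `q`-subgroup of prime order inside a cyclic Sylow subgroup swallows every element
of order `q`. -/
theorem mem_of_orderOf {q : ℕ} [Fact q.Prime] (N : Subgroup G) [N.Normal] (hN : Nat.card N = q)
    (hq : ∀ h : G, orderOf h = q → ∃ C : Subgroup G, IsCyclic C ∧ h ∈ C ∧ N ≤ C)
    {h : G} (hh : orderOf h = q) : h ∈ N := by
  classical
  obtain ⟨C, hC, hhC, hNC⟩ := hq h hh
  let := Fintype.ofFinite C
  let S : Finset C := Finset.univ.filter fun c => (c : G) ∈ N
  let T : Finset C := Finset.univ.filter fun c : C => c ^ q = 1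
  have hsub : S ⊆ T := fun c hc => by
    simp only [S, T, Finset.mem_filter, Finset.mem_univ, true_and] at hc ⊢
    refine Subtype.ext ?_
    have h1 := N.orderOf_dvd_natCard hc
    rw [hN] at h1
    simpa using orderOf_dvd_iff_pow_eq_one.1 h1
  have hS : S.card = q := by
    rw [← hN, Nat.card_congr (subgroupOfEquivOfLe hNC).symm.toEquiv, Nat.card_eq_fintype_card,
      Fintype.card_subtype]
    rfl
  have hT : T.card ≤ q := IsCyclic.card_pow_eq_one_le (Fact.out : q.Prime).pos
  have he : S = T := Finset.eq_of_subset_of_card_le hsub (hS ▸ hT)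
  have h1 : (⟨h, hhC⟩ : C) ∈ T := by
    simp only [T, Finset.mem_filter, Finset.mem_univ, true_and]
    exact Subtype.ext (by simpa [← hh] using pow_orderOf_eq_one h)
  rw [← he] at h1
  simpa [S] using h1

theorem card_map_conj (H : Subgroup G) (g : G) :
    Nat.card (H.map (MulAut.conj g).toMonoidHom) = Nat.card H :=
  card_map_of_injective (MulAut.conj g).injective

/-- Lifting conjugacy through a minimal normal subgroup. -/
theorem conj_of_quotient (N : Subgroup G) [N.Normal] {H K : Subgroup G}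
    (h : Conj (H.map (QuotientGroup.mk' N)) (K.map (QuotientGroup.mk' N))) :
    ∃ H' : Subgroup G, Conj H H' ∧ N ⊔ H' = N ⊔ K := by
  obtain ⟨g, hg⟩ := h
  obtain ⟨g, rfl⟩ := QuotientGroup.mk'_surjective N g
  refine ⟨H.map (MulAut.conj g).toMonoidHom, ⟨g, rfl⟩, ?_⟩
  rw [sup_comm N, sup_comm N]
  have h1 : (H.map (MulAut.conj g).toMonoidHom).map (QuotientGroup.mk' N) = K.map (QuotientGroup.mk' N) := by
    rw [hg, map_map, map_map]
    congr 1
  have h2 := congrArg (Subgroup.comap (QuotientGroup.mk' N)) h1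
  rwa [comap_map_eq, comap_map_eq, QuotientGroup.ker_mk'] at h2

theorem conj_of_le (N : Subgroup G) [N.Normal] {H K : Subgroup G}
    (h : Conj (H.map (QuotientGroup.mk' N)) (K.map (QuotientGroup.mk' N))) (hH : N ≤ H) (hK : N ≤ K) :
    Conj H K := by
  obtain ⟨H', hc, he⟩ := conj_of_quotient N h
  obtain ⟨g, rfl⟩ := hc
  refine ⟨g, ?_⟩
  rw [sup_eq_right.2 hK, sup_eq_right.2] at he
  · exact he.symm
  · intro n hn
    exact ⟨g⁻¹ * n * g, hH (by simpa using (inferInstance : N.Normal).conj_mem n hn g⁻¹), by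
      simp [mul_assoc]⟩

theorem conj_of_coprime (N : Subgroup G) [N.Normal] [Group.IsSolvable G] {H K : Subgroup G}
    (h : Conj (H.map (QuotientGroup.mk' N)) (K.map (QuotientGroup.mk' N)))
    (hcard : Nat.card H = Nat.card K) (hcop : (Nat.card H).Coprime (Nat.card N)) : Conj H K := by
  obtain ⟨H', hc, he⟩ := conj_of_quotient N h
  obtain ⟨n, -, hn⟩ := CfsgLib.Coprime.exists_conj_eq_of_coprime (N := N) (A := H') (B := K)
    (by rw [normalizer_eq_top N]; exact le_top) (by rw [normalizer_eq_top N]; exact le_top) he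
    (by obtain ⟨g, rfl⟩ := hc; rwa [card_map_conj]) (hcard ▸ hcop) (Or.inr inferInstance)
  exact hc.trans ⟨n, hn⟩

theorem card_map_mk_eq (N : Subgroup G) [N.Normal] {H K : Subgroup G} (hc : Nat.card H = Nat.card K)
    (h : (N ≤ H ∧ N ≤ K) ∨ (Nat.card H).Coprime (Nat.card N)) :
    Nat.card (H.map (QuotientGroup.mk' N)) = Nat.card (K.map (QuotientGroup.mk' N)) := by
  have key : ∀ L : Subgroup G,
      Nat.card (L.map (QuotientGroup.mk' N)) * Nat.card ↥(N ⊓ L) = Nat.card L := fun L => by
    have h1 : Nat.card (L.map (QuotientGroup.mk' N)) = N.relIndex L := by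
      rw [← Subgroup.relIndex_bot_left, ← relIndex_comap, MonoidHom.comap_bot, QuotientGroup.ker_mk']
    rw [h1, mul_comm, ← inf_relIndex_right N L,
      CfsgLib.StructB.Kazarin.card_mul_relIndex_of_le inf_le_right]
  have hH := key H
  have hK := key K
  have heq : Nat.card ↥(N ⊓ H) = Nat.card ↥(N ⊓ K) := by
    rcases h with ⟨h1, h2⟩ | h1
    · rw [inf_eq_left.2 h1, inf_eq_left.2 h2]
    · rw [(disjoint_of_coprime_natCard h1.symm).eq_bot,
        (disjoint_of_coprime_natCard (hc ▸ h1).symm).eq_bot]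
  rw [← heq, ← hc, ← hH] at hK
  exact (Nat.eq_of_mul_eq_mul_right Nat.card_pos hK).symm

theorem card_quotient_lt {N : Subgroup G} (hN : N ≠ ⊥) : Nat.card (G ⧸ N) < Nat.card G := by
  rw [N.card_eq_card_quotient_mul_card_subgroup]
  exact lt_mul_of_one_lt_right Nat.card_pos (N.one_lt_card_iff_ne_bot.2 hN)

theorem le_sylow_of_normal {q : ℕ} [Fact q.Prime] {N : Subgroup G} [N.Normal] (hN : IsPGroup q N)
    (T : Sylow q G) : N ≤ T :=
  sup_eq_left.1 (T.3 (T.2.to_sup_of_normal_right hN) le_sup_left)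

/-- A minimal normal `q`-subgroup with `q ≠ r` has order `q` and is swallowed. -/
theorem cyclic_minimal {q : ℕ} [Fact q.Prime] (N : Subgroup G) [N.Normal] (hN1 : N ≠ ⊥)
    (hNq : IsPGroup q N) (hexp : ∀ x ∈ N, x ^ q = 1)
    (hcyc : ∀ T : Sylow q G, IsCyclic T) :
    Nat.card N = q ∧ ∀ H : Subgroup G, q ∣ Nat.card H → N ≤ H := by
  obtain ⟨T₀, hT₀⟩ := hNq.exists_le_sylow
  have := hcyc T₀
  have hNcyc : IsCyclic N := isCyclic_of_injective (inclusion hT₀) (inclusion_injective hT₀)
  obtain ⟨z, hz⟩ := hNcyc.exists_ofOrder_eq_natCard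
  have hcard : Nat.card N = q := by
    have hd : orderOf z ∣ q := orderOf_dvd_of_pow_eq_one (Subtype.ext (by simpa using hexp z z.2))
    rw [hz] at hd
    exact ((Nat.dvd_prime Fact.out).1 hd).resolve_left fun h => hN1 (card_eq_one.1 h)
  refine ⟨hcard, fun H hd => ?_⟩
  obtain ⟨h, hh⟩ := exists_prime_orderOf_dvd_card' q hd
  have hhN : (h : G) ∈ N := by
    refine mem_of_orderOf N hcard (fun x hx => ?_) (by rw [Subgroup.orderOf_coe, hh])
    have hxp : IsPGroup q (zpowers x) := IsPGroup.of_card (n := 1) (by rw [Nat.card_zpowers, hx, pow_one])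
    obtain ⟨T, hT⟩ := hxp.exists_le_sylow
    exact ⟨T, hcyc T, hT (mem_zpowers x), le_sylow_of_normal hNq T⟩
  have hle : zpowers (h : G) ≤ N := zpowers_le.2 hhN
  have heq : zpowers (h : G) = N := eq_of_le_of_card_ge hle (by
    rw [hcard, Nat.card_zpowers, Subgroup.orderOf_coe, hh])
  rw [← heq]
  exact zpowers_le.2 h.2

/-- Conjugacy of `r'`-subgroups. -/
theorem conj_of_coprime_r (r : ℕ) : ∀ (n : ℕ) (G : Type u) [Group G] [Finite G], Nat.card G = n →
    Group.IsSolvable G → (∀ p : ℕ, p.Prime → p ≠ r → ∀ P : Sylow p G, IsCyclic P) →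
    ∀ H K : Subgroup G, Nat.card H = Nat.card K → ¬ r ∣ Nat.card H → Conj H K := by
  intro n
  induction n using Nat.strong_induction_on with
  | _ n ih =>
    intro G _ _ hn hs hcyc H K hcard hr
    rcases subsingleton_or_nontrivial G with hG | hG
    · exact ⟨1, Subgroup.ext fun x => by simp [Subsingleton.elim x 1]⟩
    obtain ⟨N, hNn, hN1, hNmin⟩ := CfsgLib.Solvable.exists_minimal_normal (G := G)
    obtain ⟨q, hq, hNq, hexp, -⟩ := CfsgLib.Solvable.exists_isPGroup_of_minimal_normal hN1 hNmin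
    have : Fact q.Prime := ⟨hq⟩
    have hquot : ((N ≤ H ∧ N ≤ K) ∨ (Nat.card H).Coprime (Nat.card N)) →
        Conj (H.map (QuotientGroup.mk' N)) (K.map (QuotientGroup.mk' N)) := fun h =>
      ih _ (hn ▸ card_quotient_lt hN1) (G ⧸ N) rfl inferInstance (sylow_cyclic_quotient hcyc N) _ _
        (card_map_mk_eq N hcard h) fun hd => hr (hd.trans (card_map_dvd _ _))
    obtain ⟨i, hi⟩ := hNq.exists_card_eq
    by_cases hqH : q ∣ Nat.card H
    · have hqr : q ≠ r := fun e => hr (e ▸ hqH)
      obtain ⟨-, hall⟩ := cyclic_minimal N hN1 hNq hexp (hcyc q hq hqr)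
      exact conj_of_le N (hquot (Or.inl ⟨hall H hqH, hall K (hcard ▸ hqH)⟩)) (hall H hqH)
        (hall K (hcard ▸ hqH))
    · have hcop : (Nat.card H).Coprime (Nat.card N) := by
        rw [hi]
        exact Nat.Coprime.pow_right i (hq.coprime_iff_not_dvd.2 hqH).symm
      exact conj_of_coprime N (hquot (Or.inr hcop)) hcard hcop

theorem hyp_quotient (hD : ∀ p : ℕ, p.Prime → ∀ H K : Subgroup G, IsPGroup p H → IsPGroup p K →
      Nat.card H = Nat.card K → Conj H K) (N : Subgroup G) [N.Normal] :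
    ∀ p : ℕ, p.Prime → ∀ H K : Subgroup (G ⧸ N), IsPGroup p H → IsPGroup p K →
      Nat.card H = Nat.card K → Conj H K := by
  intro p hp X Y hX hY hXY
  have : Fact p.Prime := ⟨hp⟩
  have key : ∀ X : Subgroup (G ⧸ N), IsPGroup p X → ∃ X₁ : Subgroup G, IsPGroup p X₁ ∧
      X₁.map (QuotientGroup.mk' N) = X ∧
      Nat.card X₁ = p ^ (Nat.card (X.comap (QuotientGroup.mk' N))).factorization p := fun X hX => by
    obtain ⟨P⟩ := (inferInstance : Nonempty (Sylow p (X.comap (QuotientGroup.mk' N))))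
    refine ⟨(P : Subgroup (X.comap (QuotientGroup.mk' N))).map (Subgroup.subtype _), P.2.map _, ?_, ?_⟩
    · have hsurj : Function.Surjective ((QuotientGroup.mk' N).subgroupComap X) :=
        MonoidHom.subgroupComap_surjective_of_surjective _ _ (QuotientGroup.mk'_surjective N)
      have h1 : (P : Subgroup _).map ((QuotientGroup.mk' N).subgroupComap X) = ⊤ :=
        ((P.mapSurjective hsurj).3 (hX.to_subgroup ⊤ |>.of_equiv (MulEquiv.refl _)) le_top).symm
      rw [map_map]
      have h2 := congrArg (Subgroup.map X.subtype) h1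
      rw [map_map, ← MonoidHom.range_eq_map, range_subtype] at h2
      exact h2
    · rw [card_map_of_injective (subtype_injective _), P.card_eq_multiplicity]
  obtain ⟨X₁, hX₁, hX₁e, hX₁c⟩ := key X hX
  obtain ⟨Y₁, hY₁, hY₁e, hY₁c⟩ := key Y hY
  have hc : ∀ X : Subgroup (G ⧸ N),
      Nat.card (X.comap (QuotientGroup.mk' N)) = Nat.card N * Nat.card X := fun X => by
    have h1 := CfsgLib.StructB.Kazarin.card_mul_relIndex_of_le
      (show N ≤ X.comap (QuotientGroup.mk' N) from fun m hm => by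
        rw [mem_comap, QuotientGroup.mk'_apply, (QuotientGroup.eq_one_iff m).2 hm]; exact one_mem X)
    rw [← h1]
    congr 1
    have h2 := relIndex_comap ⊥ (QuotientGroup.mk' N) (X.comap (QuotientGroup.mk' N))
    rwa [map_comap_eq_self_of_surjective (QuotientGroup.mk'_surjective N), MonoidHom.comap_bot,
      QuotientGroup.ker_mk', relIndex_bot_left] at h2
  obtain ⟨g, hg⟩ := hD p hp X₁ Y₁ hX₁ hY₁ (by rw [hX₁c, hY₁c, hc, hc, hXY])
  refine ⟨g, ?_⟩
  rw [← hX₁e, ← hY₁e, hg, map_map, map_map]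
  congr 1

/-- The main induction. -/
theorem conj_all (r : ℕ) : ∀ (n : ℕ) (G : Type u) [Group G] [Finite G], Nat.card G = n →
    Group.IsSolvable G → (∀ p : ℕ, p.Prime → p ≠ r → ∀ P : Sylow p G, IsCyclic P) →
    (∀ p : ℕ, p.Prime → ∀ H K : Subgroup G, IsPGroup p H → IsPGroup p K →
      Nat.card H = Nat.card K → Conj H K) →
    ∀ H K : Subgroup G, Nat.card H = Nat.card K → Conj H K := by
  intro n
  induction n using Nat.strong_induction_on with
  | _ n ih =>
    intro G _ _ hn hs hcyc hD H K hcard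
    by_cases hr : r ∣ Nat.card H
    swap
    · exact conj_of_coprime_r r n G hn hs hcyc H K hcard hr
    rcases subsingleton_or_nontrivial G with hG | hG
    · exact ⟨1, Subgroup.ext fun x => by simp [Subsingleton.elim x 1]⟩
    obtain ⟨N, hNn, hN1, hNmin⟩ := CfsgLib.Solvable.exists_minimal_normal (G := G)
    obtain ⟨q, hq, hNq, hexp, -⟩ := CfsgLib.Solvable.exists_isPGroup_of_minimal_normal hN1 hNmin
    have : Fact q.Prime := ⟨hq⟩
    have hquot : ((N ≤ H ∧ N ≤ K) ∨ (Nat.card H).Coprime (Nat.card N)) →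
        Conj (H.map (QuotientGroup.mk' N)) (K.map (QuotientGroup.mk' N)) := fun h =>
      ih _ (hn ▸ card_quotient_lt hN1) (G ⧸ N) rfl inferInstance (sylow_cyclic_quotient hcyc N)
        (hyp_quotient hD N) _ _ (card_map_mk_eq N hcard h)
    obtain ⟨i, hi⟩ := hNq.exists_card_eq
    have hi0 : i ≠ 0 := fun e => hN1 (card_eq_one.1 (by rw [hi, e, pow_zero]))
    by_cases hqH : q ∣ Nat.card H
    swap
    · have hcop : (Nat.card H).Coprime (Nat.card N) := by
        rw [hi]
        exact Nat.Coprime.pow_right i (hq.coprime_iff_not_dvd.2 hqH).symm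
      exact conj_of_coprime N (hquot (Or.inr hcop)) hcard hcop
    by_cases hqr : q ≠ r
    · obtain ⟨-, hall⟩ := cyclic_minimal N hN1 hNq hexp (hcyc q hq hqr)
      exact conj_of_le N (hquot (Or.inl ⟨hall H hqH, hall K (hcard ▸ hqH)⟩)) (hall H hqH)
        (hall K (hcard ▸ hqH))
    push Not at hqr
    subst hqr
    -- elements of order `q` lie in `N`
    obtain ⟨N₁, hN₁c, hN₁⟩ : ∃ N₁ : Subgroup G, Nat.card N₁ = q ∧ N₁ ≤ N := by
      obtain ⟨z, hz⟩ := exists_prime_orderOf_dvd_card' (G := N) q (hi ▸ dvd_pow_self q hi0)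
      exact ⟨zpowers (z : G), by rw [Nat.card_zpowers, Subgroup.orderOf_coe, hz], zpowers_le.2 z.2⟩
    have hordq : ∀ x : G, orderOf x = q → x ∈ N := by
      intro x hx
      obtain ⟨g, hg⟩ := hD q hq N₁ (zpowers x) (hNq.to_le hN₁)
        (IsPGroup.of_card (n := 1) (by rw [Nat.card_zpowers, hx, pow_one]))
        (by rw [Nat.card_zpowers, hx, hN₁c])
      have hxm := hg.le (mem_zpowers x)
      obtain ⟨y, hy, rfl⟩ := hxm
      exact hNn.conj_mem y (hN₁ hy) g
    rcases Nat.lt_or_ge i 2 with hi2 | hi2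
    · have hcN : Nat.card N = q := by rw [hi, show i = 1 by omega, pow_one]
      have hall : ∀ L : Subgroup G, q ∣ Nat.card L → N ≤ L := fun L hd => by
        obtain ⟨x, hx⟩ := exists_prime_orderOf_dvd_card' q hd
        have hle : zpowers (x : G) ≤ N := zpowers_le.2 (hordq _ (by rw [Subgroup.orderOf_coe, hx]))
        rw [← eq_of_le_of_card_ge hle (by rw [hcN, Nat.card_zpowers, Subgroup.orderOf_coe, hx])]
        exact zpowers_le.2 x.2
      exact conj_of_le N (hquot (Or.inl ⟨hall H hqH, hall K (hcard ▸ hqH)⟩)) (hall H hqH)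
        (hall K (hcard ▸ hqH))
    -- now the Sylow subgroup is normal
    obtain ⟨P, hP⟩ := hNq.exists_le_sylow
    have hPexp : ∀ x ∈ P, x ^ q = 1 := by
      intro x hx
      by_contra hne
      obtain ⟨e, he⟩ := IsPGroup.iff_orderOf.1 P.2 ⟨x, hx⟩
      rw [Subgroup.orderOf_mk] at he
      have he2 : 2 ≤ e := by
        by_contra h
        exact hne (orderOf_dvd_iff_pow_eq_one.1 (he ▸ (pow_dvd_pow q (show e ≤ 1 by omega)).trans (pow_one q).dvd))
      obtain ⟨N₂, hN₂c, hN₂⟩ : ∃ N₂ : Subgroup G, Nat.card N₂ = q ^ 2 ∧ N₂ ≤ N := by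
        obtain ⟨W, hW⟩ := Sylow.exists_subgroup_card_pow_prime (G := N) q (hi ▸ pow_dvd_pow q hi2)
        exact ⟨W.map N.subtype, by rw [card_map_of_injective N.subtype_injective, hW], map_subtype_le W⟩
      set y := x ^ (q ^ (e - 2)) with hy
      have hyo : orderOf y = q ^ 2 := by
        rw [hy, orderOf_pow_of_dvd (pow_ne_zero _ hq.ne_zero) (he ▸ pow_dvd_pow q (by omega)), he,
          Nat.pow_div (by omega) hq.pos, show e - (e - 2) = 2 by omega]
      obtain ⟨g, hg⟩ := hD q hq N₂ (zpowers y) (hNq.to_le hN₂)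
        (IsPGroup.of_card (n := 2) (by rw [Nat.card_zpowers, hyo]))
        (by rw [Nat.card_zpowers, hyo, hN₂c])
      obtain ⟨w, hw, hwy⟩ := hg.le (mem_zpowers y)
      have h1 : y ^ q = 1 := by
        rw [← hwy, ← map_pow, hexp w (hN₂ hw), map_one]
      have h2 := Nat.le_of_dvd hq.pos (hyo ▸ orderOf_dvd_of_pow_eq_one h1)
      have := hq.one_lt
      nlinarith
    have hPN : (P : Subgroup G) = N := le_antisymm (fun x hx => by
      rcases hq.eq_one_or_self_of_dvd _ (orderOf_dvd_of_pow_eq_one (hPexp x hx)) with h | h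
      · rw [orderOf_eq_one_iff.1 h]; exact one_mem N
      · exact hordq x h) hP
    have hidx : ¬ q ∣ N.index := hPN ▸ P.not_dvd_index
    -- split `H` and `K`
    have hsplit : ∀ L : Subgroup G, ∃ A : Subgroup G, A ≤ L ∧ ¬ q ∣ Nat.card A ∧
        (N ⊓ L) ⊔ A = L ∧ Nat.card A * Nat.card ↥(N ⊓ L) = Nat.card L := by
      intro L
      have hnd : ¬ q ∣ N.relIndex L := fun hd => hidx (hd.trans (relIndex_dvd_index_of_normal N L))
      obtain ⟨j, hj⟩ := (hNq.to_le (inf_le_left : N ⊓ L ≤ N)).exists_card_eq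
      have hc : Nat.card (N.subgroupOf L) = Nat.card ↥(N ⊓ L) :=
        Nat.card_congr ((MulEquiv.subgroupCongr (inf_subgroupOf_right N L).symm).trans
          (subgroupOfEquivOfLe inf_le_right)).toEquiv
      obtain ⟨A₀, hA₀⟩ := exists_right_complement'_of_coprime (N := N.subgroupOf L) (by
        rw [hc, hj]; exact Nat.Coprime.pow_left j (hq.coprime_iff_not_dvd.2 hnd))
      refine ⟨A₀.map L.subtype, map_subtype_le _, ?_, ?_, ?_⟩
      · rw [card_map_of_injective L.subtype_injective, ← hA₀.symm.index_eq_card]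
        exact hnd
      · have h1 := congrArg (Subgroup.map L.subtype) hA₀.sup_eq_top
        rwa [Subgroup.map_sup, subgroupOf_map_subtype, ← MonoidHom.range_eq_map, range_subtype] at h1
      · rw [card_map_of_injective L.subtype_injective, ← hc, mul_comm, hA₀.card_mul_card]
    obtain ⟨A, hAH, hAq, hAs, hAc⟩ := hsplit H
    obtain ⟨B, hBK, hBq, hBs, hBc⟩ := hsplit K
    have hRR : Nat.card ↥(N ⊓ H) = Nat.card ↥(N ⊓ K) := by
      obtain ⟨a, ha⟩ := (hNq.to_le (inf_le_left : N ⊓ H ≤ N)).exists_card_eq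
      obtain ⟨b, hb⟩ := (hNq.to_le (inf_le_left : N ⊓ K ≤ N)).exists_card_eq
      have h1 := congrArg (fun m : ℕ => m.factorization q) (hAc.trans (hcard.trans hBc.symm))
      rw [Nat.factorization_mul Nat.card_pos.ne' Nat.card_pos.ne', Finsupp.add_apply,
        Nat.factorization_mul Nat.card_pos.ne' Nat.card_pos.ne', Finsupp.add_apply,
        Nat.factorization_eq_zero_of_not_dvd hAq, Nat.factorization_eq_zero_of_not_dvd hBq, ha, hb,
        hq.factorization_pow, hq.factorization_pow, Finsupp.single_eq_same, Finsupp.single_eq_same] at h1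
      rw [ha, hb]
      congr 1
      omega
    obtain ⟨g, hg⟩ := hD q hq _ _ (hNq.to_le inf_le_left) (hNq.to_le inf_le_left) hRR
    set R := N ⊓ K with hR
    have hnorm : ∀ L : Subgroup G, L ≤ normalizer ((N ⊓ L : Subgroup G) : Set G) := fun L x hx =>
      mem_normalizer_fintype fun y hy => ⟨hNn.conj_mem y hy.1 x, L.mul_mem (L.mul_mem hx hy.2) (L.inv_mem hx)⟩
    set A' := A.map (MulAut.conj g).toMonoidHom with hA'
    have hA'le : A' ≤ normalizer (R : Set G) := by
      rintro _ ⟨x, hx, rfl⟩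
      have := hnorm H (hAH hx)
      rw [mem_normalizer_iff_map_conj_eq, hg, map_map]
      rw [mem_normalizer_iff_map_conj_eq] at this
      conv_rhs => rw [← this, map_map]
      congr 1
      exact MonoidHom.ext fun z => by simp [mul_assoc]
    have hBle : B ≤ normalizer (R : Set G) := hBK.trans (hnorm K)
    set M := normalizer (R : Set G) with hM
    have hcycM : ∀ p : ℕ, p.Prime → p ≠ q → ∀ T : Sylow p M, IsCyclic T := fun p hp hpq T => by
      have : Fact p.Prime := ⟨hp⟩
      obtain ⟨T', hT'⟩ := (T.2.map M.subtype).exists_le_sylow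
      have := hcyc p hp hpq T'
      exact isCyclic_of_injective ((inclusion hT').comp (M.subtype.subgroupMap (T : Subgroup M)))
        ((inclusion_injective hT').comp ((T : Subgroup M).equivMapOfInjective _ M.subtype_injective).injective)
    have hAB : Nat.card A = Nat.card B := by
      have h1 := hAc.trans (hcard.trans hBc.symm)
      rw [hRR] at h1
      exact Nat.eq_of_mul_eq_mul_right Nat.card_pos h1
    obtain ⟨m, hm⟩ := conj_of_coprime_r q (Nat.card M) M rfl inferInstance hcycM (A'.subgroupOf M)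
      (B.subgroupOf M)
      (by rw [Nat.card_congr (subgroupOfEquivOfLe hA'le).toEquiv,
        Nat.card_congr (subgroupOfEquivOfLe hBle).toEquiv, hA', card_map_conj, hAB])
      (by rw [Nat.card_congr (subgroupOfEquivOfLe hA'le).toEquiv, hA', card_map_conj]; exact hAq)
    have hB' : B = A'.map (MulAut.conj (m : G)).toMonoidHom := by
      have h1 := congrArg (Subgroup.map M.subtype) hm
      rw [map_subgroupOf_eq_of_le hBle, map_map] at h1
      rw [h1]
      conv_rhs => rw [← map_subgroupOf_eq_of_le hA'le, map_map]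
      rfl
    refine Conj.trans ⟨g, rfl⟩ ⟨(m : G), ?_⟩
    have hmR : R.map (MulAut.conj (m : G)).toMonoidHom = R := mem_normalizer_iff_map_conj_eq.1 m.2
    rw [← hAs, Subgroup.map_sup, ← hg, ← hA', Subgroup.map_sup, ← hB', hmR, hR, hBs]

/-- Let G be a finite solvable group in which, for every prime p, any two p-subgroups of the same order are conjugate, and suppose the Sylow p-subgroups of G are cyclic for all primes p with at most one exception. Then any two subgroups of G of the same order are conjugate. -/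
theorem result {G : Type*} [Group G] [Finite G]
    [Group.IsSolvable G] (hD : ∀ p : ℕ, p.Prime → ∀ H K : Subgroup G, IsPGroup p H → IsPGroup p K → Nat.card H = Nat.card K →
      ∃ g : G, K = H.map (MulAut.conj g).toMonoidHom)
    (r : ℕ) (hcyc : ∀ p : ℕ, p.Prime → p ≠ r → ∀ P : Sylow p G, IsCyclic P) :
    ∀ H K : Subgroup G, Nat.card H = Nat.card K → ∃ g : G, K = H.map (MulAut.conj g).toMonoidHom := by
  exact fun H K h => conj_all r _ G rfl inferInstance hcyc hD H K h

end Cfsg.Agent.S4022
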