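import Cfsg.Statements.S4023
import Cfsg.Agent.Lib.Solvable.UniqueSubgroup
import Cfsg.Agent.Lib.Comp.Subnormal
import Mathlib.GroupTheory.SpecificGroups.Quaternion
import Mathlib.GroupTheory.PGroup
import Mathlib.GroupTheory.Nilpotent

set_option autoImplicit false
open Cfsg

namespace Cfsg.Agent.S4023

open Subgroup

variable {G : Type*} [Group G] [Finite G] {p : ℕ} [hp : Fact p.Prime]

/-- Conjugate subgroups satisfy the same universal laws. -/
theorem transfer_law (hC : ∀ H K : Subgroup G, IsPGroup p H → IsPGroup p K → Nat.card H = Nat.card K →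
      ∃ g : G, K = H.map (MulAut.conj g).toMonoidHom) {P : Subgroup G} (hP : IsPGroup p P)
    {H K : Subgroup P} (hcard : Nat.card H = Nat.card K) :
    (IsMulCommutative H → IsMulCommutative K) ∧ ((∀ x ∈ H, x ^ p = 1) → ∀ y ∈ K, y ^ p = 1) ∧
      (IsCyclic H → IsCyclic K) := by
  obtain ⟨g, hg⟩ := hC (H.map P.subtype) (K.map P.subtype) ((hP.to_subgroup H).map _)
    ((hP.to_subgroup K).map _)
    (by rw [card_map_of_injective P.subtype_injective, card_map_of_injective P.subtype_injective, hcard])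
  let e : H ≃* K := ((H.equivMapOfInjective _ P.subtype_injective).trans
    (((H.map P.subtype).equivMapOfInjective _ (MulAut.conj g).injective).trans
      (MulEquiv.subgroupCongr hg.symm))).trans (K.equivMapOfInjective _ P.subtype_injective).symm
  refine ⟨fun h => ⟨⟨fun u v => e.symm.injective ?_⟩⟩, fun h y hy => ?_, fun h => isCyclic_of_surjective e e.surjective⟩
  · rw [map_mul, map_mul, h.is_comm.comm]
  · have h1 : (e.symm ⟨y, hy⟩) ^ p = 1 := Subtype.ext (by simpa using h _ (e.symm ⟨y, hy⟩).2)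
    rw [← map_pow, MulEquiv.map_eq_one_iff] at h1
    exact congrArg Subtype.val h1

/-- Let p be a prime and G a finite group in which any two p-subgroups of the same order are conjugate, with Sylow p-subgroup P. Then P is cyclic, or elementary abelian, or p = 2 and P is a quaternion group of order 8, or p is odd and P is non-abelian of order p³ and exponent p. -/
theorem result {G : Type*} [Group G] [Finite G]
    {p : ℕ} [Fact p.Prime] (hC : ∀ H K : Subgroup G, IsPGroup p H → IsPGroup p K → Nat.card H = Nat.card K →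
      ∃ g : G, K = H.map (MulAut.conj g).toMonoidHom) (P : Sylow p G) :
    IsCyclic P ∨ Cfsg.IsElementaryAbelian p (P : Subgroup G) ∨
      (p = 2 ∧ Nonempty ((P : Subgroup G) ≃* QuaternionGroup 2)) ∨
      (p ≠ 2 ∧ ¬ IsMulCommutative P ∧ Nat.card P = p ^ 3 ∧ Monoid.exponent P = p) := by
  classical
  have hp : p.Prime := Fact.out
  set Q : Subgroup G := (P : Subgroup G) with hQ
  have hQp : IsPGroup p Q := P.2
  have law : ∀ {H K : Subgroup Q}, Nat.card H = Nat.card K → _ := fun {H K} h => transfer_law hC hQp h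
  by_cases huniq : ∀ H K : Subgroup Q, Nat.card H = p → Nat.card K = p → H = K
  · rcases CfsgLib.Solvable.isCyclic_or_quaternion_of_unique hQp huniq with h | ⟨rfl, n, ⟨e⟩⟩
    · exact Or.inl h
    match n with
    | 0 =>
      have : IsCyclic (QuaternionGroup (2 ^ 0)) := QuaternionGroup.quaternionGroup_one_isCyclic
      exact Or.inl (isCyclic_of_surjective e.symm e.symm.surjective)
    | 1 => exact Or.inr (Or.inr (Or.inl ⟨rfl, ⟨e.trans (by rw [pow_one])⟩⟩))
    | n + 2 =>
      exfalso
      have : NeZero (2 ^ (n + 2)) := ⟨by positivity⟩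
      set y : Q := e.symm (QuaternionGroup.xa 0) with hy
      have hyo : orderOf y = 4 := by rw [hy, MulEquiv.orderOf_eq, QuaternionGroup.orderOf_xa]
      obtain ⟨w, hw⟩ : ∃ w : Q, orderOf w = 8 := by
        refine ⟨e.symm (QuaternionGroup.a 1) ^ 2 ^ n, ?_⟩
        have h1 : orderOf (e.symm (QuaternionGroup.a 1) : Q) = 2 ^ n * 8 := by
          rw [MulEquiv.orderOf_eq, QuaternionGroup.orderOf_a_one]; ring
        rw [orderOf_pow_of_dvd (pow_ne_zero n two_ne_zero) (h1 ▸ dvd_mul_right _ _), h1,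
          Nat.mul_div_cancel_left _ (pow_pos two_pos n)]
      obtain ⟨k, hk⟩ := hQp.exists_card_eq
      have h8 : 8 ∣ Nat.card Q := hw ▸ orderOf_dvd_natCard w
      obtain ⟨K, hK, hyK⟩ := Sylow.exists_subgroup_card_pow_succ (p := 2) (n := 2)
        (show 2 ^ (2 + 1) ∣ Nat.card Q by simpa using h8) (H := zpowers y)
        (by rw [Nat.card_zpowers, hyo]; rfl)
      have hKc : IsCyclic K := (law (H := zpowers w) (K := K) (by
        rw [Nat.card_zpowers, hw, hK]; rfl)).2.2 inferInstance
      obtain ⟨g, hg⟩ := hKc.exists_ofOrder_eq_natCard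
      have hgo : orderOf (e (g : Q)) = 8 := by
        rw [MulEquiv.orderOf_eq, Subgroup.orderOf_coe, hg, hK]; rfl
      rcases hge : e (g : Q) with i | i
      · have hy' : (⟨y, hyK (mem_zpowers y)⟩ : K) ∈ zpowers g := by
          rw [eq_top_of_card_eq (zpowers g) (by rw [Nat.card_zpowers, hg])]; trivial
        obtain ⟨j, hj⟩ := mem_zpowers_iff.1 hy'
        have h2 : QuaternionGroup.a i ^ j = (QuaternionGroup.xa 0 : QuaternionGroup (2 ^ (n + 2))) := by
          rw [← hge, ← map_zpow, show (g : Q) ^ j = y from congrArg Subtype.val hj, hy,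
            MulEquiv.apply_symm_apply]
        have h3 : ∀ j : ℤ, ∃ k, QuaternionGroup.a i ^ j = (QuaternionGroup.a k : QuaternionGroup (2 ^ (n + 2))) := by
          intro j
          induction j using Int.induction_on with
          | zero => exact ⟨0, by rw [zpow_zero]; rfl⟩
          | succ j ih => obtain ⟨k, hk⟩ := ih; exact ⟨k + i, by rw [zpow_add_one, hk, QuaternionGroup.a_mul_a]⟩
          | pred j ih => obtain ⟨k, hk⟩ := ih; exact ⟨k - i, by
              rw [zpow_sub_one, hk, mul_inv_eq_iff_eq_mul, QuaternionGroup.a_mul_a, sub_add_cancel]⟩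
        obtain ⟨k, hk⟩ := h3 j
        rw [hk] at h2
        exact absurd h2 (by simp)
      · rw [hge, QuaternionGroup.orderOf_xa] at hgo
        omega
  push Not at huniq
  obtain ⟨H₁, H₂, hH₁, hH₂, hne⟩ := huniq
  -- an elementary abelian subgroup of order `p²`
  have : Nontrivial Q := ⟨⟨1, by
    obtain ⟨x, hx⟩ := exists_prime_orderOf_dvd_card' (G := H₁) p (by rw [hH₁])
    exact ⟨(x : Q), fun e => by
      rw [← Subgroup.orderOf_coe, ← e, orderOf_one] at hx; exact hp.ne_one hx.symm⟩⟩⟩
  have := hQp.center_nontrivial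
  obtain ⟨z, hz⟩ : ∃ z : center Q, orderOf z = p := exists_prime_orderOf_dvd_card' p (by
    obtain ⟨j, hj⟩ := (hQp.to_subgroup (center Q)).exists_card_eq
    rw [hj]
    exact dvd_pow_self p fun e => (Finite.one_lt_card (α := center Q)).ne' (by rw [hj, e, pow_zero]))
  have hzc : ∀ u : Q, u * z = z * u := fun u => mem_center_iff.1 z.2 u
  have hzo : orderOf (z : Q) = p := by rw [Subgroup.orderOf_coe, hz]
  obtain ⟨y, hyz, hyo⟩ : ∃ y : Q, y ∉ zpowers (z : Q) ∧ orderOf y = p := by
    obtain ⟨H, hH, hHne⟩ : ∃ H : Subgroup Q, Nat.card H = p ∧ H ≠ zpowers (z : Q) := by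
      by_cases h : H₁ = zpowers (z : Q)
      · exact ⟨H₂, hH₂, fun e => hne (h.trans e.symm)⟩
      · exact ⟨H₁, hH₁, h⟩
    obtain ⟨x, hx⟩ := exists_prime_orderOf_dvd_card' (G := H) p (by rw [hH])
    refine ⟨x, fun hmem => hHne ?_, by rw [Subgroup.orderOf_coe, hx]⟩
    rw [← eq_of_le_of_card_ge (zpowers_le.2 x.2 : zpowers (x : Q) ≤ H)
      (by rw [hH, Nat.card_zpowers, Subgroup.orderOf_coe, hx])]
    exact eq_of_le_of_card_ge (zpowers_le.2 hmem)
      (by rw [Nat.card_zpowers, Nat.card_zpowers, hzo, Subgroup.orderOf_coe, hx])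
  set E := zpowers (z : Q) ⊔ zpowers y with hE
  have hEc : ∀ u ∈ E, u ^ p = 1 ∧ ∀ v ∈ E, u * v = v * u := by
    have hgen : E ≤ centralizer (E : Set Q) := by
      have h1 : E ≤ centralizer {(z : Q)} := sup_le (zpowers_le.2 (mem_centralizer_singleton_iff.2 rfl))
        (zpowers_le.2 (mem_centralizer_singleton_iff.2 (hzc y)))
      have h2 : E ≤ centralizer {y} := sup_le (zpowers_le.2 (mem_centralizer_singleton_iff.2 (hzc y).symm))
        (zpowers_le.2 (mem_centralizer_singleton_iff.2 rfl))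
      exact sup_le
        (zpowers_le.2 (mem_centralizer_iff.2 fun v hv => mem_centralizer_singleton_iff.1 (h1 hv)))
        (zpowers_le.2 (mem_centralizer_iff.2 fun v hv => mem_centralizer_singleton_iff.1 (h2 hv)))
    intro u hu
    refine ⟨?_, fun v hv => (mem_centralizer_iff.1 (hgen hu) v hv).symm⟩
    have hn : zpowers y ≤ normalizer (zpowers (z : Q) : Set Q) :=
      zpowers_le.2 (mem_normalizer_fintype fun v hv => by
        obtain ⟨i, rfl⟩ := mem_zpowers_iff.1 hv
        rw [(Commute.zpow_right (show Commute y z from hzc y) i).eq, mul_inv_cancel_right]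
        exact hv)
    rw [← SetLike.mem_coe, hE, coe_mul_of_right_le_normalizer_left _ _ hn] at hu
    obtain ⟨a, ha, b, hb, rfl⟩ := hu
    obtain ⟨i, rfl⟩ := mem_zpowers_iff.1 ha
    obtain ⟨j, rfl⟩ := mem_zpowers_iff.1 hb
    show ((z : Q) ^ i * y ^ j) ^ p = 1
    rw [(Commute.zpow_zpow (show Commute (z : Q) y from (hzc y).symm) i j).mul_pow, ← zpow_natCast,
      ← zpow_mul, mul_comm, zpow_mul, zpow_natCast, ← zpow_natCast (y ^ j), ← zpow_mul, mul_comm j,
      zpow_mul, zpow_natCast]
    conv_lhs => arg 1; rw [← hzo, pow_orderOf_eq_one, one_zpow]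
    conv_lhs => arg 2; rw [← hyo, pow_orderOf_eq_one, one_zpow]
    rw [one_mul]
  have hE2 : p ^ 2 ∣ Nat.card E := by
    obtain ⟨j, hj⟩ := (hQp.to_subgroup E).exists_card_eq
    rw [hj]
    refine pow_dvd_pow p ?_
    by_contra hlt
    have hle : zpowers (z : Q) ≤ E := le_sup_left
    have he : zpowers (z : Q) = E := eq_of_le_of_card_ge hle (by
      rw [hj, Nat.card_zpowers, hzo]
      exact (Nat.pow_le_pow_right hp.pos (show j ≤ 1 by omega)).trans (pow_one p).le)
    exact hyz (by rw [he]; exact mem_sup_right (mem_zpowers y))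
  obtain ⟨E₂, hE₂⟩ := Sylow.exists_subgroup_card_pow_prime (G := E) p hE2
  have hexp : ∀ x : Q, x ^ p = 1 := by
    intro x
    by_contra hx
    obtain ⟨m, hm⟩ := IsPGroup.iff_orderOf.1 hQp x
    have hm2 : 2 ≤ m := by
      by_contra h
      exact hx (orderOf_dvd_iff_pow_eq_one.1 (hm ▸ (pow_dvd_pow p (show m ≤ 1 by omega)).trans (pow_one p).dvd))
    set w := x ^ p ^ (m - 2) with hw
    have hwo : orderOf w = p ^ 2 := by
      rw [hw, orderOf_pow_of_dvd (pow_ne_zero _ hp.ne_zero) (hm ▸ pow_dvd_pow p (by omega)), hm,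
        Nat.pow_div (by omega) hp.pos, show m - (m - 2) = 2 by omega]
    have h1 := (law (H := E₂.map E.subtype) (K := zpowers w) (by
      rw [card_map_of_injective E.subtype_injective, hE₂, Nat.card_zpowers, hwo])).2.1
      (fun u hu => (hEc u (map_subtype_le E₂ hu)).1) w (mem_zpowers w)
    have h2 := Nat.le_of_dvd hp.pos (hwo ▸ orderOf_dvd_of_pow_eq_one h1)
    have := hp.one_lt
    nlinarith
  by_cases hab : IsMulCommutative Q
  · exact Or.inr (Or.inl ⟨hab, fun a ha => congrArg Subtype.val (hexp ⟨a, ha⟩)⟩)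
  right; right; right
  have hp2 : p ≠ 2 := by
    rintro rfl
    refine hab ⟨⟨fun a b => ?_⟩⟩
    have hi : ∀ x : Q, x⁻¹ = x := fun x => inv_eq_of_mul_eq_one_right (by rw [← pow_two]; exact hexp x)
    calc a * b = (a * b)⁻¹ := (hi _).symm
      _ = b⁻¹ * a⁻¹ := mul_inv_rev a b
      _ = b * a := by rw [hi, hi]
  refine ⟨hp2, hab, ?_, ?_⟩
  swap
  · obtain ⟨j, -, hj⟩ := (Nat.dvd_prime_pow hp).1
      (show Monoid.exponent Q ∣ p ^ 1 by rw [pow_one]; exact Monoid.exponent_dvd_of_forall_pow_eq_one hexp)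
    rcases j with _ | j
    · rw [pow_zero, Monoid.exp_eq_one_iff] at hj
      exact absurd hj (not_subsingleton Q)
    · refine Nat.dvd_antisymm (Monoid.exponent_dvd_of_forall_pow_eq_one hexp) ?_
      rw [hj]
      exact dvd_pow_self p (Nat.succ_ne_zero j)
  -- a nonabelian subgroup of order `p³`
  have := hQp.isNilpotent
  have hZne : center Q ≠ ⊤ := fun e => hab ⟨⟨fun a b => (mem_center_iff.1 (e ▸ mem_top b) a)⟩⟩
  have hnt : Nontrivial (Q ⧸ center Q) := QuotientGroup.nontrivial_iff.2 hZne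
  have := (hQp.to_quotient (center Q)).center_nontrivial
  obtain ⟨c, hc⟩ := exists_ne (1 : center (Q ⧸ center Q))
  obtain ⟨a, ha⟩ := QuotientGroup.mk_surjective (c : Q ⧸ center Q)
  have haZ : a ∉ center Q := fun h => hc (Subtype.ext (by rw [← ha, (QuotientGroup.eq_one_iff a).2 h]; rfl))
  obtain ⟨g, hg⟩ : ∃ g : Q, g * a ≠ a * g := by
    by_contra h; push Not at h; exact haZ (mem_center_iff.2 h)
  set d := g * a * g⁻¹ * a⁻¹ with hd
  have hdc : d ∈ center Q := by
    rw [← QuotientGroup.eq_one_iff, hd]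
    have h1 := mem_center_iff.1 c.2 (g : Q ⧸ center Q)
    rw [← ha] at h1
    rw [QuotientGroup.mk_mul, QuotientGroup.mk_mul, QuotientGroup.mk_mul, h1, QuotientGroup.mk_inv,
      QuotientGroup.mk_inv]
    group
  have hzp : ∀ x : Q, Nat.card (zpowers x) ≤ p := fun x => by
    rw [Nat.card_zpowers]; exact Nat.le_of_dvd hp.pos (orderOf_dvd_of_pow_eq_one (hexp x))
  set A₀ := zpowers d ⊔ zpowers a with hA₀
  have hda : zpowers a ≤ normalizer (zpowers d : Set Q) := zpowers_le.2 (mem_normalizer_fintype fun v hv => by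
    obtain ⟨i, rfl⟩ := mem_zpowers_iff.1 hv
    rw [(Commute.zpow_right (show Commute a d from mem_center_iff.1 hdc a) i).eq, mul_inv_cancel_right]
    exact hv)
  have hgA : zpowers g ≤ normalizer (A₀ : Set Q) := zpowers_le.2 (mem_normalizer_fintype fun v hv => by
    have h1 : A₀ ≤ A₀.comap (MulAut.conj g).toMonoidHom := sup_le
      (zpowers_le.2 (by
        show g * d * g⁻¹ ∈ A₀
        rw [mem_center_iff.1 hdc g, mul_inv_cancel_right]
        exact mem_sup_left (mem_zpowers d)))
      (zpowers_le.2 (by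
        show g * a * g⁻¹ ∈ A₀
        rw [show g * a * g⁻¹ = d * a by rw [hd]; group]
        exact mul_mem (mem_sup_left (mem_zpowers d)) (mem_sup_right (mem_zpowers a))))
    exact h1 hv)
  set K := A₀ ⊔ zpowers g with hK
  have hKle : Nat.card K ≤ p ^ 3 := by
    have h1 := Nat.le_of_dvd (Nat.mul_pos Nat.card_pos Nat.card_pos) (CfsgLib.Comp.card_sup_dvd_mul hgA)
    have h2 := Nat.le_of_dvd (Nat.mul_pos Nat.card_pos Nat.card_pos) (CfsgLib.Comp.card_sup_dvd_mul hda)
    calc Nat.card K ≤ Nat.card A₀ * Nat.card (zpowers g) := h1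
      _ ≤ Nat.card (zpowers d) * Nat.card (zpowers a) * Nat.card (zpowers g) := Nat.mul_le_mul_right _ h2
      _ ≤ p * p * p := Nat.mul_le_mul (Nat.mul_le_mul (hzp d) (hzp a)) (hzp g)
      _ = p ^ 3 := by ring
  have hKna : ¬ IsMulCommutative K := fun h => hg (congrArg Subtype.val
    (h.is_comm.comm ⟨g, mem_sup_right (mem_zpowers g)⟩ ⟨a, mem_sup_left (mem_sup_right (mem_zpowers a))⟩))
  have hK3 : Nat.card K = p ^ 3 := by
    obtain ⟨j, hj⟩ := (hQp.to_subgroup K).exists_card_eq
    have hj3 : j ≤ 3 := (Nat.pow_le_pow_iff_right hp.one_lt).1 (hj ▸ hKle)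
    rcases Nat.lt_or_ge j 3 with hlt | hge
    swap
    · rw [hj, show j = 3 by omega]
    exfalso
    refine hKna ?_
    rcases j with _ | _ | _ | j
    · rw [pow_zero, card_eq_one] at hj; rw [hj]; infer_instance
    · rw [zero_add, pow_one] at hj
      have := isCyclic_of_prime_card hj
      exact ⟨⟨fun u v => mul_comm' u v⟩⟩
    · exact IsPGroup.isMulCommutative_of_card_eq_prime_sq hj
    · omega
  -- no abelian subgroup of order `p³`
  obtain ⟨A, -, hAn, hAab, hself⟩ := CfsgLib.OddLocal.exists_normal_self_centralizing hQp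
    (⊥ : Subgroup Q) inferInstance
  obtain ⟨i, hi⟩ := (hQp.to_subgroup A).exists_card_eq
  have hi2 : i ≤ 2 := by
    by_contra hlt
    obtain ⟨B, hB⟩ := Sylow.exists_subgroup_card_pow_prime (G := A) p (n := 3)
      (hi ▸ pow_dvd_pow p (by omega))
    refine hKna ((law (H := B.map A.subtype) (by rw [card_map_of_injective A.subtype_injective, hB, hK3])).1
      ⟨⟨fun u v => Subtype.ext ?_⟩⟩)
    have h' := congrArg Subtype.val (hAab.is_comm.comm ⟨u.1, map_subtype_le B u.2⟩ ⟨v.1, map_subtype_le B v.2⟩)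
    exact h'
  have hZA : center Q ≤ A := by rw [← hself]; exact center_le_centralizer _
  obtain ⟨b, hbA, hbZ⟩ : ∃ b ∈ A, b ∉ center Q := by
    by_contra h
    push Not at h
    refine hZne (eq_top_iff.2 fun x _ => h x (?_))
    rw [← hself, mem_centralizer_iff]
    exact fun v hv => (mem_center_iff.1 (h v hv) x).symm
  -- the class of `b` has size `p`
  have hA2 : Nat.card A = p ^ 2 ∧ zpowers (z : Q) ⊔ zpowers b = A := by
    have hle : zpowers (z : Q) ⊔ zpowers b ≤ A := sup_le (zpowers_le.2 (hZA z.2)) (zpowers_le.2 hbA)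
    have hlt : zpowers (z : Q) < zpowers (z : Q) ⊔ zpowers b := lt_of_le_of_ne le_sup_left fun e =>
      hbZ (zpowers_le.2 z.2 (e.symm ▸ mem_sup_right (mem_zpowers b)))
    obtain ⟨j, hj⟩ := (hQp.to_subgroup (zpowers (z : Q) ⊔ zpowers b)).exists_card_eq
    have hj2 : 2 ≤ j := by
      by_contra h
      refine hlt.ne (eq_of_le_of_card_ge le_sup_left ?_)
      rw [hj, Nat.card_zpowers, hzo]
      exact (Nat.pow_le_pow_right hp.pos (show j ≤ 1 by omega)).trans (pow_one p).le
    have hA : Nat.card A = p ^ 2 := by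
      have h1 := card_le_of_le hle
      rw [hj, hi] at h1
      have := (Nat.pow_le_pow_iff_right hp.one_lt).1 h1
      rw [hi, show i = 2 by omega]
    exact ⟨hA, eq_of_le_of_card_ge hle (by rw [hj, hA]; exact Nat.pow_le_pow_right hp.pos hj2)⟩
  have hCb : centralizer ({b} : Set Q) = A := by
    refine le_antisymm ?_ (fun u hu => mem_centralizer_singleton_iff.2
      (congrArg Subtype.val (hAab.is_comm.comm ⟨u, hu⟩ ⟨b, hbA⟩)))
    intro u hu
    rw [← hself, mem_centralizer_iff]
    intro v hv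
    rw [← hA2.2] at hv
    have h1 : zpowers (z : Q) ⊔ zpowers b ≤ centralizer {u} := sup_le
      (zpowers_le.2 (mem_centralizer_singleton_iff.2 (hzc u).symm))
      (zpowers_le.2 (mem_centralizer_singleton_iff.2 (mem_centralizer_singleton_iff.1 hu).symm))
    exact mem_centralizer_singleton_iff.1 (h1 hv)
  have hidx : A.index ≤ p := by
    obtain ⟨j, hj⟩ := hQp.index A
    have hcl : A.index ≤ Nat.card {v : A // (v : Q) ∉ center Q} := by
      conv_lhs => rw [← hCb]
      rw [index_eq_card]
      refine Nat.card_le_card_of_injective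
        (fun x : Q ⧸ centralizer ({b} : Set Q) => Quotient.liftOn' x
          (fun u => (⟨⟨u * b * u⁻¹, hAn.conj_mem b hbA u⟩, fun h => hbZ ?_⟩ :
            {v : A // (v : Q) ∉ center Q})) ?_) ?_
      · have := (inferInstance : (center Q).Normal).conj_mem _ h u⁻¹
        simpa [mul_assoc] using this
      · intro u v huv
        rw [QuotientGroup.leftRel_apply, mem_centralizer_singleton_iff] at huv
        refine Subtype.ext (Subtype.ext ?_)
        show u * b * u⁻¹ = v * b * v⁻¹
        calc u * b * u⁻¹ = u * (b * (u⁻¹ * v)) * v⁻¹ := by group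
          _ = u * (u⁻¹ * v * b) * v⁻¹ := by rw [huv]
          _ = v * b * v⁻¹ := by group
      · intro x y h
        induction x using QuotientGroup.induction_on with | _ u =>
        induction y using QuotientGroup.induction_on with | _ v =>
        have h1 : u * b * u⁻¹ = v * b * v⁻¹ := congrArg (fun t : {v : A // (v : Q) ∉ center Q} => ((t.1 : Q))) h
        refine QuotientGroup.eq.2 (mem_centralizer_singleton_iff.2 ?_)
        calc u⁻¹ * v * b = u⁻¹ * (v * b * v⁻¹) * v := by group
          _ = u⁻¹ * (u * b * u⁻¹) * v := by rw [h1]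
          _ = b * (u⁻¹ * v) := by group
    have hlt : Nat.card {v : A // (v : Q) ∉ center Q} < p ^ 2 := by
      rw [← hA2.1]
      refine Finite.card_subtype_lt (x := (1 : A)) ?_
      simp
    have := (Nat.pow_lt_pow_iff_right hp.one_lt).1 (hj ▸ hcl.trans_lt hlt)
    rw [hj]
    exact (Nat.pow_le_pow_right hp.pos (show j ≤ 1 by omega)).trans (pow_one p).le
  show Nat.card Q = p ^ 3
  refine le_antisymm ?_ (hK3 ▸ Nat.le_of_dvd Nat.card_pos (card_subgroup_dvd_card K))
  rw [← A.card_mul_index, hA2.1, pow_succ _ 2]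
  exact Nat.mul_le_mul_left _ hidx

end Cfsg.Agent.S4023
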