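import Cfsg.Statements.S4024
import Cfsg.Agent.S4023
import Cfsg.Agent.Lib.PLength.Primitive
import Cfsg.Agent.Lib.BlockA.PrincipalType
import Cfsg.Agent.Lib.Solvable.PCore
import Cfsg.Agent.Lib.Solvable.Nilpotent
import Cfsg.Agent.Lib.Comp.Subnormal

set_option autoImplicit false
open Cfsg

namespace Cfsg.Agent.S4024

/-- Let p be an odd prime and G a finite group in which any two p-subgroups of the same order are conjugate, with Sylow p-subgroup P. If H is a normal p-solvable subgroup of G whose order is divisible by p, then P is abelian, and either P ≤ H or P is cyclic. -/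
theorem result {G : Type*} [Group G] [Finite G]
    {p : ℕ} [Fact p.Prime] (hp : p ≠ 2) (hC : ∀ H K : Subgroup G, IsPGroup p H → IsPGroup p K → Nat.card H = Nat.card K →
      ∃ g : G, K = H.map (MulAut.conj g).toMonoidHom) (P : Sylow p G)
    (H : Subgroup G) [H.Normal] (hsolv : Cfsg.IsPSolvable p H) (hdiv : p ∣ Nat.card H) :
    IsMulCommutative P ∧ ((P : Subgroup G) ≤ H ∨ IsCyclic P) := by
  classical
  have hpr : p.Prime := Fact.out
  set Q : Subgroup G := (P : Subgroup G) with hQ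
  by_cases hcyc : IsCyclic Q
  · refine ⟨⟨⟨fun a b => ?_⟩⟩, Or.inr hcyc⟩
    exact mul_comm' a b
  obtain ⟨⟨h₀, hh₀⟩, hh₀o⟩ := exists_prime_orderOf_dvd_card' p hdiv
  rw [Subgroup.orderOf_mk] at hh₀o
  have hconj : ∀ x y : G, orderOf x = p → orderOf y = p → ∃ g : G, Subgroup.zpowers y =
      (Subgroup.zpowers x).map (MulAut.conj g).toMonoidHom := fun x y hx hy =>
    hC _ _ (IsPGroup.of_card (n := 1) (by rw [Nat.card_zpowers, hx, pow_one]))
      (IsPGroup.of_card (n := 1) (by rw [Nat.card_zpowers, hy, pow_one]))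
      (by rw [Nat.card_zpowers, Nat.card_zpowers, hx, hy])
  have hHmem : ∀ x : G, orderOf x = p → x ∈ H := by
    intro x hx
    obtain ⟨g, hg⟩ := hconj h₀ x hh₀o hx
    obtain ⟨u, hu, rfl⟩ := hg.le (Subgroup.mem_zpowers x)
    exact (inferInstance : H.Normal).conj_mem u (Subgroup.zpowers_le.2 hh₀ hu) g
  have hexp : ∀ x ∈ Q, x ^ p = 1 := by
    rcases Cfsg.Agent.S4023.result hC P with h | h | ⟨h, -⟩ | ⟨-, -, -, h⟩
    · exact absurd h hcyc
    · exact h.2
    · exact absurd h hp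
    · intro x hx
      have := Monoid.pow_exponent_eq_one (⟨x, hx⟩ : (P : Subgroup G))
      rw [h] at this
      exact congrArg Subtype.val this
  have hordp : ∀ x ∈ Q, x ≠ 1 → orderOf x = p := fun x hx h1 => orderOf_eq_prime (hexp x hx) h1
  refine ⟨?_, Or.inl fun x hx => ?_⟩
  swap
  · by_cases h1 : x = 1
    · rw [h1]; exact one_mem H
    · exact hHmem x (hordp x hx h1)
  -- modulo `O_{p'}(G)`
  set K := Cfsg.pPrimeCore p G with hK
  have hKn : K.Normal := CfsgLib.Solvable.pPrimeCore_normal p G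
  have hKQ : K ⊓ Q = ⊥ := by
    obtain ⟨k, hk⟩ := P.2.exists_card_eq
    exact (Subgroup.disjoint_of_coprime_natCard
      (hk ▸ Nat.Coprime.pow_right k (CfsgLib.Solvable.pPrimeCore_coprime p))).eq_bot
  set π := QuotientGroup.mk' K with hπ
  set Hb := H.map π with hHb
  have hHbn : Hb.Normal := Subgroup.Normal.map inferInstance π (QuotientGroup.mk'_surjective K)
  have hHbs : Cfsg.IsPSolvable p Hb :=
    CfsgLib.BlockA.isPSolvable_of_surjective (π.subgroupMap H) (MonoidHom.subgroupMap_surjective _ _) hsolv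
  have hh₀P : ∀ x : G, orderOf x = p → π x ≠ 1 := by
    intro x hx h
    have h1 : x ∈ K := (QuotientGroup.eq_one_iff x).1 h
    have h2 := K.orderOf_dvd_natCard h1
    rw [hx] at h2
    exact hpr.ne_one (Nat.eq_one_of_dvd_coprimes (CfsgLib.Solvable.pPrimeCore_coprime p) h2 dvd_rfl)
  have hnt : Nontrivial Hb :=
    ⟨⟨⟨π h₀, Subgroup.mem_map_of_mem π hh₀⟩, 1, fun e => hh₀P h₀ hh₀o (congrArg Subtype.val e)⟩⟩
  have hO : Cfsg.pPrimeCore p Hb = ⊥ := by
    have h1 := CfsgLib.Solvable.map_pPrimeCore_le p Hb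
    rw [CfsgLib.Solvable.pPrimeCore_quotient_eq_bot p] at h1
    exact (Subgroup.map_eq_bot_iff_of_injective _ Hb.subtype_injective).1 (le_bot_iff.1 h1)
  set V := (Cfsg.pCore p Hb).map Hb.subtype with hV
  have hV1 : V ≠ ⊥ := fun h => CfsgLib.PLength.pCore_ne_bot_of_isPSolvable hHbs hO
    ((Subgroup.map_eq_bot_iff_of_injective _ Hb.subtype_injective).1 h)
  have hVle : V ≤ Cfsg.pCore p (G ⧸ K) := CfsgLib.Solvable.map_pCore_le p Hb
  set W := Cfsg.pCore p (G ⧸ K) with hW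
  have hWn : W.Normal := CfsgLib.Solvable.pCore_normal p _
  set Pb := P.mapSurjective (QuotientGroup.mk'_surjective K) with hPb
  have hWP : W ≤ (Pb : Subgroup (G ⧸ K)) := CfsgLib.Solvable.pCore_le_sylow Pb
  -- every element of order `p` maps into any nontrivial normal `p`-subgroup
  have hinto : ∀ N : Subgroup (G ⧸ K), N.Normal → N ≤ (Pb : Subgroup (G ⧸ K)) → N ≠ ⊥ →
      ∀ x : G, orderOf x = p → π x ∈ N := by
    intro N hN hNP hN1 x hx
    obtain ⟨n, hn, hn1⟩ := N.bot_or_exists_ne_one.resolve_left hN1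
    obtain ⟨y, hy, rfl⟩ := hNP hn
    obtain ⟨g, hg⟩ := hconj y x (hordp y hy (fun e => hn1 (by rw [e, map_one]))) hx
    obtain ⟨u, hu, rfl⟩ := hg.le (Subgroup.mem_zpowers x)
    obtain ⟨j, rfl⟩ := Subgroup.mem_zpowers_iff.1 hu
    show π (g * y ^ j * g⁻¹) ∈ N
    rw [map_mul, map_mul, map_inv, map_zpow]
    exact hN.conj_mem _ (zpow_mem hn j) _
  have hWtop : W = (Pb : Subgroup (G ⧸ K)) := by
    refine le_antisymm hWP ?_
    rintro _ ⟨x, hx, rfl⟩
    by_cases h1 : x = 1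
    · rw [h1, map_one]; exact one_mem W
    · exact hinto W hWn hWP (fun e => hV1 (le_bot_iff.1 (e ▸ hVle))) x (hordp x hx h1)
  have hWnil : Group.IsNilpotent W := (CfsgLib.Solvable.pCore_isPGroup p).isNilpotent
  have hW1 : W ≠ ⊥ := fun e => hV1 (le_bot_iff.1 (e ▸ hVle))
  set Z := (Subgroup.center W).map W.subtype with hZ
  have hZn : Z.Normal := inferInstance
  have hZ1 : Z ≠ ⊥ := by
    intro h
    have : Nontrivial W := (Subgroup.nontrivial_iff_ne_bot W).2 hW1
    have := (CfsgLib.Solvable.pCore_isPGroup (G := G ⧸ K) p).center_nontrivial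
    exact (Subgroup.nontrivial_iff_ne_bot _).1 this
      ((Subgroup.map_eq_bot_iff_of_injective _ W.subtype_injective).1 h)
  refine ⟨⟨fun a b => ?_⟩⟩
  by_cases ha : (a : G) = 1
  · rw [show a = 1 from Subtype.ext ha, one_mul, mul_one]
  have hZmem := hinto Z hZn ((Subgroup.map_subtype_le _).trans hWP) hZ1 a (hordp a a.2 ha)
  obtain ⟨c, hc, hca⟩ := hZmem
  have hbW : π (b : G) ∈ W := hWtop.symm ▸ Subgroup.mem_map_of_mem π b.2
  have h1 : π ((a : G) * b * (a : G)⁻¹ * (b : G)⁻¹) = 1 := by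
    have hc' : (⟨π (b : G), hbW⟩ : W) * c = c * ⟨π (b : G), hbW⟩ := Subgroup.mem_center_iff.1 hc _
    have hc'' : π (b : G) * π (a : G) = π (a : G) * π (b : G) := by
      rw [← hca]; exact congrArg Subtype.val hc'
    rw [map_mul, map_mul, map_mul, map_inv, map_inv, ← hc'', mul_inv_cancel_right, mul_inv_cancel]
  have h2 : (a : G) * b * (a : G)⁻¹ * (b : G)⁻¹ ∈ K ⊓ Q :=
    ⟨(QuotientGroup.eq_one_iff _).1 h1, Q.mul_mem (Q.mul_mem (Q.mul_mem a.2 b.2) (Q.inv_mem a.2)) (Q.inv_mem b.2)⟩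
  rw [hKQ, Subgroup.mem_bot] at h2
  exact Subtype.ext (mul_inv_eq_iff_eq_mul.1 (mul_inv_eq_one.1 h2))

end Cfsg.Agent.S4024
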