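import Cfsg.Statements.S4027
import Cfsg.Agent.Lib.StructB.NormalTwo
import Cfsg.Agent.Lib.StructB.Misc

set_option autoImplicit false
open Cfsg

namespace Cfsg.Agent.S4027

/-- Let G be a finite group in which every element x of odd order satisfies N_G(⟨x⟩) = C_G(x). Then the Sylow 2-subgroups of G are normal. -/
theorem result {G : Type*} [Group G] [Finite G]
    (hirr : ∀ x : G, (∀ r : ℕ, r.Prime → r ∣ orderOf x → r ≠ 2) →
      Subgroup.normalizer ((Subgroup.zpowers x : Subgroup G) : Set G) ≤ Subgroup.centralizer {x}) (P : Sylow 2 G) :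
    (P : Subgroup G).Normal := by
  refine CfsgLib.StructB.sylow_two_normal_of_not_inverted (fun x g hodd hg => ?_) P
  have hN : g ∈ Subgroup.normalizer ((Subgroup.zpowers x : Subgroup G) : Set G) := by
    refine CfsgLib.StructB.mem_normalizer_of_conj_le ?_
    rintro z ⟨i, rfl⟩
    exact ⟨-i, by rw [← conj_zpow, hg, inv_zpow']⟩
  have hc := Subgroup.mem_centralizer_singleton_iff.1 (hirr x (fun r hr hd e => by
    subst e
    exact (Nat.not_even_iff_odd.2 hodd) (even_iff_two_dvd.2 hd)) hN)
  rw [hc, mul_inv_cancel_right] at hg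
  have h2 : orderOf x ∣ 2 := orderOf_dvd_of_pow_eq_one (by rw [pow_two]; exact mul_eq_one_iff_eq_inv.2 hg)
  rcases (Nat.dvd_prime Nat.prime_two).1 h2 with h1 | h1
  · exact orderOf_eq_one_iff.1 h1
  · rw [h1] at hodd; exact absurd hodd (by decide)

end Cfsg.Agent.S4027
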