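import Cfsg.Statements.S4028
import Mathlib
import Cfsg.Agent.Lib.StructB.Misc

set_option autoImplicit false
open Cfsg
open scoped Pointwise

namespace Cfsg.Agent.S4028

/-- Let G be a finite group with Sylow 2-subgroup P. Then N_G(⟨x⟩) = C_G(x) holds for every 2-element x of G if and only if N_P(⟨y⟩) = C_P(y) holds for every y ∈ P (computed inside P). -/
theorem result {G : Type*} [Group G] [Finite G] (P : Sylow 2 G) :
    (∀ x : G, (∀ r : ℕ, r.Prime → r ∣ orderOf x → r = 2) →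
      Subgroup.normalizer ((Subgroup.zpowers x : Subgroup G) : Set G) ≤ Subgroup.centralizer {x}) ↔
    (∀ y : ↥(P : Subgroup G), Subgroup.normalizer ((Subgroup.zpowers y : Subgroup ↥(P : Subgroup G)) : Set ↥(P : Subgroup G)) ≤
        Subgroup.centralizer {y}) := by
  classical
  haveI : Fact (Nat.Prime 2) := ⟨Nat.prime_two⟩
  constructor
  · intro h y k hk
    have h1 : ∀ r : ℕ, r.Prime → r ∣ orderOf (y : G) → r = 2 := by
      intro r hr hd
      obtain ⟨a, ha⟩ := IsPGroup.iff_orderOf.1 P.isPGroup' y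
      rw [Subgroup.orderOf_coe, ha] at hd
      exact (Nat.prime_dvd_prime_iff_eq hr Nat.prime_two).1 (hr.dvd_of_dvd_pow hd)
    have h2 : (k : G) ∈ Subgroup.normalizer ((Subgroup.zpowers (y : G) : Subgroup G) : Set G) := by
      refine CfsgLib.StructB.mem_normalizer_of_conj_le fun z hz => ?_
      obtain ⟨i, rfl⟩ := hz
      obtain ⟨j, hj⟩ := (Subgroup.mem_normalizer_iff.1 hk (y ^ i)).1 ⟨i, rfl⟩
      exact ⟨j, by simpa using congrArg Subtype.val hj⟩
    have := h y h1 h2
    rw [Subgroup.mem_centralizer_singleton_iff] at this ⊢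
    exact Subtype.ext this
  · intro h x hx g hg
    by_contra hgc
    obtain ⟨e, he⟩ : ∃ e, orderOf x = 2 ^ e :=
      ⟨_, Nat.eq_prime_pow_of_unique_prime_dvd (orderOf_pos x).ne' fun {r} hr hd => hx r hr hd⟩
    obtain ⟨r, hr⟩ := (isOfFinOrder_of_finite x).mem_powers_iff_mem_zpowers.2
      ((Subgroup.mem_normalizer_iff.1 hg x).1 (Subgroup.mem_zpowers x))
    simp only at hr
    have hiter : ∀ i : ℕ, g ^ i * x * (g ^ i)⁻¹ = x ^ (r ^ i) := by
      intro i
      induction i with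
      | zero => simp
      | succ i ih =>
        calc g ^ (i + 1) * x * (g ^ (i + 1))⁻¹ = g * (g ^ i * x * (g ^ i)⁻¹) * g⁻¹ := by rw [pow_succ']; group
          _ = (g * x * g⁻¹) ^ (r ^ i) := by rw [ih, conj_pow]
          _ = x ^ (r ^ (i + 1)) := by rw [← hr, ← pow_mul, pow_succ', mul_comm]
    -- a power of two of `g` centralises `x`
    have hge : g ^ (2 ^ e) ∈ Subgroup.centralizer ({x} : Set G) := by
      rw [Subgroup.mem_centralizer_singleton_iff, ← mul_inv_eq_iff_eq_mul, hiter]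
      conv_rhs => rw [← pow_one x]
      rw [pow_eq_pow_iff_modEq, he]
      rcases Nat.eq_zero_or_pos e with rfl | hepos
      · simp [Nat.ModEq]; omega
      have hrodd : r ≡ 1 [MOD 2] := by
        rcases Nat.mod_two_eq_zero_or_one r with h0 | h0
        · exfalso
          have h1 : orderOf (g * x * g⁻¹) = 2 ^ e := ((MulAut.conj g).orderOf_eq x).trans he
          obtain ⟨r', rfl⟩ : 2 ∣ r := Nat.dvd_of_mod_eq_zero h0
          rw [← hr, pow_mul] at h1
          have h2 : orderOf (x ^ 2) = 2 ^ (e - 1) := by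
            rw [orderOf_pow_of_dvd two_ne_zero (he ▸ dvd_pow_self 2 hepos.ne'), he]
            obtain ⟨e', rfl⟩ : ∃ e', e = e' + 1 := ⟨e - 1, by omega⟩
            rw [pow_succ, Nat.mul_div_cancel _ two_pos, Nat.add_sub_cancel]
          have h3 : orderOf ((x ^ 2) ^ r') ∣ 2 ^ (e - 1) := h2 ▸ orderOf_pow_dvd r'
          rw [h1, Nat.pow_dvd_pow_iff_le_right (by norm_num)] at h3
          omega
        · exact h0
      exact (CfsgLib.StructB.pow_prime_pow_modEq hrodd e).of_dvd (pow_dvd_pow 2 (Nat.le_succ e))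
    -- the two-part of `g`
    obtain ⟨s, o, ho, hgo⟩ := Nat.exists_eq_pow_mul_and_not_dvd (orderOf_pos g).ne' 2 (by norm_num)
    have hgoC : g ^ o ∉ Subgroup.centralizer ({x} : Set G) := fun h1 => hgc (by
      have hcop : Nat.gcd o (2 ^ e) = 1 :=
        (Nat.Coprime.pow_right e ((Nat.prime_two.coprime_iff_not_dvd).2 ho).symm).gcd_eq_one
      have h3 := Nat.gcd_eq_gcd_ab o (2 ^ e)
      rw [hcop] at h3
      have : g = (g ^ o) ^ (Nat.gcdA o (2 ^ e)) * (g ^ (2 ^ e)) ^ (Nat.gcdB o (2 ^ e)) := by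
        rw [← zpow_natCast g o, ← zpow_natCast g (2 ^ e), ← zpow_mul, ← zpow_mul, ← zpow_add, ← h3, Nat.cast_one, zpow_one]
      rw [this]
      exact mul_mem (zpow_mem h1 _) (zpow_mem hge _))
    have hz : IsPGroup 2 (Subgroup.zpowers (g ^ o)) := by
      refine IsPGroup.of_card (n := s) ?_
      rw [Nat.card_zpowers, orderOf_pow_of_dvd (by intro h0; rw [h0] at ho; exact ho (dvd_zero 2))
        (Dvd.intro_left _ hgo.symm), hgo, Nat.mul_div_cancel _ (Nat.pos_of_ne_zero (by intro h0; rw [h0] at ho; exact ho (dvd_zero 2)))]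
    obtain ⟨T, hT⟩ := (hz.to_sup_of_normal_right' (IsPGroup.of_card (n := e) (by rw [Nat.card_zpowers, he]) :
      IsPGroup 2 (Subgroup.zpowers x)) (Subgroup.zpowers_le.2 (pow_mem hg o))).exists_le_sylow
    obtain ⟨c, hc⟩ := MulAction.exists_smul_eq G T P
    have hmem : ∀ z ∈ (T : Subgroup G), c * z * c⁻¹ ∈ (P : Subgroup G) := fun z hz' => by
      rw [← hc]; exact ⟨z, hz', rfl⟩
    have hxP := hmem x (hT (Subgroup.mem_sup_right (Subgroup.mem_zpowers x)))
    have hgP := hmem (g ^ o) (hT (Subgroup.mem_sup_left (Subgroup.mem_zpowers _)))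
    have h5 : (⟨_, hgP⟩ : (P : Subgroup G)) ∈ Subgroup.normalizer
        ((Subgroup.zpowers (⟨_, hxP⟩ : (P : Subgroup G)) : Subgroup (P : Subgroup G)) : Set (P : Subgroup G)) := by
      refine CfsgLib.StructB.mem_normalizer_of_conj_le ?_
      rintro z ⟨i, rfl⟩
      refine ⟨((r ^ o : ℕ) : ℤ) * i, Subtype.ext ?_⟩
      show (c * x * c⁻¹) ^ (((r ^ o : ℕ) : ℤ) * i) = c * g ^ o * c⁻¹ * (c * x * c⁻¹) ^ i * (c * g ^ o * c⁻¹)⁻¹
      rw [conj_zpow, conj_zpow, zpow_mul, zpow_natCast, ← hiter, conj_zpow]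
      group
    have h6 := Subgroup.mem_centralizer_singleton_iff.1 (h _ h5)
    refine hgoC (Subgroup.mem_centralizer_singleton_iff.2 ?_)
    have h7 : c * g ^ o * c⁻¹ * (c * x * c⁻¹) = c * x * c⁻¹ * (c * g ^ o * c⁻¹) := congrArg Subtype.val h6
    calc g ^ o * x = c⁻¹ * (c * g ^ o * c⁻¹ * (c * x * c⁻¹)) * c := by group
      _ = c⁻¹ * (c * x * c⁻¹ * (c * g ^ o * c⁻¹)) * c := by rw [h7]
      _ = x * g ^ o := by group

end Cfsg.Agent.S4028
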