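import Cfsg.Statements.S4029
import Cfsg.Agent.S4058
import Cfsg.Agent.Lib.Char.Fixed

set_option autoImplicit false
open Cfsg

namespace Cfsg.Agent.S4029

open scoped ComplexConjugate

/-- A real element is an involution or trivial. -/
theorem sq_eq_one_of_isConj_inv {P : Type*} [Group P] [Finite P]
    (hirr : ∀ y : P, Subgroup.normalizer ((Subgroup.zpowers y : Subgroup P) : Set P) ≤ Subgroup.centralizer {y})
    {y : P} (h : IsConj y y⁻¹) : y * y = 1 := by
  obtain ⟨g, hg⟩ := isConj_iff.1 h
  have hN : g ∈ Subgroup.normalizer ((Subgroup.zpowers y : Subgroup P) : Set P) := by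
    rw [Subgroup.mem_normalizer_iff]
    intro z
    constructor
    · intro hz
      obtain ⟨k, rfl⟩ := Subgroup.mem_zpowers_iff.1 hz
      rw [← conj_zpow, hg, inv_zpow']
      exact Subgroup.zpow_mem_zpowers y _
    · intro hz
      obtain ⟨k, hk⟩ := Subgroup.mem_zpowers_iff.1 hz
      have : z = y ^ (-k) := by
        have h1 : g * y ^ (-k) * g⁻¹ = g * z * g⁻¹ := by
          rw [← conj_zpow, hg, inv_zpow', neg_neg, hk]
        exact (mul_left_cancel (mul_right_cancel h1)).symm
      rw [this]
      exact Subgroup.zpow_mem_zpowers y _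
  have hc : y * g = g * y := Subgroup.mem_centralizer_singleton_iff.1 (hirr y hN) |>.symm
  rw [← hc, mul_inv_cancel_right] at hg
  exact eq_inv_iff_mul_eq_one.1 hg

theorem real_linear_count {P : Type*} [Group P] [Finite P] (hP : IsPGroup 2 P) :
    Nat.card (P ⧸ frattini P) ≤
      Nat.card {χ : Cfsg.IrrCharacter P // ∀ g : P, ((χ : P → ℂ) g).im = 0} := by
  classical
  have := Fintype.ofFinite P
  haveI : Fact (Nat.Prime 2) := ⟨Nat.prime_two⟩
  have hsq : ∀ x : P ⧸ frattini P, x * x = 1 := fun x => by
    obtain ⟨g, rfl⟩ := QuotientGroup.mk'_surjective (frattini P) x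
    rw [← pow_two, ← map_pow, QuotientGroup.mk'_apply, QuotientGroup.eq_one_iff]
    exact Cfsg.Agent.S4058.sq_mem_frattini hP g
  letI : CommGroup (P ⧸ frattini P) :=
    { (inferInstance : Group (P ⧸ frattini P)) with
      mul_comm := fun x y => by
        have h1 : x⁻¹ = x := inv_eq_of_mul_eq_one_right (hsq x)
        have h2 : y⁻¹ = y := inv_eq_of_mul_eq_one_right (hsq y)
        have h3 : (x * y)⁻¹ = x * y := inv_eq_of_mul_eq_one_right (hsq (x * y))
        rw [← h3, mul_inv_rev, h1, h2] }
  haveI : NeZero (Monoid.exponent (P ⧸ frattini P) : ℕ) :=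
    NeZero.of_pos (Nat.pos_of_ne_zero (Monoid.exponent_ne_zero.2 ⟨2, two_pos, fun x => by rw [pow_two]; exact hsq x⟩))
  have hLc : Nat.card ((P ⧸ frattini P) →* ℂˣ) = Nat.card (P ⧸ frattini P) :=
    CommGroup.card_monoidHom_of_hasEnoughRootsOfUnity (P ⧸ frattini P) ℂ
  have : Finite (Cfsg.IrrCharacter P) := inferInstance
  rw [← hLc]
  refine Nat.card_le_card_of_injective
    (fun l => ⟨⟨fun g => ((l.comp (QuotientGroup.mk' (frattini P))) g : ℂ),
      CfsgLib.Char.isIrrCharacter_linear _⟩, fun g => ?_⟩) ?_
  · show ((l (g : P ⧸ frattini P) : ℂ)).im = 0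
    rcases mul_self_eq_one_iff.1 (Cfsg.Agent.S4058.sq_eq_one hP l g) with h | h <;> simp [h]
  · intro a b hab
    refine MonoidHom.ext fun x => ?_
    obtain ⟨g, rfl⟩ := QuotientGroup.mk'_surjective (frattini P) x
    exact Units.ext (congrFun (congrArg Subtype.val (congrArg Subtype.val hab)) g)

/-- Let P be a finite 2-group in which N_P(⟨y⟩) = C_P(y) for every y ∈ P. If s is the number of conjugacy classes of involutions of P, then #(P/Φ(P)) ≤ s + 1; in particular the subgroup generated by the involutions of P has order at least #(P/Φ(P)). -/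
theorem result {P : Type*} [Group P] [Finite P] (hP : IsPGroup 2 P)
    (hirr : ∀ y : P, Subgroup.normalizer ((Subgroup.zpowers y : Subgroup P) : Set P) ≤ Subgroup.centralizer {y}) :
    Nat.card (P ⧸ frattini P) ≤ Nat.card {c : ConjClasses P // ∃ y : P, ConjClasses.mk y = c ∧ orderOf y = 2} + 1 ∧
    Nat.card (P ⧸ frattini P) ≤ Nat.card (Subgroup.closure {y : P | orderOf y = 2}) := by
  classical
  have : Finite (ConjClasses P) := Finite.of_surjective _ ConjClasses.mk_surjective
  let S := {c : ConjClasses P // ∃ y : P, ConjClasses.mk y = c ∧ orderOf y = 2}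
  let R := {C : ConjClasses P // ∀ g : P, ConjClasses.mk g = C → IsConj g g⁻¹}
  have h1 : Nat.card (P ⧸ frattini P) ≤ Nat.card S + 1 := by
    refine (real_linear_count hP).trans ?_
    rw [CfsgLib.Char.natCard_real_irr]
    rw [← Finite.card_option]
    refine Nat.card_le_card_of_injective (α := R) (fun C =>
      if h : C.1 = ConjClasses.mk 1 then none else some ⟨C.1, ?_⟩) ?_
    · obtain ⟨g, hg⟩ := ConjClasses.mk_surjective C.1
      refine ⟨g, hg, orderOf_eq_prime ?_ ?_⟩
      · rw [pow_two]; exact sq_eq_one_of_isConj_inv hirr (C.2 g hg)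
      · rintro rfl; exact h hg.symm
    · intro a b hab
      by_cases ha : a.1 = ConjClasses.mk 1 <;> by_cases hb : b.1 = ConjClasses.mk 1
      · exact Subtype.ext (ha.trans hb.symm)
      · simp [ha, hb] at hab
      · simp [ha, hb] at hab
      · simp only [ha, hb, dif_neg, not_false_eq_true, Option.some.injEq] at hab
        have h' := congrArg Subtype.val hab
        exact Subtype.ext h'
  refine ⟨h1, h1.trans ?_⟩
  rw [← Finite.card_option]
  refine Nat.card_le_card_of_injective (fun o : Option S => o.elim ⟨1, one_mem _⟩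
    (fun c => ⟨c.2.choose, Subgroup.subset_closure c.2.choose_spec.2⟩)) ?_
  intro a b hab
  have hne : ∀ c : S, c.2.choose ≠ 1 := fun c h => by
    have := c.2.choose_spec.2
    rw [h, orderOf_one] at this; omega
  rcases a with _ | a <;> rcases b with _ | b
  · rfl
  · exact absurd (congrArg Subtype.val hab).symm (hne b)
  · exact absurd (congrArg Subtype.val hab) (hne a)
  · have h : a.2.choose = b.2.choose := congrArg Subtype.val hab
    exact congrArg some (Subtype.ext (a.2.choose_spec.1.symm.trans ((congrArg ConjClasses.mk h).trans b.2.choose_spec.1)))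

end Cfsg.Agent.S4029
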