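import Cfsg.Statements.S4032
import Mathlib
import Cfsg.Agent.Lib.Coprime.Complements

set_option autoImplicit false
open Cfsg
open scoped Pointwise

namespace Cfsg.Agent.S4032

/-- Let π be a set of primes and G a finite group in which N_G(⟨x⟩) = C_G(x) for every π-element x. If N is a normal subgroup of G whose order is divisible by no prime of π, then G/N has the same property: N_{G/N}(⟨y⟩) = C_{G/N}(y) for every π-element y of G/N. -/
theorem result {G : Type*} [Group G] [Finite G] (π : Set ℕ)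
    (hirr : ∀ x : G, (∀ r : ℕ, r.Prime → r ∣ orderOf x → r ∈ π) →
      Subgroup.normalizer ((Subgroup.zpowers x : Subgroup G) : Set G) ≤ Subgroup.centralizer {x})
    (N : Subgroup G) [N.Normal] (hN : ∀ r : ℕ, r.Prime → r ∣ Nat.card N → r ∉ π) :
    ∀ y : G ⧸ N, (∀ r : ℕ, r.Prime → r ∣ orderOf y → r ∈ π) →
      Subgroup.normalizer ((Subgroup.zpowers y : Subgroup (G ⧸ N)) : Set (G ⧸ N)) ≤ Subgroup.centralizer {y} := by
  intro y hy g hg
  classical
  obtain ⟨g, rfl⟩ := QuotientGroup.mk_surjective g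
  obtain ⟨w, rfl⟩ := QuotientGroup.mk_surjective y
  set m := orderOf (QuotientGroup.mk w : G ⧸ N) with hm
  have hcop : Nat.Coprime (Nat.card N) m := Nat.coprime_of_dvd fun r hr h1 h2 => hN r hr h1 (hy r hr h2)
  obtain ⟨u, hu⟩ : ∃ u, Nat.card N * u ≡ 1 [MOD m] := by
    rcases Nat.eq_or_lt_of_le (show 1 ≤ m from orderOf_pos _) with h1 | h1
    · exact ⟨0, by rw [← h1]; exact Nat.modEq_one⟩
    · obtain ⟨u, -, hu⟩ := Nat.exists_mul_mod_eq_one_of_coprime hcop h1
      exact ⟨u, by rw [Nat.ModEq, hu, Nat.mod_eq_of_lt h1]⟩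
  set x := w ^ (Nat.card N * u) with hx
  have hxm : x ^ m = 1 := by
    have h1 : w ^ m ∈ N := by rw [← QuotientGroup.eq_one_iff, QuotientGroup.mk_pow, hm, pow_orderOf_eq_one]
    rw [hx, ← pow_mul, mul_comm, pow_mul, pow_mul]
    have h2 : (⟨w ^ m, h1⟩ : N) ^ Nat.card N = 1 := pow_card_eq_one'
    have h3 : (w ^ m) ^ Nat.card N = 1 := congrArg Subtype.val h2
    rw [h3, one_pow]
  have hxy : (QuotientGroup.mk x : G ⧸ N) = QuotientGroup.mk w := by
    rw [hx, QuotientGroup.mk_pow]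
    exact (pow_eq_pow_iff_modEq.2 hu).trans (pow_one _)
  have hxo : orderOf x ∣ m := orderOf_dvd_of_pow_eq_one hxm
  -- conjugate of `⟨x⟩` by a lift
  set A := Subgroup.zpowers x with hA
  set B := A.map (MulAut.conj g).toMonoidHom with hB
  have hnormN : ∀ H : Subgroup G, H ≤ Subgroup.normalizer (N : Set G) := fun H => by
    rw [Subgroup.normalizer_eq_top]; exact le_top
  have hAB : N ⊔ A = N ⊔ B := by
    have key : ∀ z : G, (QuotientGroup.mk z : G ⧸ N) ∈ Subgroup.zpowers (QuotientGroup.mk x : G ⧸ N) → z ∈ N ⊔ A := by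
      intro z ⟨i, hi⟩
      have h1 : (x ^ i)⁻¹ * z ∈ N := QuotientGroup.eq.1 ((QuotientGroup.mk_zpow N x i).trans hi)
      have := mul_mem (Subgroup.mem_sup_right (zpow_mem (Subgroup.mem_zpowers x) i) : x ^ i ∈ N ⊔ A)
        (Subgroup.mem_sup_left h1)
      rwa [mul_inv_cancel_left] at this
    have hgy : ∀ z, z ∈ Subgroup.zpowers (QuotientGroup.mk x : G ⧸ N) ↔
        (QuotientGroup.mk g : G ⧸ N) * z * (QuotientGroup.mk g : G ⧸ N)⁻¹ ∈ Subgroup.zpowers (QuotientGroup.mk x : G ⧸ N) := by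
      rw [hxy]; exact Subgroup.mem_normalizer_iff.1 hg
    refine le_antisymm (sup_le le_sup_left ?_) (sup_le le_sup_left ?_)
    · rw [hA, Subgroup.zpowers_le]
      have h1 : (QuotientGroup.mk (g⁻¹ * x * g) : G ⧸ N) ∈ Subgroup.zpowers (QuotientGroup.mk x : G ⧸ N) := by
        rw [hgy, ← QuotientGroup.mk_inv, ← QuotientGroup.mk_mul, ← QuotientGroup.mk_mul,
          show g * (g⁻¹ * x * g) * g⁻¹ = x by group]
        exact Subgroup.mem_zpowers _
      obtain ⟨a, ha, b, hb, hab⟩ := Subgroup.mem_sup_of_normal_left.1 (key _ h1)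
      have hx' : x = (g * a * g⁻¹) * (g * b * g⁻¹) := by
        rw [show (g * a * g⁻¹) * (g * b * g⁻¹) = g * (a * b) * g⁻¹ by group, hab]; group
      rw [hx']
      exact mul_mem (Subgroup.mem_sup_left ((inferInstance : N.Normal).conj_mem a ha g))
        (Subgroup.mem_sup_right ⟨b, hb, rfl⟩)
    · rintro z ⟨a, ha, rfl⟩
      refine key _ ?_
      show (QuotientGroup.mk (g * a * g⁻¹) : G ⧸ N) ∈ _
      rw [QuotientGroup.mk_mul, QuotientGroup.mk_mul, QuotientGroup.mk_inv, ← hgy]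
      obtain ⟨i, rfl⟩ := ha
      exact ⟨i, (QuotientGroup.mk_zpow N x i).symm⟩
  have hAc : (Nat.card A).Coprime (Nat.card N) := by
    rw [hA, Nat.card_zpowers]
    exact (hcop.coprime_dvd_right hxo).symm
  obtain ⟨k, hk, hkB⟩ := CfsgLib.Coprime.exists_conj_eq_of_coprime (hnormN A) (hnormN B) hAB hAc
    (by rw [hB, Subgroup.card_map_of_injective (MulAut.conj g).injective]; exact hAc) (Or.inl inferInstance)
  have hn : k⁻¹ * g ∈ Subgroup.normalizer (A : Set G) := by
    rw [Subgroup.mem_normalizer_iff]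
    intro z
    constructor
    · intro hz
      have h1 : g * z * g⁻¹ ∈ B := ⟨z, hz, rfl⟩
      rw [hkB] at h1
      obtain ⟨a, ha, hae⟩ := h1
      have hae' : k * a * k⁻¹ = g * z * g⁻¹ := hae
      rw [show k⁻¹ * g * z * (k⁻¹ * g)⁻¹ = k⁻¹ * (g * z * g⁻¹) * k by group, ← hae',
        show k⁻¹ * (k * a * k⁻¹) * k = a by group]
      exact ha
    · intro hz
      have h1 : k * (k⁻¹ * g * z * (k⁻¹ * g)⁻¹) * k⁻¹ ∈ B := hkB ▸ ⟨_, hz, rfl⟩
      obtain ⟨a, ha, hae⟩ := h1
      have hae' : g * a * g⁻¹ = k * (k⁻¹ * g * z * (k⁻¹ * g)⁻¹) * k⁻¹ := hae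
      rw [show k * (k⁻¹ * g * z * (k⁻¹ * g)⁻¹) * k⁻¹ = g * z * g⁻¹ by group] at hae'
      rwa [← mul_left_cancel (mul_right_cancel hae')]
  have hc := hirr x (fun r hr h1 => hy r hr (h1.trans hxo)) hn
  rw [Subgroup.mem_centralizer_singleton_iff] at hc ⊢
  have := congrArg (QuotientGroup.mk' N) hc
  simp only [map_mul, show QuotientGroup.mk' N k⁻¹ = 1 from (QuotientGroup.eq_one_iff _).2 (inv_mem hk), one_mul] at this
  rw [← hxy]
  exact this

end Cfsg.Agent.S4032
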