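import Cfsg.Statements.S4035
import Mathlib
import Cfsg.Agent.Lib.StructB.Misc

set_option autoImplicit false
open Cfsg
open scoped Pointwise

namespace Cfsg.Agent.S4035

/-- Let G be a finite group and p a prime such that p divides the size of no conjugacy class of p-regular elements (elements of order prime to p). Then G is the internal direct product of a Sylow p-subgroup P and a normal subgroup H of order prime to p: P is normal, P ⊓ H = 1 and PH = G. -/
theorem result {G : Type*} [Group G] [Finite G] {p : ℕ} [Fact p.Prime]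
    (h : ∀ x : G, (orderOf x).Coprime p → ¬ p ∣ (ConjClasses.mk x).carrier.ncard) (P : Sylow p G) :
    (P : Subgroup G).Normal ∧ ∃ H : Subgroup G, H.Normal ∧ ¬ p ∣ Nat.card H ∧
      (P : Subgroup G) ⊓ H = ⊥ ∧ (P : Subgroup G) ⊔ H = ⊤ := by
  classical
  have hp : p.Prime := Fact.out
  set C := Subgroup.centralizer ((P : Subgroup G) : Set G) with hC
  have hCn : C ≤ Subgroup.normalizer ((P : Subgroup G) : Set G) := Subgroup.centralizer_le_normalizer _
  -- `p`-regular elements centralise a conjugate of `P`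
  have hreg : ∀ v : G, ¬ p ∣ orderOf v → ∀ u : G, (∃ a : ℕ, orderOf u = p ^ a) → u * v = v * u →
      ∃ c : G, c * v * c⁻¹ ∈ C ∧ c * u * c⁻¹ ∈ (P : Subgroup G) := by
    intro v hv u ⟨a, hu⟩ huv
    set D := Subgroup.centralizer ({v} : Set G) with hD
    have hcl := h v ((hp.coprime_iff_not_dvd.2 hv).symm)
    have hidx : ¬ p ∣ D.index := by
      have h1 := MulAction.index_stabilizer (ConjAct G) v
      rw [ConjAct.orbit_eq_carrier_conjClasses, ConjAct.stabilizer_eq_centralizer] at h1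
      rw [show D.index = (ConjClasses.mk v).carrier.ncard from h1]
      exact hcl
    obtain ⟨S, hS⟩ := (IsPGroup.of_card (n := a) (by rw [Nat.card_zpowers, Subgroup.orderOf_mk, hu]) :
      IsPGroup p (Subgroup.zpowers (⟨u, Subgroup.mem_centralizer_singleton_iff.2 huv⟩ : D))).exists_le_sylow
    set S' := (S : Subgroup D).map D.subtype with hS'
    obtain ⟨T, hT⟩ := (S.isPGroup'.map D.subtype).exists_le_sylow
    have hST : S' = (T : Subgroup G) := by
      refine Subgroup.eq_of_le_of_card_ge hT (le_of_eq ?_)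
      rw [hS', Subgroup.card_map_of_injective D.subtype_injective, T.card_eq_multiplicity, S.card_eq_multiplicity]
      congr 1
      rw [← D.card_mul_index, Nat.factorization_mul Nat.card_pos.ne' Subgroup.index_ne_zero_of_finite,
        Finsupp.add_apply, Nat.factorization_eq_zero_of_not_dvd hidx, add_zero]
    obtain ⟨c, hc⟩ := MulAction.exists_smul_eq G T P
    have hmem : ∀ z ∈ (T : Subgroup G), c * z * c⁻¹ ∈ (P : Subgroup G) := fun z hz' => by
      rw [← hc]; exact ⟨z, hz', rfl⟩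
    refine ⟨c, Subgroup.mem_centralizer_iff.2 fun z hz => ?_, hmem u (hST ▸ ⟨_, hS (Subgroup.mem_zpowers _), rfl⟩)⟩
    have hz' : c⁻¹ * z * c ∈ (T : Subgroup G) := by
      rw [← hc] at hz
      obtain ⟨z0, hz0, rfl⟩ := hz
      show c⁻¹ * (c * z0 * c⁻¹) * c ∈ _
      rw [show c⁻¹ * (c * z0 * c⁻¹) * c = z0 by group]
      exact hz0
    rw [← hST] at hz'
    obtain ⟨z1, -, hz1⟩ := hz'
    have h2 := Subgroup.mem_centralizer_singleton_iff.1 z1.2
    rw [show D.subtype z1 = (z1 : G) from rfl] at hz1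
    rw [hz1] at h2
    calc z * (c * v * c⁻¹) = c * (c⁻¹ * z * c * v) * c⁻¹ := by group
      _ = c * (v * (c⁻¹ * z * c)) * c⁻¹ := by rw [h2]
      _ = c * v * c⁻¹ * z := by group
  have htop : (P : Subgroup G) ⊔ C = ⊤ := by
    refine CfsgLib.StructB.eq_top_of_conj_cover _ fun g => ?_
    obtain ⟨s, o, ho, hgo⟩ := Nat.exists_eq_pow_mul_and_not_dvd (orderOf_pos g).ne' p hp.ne_one
    have hcop : Nat.gcd o (p ^ s) = 1 := (Nat.Coprime.pow_right s ((hp.coprime_iff_not_dvd).2 ho).symm).gcd_eq_one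
    have h3 := Nat.gcd_eq_gcd_ab o (p ^ s)
    rw [hcop] at h3
    set u := (g ^ o) ^ (Nat.gcdA o (p ^ s)) with hu
    set v := (g ^ (p ^ s)) ^ (Nat.gcdB o (p ^ s)) with hv
    have hg : g = u * v := by
      rw [hu, hv, ← zpow_natCast g o, ← zpow_natCast g (p ^ s), ← zpow_mul, ← zpow_mul, ← zpow_add, ← h3, Nat.cast_one, zpow_one]
    have hord : ∀ (z : G) (i : ℤ) (n : ℕ), z ^ n = 1 → orderOf (z ^ i) ∣ n := fun z i n hz => by
      rw [orderOf_dvd_iff_pow_eq_one, ← zpow_natCast, ← zpow_mul, mul_comm, zpow_mul, zpow_natCast, hz, one_zpow]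
    have hou : ∃ a, orderOf u = p ^ a := by
      obtain ⟨a, -, ha⟩ := (Nat.dvd_prime_pow hp).1 (hord (g ^ o) _ (p ^ s) (by
        rw [← pow_mul, mul_comm, ← hgo, pow_orderOf_eq_one]))
      exact ⟨a, ha⟩
    have hov : ¬ p ∣ orderOf v := fun hd => ho (hd.trans (hord (g ^ (p ^ s)) _ o (by
      rw [← pow_mul, ← hgo, pow_orderOf_eq_one])))
    obtain ⟨c, hcv, hcu⟩ := hreg v hov u hou
      ((((Commute.refl g).pow_pow o (p ^ s)).zpow_zpow _ _).eq)
    refine ⟨c, ?_⟩
    rw [hg, show c * (u * v) * c⁻¹ = c * u * c⁻¹ * (c * v * c⁻¹) by group]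
    exact mul_mem (Subgroup.mem_sup_left hcu) (Subgroup.mem_sup_right hcv)
  have hPn : (P : Subgroup G).Normal :=
    Subgroup.normalizer_eq_top_iff.1 (top_le_iff.1 (htop ▸ sup_le Subgroup.le_normalizer hCn))
  refine ⟨hPn, ?_⟩
  have hCnormal : C.Normal := inferInstance
  obtain ⟨H, hH⟩ := Subgroup.exists_right_complement'_of_coprime (N := (P : Subgroup G)) P.card_coprime_index
  have hpH : ¬ p ∣ Nat.card H := by rw [← hH.symm.index_eq_card]; exact P.not_dvd_index
  have hHC : H ≤ C := fun g hg => by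
    obtain ⟨c, hcv, -⟩ := hreg g (fun hd => hpH (hd.trans (Subgroup.orderOf_dvd_natCard _ hg))) 1
      ⟨0, by simp⟩ (by simp)
    have := hCnormal.conj_mem _ hcv c⁻¹
    rwa [show c⁻¹ * (c * g * c⁻¹) * c⁻¹⁻¹ = g by group] at this
  refine ⟨H, ⟨fun c hc g => ?_⟩, hpH, hH.disjoint.eq_bot, hH.sup_eq_top⟩
  obtain ⟨u, hu, v, hv, rfl⟩ := Subgroup.mem_sup_of_normal_left.1 (hH.sup_eq_top ▸ Subgroup.mem_top g :
    g ∈ (P : Subgroup G) ⊔ H)
  have h1 := Subgroup.mem_centralizer_iff.1 (hHC (H.mul_mem (H.mul_mem hv hc) (H.inv_mem hv))) u hu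
  rw [show u * v * c * (u * v)⁻¹ = u * (v * c * v⁻¹) * u⁻¹ by group, h1, mul_inv_cancel_right]
  exact H.mul_mem (H.mul_mem hv hc) (H.inv_mem hv)

end Cfsg.Agent.S4035
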