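import Cfsg.Statements.S4036
import Mathlib
import Cfsg.Agent.Lib.StructB.Misc

set_option autoImplicit false
open Cfsg
open scoped Pointwise

namespace Cfsg.Agent.S4036

/-- Let P be a finite abelian p-group and K a group of automorphisms of P (a subgroup of Aut P) whose order is divisible by p. If all non-identity elements of K have the same fixed-point subgroup on P, then K has no non-trivial normal subgroup of order prime to p. -/
theorem result {P : Type*} [CommGroup P] [Finite P] {p : ℕ}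
    [Fact p.Prime] (hP : IsPGroup p P) (K : Subgroup (MulAut P)) (hK : p ∣ Nat.card K)
    (hfix : ∀ x y : MulAut P, x ∈ K → y ∈ K → x ≠ 1 → y ≠ 1 → ∀ v : P, x v = v ↔ y v = v) :
    ∀ N : Subgroup ↥K, N.Normal → ¬ p ∣ Nat.card N → N = ⊥ := by
  classical
  intro N hN hpN
  by_contra hne
  have hp : p.Prime := Fact.out
  have := Fintype.ofFinite N
  obtain ⟨x, hx⟩ := exists_prime_orderOf_dvd_card' (G := K) p hK
  have hx1 : (x : MulAut P) ≠ 1 := fun e => by
    rw [show x = 1 from Subtype.ext e, orderOf_one] at hx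
    exact hp.one_lt.ne hx
  haveI := (Subgroup.nontrivial_iff_ne_bot N).2 hne
  obtain ⟨n, hn⟩ := exists_ne (1 : N)
  have hn1 : ((n : K) : MulAut P) ≠ 1 := fun e => hn (Subtype.ext (Subtype.ext e))
  obtain ⟨v, hv⟩ : ∃ v, ((n : K) : MulAut P) v ≠ v := by
    by_contra hh
    push Not at hh
    exact hn1 (MulEquiv.ext hh)
  -- the norm map of `N`
  let T : P →* P :=
    { toFun := fun w => ∏ m : N, ((m : K) : MulAut P) w
      map_one' := by simp
      map_mul' := fun a b => by simp [Finset.prod_mul_distrib] }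
  have hT : ∀ (m : N) (w : P), T (((m : K) : MulAut P) w) = T w := fun m w => by
    show ∏ i : N, ((i : K) : MulAut P) (((m : K) : MulAut P) w) = ∏ i : N, ((i : K) : MulAut P) w
    exact Fintype.prod_equiv (Equiv.mulRight m) _ _ fun i => rfl
  have hfixT : ∀ w, (∀ m : N, ((m : K) : MulAut P) w = w) → T w = w ^ Nat.card N := fun w hw => by
    show ∏ i : N, ((i : K) : MulAut P) w = _
    rw [Finset.prod_congr rfl fun i _ => hw i, Finset.prod_const, Finset.card_univ, Nat.card_eq_fintype_card]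
  -- `x` acts on the kernel of `T`
  have hTx : ∀ w, T ((x : MulAut P) w) = (x : MulAut P) (T w) := fun w => by
    show ∏ i : N, ((i : K) : MulAut P) ((x : MulAut P) w) = (x : MulAut P) (∏ i : N, ((i : K) : MulAut P) w)
    rw [map_prod]
    let e : N ≃ N :=
      { toFun := fun i => ⟨x⁻¹ * i * x, by simpa using hN.conj_mem _ i.2 x⁻¹⟩
        invFun := fun i => ⟨x * i * x⁻¹, hN.conj_mem _ i.2 x⟩
        left_inv := fun i => by ext : 1; simp [mul_assoc]
        right_inv := fun i => by ext : 1; simp [mul_assoc] }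
    refine Fintype.prod_equiv e _ _ fun i => ?_
    show ((i : K) : MulAut P) ((x : MulAut P) w) = (x : MulAut P) ((((x⁻¹ * i * x : K)) : MulAut P) w)
    simp [MulAut.mul_apply]
  let σ : Equiv.Perm T.ker :=
    { toFun := fun w => ⟨(x : MulAut P) w, by rw [MonoidHom.mem_ker, hTx, MonoidHom.mem_ker.1 w.2, map_one]⟩
      invFun := fun w => ⟨((x : MulAut P))⁻¹ w, by
        rw [MonoidHom.mem_ker]
        refine (x : MulAut P).injective ?_
        rw [← hTx, MulAut.inv_def, MulEquiv.apply_symm_apply, map_one]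
        exact MonoidHom.mem_ker.1 w.2⟩
      left_inv := fun w => by ext; simp
      right_inv := fun w => by ext; simp }
  have hσ : σ ^ (p ^ 1) = 1 := by
    have : ∀ (i : ℕ) (w : T.ker), (((σ ^ i) w : T.ker) : P) = ((x : MulAut P) ^ i) w := by
      intro i
      induction i with
      | zero => intro w; rfl
      | succ i ih => intro w; rw [pow_succ', Equiv.Perm.mul_apply, pow_succ', MulAut.mul_apply, ← ih]; rfl
    ext w
    rw [this, pow_one, ← Subgroup.coe_pow, ← hx, pow_orderOf_eq_one]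
    rfl
  have hfix1 : ∀ w : T.ker, σ w = w → w = 1 := by
    intro w hw
    have hw' : (x : MulAut P) (w : P) = w := congrArg Subtype.val hw
    have hall : ∀ m : N, ((m : K) : MulAut P) (w : P) = w := fun m => by
      by_cases hm : ((m : K) : MulAut P) = 1
      · rw [hm]; rfl
      · exact (hfix _ _ x.2 (m : K).2 hx1 hm w).1 hw'
    have h1 : (w : P) ^ Nat.card N = 1 := by rw [← hfixT _ hall]; exact MonoidHom.mem_ker.1 w.2
    obtain ⟨k, hk⟩ := IsPGroup.iff_orderOf.1 hP (w : P)
    have h2 : orderOf (w : P) = 1 := Nat.eq_one_of_dvd_coprimes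
      (Nat.Coprime.pow_left k (hp.coprime_iff_not_dvd.2 hpN)) (dvd_of_eq hk) (orderOf_dvd_of_pow_eq_one h1)
    exact Subtype.ext (orderOf_eq_one_iff.1 h2)
  have hu : ((n : K) : MulAut P) v / v ∈ T.ker := by
    rw [MonoidHom.mem_ker, map_div, hT, div_self']
  have hu1 : (⟨_, hu⟩ : T.ker) ≠ 1 := fun e => hv (div_eq_one.1 (congrArg Subtype.val e))
  haveI : Nontrivial T.ker := ⟨⟨_, 1, hu1⟩⟩
  have hmod := CfsgLib.StructB.card_fixed_modEq (q := p) σ hσ
  have hone : Nat.card {w // σ w = w} = 1 := by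
    rw [Nat.card_eq_one_iff_unique]
    exact ⟨⟨fun a b => Subtype.ext ((hfix1 _ a.2).trans (hfix1 _ b.2).symm)⟩, ⟨⟨1, Subtype.ext (map_one (x : MulAut P))⟩⟩⟩
  obtain ⟨k, hk0, hk⟩ := (hP.to_subgroup T.ker).nontrivial_iff_card.1 ‹_›
  rw [hone, hk] at hmod
  have : p ∣ 1 := Nat.modEq_zero_iff_dvd.1 (hmod.trans (Nat.modEq_zero_iff_dvd.2 (dvd_pow_self p hk0.ne')))
  exact hp.ne_one (Nat.dvd_one.1 this)

end Cfsg.Agent.S4036
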