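import Cfsg.Statements.S4038
import Cfsg.Agent.S0205
import Cfsg.Agent.Lib.Coprime.InvariantMaximal
-- import your own Cfsg.Agent.* helpers here

set_option autoImplicit false
open Cfsg

namespace Cfsg.Agent.S4038

/-- Let A and G be finite groups of coprime orders with A acting on G by automorphisms. Suppose G has a proper A-invariant subgroup M, maximal among proper A-invariant subgroups, which is nilpotent and whose Sylow 2-subgroups have nilpotency class at most 2. Then G is solvable. -/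
theorem result {G A : Type*} [Group G] [Finite G]
    [Group A] [Finite A] (φ : A →* MulAut G) (hcop : (Nat.card A).Coprime (Nat.card G))
    (M : Subgroup G) (hMtop : M ≠ ⊤) (hMinv : ∀ a : A, ∀ m : G, m ∈ M → φ a m ∈ M)
    (hMmax : ∀ H : Subgroup G, M ≤ H → H ≠ ⊤ → (∀ a : A, ∀ h : G, h ∈ H → φ a h ∈ H) → H = M)
    (hnil : Group.IsNilpotent M) (h2 : ∀ S : Sylow 2 ↥M, Group.nilpotencyClass ↥(S : Subgroup ↥M) ≤ 2) :
    Group.IsSolvable G := by
  have hsyl : ∀ S : Sylow 2 ↥M, ∀ x : ↥M, (∃ k : ℕ, (x : G) ^ 2 ^ k = 1) → x ∈ (S : Subgroup ↥M) := by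
    intro S x ⟨k, hk⟩
    haveI : Fact (Nat.Prime 2) := ⟨Nat.prime_two⟩
    haveI := hnil
    have hSn : (S : Subgroup M).Normal :=
      Sylow.normal_of_normalizerCondition Group.normalizerCondition_of_isNilpotent S
    obtain ⟨j, -, hj⟩ := (Nat.dvd_prime_pow Nat.prime_two).1
      (orderOf_dvd_of_pow_eq_one (show x ^ 2 ^ k = 1 from Subtype.ext (by simpa using hk)))
    obtain ⟨T, hT⟩ := (IsPGroup.of_card (n := j) (by rw [Nat.card_zpowers, hj]) :
      IsPGroup 2 (Subgroup.zpowers x)).exists_le_sylow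
    have := Sylow.unique_of_normal S hSn
    rw [Subsingleton.elim T S] at hT
    exact hT (Subgroup.mem_zpowers x)
  refine CfsgLib.Coprime.InvMax.isSolvable_of_invariant_nilpotent_maximal
    (fun X _ _ h => Cfsg.Agent.S0205.result h) (fun X _ _ h => Cfsg.Agent.S0205.result h)
    φ hcop M hMinv ⟨hMtop, fun H h1 h2' h3 => hMmax H h1 h2' h3⟩ hnil ?_
  intro x hx y hy z hz hx2 hy2 hz2
  obtain ⟨S⟩ : Nonempty (Sylow 2 ↥M) := inferInstance
  haveI : Fact (Nat.Prime 2) := ⟨Nat.prime_two⟩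
  haveI := S.2.isNilpotent
  have hlow : (⊤ : Subgroup ↥(S : Subgroup ↥M)).lowerCentralSeries 2 = ⊥ :=
    Subgroup.lowerCentralSeries_eq_bot_iff_nilpotencyClass_le.2 (h2 S)
  set x' : ↥(S : Subgroup ↥M) := ⟨⟨x, hx⟩, hsyl S _ hx2⟩
  set y' : ↥(S : Subgroup ↥M) := ⟨⟨y, hy⟩, hsyl S _ hy2⟩
  set z' : ↥(S : Subgroup ↥M) := ⟨⟨z, hz⟩, hsyl S _ hz2⟩
  have h1 : x' * y' * x'⁻¹ * y'⁻¹ ∈ (⊤ : Subgroup ↥(S : Subgroup ↥M)).lowerCentralSeries 1 := by
    rw [Subgroup.top_lowerCentralSeries_one]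
    exact Subgroup.commutator_mem_commutator (Subgroup.mem_top x') (Subgroup.mem_top y')
  have h3 : (x' * y' * x'⁻¹ * y'⁻¹) * z' * (x' * y' * x'⁻¹ * y'⁻¹)⁻¹ * z'⁻¹ ∈
      (⊤ : Subgroup ↥(S : Subgroup ↥M)).lowerCentralSeries 2 :=
    Subgroup.commutator_mem_commutator h1 (Subgroup.mem_top z')
  rw [hlow, Subgroup.mem_bot, mul_inv_eq_one, mul_inv_eq_iff_eq_mul] at h3
  exact (congrArg (fun w : ↥(S : Subgroup ↥M) => ((w : ↥M) : G)) h3).symm

end Cfsg.Agent.S4038
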