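import Cfsg.Statements.S4039
import Cfsg.Agent.Lib.Comp.NilMax

set_option autoImplicit false
open Cfsg

namespace Cfsg.Agent.S4039

/-- A finite group possessing a maximal subgroup that is nilpotent of class at most 2 is solvable. -/
theorem result {G : Type*} [Group G] [Finite G]
    (M : Subgroup G) (hmax : IsCoatom M) (hnil : Group.IsNilpotent M) (hcl : Group.nilpotencyClass ↥M ≤ 2) :
    Group.IsSolvable G := by
  refine CfsgLib.Comp.isSolvable_of_quotient_core hnil ?_
  set π := QuotientGroup.mk' M.normalCore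
  refine CfsgLib.Comp.isSolvable_of_complements (CfsgLib.Comp.isCoatom_map_core hmax)
    (CfsgLib.OddLocal.isNilpotent_map π hnil) (CfsgLib.Comp.normalCore_map_core M) fun p hp hpM => ?_
  haveI := Fact.mk hp
  refine CfsgLib.Comp.complement_of_class_two_maximal (CfsgLib.Comp.isCoatom_map_core hmax)
    (CfsgLib.OddLocal.isNilpotent_map π hnil) (CfsgLib.Comp.normalCore_map_core M) ?_ hpM
  haveI := hnil
  have h2 : (⊤ : Subgroup M).lowerCentralSeries 2 = ⊥ :=
    Subgroup.lowerCentralSeries_eq_bot_iff_nilpotencyClass_le.2 hcl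
  have key : ∀ x y z : M, z * (x * y * x⁻¹ * y⁻¹) = x * y * x⁻¹ * y⁻¹ * z := by
    intro x y z
    have h1 : x * y * x⁻¹ * y⁻¹ ∈ (⊤ : Subgroup M).lowerCentralSeries 1 := by
      rw [Subgroup.top_lowerCentralSeries_one]
      exact Subgroup.commutator_mem_commutator (Subgroup.mem_top x) (Subgroup.mem_top y)
    have h3 : (x * y * x⁻¹ * y⁻¹) * z * (x * y * x⁻¹ * y⁻¹)⁻¹ * z⁻¹ ∈
        (⊤ : Subgroup M).lowerCentralSeries 2 :=
      Subgroup.commutator_mem_commutator h1 (Subgroup.mem_top z)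
    rw [h2, Subgroup.mem_bot, mul_inv_eq_one, mul_inv_eq_iff_eq_mul] at h3
    exact h3.symm
  rintro _ ⟨x, hx, rfl⟩ _ ⟨y, hy, rfl⟩ _ ⟨z, hz, rfl⟩
  simp only [← map_mul, ← map_inv]
  exact congrArg π (congrArg Subtype.val (key ⟨x, hx⟩ ⟨y, hy⟩ ⟨z, hz⟩))

end Cfsg.Agent.S4039
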