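import Cfsg.Statements.S4040
import Cfsg.Agent.Lib.Comp.NilMax

set_option autoImplicit false
open Cfsg

namespace Cfsg.Agent.S4040

/-- A finite group possessing a maximal subgroup that is nilpotent of odd order is solvable. -/
theorem result {G : Type*} [Group G] [Finite G]
    (M : Subgroup G) (hmax : IsCoatom M) (hnil : Group.IsNilpotent M) (hodd : Odd (Nat.card M)) :
    Group.IsSolvable G := by
  refine CfsgLib.Comp.isSolvable_of_quotient_core hnil ?_
  set π := QuotientGroup.mk' M.normalCore
  refine CfsgLib.Comp.isSolvable_of_complements (CfsgLib.Comp.isCoatom_map_core hmax)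
    (CfsgLib.OddLocal.isNilpotent_map π hnil) (CfsgLib.Comp.normalCore_map_core M) fun p hp hpM => ?_
  haveI := Fact.mk hp
  refine CfsgLib.Comp.complement_of_odd (CfsgLib.Comp.isCoatom_map_core hmax)
    (CfsgLib.OddLocal.isNilpotent_map π hnil) (CfsgLib.Comp.normalCore_map_core M) ?_ hpM
  rintro rfl
  exact hodd.not_two_dvd_nat (hpM.trans (M.card_map_dvd π))

end Cfsg.Agent.S4040
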