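import Cfsg.Statements.S4043
import Cfsg.Agent.Lib.Transfer.Basic
import Cfsg.Agent.Lib.Coprime.Complements
import Cfsg.Agent.Lib.StructB.Misc
import Cfsg.Agent.Lib.Solvable.Nilpotent
-- import your own Cfsg.Agent.* helpers here

set_option autoImplicit false
open Cfsg

namespace Cfsg.Agent.S4043

/-- Let G be a finite group that is the semidirect product of a normal p-subgroup N by a subgroup A, and also of N by a subgroup A₁, where p is a prime and A and A₁ both have normal p-complements. If C_N(A) = C_N(A₁) = 1, then A₁ is conjugate to A by an element of N. -/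
theorem result {G : Type*} [Group G] [Finite G] {p : ℕ}
    [Fact p.Prime] (N : Subgroup G) [N.Normal] (hN : IsPGroup p N) (A A₁ : Subgroup G)
    (hA : A.IsComplement' N) (hA₁ : A₁.IsComplement' N)
    (hAp : Cfsg.HasNormalPComplement p A) (hA₁p : Cfsg.HasNormalPComplement p A₁)
    (hC : ∀ n : G, n ∈ N → (∀ a : G, a ∈ A → a * n * a⁻¹ = n) → n = 1)
    (hC₁ : ∀ n : G, n ∈ N → (∀ a : G, a ∈ A₁ → a * n * a⁻¹ = n) → n = 1) :
    ∃ n : G, n ∈ N ∧ A₁ = A.map (MulAut.conj n).toMonoidHom := by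
  classical
  have hp : p.Prime := Fact.out
  obtain ⟨KA, hKAn, hKAc, hKAq⟩ := CfsgLib.Transfer.hasNormalPComplement_iff_exists.1 hAp
  obtain ⟨KB, hKBn, hKBc, hKBq⟩ := CfsgLib.Transfer.hasNormalPComplement_iff_exists.1 hA₁p
  haveI := hKAn
  haveI := hKBn
  set K := KA.map A.subtype with hK
  set K1 := KB.map A₁.subtype with hK1
  have hmem : ∀ (B : Subgroup G) (L : Subgroup B) (_ : L.Normal), (Nat.card L).Coprime p → IsPGroup p (B ⧸ L) →
      ∀ b : B, ¬ p ∣ orderOf b → b ∈ L := by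
    intro B L hLn hLc hLq b hb
    obtain ⟨k, hk⟩ := hLq (QuotientGroup.mk b)
    refine (QuotientGroup.eq_one_iff b).1 (orderOf_eq_one_iff.1 (Nat.eq_one_of_dvd_coprimes
      (Nat.Coprime.pow_left k ((hp.coprime_iff_not_dvd).2 hb)) (orderOf_dvd_of_pow_eq_one hk) (orderOf_map_dvd (QuotientGroup.mk' L) b)))
  have hle : ∀ (B C : Subgroup G) (L : Subgroup C) (_ : L.Normal), (Nat.card L).Coprime p → IsPGroup p (C ⧸ L) →
      C.IsComplement' N → ∀ b ∈ B, ¬ p ∣ orderOf b → b ∈ N ⊔ L.map C.subtype := by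
    intro B C L hLn hLc hLq hC b _ hb
    obtain ⟨⟨⟨c, hc⟩, ⟨m, hm⟩⟩, hcm⟩ := hC.2 b
    simp only at hcm
    have hcp : ¬ p ∣ orderOf c := by
      intro hd
      have h1 : c ^ orderOf b ∈ N := by
        rw [← QuotientGroup.eq_one_iff, QuotientGroup.mk_pow]
        have : (QuotientGroup.mk c : G ⧸ N) = QuotientGroup.mk b := by
          rw [← hcm, QuotientGroup.mk_mul, (QuotientGroup.eq_one_iff m).2 hm, mul_one]
        rw [this, ← QuotientGroup.mk_pow, pow_orderOf_eq_one]; rfl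
      have h2 : c ^ orderOf b = 1 := Subgroup.disjoint_def.1 hC.disjoint (pow_mem hc _) h1
      exact hb (hd.trans (orderOf_dvd_of_pow_eq_one h2))
    rw [← hcm]
    exact mul_mem (Subgroup.mem_sup_right ⟨⟨c, hc⟩, hmem C L hLn hLc hLq _ (by rwa [Subgroup.orderOf_mk]), rfl⟩)
      (Subgroup.mem_sup_left hm)
  have hp' : ∀ (C : Subgroup G) (L : Subgroup C), (Nat.card L).Coprime p → ∀ k ∈ L.map C.subtype, ¬ p ∣ orderOf k := by
    rintro C L hLc _ ⟨k, hk, rfl⟩ hd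
    rw [Subgroup.coe_subtype, Subgroup.orderOf_coe] at hd
    exact hp.ne_one (Nat.eq_one_of_dvd_coprimes hLc (hd.trans (Subgroup.orderOf_dvd_natCard L hk)) dvd_rfl)
  have hsup : N ⊔ K = N ⊔ K1 := le_antisymm
    (sup_le le_sup_left fun k hk => hle A A₁ KB hKBn hKBc hKBq hA₁ k (Subgroup.map_subtype_le KA hk) (hp' A KA hKAc k hk))
    (sup_le le_sup_left fun k hk => hle A₁ A KA hKAn hKAc hKAq hA k (Subgroup.map_subtype_le KB hk) (hp' A₁ KB hKBc k hk))
  obtain ⟨eN, heN⟩ := IsPGroup.iff_card.1 hN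
  haveI : Group.IsNilpotent N := hN.isNilpotent
  obtain ⟨n, hn, hnK⟩ := CfsgLib.Coprime.exists_conj_eq_of_coprime (N := N) (A := K) (B := K1)
    (by rw [Subgroup.normalizer_eq_top]; exact le_top) (by rw [Subgroup.normalizer_eq_top]; exact le_top) hsup
    (by rw [Subgroup.card_map_of_injective A.subtype_injective, heN]; exact hKAc.pow_right eN)
    (by rw [Subgroup.card_map_of_injective A₁.subtype_injective, heN]; exact hKBc.pow_right eN) (Or.inr inferInstance)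
  refine ⟨n, hn, ?_⟩
  set A2 := A.map (MulAut.conj n).toMonoidHom with hA2
  have hnormA1 : A₁ ≤ Subgroup.normalizer (K1 : Set G) := fun a ha => CfsgLib.StructB.mem_normalizer_of_conj_le (by
    rintro _ ⟨k, hk, rfl⟩
    exact ⟨⟨a, ha⟩ * k * ⟨a, ha⟩⁻¹, hKBn.conj_mem k hk _, rfl⟩)
  have hnormA2 : A2 ≤ Subgroup.normalizer (K1 : Set G) := by
    rintro _ ⟨a, ha, rfl⟩
    refine CfsgLib.StructB.mem_normalizer_of_conj_le fun z hz => ?_
    rw [hnK] at hz ⊢
    obtain ⟨_, ⟨k, hk, rfl⟩, rfl⟩ := hz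
    refine ⟨a * (k : G) * a⁻¹, ⟨⟨a, ha⟩ * k * ⟨a, ha⟩⁻¹, hKAn.conj_mem k hk _, rfl⟩, ?_⟩
    show n * (a * (k : G) * a⁻¹) * n⁻¹ = n * a * n⁻¹ * (n * (k : G) * n⁻¹) * (n * a * n⁻¹)⁻¹
    group
  set D := N ⊓ Subgroup.normalizer (K1 : Set G) with hD
  have hdis : ∀ z ∈ N, z ∈ K1 → z = 1 := by
    intro z hz hzK
    obtain ⟨k, hk⟩ := IsPGroup.iff_orderOf.1 hN ⟨z, hz⟩
    rw [Subgroup.orderOf_mk] at hk
    rcases Nat.eq_zero_or_pos k with rfl | hk0
    · exact orderOf_eq_one_iff.1 (by simpa using hk)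
    · exact absurd (hk ▸ dvd_pow_self p hk0.ne') (hp' A₁ KB hKBc z hzK)
  have hDK : ∀ d ∈ D, ∀ k ∈ K1, Commute d k := by
    intro d hd k hk
    obtain ⟨hdN, hdn⟩ := Subgroup.mem_inf.1 hd
    have h1 : d * k * d⁻¹ * k⁻¹ = 1 := hdis _ (by
      rw [show d * k * d⁻¹ * k⁻¹ = d * (k * d⁻¹ * k⁻¹) by group]
      exact mul_mem hdN ((inferInstance : N.Normal).conj_mem _ (inv_mem hdN) k))
      (mul_mem ((Subgroup.mem_normalizer_iff.1 hdn k).1 hk) (inv_mem hk))
    exact mul_inv_eq_iff_eq_mul.1 (mul_inv_eq_one.1 h1)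
  have hDbot : ∀ d ∈ D, d = 1 := by
    by_contra hne
    push Not at hne
    obtain ⟨d0, hd0, hd01⟩ := hne
    obtain ⟨PA⟩ : Nonempty (Sylow p A) := inferInstance
    set P2 := ((PA : Subgroup A).map A.subtype).map (MulAut.conj n).toMonoidHom with hP2
    have hP2p : IsPGroup p P2 := (PA.isPGroup'.map _).map _
    have hP2A : P2 ≤ A2 := Subgroup.map_mono (Subgroup.map_subtype_le _)
    have hP2D : P2 ≤ Subgroup.normalizer (D : Set G) := fun a ha => CfsgLib.StructB.mem_normalizer_of_conj_le fun z hz =>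
      Subgroup.mem_inf.2 ⟨(inferInstance : N.Normal).conj_mem z (Subgroup.mem_inf.1 hz).1 a,
        mul_mem (mul_mem (hnormA2 (hP2A ha)) (Subgroup.mem_inf.1 hz).2) (inv_mem (hnormA2 (hP2A ha)))⟩
    set W := P2 ⊔ D with hW
    have hWp : IsPGroup p W := hP2p.to_sup_of_normal_right' (hN.to_le inf_le_left) hP2D
    haveI := hWp.isNilpotent
    haveI : (D.subgroupOf W).Normal := by
      refine (Subgroup.normal_subgroupOf_iff_le_normalizer le_sup_right).2 ?_
      exact sup_le hP2D Subgroup.le_normalizer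
    have hDW : D.subgroupOf W ≠ ⊥ := fun e => hd01 (by
      have h1 : (⟨d0, Subgroup.mem_sup_right hd0⟩ : W) ∈ D.subgroupOf W := hd0
      rw [e, Subgroup.mem_bot] at h1
      exact congrArg Subtype.val h1)
    obtain ⟨⟨z, hz⟩, hz1⟩ := Subgroup.ne_bot_iff_exists_ne_one.1 (CfsgLib.Solvable.normal_inf_center_ne_bot (D.subgroupOf W) hDW)
    obtain ⟨hzD, hzZ⟩ := Subgroup.mem_inf.1 hz
    have hzD' : (z : G) ∈ D := hzD
    have hfix : ∀ a ∈ A2, Commute (z : G) a := by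
      rintro _ ⟨a, ha, rfl⟩
      have htop : KA ⊔ (PA : Subgroup A) = ⊤ := by
        obtain ⟨m, hm⟩ := IsPGroup.iff_card.1 hKAq
        rw [← Subgroup.index_eq_card] at hm
        exact CfsgLib.Transfer.sup_sylow_eq_top PA hm
      obtain ⟨u, hu, v, hv, huv⟩ := Subgroup.mem_sup_of_normal_left.1 (htop.symm ▸ Subgroup.mem_top (⟨a, ha⟩ : A))
      have hau : a = (u : G) * (v : G) := (congrArg Subtype.val huv).symm
      show Commute (z : G) (n * a * n⁻¹)
      rw [hau, show n * ((u : G) * (v : G)) * n⁻¹ = (n * (u : G) * n⁻¹) * (n * (v : G) * n⁻¹) by group]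
      refine (hDK _ hzD' _ (hnK ▸ ⟨(u : G), ⟨u, hu, rfl⟩, rfl⟩)).mul_right ?_
      exact (congrArg Subtype.val (Subgroup.mem_center_iff.1 hzZ
        ⟨n * (v : G) * n⁻¹, Subgroup.mem_sup_left ⟨(v : G), ⟨v, hv, rfl⟩, rfl⟩⟩)).symm
    refine hz1 (Subtype.ext (Subtype.ext ?_))
    have h0 := hC (n⁻¹ * (z : G) * n) (by simpa using (inferInstance : N.Normal).conj_mem _ (Subgroup.mem_inf.1 hzD').1 n⁻¹)
      (fun a ha => by
        have h1 : Commute (z : G) (n * a * n⁻¹) := hfix _ ⟨a, ha, rfl⟩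
        calc a * (n⁻¹ * (z : G) * n) * a⁻¹ = n⁻¹ * ((n * a * n⁻¹) * (z : G)) * n * a⁻¹ := by group
          _ = n⁻¹ * ((z : G) * (n * a * n⁻¹)) * n * a⁻¹ := by rw [h1.eq]
          _ = n⁻¹ * (z : G) * n := by group)
    show (z : G) = 1
    calc (z : G) = n * (n⁻¹ * (z : G) * n) * n⁻¹ := by group
      _ = 1 := by rw [h0]; group
  refine (Subgroup.eq_of_le_of_card_ge (fun a ha => ?_) ?_).symm.symm
  · obtain ⟨⟨⟨b, hb⟩, ⟨m, hm⟩⟩, hbm⟩ := hA.2 (n⁻¹ * a * n)
    simp only at hbm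
    have hb2 : n * b * n⁻¹ ∈ A2 := ⟨b, hb, rfl⟩
    have hm' : n * m * n⁻¹ ∈ D := by
      refine Subgroup.mem_inf.2 ⟨(inferInstance : N.Normal).conj_mem m hm n, ?_⟩
      rw [show n * m * n⁻¹ = (n * b * n⁻¹)⁻¹ * a by rw [show m = b⁻¹ * (n⁻¹ * a * n) by rw [← hbm]; group]; group]
      exact mul_mem (inv_mem (hnormA2 hb2)) (hnormA1 ha)
    have ha2 : a = n * b * n⁻¹ * (n * m * n⁻¹) := by
      calc a = n * (n⁻¹ * a * n) * n⁻¹ := by group
        _ = n * (b * m) * n⁻¹ := by rw [hbm]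
        _ = _ := by group
    rw [ha2, hDbot _ hm', mul_one]; exact hb2
  · rw [hA2, Subgroup.card_map_of_injective (MulAut.conj n).injective, ← hA.index_eq_card, ← hA₁.index_eq_card]

end Cfsg.Agent.S4043
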