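import Cfsg.Statements.S4049
import Cfsg.Agent.Lib.StructB.NormalTwo
import Cfsg.Agent.Lib.StructB.Misc

set_option autoImplicit false
open Cfsg

namespace Cfsg.Agent.S4049

/-- Let G be a finite group such that N_G(H)/C_G(H) has odd order for every nontrivial subgroup H of odd order. Then the Sylow 2-subgroups of G are normal. -/
theorem result {G : Type*} [Group G] [Finite G]
    (hhom : ∀ H : Subgroup G, H ≠ ⊥ → ¬ 2 ∣ Nat.card ↥H →
        ¬ 2 ∣ (Subgroup.centralizer (H : Set G)).relIndex (Subgroup.normalizer (H : Set G))) (P : Sylow 2 G) :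
    (P : Subgroup G).Normal := by
  refine CfsgLib.StructB.sylow_two_normal_of_not_inverted (fun x g hodd hg => ?_) P
  by_contra hx
  set H := Subgroup.zpowers x with hH
  have hN : g ∈ Subgroup.normalizer (H : Set G) := by
    refine CfsgLib.StructB.mem_normalizer_of_conj_le ?_
    rintro z ⟨i, rfl⟩
    exact ⟨-i, by rw [← conj_zpow, hg, inv_zpow']⟩
  refine hhom H (fun e => hx (Subgroup.zpowers_eq_bot.1 e))
    (by rw [hH, Nat.card_zpowers]; exact fun hd => (Nat.not_even_iff_odd.2 hodd) (even_iff_two_dvd.2 hd)) ?_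
  set C := (Subgroup.centralizer (H : Set G)).subgroupOf (Subgroup.normalizer (H : Set G)) with hC
  show 2 ∣ C.index
  haveI : C.Normal := (Subgroup.normal_subgroupOf_iff_le_normalizer (Subgroup.centralizer_le_normalizer _)).2 (by
    intro n hn
    refine CfsgLib.StructB.mem_normalizer_of_conj_le fun c hc => ?_
    refine Subgroup.mem_centralizer_iff.2 fun z hz => ?_
    have hz' : n⁻¹ * z * n ∈ H := by
      have := (Subgroup.mem_normalizer_iff.1 (Subgroup.inv_mem _ hn) z).1 hz
      simpa using this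
    have := Subgroup.mem_centralizer_iff.1 hc _ hz'
    calc z * (n * c * n⁻¹) = n * (n⁻¹ * z * n * c) * n⁻¹ := by group
      _ = n * (c * (n⁻¹ * z * n)) * n⁻¹ := by rw [this]
      _ = n * c * n⁻¹ * z := by group)
  have ho : orderOf (QuotientGroup.mk' C ⟨g, hN⟩) = 2 := by
    haveI : Fact (Nat.Prime 2) := ⟨Nat.prime_two⟩
    refine orderOf_eq_prime ?_ ?_
    · rw [← map_pow, QuotientGroup.mk'_apply, QuotientGroup.eq_one_iff, Subgroup.mem_subgroupOf]
      refine Subgroup.mem_centralizer_iff.2 ?_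
      rintro z ⟨i, rfl⟩
      have h2 : g ^ 2 * x * (g ^ 2)⁻¹ = x := by
        rw [pow_two, show g * g * x * (g * g)⁻¹ = g * (g * x * g⁻¹) * g⁻¹ by group, hg, ← conj_inv, hg, inv_inv]
      exact ((Commute.zpow_left (show Commute x (g ^ 2) from (mul_inv_eq_iff_eq_mul.1 h2).symm) i).eq)
    · rw [ne_eq, QuotientGroup.mk'_apply, QuotientGroup.eq_one_iff, Subgroup.mem_subgroupOf]
      intro hc
      have hc' := Subgroup.mem_centralizer_iff.1 hc x (Subgroup.mem_zpowers x)
      rw [← hc', mul_inv_cancel_right] at hg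
      have h2 : orderOf x ∣ 2 := orderOf_dvd_of_pow_eq_one (by rw [pow_two]; exact mul_eq_one_iff_eq_inv.2 hg)
      rcases (Nat.dvd_prime Nat.prime_two).1 h2 with h1 | h1
      · exact hx (orderOf_eq_one_iff.1 h1)
      · rw [h1] at hodd; exact absurd hodd (by decide)
  rw [Subgroup.index_eq_card, ← ho]
  exact orderOf_dvd_natCard _

end Cfsg.Agent.S4049
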