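import Cfsg.Statements.S4050
import Cfsg.Agent.Lib.ClassK.PiClosed
-- import your own Cfsg.Agent.* helpers here

set_option autoImplicit false
open Cfsg
open CfsgLib.ClassK Subgroup

namespace Cfsg.Agent.S4050

/-- Let π be a set of primes and G a finite group. The π-elements of G (elements whose order is divisible only by primes of π) form a subgroup if and only if G is π-separable (it has a chain of normal subgroups from 1 to G with each successive index divisible only by primes in π or only by primes outside π) and N_G(H)/C_G(H) is a π'-group for every nontrivial π'-subgroup H of G. -/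
theorem result {G : Type*} [Group G] [Finite G] (π : Set ℕ)
    (hπ : ∀ p ∈ π, p.Prime) :
    (∃ K : Subgroup G, ∀ x : G, x ∈ K ↔ ∀ p : ℕ, p.Prime → p ∣ orderOf x → p ∈ π) ↔
    ((∃ (n : ℕ) (H : Fin (n + 1) → Subgroup G), H 0 = ⊥ ∧ H (Fin.last n) = ⊤ ∧ Monotone H ∧ (∀ i, (H i).Normal) ∧
      ∀ i : Fin n, (∀ q : ℕ, q.Prime → q ∣ (H i.castSucc).relIndex (H i.succ) → q ∈ π) ∨
        (∀ q : ℕ, q.Prime → q ∣ (H i.castSucc).relIndex (H i.succ) → q ∉ π)) ∧
     (∀ H : Subgroup G, H ≠ ⊥ → (∀ p : ℕ, p.Prime → p ∣ Nat.card ↥H → p ∉ π) →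
        ∀ p : ℕ, p.Prime → p ∣ (Subgroup.centralizer (H : Set G)).relIndex (Subgroup.normalizer (H : Set G)) → p ∉ π)) := by
  constructor
  · rintro ⟨K, hK⟩
    haveI hKn : K.Normal := PiClosed.normal_of_mem_iff hK
    refine ⟨⟨2, ![⊥, K, ⊤], rfl, rfl, ?_, ?_, ?_⟩, ?_⟩
    · refine Fin.monotone_iff_le_succ.mpr fun i => ?_
      fin_cases i <;> simp
    · intro i
      fin_cases i
      · exact (inferInstance : (⊥ : Subgroup G).Normal)
      · exact hKn
      · exact (inferInstance : (⊤ : Subgroup G).Normal)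
    · intro i
      fin_cases i
      · exact Or.inl fun q hq hd => PiClosed.card_of_mem_iff hK hq (by simpa using hd)
      · exact Or.inr fun q hq hd => PiClosed.index_of_mem_iff hK hq (by simpa using hd)
    intro H _ hHπ p hp hd hpπ
    have hle : K ⊓ normalizer (H : Set G) ≤ centralizer (H : Set G) := by
      rintro k ⟨hk, hkN⟩
      refine mem_centralizer_iff.mpr fun h hh => ?_
      have h1 : k * h * k⁻¹ * h⁻¹ ∈ H ⊓ K := by
        refine mem_inf.mpr ⟨mul_mem ((mem_normalizer_iff.mp hkN h).mp hh) (inv_mem hh), ?_⟩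
        rw [show k * h * k⁻¹ * h⁻¹ = k * (h * k⁻¹ * h⁻¹) by group]
        exact mul_mem hk (hKn.conj_mem _ (inv_mem hk) h)
      have h2 : H ⊓ K = ⊥ := (disjoint_of_coprime_natCard (Nat.coprime_of_dvd
        fun q hq hq1 hq2 => hHπ q hq hq1 (PiClosed.card_of_mem_iff hK hq hq2))).eq_bot
      rw [h2, mem_bot] at h1
      calc h * k = (k * h * k⁻¹ * h⁻¹)⁻¹ * (k * h) := by group
        _ = k * h := by rw [h1]; group
    have h3 : (centralizer (H : Set G)).relIndex (normalizer (H : Set G)) ∣ K.index :=
      (relIndex_dvd_of_le_left _ hle).trans (by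
        rw [inf_relIndex_right]
        exact relIndex_dvd_index_of_normal _ _)
    exact PiClosed.index_of_mem_iff hK hp (hd.trans h3) hpπ
  · rintro ⟨⟨n, M, hM0, hM1, hMmono, hMn, hstep⟩, hhom⟩
    have hall : ∀ i, PiClosed.Closed π (M i) := by
      refine Fin.induction ?_ fun i ih => ?_
      · refine ⟨⊤, fun x => iff_of_true (mem_top x) fun p hp hd => ?_⟩
        rw [show x = 1 from Subtype.ext (mem_bot.mp (hM0.le x.2)), orderOf_one] at hd
        exact absurd (Nat.dvd_one.mp hd) hp.ne_one
      · haveI := hMn i.castSucc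
        rcases hstep i with h | h
        · exact PiClosed.closed_step_pi hhom (hMmono (Fin.castSucc_le_succ i)) ih h
        · exact PiClosed.closed_step_compl (hMmono (Fin.castSucc_le_succ i)) ih h
    have h := hall (Fin.last n)
    rw [hM1] at h
    exact PiClosed.closed_of_equiv topEquiv h

end Cfsg.Agent.S4050
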