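import Cfsg.Statements.S4051
import Cfsg.Agent.Lib.ClassK.PiClosed
-- import your own Cfsg.Agent.* helpers here

set_option autoImplicit false
open Cfsg
open CfsgLib.ClassK Subgroup

namespace Cfsg.Agent.S4051

/-- Let π be a set of primes and G a finite group such that N_G(H)/C_G(H) is a π'-group for every nontrivial π'-subgroup H of G. If K is a normal subgroup of G such that the π-elements of K form a subgroup and the π-elements of G/K form a subgroup, then the π-elements of G form a subgroup. -/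
theorem result {G : Type*} [Group G] [Finite G] (π : Set ℕ)
    (hπ : ∀ p ∈ π, p.Prime) (hhom : (∀ H : Subgroup G, H ≠ ⊥ → (∀ p : ℕ, p.Prime → p ∣ Nat.card ↥H → p ∉ π) →
        ∀ p : ℕ, p.Prime → p ∣ (Subgroup.centralizer (H : Set G)).relIndex (Subgroup.normalizer (H : Set G)) → p ∉ π))
    (K : Subgroup G) [K.Normal]
    (hK : ∃ L : Subgroup ↥K, ∀ x : ↥K, x ∈ L ↔ ∀ p : ℕ, p.Prime → p ∣ orderOf x → p ∈ π)
    (hQ : ∃ L : Subgroup (G ⧸ K), ∀ x : G ⧸ K, x ∈ L ↔ ∀ p : ℕ, p.Prime → p ∣ orderOf x → p ∈ π) :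
    (∃ K : Subgroup G, ∀ x : G, x ∈ K ↔ ∀ p : ℕ, p.Prime → p ∣ orderOf x → p ∈ π) := by
  obtain ⟨Lb, hLb⟩ := hQ
  set X := Lb.comap (QuotientGroup.mk' K)
  have hKX : K ≤ X := fun x hx => by
    show (x : G ⧸ K) ∈ Lb
    rw [(QuotientGroup.eq_one_iff x).mpr hx]; exact one_mem _
  have hi : ∀ q : ℕ, q.Prime → q ∣ K.relIndex X → q ∈ π := by
    intro q hq hd
    refine PiClosed.card_of_mem_iff hLb hq ?_
    rw [← map_comap_eq_self_of_surjective (QuotientGroup.mk'_surjective K) Lb]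
    refine hd.trans (dvd_of_eq ?_)
    rw [← relIndex_bot_left, show (⊥ : Subgroup (G ⧸ K)) = K.map (QuotientGroup.mk' K) from
      (QuotientGroup.map_mk'_self K).symm, ← relIndex_comap,
      comap_map_eq_self (by rw [QuotientGroup.ker_mk'])]
  obtain ⟨L, hL⟩ := PiClosed.closed_step_pi hhom hKX hK hi
  refine ⟨L.map X.subtype, fun x => ⟨?_, fun hx => ?_⟩⟩
  · rintro ⟨y, hy, rfl⟩
    exact (PiClosed.isPiElt_map_iff X.subtype X.subtype_injective y).mpr ((hL y).mp hy)
  · have hxX : x ∈ X := (hLb _).mpr fun p hp hd =>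
      hx p hp (hd.trans (orderOf_map_dvd (QuotientGroup.mk' K) x))
    exact ⟨⟨x, hxX⟩, (hL _).mpr
      ((PiClosed.isPiElt_map_iff X.subtype X.subtype_injective ⟨x, hxX⟩).mp hx), rfl⟩

end Cfsg.Agent.S4051
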