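import Cfsg.Statements.S4056
import Cfsg.Agent.Lib.Transfer.PPrimeAut
-- import your own Cfsg.Agent.* helpers here

set_option autoImplicit false
open Cfsg
open scoped commutatorElement

namespace Cfsg.Agent.S4056

/-- In a finite 2-group of nilpotency class at most 2 and exponent dividing 4, the Frattini subgroup lies in the centre and is elementary abelian. -/
theorem result {P : Type*} [Group P] [Finite P] (hP : IsPGroup 2 P)
    (hcl : Group.nilpotencyClass P ≤ 2) (hexp : Monoid.exponent P ∣ 4) :
    frattini P ≤ Subgroup.center P ∧ Cfsg.IsElementaryAbelian 2 (frattini P) := by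
  haveI : Fact (Nat.Prime 2) := ⟨Nat.prime_two⟩
  haveI : Group.IsNilpotent P := hP.isNilpotent
  have h2 : (⊤ : Subgroup P).lowerCentralSeries 2 = ⊥ :=
    Subgroup.lowerCentralSeries_eq_bot_iff_nilpotencyClass_le.2 hcl
  have hc : ∀ x y : P, ⁅x, y⁆ ∈ Subgroup.center P := CfsgLib.Transfer.commutatorElement_mem_center_of_class_two (by
    rw [← Subgroup.top_lowerCentralSeries_one]
    exact h2)
  have h4 : ∀ x : P, x ^ 4 = 1 := fun x => orderOf_dvd_iff_pow_eq_one.1 ((Monoid.order_dvd_exponent x).trans hexp)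
  have hc2 : ∀ x y : P, ⁅x, y⁆ ^ 2 = 1 := fun x y => by
    have e := CfsgLib.Transfer.mul_pow_class_two hc x y 4
    rw [h4 (x * y), h4 x, h4 y, one_mul, one_mul] at e
    have e' := e.symm
    have h := h4 ⁅y, x⁆
    rw [← commutatorElement_inv y x, inv_pow, inv_eq_one]
    have h6 : ⁅y, x⁆ ^ 6 = 1 := by rw [show (6 : ℕ) = Nat.choose 4 2 from rfl]; exact e'
    rw [show (6 : ℕ) = 4 + 2 from rfl, pow_add, h, one_mul] at h6
    exact h6
  set N : Subgroup P := Subgroup.closure (Set.range fun x : P => x ^ 2) ⊔ Subgroup.closure (commutatorSet P) with hN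
  have hsq : ∀ x : P, x ^ 2 ∈ Subgroup.center P := fun x => Subgroup.mem_center_iff.2 fun y => by
    have := CfsgLib.Transfer.commutatorElement_pow_left hc x y 2
    rw [hc2, commutatorElement_eq_one_iff_mul_comm] at this
    exact this.symm
  have hNc : N ≤ Subgroup.center P := by
    refine sup_le ((Subgroup.closure_le _).2 ?_) ((Subgroup.closure_le _).2 ?_)
    · rintro _ ⟨x, rfl⟩; exact hsq x
    · rintro _ ⟨a, b, rfl⟩; exact hc a b
  haveI : N.Normal := ⟨fun n hn g => by
    rw [Subgroup.mem_center_iff.1 (hNc hn) g, mul_inv_cancel_right]; exact hn⟩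
  have hNe : ∀ a ∈ N, a ^ 2 = 1 := by
    intro a ha
    rw [hN, ← Subgroup.closure_union] at ha
    induction ha using Subgroup.closure_induction with
    | mem a ha =>
      rcases ha with ⟨x, rfl⟩ | ⟨x, y, rfl⟩
      · rw [← pow_mul]; exact h4 x
      · exact hc2 x y
    | one => exact one_pow _
    | mul a b ha hb iha ihb =>
      have hac : Commute a b := (Subgroup.mem_center_iff.1 (hNc (by rw [hN, ← Subgroup.closure_union]; exact ha)) b).symm
      rw [hac.mul_pow, iha, ihb, one_mul]
    | inv a _ ih => rw [inv_pow, ih, inv_one]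
  have hle : frattini P ≤ N := CfsgLib.Transfer.frattini_le_of_elementary_quotient (p := 2) N
    (fun x y => Subgroup.mem_sup_right (Subgroup.subset_closure ⟨x, y, rfl⟩))
    (fun x => Subgroup.mem_sup_left (Subgroup.subset_closure ⟨x, rfl⟩))
  refine ⟨hle.trans hNc, ⟨⟨fun a b => Subtype.ext ?_⟩⟩, fun a ha => hNe a (hle ha)⟩
  exact (Subgroup.mem_center_iff.1 (hNc (hle a.2)) b.1).symm

end Cfsg.Agent.S4056
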