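import Cfsg.Statements.S4057
import Cfsg.Agent.Lib.ClassK.UniGenerators
import Cfsg.Agent.Lib.ClassK.OmegaCentral
import Cfsg.Agent.Lib.ClassK.FlagRep
import Cfsg.Agent.Lib.Coprime.Basic
-- import your own Cfsg.Agent.* helpers here

set_option autoImplicit false
open Cfsg
open CfsgLib.ClassK Subgroup

namespace Cfsg.Agent.S4057

/-- A `p`-group with Frattini quotient of order at most `p ^ d` is generated by `d` elements. -/
theorem exists_gens_of_card {K : Type*} [Group K] [Finite K] {p : ℕ} [Fact p.Prime]
    (hK : IsPGroup p K) {d : ℕ} (hd : Nat.card (K ⧸ frattini K) ≤ p ^ d) :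
    ∃ S : Finset K, S.card ≤ d ∧ closure (S : Set K) = ⊤ := by
  classical
  have key : ∀ j : ℕ, ∃ S : Finset K, S.card ≤ j ∧ (closure (S : Set K) ⊔ frattini K = ⊤ ∨
      p ^ j * Nat.card (frattini K) ≤ Nat.card (closure (S : Set K) ⊔ frattini K : Subgroup K)) := by
    intro j
    induction j with
    | zero => exact ⟨∅, by simp, Or.inr (by simp)⟩
    | succ j ih =>
      obtain ⟨S, hS, hS'⟩ := ih
      by_cases htop : closure (S : Set K) ⊔ frattini K = ⊤
      · exact ⟨S, hS.trans (Nat.le_succ j), Or.inl htop⟩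
      obtain ⟨g, hg⟩ : ∃ g, g ∉ closure (S : Set K) ⊔ frattini K := by
        by_contra h
        simp only [not_exists, not_not] at h
        exact htop (eq_top_iff.mpr fun g _ => h g)
      refine ⟨insert g S, (Finset.card_insert_le _ _).trans (Nat.succ_le_succ hS), Or.inr ?_⟩
      set A := closure (S : Set K) ⊔ frattini K
      set B := closure ((insert g S : Finset K) : Set K) ⊔ frattini K
      have hAB : A ≤ B := sup_le_sup_right (Subgroup.closure_mono (by simp)) _
      have hne : A ≠ B := fun h =>
        hg (h ▸ mem_sup_left (subset_closure (Finset.mem_coe.mpr (Finset.mem_insert_self g S))))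
      obtain ⟨a, ha⟩ := (hK.to_subgroup A).exists_card_eq
      obtain ⟨b, hb⟩ := (hK.to_subgroup B).exists_card_eq
      have hab : a < b := by
        by_contra h
        exact hne (eq_of_le_of_card_ge hAB (by
          rw [ha, hb]; exact Nat.pow_le_pow_right (Fact.out : p.Prime).pos (not_lt.mp h)))
      calc p ^ (j + 1) * Nat.card (frattini K) = p * (p ^ j * Nat.card (frattini K)) := by ring
        _ ≤ p * Nat.card A := Nat.mul_le_mul_left _ (hS'.resolve_left htop)
        _ ≤ Nat.card B := by
          rw [ha, hb, ← pow_succ']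
          exact Nat.pow_le_pow_right (Fact.out : p.Prime).pos hab
  obtain ⟨S, hS, h⟩ := key d
  refine ⟨S, hS, frattini_nongenerating ?_⟩
  rcases h with h | h
  · exact h
  · refine eq_top_of_card_eq _ (le_antisymm (card_le_card_group _) (le_trans ?_ h))
    rw [card_eq_card_quotient_mul_card_subgroup (frattini K)]
    exact Nat.mul_le_mul_right _ hd

/-- `s` commuting elements of exponent `p` generate a subgroup of order at most `p ^ s`. -/
theorem card_closure_le {P : Type*} [Group P] [Finite P] {p : ℕ} [Fact p.Prime]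
    {E : Subgroup P} (hc : IsMulCommutative E) (he : ∀ a ∈ E, a ^ p = 1) (S : Finset P)
    (hS : (S : Set P) ⊆ E) : Nat.card (closure (S : Set P)) ≤ p ^ S.card := by
  classical
  induction S using Finset.induction_on with
  | empty => simp
  | @insert a S haS ih =>
    rw [Finset.coe_insert, Set.insert_subset_iff] at hS
    obtain ⟨haE, hSE⟩ := hS
    have hle : zpowers a ≤ normalizer ((closure (S : Set P) : Subgroup P) : Set P) := by
      refine le_trans ?_ (Subgroup.centralizer_le_normalizer _)
      refine zpowers_le.mpr (mem_centralizer_iff.mpr fun x hx => ?_)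
      exact congrArg Subtype.val (hc.is_comm.comm ⟨x, (Subgroup.closure_le E).mpr hSE hx⟩ ⟨a, haE⟩)
    rw [Finset.card_insert_of_notMem haS, Finset.coe_insert, ← Set.union_singleton,
      Subgroup.closure_union, ← zpowers_eq_closure, pow_succ]
    calc Nat.card (closure (S : Set P) ⊔ zpowers a : Subgroup P)
        ≤ Nat.card (closure (S : Set P) × zpowers a) :=
          Nat.card_le_card_of_surjective (fun q =>
            (⟨(q.1 : P) * q.2, mul_mem (mem_sup_left q.1.2) (mem_sup_right q.2.2)⟩ :
              (closure (S : Set P) ⊔ zpowers a : Subgroup P))) fun x => by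
            obtain ⟨n, hn, z, hz, h⟩ := (CfsgLib.Coprime.mem_sup_of_le_normalizer hle).mp x.2
            exact ⟨⟨⟨n, hn⟩, ⟨z, hz⟩⟩, Subtype.ext h⟩
      _ ≤ p ^ S.card * p := by
        rw [Nat.card_prod, Nat.card_zpowers]
        exact Nat.mul_le_mul (ih hSE) (Nat.le_of_dvd (Fact.out : p.Prime).pos
          (orderOf_dvd_of_pow_eq_one (he a haE)))

/-- Let p be an odd prime and P a finite p-group in which every normal abelian subgroup can be generated by k elements. Then every subgroup of P can be generated by at most ⌊k(k+4)/4⌋ elements. -/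
theorem result {P : Type*} [Group P] [Finite P] {p : ℕ} [Fact p.Prime]
    (hp : p ≠ 2) (hP : IsPGroup p P) (k : ℕ)
    (hab : ∀ A : Subgroup P, A.Normal → IsMulCommutative A → ∃ S : Finset P, S.card ≤ k ∧ Subgroup.closure (S : Set P) = A) :
    ∀ H : Subgroup P, ∃ S : Finset P, S.card ≤ k * (k + 4) / 4 ∧ Subgroup.closure (S : Set P) = H := by
  classical
  obtain ⟨E, hE⟩ := (Set.toFinite {B : Subgroup P | B.Normal ∧ IsMulCommutative B ∧
    ∀ b ∈ B, b ^ p ^ 1 = 1}).exists_maximal ⟨⊥, inferInstance, inferInstance, fun b hb => by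
      rw [mem_bot.mp hb, one_pow]⟩
  obtain ⟨hEn, hEc, hEp⟩ := hE.prop
  haveI := hEn
  haveI := hEc
  have hEp' : ∀ a ∈ E, a ^ p = 1 := fun a ha => by simpa using hEp a ha
  have hΩ : ∀ x ∈ centralizer (E : Set P), x ^ p = 1 → x ∈ E := fun x hx hxp =>
    CfsgLib.Transfer.mem_of_maximal_normal_abelian_exponent hP 1 (by simpa using hp) E hEp
      (fun B h1 h2 h3 h4 => le_antisymm (hE.2 ⟨h1, h2, h3⟩ h4) h4) hx (by simpa using hxp)
  obtain ⟨e, he⟩ := (hP.to_subgroup E).exists_card_eq
  have hek : e ≤ k := by
    obtain ⟨S, hS, hSE⟩ := hab E hEn hEc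
    have h1 := card_closure_le hEc hEp' S (by rw [← hSE]; exact subset_closure)
    rw [hSE, he] at h1
    exact ((Nat.pow_le_pow_iff_right (Fact.out : p.Prime).one_lt).mp h1).trans hS
  intro H
  obtain ⟨ρ, hρ, hker⟩ := FlagRep.exists_rep hP E hEc hEp' he
  obtain ⟨S, hS, hStop⟩ := UniGen.exists_gens (ρ.comp H.subtype) (fun g => hρ g)
    (hP.to_subgroup H)
  set K := (centralizer (E : Set P)).subgroupOf H
  have hKp : IsPGroup p K := (hP.to_subgroup H).to_subgroup K
  have hKc : ∀ z : K, z ^ p = 1 → z ∈ center K := fun z hz => by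
    have hzE : ((z : H) : P) ∈ E := hΩ _ z.2 (by simpa using congrArg (fun w : K => ((w : H) : P)) hz)
    rw [mem_center_iff]
    intro w
    exact Subtype.ext (Subtype.ext (mem_centralizer_iff.mp (mem_subgroupOf.mp w.2) _ hzE).symm)
  have hKq : Nat.card (K ⧸ frattini K) ≤ p ^ e := by
    refine (OmegaCentral.card_quotient_frattini_le hp _ rfl hKp hKc).trans (he ▸ ?_)
    exact Nat.card_le_card_of_injective (fun z => (⟨((z.1 : H) : P), hΩ _ z.1.2
      (by simpa using congrArg (fun w : K => ((w : H) : P)) z.2)⟩ : E))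
      fun a b h => Subtype.ext (Subtype.ext (Subtype.ext (congrArg Subtype.val h :)))
  obtain ⟨T, hT, hTtop⟩ := exists_gens_of_card hKp hKq
  refine ⟨(S ∪ T.image (fun z : K => (z : H))).image (fun h : H => (h : P)), ?_, ?_⟩
  · calc ((S ∪ T.image (fun z : K => (z : H))).image (fun h : H => (h : P))).card
        ≤ S.card + T.card := Finset.card_image_le.trans ((Finset.card_union_le _ _).trans
          (Nat.add_le_add_left Finset.card_image_le _))
      _ ≤ e ^ 2 / 4 + e := Nat.add_le_add hS hT
      _ ≤ k * (k + 4) / 4 := by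
        rw [← Nat.add_mul_div_right _ _ (show 0 < 4 by norm_num)]
        exact Nat.div_le_div_right (by nlinarith)
  · have htop : closure ((S ∪ T.image (fun z : K => (z : H)) : Finset H) : Set H) = ⊤ := by
      refine top_le_iff.mp (hStop.symm.le.trans (sup_le (Subgroup.closure_mono (by simp)) ?_))
      intro g hg
      have hgK : g ∈ K := mem_subgroupOf.mpr (hker g (MonoidHom.mem_ker.mp hg))
      have h1 : g ∈ (closure (T : Set K)).map K.subtype := ⟨⟨g, hgK⟩, hTtop ▸ mem_top _, rfl⟩
      rw [MonoidHom.map_closure] at h1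
      exact Subgroup.closure_mono (by
        intro x hx
        simp only [Finset.coe_union, Finset.coe_image, Set.mem_union]
        exact Or.inr hx) h1
    have h2 := congrArg (Subgroup.map H.subtype) htop
    rw [MonoidHom.map_closure, ← MonoidHom.range_eq_map, range_subtype] at h2
    rw [Finset.coe_image]
    exact h2

end Cfsg.Agent.S4057
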