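import Cfsg.Statements.S4059
import Cfsg.Agent.Lib.StructB.Ambivalent
-- import your own Cfsg.Agent.* helpers here

set_option autoImplicit false
open Cfsg
open scoped commutatorElement

namespace Cfsg.Agent.S4059

/-- Let G be a finite group in which every element is conjugate to its inverse. Then: every non-identity element commuting with all elements of some Sylow 2-subgroup is an involution; the centre of G is an elementary abelian 2-group; the commutator quotient G/G' is an elementary abelian 2-group; and G is generated by its 2-elements. -/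
theorem result {G : Type*} [Group G] [Finite G] (hamb : ∀ x : G, IsConj x x⁻¹) :
    (∀ (S : Sylow 2 G) (x : G), x ∈ Subgroup.centralizer ((S : Subgroup G) : Set G) → x ≠ 1 → orderOf x = 2) ∧
    (∀ z : G, z ∈ Subgroup.center G → z ^ 2 = 1) ∧
    (∀ x : G, x ^ 2 ∈ commutator G) ∧
    Subgroup.closure {x : G | ∃ k : ℕ, orderOf x = 2 ^ k} = ⊤ := by
  haveI : Fact (Nat.Prime 2) := ⟨Nat.prime_two⟩
  refine ⟨fun S x hx hx1 => orderOf_eq_prime (CfsgLib.StructB.sq_eq_one_of_isConj_inv_of_mem_centralizer S hx (hamb x)) hx1,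
    fun z hz => ?_, fun x => ?_, ?_⟩
  · obtain ⟨g, hg⟩ := isConj_iff.1 (hamb z)
    rw [Subgroup.mem_center_iff.1 hz g, mul_inv_cancel_right] at hg
    rw [pow_two]; exact mul_eq_one_iff_eq_inv.2 hg
  · obtain ⟨g, hg⟩ := isConj_iff.1 (hamb x)
    have e : x ^ 2 = ⁅x, g⁆ := by
      have h2 : g * x⁻¹ * g⁻¹ = x := by rw [← conj_inv, hg, inv_inv]
      rw [commutatorElement_def, show x * g * x⁻¹ * g⁻¹ = x * (g * x⁻¹ * g⁻¹) by group, h2, pow_two]
    rw [e, commutator_def]
    exact Subgroup.commutator_mem_commutator (Subgroup.mem_top x) (Subgroup.mem_top g)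
  · set N := Subgroup.closure {x : G | ∃ k : ℕ, orderOf x = 2 ^ k} with hN
    have hmemN : ∀ x : G, ∀ k : ℕ, x ^ (2 ^ k) = 1 → x ∈ N := fun x k hk => Subgroup.subset_closure (by
      obtain ⟨j, -, hj⟩ := (Nat.dvd_prime_pow Nat.prime_two).1 (orderOf_dvd_of_pow_eq_one hk)
      exact ⟨j, hj⟩)
    have hconj : ∀ (g : G), ∀ n ∈ N, g * n * g⁻¹ ∈ N := by
      intro g n hn
      have hle : N ≤ N.comap (MulAut.conj g).toMonoidHom := by
        refine (Subgroup.closure_le _).2 ?_
        rintro x ⟨k, hk⟩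
        refine Subgroup.subset_closure ⟨k, ?_⟩
        rw [← hk]
        exact orderOf_injective (MulAut.conj g).toMonoidHom (MulAut.conj g).injective x
      exact hle hn
    refine eq_top_iff.2 fun x _ => ?_
    obtain ⟨g, hg⟩ := isConj_iff.1 (hamb x)
    obtain ⟨m, k, hm, hk⟩ := CfsgLib.StructB.exists_odd_pow_two_power g
    have h1 := CfsgLib.StructB.conj_odd_pow_eq_inv hg hm
    have ha : g ^ m ∈ N := hmemN _ k hk
    have hx2 : x ^ 2 ∈ N := by
      have h2 : x * (g ^ m) * x⁻¹ * (g ^ m)⁻¹ = x ^ 2 := by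
        rw [show x * g ^ m * x⁻¹ * (g ^ m)⁻¹ = x * (g ^ m * x * (g ^ m)⁻¹)⁻¹ by group, h1, inv_inv, pow_two]
      rw [← h2]
      exact mul_mem (hconj x _ ha) (inv_mem ha)
    obtain ⟨j, l, hj, hl⟩ := CfsgLib.StructB.exists_odd_pow_two_power x
    obtain ⟨r, rfl⟩ := hj
    have h3 : x ^ (2 * r + 1) ∈ N := hmemN _ l hl
    rw [pow_succ, pow_mul] at h3
    exact (Subgroup.mul_mem_cancel_left N (pow_mem hx2 r)).1 h3

end Cfsg.Agent.S4059
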