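import Cfsg.Statements.S4060
import Cfsg.Agent.Lib.StructB.Ambivalent
import Cfsg.Agent.Lib.Solvable.MinNormal
-- import your own Cfsg.Agent.* helpers here

set_option autoImplicit false
open Cfsg

universe u

namespace Cfsg.Agent.S4060

theorem aux (n : ℕ) : ∀ (G : Type u) [Group G] [Finite G] [Group.IsSolvable G], Nat.card G = n →
    ∀ (S : Sylow 2 G) (x : G), x ≠ 1 → Odd (orderOf x) →
      x ∈ Subgroup.normalizer ((S : Subgroup G) : Set G) → ¬ IsConj x x⁻¹ := by
  induction n using Nat.strong_induction_on with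
  | _ n ih =>
    intro G _ _ _ hG S x hx hodd hnorm hreal
    haveI : Fact (Nat.Prime 2) := ⟨Nat.prime_two⟩
    haveI : Nontrivial G := ⟨⟨x, 1, hx⟩⟩
    obtain ⟨N, hN, hNne, hmin⟩ := CfsgLib.Solvable.exists_minimal_normal (G := G)
    by_cases hxN : x ∈ N
    · obtain ⟨q, hq, hNq, -, -⟩ := CfsgLib.Solvable.exists_isPGroup_of_minimal_normal hNne hmin
      haveI : Fact q.Prime := ⟨hq⟩
      obtain ⟨e, he⟩ := hNq ⟨x, hxN⟩
      have he' : x ^ (q ^ e) = 1 := congrArg Subtype.val he
      have hq2 : q ≠ 2 := by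
        rintro rfl
        obtain ⟨j, -, hj⟩ := (Nat.dvd_prime_pow Nat.prime_two).1 (orderOf_dvd_of_pow_eq_one he')
        rcases Nat.eq_zero_or_pos j with rfl | hjp
        · exact hx (orderOf_eq_one_iff.1 (by simpa using hj))
        · exact (Nat.not_even_iff_odd.2 hodd) (hj ▸ Nat.even_pow.2 ⟨even_two, hjp.ne'⟩)
      have hdis : Disjoint N (S : Subgroup G) := IsPGroup.disjoint_of_ne q 2 hq2 N S hNq S.isPGroup'
      have hc : x ∈ Subgroup.centralizer ((S : Subgroup G) : Set G) := by
        refine Subgroup.mem_centralizer_iff.2 fun s hs => ?_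
        have h1 : x * s * x⁻¹ * s⁻¹ ∈ N ⊓ (S : Subgroup G) := by
          refine Subgroup.mem_inf.2 ⟨?_, mul_mem ((Subgroup.mem_normalizer_iff.1 hnorm s).1 hs) (inv_mem hs)⟩
          rw [show x * s * x⁻¹ * s⁻¹ = x * (s * x⁻¹ * s⁻¹) by group]
          exact mul_mem hxN (hN.conj_mem _ (inv_mem hxN) s)
        rw [hdis.eq_bot, Subgroup.mem_bot, mul_inv_eq_one, mul_inv_eq_iff_eq_mul] at h1
        exact h1.symm
      have h2 := orderOf_dvd_of_pow_eq_one (CfsgLib.StructB.sq_eq_one_of_isConj_inv_of_mem_centralizer S hc hreal)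
      rcases (Nat.dvd_prime Nat.prime_two).1 h2 with h1 | h1
      · exact hx (orderOf_eq_one_iff.1 h1)
      · rw [h1] at hodd; exact absurd hodd (by decide)
    · set f := QuotientGroup.mk' N with hf
      have hlt : Nat.card (G ⧸ N) < n := by
        rw [← hG, Subgroup.card_eq_card_quotient_mul_card_subgroup N]
        exact lt_mul_of_one_lt_right Nat.card_pos ((Subgroup.one_lt_card_iff_ne_bot N).2 hNne)
      refine ih _ hlt (G ⧸ N) rfl (S.mapSurjective (QuotientGroup.mk'_surjective N)) (f x)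
        (fun h => hxN ((QuotientGroup.eq_one_iff x).1 h)) (hodd.of_dvd_nat (orderOf_map_dvd f x)) ?_ ?_
      · rw [Sylow.coe_mapSurjective]
        refine CfsgLib.StructB.mem_normalizer_of_conj_le ?_
        rintro _ ⟨s, hs, rfl⟩
        exact ⟨x * s * x⁻¹, (Subgroup.mem_normalizer_iff.1 hnorm s).1 hs, by simp [hf]⟩
      · rw [← map_inv]
        exact f.map_isConj hreal

/-- Let G be a finite solvable group with Sylow 2-subgroup S, and let x ≠ 1 be an element of odd order normalizing S. Then x is not conjugate to its inverse in G. -/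
theorem result {G : Type*} [Group G] [Finite G] [Group.IsSolvable G]
    (S : Sylow 2 G) (x : G) (hx : x ≠ 1) (hodd : Odd (orderOf x))
    (hnorm : x ∈ Subgroup.normalizer ((S : Subgroup G) : Set G)) : ¬ IsConj x x⁻¹ := by
  exact aux _ _ rfl S x hx hodd hnorm

end Cfsg.Agent.S4060
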