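import Cfsg.Statements.S4061
import Cfsg.Agent.Lib.StructB.Ambivalent
import Cfsg.Agent.Lib.StructC.UniqueInvol
import Cfsg.Agent.Lib.Solvable.MinNormal
import Cfsg.Agent.Lib.Invol.ZStar
import Cfsg.Agent.Lib.Fusion.ZStarCenter
import Cfsg.Agent.Lib.StructB.Kazarin

set_option autoImplicit false
open Cfsg

namespace Cfsg.Agent.S4061

open Subgroup CfsgLib.StructB
open scoped commutatorElement

/-- An ambivalent group of odd order is trivial. -/
theorem eq_one_of_odd {G : Type*} [Group G] [Finite G] (hamb : ∀ x : G, IsConj x x⁻¹)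
    (hodd : ¬ 2 ∣ Nat.card G) (x : G) : x = 1 := by
  obtain ⟨g, hg⟩ := isConj_iff.1 (hamb x)
  obtain ⟨m, k, hm, hk⟩ := exists_odd_pow_two_power g
  have h1 : g ^ m = 1 := by
    rw [← orderOf_eq_one_iff]
    exact Nat.eq_one_of_dvd_coprimes (Nat.Coprime.pow_left k (Nat.prime_two.coprime_iff_not_dvd.2 hodd))
      (orderOf_dvd_of_pow_eq_one hk) (orderOf_dvd_natCard _)
  have h2 := conj_odd_pow_eq_inv hg hm
  rw [h1, one_mul, inv_one, mul_one] at h2
  have h3 : x ^ 2 = 1 := by rw [pow_two]; exact mul_eq_one_iff_eq_inv.2 h2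
  rw [← orderOf_eq_one_iff]
  exact Nat.eq_one_of_dvd_coprimes (Nat.prime_two.coprime_iff_not_dvd.2 hodd)
    (orderOf_dvd_of_pow_eq_one h3) (orderOf_dvd_natCard _)

/-- With trivial odd core there is one involution. -/
theorem invol_unique {G : Type*} [Group G] [Finite G] [Group.IsSolvable G]
    (hamb : ∀ x : G, IsConj x x⁻¹)
    (hone : ∀ s t : G, orderOf s = 2 → orderOf t = 2 → IsConj s t)
    (hO : ∀ N : Subgroup G, N.Normal → Odd (Nat.card N) → N = ⊥)
    {s t : G} (hs : orderOf s = 2) (ht : orderOf t = 2) : s = t := by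
  classical
  have : Nontrivial G := ⟨⟨s, 1, fun h => by rw [h, orderOf_one] at hs; omega⟩⟩
  obtain ⟨V, hVn, hV1, hVmin⟩ := CfsgLib.Solvable.exists_minimal_normal (G := G)
  obtain ⟨l, hl, hlV, hVexp, -⟩ := CfsgLib.Solvable.exists_isPGroup_of_minimal_normal hV1 hVmin
  have : Fact l.Prime := ⟨hl⟩
  have hl2 : l = 2 := by
    by_contra hne
    obtain ⟨i, hi⟩ := hlV.exists_card_eq
    exact hV1 (hO V hVn (by rw [hi]; exact (hl.odd_of_ne_two hne).pow))
  subst hl2
  obtain ⟨⟨v, hv⟩, hv1⟩ := exists_prime_orderOf_dvd_card' (G := V) 2 (by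
    obtain ⟨i, hi⟩ := hlV.exists_card_eq
    rw [hi]
    exact dvd_pow_self 2 fun e => hV1 (card_eq_one.1 (by rw [hi, e, pow_zero])))
  rw [Subgroup.orderOf_mk] at hv1
  have hinV : ∀ u : G, orderOf u = 2 → u ∈ V := fun u hu => by
    obtain ⟨g, rfl⟩ := isConj_iff.1 (hone v u hv1 hu)
    exact hVn.conj_mem v hv g
  set W := centralizer (V : Set G) with hW
  have hWn : W.Normal := inferInstance
  by_cases hWt : W = ⊤
  · obtain ⟨g, hg⟩ := isConj_iff.1 (hone s t hs ht)
    have h1 := mem_centralizer_iff.1 (hWt.symm ▸ mem_top g : g ∈ W) s (hinV s hs)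
    rwa [← h1, mul_inv_cancel_right] at hg
  exfalso
  have hnt : Nontrivial (G ⧸ W) := QuotientGroup.nontrivial_iff.2 hWt
  have heven : 2 ∣ Nat.card (G ⧸ W) := by
    by_contra hodd
    refine absurd (Finite.one_lt_card (α := G ⧸ W)) (not_lt.2 (le_of_eq ?_))
    refine Nat.card_eq_one_iff_unique.2 ⟨⟨fun a b => ?_⟩, ⟨1⟩⟩
    have hq : ∀ x : G ⧸ W, IsConj x x⁻¹ := fun x => by
      obtain ⟨g, rfl⟩ := QuotientGroup.mk_surjective x
      simpa using (QuotientGroup.mk' W).map_isConj (hamb g)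
    rw [eq_one_of_odd hq hodd a, eq_one_of_odd hq hodd b]
  obtain ⟨Mb, hMbn, hMb1, hMbmin⟩ := CfsgLib.Solvable.exists_minimal_normal (G := G ⧸ W)
  obtain ⟨r, hr, hrM, -, -⟩ := CfsgLib.Solvable.exists_isPGroup_of_minimal_normal hMb1 hMbmin
  have : Fact r.Prime := ⟨hr⟩
  set M := Mb.comap (QuotientGroup.mk' W) with hM
  have hMn : M.Normal := Normal.comap inferInstance _
  have hWM : W ≤ M := fun w hw => by
    rw [hM, mem_comap, QuotientGroup.mk'_apply, (QuotientGroup.eq_one_iff w).2 hw]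
    exact one_mem _
  obtain ⟨P⟩ := (inferInstance : Nonempty (Sylow r M))
  set X := (P : Subgroup M).map M.subtype with hX
  have hXr : IsPGroup r X := P.2.map _
  have hMX : M ≤ W ⊔ X := by
    intro m hm
    have hmap : (P : Subgroup M).map ((QuotientGroup.mk' W).subgroupComap Mb) = ⊤ := by
      have hsurj : Function.Surjective ((QuotientGroup.mk' W).subgroupComap Mb) :=
        MonoidHom.subgroupComap_surjective_of_surjective _ _ (QuotientGroup.mk'_surjective W)
      exact ((P.mapSurjective hsurj).3 (hrM.to_subgroup ⊤) le_top).symm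
    obtain ⟨p', hp', hpm⟩ := (hmap.symm ▸ mem_top (⟨(m : G ⧸ W), hm⟩ : Mb) :
      (⟨(m : G ⧸ W), hm⟩ : Mb) ∈ (P : Subgroup M).map ((QuotientGroup.mk' W).subgroupComap Mb))
    have h1 : ((p' : G) : G ⧸ W) = (m : G ⧸ W) := congrArg Subtype.val hpm
    have h2 : (p' : G)⁻¹ * m ∈ W := QuotientGroup.eq.1 h1
    rw [show m = (p' : G) * ((p' : G)⁻¹ * m) by group]
    exact mul_mem (mem_sup_right (mem_map_of_mem _ hp')) (mem_sup_left h2)
  have hfix : V ⊓ centralizer (X : Set G) = ⊥ := by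
    have hMc : V ⊓ centralizer (X : Set G) ≤ V ⊓ centralizer (M : Set G) := fun v hv =>
      ⟨hv.1, mem_centralizer_iff.2 fun m hm => mem_centralizer_singleton_iff.1
        (sup_le (a := W) (fun w hw => mem_centralizer_singleton_iff.2
          (mem_centralizer_iff.1 hw v hv.1).symm)
        (fun x hx => mem_centralizer_singleton_iff.2 (mem_centralizer_iff.1 hv.2 x hx)) (hMX hm))⟩
    rcases hVmin (V ⊓ centralizer (M : Set G)) inferInstance inf_le_left with h | h
    · exact le_bot_iff.1 (h ▸ hMc)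
    · exfalso
      apply hMb1
      rw [eq_bot_iff]
      intro z hz
      obtain ⟨m, rfl⟩ := QuotientGroup.mk_surjective z
      rw [mem_bot, QuotientGroup.eq_one_iff]
      exact mem_centralizer_iff.2 fun v hv =>
        (mem_centralizer_iff.1 ((h.symm ▸ hv : v ∈ V ⊓ centralizer (M : Set G))).2 m hz).symm
  have hr2 : r ≠ 2 := by
    rintro rfl
    let : MulAction X V := MulAction.compHom V ((MulAut.conjNormal (H := V)).comp X.subtype)
    have h1 := hXr.exists_fixed_point_of_prime_dvd_card_of_fixed_point (α := V) ?_ (a := 1)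
      (fun x => by show MulAut.conjNormal (H := V) (x : G) 1 = 1; exact map_one _)
    · obtain ⟨b, hb, hb1⟩ := h1
      refine hb1 (Eq.symm (Subtype.ext ?_))
      show (b : G) = 1
      rw [← mem_bot, ← hfix]
      refine ⟨b.2, mem_centralizer_iff.2 fun x hx => ?_⟩
      have h2 := congrArg Subtype.val (hb (⟨x, hx⟩ : X))
      exact mul_inv_eq_iff_eq_mul.1 h2
    · obtain ⟨i, hi⟩ := hlV.exists_card_eq
      rw [hi]
      exact dvd_pow_self 2 fun e => hV1 (card_eq_one.1 (by rw [hi, e, pow_zero]))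
  have hN : normalizer (X : Set G) ⊔ W = ⊤ := by
    rw [eq_top_iff, ← Sylow.normalizer_sup_eq_top (N := M) P]
    exact sup_le le_sup_left (hMX.trans (sup_le le_sup_right (le_normalizer.trans le_sup_left)))
  have hNeven : 2 ∣ Nat.card ↥(normalizer (X : Set G)) := by
    have h1 : Nat.card (G ⧸ W) = W.relIndex (normalizer (X : Set G)) := by
      rw [← relIndex_sup_right, hN, relIndex_top_right, index_eq_card]
    exact heven.trans (h1 ▸ index_dvd_card _)
  obtain ⟨⟨u, hu⟩, hu2⟩ := exists_prime_orderOf_dvd_card' (G := normalizer (X : Set G)) 2 hNeven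
  rw [Subgroup.orderOf_mk] at hu2
  have huV := hinV u hu2
  have h3 : u ∈ V ⊓ centralizer (X : Set G) := by
    refine ⟨huV, mem_centralizer_iff.2 fun x hx => ?_⟩
    have h4 : u * x * u⁻¹ * x⁻¹ ∈ V ⊓ X := by
      refine ⟨?_, X.mul_mem ((mem_normalizer_iff.1 hu x).1 hx) (X.inv_mem hx)⟩
      rw [show u * x * u⁻¹ * x⁻¹ = u * (x * u⁻¹ * x⁻¹) by group]
      exact V.mul_mem huV (hVn.conj_mem _ (V.inv_mem huV) x)
    rw [(IsPGroup.disjoint_of_ne 2 r (Ne.symm hr2) V X hlV hXr).eq_bot, mem_bot] at h4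
    exact (mul_inv_eq_iff_eq_mul.1 (mul_inv_eq_one.1 h4)).symm
  rw [hfix, mem_bot] at h3
  rw [h3, orderOf_one] at hu2
  omega

/-- Let G be a finite solvable group of even order in which every element is conjugate to its inverse and all involutions are conjugate. Then a Sylow 2-subgroup S of G has order 2 or is a generalized quaternion group (of order at least 8). Moreover, if S has order 2, then G is the semidirect product of its largest normal subgroup of odd order O(G) by S, O(G) equals the derived subgroup of G, and the involution of S inverts every element of O(G). -/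
theorem result {G : Type*} [Group G] [Finite G] [Group.IsSolvable G]
    (hamb : ∀ x : G, IsConj x x⁻¹) (heven : 2 ∣ Nat.card G) (hone : ∀ s t : G, orderOf s = 2 → orderOf t = 2 → IsConj s t) (S : Sylow 2 G) :
    (Nat.card S = 2 ∨ ∃ n : ℕ, Nonempty ((S : Subgroup G) ≃* QuaternionGroup (2 ^ (n + 1)))) ∧
    (Nat.card S = 2 → (S : Subgroup G).IsComplement' (Cfsg.oddCore G) ∧ Cfsg.oddCore G = commutator G ∧
        ∀ t : G, t ∈ S → t ≠ 1 → ∀ x : G, x ∈ Cfsg.oddCore G → t * x * t⁻¹ = x⁻¹) := by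
  classical
  have : Fact (Nat.Prime 2) := ⟨Nat.prime_two⟩
  set O := Cfsg.oddCore G with hOdef
  have hOn : O.Normal := CfsgLib.Solvable.pPrimeCore_normal 2 G
  have hOodd : Odd (Nat.card O) := CfsgLib.Invol.odd_card_oddCore G
  have hdisj : ∀ {g : G} {k : ℕ}, g ^ 2 ^ k = 1 → g ∈ O → g = 1 := fun {g k} hg hgO => by
    rw [← orderOf_eq_one_iff]
    exact Nat.eq_one_of_dvd_coprimes (Nat.Coprime.pow_left k (Nat.coprime_two_left.2 hOodd))
      (orderOf_dvd_of_pow_eq_one hg) (O.orderOf_dvd_natCard hgO)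
  -- involutions of `G ⧸ O` are conjugate
  have hlift : ∀ c : G ⧸ O, orderOf c = 2 → ∃ g : G, orderOf g = 2 ∧ (g : G ⧸ O) = c := by
    intro c hc
    obtain ⟨g, rfl⟩ := QuotientGroup.mk_surjective c
    obtain ⟨m, k, hm, hk⟩ := exists_odd_pow_two_power g
    have hsq : (g : G ⧸ O) ^ 2 = 1 := hc ▸ pow_orderOf_eq_one _
    have he : ((g ^ m : G) : G ⧸ O) = g := by
      obtain ⟨j, rfl⟩ := hm
      rw [QuotientGroup.mk_pow, pow_succ, pow_mul, hsq, one_pow, one_mul]
    refine ⟨g ^ m, orderOf_eq_prime ?_ ?_, he⟩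
    · refine hdisj (k := k) (by rw [← pow_mul, mul_comm, pow_mul, hk, one_pow]) ?_
      rw [← QuotientGroup.eq_one_iff, QuotientGroup.mk_pow, he, hsq]
    · intro h
      rw [h, QuotientGroup.mk_one] at he
      rw [← he, orderOf_one] at hc
      omega
  have hambq : ∀ x : G ⧸ O, IsConj x x⁻¹ := fun x => by
    obtain ⟨g, rfl⟩ := QuotientGroup.mk_surjective x
    simpa using (QuotientGroup.mk' O).map_isConj (hamb g)
  have honeq : ∀ s t : G ⧸ O, orderOf s = 2 → orderOf t = 2 → IsConj s t := fun s t hs ht => by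
    obtain ⟨a, ha, rfl⟩ := hlift s hs
    obtain ⟨b, hb, rfl⟩ := hlift t ht
    exact (QuotientGroup.mk' O).map_isConj (hone a b ha hb)
  have hOq : ∀ N : Subgroup (G ⧸ O), N.Normal → Odd (Nat.card N) → N = ⊥ := fun N hN hodd => by
    have := CfsgLib.Invol.le_oddCore hN hodd
    rw [show Cfsg.oddCore (G ⧸ O) = ⊥ from CfsgLib.Fusion.oddCore_quotient_oddCore] at this
    exact le_bot_iff.1 this
  have huniq : ∀ a b : (S : Subgroup G), orderOf a = 2 → orderOf b = 2 → a = b := by
    intro a b ha hb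
    have hq : ∀ c : (S : Subgroup G), orderOf c = 2 → orderOf ((c : G) : G ⧸ O) = 2 := fun c hc => by
      have hc1 : (c : G) ^ 2 = 1 := by
        have := pow_orderOf_eq_one (c : G)
        rwa [Subgroup.orderOf_coe, hc] at this
      refine orderOf_eq_prime ?_ fun h => ?_
      · rw [← QuotientGroup.mk_pow, hc1, QuotientGroup.mk_one]
      · have h1 : (c : G) = 1 := hdisj (k := 1) (by rw [pow_one]; exact hc1)
          ((QuotientGroup.eq_one_iff _).1 h)
        rw [show c = 1 from Subtype.ext h1, orderOf_one] at hc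
        omega
    have h1 := invol_unique hambq honeq hOq (hq a ha) (hq b hb)
    obtain ⟨k, hk⟩ := S.2 (a⁻¹ * b)
    have h2 := hdisj (k := k) (congrArg Subtype.val hk) (QuotientGroup.eq.1 h1)
    exact inv_mul_eq_one.1 (Subtype.ext h2)
  have hScard : 2 ∣ Nat.card (S : Subgroup G) := S.dvd_card_of_dvd_card heven
  have hcyc2 : IsCyclic (S : Subgroup G) →
      Nat.card S = 2 ∧ ∃ N : Subgroup G, N.Normal ∧ N.IsComplement' (S : Subgroup G) := by
    intro hc
    have hle : normalizer ((S : Subgroup G) : Set G) ≤ centralizer ((S : Subgroup G) : Set G) :=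
      hc.normalizer_le_centralizer ((Nat.minFac_eq_two_iff _).2 heven)
    refine ⟨?_, _, inferInstance, MonoidHom.ker_transferSylow_isComplement' S hle⟩
    obtain ⟨a, ha⟩ := hc.exists_ofOrder_eq_natCard
    have hac : (a : G) ∈ centralizer ((S : Subgroup G) : Set G) := hle (le_normalizer a.2)
    have h1 : a ^ 2 = 1 := Subtype.ext (sq_eq_one_of_isConj_inv_of_mem_centralizer S hac (hamb a))
    exact Nat.dvd_antisymm (ha ▸ orderOf_dvd_of_pow_eq_one h1) hScard
  refine ⟨?_, fun hS2 => ?_⟩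
  · rcases CfsgLib.StructC.isCyclic_or_quaternion S.2 (fun a b ha hb _ => by
      rw [huniq a b ha hb]; exact mem_zpowers _) with h | ⟨k, hk, e⟩
    · exact Or.inl (hcyc2 h).1
    · obtain ⟨j, rfl⟩ := Nat.exists_eq_succ_of_ne_zero (Nat.one_le_iff_ne_zero.1 hk)
      exact Or.inr ⟨j, e⟩
  obtain ⟨N, hNn, hNc⟩ := (hcyc2 (isCyclic_of_prime_card hS2)).2
  have hNodd : Odd (Nat.card N) := by
    rw [← hNc.index_eq_card]
    exact Nat.odd_iff.2 (by have := S.not_dvd_index; omega)
  have hNO : N = O := by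
    refine eq_of_le_of_card_ge (CfsgLib.Invol.le_oddCore hNn hNodd) (Nat.le_of_dvd Nat.card_pos ?_)
    have h1 := O.card_subgroup_dvd_card
    rw [← hNc.card_mul_card, hS2] at h1
    exact (Nat.coprime_two_right.2 hOodd).dvd_of_dvd_mul_right h1
  subst hNO
  have hcard : Nat.card G = Nat.card O * 2 := by rw [← hNc.card_mul_card, hS2]
  -- every element of `S` fixes only `1` in `O`
  have hfpf : ∀ t : G, t ∈ S → t ≠ 1 → ∀ y ∈ O, t * y = y * t → y = 1 := by
    intro t ht ht1 y hy hc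
    by_contra hy1
    obtain ⟨g, hg⟩ := isConj_iff.1 (hamb y)
    let E : Subgroup G :=
      { carrier := {u | u * y * u⁻¹ = y ∨ u * y * u⁻¹ = y⁻¹}
        one_mem' := Or.inl (by simp)
        mul_mem' := fun {u v} hu hv => by
          have e1 : u * v * y * (u * v)⁻¹ = u * (v * y * v⁻¹) * u⁻¹ := by group
          have e2 : u * y⁻¹ * u⁻¹ = (u * y * u⁻¹)⁻¹ := by group
          rcases hv with h | h <;> rcases hu with h' | h' <;>
            simp only [Set.mem_ofPred_eq, e1, h, e2, h', inv_inv] <;>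
            first | exact Or.inl trivial | exact Or.inr trivial
        inv_mem' := fun {u} hu => by
          rcases hu with h | h
          · left
            calc u⁻¹ * y * u⁻¹⁻¹ = u⁻¹ * (u * y * u⁻¹) * u⁻¹⁻¹ := by rw [h]
              _ = y := by group
          · right
            calc u⁻¹ * y * u⁻¹⁻¹ = u⁻¹ * (u * y * u⁻¹)⁻¹ * u⁻¹⁻¹ := by simp [h]
              _ = y⁻¹ := by group }
    have hyy : y ≠ y⁻¹ := fun h => hy1 (hdisj (k := 1)
      (by rw [pow_one, pow_two]; exact mul_eq_one_iff_eq_inv.2 h) hy)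
    let C : Subgroup G := centralizer {y}
    have hCE : C ≤ E := fun u hu => Or.inl (by
      rw [mem_centralizer_singleton_iff.1 hu, mul_inv_cancel_right])
    have h2 : C.relIndex E = 2 := by
      refine index_eq_two_iff.2 ⟨⟨g, Or.inr hg⟩, fun ⟨b, hb⟩ => ?_⟩
      have e1 : b * g * y * (b * g)⁻¹ = (b * y * b⁻¹)⁻¹ := by
        calc b * g * y * (b * g)⁻¹ = b * (g * y * g⁻¹) * b⁻¹ := by group
          _ = _ := by rw [hg]; group
      simp only [C, mem_subgroupOf, mem_centralizer_singleton_iff, Subgroup.coe_mul]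
      rw [← mul_inv_eq_iff_eq_mul, ← mul_inv_eq_iff_eq_mul (a := b * y), e1]
      rcases hb with h | h
      · exact Or.inr ⟨h, by rw [h]; exact fun e => hyy e.symm⟩
      · exact Or.inl ⟨by rw [h, inv_inv], by rw [h]; exact fun e => hyy e.symm⟩
    have h4 : 4 ∣ Nat.card G := by
      refine dvd_trans ?_ E.card_subgroup_dvd_card
      rw [← CfsgLib.StructB.Kazarin.card_mul_relIndex_of_le hCE, h2]
      have : 2 ∣ Nat.card C := by
        obtain ⟨k, hk⟩ := S.2 ⟨t, ht⟩
        obtain ⟨j, -, hj⟩ := (Nat.dvd_prime_pow Nat.prime_two).1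
          (orderOf_dvd_of_pow_eq_one (congrArg Subtype.val hk : t ^ 2 ^ k = 1))
        have hj0 : j ≠ 0 := fun e => ht1 (orderOf_eq_one_iff.1 (by rw [hj, e, pow_zero]))
        exact (hj ▸ dvd_pow_self 2 hj0).trans
          (C.orderOf_dvd_natCard (mem_centralizer_singleton_iff.2 hc))
      obtain ⟨c, hc⟩ := this
      exact ⟨c, by rw [hc]; ring⟩
    rw [hcard] at h4
    have := Nat.odd_iff.1 hOodd
    omega
  have hinv : ∀ t : G, t ∈ S → t ≠ 1 → ∀ x : G, x ∈ O → t * x * t⁻¹ = x⁻¹ := by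
    intro t ht ht1 x hx
    have ht2 : t * t = 1 := by
      have h1 := orderOf_dvd_natCard (⟨t, ht⟩ : (S : Subgroup G))
      rw [hS2, Subgroup.orderOf_mk] at h1
      rw [← pow_two]
      exact orderOf_dvd_iff_pow_eq_one.1 h1
    let f : O → O := fun y => ⟨(y : G)⁻¹ * (t * y * t⁻¹),
      O.mul_mem (O.inv_mem y.2) (hOn.conj_mem y y.2 t)⟩
    have hf : Function.Injective f := by
      intro a b hab
      have h1 : (a : G)⁻¹ * (t * a * t⁻¹) = (b : G)⁻¹ * (t * b * t⁻¹) := congrArg Subtype.val hab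
      have h2 : t * ((b : G) * (a : G)⁻¹) * t⁻¹ = (b : G) * (a : G)⁻¹ := by
        calc t * ((b : G) * (a : G)⁻¹) * t⁻¹
            = (b : G) * ((b : G)⁻¹ * (t * b * t⁻¹)) * (t * a * t⁻¹)⁻¹ := by group
          _ = (b : G) * ((a : G)⁻¹ * (t * a * t⁻¹)) * (t * a * t⁻¹)⁻¹ := by rw [h1]
          _ = _ := by group
      have h3 := hfpf t ht ht1 _ (O.mul_mem b.2 (O.inv_mem a.2)) (mul_inv_eq_iff_eq_mul.1 h2)
      exact Subtype.ext (mul_inv_eq_one.1 h3).symm
    obtain ⟨y, hy⟩ := Finite.injective_iff_surjective.1 hf ⟨x, hx⟩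
    have hti : t⁻¹ = t := inv_eq_of_mul_eq_one_right ht2
    rw [show x = (y : G)⁻¹ * (t * y * t⁻¹) from (congrArg Subtype.val hy).symm, hti, mul_inv_rev,
      mul_inv_rev, mul_inv_rev, inv_inv, hti]
    calc t * ((y : G)⁻¹ * (t * y * t)) * t = t * (y : G)⁻¹ * t * y * (t * t) := by
          simp only [mul_assoc]
      _ = _ := by rw [ht2, mul_one]; simp only [mul_assoc]
  refine ⟨hNc.symm, le_antisymm ?_ ?_, hinv⟩
  · obtain ⟨⟨t, ht⟩, hto⟩ := exists_prime_orderOf_dvd_card' (G := (S : Subgroup G)) 2 hScard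
    have ht1 : t ≠ 1 := fun h => by rw [Subgroup.orderOf_mk, h, orderOf_one] at hto; omega
    intro x hx
    obtain ⟨j, hj⟩ := hOodd
    set w := x ^ (j + 1) with hw
    have hwx : w * w = x := by
      rw [hw, ← pow_add, show j + 1 + (j + 1) = (2 * j + 1) + 1 by ring, pow_succ,
        show x ^ (2 * j + 1) = 1 by
          rw [← hj]; exact congrArg Subtype.val (pow_card_eq_one' (x := (⟨x, hx⟩ : O))), one_mul]
    have h1 : ⁅w, t⁆ = x := by
      rw [commutatorElement_def, mul_assoc w t, mul_assoc w (t * w⁻¹),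
        hinv t ht ht1 w⁻¹ (O.inv_mem (O.pow_mem hx _)), inv_inv, hwx]
    rw [← h1]
    exact commutator_mem_commutator (mem_top w) (mem_top t)
  · refine Subgroup.Normal.quotient_commutative_iff_commutator_le.1 ⟨⟨?_⟩⟩
    have hq : Nat.card (G ⧸ O) = 2 := by
      rw [← index_eq_card, hNc.symm.index_eq_card, hS2]
    haveI : IsCyclic (G ⧸ O) := isCyclic_of_prime_card hq
    exact fun a b => mul_comm' a b

end Cfsg.Agent.S4061
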