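import Cfsg.Statements.S4062
import Cfsg.Agent.Lib.Solvable.MinNormal
import Mathlib
-- import your own Cfsg.Agent.* helpers here

set_option autoImplicit false
open Cfsg

namespace Cfsg.Agent.S4062

universe u

/-- A noncommutative group of order six is `S₃`. -/
theorem equiv_perm_three {G : Type*} [Group G] [Finite G] (hG : Nat.card G = 6) (hna : ¬ IsMulCommutative G) :
    Nonempty (G ≃* Equiv.Perm (Fin 3)) := by
  classical
  obtain ⟨t, ht⟩ := exists_prime_orderOf_dvd_card' (G := G) 2 (hp := ⟨Nat.prime_two⟩) (by rw [hG]; norm_num)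
  set T := Subgroup.zpowers t with hT
  have hTi : T.index = 3 := by
    have h1 := Subgroup.card_mul_index T
    rw [hT, Nat.card_zpowers, ht, hG] at h1
    rw [hT]; omega
  haveI : Fintype (G ⧸ T) := Fintype.ofFinite _
  have e3 : G ⧸ T ≃ Fin 3 := Fintype.equivFinOfCardEq (by rw [← Nat.card_eq_fintype_card, ← Subgroup.index_eq_card, hTi])
  let f : G →* Equiv.Perm (Fin 3) := (Equiv.permCongrHom e3).toMonoidHom.comp (MulAction.toPermHom G (G ⧸ T))
  have hker : f.ker = ⊥ := by
    rw [eq_bot_iff]
    intro k hk
    have hk' : ∀ q : G ⧸ T, k • q = q := by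
      intro q
      have h1 : (MulAction.toPermHom G (G ⧸ T)) k = 1 :=
        (Equiv.permCongrHom e3).injective ((MonoidHom.mem_ker.1 hk).trans (map_one _).symm)
      exact Equiv.ext_iff.1 h1 q
    have hkT : ∀ g : G, g⁻¹ * k * g ∈ T := fun g => by
      have h1 := hk' (QuotientGroup.mk g)
      rw [MulAction.Quotient.smul_mk, QuotientGroup.eq] at h1
      simpa [mul_assoc] using T.inv_mem h1
    have hor : k = 1 ∨ k = t := by
      have hmem : k ∈ T := by simpa using hkT 1
      obtain ⟨i, rfl⟩ := hmem
      have htt : t ^ (2 : ℤ) = 1 := by rw [show (2 : ℤ) = ((2 : ℕ) : ℤ) from rfl, zpow_natCast, ← ht, pow_orderOf_eq_one]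
      rcases Int.emod_two_eq_zero_or_one i with h | h
      · left; show t ^ i = 1; rw [← Int.emod_add_mul_ediv i 2, h, zero_add, zpow_mul, htt, one_zpow]
      · right; show t ^ i = t; rw [← Int.emod_add_mul_ediv i 2, h, zpow_add, zpow_one, zpow_mul, htt, one_zpow, mul_one]
    rcases hor with h | h
    · exact Subgroup.mem_bot.2 h
    exfalso
    subst h
    -- the involution is central
    have hcen : ∀ g : G, g⁻¹ * k * g = k := by
      intro g
      obtain ⟨i, hi⟩ := hkT g
      have hne : g⁻¹ * k * g ≠ 1 := fun e => by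
        have hk1 : k = 1 := by
          calc k = g * (g⁻¹ * k * g) * g⁻¹ := by group
            _ = 1 := by rw [e]; group
        rw [hk1, orderOf_one] at ht; omega
      have htt : k ^ (2 : ℤ) = 1 := by rw [show (2 : ℤ) = ((2 : ℕ) : ℤ) from rfl, zpow_natCast, ← ht, pow_orderOf_eq_one]
      have hi' : k ^ i = g⁻¹ * k * g := hi
      rcases Int.emod_two_eq_zero_or_one i with h | h
      · exfalso; refine hne ?_; rw [← hi', ← Int.emod_add_mul_ediv i 2, h, zero_add, zpow_mul, htt, one_zpow]
      · rw [← hi', ← Int.emod_add_mul_ediv i 2, h, zpow_add, zpow_one, zpow_mul, htt, one_zpow, mul_one]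
    haveI : T.Normal := ⟨fun x hx g => by
      obtain ⟨i, rfl⟩ := hx
      refine ⟨i, ?_⟩
      show k ^ i = g * k ^ i * g⁻¹
      rw [← conj_zpow]
      congr 1
      simpa using (hcen g⁻¹).symm⟩
    refine hna ?_
    have hTz : T ≤ Subgroup.center G := Subgroup.zpowers_le.2 (Subgroup.mem_center_iff.2 fun g => by
      conv_lhs => rw [← hcen g]
      group)
    haveI : Fact (Nat.Prime 3) := ⟨Nat.prime_three⟩
    haveI : IsCyclic (G ⧸ T) := isCyclic_of_prime_card (p := 3) (by rw [← Subgroup.index_eq_card, hTi])
    exact ⟨⟨commutative_of_cyclic_center_quotient (QuotientGroup.mk' T) (by rw [QuotientGroup.ker_mk']; exact hTz)⟩⟩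
  have hinj : Function.Injective f := (MonoidHom.ker_eq_bot_iff f).1 hker
  exact ⟨MulEquiv.ofBijective f ((Nat.bijective_iff_injective_and_card f).2 ⟨hinj, by
    rw [hG, Nat.card_perm, Nat.card_fin]; rfl⟩)⟩

/-- Facts about the symmetric group of degree three. -/
theorem perm_three_centralizer : ∀ t g : Equiv.Perm (Fin 3), t ≠ 1 → g * t = t * g → g = 1 ∨ g = t ∨ g = t * t := by
  decide

theorem aux (n : ℕ) : ∀ (G : Type u) [Group G] [Finite G] [Group.IsSolvable G], Nat.card G = n →
    (∀ x y : G, orderOf x = orderOf y → IsConj x y) →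
    Nat.card G = 1 ∨ Nat.card G = 2 ∨ Nonempty (G ≃* Equiv.Perm (Fin 3)) := by
  classical
  induction n using Nat.strong_induction_on with
  | _ n ih =>
    intro G _ _ _ hn hG
    by_cases h1 : Nat.card G = 1
    · exact Or.inl h1
    haveI : Nontrivial G := Finite.one_lt_card_iff_nontrivial.1 (by have := Nat.card_pos (α := G); omega)
    obtain ⟨N, hN, hNne, hNmin⟩ := CfsgLib.Solvable.exists_minimal_normal (G := G)
    obtain ⟨p, hp, -, hNexp, hNc⟩ := CfsgLib.Solvable.exists_isPGroup_of_minimal_normal hNne hNmin
    haveI : Fact p.Prime := ⟨hp⟩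
    have hNord : ∀ x ∈ N, x ≠ 1 → orderOf x = p := fun x hx hx1 => orderOf_eq_prime (hNexp x hx) hx1
    obtain ⟨n0, hn0, hn01⟩ : ∃ x ∈ N, x ≠ 1 := by
      obtain ⟨⟨x, hx⟩, hx1⟩ := Subgroup.ne_bot_iff_exists_ne_one.1 hNne
      exact ⟨x, hx, fun e => hx1 (Subtype.ext e)⟩
    have hordp : ∀ x : G, orderOf x = p → x ∈ N := fun x hx => by
      obtain ⟨c, hc⟩ := isConj_iff.1 (hG n0 x (by rw [hNord n0 hn0 hn01, hx]))
      rw [← hc]; exact hN.conj_mem n0 hn0 c
    -- lifts of elements of order divisible by `p` gain a factor `p`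
    have hlift : ∀ x : G, p ∣ orderOf (QuotientGroup.mk x : G ⧸ N) →
        orderOf x = orderOf (QuotientGroup.mk x : G ⧸ N) * p := by
      intro x hx
      set k := orderOf (QuotientGroup.mk x : G ⧸ N) with hk
      have hxk : x ^ k ∈ N := by
        rw [← QuotientGroup.eq_one_iff, QuotientGroup.mk_pow, pow_orderOf_eq_one]
      have h2 : x ^ k ≠ 1 := fun e => by
        have hdvd : k ∣ orderOf x := orderOf_map_dvd (QuotientGroup.mk' N) x
        have heq : orderOf x = k := Nat.dvd_antisymm (orderOf_dvd_of_pow_eq_one e) hdvd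
        obtain ⟨j, hj⟩ := hx
        have hj0 : j ≠ 0 := fun h => by rw [h, mul_zero] at hj; exact (orderOf_pos (QuotientGroup.mk x : G ⧸ N)).ne' (hk.symm.trans hj)
        have h3 : orderOf (x ^ j) = p := by
          rw [orderOf_pow_of_dvd hj0 (heq ▸ ⟨p, by rw [hj, mul_comm]⟩), heq, hj, Nat.mul_div_cancel _ (Nat.pos_of_ne_zero hj0)]
        have h4 : (QuotientGroup.mk x : G ⧸ N) ^ j = 1 := by
          rw [← QuotientGroup.mk_pow, QuotientGroup.eq_one_iff]; exact hordp _ h3
        have h5 := Nat.le_of_dvd (Nat.pos_of_ne_zero hj0) (orderOf_dvd_of_pow_eq_one h4)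
        rw [← hk, hj] at h5
        have := hp.two_le
        nlinarith [Nat.pos_of_ne_zero hj0]
      have h6 := hNord _ hxk h2
      have hdvd : k ∣ orderOf x := orderOf_map_dvd (QuotientGroup.mk' N) x
      rw [orderOf_pow_of_dvd (orderOf_pos _).ne' hdvd] at h6
      rw [← h6, Nat.mul_div_cancel' hdvd]
    have hQ : ∀ x y : G ⧸ N, orderOf x = orderOf y → IsConj x y := by
      intro x y hxy
      obtain ⟨x, rfl⟩ := QuotientGroup.mk_surjective x
      obtain ⟨y, rfl⟩ := QuotientGroup.mk_surjective y
      set k := orderOf (QuotientGroup.mk x : G ⧸ N) with hk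
      by_cases hpk : p ∣ k
      · exact (QuotientGroup.mk' N).map_isConj (hG x y (by rw [hlift x hpk, hlift y (hxy ▸ hpk), ← hxy]))
      obtain ⟨e, he1, he2⟩ := Nat.chineseRemainder (((hp.coprime_iff_not_dvd).2 hpk).symm) 1 0
      have key : ∀ z : G, orderOf (QuotientGroup.mk z : G ⧸ N) = k →
          (QuotientGroup.mk (z ^ e) : G ⧸ N) = QuotientGroup.mk z ∧ orderOf (z ^ e) = k := by
        intro z hz
        have h2 : (QuotientGroup.mk (z ^ e) : G ⧸ N) = QuotientGroup.mk z := by
          rw [QuotientGroup.mk_pow]
          exact (pow_eq_pow_iff_modEq.2 (hz.symm ▸ he1)).trans (pow_one _)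
        refine ⟨h2, Nat.dvd_antisymm (orderOf_dvd_of_pow_eq_one ?_) ?_⟩
        · obtain ⟨c, hc⟩ := Nat.modEq_zero_iff_dvd.1 he2
          have hzk : z ^ k ∈ N := by rw [← QuotientGroup.eq_one_iff, QuotientGroup.mk_pow, ← hz, pow_orderOf_eq_one]
          rw [← pow_mul, hc, mul_comm, pow_mul, pow_mul, hNexp _ hzk, one_pow]
        · have := orderOf_map_dvd (QuotientGroup.mk' N) (z ^ e)
          rwa [QuotientGroup.mk'_apply, h2, hz] at this
      obtain ⟨ex, hex⟩ := key x rfl
      obtain ⟨ey, hey⟩ := key y hxy.symm
      rw [← ex, ← ey]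
      exact (QuotientGroup.mk' N).map_isConj (hG _ _ (hex.trans hey.symm))
    have hNc1 := (Subgroup.one_lt_card_iff_ne_bot N).2 hNne
    have hmul := Subgroup.card_eq_card_quotient_mul_card_subgroup N
    have hlt : Nat.card (G ⧸ N) < n := by
      rw [← hn, hmul]; exact lt_mul_of_one_lt_right Nat.card_pos hNc1
    have hcomm : ∀ a ∈ N, ∀ b ∈ N, Commute a b := fun a ha b hb =>
      congrArg Subtype.val (hNc.is_comm.comm (⟨a, ha⟩ : N) ⟨b, hb⟩)
    -- orbit of a nontrivial element of `N`
    have horb : ∀ x ∈ N, x ≠ 1 → (Subgroup.centralizer ({x} : Set G)).index + 1 = Nat.card N := by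
      intro x hx hx1
      set C := Subgroup.centralizer ({x} : Set G) with hC
      let f : Option (G ⧸ C) → N := fun o => match o with
        | none => 1
        | some q => ⟨q.out * x * q.out⁻¹, hN.conj_mem x hx _⟩
      have hf : Function.Bijective f := by
        constructor
        · rintro (_ | a) (_ | b) he
          · rfl
          · exact absurd (congrArg Subtype.val he : (1 : G) = b.out * x * b.out⁻¹).symm (fun e => hx1 (conj_eq_one_iff.1 e))
          · exact absurd (congrArg Subtype.val he : a.out * x * a.out⁻¹ = 1) (fun e => hx1 (conj_eq_one_iff.1 e))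
          · have he' : a.out * x * a.out⁻¹ = b.out * x * b.out⁻¹ := congrArg Subtype.val he
            refine congrArg some ?_
            rw [← QuotientGroup.out_eq' a, ← QuotientGroup.out_eq' b]
            refine QuotientGroup.eq.2 (Subgroup.mem_centralizer_singleton_iff.2 ?_)
            calc a.out⁻¹ * b.out * x = a.out⁻¹ * (b.out * x * b.out⁻¹) * b.out := by group
              _ = a.out⁻¹ * (a.out * x * a.out⁻¹) * b.out := by rw [he']
              _ = x * (a.out⁻¹ * b.out) := by group
        · rintro ⟨y, hy⟩
          by_cases hy1 : y = 1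
          · exact ⟨none, Subtype.ext hy1.symm⟩
          obtain ⟨c, hc⟩ := isConj_iff.1 (hG x y (by rw [hNord x hx hx1, hNord y hy hy1]))
          refine ⟨some (QuotientGroup.mk c), Subtype.ext ?_⟩
          show (QuotientGroup.mk c : G ⧸ C).out * x * (QuotientGroup.mk c : G ⧸ C).out⁻¹ = y
          obtain ⟨d, hd⟩ := QuotientGroup.mk_out_eq_mul C c
          rw [hd, ← hc, show c * (d : G) * x * (c * (d : G))⁻¹ = c * ((d : G) * x * (d : G)⁻¹) * c⁻¹ by group,
            Subgroup.mem_centralizer_singleton_iff.1 d.2, mul_inv_cancel_right]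
      rw [Subgroup.index_eq_card, ← Finite.card_option]
      exact Nat.card_congr (Equiv.ofBijective f hf)
    have hindle : ∀ x ∈ N, (Subgroup.centralizer ({x} : Set G)).index ∣ N.index := fun x hx =>
      Subgroup.index_dvd_of_le (fun y hy => Subgroup.mem_centralizer_singleton_iff.2 (hcomm y hy x hx).eq)
    rcases ih _ hlt (G ⧸ N) rfl hQ with hq | hq | ⟨⟨e⟩⟩
    · -- abelian
      have hi := hindle n0 hn0
      rw [Subgroup.index_eq_card N, hq, Nat.dvd_one] at hi
      have := horb n0 hn0 hn01
      right; left
      rw [hmul, hq, one_mul]; omega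
    · have hi := hindle n0 hn0
      rw [Subgroup.index_eq_card N, hq] at hi
      have hle := Nat.le_of_dvd two_pos hi
      have h0 : 0 < (Subgroup.centralizer ({n0} : Set G)).index := Nat.pos_of_ne_zero Subgroup.index_ne_zero_of_finite
      have hh := horb n0 hn0 hn01
      rw [hq] at hmul
      rcases (show Nat.card N = 2 ∨ Nat.card N = 3 by omega) with hN2 | hN3
      · exfalso
        rw [hN2] at hmul
        haveI : Fact (Nat.Prime 2) := ⟨Nat.prime_two⟩
        have hab := IsPGroup.isMulCommutative_of_card_eq_prime_sq (p := 2) hmul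
        have hinj : Function.Injective (fun g : G => (⟨orderOf g, Nat.mem_divisors.2 ⟨orderOf_dvd_natCard g, Nat.card_pos.ne'⟩⟩ :
            {d // d ∈ (Nat.card G).divisors})) := fun a b hab' => by
          obtain ⟨c, hc⟩ := isConj_iff.1 (hG a b (congrArg Subtype.val hab'))
          rw [← hc, hab.is_comm.comm c a, mul_inv_cancel_right]
        have h3 := Nat.card_le_card_of_injective _ hinj
        rw [Nat.card_eq_fintype_card (α := {d // _}), Fintype.card_coe, hmul] at h3
        exact absurd h3 (by decide)
      · right; right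
        refine equiv_perm_three (by rw [hmul, hN3]) fun hab => ?_
        have : (Subgroup.centralizer ({n0} : Set G)) = ⊤ :=
          eq_top_iff.2 fun g _ => Subgroup.mem_centralizer_singleton_iff.2 (hab.is_comm.comm g n0)
        rw [this, Subgroup.index_top] at hh
        omega
    · exfalso
      have hcard6 : Nat.card (G ⧸ N) = 6 := by
        rw [Nat.card_congr e.toEquiv, Nat.card_perm, Nat.card_fin]; rfl
      have hcent : ∀ q g : G ⧸ N, q ≠ 1 → g * q = q * g → g = 1 ∨ g = q ∨ g = q * q := by
        intro q g hq hgq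
        have := perm_three_centralizer (e q) (e g) (fun h => hq (e.injective (h.trans e.map_one.symm)))
          (by rw [← map_mul, hgq, map_mul])
        rcases this with h | h | h
        · exact Or.inl (e.injective (h.trans e.map_one.symm))
        · exact Or.inr (Or.inl (e.injective h))
        · exact Or.inr (Or.inr (e.injective (h.trans (map_mul e q q).symm)))
      have hi := hindle n0 hn0
      rw [Subgroup.index_eq_card N, hcard6] at hi
      have hh := horb n0 hn0 hn01
      have hle := Nat.le_of_dvd (by norm_num) hi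
      -- cyclic `N` with `p` dividing an element order
      have hcyc : ∀ y : G, p ∣ orderOf (QuotientGroup.mk y : G ⧸ N) → Nat.card N = p → False := by
        intro y hpy hNp
        set k := orderOf (QuotientGroup.mk y : G ⧸ N) with hk
        have hyk : y ^ k ∈ N := by rw [← QuotientGroup.eq_one_iff, QuotientGroup.mk_pow, pow_orderOf_eq_one]
        have hyk1 : y ^ k ≠ 1 := fun e => by
          have h7 := Nat.le_of_dvd (orderOf_pos _) (orderOf_dvd_of_pow_eq_one e)
          rw [hlift y hpy, ← hk] at h7
          have := hp.two_le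
          have : 0 < k := orderOf_pos _
          nlinarith
        have hyN : ∀ x ∈ N, Commute y x := by
          intro x hx
          have hz : Subgroup.zpowers (y ^ k) = N :=
            Subgroup.eq_of_le_of_card_ge (Subgroup.zpowers_le.2 hyk) (by rw [Nat.card_zpowers, hNord _ hyk hyk1, hNp])
          rw [← hz] at hx
          obtain ⟨i, rfl⟩ := hx
          exact ((Commute.refl y).pow_right k).zpow_right i
        obtain ⟨c, hc⟩ := isConj_iff.1 (hG y (y * n0) (by
          have hmk : (QuotientGroup.mk (y * n0) : G ⧸ N) = QuotientGroup.mk y := by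
            rw [QuotientGroup.mk_mul, (QuotientGroup.eq_one_iff n0).2 hn0, mul_one]
          rw [hlift y hpy, hlift (y * n0) (by rw [hmk]; exact hpy), hmk]))
        have hcy : (QuotientGroup.mk c : G ⧸ N) * QuotientGroup.mk y = QuotientGroup.mk y * QuotientGroup.mk c := by
          have := congrArg (QuotientGroup.mk : G → G ⧸ N) hc
          rw [QuotientGroup.mk_mul, QuotientGroup.mk_mul, QuotientGroup.mk_inv, QuotientGroup.mk_mul,
            (QuotientGroup.eq_one_iff n0).2 hn0, mul_one, mul_inv_eq_iff_eq_mul] at this
          exact this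
        have hy1 : (QuotientGroup.mk y : G ⧸ N) ≠ 1 := fun e => by
          rw [hk, e, orderOf_one, Nat.dvd_one] at hpy
          exact hp.ne_one hpy
        have key : ∀ d : G, Commute d y → (QuotientGroup.mk c : G ⧸ N) = QuotientGroup.mk d → Commute c y := by
          intro d hd hcd
          have := (QuotientGroup.eq.1 hcd.symm)
          have h := hd.mul_left (hyN _ this).symm
          rwa [mul_inv_cancel_left] at h
        have hcc : Commute c y := by
          rcases hcent _ _ hy1 hcy with h | h | h
          · exact key 1 (Commute.one_left y) h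
          · exact key y (Commute.refl y) h
          · exact key (y * y) ((Commute.refl y).mul_left (Commute.refl y)) (h.trans (QuotientGroup.mk_mul N y y).symm)
        rw [hcc.eq, mul_inv_cancel_right] at hc
        exact hn01 (mul_eq_left.1 hc.symm)
      haveI : Fact (Nat.Prime 2) := ⟨Nat.prime_two⟩
      haveI : Fact (Nat.Prime 3) := ⟨Nat.prime_three⟩
      obtain ⟨k, hk⟩ : ∃ k, Nat.card N = p ^ k := IsPGroup.iff_card.1 (fun x => ⟨1, Subtype.ext (by simpa using hNexp x x.2)⟩)
      have hk0 : k ≠ 0 := fun e => by rw [e, pow_zero] at hk; omega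
      have hpN : p ∣ Nat.card N := hk ▸ dvd_pow_self p hk0
      obtain ⟨tq, htq⟩ := exists_prime_orderOf_dvd_card' (G := G ⧸ N) 2 (by rw [hcard6]; norm_num)
      obtain ⟨t, rfl⟩ := QuotientGroup.mk_surjective tq
      set i := (Subgroup.centralizer ({n0} : Set G)).index with hidef
      rcases (show i = 1 ∨ i = 2 ∨ i = 3 ∨ i = 6 by
        rcases hi with ⟨c, hc⟩
        have h0 : 0 < i := Nat.pos_of_ne_zero Subgroup.index_ne_zero_of_finite
        interval_cases i <;> omega) with h | h | h | h <;> rw [h] at hh
      · -- `|N| = 2`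
        have hp2 : p = 2 := (Nat.prime_dvd_prime_iff_eq hp Nat.prime_two).1 (by rw [← hh] at hpN; simpa using hpN)
        exact hcyc t (by rw [htq, hp2]) (by rw [hp2, ← hh])
      · -- `|N| = 3`
        have hp3 : p = 3 := (Nat.prime_dvd_prime_iff_eq hp Nat.prime_three).1 (by rw [← hh] at hpN; simpa using hpN)
        obtain ⟨sq, hsq⟩ := exists_prime_orderOf_dvd_card' (G := G ⧸ N) 3 (by rw [hcard6]; norm_num)
        obtain ⟨s, rfl⟩ := QuotientGroup.mk_surjective sq
        exact hcyc s (by rw [hsq, hp3]) (by rw [hp3, ← hh])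
      · -- `|N| = 4`
        have hp2 : p = 2 := (Nat.prime_dvd_prime_iff_eq hp Nat.prime_two).1
          (hp.dvd_of_dvd_pow (n := 2) (by rw [← hh] at hpN; simpa using hpN))
        subst hp2
        have hto : orderOf t = 4 := by rw [hlift t (by rw [htq]), htq]
        set z := t * t with hz
        have hzN : z ∈ N := by
          rw [← QuotientGroup.eq_one_iff, QuotientGroup.mk_mul, ← pow_two, ← htq, pow_orderOf_eq_one]
        have hz1 : z ≠ 1 := fun e => by
          have := Nat.le_of_dvd two_pos (orderOf_dvd_of_pow_eq_one (show t ^ 2 = 1 by rw [pow_two]; exact e))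
          omega
        by_cases hall : ∀ x ∈ N, Commute t x
        · -- all centralisers coincide, so the image of `t` is normal
          have hC : ∀ x ∈ N, x ≠ 1 → Subgroup.centralizer ({x} : Set G) = N ⊔ Subgroup.zpowers t := by
            intro x hx hx1
            refine (Subgroup.eq_of_le_of_card_ge (sup_le (fun y hy => Subgroup.mem_centralizer_singleton_iff.2 (hcomm y hy x hx).eq)
              (Subgroup.zpowers_le.2 (Subgroup.mem_centralizer_singleton_iff.2 (hall x hx).eq))) ?_).symm
            have h1 := Subgroup.card_mul_index (Subgroup.centralizer ({x} : Set G))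
            have h2 := horb x hx hx1
            rw [hmul, hcard6, ← hh] at h1
            rw [← hh] at h2
            have hC8 : Nat.card (Subgroup.centralizer ({x} : Set G)) = 8 := by
              rw [show (Subgroup.centralizer ({x} : Set G)).index = 3 by omega] at h1
              omega
            rw [hC8]
            have hlt : N < N ⊔ Subgroup.zpowers t := lt_of_le_of_ne le_sup_left fun e => by
              have htN : t ∈ N := e ▸ Subgroup.mem_sup_right (Subgroup.mem_zpowers t)
              rw [(QuotientGroup.eq_one_iff t).2 htN, orderOf_one] at htq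
              omega
            obtain ⟨j, hj⟩ := Subgroup.card_dvd_of_le (le_sup_left : N ≤ N ⊔ Subgroup.zpowers t)
            have hne : Nat.card N ≠ Nat.card (N ⊔ Subgroup.zpowers t : Subgroup G) := fun e =>
              hlt.ne (Subgroup.eq_of_le_of_card_ge hlt.le e.ge)
            have hpos : 0 < Nat.card (N ⊔ Subgroup.zpowers t : Subgroup G) := Nat.card_pos
            rw [← hh] at hj hne
            omega
          have hnorm : ∀ g : G, g * t * g⁻¹ ∈ N ⊔ Subgroup.zpowers t := by
            intro g
            have hx' : g * z * g⁻¹ ∈ N := hN.conj_mem z hzN g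
            rw [← hC _ hx' (fun e => hz1 (conj_eq_one_iff.1 e))]
            refine Subgroup.mem_centralizer_singleton_iff.2 ?_
            rw [hz]; group
          have hcen : ∀ q : G ⧸ N, q * QuotientGroup.mk t = QuotientGroup.mk t * q := by
            intro q
            obtain ⟨g, rfl⟩ := QuotientGroup.mk_surjective q
            obtain ⟨u, hu, v, ⟨j, rfl⟩, huv⟩ := Subgroup.mem_sup_of_normal_left.1 (hnorm g)
            have h1 : (QuotientGroup.mk g : G ⧸ N) * QuotientGroup.mk t * (QuotientGroup.mk g)⁻¹ = (QuotientGroup.mk t : G ⧸ N) ^ j := by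
              rw [← QuotientGroup.mk_inv, ← QuotientGroup.mk_mul, ← QuotientGroup.mk_mul, ← huv, QuotientGroup.mk_mul,
                (QuotientGroup.eq_one_iff u).2 hu, one_mul, QuotientGroup.mk_zpow]
            have htt : (QuotientGroup.mk t : G ⧸ N) ^ (2 : ℤ) = 1 := by
              rw [show (2 : ℤ) = ((2 : ℕ) : ℤ) from rfl, zpow_natCast, ← htq, pow_orderOf_eq_one]
            rcases Int.emod_two_eq_zero_or_one j with hj | hj
            · rw [← Int.emod_add_mul_ediv j 2, hj, zero_add, zpow_mul, htt, one_zpow] at h1
              rw [conj_eq_one_iff.1 h1, orderOf_one] at htq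
              omega
            · rw [← Int.emod_add_mul_ediv j 2, hj, zpow_add, zpow_one, zpow_mul, htt, one_zpow, mul_one] at h1
              exact mul_inv_eq_iff_eq_mul.1 h1
          have hle3 : Nat.card (G ⧸ N) ≤ 3 := by
            have hsub : ∀ q : G ⧸ N, q ∈ ({1, QuotientGroup.mk t, QuotientGroup.mk t * QuotientGroup.mk t} : Finset (G ⧸ N)) := fun q => by
              simpa using hcent _ q (fun e => by rw [e, orderOf_one] at htq; omega) (hcen q)
            haveI := Fintype.ofFinite (G ⧸ N)
            rw [Nat.card_eq_fintype_card, ← Finset.card_univ]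
            exact (Finset.card_le_card fun q _ => hsub q).trans Finset.card_le_three
          omega
        · push Not at hall
          obtain ⟨x, hx, hxt⟩ := hall
          set x' := t⁻¹ * x * t with hx'
          have hx'N : x' ∈ N := by simpa [hx'] using hN.conj_mem x hx t⁻¹
          have hxx : x * x = 1 := by rw [← pow_two]; exact hNexp x hx
          have hne : x' * x ≠ 1 := fun e => hxt (by
            have hxe : x' = x := (mul_eq_one_iff_eq_inv.1 e).trans (inv_eq_of_mul_eq_one_right hxx)
            rw [hx'] at hxe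
            show t * x = x * t
            calc t * x = t * (t⁻¹ * x * t) := by rw [hxe]
              _ = x * t := by group)
          have hx1 : x ≠ 1 := fun e => hxt (e ▸ Commute.one_right t)
          have hzx : z ≠ x := fun e => hxt (e ▸ ((Commute.refl t).mul_right (Commute.refl t)))
          have hzx' : z ≠ x' := fun e => hzx (by
            calc z = t * z * t⁻¹ := by rw [hz]; group
              _ = t * (t⁻¹ * x * t) * t⁻¹ := by rw [e]
              _ = x := by group)
          have hx'1 : x' ≠ 1 := fun e => hx1 (by
            calc x = t * x' * t⁻¹ := by rw [hx']; group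
              _ = 1 := by rw [e]; group)
          have hxx' : x ≠ x' := fun e => hne (by rw [← e, hxx])
          -- the four elements
          have hprod : x' * x = z := by
            haveI := Fintype.ofFinite N
            have hcard4 : ({⟨1, N.one_mem⟩, ⟨z, hzN⟩, ⟨x, hx⟩, ⟨x', hx'N⟩} : Finset N) = Finset.univ := by
              refine Finset.eq_univ_of_card _ ?_
              rw [← Nat.card_eq_fintype_card, ← hh]
              rw [Finset.card_insert_of_notMem (by simp [hz1.symm, hx1.symm, hx'1.symm]),
                Finset.card_insert_of_notMem (by simp [hzx, hzx']), Finset.card_pair (by simpa using hxx')]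
            have hmem : (⟨x' * x, N.mul_mem hx'N hx⟩ : N) ∈ ({⟨1, N.one_mem⟩, ⟨z, hzN⟩, ⟨x, hx⟩, ⟨x', hx'N⟩} : Finset N) :=
              hcard4 ▸ Finset.mem_univ _
            simp only [Finset.mem_insert, Finset.mem_singleton, Subtype.mk.injEq] at hmem
            rcases hmem with e | e | e | e
            · exact absurd e hne
            · exact e
            · exact absurd (mul_eq_right.1 e) hx'1
            · exact absurd (mul_eq_left.1 e) hx1
          have hsq : (t * x) * (t * x) = 1 := by
            have : (t * x) * (t * x) = (t * t) * (x' * x) := by rw [hx']; group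
            rw [this, hprod, ← hz, ← pow_two]
            exact hNexp z hzN
          have hord : orderOf (t * x) = 4 := by
            have hmk : (QuotientGroup.mk (t * x) : G ⧸ N) = QuotientGroup.mk t := by
              rw [QuotientGroup.mk_mul, (QuotientGroup.eq_one_iff x).2 hx, mul_one]
            rw [hlift (t * x) (by rw [hmk, htq]), hmk, htq]
          have := Nat.le_of_dvd two_pos (orderOf_dvd_of_pow_eq_one (show (t * x) ^ 2 = 1 by rw [pow_two]; exact hsq))
          omega
      · -- `|N| = 7`
        have hC : Subgroup.centralizer ({n0} : Set G) = N := by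
          refine (Subgroup.eq_of_le_of_card_ge (fun y hy => Subgroup.mem_centralizer_singleton_iff.2 (hcomm y hy n0 hn0).eq) ?_).symm
          have h1 := Subgroup.card_mul_index (Subgroup.centralizer ({n0} : Set G))
          rw [hmul, hcard6, ← hidef, h] at h1
          omega
        haveI : IsCyclic N := by
          haveI : Fact (Nat.Prime 7) := ⟨by norm_num⟩
          exact isCyclic_of_prime_card (p := 7) (by rw [← hh])
        have hab : ∀ a b : G, a⁻¹ * b⁻¹ * a * b ∈ N := by
          intro a b
          rw [← hC, Subgroup.mem_centralizer_singleton_iff]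
          have h2 : (MulAut.conjNormal (H := N) (a⁻¹ * b⁻¹ * a * b)) = 1 := by
            apply (IsCyclic.mulAutMulEquiv N).injective
            simp only [map_mul, map_inv, map_one]
            rw [mul_assoc _ _ ((IsCyclic.mulAutMulEquiv N) (MulAut.conjNormal b)), mul_comm _⁻¹ _⁻¹, ← mul_inv_rev, inv_mul_cancel]
          have h3 : (a⁻¹ * b⁻¹ * a * b) * n0 * (a⁻¹ * b⁻¹ * a * b)⁻¹ = n0 :=
            congrArg Subtype.val (DFunLike.congr_fun h2 (⟨n0, hn0⟩ : N))
          exact mul_inv_eq_iff_eq_mul.1 h3
        obtain ⟨sq, hsq⟩ := exists_prime_orderOf_dvd_card' (G := G ⧸ N) 3 (by rw [hcard6]; norm_num)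
        obtain ⟨s, rfl⟩ := QuotientGroup.mk_surjective sq
        have hts : (QuotientGroup.mk s : G ⧸ N) * QuotientGroup.mk t = QuotientGroup.mk t * QuotientGroup.mk s := by
          rw [← QuotientGroup.mk_mul, ← QuotientGroup.mk_mul]
          exact QuotientGroup.eq.2 (by simpa [mul_assoc] using hab t s)
        rcases hcent _ _ (fun e => by rw [e, orderOf_one] at htq; omega) hts with e | e | e
        · rw [e, orderOf_one] at hsq; omega
        · rw [e, htq] at hsq; omega
        · rw [e, ← pow_two, ← htq, pow_orderOf_eq_one, orderOf_one] at hsq; omega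

/-- A finite solvable group in which any two elements of the same order are conjugate has order 1 or 2 or is isomorphic to the symmetric group of degree 3. -/
theorem result {G : Type*} [Group G] [Finite G] [Group.IsSolvable G]
    (h : ∀ x y : G, orderOf x = orderOf y → IsConj x y) :
    Nat.card G = 1 ∨ Nat.card G = 2 ∨ Nonempty (G ≃* Equiv.Perm (Fin 3)) := by
  exact aux _ G rfl h

end Cfsg.Agent.S4062
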