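import Cfsg.Statements.S4064
import Cfsg.Agent.Lib.TICent.Solvable
import Cfsg.Agent.Lib.TICent.Nonsolvable
import Cfsg.Agent.S1476
-- import your own Cfsg.Agent.* helpers here

set_option autoImplicit false
open Cfsg

namespace Cfsg.Agent.S4064

/-- Let G be a finite group in which the centralizer of every element meets each of its conjugates by elements outside its normalizer trivially. Then G is nilpotent; or G is a Frobenius group with a complement that is cyclic or isomorphic to the direct product of a cyclic group of odd order and the quaternion group of order 8; or G is isomorphic to PSL₂(2ⁿ) for some n ≥ 2. -/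
theorem result {G : Type*} [Group G] [Finite G] (hTI : ∀ x : G, Cfsg.IsTISubset (Subgroup.centralizer ({x} : Set G) : Set G)) :
    Group.IsNilpotent G ∨
    (∃ H : Subgroup G, Cfsg.IsFrobeniusComplement H ∧
      (IsCyclic H ∨ ∃ m : ℕ, Odd m ∧ Nonempty (H ≃* Multiplicative (ZMod m) × QuaternionGroup 2))) ∨
    (∃ n : ℕ, 2 ≤ n ∧ Nonempty (G ≃* Matrix.ProjectiveSpecialLinearGroup (Fin 2) (GaloisField 2 n))) := by
  classical
  by_cases hZ : Subgroup.center G = ⊥
  swap
  · exact Or.inl (CfsgLib.TICent.Hyp.isNilpotent_of_center hTI hZ)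
  by_cases hnil : Group.IsNilpotent G
  · exact Or.inl hnil
  refine Or.inr ?_
  by_cases hs : Group.IsSolvable G
  swap
  · exact Or.inr (CfsgLib.TICent.exists_psl hTI hZ hs)
  have hCN := CfsgLib.TICent.Hyp.isCN hTI
  rcases Cfsg.Agent.S1476.result hCN with
    hn | ⟨K, E, -, -, hE, hc | ⟨C, Q, hCQ, hcomm, hC, hCo, n, ⟨eQ⟩⟩⟩ | ⟨p, hp, h3⟩
  · exact absurd hn hnil
  · exact Or.inl ⟨E, hE, Or.inl hc⟩
  · exact Or.inl ⟨E, hE, CfsgLib.TICent.complement_shape hTI hCQ hcomm hC hCo eQ⟩
  · have := Fact.mk hp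
    exact absurd h3 (CfsgLib.TICent.not_threeStep hTI)

end Cfsg.Agent.S4064
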