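import Cfsg.Statements.S4065
import Cfsg.Agent.Lib.Geom.CharTwoCA
-- import your own Cfsg.Agent.* helpers here

set_option autoImplicit false
open Cfsg CfsgLib.Geom

namespace Cfsg.Agent.S4065

/-- Let F be a finite field with 2ⁿ elements, n ≥ 2. In PSL₂(F) the centralizer of every element meets each of its conjugates by elements outside its normalizer trivially. -/
theorem result (n : ℕ) (hn : 2 ≤ n)
    (x : Matrix.ProjectiveSpecialLinearGroup (Fin 2) (GaloisField 2 n)) :
    Cfsg.IsTISubset (Subgroup.centralizer ({x} : Set (Matrix.ProjectiveSpecialLinearGroup (Fin 2) (GaloisField 2 n))) :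
      Set (Matrix.ProjectiveSpecialLinearGroup (Fin 2) (GaloisField 2 n))) := by
  let _ : Fintype (GaloisField 2 n) := Fintype.ofFinite _
  have hc : Fintype.card (GaloisField 2 n) = 2 ^ n := by
    rw [← Nat.card_eq_fintype_card, GaloisField.card 2 n (by omega)]
  have h4 : 4 ≤ Fintype.card (GaloisField 2 n) := hc ▸ (show 2 ^ 2 ≤ 2 ^ n from Nat.pow_le_pow_right two_pos hn)
  have heven : Even (Fintype.card (GaloisField 2 n)) := hc ▸ Nat.even_pow.2 ⟨even_two, by omega⟩
  intro g hg z hz hzg
  by_contra hz1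
  by_cases hx : x = 1
  · refine hg (Subgroup.mem_normalizer_iff.2 fun h => ?_)
    simp [hx, Subgroup.mem_centralizer_singleton_iff]
  refine hg (Subgroup.mem_normalizer_iff.2 fun w => ?_)
  have hgz1 : g * z * g⁻¹ ≠ 1 := fun e => hz1 (conj_eq_one_iff.1 e)
  have e1 := Moebius.centralizer_eq_of_mem h4 heven hx hz hz1
  have e2 := Moebius.centralizer_eq_of_mem h4 heven hx hzg hgz1
  show w ∈ Subgroup.centralizer _ ↔ g * w * g⁻¹ ∈ Subgroup.centralizer _
  conv_lhs => rw [← e1, Subgroup.mem_centralizer_singleton_iff]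
  conv_rhs => rw [← e2, Subgroup.mem_centralizer_singleton_iff]
  constructor
  · intro h
    calc g * w * g⁻¹ * (g * z * g⁻¹) = g * (w * z) * g⁻¹ := by group
      _ = g * z * g⁻¹ * (g * w * g⁻¹) := by rw [h]; group
  · intro h
    calc w * z = g⁻¹ * (g * w * g⁻¹ * (g * z * g⁻¹)) * g := by group
      _ = z * w := by rw [h]; group
end Cfsg.Agent.S4065
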