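import Cfsg.Statements.S4066
import Cfsg.Agent.Lib.StructB.Ambivalent
-- import your own Cfsg.Agent.* helpers here

set_option autoImplicit false
open Cfsg

namespace Cfsg.Agent.S4066

/-- A `p`-subgroup normalising a subgroup containing a Sylow `p`-subgroup lies in it. -/
theorem le_of_le_normalizer {G : Type*} [Group G] [Finite G] {p : ℕ} [Fact p.Prime] (P : Sylow p G)
    {C X : Subgroup G} (hPC : (P : Subgroup G) ≤ C) (hX : IsPGroup p X)
    (hXN : X ≤ Subgroup.normalizer (C : Set G)) : X ≤ C := by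
  set N := Subgroup.normalizer (C : Set G) with hN
  have hPN : (P : Subgroup G) ≤ N := hPC.trans Subgroup.le_normalizer
  obtain ⟨R, hR⟩ := IsPGroup.exists_le_sylow (G := N) (P := X.subgroupOf N)
    (hX.of_equiv (Subgroup.subgroupOfEquivOfLe hXN).symm)
  obtain ⟨n, hn⟩ := MulAction.exists_smul_eq N (P.subtype hPN) R
  intro x hx
  have h1 : (⟨x, hXN hx⟩ : N) ∈ (R : Subgroup N) := hR (show (⟨x, hXN hx⟩ : N) ∈ X.subgroupOf N from hx)
  rw [← hn, Sylow.coe_subgroup_smul] at h1
  obtain ⟨y, hy, hye⟩ := h1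
  have h2 : (n : G) * y * (n : G)⁻¹ = x := congrArg Subtype.val hye
  rw [← h2]
  exact (Subgroup.mem_normalizer_iff.1 n.2 y).1 (hPC hy)

/-- Let G be a finite group in which the centralizer of every element meets each of its conjugates by elements outside its normalizer trivially. Then any two distinct Sylow p-subgroups of G, for any prime p, intersect trivially. -/
theorem result {G : Type*} [Group G] [Finite G] (hTI : ∀ x : G, Cfsg.IsTISubset (Subgroup.centralizer ({x} : Set G) : Set G))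
    {p : ℕ} [Fact p.Prime] (P Q : Sylow p G) (hPQ : P ≠ Q) : (P : Subgroup G) ⊓ (Q : Subgroup G) = ⊥ := by
  classical
  by_contra hD
  obtain ⟨⟨w, hw⟩, hw0⟩ := Subgroup.ne_bot_iff_exists_ne_one.1 hD
  have hw1 : w ≠ 1 := fun e => hw0 (Subtype.ext e)
  obtain ⟨hwP, hwQ⟩ := Subgroup.mem_inf.1 hw
  have hTI' : ∀ x g v : G, v ≠ 1 → v ∈ Subgroup.centralizer ({x} : Set G) →
      g * v * g⁻¹ ∈ Subgroup.centralizer ({x} : Set G) →
      g ∈ Subgroup.normalizer (Subgroup.centralizer ({x} : Set G) : Set G) := fun x g v hv h1 h2 => by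
    by_contra hg
    exact hv (hTI x g hg v h1 h2)
  have hcen : ∀ x v : G, v ≠ 1 → v ∈ Subgroup.centralizer ({x} : Set G) →
      Subgroup.centralizer ({v} : Set G) ≤ Subgroup.normalizer (Subgroup.centralizer ({x} : Set G) : Set G) :=
    fun x v hv h1 g hg => hTI' x g v hv h1 (by
      rw [Subgroup.mem_centralizer_singleton_iff.1 hg, mul_inv_cancel_right]; exact h1)
  have hne : ∀ R : Sylow p G, w ∈ (R : Subgroup G) →
      ∃ z : G, z ≠ 1 ∧ z ∈ (R : Subgroup G) ∧ (R : Subgroup G) ≤ Subgroup.centralizer ({z} : Set G) := by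
    intro R hR
    haveI : Nontrivial (R : Subgroup G) := ⟨⟨⟨w, hR⟩, 1, fun e => hw1 (congrArg Subtype.val e)⟩⟩
    haveI := R.isPGroup'.center_nontrivial
    obtain ⟨⟨z, hz⟩, hz1⟩ := exists_ne (1 : Subgroup.center (R : Subgroup G))
    refine ⟨z, fun e => hz1 (Subtype.ext (Subtype.ext e)), z.2, fun r hr => ?_⟩
    refine Subgroup.mem_centralizer_singleton_iff.2 ?_
    exact congrArg Subtype.val (Subgroup.mem_center_iff.1 hz ⟨r, hr⟩)
  obtain ⟨z, hz1, hzP, hPz⟩ := hne P hwP
  obtain ⟨y, hy1, hyQ, hQy⟩ := hne Q hwQ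
  set C := Subgroup.centralizer ({z} : Set G) with hC
  have hyw : y ∈ Subgroup.centralizer ({w} : Set G) :=
    Subgroup.mem_centralizer_singleton_iff.2 (Subgroup.mem_centralizer_singleton_iff.1 (hQy hwQ)).symm
  have hyC : y ∈ C := le_of_le_normalizer P hPz (Q.isPGroup'.to_le (Subgroup.zpowers_le.2 hyQ))
    (Subgroup.zpowers_le.2 (hcen z w hw1 (hPz hwP) hyw)) (Subgroup.mem_zpowers y)
  have hQC : (Q : Subgroup G) ≤ C :=
    le_of_le_normalizer P hPz Q.isPGroup' (hQy.trans (hcen z y hy1 hyC))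
  have hnorm : ∀ c ∈ C, ∀ a : G, a ∈ C → c * a * c⁻¹ ∈ Subgroup.centralizer ({a} : Set G) := by
    intro c hc a ha
    have hN := hTI' a c z hz1 (Subgroup.mem_centralizer_singleton_iff.2 (Subgroup.mem_centralizer_singleton_iff.1 ha).symm)
      (by rw [Subgroup.mem_centralizer_singleton_iff.1 hc, mul_inv_cancel_right]
          exact Subgroup.mem_centralizer_singleton_iff.2 (Subgroup.mem_centralizer_singleton_iff.1 ha).symm)
    exact (Subgroup.mem_normalizer_iff.1 hN a).1 (Subgroup.mem_centralizer_singleton_iff.2 rfl)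
  refine hPQ (Sylow.ext (Subgroup.eq_of_le_of_card_ge (fun a ha => ?_) (by rw [Q.card_eq_multiplicity, P.card_eq_multiplicity])))
  set A := Subgroup.closure {b : G | ∃ c ∈ C, c * a * c⁻¹ = b} with hA
  have hAcomm : IsMulCommutative A := by
    rw [hA]
    refine Subgroup.isMulCommutative_closure ?_
    rintro _ ⟨c, hc, rfl⟩ _ ⟨d, hd, rfl⟩
    have h1 := Subgroup.mem_centralizer_singleton_iff.1 (hnorm (d⁻¹ * c) (mul_mem (inv_mem hd) hc) a (hPz ha))
    calc c * a * c⁻¹ * (d * a * d⁻¹) = d * ((d⁻¹ * c) * a * (d⁻¹ * c)⁻¹ * a) * d⁻¹ := by group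
      _ = d * (a * ((d⁻¹ * c) * a * (d⁻¹ * c)⁻¹)) * d⁻¹ := by rw [h1]
      _ = d * a * d⁻¹ * (c * a * c⁻¹) := by group
  obtain ⟨k, hk⟩ := P.isPGroup' ⟨a, ha⟩
  have hk' : a ^ p ^ k = 1 := congrArg Subtype.val hk
  have hApow : ∀ b ∈ A, b ^ p ^ k = 1 := by
    intro b hb
    induction hb using Subgroup.closure_induction with
    | mem b hb => obtain ⟨c, -, rfl⟩ := hb; rw [conj_pow, hk', mul_one, mul_inv_cancel]
    | one => exact one_pow _
    | mul u v hu hv iu iv =>
      have huv : Commute u v := congrArg Subtype.val (hAcomm.is_comm.comm (⟨u, hu⟩ : A) ⟨v, hv⟩)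
      rw [huv.mul_pow, iu, iv, one_mul]
    | inv u _ iu => rw [inv_pow, iu, inv_one]
  have hAp : IsPGroup p A := fun b => ⟨k, Subtype.ext (hApow b b.2)⟩
  have hQA : (Q : Subgroup G) ≤ Subgroup.normalizer (A : Set G) := by
    intro q hq
    refine CfsgLib.StructB.mem_normalizer_of_conj_le fun b hb => ?_
    have hle : A ≤ A.comap (MulAut.conj q).toMonoidHom := by
      refine (Subgroup.closure_le _).2 ?_
      rintro _ ⟨c, hc, rfl⟩
      exact Subgroup.subset_closure ⟨q * c, mul_mem (hQC hq) hc, by show _ = q * (c * a * c⁻¹) * q⁻¹; group⟩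
    exact hle hb
  have hsup := Q.is_maximal' (hAp.to_sup_of_normal_left' Q.isPGroup' hQA) le_sup_right
  rw [← hsup]
  exact Subgroup.mem_sup_left (Subgroup.subset_closure ⟨1, one_mem C, by group⟩)

end Cfsg.Agent.S4066
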