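import Cfsg.Statements.S4067
import Cfsg.Agent.Lib.Char.SmallDegree
import Cfsg.Agent.Lib.Char.Column
import Cfsg.Agent.Lib.StructC.QuatPair

set_option autoImplicit false
open Cfsg

namespace Cfsg.Agent.S4067

open Subgroup MulAction

variable {G : Type*} [Group G] [Finite G]

/-- The orbit of an element under the automorphism group. -/
def orb (g : G) : orbitRel.Quotient (MulAut G) G := Quotient.mk'' g

omit [Finite G] in
theorem orb_apply (α : MulAut G) (g : G) : orb (α g) = orb g :=
  Quotient.sound' (show α g ∈ orbit (MulAut G) g from ⟨α, rfl⟩)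

omit [Finite G] in
theorem orb_conj (a g : G) : orb (a * g * a⁻¹) = orb g := orb_apply (MulAut.conj a) g

/-- A coset-invariant set has few orbits. -/
theorem ncard_orb_image_mul_le (T : Set G) (H : Subgroup G)
    (hT : ∀ g ∈ T, ∀ h ∈ H, g * h ∈ T ∧ orb (g * h) = orb g) :
    (orb '' T).ncard * Nat.card H ≤ T.ncard := by
  classical
  rw [← Nat.card_coe_set_eq, ← Nat.card_coe_set_eq, ← Nat.card_prod]
  choose s hs hso using fun v : (orb '' T : Set (orbitRel.Quotient (MulAut G) G)) => v.2
  refine Nat.card_le_card_of_injective (fun vh => ⟨s vh.1 * vh.2, (hT _ (hs _) _ vh.2.2).1⟩) ?_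
  rintro ⟨v, h⟩ ⟨w, k⟩ he
  have he' : s v * (h : G) = s w * k := congrArg Subtype.val he
  have hvw : v = w := Subtype.ext (by
    rw [← hso v, ← hso w, ← (hT _ (hs v) _ h.2).2, ← (hT _ (hs w) _ k.2).2, he'])
  subst hvw
  exact Prod.ext rfl (Subtype.ext (mul_left_cancel he'))

/-- An automorphism fixing `M` and moving `x` to `x * w`. -/
theorem exists_aut {p : ℕ} (M : Subgroup G) [M.Normal] (hM : M.index = p) (hp : p.Prime) {x w : G}
    (hx : x ∉ M) (hw : w ∈ M) (hcen : ∀ n ∈ M, w * n = n * w) (hpow : (x * w) ^ p = x ^ p) :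
    ∃ α : MulAut G, α x = x * w ∧ ∀ n ∈ M, α n = n := by
  classical
  have : Fact p.Prime := ⟨hp⟩
  have hxq : (x : G ⧸ M) ≠ 1 := fun h => hx ((QuotientGroup.eq_one_iff x).1 h)
  have hord : orderOf (x : G ⧸ M) = p := orderOf_eq_prime (by
    rw [← hM, index_eq_card]; exact pow_card_eq_one') hxq
  have hspan : ∀ g : G, ∃ i : ℤ, g * x ^ (-i) ∈ M := by
    intro g
    have hg : (g : G ⧸ M) ∈ zpowers (x : G ⧸ M) := by
      rw [(card_eq_iff_eq_top (zpowers (x : G ⧸ M))).1 (by rw [Nat.card_zpowers, hord, ← hM, index_eq_card])]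
      exact mem_top _
    obtain ⟨i, hi⟩ := mem_zpowers_iff.1 hg
    refine ⟨i, (QuotientGroup.eq_one_iff _).1 ?_⟩
    rw [QuotientGroup.mk_mul, QuotientGroup.mk_zpow, zpow_neg, hi, mul_inv_cancel]
  choose idx hidx using hspan
  let y := x * w
  let F : G → G := fun g => g * x ^ (-idx g) * y ^ idx g
  -- the value does not depend on the chosen representation
  have hF : ∀ (m : G) (i : ℤ), m ∈ M → F (m * x ^ i) = m * y ^ i := by
    intro m i hm
    have hd : (x : G ⧸ M) ^ (i - idx (m * x ^ i)) = 1 := by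
      have h := (QuotientGroup.eq_one_iff _).2 (hidx (m * x ^ i))
      rw [QuotientGroup.mk_mul, QuotientGroup.mk_mul, (QuotientGroup.eq_one_iff m).2 hm, one_mul,
        QuotientGroup.mk_zpow, QuotientGroup.mk_zpow, ← zpow_add] at h
      rwa [sub_eq_add_neg]
    obtain ⟨l, hl⟩ := orderOf_dvd_iff_zpow_eq_one.2 hd
    rw [hord] at hl
    show m * x ^ i * x ^ (-idx (m * x ^ i)) * y ^ idx (m * x ^ i) = m * y ^ i
    rw [mul_assoc m, ← zpow_add, show i + -idx (m * x ^ i) = (p : ℤ) * l by rw [← hl]; ring,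
      zpow_mul, zpow_natCast, ← hpow, ← zpow_natCast (x * w), ← zpow_mul, mul_assoc, ← zpow_add, ← hl,
      sub_add_cancel]
  have hconj : ∀ (i : ℤ) (n : G), n ∈ M → y ^ i * n * (y ^ i)⁻¹ = x ^ i * n * (x ^ i)⁻¹ := by
    have h1 : ∀ n ∈ M, y * n * y⁻¹ = x * n * x⁻¹ := by
      intro n hn
      show x * w * n * (x * w)⁻¹ = _
      rw [mul_assoc x w n, hcen n hn]; group
    intro i
    induction i using Int.induction_on with
    | zero => simp
    | succ i ih =>
      intro n hn
      rw [zpow_add_one, zpow_add_one]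
      calc y ^ (i : ℤ) * y * n * (y ^ (i : ℤ) * y)⁻¹
          = y ^ (i : ℤ) * (y * n * y⁻¹) * (y ^ (i : ℤ))⁻¹ := by group
        _ = x ^ (i : ℤ) * (x * n * x⁻¹) * (x ^ (i : ℤ))⁻¹ := by
          rw [h1 n hn]; exact ih _ (‹M.Normal›.conj_mem n hn x)
        _ = x ^ (i : ℤ) * x * n * (x ^ (i : ℤ) * x)⁻¹ := by group
    | pred i ih =>
      intro n hn
      have hn' : x⁻¹ * n * x ∈ M := by simpa using ‹M.Normal›.conj_mem n hn x⁻¹
      have h2 : y⁻¹ * n * y = x⁻¹ * n * x := by
        have h := h1 _ hn'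
        calc y⁻¹ * n * y = y⁻¹ * (x * (x⁻¹ * n * x) * x⁻¹) * y := by group
          _ = y⁻¹ * (y * (x⁻¹ * n * x) * y⁻¹) * y := by rw [h]
          _ = x⁻¹ * n * x := by group
      rw [zpow_sub_one, zpow_sub_one]
      calc y ^ (-(i : ℤ)) * y⁻¹ * n * (y ^ (-(i : ℤ)) * y⁻¹)⁻¹
          = y ^ (-(i : ℤ)) * (y⁻¹ * n * y) * (y ^ (-(i : ℤ)))⁻¹ := by group
        _ = x ^ (-(i : ℤ)) * (x⁻¹ * n * x) * (x ^ (-(i : ℤ)))⁻¹ := by rw [h2]; exact ih _ hn'
        _ = x ^ (-(i : ℤ)) * x⁻¹ * n * (x ^ (-(i : ℤ)) * x⁻¹)⁻¹ := by group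
  have hmul : ∀ g h, F (g * h) = F g * F h := by
    intro g h
    obtain ⟨m, hm, hgm⟩ : ∃ m ∈ M, g = m * x ^ idx g := ⟨_, hidx g, by group⟩
    obtain ⟨n, hn, hhn⟩ : ∃ n ∈ M, h = n * x ^ idx h := ⟨_, hidx h, by group⟩
    have hmn : m * (x ^ idx g * n * (x ^ idx g)⁻¹) ∈ M := M.mul_mem hm (‹M.Normal›.conj_mem n hn _)
    have e1 : g * h = m * (x ^ idx g * n * (x ^ idx g)⁻¹) * x ^ (idx g + idx h) := by
      conv_lhs => rw [hgm, hhn]
      group
    have e2 : F g * F h = m * y ^ idx g * (n * y ^ idx h) := by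
      conv_lhs => rw [hgm, hhn, hF m _ hm, hF n _ hn]
    rw [e1, hF _ _ hmn, ← hconj _ n hn, e2]
    group
  have hFM : ∀ n ∈ M, F n = n := fun n hn => by simpa using hF n 0 hn
  have hFx : F x = y := by simpa using hF 1 1 M.one_mem
  let φ : G →* G := MonoidHom.mk' F hmul
  have hsurj : Function.Surjective φ := by
    rw [← MonoidHom.range_eq_top, eq_top_iff]
    have hxr : x ∈ φ.range := by
      have h := mul_mem (⟨x, hFx⟩ : y ∈ φ.range) (inv_mem (show w ∈ φ.range from ⟨w, hFM w hw⟩))
      simpa [y] using h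
    intro g _
    have h := mul_mem (⟨g * x ^ (-idx g), hFM _ (hidx g)⟩ : g * x ^ (-idx g) ∈ φ.range)
      (zpow_mem hxr (idx g))
    simpa using h
  exact ⟨MulEquiv.ofBijective φ ⟨Finite.injective_iff_surjective.2 hsurj, hsurj⟩, hFx, hFM⟩

omit [Finite G] in
theorem card_orbits_le_classes [Finite G] :
    Nat.card (orbitRel.Quotient (MulAut G) G) ≤ Nat.card (ConjClasses G) := by
  refine Nat.card_le_card_of_surjective (Quotient.lift orb ?_) ?_
  · intro a b hab
    obtain ⟨c, hc⟩ := isConj_iff.1 hab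
    rw [← hc, orb_conj]
  · intro o
    induction o using Quotient.inductionOn' with | _ g =>
    exact ⟨ConjClasses.mk g, rfl⟩

/-- With a large derived group there are few classes. -/
theorem classes_mul_le {p : ℕ} (hp : 2 ≤ p) (hmin : ∀ d, d ∣ Nat.card G → d ≠ 1 → p ≤ d)
    (hG' : p + 1 ≤ Nat.card (commutator G)) : Nat.card (ConjClasses G) * p ≤ Nat.card G := by
  classical
  have := Fintype.ofFinite G
  have := Fintype.ofFinite (Cfsg.IrrCharacter G)
  choose d hd hd1 using fun χ : Cfsg.IrrCharacter G => CfsgLib.Char.irr_apply_one_pos χ.2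
  have hsum : ∑ χ, d χ ^ 2 = Nat.card G := by
    have h := CfsgLib.Char.sum_irr_sq (G := G)
    simp only [hd1] at h
    exact_mod_cast h
  have hdvd : ∀ χ, d χ ∣ Nat.card G := by
    intro χ
    obtain ⟨n, ρ, hρ, hρc⟩ := χ.2
    have h := hd1 χ
    rw [← hρc, Representation.char_one] at h
    exact (Nat.cast_inj.1 h) ▸ CfsgLib.Char.degree_dvd_card ρ
  set L := Finset.univ.filter fun χ : Cfsg.IrrCharacter G => d χ = 1
  have hL : L.card = (commutator G).index := by
    rw [← CfsgLib.Char.natCard_linearIrr, Nat.card_eq_fintype_card, Fintype.card_subtype]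
    refine congrArg Finset.card (Finset.filter_congr fun χ _ => ?_)
    rw [hd1 χ, Nat.cast_eq_one]
  have hk : Nat.card (ConjClasses G) = L.card + (Finset.univ.filter fun χ => ¬ d χ = 1).card := by
    rw [← CfsgLib.Char.irr_card_eq, Nat.card_eq_fintype_card, ← Finset.card_univ,
      Finset.card_filter_add_card_filter_not]
  rw [← Finset.sum_filter_add_sum_filter_not _ (fun χ => d χ = 1)] at hsum
  have h1 : L.card ≤ ∑ χ ∈ L, d χ ^ 2 := by
    rw [Finset.card_eq_sum_ones]
    exact Finset.sum_le_sum fun χ _ => Nat.one_le_pow _ _ (hd χ)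
  have h2 : (Finset.univ.filter fun χ => ¬ d χ = 1).card * p ^ 2 ≤
      ∑ χ ∈ Finset.univ.filter (fun χ => ¬ d χ = 1), d χ ^ 2 := by
    rw [← smul_eq_mul, ← Finset.sum_const]
    exact Finset.sum_le_sum fun χ hχ => Nat.pow_le_pow_left (hmin _ (hdvd χ) (Finset.mem_filter.1 hχ).2) 2
  have h3 : L.card * (p + 1) ≤ Nat.card G := by
    rw [← index_mul_card (commutator G), ← hL]
    exact Nat.mul_le_mul_left _ hG'
  rw [hk]
  set b := (Finset.univ.filter fun χ => ¬ d χ = 1).card
  set S1 := ∑ χ ∈ L, d χ ^ 2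
  set S2 := ∑ χ ∈ Finset.univ.filter (fun χ => ¬ d χ = 1), d χ ^ 2
  obtain ⟨q, rfl⟩ : ∃ q, p = q + 1 := ⟨p - 1, by omega⟩
  nlinarith [Nat.mul_le_mul_left q h3, h1, h2]

/-- The case of a derived group of order `p`. -/
theorem small_derived {p : ℕ} [Fact p.Prime] (hmin : ∀ d, d ∣ Nat.card G → d ≠ 1 → p ≤ d)
    (hG' : Nat.card (commutator G) = p) :
    Nat.card (orbitRel.Quotient (MulAut G) G) * p ≤ Nat.card G := by
  classical
  have hp : p.Prime := Fact.out
  set D := commutator G with hD
  have hDn : D.Normal := by rw [hD]; infer_instance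
  have hcomm : ∀ a b : G, a * b * a⁻¹ * b⁻¹ ∈ D := fun a b => by
    have := commutator_mem_commutator (mem_top a) (mem_top b)
    rwa [commutatorElement_def, ← _root_.commutator_def] at this
  -- the derived group is central
  have hDZ : D ≤ center G := by
    intro z hz
    by_contra hzc
    have hz1 : z ≠ 1 := fun h => hzc (h ▸ one_mem _)
    have h1 : (centralizer ({z} : Set G)).index ≠ 1 := by
      rw [Ne, index_eq_one]
      exact fun h => hzc (mem_center_iff.2 fun g =>
        mem_centralizer_singleton_iff.1 (h ▸ mem_top g : g ∈ centralizer ({z} : Set G)))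
    have h2 := hmin _ (index_dvd_card _) h1
    have h3 : Nat.card (ConjClasses.mk z).carrier ≤ ((D : Set G) \ {1}).ncard := by
      rw [Nat.card_coe_set_eq]
      refine Set.ncard_le_ncard ?_ (Set.toFinite _)
      intro u hu
      obtain ⟨a, ha⟩ := isConj_iff.1 (ConjClasses.mk_eq_mk_iff_isConj.1 (ConjClasses.mem_carrier_iff_mk_eq.1 hu)).symm
      refine ⟨ha ▸ hDn.conj_mem z hz a, fun h => hz1 ?_⟩
      rw [Set.mem_singleton_iff] at h
      rw [h, mul_inv_eq_one, mul_eq_left] at ha
      exact ha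
    have := Fintype.ofFinite G
    rw [CfsgLib.Char.natCard_carrier_eq_index, Set.ncard_sdiff_singleton_of_mem D.one_mem, ← Nat.card_coe_set_eq,
      SetLike.coe_sort_coe, hG'] at h3
    have := hp.pos
    omega
  have hcc : ∀ a b : G, ∀ z ∈ D, a * z * b = a * b * z := fun a b z hz => by
    rw [mul_assoc, ← mem_center_iff.1 (hDZ hz) b, ← mul_assoc]
  -- the `p`-th powers are central
  have hpowZ : ∀ g : G, g ^ p ∈ center G := by
    intro g
    rw [mem_center_iff]
    intro a
    have h1 : a * g * a⁻¹ = (a * g * a⁻¹ * g⁻¹) * g := by group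
    have h2 : (a * g * a⁻¹) ^ p = g ^ p := by
      rw [h1, (show Commute (a * g * a⁻¹ * g⁻¹) g from
        (mem_center_iff.1 (hDZ (hcomm a g)) g).symm).mul_pow]
      have h3 : (a * g * a⁻¹ * g⁻¹) ^ p = 1 := by
        rw [← orderOf_dvd_iff_pow_eq_one, ← hG']
        exact Subgroup.orderOf_dvd_natCard D (hcomm a g)
      rw [h3, one_mul]
    rw [conj_pow] at h2
    exact mul_inv_eq_iff_eq_mul.1 h2
  -- noncentral classes are cosets of `D`
  have hDorb : ∀ g : G, g ∉ center G → ∀ z ∈ D, orb (g * z) = orb g := by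
    intro g hg z hz
    obtain ⟨a, ha⟩ : ∃ a, a * g ≠ g * a := by
      by_contra h
      push Not at h
      exact hg (mem_center_iff.2 h)
    set c := g⁻¹ * (a * g * a⁻¹) with hcdef
    have hcD : c ∈ D := by
      have := hcomm g⁻¹ a
      rwa [inv_inv, mul_assoc, mul_assoc, ← mul_assoc a g, ← hcdef] at this
    have hc1 : c ≠ 1 := fun h => ha (mul_inv_eq_iff_eq_mul.1 (inv_mul_eq_one.1 h).symm)
    have hgen : zpowers (⟨c, hcD⟩ : D) = ⊤ :=
      zpowers_eq_top_of_prime_card hG' (fun h => hc1 (congrArg Subtype.val h))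
    obtain ⟨i, hi⟩ : ∃ i : ℕ, (⟨c, hcD⟩ : D) ^ i = ⟨z, hz⟩ := by
      have h : (⟨z, hz⟩ : D) ∈ zpowers (⟨c, hcD⟩ : D) := hgen ▸ mem_top _
      exact mem_powers_iff_mem_zpowers.2 h
    have hi' : c ^ i = z := congrArg Subtype.val hi
    rw [← hi']
    clear hi hi' hgen
    induction i with
    | zero => rw [pow_zero, mul_one]
    | succ i ih =>
      rw [← ih, ← orb_conj a (g * c ^ i)]
      congr 1
      rw [pow_succ', ← mul_assoc, hcdef, mul_inv_cancel_left, ← hcdef, ← hcc _ _ _ (pow_mem hcD i)]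
      group
  -- a noncentral element and the kernel of its commutator map
  obtain ⟨y₀, hy₀⟩ : ∃ y, y ∉ center G := by
    by_contra h
    push Not at h
    have : D = ⊥ := by
      rw [hD, _root_.commutator_def, eq_bot_iff, commutator_le]
      intro a _ b _
      rw [mem_bot, commutatorElement_eq_one_iff_commute]
      exact mem_center_iff.1 (h b) a
    rw [this, card_bot] at hG'
    exact hp.ne_one hG'.symm
  have hmk : ∀ y : G, y ∉ center G → ∃ M : Subgroup G, M.Normal ∧ M.index = p ∧ center G ≤ M ∧ y ∈ M ∧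
      ∀ n, n ∈ M ↔ n * y = y * n := by
    intro y hy
    let ψ : G →* D := MonoidHom.mk' (fun g => ⟨g * y * g⁻¹ * y⁻¹, hcomm g y⟩) fun g h => by
      refine Subtype.ext ?_
      show g * h * y * (g * h)⁻¹ * y⁻¹ = g * y * g⁻¹ * y⁻¹ * (h * y * h⁻¹ * y⁻¹)
      calc g * h * y * (g * h)⁻¹ * y⁻¹ = g * (h * y * h⁻¹ * y⁻¹) * (y * g⁻¹ * y⁻¹) := by group
        _ = g * (y * g⁻¹ * y⁻¹) * (h * y * h⁻¹ * y⁻¹) := hcc _ _ _ (hcomm h y)
        _ = _ := by group
    have hker : ∀ n, n ∈ ψ.ker ↔ n * y = y * n := fun n => by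
      rw [MonoidHom.mem_ker, Subtype.ext_iff]
      show n * y * n⁻¹ * y⁻¹ = 1 ↔ _
      rw [mul_inv_eq_one, mul_inv_eq_iff_eq_mul]
    refine ⟨ψ.ker, inferInstance, ?_, fun n hn => (hker n).2 (mem_center_iff.1 hn y).symm, (hker y).2 rfl, hker⟩
    rw [index_ker]
    refine ((Nat.dvd_prime hp).1 (hG' ▸ card_subgroup_dvd_card ψ.range)).resolve_left fun h => hy ?_
    rw [← index_ker, index_eq_one] at h
    exact mem_center_iff.2 fun g => (hker g).1 (h ▸ mem_top g)
  set z := Nat.card (center G) with hzdef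
  have hZ2 : p * p * z ≤ Nat.card G := by
    obtain ⟨M, -, hMi, hZM, hyM, -⟩ := hmk y₀ hy₀
    have h1 := relIndex_mul_index hZM
    have h2 : p ≤ (center G).relIndex M := by
      refine hmin _ ((relIndex_dvd_card _ _).trans M.card_subgroup_dvd_card) fun h => hy₀ ?_
      exact relIndex_eq_one.1 h hyM
    rw [hzdef, ← index_mul_card (center G), ← h1, hMi]
    exact Nat.mul_le_mul_right _ (Nat.mul_le_mul_right _ h2)
  have horbZ : (orb '' (center G : Set G)).ncard ≤ z := by
    refine (Set.ncard_image_le (Set.toFinite _)).trans ?_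
    rw [hzdef, ← Nat.card_coe_set_eq, SetLike.coe_sort_coe]
  have hcover : ∀ U : Set (orbitRel.Quotient (MulAut G) G), (∀ g, orb g ∈ U) →
      Nat.card (orbitRel.Quotient (MulAut G) G) ≤ U.ncard := by
    intro U hU
    rw [← Set.ncard_univ]
    refine Set.ncard_le_ncard (fun o _ => ?_) (Set.toFinite _)
    induction o using Quotient.inductionOn' with | _ g => exact hU g
  by_cases hc : ∃ c ∈ center G, c ^ p = 1 ∧ c ∉ D
  · -- a central automorphism fuses classes outside `M`
    obtain ⟨c, hcZ, hcp, hcD⟩ := hc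
    obtain ⟨M, hMn, hMi, hZM, -, -⟩ := hmk y₀ hy₀
    set H := zpowers c ⊔ D with hH
    have hHM : H ≤ M := (sup_le (zpowers_le.2 hcZ) hDZ).trans hZM
    have horbH : ∀ h ∈ H, ∀ g, g ∉ M → orb (g * h) = orb g := by
      let K : Subgroup G :=
        { carrier := {h | h ∈ M ∧ ∀ g, g ∉ M → orb (g * h) = orb g}
          one_mem' := ⟨M.one_mem, fun g _ => by rw [mul_one]⟩
          mul_mem' := fun {a b} ha hb => ⟨M.mul_mem ha.1 hb.1, fun g hg => by
            rw [← mul_assoc, hb.2 _ (fun h => hg ((M.mul_mem_cancel_right ha.1).1 h)), ha.2 g hg]⟩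
          inv_mem' := fun {a} ha => ⟨M.inv_mem ha.1, fun g hg => by
            conv_rhs => rw [← inv_mul_cancel_right g a]
            exact (ha.2 _ fun h => hg ((M.mul_mem_cancel_right (M.inv_mem ha.1)).1 h)).symm⟩ }
      have hHK : H ≤ K := by
        refine sup_le (zpowers_le.2 ⟨hZM hcZ, fun g hg => ?_⟩) fun d hd => ⟨hZM (hDZ hd), fun g hg => ?_⟩
        · obtain ⟨α, hα, -⟩ := exists_aut M hMi hp hg (hZM hcZ)
            (fun n _ => (mem_center_iff.1 hcZ n).symm)
            (by rw [(show Commute g c from mem_center_iff.1 hcZ g).mul_pow, hcp, mul_one])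
          rw [← hα, orb_apply]
        · exact hDorb g (fun h => hg (hZM h)) d hd
      exact fun h hh => (hHK hh).2
    have hHcard : p * p ≤ Nat.card H := by
      have h1 : p ≤ D.relIndex H := hmin _ ((relIndex_dvd_card _ _).trans H.card_subgroup_dvd_card)
        fun h => hcD (relIndex_eq_one.1 h (le_sup_left (a := zpowers c) (mem_zpowers c)))
      have h2 : Nat.card D * D.relIndex H = Nat.card H := by
        rw [relIndex, ← Nat.card_congr (subgroupOfEquivOfLe (le_sup_right : D ≤ H)).toEquiv]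
        exact card_mul_index _
      rw [← h2, hG']
      exact Nat.mul_le_mul_left p h1
    set T1 := (M : Set G) \ (center G : Set G)
    set T2 := (M : Set G)ᶜ
    have e1 := ncard_orb_image_mul_le T1 D fun g hg d hd =>
      ⟨⟨M.mul_mem hg.1 (hZM (hDZ hd)), fun h => hg.2 (((center G).mul_mem_cancel_right (hDZ hd)).1 h)⟩,
        hDorb g hg.2 d hd⟩
    have e2 := ncard_orb_image_mul_le T2 H fun g hg h hh =>
      ⟨fun h' => hg ((M.mul_mem_cancel_right (hHM hh)).1 h'), horbH h hh g hg⟩
    have htot := (hcover (orb '' (center G : Set G) ∪ orb '' T1 ∪ orb '' T2) fun g => by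
      by_cases hgM : g ∈ M
      · by_cases hgZ : g ∈ center G
        · exact Or.inl (Or.inl ⟨g, hgZ, rfl⟩)
        · exact Or.inl (Or.inr ⟨g, ⟨hgM, hgZ⟩, rfl⟩)
      · exact Or.inr ⟨g, hgM, rfl⟩).trans ((Set.ncard_union_le _ _).trans
        (Nat.add_le_add_right (Set.ncard_union_le _ _) _))
    have hT1 : T1.ncard + z = Nat.card M := by
      rw [hzdef, ← SetLike.coe_sort_coe, ← SetLike.coe_sort_coe, Nat.card_coe_set_eq, Nat.card_coe_set_eq]
      exact Set.ncard_sdiff_add_ncard_of_subset hZM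
    have hT2 : T2.ncard + Nat.card M = Nat.card G := by
      rw [← SetLike.coe_sort_coe, Nat.card_coe_set_eq, add_comm]
      exact Set.ncard_add_ncard_compl _
    have hMn' : Nat.card M * p = Nat.card G := by rw [← hMi]; exact card_mul_index M
    rw [hG'] at e1
    have e2' := le_trans (Nat.mul_le_mul_left _ hHcard) e2
    set a := (orb '' (center G : Set G)).ncard
    set b := (orb '' T1).ncard
    set b' := (orb '' T2).ncard
    set n := Nat.card G
    obtain ⟨q, hq⟩ : ∃ q, p = q + 2 := ⟨p - 2, by have := hp.two_le; omega⟩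
    subst hq
    refine Nat.le_of_mul_le_mul_right ?_ (show 0 < (q + 2) * (q + 2) by positivity)
    nlinarith [Nat.mul_le_mul_left ((q + 2) * (q + 2) * (q + 2)) htot,
      Nat.mul_le_mul_left ((q + 2) * (q + 2) * (q + 2)) horbZ, Nat.mul_le_mul_left ((q + 2) * (q + 2)) e1,
      Nat.mul_le_mul_left (q + 2) e2', Nat.mul_le_mul_left (q + 1) hZ2, Nat.zero_le (n * q * (q + 1))]
  · -- a transvection permutes cosets of the centre
    push Not at hc
    let pw : center G →* center G := MonoidHom.mk' (fun d => d ^ p) fun a b =>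
      (show Commute a b from Subtype.ext (mem_center_iff.1 b.2 a)).mul_pow p
    let U : Subgroup G := pw.range.map (center G).subtype
    have hUmem : ∀ u, u ∈ U ↔ ∃ d ∈ center G, d ^ p = u := by
      intro u
      constructor
      · rintro ⟨_, ⟨d, rfl⟩, rfl⟩
        exact ⟨d, d.2, rfl⟩
      · rintro ⟨d, hd, rfl⟩
        exact ⟨_, ⟨⟨d, hd⟩, rfl⟩, rfl⟩
    have hker : Nat.card pw.ker = p := by
      rw [← hG']
      refine Nat.card_congr
        { toFun := fun d => ⟨(d : center G), hc _ (d : center G).2 (congrArg Subtype.val d.2)⟩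
          invFun := fun d => ⟨⟨d, hDZ d.2⟩, Subtype.ext (by
            show (d : G) ^ p = 1
            rw [← hG', ← coe_pow, pow_card_eq_one', coe_one])⟩
          left_inv := fun _ => rfl
          right_inv := fun _ => rfl }
    -- the power map modulo `U`
    have hidx : ∀ a b : center G, (a : G) ∉ U → ∃ j : ℕ, (b : G) * ((a : G) ^ j)⁻¹ ∈ U := by
      intro a b ha
      set R := pw.range with hR
      have hRi : R.index = p := by
        have h1 := index_mul_card R
        have h2 := card_mul_index pw.ker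
        rw [hker, index_ker, ← hR] at h2
        refine Nat.eq_of_mul_eq_mul_right (Nat.card_pos (α := R)) ?_
        rw [h1, ← h2]
      have ha' : ((a : center G) : center G ⧸ R) ≠ 1 := fun h =>
        ha ⟨a, (QuotientGroup.eq_one_iff a).1 h, rfl⟩
      have htop : zpowers ((a : center G) : center G ⧸ R) = ⊤ :=
        zpowers_eq_top_of_prime_card (by rw [← index_eq_card, hRi]) ha'
      obtain ⟨j, hj⟩ := mem_powers_iff_mem_zpowers.2
        (show ((b : center G) : center G ⧸ R) ∈ zpowers ((a : center G) : center G ⧸ R) from htop ▸ mem_top _)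
      refine ⟨j, b * (a ^ j)⁻¹, (QuotientGroup.eq_one_iff _).1 ?_, rfl⟩
      simp only at hj
      rw [QuotientGroup.mk_mul, QuotientGroup.mk_inv, QuotientGroup.mk_pow, hj, mul_inv_cancel]
    have hprod : ∀ a b : G, (a * b) ^ p = (b * a * b⁻¹ * a⁻¹) ^ p.choose 2 * (a ^ p * b ^ p) := fun a b =>
      CfsgLib.StructC.central_pow_mul_formula (mem_center_iff.1 (hDZ (hcomm b a)) a).symm
        (mem_center_iff.1 (hDZ (hcomm b a)) b).symm (by group) p
    have hodd : p ≠ 2 → ∀ d ∈ D, d ^ p.choose 2 = 1 := by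
      intro hp2 d hd
      rw [← orderOf_dvd_iff_pow_eq_one]
      refine (Subgroup.orderOf_dvd_natCard D hd).trans (hG'.dvd.trans ?_)
      exact hp.dvd_choose_self two_ne_zero (lt_of_le_of_ne hp.two_le (Ne.symm hp2))
    -- when the `p`-th power map is multiplicative modulo `U`, some noncentral power lies in `U`
    have hkey : (∀ d ∈ D, d ^ p.choose 2 ∈ U) → ∃ y, y ∉ center G ∧ y ^ p ∈ U := by
      intro hU
      by_contra hcon
      push Not at hcon
      -- two independent noncentral elements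
      obtain ⟨M, hMn₀, hMi, hZM, hy₀M, -⟩ := hmk y₀ hy₀
      obtain ⟨x, -, hx⟩ := SetLike.exists_of_lt (lt_top_iff_ne_top.2 fun h : M = ⊤ => by
        rw [h, index_top] at hMi; exact hp.ne_one hMi.symm)
      obtain ⟨j, hj⟩ := hidx ⟨x ^ p, hpowZ x⟩ ⟨y₀ ^ p, hpowZ y₀⟩ (hcon x (fun h => hx (hZM h)))
      have hout : y₀ * (x ^ j)⁻¹ ∉ center G := by
        intro h
        have h1 : x ^ j ∈ M := by
          have := M.mul_mem (M.inv_mem (hZM h)) hy₀M
          simpa using this
        have h2 : ¬ p ∣ j → False := by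
          intro hpj
          have h0 : ((x : G) : G ⧸ M) ^ j = 1 := by
            rw [← QuotientGroup.mk_pow, QuotientGroup.eq_one_iff]; exact h1
          have hp' : ((x : G) : G ⧸ M) ^ p = 1 := by
            rw [← QuotientGroup.mk_pow, QuotientGroup.eq_one_iff]; exact hZM (hpowZ x)
          refine hx ((QuotientGroup.eq_one_iff x).1 ?_)
          rw [← pow_one ((x : G) : G ⧸ M), ← ((hp.coprime_iff_not_dvd).2 hpj : Nat.gcd p j = 1)]
          exact pow_gcd_eq_one.2 ⟨hp', h0⟩
        obtain ⟨k, hk⟩ : p ∣ j := by_contra h2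
        refine hy₀ ?_
        have h3 : x ^ j ∈ center G := by rw [hk, pow_mul]; exact pow_mem (hpowZ x) k
        simpa using (center G).mul_mem h h3
      refine hcon _ hout ?_
      rw [hprod]
      refine U.mul_mem (hU _ (hcomm _ _)) ?_
      rw [inv_pow, ← pow_mul, mul_comm j, pow_mul]
      exact hj
    obtain ⟨y, hy, hyt⟩ : ∃ y, y ∉ center G ∧ ∀ x, x * y ≠ y * x → (x * y) ^ p = x ^ p := by
      have hgen : ∀ a : G, ∀ d ∈ center G, (a * d) ^ p = a ^ p * d ^ p := fun a d hd =>
        (show Commute a d from mem_center_iff.1 hd a).mul_pow p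
      by_cases hp2 : p = 2
      · subst hp2
        have hch : Nat.choose 2 2 = 1 := rfl
        obtain ⟨t, htD, ht1, htu⟩ : ∃ t ∈ D, t ≠ 1 ∧ ∀ u ∈ D, u ≠ 1 → u = t := by
          obtain ⟨t, ht1⟩ := ((Nat.card_eq_two_iff' (1 : D)).1 hG').exists
          refine ⟨t, t.2, fun h => ht1 (Subtype.ext h), fun u hu hu1 => ?_⟩
          exact congrArg Subtype.val (((Nat.card_eq_two_iff' (1 : D)).1 hG').unique
            (y₁ := ⟨u, hu⟩) (y₂ := t) (fun h => hu1 (congrArg Subtype.val h)) ht1)
        obtain ⟨y, hy, hyt⟩ : ∃ y, y ∉ center G ∧ y ^ 2 = t := by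
          by_cases htU : t ∈ U
          · obtain ⟨y, hy, hyU⟩ := hkey fun d hd => by
              rw [hch, pow_one]
              by_cases hd1 : d = 1
              · exact hd1 ▸ U.one_mem
              · exact htu d hd hd1 ▸ htU
            obtain ⟨e, he, hed⟩ := (hUmem _).1 (U.mul_mem htU (U.inv_mem hyU))
            refine ⟨y * e, fun h => hy (((center G).mul_mem_cancel_right he).1 h), ?_⟩
            rw [hgen y e he, hed, (mem_center_iff.1 (hDZ htD) (y ^ 2)⁻¹).symm, mul_inv_cancel_left]
          · by_contra hcon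
            push Not at hcon
            have hinv : ∀ g, g ∉ center G → ∃ e ∈ center G, (g * e) ^ 2 = 1 := by
              intro g hg
              obtain ⟨j, hj⟩ := hidx ⟨t, hDZ htD⟩ ⟨g ^ 2, hpowZ g⟩ htU
              obtain ⟨e, he, hed⟩ := (hUmem _).1 (U.inv_mem hj)
              rcases Nat.even_or_odd j with ⟨k, hk⟩ | ⟨k, hk⟩
              · refine ⟨e, he, ?_⟩
                have ht : t ^ j = 1 := by
                  rw [hk, ← two_mul, pow_mul, show t ^ 2 = 1 by
                    rw [← orderOf_dvd_iff_pow_eq_one, ← hG']; exact Subgroup.orderOf_dvd_natCard D htD, one_pow]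
                rw [hgen g e he, hed, ht, inv_one, mul_one, mul_inv_cancel]
              · refine absurd ?_ (hcon (g * e) fun h => hg (((center G).mul_mem_cancel_right he).1 h))
                have ht : t ^ j = t := by
                  rw [hk, pow_succ, pow_mul, show t ^ 2 = 1 by
                    rw [← orderOf_dvd_iff_pow_eq_one, ← hG']; exact Subgroup.orderOf_dvd_natCard D htD,
                    one_pow, one_mul]
                rw [hgen g e he, hed, ht, mul_inv_rev, inv_inv]
                show g ^ 2 * (t * (g ^ 2)⁻¹) = t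
                rw [← mul_assoc, mem_center_iff.1 (hDZ htD) (g ^ 2), mul_inv_cancel_right]
            obtain ⟨M, -, hMi, hZM, hy₀M, hMmem⟩ := hmk y₀ hy₀
            obtain ⟨x, -, hx⟩ := SetLike.exists_of_lt (lt_top_iff_ne_top.2 fun h : M = ⊤ => by
              rw [h, index_top] at hMi; exact Nat.prime_two.ne_one hMi.symm)
            obtain ⟨e, he, hxe⟩ := hinv x fun h => hx (hZM h)
            obtain ⟨f, hf, hyf⟩ := hinv y₀ hy₀
            set a := x * e with hadef
            set b := y₀ * f with hbdef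
            have hab : b * a ≠ a * b := by
              intro h
              refine hx ((hMmem x).2 ?_)
              have he' := mem_center_iff.1 he
              have hf' := mem_center_iff.1 hf
              have hba : y₀ * x * (e * f) = x * y₀ * (e * f) := by
                calc y₀ * x * (e * f) = y₀ * f * (x * e) := by
                      rw [mul_assoc y₀ f, ← mul_assoc f x, ← hf' x]
                      simp only [mul_assoc]
                      rw [he' f]
                  _ = x * e * (y₀ * f) := h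
                  _ = x * y₀ * (e * f) := by
                      rw [mul_assoc x e, ← mul_assoc e y₀, ← he' y₀]
                      simp only [mul_assoc]
              exact (mul_right_cancel hba).symm
            refine hcon (a * b) (fun h => hab ?_) ?_
            · have := mem_center_iff.1 h a
              rw [← mul_assoc, mul_assoc a b, mul_assoc] at this
              exact (mul_left_cancel this).symm
            · rw [hprod, hch, pow_one, hxe, hyf, one_mul, mul_one]
              exact htu _ (hcomm b a) fun h => hab (mul_inv_eq_iff_eq_mul.1 (mul_inv_eq_one.1 h))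
        refine ⟨y, hy, fun x hxy => ?_⟩
        rw [hprod, hch, pow_one, hyt, htu _ (hcomm y x) fun h =>
          hxy (mul_inv_eq_iff_eq_mul.1 (mul_inv_eq_one.1 h)).symm, mem_center_iff.1 (hDZ htD) (x ^ 2),
          ← mul_assoc, ← pow_two, show t ^ 2 = 1 by
            rw [← orderOf_dvd_iff_pow_eq_one, ← hG']; exact Subgroup.orderOf_dvd_natCard D htD, one_mul]
      · obtain ⟨y, hy, hyU⟩ := hkey fun d hd => by rw [hodd hp2 d hd]; exact U.one_mem
        obtain ⟨e, he, hed⟩ := (hUmem _).1 (U.inv_mem hyU)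
        refine ⟨y * e, fun h => hy (((center G).mul_mem_cancel_right he).1 h), fun x _ => ?_⟩
        rw [hprod, hodd hp2 _ (hcomm _ _), one_mul, hgen y e he, hed, mul_inv_cancel, mul_one]
    obtain ⟨M, hMn, hMi, hZM, hyM, hMmem⟩ := hmk y hy
    obtain ⟨x, -, hx⟩ := SetLike.exists_of_lt (lt_top_iff_ne_top.2 fun h : M = ⊤ => by
      rw [h, index_top] at hMi; exact hp.ne_one hMi.symm)
    have hcenM : ∀ n ∈ M, y * n = n * y := fun n hn => ((hMmem n).1 hn).symm
    obtain ⟨α, hαx, hαM⟩ := exists_aut M hMi hp hx hyM hcenM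
      (hyt x fun h => hx ((hMmem x).2 h))
    have horb : ∀ (j : ℕ), ∀ d ∈ center G, orb (x * y ^ j * d) = orb (x * d) := by
      intro j d hd
      induction j with
      | zero => rw [pow_zero, mul_one]
      | succ j ih =>
        rw [← ih, ← orb_apply α (x * y ^ j * d)]
        congr 1
        rw [map_mul, map_mul, hαx, hαM d (hZM hd), hαM _ (pow_mem hyM j), pow_succ', mul_assoc x y]
    let ι := Fin (p - 1) × center G
    let f : ι → G := fun i => x * y ^ ((i.1 : ℕ) + 1) * (i.2 : G)
    have hypow : ∀ j : ℕ, y ^ j ∈ center G → p ∣ j := by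
      intro j hj
      by_contra hpj
      refine hy ((QuotientGroup.eq_one_iff (N := center G) y).1 ?_)
      have h0 : ((y : G) : G ⧸ center G) ^ j = 1 := by
        rw [← QuotientGroup.mk_pow, QuotientGroup.eq_one_iff]; exact hj
      have hp' : ((y : G) : G ⧸ center G) ^ p = 1 := by
        rw [← QuotientGroup.mk_pow, QuotientGroup.eq_one_iff]; exact hpowZ y
      rw [← pow_one ((y : G) : G ⧸ center G), ← ((hp.coprime_iff_not_dvd).2 hpj : Nat.gcd p j = 1)]
      exact pow_gcd_eq_one.2 ⟨hp', h0⟩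
    have hsep : ∀ (i j : ℕ) (d e : G), d ∈ center G → e ∈ center G → i < p → j < p →
        x * y ^ i * d = x * y ^ j * e → i ≤ j → i = j := by
      intro i j d e hd he hi hj heq hle
      obtain ⟨k, rfl⟩ := Nat.exists_eq_add_of_le hle
      rw [pow_add, mul_assoc, mul_assoc, mul_assoc] at heq
      have hk : y ^ k ∈ center G := by
        have h1 : d = y ^ k * e := mul_left_cancel (mul_left_cancel heq)
        rw [show y ^ k = d * e⁻¹ by rw [h1, mul_inv_cancel_right]]
        exact (center G).mul_mem hd ((center G).inv_mem he)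
      rcases Nat.eq_zero_or_pos k with rfl | hk0
      · rfl
      · exact absurd (Nat.le_of_dvd hk0 (hypow k hk)) (by omega)
    have hfinj : Function.Injective f := by
      rintro ⟨i, d⟩ ⟨j, e⟩ h
      have h' : x * y ^ ((i : ℕ) + 1) * (d : G) = x * y ^ ((j : ℕ) + 1) * (e : G) := h
      have hi := i.2; have hj := j.2
      have hij : (i : ℕ) + 1 = j + 1 := by
        rcases le_total ((i : ℕ) + 1) (j + 1) with hle | hle
        · exact hsep _ _ _ _ d.2 e.2 (by omega) (by omega) h' hle
        · exact (hsep _ _ _ _ e.2 d.2 (by omega) (by omega) h'.symm hle).symm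
      rw [hij] at h'
      have hij' : (i : ℕ) = j := by omega
      exact Prod.ext (Fin.ext hij') (Subtype.ext (mul_left_cancel h'))
    have hxyM : ∀ j : ℕ, x * y ^ j ∉ M := fun j h => hx ((M.mul_mem_cancel_right (pow_mem hyM j)).1 h)
    set T := ((center G : Set G) ∪ Set.range f)ᶜ with hT
    have hTD : ∀ g ∈ T, ∀ d ∈ D, g * d ∈ T ∧ orb (g * d) = orb g := by
      intro g hg d hd
      refine ⟨?_, hDorb g (fun h => hg (Or.inl h)) d hd⟩
      rintro (h | ⟨⟨j, e⟩, h⟩)
      · exact hg (Or.inl (((center G).mul_mem_cancel_right (hDZ hd)).1 h))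
      · refine hg (Or.inr ⟨⟨j, e * ⟨d, hDZ hd⟩⁻¹⟩, ?_⟩)
        show x * y ^ ((j : ℕ) + 1) * ((e : G) * d⁻¹) = g
        rw [← mul_assoc, show x * y ^ ((j : ℕ) + 1) * (e : G) = g * d from h, mul_inv_cancel_right]
    have e1 := ncard_orb_image_mul_le T D hTD
    have htot := (hcover (orb '' (center G : Set G) ∪ orb '' T) fun g => by
      by_cases hgZ : g ∈ center G
      · exact Or.inl ⟨g, hgZ, rfl⟩
      by_cases hgf : g ∈ Set.range f
      · obtain ⟨⟨j, d⟩, rfl⟩ := hgf
        refine Or.inr ⟨x * d, ?_, (horb _ d d.2).symm⟩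
        rintro (h | ⟨⟨i, e⟩, h⟩)
        · exact hx (hZM (((center G).mul_mem_cancel_right d.2).1 h))
        · have hi := i.2
          have h' : x * y ^ 0 * (d : G) = x * y ^ ((i : ℕ) + 1) * (e : G) := by
            rw [pow_zero, mul_one]; exact h.symm
          exact absurd (hsep _ _ _ _ d.2 e.2 hp.pos (by omega) h' (Nat.zero_le _)) (by omega)
      · exact Or.inr ⟨g, fun h => h.elim hgZ hgf, rfl⟩).trans (Set.ncard_union_le _ _)
    have hTc : T.ncard + p * z = Nat.card G := by
      rw [hT, ← Set.ncard_add_ncard_compl ((center G : Set G) ∪ Set.range f), Set.ncard_union_eq ?_,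
        Set.ncard_range_of_injective hfinj, Nat.card_prod, Nat.card_fin, ← Nat.card_coe_set_eq (center G : Set G),
        SetLike.coe_sort_coe, ← hzdef, add_comm T.ncard, hT]
      · obtain ⟨q, hq⟩ : ∃ q, p = q + 1 := ⟨p - 1, by have := hp.pos; omega⟩
        rw [hq, Nat.add_sub_cancel]; ring
      · rw [Set.disjoint_left]
        rintro g hg ⟨⟨j, d⟩, rfl⟩
        exact hxyM _ (hZM (((center G).mul_mem_cancel_right d.2).1 hg))
    rw [hG'] at e1
    set a := (orb '' (center G : Set G)).ncard
    set b := (orb '' T).ncard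
    nlinarith [Nat.mul_le_mul_right p htot, Nat.mul_le_mul_right p horbZ]


/-- Let G be a finite non-abelian group and p the least prime dividing its order. Then the automorphism group of G has at most #G/p orbits on G. -/
theorem result {G : Type*} [Group G] [Finite G] (hna : ¬ IsMulCommutative G) :
    Nat.card (MulAction.orbitRel.Quotient (MulAut G) G) ≤ Nat.card G / (Nat.card G).minFac := by
  have hne1 : Nat.card G ≠ 1 := fun h => hna ⟨⟨fun a b => by
    have := (Nat.card_eq_one_iff_unique.1 h).1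
    exact Subsingleton.elim _ _⟩⟩
  set p := (Nat.card G).minFac with hpdef
  have hp : p.Prime := Nat.minFac_prime hne1
  have : Fact p.Prime := ⟨hp⟩
  have hmin : ∀ d, d ∣ Nat.card G → d ≠ 1 → p ≤ d := fun d hd hd1 => by
    rcases Nat.eq_zero_or_pos d with rfl | hpos
    · exact absurd (zero_dvd_iff.1 hd) Nat.card_pos.ne'
    · exact Nat.minFac_le_of_dvd (by omega) hd
  rw [Nat.le_div_iff_mul_le hp.pos]
  have hD1 : Nat.card (commutator G) ≠ 1 := fun h => hna ⟨⟨fun a b => by
    rw [← commutatorElement_eq_one_iff_mul_comm, ← Subgroup.mem_bot, ← Subgroup.eq_bot_of_card_eq _ h,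
      commutator_def]
    exact Subgroup.commutator_mem_commutator (Subgroup.mem_top a) (Subgroup.mem_top b)⟩⟩
  rcases (hmin _ (commutator G).card_subgroup_dvd_card hD1).eq_or_lt with h | h
  · exact small_derived hmin h.symm
  · exact (Nat.mul_le_mul_right p card_orbits_le_classes).trans (classes_mul_le hp.two_le hmin h)

end Cfsg.Agent.S4067
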