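import Cfsg.Statements.S4068
import Cfsg.Agent.Lib.Solvable.Fitting
import Cfsg.Agent.Lib.Solvable.MinNormal
import Cfsg.Agent.Lib.Char.Burnside
import Cfsg.Agent.Lib.Char.CN
import Cfsg.Agent.Lib.Complement.FpfNilpotent
import Cfsg.Agent.Lib.Invol.CAInvol
import Cfsg.Agent.Lib.KnownB.PSL2Elem
import Cfsg.Agent.Lib.Classical.PSLTwoMaximal
import Cfsg.Agent.Lib.Geom.SimpleSixty
import Cfsg.Agent.Lib.Transfer.SimpleCount
import Cfsg.Agent.Lib.Transfer.Frobenius

set_option autoImplicit false
open Cfsg

namespace Cfsg.Agent.S4068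

open Subgroup

universe u

variable {G : Type u} [Group G] [Finite G]

/-- At most two prime divisors: solvable. -/
theorem isSolvable_of_primeFactors_le_two {H : Type u} [Group H] [Finite H]
    (hle : (Nat.card H).primeFactors.card ≤ 2) : Group.IsSolvable H := by
  classical
  obtain ⟨a, b, ha, hb, hab⟩ : ∃ a b : ℕ, a.Prime ∧ b.Prime ∧ (Nat.card H).primeFactors ⊆ {a, b} := by
    rcases (show (Nat.card H).primeFactors.card = 0 ∨ (Nat.card H).primeFactors.card = 1 ∨
        (Nat.card H).primeFactors.card = 2 by omega) with e | e | e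
    · exact ⟨2, 2, Nat.prime_two, Nat.prime_two, by rw [Finset.card_eq_zero.1 e]; exact Finset.empty_subset _⟩
    · obtain ⟨p', hp'⟩ := Finset.card_eq_one.1 e
      have := Nat.prime_of_mem_primeFactors (hp' ▸ Finset.mem_singleton_self p' : p' ∈ (Nat.card H).primeFactors)
      exact ⟨p', p', this, this, by rw [hp']; simp⟩
    · obtain ⟨p', q', -, hpq⟩ := Finset.card_eq_two.1 e
      exact ⟨p', q', Nat.prime_of_mem_primeFactors (hpq ▸ Finset.mem_insert_self p' {q'} : p' ∈ (Nat.card H).primeFactors),
        Nat.prime_of_mem_primeFactors (hpq ▸ Finset.mem_insert_of_mem (Finset.mem_singleton_self q') : q' ∈ (Nat.card H).primeFactors),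
        hpq.le⟩
  refine CfsgLib.Char.burnside_pq a b ha hb ((Nat.card H).factorization a)
    (if a = b then 0 else (Nat.card H).factorization b) H ?_
  apply Nat.eq_of_factorization_eq Nat.card_pos.ne' (by positivity [ha.pos, hb.pos])
  intro r
  rw [Nat.factorization_mul (pow_ne_zero _ ha.ne_zero) (pow_ne_zero _ hb.ne_zero),
    ha.factorization_pow, hb.factorization_pow, Finsupp.add_apply]
  by_cases hra : r = a
  · subst hra
    by_cases hrb : r = b
    · subst hrb; simp
    · rw [Finsupp.single_eq_same, Finsupp.single_eq_of_ne hrb, add_zero]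
  · rw [Finsupp.single_eq_of_ne hra, zero_add]
    by_cases hrb : r = b
    · subst hrb; rw [Finsupp.single_eq_same, if_neg (Ne.symm hra)]
    · rw [Finsupp.single_eq_of_ne hrb, ← Finsupp.notMem_support_iff, Nat.support_factorization]
      intro hr
      have := hab hr
      simp [hra, hrb] at this

/-- Element orders are `1` or prime, exactly three primes occur, equal orders give one orbit. -/
theorem orders (hns : ¬ Group.IsSolvable G)
    (h4 : Nat.card (MulAction.orbitRel.Quotient (MulAut G) G) = 4) :
    (Nat.card G).primeFactors.card = 3 ∧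
      (∀ x : G, x ≠ 1 → (orderOf x).Prime) ∧ ∀ x y : G, orderOf x = orderOf y → ∃ φ : MulAut G, φ x = y := by
  classical
  have hpf : 3 ≤ (Nat.card G).primeFactors.card := by
    by_contra hlt
    exact hns (isSolvable_of_primeFactors_le_two (by omega))
  let Q := MulAction.orbitRel.Quotient (MulAut G) G
  let f : Q → ℕ := Quotient.lift orderOf fun a b hab => by
    obtain ⟨φ, rfl⟩ := hab
    exact φ.orderOf_eq b
  have : Finite Q := Quotient.finite _
  have := Fintype.ofFinite Q
  set S := insert 1 (Nat.card G).primeFactors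
  have h1 : (1 : ℕ) ∉ (Nat.card G).primeFactors := fun h => (Nat.prime_of_mem_primeFactors h).ne_one rfl
  have hS : S ⊆ Finset.univ.image f := by
    intro m hm
    rcases Finset.mem_insert.1 hm with rfl | hm
    · exact Finset.mem_image.2 ⟨Quotient.mk'' (1 : G), Finset.mem_univ _, orderOf_one⟩
    · obtain ⟨hmp, hmd, -⟩ := Nat.mem_primeFactors.1 hm
      have := Fact.mk hmp
      obtain ⟨x, hx⟩ := exists_prime_orderOf_dvd_card' m hmd
      exact Finset.mem_image.2 ⟨Quotient.mk'' x, Finset.mem_univ _, hx⟩
  have hQ : (Finset.univ : Finset Q).card = 4 := by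
    rw [Finset.card_univ, ← Nat.card_eq_fintype_card]; exact h4
  have hle : (Finset.univ.image f).card ≤ 4 := hQ ▸ Finset.card_image_le
  have hSc : S.card = (Nat.card G).primeFactors.card + 1 := Finset.card_insert_of_notMem h1
  have hSeq : S = Finset.univ.image f := Finset.eq_of_subset_of_card_le hS (by omega)
  have hinj : Function.Injective f := by
    have h' : (Finset.univ.image f).card = (Finset.univ : Finset Q).card := by
      have := Finset.card_le_card hS
      omega
    intro a b hab
    exact Finset.card_image_iff.1 h' (Finset.mem_univ a) (Finset.mem_univ b) hab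
  refine ⟨by have := Finset.card_le_card hS; omega, fun x hx => ?_, fun x y hxy => ?_⟩
  · have hm : f (Quotient.mk'' x) ∈ S := hSeq ▸ Finset.mem_image_of_mem f (Finset.mem_univ _)
    rcases Finset.mem_insert.1 hm with e | e
    · exact absurd (orderOf_eq_one_iff.1 e) hx
    · exact Nat.prime_of_mem_primeFactors e
  · have h := hinj (a₁ := Quotient.mk'' y) (a₂ := Quotient.mk'' x) hxy.symm
    obtain ⟨φ, hφ⟩ := Quotient.eq''.1 h
    exact ⟨φ, hφ⟩

/-- Commuting nontrivial elements have the same order. -/
theorem orderOf_eq_of_commute (hprime : ∀ x : G, x ≠ 1 → (orderOf x).Prime) {a b : G} (ha : a ≠ 1) (hb : b ≠ 1)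
    (h : Commute a b) : orderOf a = orderOf b := by
  by_contra hne
  have hc := (Nat.coprime_primes (hprime a ha) (hprime b hb)).2 hne
  have he := h.orderOf_mul_eq_mul_orderOf_of_coprime hc
  have hab : a * b ≠ 1 := fun e => by
    rw [e, orderOf_one] at he
    have := (hprime a ha).two_le
    have := (hprime b hb).two_le
    nlinarith
  have := hprime _ hab
  rw [he] at this
  exact Nat.not_prime_mul (hprime a ha).ne_one (hprime b hb).ne_one this

theorem isSimple (hns : ¬ Group.IsSolvable G)
    (h4 : Nat.card (MulAction.orbitRel.Quotient (MulAut G) G) = 4) : IsSimpleGroup G := by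
  classical
  obtain ⟨hpf, hprime, horb⟩ := orders hns h4
  have hchar : ∀ C : Subgroup G, C.Characteristic → C = ⊥ ∨ C = ⊤ := by
    intro C hC
    by_contra! hne
    obtain ⟨hbot, htop⟩ := hne
    have hall : ∀ c ∈ C, c ≠ 1 → ∀ y : G, orderOf y = orderOf c → y ∈ C := by
      intro c hc hc1 y hy
      obtain ⟨φ, rfl⟩ := horb c y hy.symm
      have hm := hC.fixed φ
      rw [← hm] at hc
      exact hc
    obtain ⟨z, hz⟩ : ∃ z, z ∉ C := by
      by_contra! h
      exact htop ((eq_top_iff' C).2 h)
    have hz1 : z ≠ 1 := fun e => hz (e ▸ one_mem C)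
    set q := orderOf z
    have hnoq : ∀ c ∈ C, c ≠ 1 → orderOf c ≠ q := fun c hc hc1 e => hz (hall c hc hc1 z e.symm)
    have := Subgroup.normal_of_characteristic C
    have hnil : Group.IsNilpotent C := by
      refine CfsgLib.Complement.isNilpotent_of_fpf C (MulAut.conjNormal z) q (hprime z hz1) ?_ ?_
      · rw [← map_pow, pow_orderOf_eq_one, map_one]
      · intro c hc
        by_contra hc1
        have hc1' : (c : G) ≠ 1 := fun e => hc1 (Subtype.ext e)
        have e : z * (c : G) * z⁻¹ = c := by
          have := congrArg Subtype.val hc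
          simpa using this
        exact hnoq c c.2 hc1' (orderOf_eq_of_commute hprime hc1' hz1 (mul_inv_eq_iff_eq_mul.1 e).symm)
    obtain ⟨c, hc, hc1⟩ := (Subgroup.bot_or_exists_ne_one C).resolve_left hbot
    -- every prime occurs in the quotient
    apply hns
    have hsolC : Group.IsSolvable C := inferInstance
    have hsolQ : Group.IsSolvable (G ⧸ C) := by
      by_contra hQ
      set p := orderOf c
      have hp := hprime c hc1
      have hQpf : (Nat.card (G ⧸ C)).primeFactors ⊆ ((Nat.card G).primeFactors.erase p) := by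
        intro r hr
        obtain ⟨hrp, hrd, -⟩ := Nat.mem_primeFactors.1 hr
        refine Finset.mem_erase.2 ⟨?_, Nat.mem_primeFactors.2 ⟨hrp, hrd.trans (card_quotient_dvd_card C), Nat.card_pos.ne'⟩⟩
        rintro rfl
        have := Fact.mk hp
        obtain ⟨y, hy⟩ := exists_prime_orderOf_dvd_card' p hrd
        obtain ⟨g, rfl⟩ := QuotientGroup.mk'_surjective C y
        have hg1 : g ≠ 1 := fun e => by
          rw [e, map_one, orderOf_one] at hy
          exact hp.ne_one hy.symm
        have hd : p ∣ orderOf g := hy ▸ orderOf_map_dvd _ g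
        have hgo : orderOf g = p := ((Nat.prime_dvd_prime_iff_eq hp (hprime g hg1)).1 hd).symm
        have hgC := hall c hc hc1 g hgo
        rw [QuotientGroup.mk'_apply, (QuotientGroup.eq_one_iff g).2 hgC, orderOf_one] at hy
        exact hp.ne_one hy.symm
      have hsub : (Nat.card (G ⧸ C)).primeFactors.card ≤ 2 := by
        have hpm : p ∈ (Nat.card G).primeFactors :=
          Nat.mem_primeFactors.2 ⟨hp, orderOf_dvd_natCard c, Nat.card_pos.ne'⟩
        have := Finset.card_le_card hQpf
        rw [Finset.card_erase_of_mem hpm] at this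
        omega
      exact hQ (isSolvable_of_primeFactors_le_two hsub)
    exact (Group.isSolvable_iff_subgroup_quotient C).2 ⟨hsolC, hsolQ⟩
  have : Nontrivial G := by
    rw [← not_subsingleton_iff_nontrivial]
    intro hs
    exact hns inferInstance
  have hF : Cfsg.fittingSubgroup G = ⊥ := by
    rcases hchar _ (CfsgLib.Solvable.fittingSubgroup_characteristic G) with e | e
    · exact e
    · exfalso
      have hn := CfsgLib.Solvable.fittingSubgroup_isNilpotent (G := G)
      rw [e] at hn
      have : Group.IsNilpotent G := (Group.isNilpotent_congr Subgroup.topEquiv).1 hn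
      exact hns inferInstance
  refine ⟨fun N hN => ?_⟩
  by_contra! hne
  obtain ⟨M, hMn, hMne, hMN, hMmin⟩ := CfsgLib.Solvable.exists_minimal_normal_le hN hne.1
  have hMtop : M ≠ ⊤ := fun e => hne.2 (top_le_iff.1 (e ▸ hMN))
  have hMnab : ¬ IsMulCommutative M := fun h => hMne (le_bot_iff.1
    (hF ▸ CfsgLib.Solvable.le_fittingSubgroup_of_isMulCommutative hMn h))
  obtain ⟨φ, hφ⟩ : ∃ φ : MulAut G, M.map φ.toMonoidHom ≠ M := by
    by_contra! h
    rcases hchar M (characteristic_iff_map_eq.2 h) with e | e
    · exact hMne e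
    · exact hMtop e
  set M' := M.map φ.toMonoidHom
  have hM'n : M'.Normal := hMn.map _ φ.surjective
  have hinf : M ⊓ M' = ⊥ := by
    rcases eq_or_ne (M ⊓ M') ⊥ with e | e
    · exact e
    · exfalso
      have h1 : M ⊓ M' = M := (hMmin _ inferInstance inf_le_left).resolve_left e
      have h2 : M ≤ M' := inf_eq_left.1 h1
      exact hφ (eq_of_le_of_card_ge h2 (card_map_of_injective φ.injective).le).symm
  obtain ⟨m', hm', hm'1⟩ := (Subgroup.bot_or_exists_ne_one M').resolve_left fun e => hMne (by
    rw [Subgroup.map_eq_bot_iff_of_injective _ φ.injective] at e; exact e)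
  have hord : ∀ m ∈ M, m ≠ 1 → orderOf m = orderOf m' := fun m hm hm1 =>
    orderOf_eq_of_commute hprime hm1 hm'1
      (Subgroup.commute_of_normal_of_disjoint M M' hMn hM'n (disjoint_iff.2 hinf) m m' hm hm')
  have hMp : IsPGroup (orderOf m') M := by
    have := Fact.mk (hprime m' hm'1)
    refine IsPGroup.iff_orderOf.2 fun m => ?_
    rcases eq_or_ne (m : G) 1 with e | e
    · exact ⟨0, by rw [pow_zero, orderOf_eq_one_iff]; exact Subtype.ext e⟩
    · exact ⟨1, by rw [pow_one, ← hord m m.2 e, Subgroup.orderOf_coe]⟩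
  have := Fact.mk (hprime m' hm'1)
  exact hMne (le_bot_iff.1 (hF ▸ CfsgLib.Solvable.le_fittingSubgroup hMn hMp.isNilpotent))

/-- A finite non-solvable group on which its automorphism group has exactly four orbits is isomorphic to the alternating group of degree 5. -/
theorem result {G : Type*} [Group G] [Finite G] (hns : ¬ Group.IsSolvable G)
    (h4 : Nat.card (MulAction.orbitRel.Quotient (MulAut G) G) = 4) : Nonempty (G ≃* alternatingGroup (Fin 5)) := by
  classical
  obtain ⟨hpf, hprime, -⟩ := orders hns h4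
  have hsimp := isSimple hns h4
  have hna : ¬ IsMulCommutative G := fun h => hns (Group.isSolvable_of_comm h.is_comm.comm)
  have hcent : ∀ x : G, x ≠ 1 → ∀ c ∈ centralizer ({x} : Set G), c ≠ 1 → orderOf c = orderOf x :=
    fun x hx c hc hc1 => orderOf_eq_of_commute hprime hc1 hx (mem_centralizer_singleton_iff.1 hc)
  have heven : Even (Nat.card G) := by
    by_contra hodd
    refine hns (CfsgLib.Char.isSolvable_of_cn_odd (Nat.not_even_iff_odd.1 hodd) fun x hx => ?_)
    have := Fact.mk (hprime x hx)
    refine IsPGroup.isNilpotent (p := orderOf x) (IsPGroup.iff_orderOf.2 fun c => ?_)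
    rcases eq_or_ne (c : G) 1 with e | e
    · exact ⟨0, by rw [pow_zero, orderOf_eq_one_iff]; exact Subtype.ext e⟩
    · exact ⟨1, by rw [pow_one, ← hcent x hx c c.2 e, Subgroup.orderOf_coe]⟩
  have : Fact (Nat.Prime 2) := ⟨Nat.prime_two⟩
  obtain ⟨T⟩ := (inferInstance : Nonempty (Sylow 2 G))
  have hnotcyc : ¬ IsCyclic (T : Subgroup G) := by
    intro hc
    have hd : 2 ∣ Nat.card G := even_iff_two_dvd.1 heven
    exact CfsgLib.Transfer.not_hasNormalPComplement_of_simple hna hd
      (CfsgLib.Transfer.hasNormalPComplement_of_normalizer_le_centralizer T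
        (IsCyclic.normalizer_le_centralizer (P := T) (hP := hc) ((Nat.minFac_eq_two_iff _).2 hd)))
  have hsq : ∀ t : G, orderOf t = 2 → ∀ c ∈ centralizer ({t} : Set G), c ^ 2 = 1 := by
    intro t ht c hc
    rcases eq_or_ne c 1 with rfl | hc1
    · exact one_pow 2
    · rw [← ht, ← hcent t (fun e => by rw [e, orderOf_one] at ht; omega) c hc hc1, pow_orderOf_eq_one]
  have hCA : CfsgLib.Invol.CAHyp T := by
    refine ⟨hnotcyc, ?_, fun t ht => ⟨⟨⟨fun a b => ?_⟩⟩, hsq t ht⟩⟩
    · intro hn
      rcases hsimp.eq_bot_or_eq_top_of_normal (T : Subgroup G) hn with e | e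
      · exact hnotcyc (by rw [e]; infer_instance)
      · exact hns (by
          have hT := T.2.isNilpotent
          rw [e] at hT
          have : Group.IsNilpotent G := (Group.isNilpotent_congr Subgroup.topEquiv).1 hT
          infer_instance)
    · have h1 : ∀ c : centralizer ({t} : Set G), c⁻¹ = c := fun c =>
        inv_eq_of_mul_eq_one_right (by rw [← pow_two]; exact Subtype.ext (hsq t ht c c.2))
      rw [← h1 (a * b), mul_inv_rev, h1, h1]
  obtain ⟨F, hF, hFF, hcard, ⟨e⟩⟩ := hCA.exists_psl
  obtain ⟨k, hk⟩ := IsPGroup.iff_card.1 T.2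
  have hk' : Nat.card T = 2 ^ k := hk
  rw [hk'] at hcard
  have h4le := hCA.four_le_card
  rw [hk] at h4le
  have hk2 : 2 ≤ k := by
    by_contra hlt
    interval_cases k <;> omega
  have hchar : CharP F 2 := by
    obtain ⟨p, hp⟩ := CharP.exists F
    obtain ⟨j, hpp, hj⟩ := FiniteField.card F p
    have h2 : p = 2 := by
      have : p ∣ 2 ^ k := hcard ▸ hj ▸ dvd_pow_self p j.pos.ne'
      exact (Nat.prime_dvd_prime_iff_eq hpp Nat.prime_two).1 (hpp.dvd_of_dvd_pow this)
    exact h2 ▸ hp
  have hq4 : 4 ≤ 2 ^ k := le_trans (by norm_num) (Nat.pow_le_pow_right two_pos hk2)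
  have hev2 : Even (2 ^ k) := (Nat.even_pow).2 ⟨even_two, by omega⟩
  have hgcd : Nat.gcd 2 (Fintype.card F - 1) = 1 := by
    rw [hcard]
    exact Nat.coprime_two_left.2 (Nat.Even.sub_odd (by omega) hev2 odd_one)
  have hord : ∀ m : ℕ, m ≠ 1 → (m ∣ 2 ^ k - 1 ∨ m ∣ 2 ^ k + 1) → m.Prime := by
    intro m hm1 hm
    obtain ⟨g, hg⟩ := CfsgLib.KnownB.SL2.exists_orderOf_psl (F := F) 2 (m := m) (by
      rw [hgcd, Nat.div_one, Nat.div_one, hcard]; exact Or.inr hm)
    have hge : orderOf (e.symm g) = m := by rw [MulEquiv.orderOf_eq]; exact hg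
    have hne : e.symm g ≠ 1 := fun h => hm1 (by rw [← hge, h, orderOf_one])
    exact hge ▸ hprime _ hne
  have hm1 := hord (2 ^ k - 1) (by omega) (Or.inl dvd_rfl)
  have hp1 := hord (2 ^ k + 1) (by omega) (Or.inr dvd_rfl)
  have hq : 2 ^ k = 4 := by
    have h3 : ¬ 3 ∣ 2 ^ k := fun h =>
      absurd ((Nat.prime_dvd_prime_iff_eq Nat.prime_three Nat.prime_two).1 (Nat.prime_three.dvd_of_dvd_pow h)) (by norm_num)
    generalize 2 ^ k = q at hm1 hp1 hq4 h3 ⊢
    rcases (show q % 3 = 1 ∨ q % 3 = 2 by omega) with h | h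
    · have h' : 3 ∣ q - 1 := by omega
      have := (Nat.prime_dvd_prime_iff_eq Nat.prime_three hm1).1 h'
      omega
    · have h' : 3 ∣ q + 1 := by omega
      have := (Nat.prime_dvd_prime_iff_eq Nat.prime_three hp1).1 h'
      omega
  have h60 : Nat.card G = 60 := by
    rw [Nat.card_congr e.toEquiv]
    exact CfsgLib.Classical.card_psl_two_four (Or.inl (by rw [hcard, hq]))
  exact CfsgLib.Geom.equiv_altFive_of_simple_sixty h60

end Cfsg.Agent.S4068
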