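import Cfsg.Statements.S4070
import Cfsg.Agent.Lib.Perm.DlNine.Main
import Cfsg.Agent.Lib.Perm.DlNine.Odd.Main

set_option autoImplicit false
open Cfsg

namespace Cfsg.Agent.S4070

/-- Let G be a finite solvable group acting faithfully by additive automorphisms on a finite vector space V over the field with p elements, completely reducibly (every G-invariant subspace has a G-invariant complement). Then some vector v ∈ V has stabilizer C_G(v) of derived length at most 9; and if both #G and p are odd, some vector has abelian stabilizer. -/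
theorem result {G V : Type*} [Group G] [Finite G] [Group.IsSolvable G]
    {p : ℕ} [Fact p.Prime] [AddCommGroup V] [Module (ZMod p) V] [Finite V] [DistribMulAction G V] [FaithfulSMul G V]
    (hcr : ∀ W : Submodule (ZMod p) V, (∀ (g : G) (w : V), w ∈ W → g • w ∈ W) →
      ∃ W' : Submodule (ZMod p) V, (∀ (g : G) (w : V), w ∈ W' → g • w ∈ W') ∧ IsCompl W W') :
    (∃ v : V, derivedSeries ↥(MulAction.stabilizer G v) 9 = ⊥) ∧
    (Odd (Nat.card G) → p ≠ 2 → ∃ v : V, IsMulCommutative ↥(MulAction.stabilizer G v)) := by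
  have hcr' : CfsgLib.BaseTwo.CROn (⊤ : Subgroup G) (⊤ : AddSubgroup V) := by
    intro X _ hX
    obtain ⟨Y, hY, hXY⟩ := hcr (AddSubgroup.toZModSubmodule p X) fun g w hw => hX g trivial w hw
    refine ⟨Y.toAddSubgroup, le_top, fun g _ w hw => hY g w hw, (AddSubgroup.eq_bot_iff_forall _).2 fun x hx => ?_,
      eq_top_iff.2 fun x _ => ?_⟩
    · exact (Submodule.mem_bot _).1 (hXY.inf_eq_bot.le ⟨hx.1, hx.2⟩)
    · obtain ⟨y, hy, z, hz, e⟩ := Submodule.mem_sup.1 (hXY.sup_eq_top.ge (Submodule.mem_top (x := x)))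
      exact AddSubgroup.mem_sup.2 ⟨y, hy, z, hz, e⟩
  refine ⟨CfsgLib.DlNine.exists_dl_nine inferInstance hcr', fun hodd hp => ?_⟩
  refine CfsgLib.Perm.DlNine.Odd.exists_abelian_stabilizer hodd ?_ hcr'
  haveI : Module.Finite (ZMod p) V := Module.Finite.of_finite
  rw [Module.natCard_eq_pow_finrank (K := ZMod p), Nat.card_zmod]
  exact ((Fact.out : p.Prime).odd_of_ne_two hp).pow

end Cfsg.Agent.S4070
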