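import Cfsg.Statements.S4071
import Mathlib.GroupTheory.Nilpotent
import Mathlib.GroupTheory.Sylow
import Mathlib.GroupTheory.Abelianization.Defs
import Mathlib.GroupTheory.SpecificGroups.Cyclic
import Mathlib.Order.Atoms

set_option autoImplicit false
open Cfsg

namespace Cfsg.Agent.S4071

open Subgroup
open scoped commutatorElement

variable {G : Type*} [Group G]

theorem comm_of {M : Subgroup G} (h : IsMulCommutative M) {a b : G} (ha : a ∈ M) (hb : b ∈ M) :
    a * b = b * a := congrArg Subtype.val (h.is_comm.comm ⟨a, ha⟩ ⟨b, hb⟩)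

theorem comm_of_self_normalizing
    (hG : ∀ H : Subgroup G, ¬ IsMulCommutative H → normalizer (H : Set G) = H)
    (N : Subgroup G) (hN : N.Normal) (hne : N ≠ ⊤) : IsMulCommutative N := by
  by_contra h
  exact hne ((hG N h).symm.trans (normalizer_eq_top N))

/-- A maximal normal subgroup of a solvable group contains the derived subgroup. -/
theorem commutator_le_of_coatom [Finite G] [Group.IsSolvable G] {N : Subgroup G} (hN : N.Normal)
    (hmax : IsCoatom N) : commutator G ≤ N := by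
  have : Nontrivial (G ⧸ N) := QuotientGroup.nontrivial_iff.2 hmax.1
  have hlt := Group.IsSolvable.commutator_lt_top_of_nontrivial (G ⧸ N)
  by_contra hc
  refine hlt.ne ?_
  have h1 : N ⊔ commutator G = ⊤ := hmax.2 _ (lt_of_le_of_ne le_sup_left fun e => hc (e.symm ▸ le_sup_right))
  have h2 := congrArg (Subgroup.map (QuotientGroup.mk' N)) h1
  rw [Subgroup.map_sup, QuotientGroup.map_mk'_self, bot_sup_eq,
    map_top_of_surjective _ (QuotientGroup.mk'_surjective N), _root_.commutator_def, map_commutator,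
    map_top_of_surjective _ (QuotientGroup.mk'_surjective N)] at h2
  exact h2

theorem structure_of_self_normalizing [Finite G] [Group.IsSolvable G] (hnn : ¬ Group.IsNilpotent G)
    (hG : ∀ H : Subgroup G, ¬ IsMulCommutative H → normalizer (H : Set G) = H) :
    ∃ (x : G) (A : Subgroup G) (p : ℕ), p.Prime ∧ A.Normal ∧ IsMulCommutative A ∧
      (∃ k : ℕ, orderOf x = p ^ k) ∧ ¬ p ∣ Nat.card A ∧ (zpowers x).IsComplement' A ∧
      x ^ p ∈ center G ∧ ∀ a : G, a ∈ A → a ≠ 1 → x * a * x⁻¹ ≠ a := by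
  classical
  have : Nontrivial G := not_subsingleton_iff_nontrivial.1 fun h => hnn inferInstance
  have hG' : commutator G ≠ ⊤ := (Group.IsSolvable.commutator_lt_top_of_nontrivial G).ne
  obtain ⟨M, hMmax, hG'M⟩ := (eq_top_or_exists_le_coatom (commutator G)).resolve_left hG'
  have hMn : M.Normal := Normal.of_commutator_le (h := hG'M)
  have hMab := comm_of_self_normalizing hG M hMn hMmax.1
  -- `M` is the only maximal subgroup above the derived subgroup
  have huniq : ∀ N : Subgroup G, commutator G ≤ N → N ≠ ⊤ → N ≤ M := by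
    intro N hN hNt
    by_contra hNM
    have hNn : N.Normal := Normal.of_commutator_le (h := hN)
    have hNab := comm_of_self_normalizing hG N hNn hNt
    have hsup : M ⊔ N = ⊤ := hMmax.2 _ (lt_of_le_of_ne le_sup_left fun e => hNM (e.symm ▸ le_sup_right))
    refine hnn (Subgroup.isNilpotent_of_ker_le_center (Abelianization.of (G := G)) ?_)
    rw [Abelianization.ker_of]
    intro z hz
    have h1 : M ⊔ N ≤ centralizer ({z} : Set G) := sup_le
      (fun m hm => mem_centralizer_singleton_iff.2 (comm_of hMab hm (hG'M hz)))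
      (fun n hn => mem_centralizer_singleton_iff.2 (comm_of hNab hn (hN hz)))
    rw [hsup] at h1
    exact mem_center_iff.2 fun g => mem_centralizer_singleton_iff.1 (h1 (mem_top g))
  have hq : Nat.Prime (Nat.card (G ⧸ M)) := by
    have : Nontrivial (G ⧸ M) := QuotientGroup.nontrivial_iff.2 hMmax.1
    have : IsSimpleGroup (G ⧸ M) := ⟨fun B hB => by
      rcases eq_or_ne (B.comap (QuotientGroup.mk' M)) ⊤ with h | h
      · exact Or.inr (comap_injective (QuotientGroup.mk'_surjective M) (h.trans (comap_top _).symm))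
      · left
        refine comap_injective (QuotientGroup.mk'_surjective M) ?_
        rw [MonoidHom.comap_bot, QuotientGroup.ker_mk']
        by_contra hne
        refine h (hMmax.2 _ (lt_of_le_of_ne (fun m hm => ?_) (Ne.symm hne)))
        rw [mem_comap, QuotientGroup.mk'_apply, (QuotientGroup.eq_one_iff m).2 hm]
        exact one_mem B⟩
    let : CommGroup (G ⧸ M) := { (inferInstance : Group (G ⧸ M)) with
      mul_comm := ((Normal.quotient_commutative_iff_commutator_le (N := M)).2 hG'M).is_comm.comm }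
    exact IsSimpleGroup.prime_card
  set p := Nat.card (G ⧸ M) with hp
  have : Fact p.Prime := ⟨hq⟩
  have hpM : ∀ g : G, g ^ p ∈ M := fun g => by
    rw [← QuotientGroup.eq_one_iff, QuotientGroup.mk_pow]
    exact pow_card_eq_one'
  have hcopM : ∀ g : G, (orderOf g).Coprime p → g ∈ M := fun g hg => by
    rw [← QuotientGroup.eq_one_iff, ← orderOf_eq_one_iff]
    exact Nat.eq_one_of_dvd_coprimes hg (orderOf_map_dvd (QuotientGroup.mk' M) g) (orderOf_dvd_natCard _)
  obtain ⟨g, hg⟩ : ∃ g, g ∉ M := by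
    by_contra hh
    push Not at hh
    exact hMmax.1 (eq_top_iff.2 fun x _ => hh x)
  obtain ⟨k, m, hm, hgo⟩ := Nat.exists_eq_pow_mul_and_not_dvd (orderOf_pos g).ne' p hq.ne_one
  set x := g ^ m with hx
  have hxo : orderOf x = p ^ k := by
    rw [hx, orderOf_pow_of_dvd (fun e => hm (by rw [e]; exact dvd_zero p)) (hgo ▸ dvd_mul_left m _), hgo,
      Nat.mul_div_cancel _ (Nat.pos_of_ne_zero fun e => hm (by rw [e]; exact dvd_zero p))]
  have hxM : x ∉ M := by
    rw [hx, ← QuotientGroup.eq_one_iff, QuotientGroup.mk_pow, ← orderOf_dvd_iff_pow_eq_one]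
    intro hd
    rcases hq.eq_one_or_self_of_dvd _ (orderOf_dvd_natCard (g : G ⧸ M)) with h | h
    · exact hg ((QuotientGroup.eq_one_iff g).1 (orderOf_eq_one_iff.1 h))
    · exact hm (h ▸ hd)
  let A : Subgroup G :=
    { carrier := {a | a ∈ M ∧ (orderOf a).Coprime p}
      one_mem' := ⟨one_mem M, by rw [orderOf_one]; exact Nat.coprime_one_left p⟩
      mul_mem' := fun {a b} ha hb => ⟨mul_mem ha.1 hb.1,
        Nat.Coprime.coprime_dvd_left (Commute.orderOf_mul_dvd_mul_orderOf (comm_of hMab ha.1 hb.1))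
          (Nat.Coprime.mul_left ha.2 hb.2)⟩
      inv_mem' := fun {a} ha => ⟨inv_mem ha.1, by rw [orderOf_inv]; exact ha.2⟩ }
  have hAn : A.Normal := ⟨fun a ha g => ⟨hMn.conj_mem a ha.1 g, by
    rw [← MulAut.conj_apply, MulEquiv.orderOf_eq]; exact ha.2⟩⟩
  have hAcard : ¬ p ∣ Nat.card A := fun hd => by
    obtain ⟨a, ha⟩ := exists_prime_orderOf_dvd_card' p hd
    have h2 := a.2.2
    rw [Subgroup.orderOf_coe, ha] at h2
    exact hq.ne_one (Nat.coprime_self p |>.1 h2)
  have hAab : IsMulCommutative A := ⟨⟨fun a b => Subtype.ext (comm_of hMab a.2.1 b.2.1)⟩⟩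
  have hdisj : zpowers x ⊓ A = ⊥ := by
    refine inf_eq_bot_of_coprime ?_
    rw [Nat.card_zpowers, hxo]
    exact Nat.Coprime.pow_left k (hq.coprime_iff_not_dvd.2 hAcard)
  have hsup : zpowers x ⊔ A = ⊤ := by
    by_contra hne
    obtain ⟨N, hN, hle⟩ := (eq_top_or_exists_le_coatom _).resolve_left hne
    have hQ : IsPGroup p (G ⧸ A) := by
      intro c
      obtain ⟨y, rfl⟩ := QuotientGroup.mk_surjective c
      obtain ⟨i, j, hj, hyo⟩ := Nat.exists_eq_pow_mul_and_not_dvd (orderOf_pos y).ne' p hq.ne_one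
      refine ⟨i, ?_⟩
      rw [← QuotientGroup.mk_pow, QuotientGroup.eq_one_iff]
      have hc : (orderOf (y ^ p ^ i)).Coprime p := by
        rw [orderOf_pow_of_dvd (pow_ne_zero i hq.ne_zero) (hyo ▸ dvd_mul_right _ j), hyo,
          Nat.mul_div_cancel_left _ (pow_pos hq.pos i)]
        exact (hq.coprime_iff_not_dvd.2 hj).symm
      exact ⟨hcopM _ hc, hc⟩
    have hNA : A ≤ N := le_sup_right.trans hle
    have := hQ.isNilpotent
    have hmap : (N.map (QuotientGroup.mk' A)).comap (QuotientGroup.mk' A) = N := by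
      rw [comap_map_eq, QuotientGroup.ker_mk', sup_eq_left.2 hNA]
    have hcoat : IsCoatom (N.map (QuotientGroup.mk' A)) := by
      refine ⟨fun e => hN.1 ?_, fun B hB => ?_⟩
      · rw [← hmap, e, comap_top]
      · refine comap_injective (QuotientGroup.mk'_surjective A) ?_
        rw [comap_top]
        refine hN.2 _ (lt_of_le_of_ne (hmap ▸ comap_mono hB.le) fun e => hB.ne ?_)
        refine comap_injective (QuotientGroup.mk'_surjective A) ?_
        rw [hmap, ← e]
    have hNn : N.Normal := hmap ▸ (NormalizerCondition.normal_of_coatom _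
      Group.normalizerCondition_of_isNilpotent hcoat).comap _
    exact hxM (huniq N (commutator_le_of_coatom hNn hN) hN.1 (hle (mem_sup_left (mem_zpowers x))))
  have hcen : x ^ p ∈ center G := by
    have h1 : zpowers x ⊔ A ≤ centralizer ({x ^ p} : Set G) := sup_le
      (zpowers_le.2 (mem_centralizer_singleton_iff.2 (Commute.self_pow x p).eq))
      (fun a ha => mem_centralizer_singleton_iff.2 (comm_of hMab ha.1 (hpM x)))
    rw [hsup] at h1
    exact mem_center_iff.2 fun g => mem_centralizer_singleton_iff.1 (h1 (mem_top g))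
  refine ⟨x, A, p, hq, hAn, hAab, ⟨k, hxo⟩, hAcard,
    isComplement'_of_disjoint_and_mul_eq_univ (disjoint_iff.2 hdisj)
      (by rw [← Subgroup.mul_normal, hsup, coe_top]), hcen, ?_⟩
  -- fixed point freeness
  let φ : A →* A :=
    { toFun := fun a => ⟨x * a * x⁻¹ * (a : G)⁻¹, A.mul_mem (hAn.conj_mem a a.2 x) (A.inv_mem a.2)⟩
      map_one' := Subtype.ext (by simp)
      map_mul' := fun a b => Subtype.ext (by
        show x * ((a : G) * b) * x⁻¹ * ((a : G) * b)⁻¹ =
          x * a * x⁻¹ * (a : G)⁻¹ * (x * b * x⁻¹ * (b : G)⁻¹)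
        have h1 := comm_of hAab (A.inv_mem a.2) (A.mul_mem (hAn.conj_mem b b.2 x) (A.inv_mem b.2))
        calc x * ((a : G) * b) * x⁻¹ * ((a : G) * b)⁻¹
            = x * a * x⁻¹ * ((x * b * x⁻¹ * (b : G)⁻¹) * (a : G)⁻¹) := by group
          _ = x * a * x⁻¹ * ((a : G)⁻¹ * (x * b * x⁻¹ * (b : G)⁻¹)) := by rw [h1]
          _ = _ := by group) }
  set I := φ.range.map A.subtype with hI
  by_cases hIA : φ.range = ⊤
  · intro a ha hane heq
    have hinj : Function.Injective φ :=
      Finite.injective_iff_surjective.2 (MonoidHom.range_eq_top.1 hIA)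
    have h1 : φ ⟨a, ha⟩ = φ 1 := by
      rw [map_one]; exact Subtype.ext (by show x * a * x⁻¹ * a⁻¹ = 1; rw [heq, mul_inv_cancel])
    exact hane (congrArg Subtype.val (hinj h1))
  exfalso
  set H := zpowers x ⊔ I with hH
  have hIle : I ≤ A := map_subtype_le _
  have hxI : ∀ i ∈ I, x * i * x⁻¹ ∈ I := by
    rintro _ ⟨_, ⟨a, rfl⟩, rfl⟩
    refine ⟨φ ⟨x * a * x⁻¹, hAn.conj_mem a a.2 x⟩, ⟨_, rfl⟩, ?_⟩
    show x * (x * a * x⁻¹) * x⁻¹ * (x * a * x⁻¹)⁻¹ = x * (x * a * x⁻¹ * (a : G)⁻¹) * x⁻¹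
    group
  have hxn : x ∈ normalizer (I : Set G) := mem_normalizer_fintype hxI
  have hHn : H.Normal := by
    rw [← normalizer_eq_top_iff, eq_top_iff, ← hsup]
    refine sup_le (le_sup_left.trans le_normalizer) fun a ha => mem_normalizer_fintype ?_
    intro y hy
    have h1 : H ≤ H.comap (MulAut.conj a).toMonoidHom := sup_le
      (zpowers_le.2 (by
        show a * x * a⁻¹ ∈ H
        rw [show a * x * a⁻¹ = (x * a * x⁻¹ * a⁻¹)⁻¹ * x by group]
        exact H.mul_mem (H.inv_mem (mem_sup_right ⟨φ ⟨a, ha⟩, ⟨_, rfl⟩, rfl⟩))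
          (mem_sup_left (mem_zpowers x))))
      (fun i hi => by
        show a * i * a⁻¹ ∈ H
        rw [comm_of hAab ha (hIle hi), mul_inv_cancel_right]
        exact mem_sup_right hi)
    exact h1 hy
  have hHne : H ≠ ⊤ := by
    intro htop
    refine hIA (eq_top_iff.2 fun a _ => ?_)
    have h1 : (a : G) ∈ (↑(zpowers x ⊔ I) : Set G) := by rw [← hH, htop]; trivial
    rw [coe_mul_of_left_le_normalizer_right (zpowers x) I (zpowers_le.2 hxn)] at h1
    obtain ⟨u, hu, i, hi, hui⟩ := h1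
    have h2 : u ∈ zpowers x ⊓ A := ⟨hu, by
      have := A.mul_mem a.2 (A.inv_mem (hIle hi))
      rwa [← hui, mul_inv_cancel_right] at this⟩
    rw [hdisj, mem_bot] at h2
    obtain ⟨j, hj, hji⟩ := hi
    simp only at hui
    rw [show a = j from Subtype.ext (by rw [← hui, h2, one_mul]; exact hji.symm)]
    exact hj
  have hHab := comm_of_self_normalizing hG H hHn hHne
  refine hnn ?_
  have htriv : ∀ a ∈ A, x * a = a * x := by
    intro a ha
    set c := x * a * x⁻¹ * a⁻¹ with hc
    have hcI : c ∈ I := ⟨φ ⟨a, ha⟩, ⟨_, rfl⟩, rfl⟩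
    have hxc : x * c = c * x := comm_of hHab (mem_sup_left (mem_zpowers x)) (mem_sup_right hcI)
    have hn : ∀ n : ℕ, x ^ n * a * (x ^ n)⁻¹ = c ^ n * a := by
      intro n
      induction n with
      | zero => simp
      | succ n ih =>
        calc x ^ (n + 1) * a * (x ^ (n + 1))⁻¹ = x * (x ^ n * a * (x ^ n)⁻¹) * x⁻¹ := by
              rw [pow_succ']; group
          _ = (x * c ^ n * x⁻¹) * (x * a * x⁻¹) := by rw [ih]; group
          _ = c ^ n * (x * a * x⁻¹) := by
              rw [((Commute.pow_right (show Commute x c from hxc) n)).eq, mul_inv_cancel_right]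
          _ = c ^ (n + 1) * a := by rw [pow_succ, hc]; group
    have h1 := hn p
    rw [← mem_center_iff.1 hcen a, mul_inv_cancel_right, right_eq_mul] at h1
    have hc1 : c = 1 := by
      rw [← orderOf_eq_one_iff]
      exact Nat.eq_one_of_dvd_coprimes (hq.coprime_iff_not_dvd.2 hAcard)
        (orderOf_dvd_of_pow_eq_one h1) (A.orderOf_dvd_natCard (hIle hcI))
    rw [hc, mul_inv_eq_one] at hc1
    exact mul_inv_eq_iff_eq_mul.1 hc1
  have hcomm : ∀ u v : G, u * v = v * u := by
    have hx1 : zpowers x ⊔ A ≤ centralizer ({x} : Set G) := sup_le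
      (zpowers_le.2 (mem_centralizer_singleton_iff.2 rfl))
      (fun a ha => mem_centralizer_singleton_iff.2 (htriv a ha).symm)
    rw [hsup] at hx1
    intro u v
    have hu : zpowers x ⊔ A ≤ centralizer ({u} : Set G) := sup_le
      (zpowers_le.2 (mem_centralizer_singleton_iff.2
        (mem_centralizer_singleton_iff.1 (hx1 (mem_top u))).symm))
      (fun a ha => mem_centralizer_singleton_iff.2 (by
        have hA : zpowers x ⊔ A ≤ centralizer ({a} : Set G) := sup_le
          (zpowers_le.2 (mem_centralizer_singleton_iff.2 (htriv a ha)))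
          (fun b hb => mem_centralizer_singleton_iff.2 (comm_of hAab hb ha))
        rw [hsup] at hA
        exact (mem_centralizer_singleton_iff.1 (hA (mem_top u))).symm))
    rw [hsup] at hu
    exact (mem_centralizer_singleton_iff.1 (hu (mem_top v))).symm
  let _ : CommGroup G := { (inferInstance : Group G) with mul_comm := hcomm }
  exact CommGroup.isNilpotent

theorem self_normalizing_of_structure [Finite G] {x : G} {A : Subgroup G} {p : ℕ} (hp : p.Prime)
    (hAn : A.Normal) (hAab : IsMulCommutative A) {k : ℕ} (hxo : orderOf x = p ^ k)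
    (hpA : ¬ p ∣ Nat.card A) (hcompl : (zpowers x).IsComplement' A) (hcen : x ^ p ∈ center G)
    (hfpf : ∀ a : G, a ∈ A → a ≠ 1 → x * a * x⁻¹ ≠ a)
    (H : Subgroup G) (hH : ¬ IsMulCommutative H) : normalizer (H : Set G) = H := by
  classical
  have : Fact p.Prime := ⟨hp⟩
  have hdec : ∀ g : G, ∃ i : ℤ, ∃ a ∈ A, g = x ^ i * a := fun g => by
    obtain ⟨⟨⟨u, hu⟩, ⟨a, ha⟩⟩, h⟩ := hcompl.2 g
    obtain ⟨i, rfl⟩ := mem_zpowers_iff.1 hu
    exact ⟨i, a, ha, h.symm⟩
  let S : Sylow p G := Sylow.ofCard (zpowers x) (by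
    rw [Nat.card_zpowers, hxo, ← hcompl.card_mul_card, Nat.card_zpowers, hxo,
      Nat.factorization_mul (pow_ne_zero k hp.ne_zero) Nat.card_pos.ne', Finsupp.add_apply,
      Nat.factorization_eq_zero_of_not_dvd hpA, hp.factorization_pow, Finsupp.single_eq_same,
      add_zero])
  -- the abelian subgroup `⟨x ^ p⟩A`
  obtain ⟨h, hhH, i, a, ha, rfl, hi⟩ : ∃ h ∈ H, ∃ i : ℤ, ∃ a ∈ A, h = x ^ i * a ∧ ¬ (p : ℤ) ∣ i := by
    by_contra hall
    push Not at hall
    refine hH ⟨⟨fun u v => Subtype.ext ?_⟩⟩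
    obtain ⟨i, a, ha, hu⟩ := hdec u
    obtain ⟨j, b, hb, hv⟩ := hdec v
    obtain ⟨i', rfl⟩ := hall u u.2 i a ha hu
    obtain ⟨j', rfl⟩ := hall v v.2 j b hb hv
    show (u : G) * v = v * u
    rw [hu, hv, zpow_mul, zpow_mul, zpow_natCast]
    have c1 := (show Commute a ((x ^ p) ^ j') from
      ((show Commute a (x ^ p) from mem_center_iff.1 hcen a).zpow_right j'))
    have c2 := (show Commute b ((x ^ p) ^ i') from
      ((show Commute b (x ^ p) from mem_center_iff.1 hcen b).zpow_right i'))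
    have c3 : Commute ((x ^ p) ^ i') ((x ^ p) ^ j') := Commute.zpow_zpow_self _ _ _
    have c4 : Commute a b := comm_of hAab ha hb
    exact (((c3.mul_right c2.symm).mul_left (c1.mul_right c4))).eq
  set N := Nat.card A with hN
  set y := (x ^ i * a) ^ N with hy
  obtain ⟨b, hb, hyb⟩ : ∃ b ∈ A, y = x ^ (i * N) * b := by
    refine ⟨x ^ (-(i * N)) * y, ?_, by group⟩
    rw [← QuotientGroup.eq_one_iff, QuotientGroup.mk_mul, hy, QuotientGroup.mk_pow, QuotientGroup.mk_mul,
      (QuotientGroup.eq_one_iff a).2 ha, mul_one, ← QuotientGroup.mk_pow, ← zpow_natCast (x ^ i) N,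
      ← zpow_mul, ← QuotientGroup.mk_mul, ← zpow_add, neg_add_cancel, zpow_zero, QuotientGroup.mk_one]
  have hyp : IsPGroup p (zpowers y) := by
    refine IsPGroup.of_card (n := Nat.log p (orderOf y)) ?_
    rw [Nat.card_zpowers]
    have hd : orderOf y ∣ p ^ k := by
      refine orderOf_dvd_of_pow_eq_one ?_
      rw [hy, ← pow_mul, mul_comm, hN, ← hxo, ← Nat.card_zpowers, hcompl.card_mul_card, pow_card_eq_one']
    obtain ⟨j, -, hj⟩ := (Nat.dvd_prime_pow hp).1 hd
    rw [hj, Nat.log_pow hp.one_lt]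
  obtain ⟨T, hT⟩ := hyp.exists_le_sylow
  obtain ⟨g, hg⟩ := MulAction.exists_smul_eq G S T
  have hTmem : y ∈ (zpowers x).map (MulAut.conj g).toMonoidHom := by
    have := hT (mem_zpowers y)
    rw [← hg] at this
    exact this
  obtain ⟨z, hz, hzy⟩ := hTmem
  obtain ⟨l, rfl⟩ := mem_zpowers_iff.1 hz
  set x' := g * x * g⁻¹ with hx'
  have hxy : x' ^ l = y := by
    rw [← hzy, MulEquiv.coe_toMonoidHom, MulAut.conj_apply, hx', conj_zpow]
  have hxx : x⁻¹ * x' ∈ A := by
    obtain ⟨j, c, hc, rfl⟩ := hdec g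
    rw [← QuotientGroup.eq_one_iff, hx']
    simp only [QuotientGroup.mk_mul, QuotientGroup.mk_inv, QuotientGroup.mk_zpow,
      (QuotientGroup.eq_one_iff c).2 hc]
    group
  have hdisj := hcompl.disjoint.eq_bot
  have hl : ¬ (p : ℤ) ∣ l := by
    intro hd
    have h1 : x ^ (i * N - l) ∈ A := by
      have h2 : ((x' ^ l : G) : G ⧸ A) = ((x ^ (i * N) * b : G) : G ⧸ A) := by rw [hxy, hyb]
      rw [QuotientGroup.mk_zpow, ← QuotientGroup.eq.2 hxx, QuotientGroup.mk_mul,
        (QuotientGroup.eq_one_iff b).2 hb, mul_one, ← QuotientGroup.mk_zpow, eq_comm,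
        QuotientGroup.eq_iff_div_mem] at h2
      rwa [div_eq_mul_inv, ← zpow_neg, ← zpow_add, ← sub_eq_add_neg] at h2
    have h2 : x ^ (i * N - l) ∈ zpowers x ⊓ A := ⟨zpow_mem (mem_zpowers x) _, h1⟩
    rw [hdisj, mem_bot, ← orderOf_dvd_iff_zpow_eq_one, hxo] at h2
    have hk : k ≠ 0 := by
      rintro rfl
      rw [pow_zero, orderOf_eq_one_iff] at hxo
      have hb' : ∀ u : G, u ∈ A := fun u => by
        obtain ⟨i, a, ha, rfl⟩ := hdec u
        rw [hxo, one_zpow, one_mul]; exact ha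
      exact hH ⟨⟨fun u v => Subtype.ext (comm_of hAab (hb' u) (hb' v))⟩⟩
    have h3 : (p : ℤ) ∣ i * N := by
      have h4 : (p : ℤ) ∣ i * N - l := (by
        push_cast at h2
        exact (dvd_pow_self (p : ℤ) hk).trans h2)
      simpa using dvd_add h4 hd
    rcases (Nat.prime_iff_prime_int.1 hp).dvd_mul.1 h3 with h4 | h4
    · exact hi h4
    · exact hpA (Int.natCast_dvd_natCast.1 h4)
  have hx'H : x' ∈ H := by
    have hco : IsCoprime (l : ℤ) ((orderOf x' : ℕ) : ℤ) := by
      rw [hx', ← MulAut.conj_apply, MulEquiv.orderOf_eq, hxo]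
      push_cast
      exact ((Prime.coprime_iff_not_dvd (Nat.prime_iff_prime_int.1 hp)).2 hl).symm.pow_right
    obtain ⟨u, v, huv⟩ := hco
    have h1 : x' = (x' ^ l) ^ u := by
      rw [← zpow_mul, mul_comm, show u * l = 1 - v * (orderOf x' : ℕ) by omega, zpow_sub, zpow_one,
        mul_comm v, zpow_mul, zpow_natCast, pow_orderOf_eq_one, one_zpow, inv_one, mul_one]
    rw [h1, hxy]
    exact zpow_mem (pow_mem hhH N) u
  have hact : ∀ c ∈ A, x' * c * x'⁻¹ = x * c * x⁻¹ := fun c hc => by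
    calc x' * c * x'⁻¹ = x * ((x⁻¹ * x') * c * (x⁻¹ * x')⁻¹) * x⁻¹ := by group
      _ = x * c * x⁻¹ := by rw [comm_of hAab hxx hc, mul_inv_cancel_right]
  refine le_antisymm (fun n hn => ?_) le_normalizer
  obtain ⟨j, c, hc, rfl⟩ := hdec n
  set d := x' ^ (-j) * (x ^ j * c) with hd
  have hdA : d ∈ A := by
    rw [← QuotientGroup.eq_one_iff, hd, QuotientGroup.mk_mul, QuotientGroup.mk_zpow,
      ← QuotientGroup.eq.2 hxx, QuotientGroup.mk_mul, (QuotientGroup.eq_one_iff c).2 hc, mul_one,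
      QuotientGroup.mk_zpow, ← zpow_add, neg_add_cancel, zpow_zero]
  have hdn : d ∈ normalizer (H : Set G) := mul_mem (le_normalizer (zpow_mem hx'H _)) hn
  suffices hdH : d ∈ H by
    rw [show x ^ j * c = x' ^ j * d by rw [hd]; group]
    exact mul_mem (zpow_mem hx'H j) hdH
  let B := H ⊓ A
  let f : B → B := fun e => ⟨x' * e * x'⁻¹ * (e : G)⁻¹,
    H.mul_mem (H.mul_mem (H.mul_mem hx'H e.2.1) (H.inv_mem hx'H)) (H.inv_mem e.2.1),
    A.mul_mem (hAn.conj_mem e e.2.2 x') (A.inv_mem e.2.2)⟩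
  have hkey : ∀ u ∈ A, ∀ w ∈ A, x' * u * x'⁻¹ * u⁻¹ = x' * w * x'⁻¹ * w⁻¹ → u = w := by
    intro u hu w hw he
    rw [hact u hu, hact w hw] at he
    by_contra hne
    refine hfpf (w⁻¹ * u) (A.mul_mem (A.inv_mem hw) hu) (fun e => hne (inv_mul_eq_one.1 e).symm) ?_
    calc x * (w⁻¹ * u) * x⁻¹ = (x * w * x⁻¹)⁻¹ * ((x * u * x⁻¹ * u⁻¹) * u) := by group
      _ = (x * w * x⁻¹)⁻¹ * ((x * w * x⁻¹ * w⁻¹) * u) := by rw [he]
      _ = w⁻¹ * u := by group
  have hf : Function.Surjective f := Finite.injective_iff_surjective.1 fun u w huw =>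
    Subtype.ext (hkey u u.2.2 w w.2.2 (congrArg Subtype.val huw))
  obtain ⟨e, he⟩ := hf ⟨x' * d * x'⁻¹ * d⁻¹, by
    rw [show x' * d * x'⁻¹ * d⁻¹ = x' * (d * x'⁻¹ * d⁻¹) by group]
    exact H.mul_mem hx'H ((mem_normalizer_iff.1 hdn _).1 (H.inv_mem hx'H)),
    A.mul_mem (hAn.conj_mem d hdA x') (A.inv_mem hdA)⟩
  rw [← hkey e e.2.2 d hdA (congrArg Subtype.val he)]
  exact e.2.1

/-- Let G be a finite solvable non-nilpotent group. Every non-abelian subgroup of G is self-normalizing if and only if G is a semidirect product ⟨x⟩ ⋉ A in which ⟨x⟩ is a p-group for some prime p, A is a normal abelian subgroup of order prime to p, x^p is central in G, and x acts fixed-point-freely on A (no non-identity element of A commutes with x). -/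
theorem result {G : Type*} [Group G] [Finite G]
    [Group.IsSolvable G] (hnn : ¬ Group.IsNilpotent G) :
    (∀ H : Subgroup G, ¬ IsMulCommutative H → Subgroup.normalizer (H : Set G) = H) ↔
    ∃ (x : G) (A : Subgroup G) (p : ℕ), p.Prime ∧ A.Normal ∧ IsMulCommutative A ∧ (∃ k : ℕ, orderOf x = p ^ k) ∧
      ¬ p ∣ Nat.card A ∧ (Subgroup.zpowers x).IsComplement' A ∧ x ^ p ∈ Subgroup.center G ∧
      ∀ a : G, a ∈ A → a ≠ 1 → x * a * x⁻¹ ≠ a := by
  refine ⟨structure_of_self_normalizing hnn, ?_⟩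
  rintro ⟨x, A, p, hp, hAn, hAab, ⟨k, hk⟩, hpA, hc, hcen, hfpf⟩ H hH
  exact self_normalizing_of_structure hp hAn hAab hk hpA hc hcen hfpf H hH

end Cfsg.Agent.S4071
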