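import Cfsg.Statements.S4072
import Cfsg.Agent.Lib.Transfer.Frobenius
import Cfsg.Agent.Lib.Transfer.AbelianSylow
import Cfsg.Agent.Lib.Transfer.SimpleCount

set_option autoImplicit false
open Cfsg

namespace Cfsg.Agent.S4072

open Subgroup
open scoped commutatorElement

universe u

/-- Every non-abelian subgroup is self-normalizing. -/
def Good (G : Type*) [Group G] : Prop :=
  ∀ H : Subgroup G, ¬ IsMulCommutative H → normalizer (H : Set G) = H

variable {G : Type u} [Group G] [Finite G]

theorem commute_of (A : Subgroup G) (h : IsMulCommutative A) {a b : G} (ha : a ∈ A) (hb : b ∈ A) :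
    a * b = b * a := congrArg Subtype.val (h.is_comm.comm ⟨a, ha⟩ ⟨b, hb⟩)

omit [Finite G] in
theorem good_subgroup (hG : Good G) (M : Subgroup G) : Good M := by
  intro H hH
  have hH' : ¬ IsMulCommutative (H.map M.subtype : Subgroup G) := fun h => hH ⟨⟨fun a b =>
    Subtype.ext (Subtype.ext (by
      have := congrArg Subtype.val
        (h.is_comm.comm ⟨_, mem_map_of_mem M.subtype a.2⟩ ⟨_, mem_map_of_mem M.subtype b.2⟩)
      simpa using this))⟩⟩
  refine le_antisymm (fun x hx => ?_) le_normalizer
  have hx' : (x : G) ∈ normalizer ((H.map M.subtype : Subgroup G) : Set G) := by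
    rw [mem_normalizer_iff]
    intro h
    constructor
    · rintro ⟨y, hy, rfl⟩
      exact ⟨x * y * x⁻¹, (mem_normalizer_iff.1 hx y).1 hy, by simp⟩
    · rintro ⟨y, hy, hyx⟩
      refine ⟨x⁻¹ * y * x, ?_, ?_⟩
      · apply (mem_normalizer_iff.1 hx _).2
        simpa [mul_assoc] using hy
      · simp only [coe_subtype, Subgroup.coe_mul, Subgroup.coe_inv] at hyx ⊢
        rw [hyx]; group
  rw [hG _ hH'] at hx'
  obtain ⟨y, hy, hyx⟩ := hx'
  rwa [← Subtype.ext hyx]

omit [Finite G] in
theorem normal_comm (hG : Good G) (A : Subgroup G) [A.Normal] (hA : A ≠ ⊤) : IsMulCommutative A := by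
  by_contra h
  exact hA ((hG A h).symm.trans (normalizer_eq_top A))

/-- A perfect group with the property has only central proper normal subgroups. -/
theorem perfect_normal_central (hG : Good G) (hperf : commutator G = ⊤) (N : Subgroup G) [N.Normal]
    (hN : N ≠ ⊤) : N ≤ center G := by
  by_contra hnc
  obtain ⟨A, hNA, ⟨hAn, hAne⟩, hmax⟩ : ∃ A : Subgroup G, N ≤ A ∧ (A.Normal ∧ A ≠ ⊤) ∧
      ∀ B : Subgroup G, B.Normal → B ≠ ⊤ → A ≤ B → B = A := by
    have : Finite (Subgroup G) := Finite.of_injective _ SetLike.coe_injective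
    obtain ⟨A, hA, hmax⟩ := Set.Finite.exists_maximalFor id
      {B : Subgroup G | N ≤ B ∧ B.Normal ∧ B ≠ ⊤} (Set.toFinite _) ⟨N, le_rfl, inferInstance, hN⟩
    exact ⟨A, hA.1, hA.2, fun B hBn hBne hAB =>
      le_antisymm (hmax ⟨hA.1.trans hAB, hBn, hBne⟩ hAB) hAB⟩
  have := hAn
  have hAab := normal_comm hG A hAne
  have hCA : centralizer (A : Set G) = A := by
    refine hmax _ inferInstance (fun htop => hnc (hNA.trans fun a ha => mem_center_iff.2 fun g => ?_))
      (le_centralizer A)
    exact (mem_centralizer_iff.1 (htop.ge (mem_top g)) a ha).symm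
  have : Nontrivial (G ⧸ A) := by
    rw [← not_subsingleton_iff_nontrivial]
    intro hs
    exact hAne (QuotientGroup.subgroup_eq_top_of_subsingleton A hs)
  have hsimple : IsSimpleGroup (G ⧸ A) := by
    refine ⟨fun B hB => ?_⟩
    have hBc := hB.comap (QuotientGroup.mk' A)
    by_cases htop : B.comap (QuotientGroup.mk' A) = ⊤
    · right
      exact comap_injective (QuotientGroup.mk'_surjective A) (htop.trans (comap_top _).symm)
    · left
      have hAB : A ≤ B.comap (QuotientGroup.mk' A) := fun a ha => by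
        rw [mem_comap, QuotientGroup.mk'_apply, (QuotientGroup.eq_one_iff a).2 ha]; exact one_mem B
      have := hmax _ hBc htop hAB
      refine comap_injective (QuotientGroup.mk'_surjective A) ?_
      rw [this, MonoidHom.comap_bot, QuotientGroup.ker_mk']
  have hna : ¬ IsMulCommutative (G ⧸ A) := fun h => by
    have h1 : commutator G ≤ A := (Normal.quotient_commutative_iff_commutator_le (N := A)).1 h
    rw [hperf] at h1
    exact hAne (top_le_iff.1 h1)
  -- every cyclic subgroup of the quotient is self-normalizing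
  have hcyc : ∀ y : G ⧸ A, y ≠ 1 → normalizer ((zpowers y : Subgroup (G ⧸ A)) : Set (G ⧸ A)) = zpowers y := by
    intro y hy
    obtain ⟨x, rfl⟩ := QuotientGroup.mk'_surjective A y
    have hxA : x ∉ A := fun h => hy ((QuotientGroup.eq_one_iff x).2 h)
    set L := (zpowers (QuotientGroup.mk' A x)).comap (QuotientGroup.mk' A) with hL
    have hAL : A ≤ L := fun a ha => by
      rw [hL, mem_comap]; simp only [QuotientGroup.mk'_apply]; rw [(QuotientGroup.eq_one_iff a).2 ha]; exact one_mem _
    have hLna : ¬ IsMulCommutative L := fun h => hxA (hCA.le (mem_centralizer_iff.2 fun a ha =>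
      commute_of L h (hAL ha) (mem_zpowers _)))
    refine comap_injective (QuotientGroup.mk'_surjective A) ?_
    rw [comap_normalizer_eq_of_surjective _ (QuotientGroup.mk'_surjective A)]
    exact hG L hLna
  obtain ⟨p, hp, hpd⟩ := Nat.exists_prime_and_dvd (Finite.one_lt_card (α := G ⧸ A)).ne'
  have := Fact.mk hp
  obtain ⟨S⟩ := (inferInstance : Nonempty (Sylow p (G ⧸ A)))
  have hSne : (S : Subgroup (G ⧸ A)) ≠ ⊥ := S.ne_bot_of_dvd_card hpd
  have : Nontrivial S := (nontrivial_iff_ne_bot _).2 hSne
  have := S.2.center_nontrivial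
  obtain ⟨z, hz⟩ := exists_ne (1 : center (S : Subgroup (G ⧸ A)))
  have hz1 : ((z : S) : G ⧸ A) ≠ 1 := fun h => hz (Subtype.ext (Subtype.ext h))
  have hSz : (S : Subgroup (G ⧸ A)) = zpowers ((z : S) : G ⧸ A) := by
    refine le_antisymm (fun s hs => ?_) (zpowers_le.2 (z : S).2)
    rw [← hcyc _ hz1]
    refine centralizer_le_normalizer _ ?_
    rw [zpowers_eq_closure, centralizer_closure, mem_centralizer_singleton_iff]
    exact congrArg Subtype.val (mem_center_iff.1 z.2 ⟨s, hs⟩)
  refine CfsgLib.Transfer.not_hasNormalPComplement_of_simple hna hpd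
    (CfsgLib.Transfer.hasNormalPComplement_of_normalizer_le_centralizer S ?_)
  rw [hSz, hcyc _ hz1]
  exact le_centralizer _

/-- In a perfect group with the property, the centre is trivial. -/
theorem center_eq_bot (hG : Good G) (hperf : commutator G = ⊤) : center G = ⊥ := by
  by_contra hZ
  obtain ⟨p, hp, hpd⟩ := Nat.exists_prime_and_dvd (fun h => hZ (card_eq_one.1 h))
  have := Fact.mk hp
  obtain ⟨⟨z, hzZ⟩, hz⟩ := exists_prime_orderOf_dvd_card' p hpd
  rw [Subgroup.orderOf_mk] at hz
  have hsyl : ∀ P : Sylow p G, ¬ IsMulCommutative (P : Subgroup G) := by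
    intro P hP
    have hzn : (zpowers z).Normal := ⟨fun n hn g => by
      rw [mem_center_iff.1 (zpowers_le.2 hzZ hn) g, mul_inv_cancel_right]; exact hn⟩
    have hzp : IsPGroup p (zpowers z) := IsPGroup.of_card (n := 1) (by rw [Nat.card_zpowers, hz, pow_one])
    have hzP : z ∈ (P : Subgroup G) := by
      have := P.3 (hzp.to_sup_of_normal_left P.2) le_sup_right
      exact this.le (mem_sup_left (mem_zpowers z))
    have h := CfsgLib.Transfer.inf_commutator_inf_center_eq_bot (P : Subgroup G) P.card_coprime_index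
    have : z ∈ ((P : Subgroup G) ⊓ commutator G ⊓ center G : Subgroup G) :=
      ⟨⟨hzP, hperf.ge (mem_top z)⟩, hzZ⟩
    rw [h, mem_bot] at this
    rw [this, orderOf_one] at hz
    exact hp.ne_one hz.symm
  have hnc : Cfsg.HasNormalPComplement p G := by
    classical
    rw [CfsgLib.Transfer.hasNormalPComplement_iff_frobenius]
    by_contra hbad
    push Not at hbad
    have : Finite (Subgroup G) := Finite.of_injective _ SetLike.coe_injective
    obtain ⟨D, ⟨hDp, g, hgN, hgp, hgC⟩, hmax⟩ := Set.Finite.exists_maximalFor id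
      {D : Subgroup G | IsPGroup p D ∧ ∃ g ∈ normalizer (D : Set G), (orderOf g).Coprime p ∧
        g ∉ centralizer (D : Set G)} (Set.toFinite _) hbad
    have hDab : IsMulCommutative D := by
      by_contra h
      rw [hG D h] at hgN
      obtain ⟨k, hk⟩ := IsPGroup.iff_orderOf.1 hDp ⟨g, hgN⟩
      rw [Subgroup.orderOf_mk] at hk
      rw [hk] at hgp
      rcases Nat.eq_zero_or_pos k with rfl | hk0
      · rw [pow_zero, orderOf_eq_one_iff] at hk
        exact hgC (by rw [hk]; exact one_mem _)
      · exact hp.ne_one ((Nat.coprime_self p).1 ((Nat.coprime_pow_left_iff hk0 p p).1 hgp))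
    set M := normalizer (D : Set G) with hM
    have hDM : D ≤ M := le_normalizer
    have hgnc : ¬ D.subgroupOf M ≤ center M := fun h => hgC (mem_centralizer_iff.2 fun d hd => by
      have := mem_center_iff.1 (h (show (⟨d, hDM hd⟩ : M) ∈ D.subgroupOf M from hd)) ⟨g, hgN⟩
      exact (congrArg Subtype.val this).symm)
    have hDne : D.subgroupOf M ≠ ⊤ := fun h => by
      have hgD : (⟨g, hgN⟩ : M) ∈ D.subgroupOf M := h ▸ mem_top _
      exact hgC (mem_centralizer_iff.2 fun d hd => commute_of D hDab hd hgD)
    have := normal_in_normalizer (H := D)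
    have hMperf : commutator M ≠ ⊤ := fun h => hgnc (perfect_normal_central (good_subgroup hG M) h _ hDne)
    -- a maximal subgroup containing the commutator subgroup
    obtain ⟨A, hA, hcA⟩ := (eq_top_or_exists_le_coatom (commutator M)).resolve_left hMperf
    have hAn : A.Normal := ⟨fun a ha m => by
      have h1 := hcA (commutator_mem_commutator (mem_top m) (mem_top a))
      have h2 := mul_mem h1 ha
      rwa [commutatorElement_def, inv_mul_cancel_right] at h2⟩
    have hAab := normal_comm (good_subgroup hG M) A hA.1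
    have hsimp : IsSimpleGroup (M ⧸ A) := by
      have : Nontrivial (M ⧸ A) := by
        rw [← not_subsingleton_iff_nontrivial]
        exact fun hs => hA.1 (QuotientGroup.subgroup_eq_top_of_subsingleton A hs)
      refine ⟨fun B _ => ?_⟩
      rcases hA.le_iff.mp (show A ≤ B.comap (QuotientGroup.mk' A) from fun a ha => by
          rw [mem_comap, QuotientGroup.mk'_apply, (QuotientGroup.eq_one_iff a).2 ha]; exact one_mem B) with h | h
      · right; exact comap_injective (QuotientGroup.mk'_surjective A) (h.trans (comap_top _).symm)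
      · left
        refine comap_injective (QuotientGroup.mk'_surjective A) ?_
        rw [h, MonoidHom.comap_bot, QuotientGroup.ker_mk']
    letI : CommGroup (M ⧸ A) :=
      { (inferInstance : Group (M ⧸ A)) with
        mul_comm := ((Normal.quotient_commutative_iff_commutator_le (N := A)).2 hcA).is_comm.comm }
    have hr : (Nat.card (M ⧸ A)).Prime := IsSimpleGroup.prime_card
    set g' : M := ⟨g, hgN⟩
    by_cases hgA : g' ∈ A
    · apply hgC
      rw [mem_centralizer_iff]
      intro d hd
      set d' : M := ⟨d, hDM hd⟩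
      set c := g' * d' * g'⁻¹ * d'⁻¹ with hc
      have hcA' : c ∈ A := by
        rw [hc, mul_assoc (g' * d'), mul_assoc g']
        have : d' * (g'⁻¹ * d'⁻¹) ∈ A := by
          rw [← mul_assoc]; exact hAn.conj_mem _ (inv_mem hgA) d'
        exact mul_mem hgA this
      have hcD : (c : G) ∈ D :=
        mul_mem ((mem_normalizer_iff.1 hgN d).1 hd) (inv_mem hd)
      have hgc : Commute g' c := commute_of A hAab hgA hcA'
      have hpow : ∀ k : ℕ, g' ^ k * d' * (g' ^ k)⁻¹ = c ^ k * d' := by
        intro k
        induction k with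
        | zero => simp
        | succ k ih =>
          calc g' ^ (k + 1) * d' * (g' ^ (k + 1))⁻¹ = g' * (g' ^ k * d' * (g' ^ k)⁻¹) * g'⁻¹ := by
                rw [pow_succ']; group
            _ = (g' * c ^ k) * d' * g'⁻¹ := by rw [ih]; group
            _ = c ^ k * (g' * d' * g'⁻¹ * d'⁻¹) * d' := by rw [(hgc.pow_right k).eq]; group
            _ = c ^ (k + 1) * d' := by rw [pow_succ, hc]
      have hc1 : c ^ orderOf g = 1 := by
        have h := hpow (orderOf g)
        have hg1 : g' ^ orderOf g = 1 := Subtype.ext (by simp [g', pow_orderOf_eq_one])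
        rw [hg1, one_mul, inv_one, mul_one] at h
        exact mul_eq_right.1 h.symm
      obtain ⟨i, hi⟩ := IsPGroup.iff_orderOf.1 hDp ⟨(c : G), hcD⟩
      rw [Subgroup.orderOf_mk] at hi
      have h1 : orderOf (c : G) = 1 := Nat.eq_one_of_dvd_coprimes (hgp.pow_right i)
        (orderOf_dvd_of_pow_eq_one (by rw [← Subgroup.coe_pow, hc1]; rfl)) (dvd_of_eq hi)
      rw [orderOf_eq_one_iff] at h1
      have h2 : g * d * g⁻¹ * d⁻¹ = 1 := h1
      exact (mul_inv_eq_iff_eq_mul.1 (mul_inv_eq_one.1 h2)).symm
    · -- the `p`-elements of `M` lie in `A`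
      have hrp : ¬ p ∣ Nat.card (M ⧸ A) := fun hd => hgA (by
        have h1 : orderOf (g' : M ⧸ A) = 1 := Nat.eq_one_of_dvd_coprimes hgp
          ((orderOf_map_dvd (QuotientGroup.mk' A) g').trans (by rw [Subgroup.orderOf_mk]))
          ((_root_.orderOf_dvd_natCard _).trans (by rw [(Nat.prime_dvd_prime_iff_eq hp hr).1 hd]))
        rwa [orderOf_eq_one_iff, QuotientGroup.eq_one_iff] at h1)
      have hpA : ∀ m : M, (∃ i, orderOf m = p ^ i) → m ∈ A := by
        rintro m ⟨i, hi⟩
        have h1 : orderOf (m : M ⧸ A) = 1 := Nat.eq_one_of_dvd_coprimes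
          ((hp.coprime_iff_not_dvd.2 hrp).pow_left i)
          ((orderOf_map_dvd (QuotientGroup.mk' A) m).trans (dvd_of_eq hi)) (_root_.orderOf_dvd_natCard _)
        rwa [orderOf_eq_one_iff, QuotientGroup.eq_one_iff] at h1
      let S : Subgroup M :=
        { carrier := {m | m ∈ A ∧ ∃ i, orderOf m = p ^ i}
          one_mem' := ⟨one_mem _, 0, by simp⟩
          mul_mem' := by
            rintro a b ⟨ha, i, hi⟩ ⟨hb, j, hj⟩
            refine ⟨mul_mem ha hb, ?_⟩
            have hdvd : orderOf (a * b) ∣ p ^ (i + j) := by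
              rw [pow_add]
              exact (Commute.orderOf_mul_dvd_mul_orderOf (commute_of A hAab ha hb)).trans (by rw [hi, hj])
            obtain ⟨k, -, hk⟩ := (Nat.dvd_prime_pow hp).1 hdvd
            exact ⟨k, hk⟩
          inv_mem' := by
            rintro a ⟨ha, i, hi⟩
            exact ⟨inv_mem ha, i, by rw [orderOf_inv, hi]⟩ }
      have hSn : S.Normal := ⟨by
        rintro a ⟨ha, i, hi⟩ m
        exact ⟨hAn.conj_mem a ha m, i, ((MulAut.conj m).orderOf_eq a).trans hi⟩⟩
      have hSp : IsPGroup p (S.map M.subtype) := by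
        refine IsPGroup.map (IsPGroup.iff_orderOf.2 ?_) _
        rintro ⟨a, ha, i, hi⟩
        exact ⟨i, (Subgroup.orderOf_mk a _).trans hi⟩
      have hmemS : ∀ x : G, x ∈ M → (∃ i, orderOf x = p ^ i) → x ∈ S.map M.subtype := by
        rintro x hx ⟨i, hi⟩
        have : orderOf (⟨x, hx⟩ : M) = p ^ i := by rw [Subgroup.orderOf_mk, hi]
        exact ⟨⟨x, hx⟩, ⟨hpA _ ⟨i, this⟩, i, this⟩, rfl⟩
      have hDS : D ≤ S.map M.subtype := fun d hd => by
        obtain ⟨i, hi⟩ := IsPGroup.iff_orderOf.1 hDp ⟨d, hd⟩
        rw [Subgroup.orderOf_mk] at hi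
        exact hmemS d (hDM hd) ⟨i, hi⟩
      have hSD : S.map M.subtype ≤ D := by
        refine hmax ⟨hSp, g, ?_, hgp, fun h => hgC (centralizer_le hDS h)⟩ hDS
        have : g' ∈ normalizer (S : Set M) := by rw [normalizer_eq_top]; exact mem_top _
        exact le_normalizer_map M.subtype ⟨g', this, rfl⟩
      obtain ⟨P, hP⟩ := hDp.exists_le_sylow
      refine hsyl P ?_
      have hPD : (P : Subgroup G) = D := by
        by_contra hne
        have hlt : D < (P : Subgroup G) := lt_of_le_of_ne hP (Ne.symm hne)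
        obtain ⟨x, hxP, hxM, hxD⟩ := CfsgLib.Transfer.exists_mem_normalizer_not_mem P.2 hlt
        obtain ⟨i, hi⟩ := IsPGroup.iff_orderOf.1 P.2 ⟨x, hxP⟩
        rw [Subgroup.orderOf_mk] at hi
        exact hxD (hSD (hmemS x hxM ⟨i, hi⟩))
      rw [hPD]; exact hDab
  obtain ⟨N, hN, hco, hq⟩ := CfsgLib.Transfer.hasNormalPComplement_iff_exists.1 hnc
  have hNtop : N = ⊤ := by
    by_contra hne
    have hNc := perfect_normal_central hG hperf N hne
    have := hq.isNilpotent
    have hpq : commutator (G ⧸ N) = ⊤ := by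
      rw [_root_.commutator_def, ← MonoidHom.range_eq_top.2 (QuotientGroup.mk'_surjective N),
        MonoidHom.range_eq_map, ← map_commutator, ← _root_.commutator_def, hperf]
    have : Nontrivial (G ⧸ N) := by
      rw [← not_subsingleton_iff_nontrivial]
      exact fun hs => hne (QuotientGroup.subgroup_eq_top_of_subsingleton N hs)
    exact (Group.IsSolvable.commutator_lt_top_of_nontrivial (G := G ⧸ N)).ne hpq
  rw [hNtop, card_top] at hco
  exact hp.coprime_iff_not_dvd.1 hco.symm (hpd.trans (card_subgroup_dvd_card _))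

/-- A finite group in which every non-abelian subgroup is self-normalizing is solvable or simple. -/
theorem result {G : Type*} [Group G] [Finite G] (hS : ∀ H : Subgroup G, ¬ IsMulCommutative H → Subgroup.normalizer (H : Set G) = H) :
    Group.IsSolvable G ∨ IsSimpleGroup G := by
  by_contra! h
  obtain ⟨hsol, hsimp⟩ := h
  have hG : Good G := hS
  have hperf : commutator G = ⊤ := by
    by_contra hne
    apply hsol
    have hab := normal_comm hG (commutator G) hne
    refine ⟨⟨2, ?_⟩⟩
    rw [derivedSeries_succ, derivedSeries_one, commutator_eq_bot_iff_le_centralizer]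
    exact le_centralizer _
  have : Nontrivial G := by
    rw [← not_subsingleton_iff_nontrivial]
    intro hs
    exact hsol inferInstance
  apply hsimp
  refine ⟨fun N hN => ?_⟩
  by_cases hNt : N = ⊤
  · exact Or.inr hNt
  · left
    exact le_bot_iff.1 ((perfect_normal_central hG hperf N hNt).trans (center_eq_bot hG hperf).le)

end Cfsg.Agent.S4072
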