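import Cfsg.Statements.S4073
import Cfsg.Agent.Lib.StructB.SelfNormPSL
import Cfsg.Agent.Lib.Geom.PSLTwoSolvable
import Cfsg.Agent.Lib.Geom.DicksonPSL
import Cfsg.Agent.Lib.ClassK.SmallSimple
import Cfsg.Agent.Lib.KnownB.PSL2Elem
import Mathlib.NumberTheory.Fermat

set_option autoImplicit false
open Cfsg

namespace Cfsg.Agent.S4073

open Subgroup
open CfsgLib.Geom.Moebius

/-- A non-abelian normal subgroup of a dihedral group of order `2n`, `n` odd, is everything. -/
theorem dihedral_top {n : ℕ} (hn : Odd n) (K : Subgroup (DihedralGroup n)) [K.Normal]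
    (hK : ∃ a ∈ K, ∃ b ∈ K, a * b ≠ b * a) : K = ⊤ := by
  obtain ⟨i, hi⟩ : ∃ i, DihedralGroup.sr i ∈ K := by
    by_contra! h
    obtain ⟨a, ha, b, hb, hab⟩ := hK
    rcases a with a | a
    · rcases b with b | b
      · exact hab (by rw [DihedralGroup.r_mul_r, DihedralGroup.r_mul_r, add_comm])
      · exact h b hb
    · exact h a ha
  have h2 : IsUnit (2 : ZMod n) := by
    have := (ZMod.isUnit_iff_coprime 2 n).2 (Nat.coprime_two_left.2 hn)
    simpa using this
  have hall : ∀ j, DihedralGroup.sr j ∈ K := by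
    intro j
    obtain ⟨c, hc⟩ : ∃ c : ZMod n, 2 * c = i - j := ⟨(h2.unit⁻¹ : (ZMod n)ˣ) * (i - j), by
      rw [← mul_assoc]; simp⟩
    have := (inferInstance : K.Normal).conj_mem _ hi (DihedralGroup.r c)
    rw [DihedralGroup.inv_r, DihedralGroup.r_mul_sr, DihedralGroup.sr_mul_r] at this
    rwa [show i - c + -c = i - 2 * c by ring, hc, sub_sub_cancel] at this
  rw [eq_top_iff]
  rintro (j | j) -
  · have := mul_mem (hall 0) (hall j)
    rwa [DihedralGroup.sr_mul_sr, sub_zero] at this
  · exact hall j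

/-- A non-abelian normal subgroup of `A₄` is everything. -/
theorem tetra_top (K : Subgroup (alternatingGroup (Fin 4))) [K.Normal]
    (hK : ∃ a ∈ K, ∃ b ∈ K, a * b ≠ b * a) : K = ⊤ := by
  classical
  by_contra hne
  have h12 : Nat.card (alternatingGroup (Fin 4)) = 12 := by
    rw [Nat.card_eq_fintype_card]; decide
  have hd := card_subgroup_dvd_card K
  rw [h12] at hd
  obtain ⟨a, ha, b, hb, hab⟩ := hK
  have hlt : Nat.card K < 12 := h12 ▸ lt_of_le_of_ne (card_le_card_group K) (fun e => hne (eq_top_of_card_eq K e))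
  have h6 : Nat.card K = 6 := by
    rcases (show Nat.card K = 1 ∨ Nat.card K = 2 ∨ Nat.card K = 3 ∨ Nat.card K = 4 ∨ Nat.card K = 6 by
      have hK0 : 0 < Nat.card K := Nat.card_pos
      generalize Nat.card K = m at hd hlt hK0
      interval_cases m <;> simp_all <;> omega) with e | e | e | e | e
    · exfalso
      have : K = ⊥ := card_eq_one.1 e
      rw [this, mem_bot] at ha
      subst ha; simp at hab
    · exfalso
      have := Fact.mk Nat.prime_two
      have := isCyclic_of_prime_card e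
      let _ := IsCyclic.commGroup (α := K)
      exact hab (congrArg Subtype.val (mul_comm (⟨a, ha⟩ : K) ⟨b, hb⟩))
    · exfalso
      have := Fact.mk Nat.prime_three
      have := isCyclic_of_prime_card e
      let _ := IsCyclic.commGroup (α := K)
      exact hab (congrArg Subtype.val (mul_comm (⟨a, ha⟩ : K) ⟨b, hb⟩))
    · exfalso
      have := Fact.mk Nat.prime_two
      have := IsPGroup.isMulCommutative_of_card_eq_prime_sq (G := K) (p := 2) (by rw [e]; norm_num)
      exact hab (congrArg Subtype.val (this.is_comm.comm (⟨a, ha⟩ : K) ⟨b, hb⟩))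
    · exact e
  have hidx : K.index = 2 := by
    have := K.card_mul_index
    rw [h6, h12] at this
    omega
  have h9 : 9 ≤ Nat.card K := by
    have e : Nat.card {x : alternatingGroup (Fin 4) // x ^ 3 = 1} = 9 := by
      rw [Nat.card_eq_fintype_card]; decide
    rw [← e]
    refine Nat.card_le_card_of_injective (fun x => (⟨x.1, ?_⟩ : K)) fun x y h => by
      have h' := congrArg Subtype.val h
      exact Subtype.ext h'
    have h2 := mul_self_mem_of_index_two hidx (x.1 * x.1)
    have e4 : x.1 * x.1 * (x.1 * x.1) = x.1 := by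
      rw [← pow_two, ← pow_two, ← pow_mul, show 2 * 2 = 3 + 1 from rfl, pow_succ, x.2, one_mul]
    rwa [e4] at h2
  omega

variable {F : Type} [Field F] [Fintype F]

local notation "PS" => Matrix.ProjectiveSpecialLinearGroup (Fin 2) F

/-- A non-abelian normal subgroup of a subgroup fixing a point is everything. -/
theorem borel_top {n : ℕ} (hF : Fintype.card F = 2 ^ n) (hr : (2 ^ n - 1).Prime) (M : Subgroup PS)
    (P : Line F) (h : ∀ x ∈ M, Matrix.ProjectiveSpecialLinearGroup.toPGL x • P = P)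
    (K : Subgroup M) [K.Normal] (hK : ∃ a ∈ K, ∃ b ∈ K, a * b ≠ b * a) : K = ⊤ := by
  classical
  obtain ⟨m, hm⟩ := exists_map1 P
  have hfix : ∀ x : M, (m⁻¹ * Matrix.ProjectiveSpecialLinearGroup.toPGL (x : PS) * m) • (inf : Line F) = inf := by
    intro x
    rw [mul_smul, mul_smul, hm, h _ x.2, inv_smul_eq_iff, hm]
  choose a b hab using fun x : M => exists_aff_of_fix (hfix x)
  have hinj : ∀ x y : M, a x = a y → b x = b y → x = y := by
    intro x y e1 e2
    have e : m⁻¹ * Matrix.ProjectiveSpecialLinearGroup.toPGL (x : PS) * m =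
        m⁻¹ * Matrix.ProjectiveSpecialLinearGroup.toPGL (y : PS) * m := by rw [hab, hab, e1, e2]
    exact Subtype.ext (Matrix.ProjectiveSpecialLinearGroup.toPGL_injective
      (mul_left_cancel (mul_right_cancel e)))
  have hmul : ∀ x y : M, a (x * y) = a x * a y ∧ b (x * y) = (a x : F) * b y + b x := by
    intro x y
    apply aff_inj
    rw [← hab, ← aff_mul, ← hab, ← hab, Subgroup.coe_mul, map_mul]
    group
  let χ : M →* Fˣ := MonoidHom.mk' a fun x y => (hmul x y).1
  -- the kernel is abelian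
  have hker : ∀ u v : M, a u = 1 → a v = 1 → u * v = v * u := by
    intro u v hu hv
    apply hinj
    · rw [(hmul u v).1, (hmul v u).1, hu, hv]
    · rw [(hmul u v).2, (hmul v u).2, hu, hv, Units.val_one, one_mul, one_mul, add_comm]
  obtain ⟨y, hyK, hy⟩ : ∃ y ∈ K, a y ≠ 1 := by
    by_contra! hall
    obtain ⟨u, hu, v, hv, huv⟩ := hK
    exact huv (hker u v (hall u hu) (hall v hv))
  -- commutation with `y` kills the kernel
  have hcomm : ∀ u : M, a u = 1 → u * y = y * u → u = 1 := by
    intro u hu huy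
    have h1 := congrArg b huy
    rw [(hmul u y).2, (hmul y u).2, hu, Units.val_one, one_mul] at h1
    have hay : (a y : F) ≠ 1 := fun e => hy (Units.ext e)
    have h2 : ((a y : F) - 1) * b u = 0 := by linear_combination -h1
    have hb0 : b u = 0 := (mul_eq_zero.1 h2).resolve_left (sub_ne_zero.2 hay)
    have hone : a (1 : M) = 1 := map_one χ
    have hbone : b (1 : M) = 0 := by
      have := (hmul 1 1).2
      rw [mul_one, hone, Units.val_one, one_mul] at this
      linear_combination -this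
    exact hinj u 1 (by rw [hu, hone]) (by rw [hb0, hbone])
  have hUK : ∀ u : M, a u = 1 → u ∈ K := by
    let U := {u : M // a u = 1}
    have hk : ∀ u : U, a (u.1 * y * u.1⁻¹ * y⁻¹) = 1 := fun u => by
      show χ (u.1 * y * u.1⁻¹ * y⁻¹) = 1
      rw [map_mul, map_mul, map_mul, map_inv, map_inv, show χ u.1 = 1 from u.2]
      simp
    let f : U → U := fun u => ⟨_, hk u⟩
    have hf : Function.Injective f := by
      intro u v e
      have e' : u.1 * y * u.1⁻¹ = v.1 * y * v.1⁻¹ := mul_right_cancel (congrArg Subtype.val e)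
      refine Subtype.ext (inv_mul_eq_one.1 (hcomm _ ?_ ?_))
      · show χ (u.1⁻¹ * v.1) = 1
        rw [map_mul, map_inv, show χ u.1 = 1 from u.2, show χ v.1 = 1 from v.2, inv_one, one_mul]
      · calc u.1⁻¹ * v.1 * y = u.1⁻¹ * (v.1 * y * v.1⁻¹) * v.1 := by group
          _ = u.1⁻¹ * (u.1 * y * u.1⁻¹) * v.1 := by rw [e']
          _ = y * (u.1⁻¹ * v.1) := by group
    intro u hu
    obtain ⟨v, hv⟩ := (Finite.injective_iff_surjective.1 hf) ⟨u, hu⟩
    have e : v.1 * y * v.1⁻¹ * y⁻¹ = u := congrArg Subtype.val hv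
    rw [← e]
    exact mul_mem ((inferInstance : K.Normal).conj_mem y hyK v.1) (inv_mem hyK)
  have hFu : Nat.card Fˣ = 2 ^ n - 1 := by
    rw [Nat.card_units, Nat.card_eq_fintype_card, hF]
  have := Fact.mk hr
  rw [eq_top_iff]
  intro x _
  have htop := zpowers_eq_top_of_prime_card hFu (show a y ≠ 1 from hy)
  obtain ⟨i, hi⟩ := mem_zpowers_iff.1 (htop ▸ mem_top (a x))
  have h1 : x * (y ^ i)⁻¹ ∈ K := hUK _ (by
    show χ (x * (y ^ i)⁻¹) = 1
    rw [map_mul, map_inv, map_zpow]
    show a x * ((a y) ^ i)⁻¹ = 1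
    rw [hi, mul_inv_cancel])
  have := mul_mem h1 (zpow_mem hyK i)
  rwa [inv_mul_cancel_right] at this

/-- In `PSL(2, 2 ^ n)` with `2 ^ n - 1` prime the non-abelian subgroups are self-normalizing. -/
theorem good_psl {n : ℕ} (hn : 2 ≤ n) (hr : (2 ^ n - 1).Prime) (hF : Fintype.card F = 2 ^ n)
    (H : Subgroup PS) (hH : ¬ IsMulCommutative H) : normalizer (H : Set PS) = H := by
  classical
  have h4 : 4 ≤ Fintype.card F := by
    rw [hF]; calc 4 = 2 ^ 2 := rfl
      _ ≤ 2 ^ n := Nat.pow_le_pow_right two_pos hn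
  have hsimp := CfsgLib.ClassK.isSimpleGroup_psl_two h4
  have hpn : n.Prime := (Nat.prime_of_pow_sub_one_prime (by omega) hr).2
  have hchar : CharP F 2 := by
    obtain ⟨p, hp⟩ := CharP.exists F
    obtain ⟨k, hpp, hk⟩ := FiniteField.card F p
    have h2 : p = 2 := by
      have : p ∣ 2 ^ n := hF ▸ hk ▸ dvd_pow_self p k.pos.ne'
      exact (Nat.prime_dvd_prime_iff_eq hpp Nat.prime_two).1 (hpp.dvd_of_dvd_pow this)
    exact h2 ▸ hp
  have hodd1 : Odd (2 ^ n - 1) := Nat.Even.sub_odd (Nat.one_le_two_pow) ((Nat.even_pow).2 ⟨even_two, by omega⟩) odd_one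
  have hgcd : Nat.gcd 2 (Fintype.card F - 1) = 1 := by
    rw [hF]; exact Nat.coprime_two_left.2 hodd1
  set M := normalizer (H : Set PS)
  by_contra hMH
  have hHM : H ≤ M := le_normalizer
  have hne : ¬ M ≤ H := fun h => hMH (le_antisymm h hHM)
  have hMtop : M ≠ ⊤ := by
    intro e
    rcases hsimp.eq_bot_or_eq_top_of_normal H (normalizer_eq_top_iff.1 e) with e' | e'
    · exact hH (e' ▸ inferInstance)
    · exact hne (e' ▸ le_top)
  have : (H.subgroupOf M).Normal := normal_in_normalizer
  have hnc : ∃ a ∈ H.subgroupOf M, ∃ b ∈ H.subgroupOf M, a * b ≠ b * a := by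
    by_contra! h
    exact hH ⟨⟨fun a b => Subtype.ext (by
      have := congrArg Subtype.val (h ⟨a, hHM a.2⟩ a.2 ⟨b, hHM b.2⟩ b.2)
      exact this)⟩⟩
  -- reduce to showing that the subgroup is everything
  suffices hT : H.subgroupOf M = ⊤ from hne (subgroupOf_eq_top.1 hT)
  have transfer : ∀ {K : Type} [Group K] (e : M ≃* K),
      (∀ S : Subgroup K, S.Normal → (∃ a ∈ S, ∃ b ∈ S, a * b ≠ b * a) → S = ⊤) → H.subgroupOf M = ⊤ := by
    intro K _ e hK
    have hS := hK ((H.subgroupOf M).map e.toMonoidHom) (Normal.map ‹_› _ e.surjective) ?_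
    · rw [← comap_map_eq_self_of_injective (f := e.toMonoidHom) e.injective (H.subgroupOf M), hS, comap_top]
    · obtain ⟨a, ha, b, hb, hab⟩ := hnc
      exact ⟨e a, mem_map_of_mem _ ha, e b, mem_map_of_mem _ hb, fun h => hab (e.injective (by
        rw [map_mul, map_mul]; exact h))⟩
  have hcardG : Nat.card PS = 2 ^ n * ((2 ^ n) ^ 2 - 1) := by
    have := CfsgLib.Classical.card_psl_two_mul (F := F)
    rwa [hgcd, one_mul, hF] at this
  have hsub : ∀ (K : Subfield F) (u : ℕ), 3 ≤ u → Nat.card K = u → u = 2 ^ n := by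
    intro K u hu hK
    have hd := Module.natCard_eq_pow_finrank (K := K) (V := F)
    rw [hK, Nat.card_eq_fintype_card, hF] at hd
    have hud : u ∣ 2 ^ n := hd ▸ dvd_pow_self u (Module.finrank_pos (R := K) (M := F)).ne'
    obtain ⟨j, -, hj⟩ := (Nat.dvd_prime_pow Nat.prime_two).1 hud
    rw [hj, ← pow_mul] at hd
    have hjn : j ∣ n := ⟨_, Nat.pow_right_injective le_rfl hd⟩
    rcases (Nat.dvd_prime hpn).1 hjn with e | e
    · subst e; omega
    · rw [hj, e]
  cases CfsgLib.Geom.Moebius.dickson M with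
  | cyclic k hk hc hcard =>
    exfalso
    obtain ⟨a, -, b, -, hab⟩ := hnc
    have := hc
    let _ := IsCyclic.commGroup (α := M)
    exact hab (mul_comm a b)
  | borel P h => exact borel_top hF hr M P h _ hnc
  | dihedral k hk2 hk hc hcard =>
    obtain ⟨e⟩ := hc
    refine transfer e fun S hS hS' => ?_
    have := hS
    refine dihedral_top ?_ S hS'
    have h1 : Odd (2 ^ n + 1) := ((Nat.even_pow).2 ⟨even_two, by omega⟩).add_one
    rcases hk with hk | hk <;> rw [hgcd, Nat.div_one, hF] at hk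
    · exact h1.of_dvd_nat hk
    · exact hodd1.of_dvd_nat hk
  | tetrahedral h hcard =>
    obtain ⟨e⟩ := h
    exact transfer e fun S hS hS' => have := hS; tetra_top S hS'
  | octahedral h hcard =>
    exfalso
    obtain ⟨e⟩ := h
    obtain ⟨x, hx⟩ : ∃ x : M, orderOf x = 4 := by
      refine ⟨e.symm (finRotate 4), ?_⟩
      rw [MulEquiv.orderOf_eq]
      exact isCycle_finRotate.orderOf.trans (by rw [support_finRotate]; rfl)
    have h1 : orderOf (x : PS) = 4 := by rwa [Subgroup.orderOf_coe]
    rcases CfsgLib.KnownB.SL2.orderOf_psl_cases 2 (x : PS) with d | d | d <;> rw [h1] at d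
    · exact absurd (Nat.le_of_dvd two_pos d) (by norm_num)
    · rw [hgcd, Nat.div_one, hF] at d
      exact (Nat.not_even_iff_odd.2 hodd1) (even_iff_two_dvd.2 ((by norm_num : 2 ∣ 4).trans d))
    · rw [hgcd, Nat.div_one, hF] at d
      have h2 : Odd (2 ^ n + 1) := ((Nat.even_pow).2 ⟨even_two, by omega⟩).add_one
      exact (Nat.not_even_iff_odd.2 h2) (even_iff_two_dvd.2 ((by norm_num : 2 ∣ 4).trans d))
  | icosahedral h hcard =>
    obtain ⟨e⟩ := h
    refine transfer e fun S hS hS' => ?_
    rcases (inferInstance : IsSimpleGroup (alternatingGroup (Fin 5))).eq_bot_or_eq_top_of_normal S hS with e' | e'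
    · obtain ⟨a, ha, b, hb, hab⟩ := hS'
      rw [e', mem_bot] at ha
      subst ha; simp at hab
    · exact e'
  | subfieldPGL K u hu hK h hcard =>
    exfalso
    apply hMtop
    refine eq_top_of_card_eq M ?_
    rw [hcard, hcardG, hsub K u hu hK]
    have : 1 ≤ 2 ^ n := Nat.one_le_two_pow
    generalize 2 ^ n = q at this
    rw [show q ^ 2 - 1 = (q + 1) * (q - 1) by rw [← Nat.sq_sub_sq, one_pow]]
    ring
  | subfieldPSL K u hu hK h hcard =>
    exfalso
    have e : 2 * Nat.card M = Nat.card PS := by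
      rw [hcard, hcardG, hsub K u hu hK]
      have : 1 ≤ 2 ^ n := Nat.one_le_two_pow
      generalize 2 ^ n = q at this
      rw [show q ^ 2 - 1 = (q + 1) * (q - 1) by rw [← Nat.sq_sub_sq, one_pow]]
      ring
    have hi : M.index = 2 := by
      have := M.card_mul_index
      rw [← e] at this
      exact Nat.eq_of_mul_eq_mul_left Nat.card_pos (this.trans (mul_comm _ _))
    rcases hsimp.eq_bot_or_eq_top_of_normal M (normal_of_index_eq_two hi) with e' | e'
    · exact hH (by
        have : H = ⊥ := le_bot_iff.1 (e' ▸ hHM)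
        rw [this]; infer_instance)
    · exact hMtop e'

/-- Let G be a finite non-abelian simple group. Every non-abelian subgroup of G is self-normalizing if and only if G is isomorphic to PSL₂(2ⁿ) for some n ≥ 2 with 2ⁿ − 1 prime (this includes the alternating group of degree 5 as PSL₂(4)). -/
theorem result {G : Type*} [Group G] [Finite G] [IsSimpleGroup G]
    (hna : ¬ IsMulCommutative G) :
    (∀ H : Subgroup G, ¬ IsMulCommutative H → Subgroup.normalizer (H : Set G) = H) ↔
    ∃ n : ℕ, 2 ≤ n ∧ (2 ^ n - 1).Prime ∧ Nonempty (G ≃* Matrix.ProjectiveSpecialLinearGroup (Fin 2) (GaloisField 2 n)) := by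
  classical
  constructor
  · intro hS
    have hca : CfsgLib.StructB.SelfNorm.CA G :=
      ⟨hS, inferInstance, hna, CfsgLib.StructB.SelfNorm.centralizer_comm hS hna⟩
    obtain ⟨T⟩ := (inferInstance : Nonempty (Sylow 2 G))
    obtain ⟨hT, hpr⟩ := hca.caHyp T
    have : Fact (Nat.Prime 2) := ⟨Nat.prime_two⟩
    obtain ⟨k, hk⟩ := IsPGroup.iff_card.1 T.2
    have hk' : Nat.card T = 2 ^ k := hk
    have h4 := hT.four_le_card
    rw [hk'] at h4 hpr
    have hk2 : 2 ≤ k := by
      by_contra hlt
      interval_cases k <;> omega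
    obtain ⟨F, hF, hFF, hcard, ⟨e⟩⟩ := hT.exists_psl
    rw [hk'] at hcard
    have : CharP F 2 := by
      obtain ⟨p, hp⟩ := CharP.exists F
      obtain ⟨j, hpp, hj⟩ := FiniteField.card F p
      have h2 : p = 2 := by
        have : p ∣ 2 ^ k := hcard ▸ hj ▸ dvd_pow_self p j.pos.ne'
        exact (Nat.prime_dvd_prime_iff_eq hpp Nat.prime_two).1 (hpp.dvd_of_dvd_pow this)
      exact h2 ▸ hp
    let _ : Algebra (ZMod 2) F := ZMod.algebra F 2
    exact ⟨k, hk2, hpr, ⟨e.trans (CfsgLib.Geom.Moebius.pslCongr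
      (GaloisField.algEquivGaloisField 2 k (by rw [Nat.card_eq_fintype_card, hcard])).toRingEquiv)⟩⟩
  · rintro ⟨n, hn, hr, ⟨e⟩⟩ H hH
    have : Fact (Nat.Prime 2) := ⟨Nat.prime_two⟩
    let _ : Fintype (GaloisField 2 n) := Fintype.ofFinite _
    have hF : Fintype.card (GaloisField 2 n) = 2 ^ n := by
      rw [← Nat.card_eq_fintype_card, GaloisField.card 2 n (by omega)]
    have h := good_psl hn hr hF (H.map e.toMonoidHom) (fun hc => hH ⟨⟨fun a b => Subtype.ext (e.injective (by
      rw [Subgroup.coe_mul, Subgroup.coe_mul, map_mul, map_mul]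
      exact congrArg Subtype.val (hc.is_comm.comm (⟨e a, mem_map_of_mem e.toMonoidHom a.2⟩ : H.map e.toMonoidHom)
        ⟨e b, mem_map_of_mem e.toMonoidHom b.2⟩)))⟩⟩)
    refine le_antisymm (fun x hx => ?_) le_normalizer
    have hm : e x ∈ normalizer ((H.map e.toMonoidHom : Subgroup _) : Set _) :=
      le_normalizer_map e.toMonoidHom ⟨x, hx, rfl⟩
    rw [h] at hm
    obtain ⟨y, hy, hyx⟩ := hm
    exact e.injective hyx ▸ hy

end Cfsg.Agent.S4073
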