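import Cfsg.Statements.S4074
import Cfsg.Agent.Lib.StructB.Ambivalent
-- import your own Cfsg.Agent.* helpers here

set_option autoImplicit false
open Cfsg

namespace Cfsg.Agent.S4074

open DihedralGroup

/-- Parity on a dihedral group of doubled odd-or-even order. -/
def parity (n : ℕ) (h : 2 ∣ n) : DihedralGroup n →* Multiplicative (ZMod 2) where
  toFun g := match g with
    | .r i => Multiplicative.ofAdd (ZMod.castHom h (ZMod 2) i)
    | .sr i => Multiplicative.ofAdd (ZMod.castHom h (ZMod 2) i)
  map_one' := by rw [DihedralGroup.one_def]; simp only [map_zero]; rfl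
  map_mul' := by
    have hn : ∀ a b : ZMod 2, b - a = a + b := by decide
    rintro (i | i) (j | j) <;> simp only [r_mul_r, r_mul_sr, sr_mul_r, sr_mul_sr, map_add, map_sub, hn, ← ofAdd_add]

/-- For n > 2, every non-abelian subgroup of the dihedral group of order 2n is self-normalizing if and only if n = 4 or n is odd. -/
theorem result (n : ℕ) (hn : 2 < n) :
    (∀ H : Subgroup (DihedralGroup n), ¬ IsMulCommutative H → Subgroup.normalizer (H : Set (DihedralGroup n)) = H) ↔
    (n = 4 ∨ Odd n) := by
  haveI : NeZero n := ⟨by omega⟩
  constructor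
  · intro h
    by_contra hc
    rw [not_or, Nat.not_odd_iff_even, even_iff_two_dvd] at hc
    obtain ⟨hn4, h2⟩ := hc
    set H := (parity n h2).ker with hH
    have hr2 : DihedralGroup.r (2 : ZMod n) ∈ H := by
      show Multiplicative.ofAdd (ZMod.castHom h2 (ZMod 2) 2) = 1
      rw [map_ofNat]; rfl
    have hs : DihedralGroup.sr (0 : ZMod n) ∈ H := by
      show Multiplicative.ofAdd (ZMod.castHom h2 (ZMod 2) 0) = 1
      rw [map_zero]; rfl
    have hne : ¬ IsMulCommutative H := by
      intro hcomm
      have := congrArg Subtype.val (hcomm.is_comm.comm (⟨_, hr2⟩ : H) ⟨_, hs⟩)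
      simp only [Subgroup.coe_mul, DihedralGroup.r_mul_sr, DihedralGroup.sr_mul_r] at this
      have h4 : ((4 : ℕ) : ZMod n) = 0 := by
        have e := DihedralGroup.sr.inj this
        push_cast
        linear_combination -e
      rw [ZMod.natCast_eq_zero_iff] at h4
      have hle := Nat.le_of_dvd (by norm_num) h4
      interval_cases n <;> omega
    have htop := h H hne
    rw [Subgroup.normalizer_eq_top] at htop
    have : DihedralGroup.r (1 : ZMod n) ∈ H := htop ▸ Subgroup.mem_top _
    have h1 : Multiplicative.ofAdd (ZMod.castHom h2 (ZMod 2) 1) = 1 := this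
    rw [map_one] at h1
    exact one_ne_zero (α := ZMod 2) (Multiplicative.ofAdd.injective h1)
  · rintro (rfl | hodd) H hne
    · have htop : H = ⊤ := by
        haveI : Fact (Nat.Prime 2) := ⟨Nat.prime_two⟩
        obtain ⟨k, hk, hcard⟩ := (Nat.dvd_prime_pow Nat.prime_two).1
          (show Nat.card H ∣ 2 ^ 3 by
            have := Subgroup.card_subgroup_dvd_card H
            rwa [DihedralGroup.nat_card] at this)
        interval_cases k
        · exact absurd (by
            haveI : Subsingleton H := (Nat.card_eq_one_iff_unique.1 (by simpa using hcard)).1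
            exact ⟨⟨fun a b => Subsingleton.elim _ _⟩⟩) hne
        · haveI : IsCyclic H := isCyclic_of_prime_card (p := 2) (by simpa using hcard)
          exact (hne inferInstance).elim
        · exact absurd (IsPGroup.isMulCommutative_of_card_eq_prime_sq (p := 2) hcard) hne
        · exact Subgroup.eq_top_of_card_eq H (by rw [hcard, DihedralGroup.nat_card]; rfl)
      rw [htop, Subgroup.normalizer_eq_top]
    · obtain ⟨i, hi⟩ : ∃ i, DihedralGroup.sr i ∈ H := by
        by_contra hnone
        push Not at hnone
        refine hne ⟨⟨?_⟩⟩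
        rintro ⟨(a | a), ha⟩ ⟨(b | b), hb⟩
        · exact Subtype.ext (by simp only [Subgroup.coe_mul, DihedralGroup.r_mul_r, add_comm])
        · exact absurd hb (hnone b)
        · exact absurd ha (hnone a)
        · exact absurd ha (hnone a)
      obtain ⟨k, hk⟩ := hodd
      have hr : ∀ j, DihedralGroup.r j ∈ Subgroup.normalizer (H : Set (DihedralGroup n)) → DihedralGroup.r j ∈ H := by
        intro j hj
        have h1 := H.mul_mem ((Subgroup.mem_normalizer_iff.1 hj _).1 hi) hi
        simp only [DihedralGroup.r_mul_sr, DihedralGroup.inv_r, DihedralGroup.sr_mul_r, DihedralGroup.sr_mul_sr] at h1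
        rw [show i - (i - j + -j) = 2 * j by ring] at h1
        have h2 := H.pow_mem h1 (k + 1)
        rw [DihedralGroup.r_pow] at h2
        have hz : ((2 * (k + 1) : ℕ) : ZMod n) = 1 := by
          rw [show 2 * (k + 1) = n + 1 by omega, Nat.cast_add, ZMod.natCast_self, zero_add, Nat.cast_one]
        push_cast at hz
        have e : (2 * j : ZMod n) * ((k + 1 : ℕ) : ZMod n) = j := by
          push_cast
          linear_combination j * hz
        rwa [e] at h2
      refine le_antisymm (fun g hg => ?_) Subgroup.le_normalizer
      rcases g with j | j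
      · exact hr j hg
      · have := hr _ (show DihedralGroup.r (i - j) ∈ Subgroup.normalizer (H : Set (DihedralGroup n)) by
          rw [← DihedralGroup.sr_mul_sr]; exact mul_mem hg (Subgroup.le_normalizer hi))
        rw [← DihedralGroup.sr_mul_sr] at this
        exact (Subgroup.mul_mem_cancel_right H hi).1 this

end Cfsg.Agent.S4074
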