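import Cfsg.Statements.S4075
-- import your own Cfsg.Agent.* helpers here

set_option autoImplicit false
open Cfsg

namespace Cfsg.Agent.S4075

/-- Let G be a finite nilpotent group. Every non-abelian subgroup of G is self-normalizing if and only if G is abelian or G is a minimal non-abelian p-group for some prime p (non-abelian of prime-power order with every proper subgroup abelian). -/
theorem result {G : Type*} [Group G] [Finite G]
    [Group.IsNilpotent G] :
    (∀ H : Subgroup G, ¬ IsMulCommutative H → Subgroup.normalizer (H : Set G) = H) ↔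
    (IsMulCommutative G ∨ (IsPrimePow (Nat.card G) ∧ ¬ IsMulCommutative G ∧ ∀ H : Subgroup G, H ≠ ⊤ → IsMulCommutative H)) := by
  classical
  constructor
  · intro h
    by_cases hab : IsMulCommutative G
    · exact Or.inl hab
    have hmin : ∀ H : Subgroup G, H ≠ ⊤ → IsMulCommutative H := by
      intro H hH
      by_contra hne
      have := normalizerCondition_of_isNilpotent H (lt_top_iff_ne_top.2 hH)
      exact this.ne (h H hne).symm
    refine Or.inr ⟨?_, hab, hmin⟩
    by_contra hpp
    refine hab ?_
    have hprop : ∀ (p : ℕ) (_ : Fact p.Prime) (P : Sylow p G), (P : Subgroup G) ≠ ⊤ := by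
      intro p hp P htop
      obtain ⟨k, hk⟩ := IsPGroup.iff_card.1 P.isPGroup'
      rw [htop, Subgroup.card_top] at hk
      rcases Nat.eq_zero_or_pos k with rfl | hkp
      · haveI : Subsingleton G := (Nat.card_eq_one_iff_unique.1 (by simpa using hk)).1
        exact hab ⟨⟨fun a b => Subsingleton.elim _ _⟩⟩
      · exact hpp (hk ▸ hp.out.isPrimePow.pow hkp.ne')
    have hcen : ∀ (p : ℕ) (_ : Fact p.Prime) (P : Sylow p G), (P : Subgroup G) ≤ Subgroup.center G := by
      intro p hp P x hx
      have hC : Subgroup.centralizer ({x} : Set G) = ⊤ := by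
        refine Subgroup.eq_top_of_card_eq _ (Nat.dvd_antisymm (Subgroup.card_subgroup_dvd_card _) ?_)
        refine (Nat.dvd_iff_prime_pow_dvd_dvd _ _).2 fun q k hq hk => ?_
        haveI : Fact q.Prime := ⟨hq⟩
        obtain ⟨Q⟩ : Nonempty (Sylow q G) := inferInstance
        refine (Q.pow_dvd_card_of_pow_dvd_card hk).trans ?_
        refine Subgroup.card_dvd_of_le fun y hy => Subgroup.mem_centralizer_singleton_iff.2 ?_
        by_cases hqp : q = p
        · subst hqp
          haveI := Sylow.normal_of_normalizerCondition normalizerCondition_of_isNilpotent P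
          haveI := Sylow.unique_of_normal P inferInstance
          rw [Subsingleton.elim Q P] at hy
          exact congrArg Subtype.val ((hmin _ (hprop q hp P)).is_comm.comm (⟨y, hy⟩ : (P : Subgroup G)) ⟨x, hx⟩)
        · have hPn : (P : Subgroup G).Normal := Sylow.normal_of_normalizerCondition normalizerCondition_of_isNilpotent P
          have hQn : (Q : Subgroup G).Normal := Sylow.normal_of_normalizerCondition normalizerCondition_of_isNilpotent Q
          exact (Subgroup.commute_of_normal_of_disjoint _ _ hQn hPn
            (IsPGroup.disjoint_of_ne q p hqp _ _ Q.isPGroup' P.isPGroup') y x hy hx).eq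
      refine Subgroup.mem_center_iff.2 fun g => ?_
      exact Subgroup.mem_centralizer_singleton_iff.1 (hC ▸ Subgroup.mem_top g)
    have htop : Subgroup.center G = ⊤ := by
      refine Subgroup.eq_top_of_card_eq _ (Nat.dvd_antisymm (Subgroup.card_subgroup_dvd_card _) ?_)
      refine (Nat.dvd_iff_prime_pow_dvd_dvd _ _).2 fun q k hq hk => ?_
      haveI : Fact q.Prime := ⟨hq⟩
      obtain ⟨Q⟩ : Nonempty (Sylow q G) := inferInstance
      exact (Q.pow_dvd_card_of_pow_dvd_card hk).trans (Subgroup.card_dvd_of_le (hcen q inferInstance Q))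
    exact ⟨⟨fun a b => Subgroup.mem_center_iff.1 (htop ▸ Subgroup.mem_top b) a⟩⟩
  · rintro (hab | ⟨-, -, hmin⟩) H hne
    · exact absurd ⟨⟨fun a b => Subtype.ext (hab.is_comm.comm a.1 b.1)⟩⟩ hne
    · have : H = ⊤ := by
        by_contra hh
        exact hne (hmin H hh)
      rw [this, Subgroup.normalizer_eq_top]

end Cfsg.Agent.S4075
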