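import Cfsg.Statements.S4080
import Mathlib
-- import your own Cfsg.Agent.* helpers here

set_option autoImplicit false
open Cfsg

namespace Cfsg.Agent.S4080

/-- An element of order `p > 3` of `GL₂(ℤ/p²)` is the identity modulo `p`. -/
theorem matrix_key {p : ℕ} [Fact p.Prime] (hp : 3 < p) (N : Matrix (Fin 2) (Fin 2) (ZMod (p ^ 2)))
    (hN : (1 + N) ^ p = 1) : ((p : ℕ) : ZMod (p ^ 2)) • N = 0 := by
  have hp' : p.Prime := Fact.out
  let f : ZMod (p ^ 2) →+* ZMod p := ZMod.castHom (dvd_pow_self p two_ne_zero) _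
  set M := f.mapMatrix N with hM
  have hMp : M ^ p = 0 := by
    have h1 : (1 + M) ^ p = 1 := by
      rw [hM, ← map_one f.mapMatrix, ← map_add, ← map_pow, hN, map_one]
    rw [add_pow_char_of_commute (p := p) (Commute.one_left M), one_pow] at h1
    exact add_eq_left.1 h1
  have hnil : IsNilpotent M.charpoly ∨ M.charpoly = Polynomial.X ^ 2 := by
    right
    have := Matrix.isNilpotent_charpoly_sub_pow_of_isNilpotent (M := M) ⟨p, hMp⟩
    have h0 := this.eq_zero
    rw [sub_eq_zero] at h0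
    simpa using h0
  have hM2 : M ^ 2 = 0 := by
    rcases hnil with h | h
    · exact absurd h.eq_zero M.charpoly_monic.ne_zero
    · have := Matrix.aeval_self_charpoly M
      rw [h] at this
      simpa using this
  have hdiv : ∀ i j, ∃ c, (N ^ 2) i j = (p : ZMod (p ^ 2)) * c := by
    intro i j
    have h1 : f ((N ^ 2) i j) = 0 := by
      have : f.mapMatrix (N ^ 2) = 0 := by rw [map_pow, ← hM, hM2]
      exact congrFun (congrFun this i) j
    obtain ⟨v, hv⟩ := ZMod.natCast_zmod_surjective ((N ^ 2) i j)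
    rw [← hv, map_natCast, ZMod.natCast_eq_zero_iff] at h1
    obtain ⟨c, hc⟩ := h1
    exact ⟨c, by rw [← hv, hc]; push_cast; ring⟩
  have hpp : (p : ZMod (p ^ 2)) * p = 0 := by
    rw [← Nat.cast_mul, ← pow_two, ZMod.natCast_self]
  have hsmul : (p : ZMod (p ^ 2)) • N ^ 2 = 0 := by
    ext i j
    obtain ⟨c, hc⟩ := hdiv i j
    rw [Matrix.smul_apply, hc, smul_eq_mul, ← mul_assoc, hpp, zero_mul, Matrix.zero_apply]
  have hN4 : N ^ 4 = 0 := by
    ext i j
    rw [show 4 = 2 + 2 from rfl, pow_add, Matrix.mul_apply, Matrix.zero_apply]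
    refine Finset.sum_eq_zero fun l _ => ?_
    obtain ⟨c, hc⟩ := hdiv i l
    obtain ⟨d, hd⟩ := hdiv l j
    rw [hc, hd, mul_mul_mul_comm, hpp, zero_mul]
  have hcast : ∀ k : ℕ, (k : Matrix (Fin 2) (Fin 2) (ZMod (p ^ 2))) = (k : ZMod (p ^ 2)) • 1 := fun (k : ℕ) => by
    rw [Nat.cast_smul_eq_nsmul, nsmul_one]
  have h := (Commute.one_right N).add_pow p
  rw [add_comm N 1, hN, ← Finset.sum_subset (s₁ := ({0, 1} : Finset ℕ)) ?_ ?_, Finset.sum_pair zero_ne_one] at h
  · simp only [one_pow, mul_one, pow_zero, pow_one, Nat.choose_zero_right, Nat.choose_one_right, Nat.cast_one] at h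
    rw [hcast, Matrix.mul_smul, mul_one] at h
    simpa using h
  · intro m hm
    simp only [Finset.mem_insert, Finset.mem_singleton] at hm
    exact Finset.mem_range.2 (by omega)
  · intro k hk hk'
    simp only [Finset.mem_insert, Finset.mem_singleton, not_or] at hk'
    rw [Finset.mem_range] at hk
    rw [one_pow, mul_one, hcast, Matrix.mul_smul, mul_one]
    rcases Nat.lt_or_ge k 4 with h4 | h4
    · obtain ⟨c, hc⟩ := hp'.dvd_choose_self (show k ≠ 0 by omega) (by omega)
      rw [hc, Nat.cast_mul, mul_comm, mul_smul, show k = 2 + (k - 2) by omega, pow_add, ← Matrix.smul_mul,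
        hsmul, zero_mul, smul_zero]
    · rw [show k = 4 + (k - 4) by omega, pow_add, hN4, zero_mul, smul_zero]

/-- Let p > 3 be a prime and L the direct product of two cyclic groups of order p². Every automorphism of L of order p fixes every element of order p of L. -/
theorem result {p : ℕ} [Fact p.Prime] (hp : 3 < p)
    (a : MulAut (Multiplicative (ZMod (p ^ 2) × ZMod (p ^ 2)))) (ha : orderOf a = p)
    (x : Multiplicative (ZMod (p ^ 2) × ZMod (p ^ 2))) (hx : orderOf x = p) : a x = x := by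
  classical
  have hp' : p.Prime := Fact.out
  haveI : NeZero (p ^ 2) := ⟨pow_ne_zero _ hp'.ne_zero⟩
  have hap : a ^ p = 1 := by
    have := pow_orderOf_eq_one a; rwa [ha] at this
  have hxp' : x ^ p = 1 := by
    have := pow_orderOf_eq_one x; rwa [hx] at this
  let e : (ZMod (p ^ 2) × ZMod (p ^ 2)) → Fin 2 → ZMod (p ^ 2) := fun v => ![v.1, v.2]
  let φ : (ZMod (p ^ 2) × ZMod (p ^ 2)) →+ (ZMod (p ^ 2) × ZMod (p ^ 2)) :=
    { toFun := fun v => Multiplicative.toAdd (a (Multiplicative.ofAdd v))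
      map_zero' := by simp
      map_add' := fun u v => by simp }
  let T : Matrix (Fin 2) (Fin 2) (ZMod (p ^ 2)) := !![(φ (1, 0)).1, (φ (0, 1)).1; (φ (1, 0)).2, (φ (0, 1)).2]
  have hφ : ∀ v : (ZMod (p ^ 2) × ZMod (p ^ 2)), φ v = Multiplicative.toAdd (a (Multiplicative.ofAdd v)) := fun v => rfl
  have hT : ∀ v : (ZMod (p ^ 2) × ZMod (p ^ 2)), e (φ v) = T.mulVec (e v) := by
    intro v
    obtain ⟨i, hi⟩ := ZMod.natCast_zmod_surjective v.1
    obtain ⟨j, hj⟩ := ZMod.natCast_zmod_surjective v.2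
    have hv : v = i • ((1, 0) : (ZMod (p ^ 2) × ZMod (p ^ 2))) + j • ((0, 1) : (ZMod (p ^ 2) × ZMod (p ^ 2))) := by
      refine Prod.ext ?_ ?_ <;> simp [hi, hj, nsmul_eq_mul]
    rw [hv, map_add, map_nsmul, map_nsmul]
    ext r
    fin_cases r <;> simp [e, T, Matrix.mulVec, dotProduct, nsmul_eq_mul, mul_comm, Prod.fst_add, Prod.snd_add, Prod.fst_mul, Prod.snd_mul, Prod.fst_natCast, Prod.snd_natCast]
  have hpow : ∀ (k : ℕ) (v : (ZMod (p ^ 2) × ZMod (p ^ 2))), (T ^ k).mulVec (e v) = e (Multiplicative.toAdd ((a ^ k) (Multiplicative.ofAdd v))) := by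
    intro k
    induction k with
    | zero => intro v; simp
    | succ k ih =>
      intro v
      rw [pow_succ T, ← Matrix.mulVec_mulVec, ← hT, ih, hφ, pow_succ a]
      rfl
  have hTp : T ^ p = 1 := by
    refine Matrix.ext fun r c => ?_
    have h : ∀ v : (ZMod (p ^ 2) × ZMod (p ^ 2)), (T ^ p).mulVec (e v) = e v := fun v => by
      rw [hpow, hap]; rfl
    fin_cases c
    · have := congrFun (h (1, 0)) r
      fin_cases r <;> simpa [e, Matrix.mulVec, dotProduct] using this
    · have := congrFun (h (0, 1)) r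
      fin_cases r <;> simpa [e, Matrix.mulVec, dotProduct] using this
  have hN := matrix_key hp (T - 1) (by rw [add_sub_cancel, hTp])
  set v := Multiplicative.toAdd x with hv
  have hxp : p • v = 0 := by
    rw [hv, ← toAdd_pow, hxp']; rfl
  have hdiv : ∀ u : ZMod (p ^ 2), p • u = 0 → ∃ w, u = (p : ZMod (p ^ 2)) * w := by
    intro u hu
    obtain ⟨i, rfl⟩ := ZMod.natCast_zmod_surjective u
    rw [nsmul_eq_mul, ← Nat.cast_mul, ZMod.natCast_eq_zero_iff, pow_two] at hu
    obtain ⟨c, hc⟩ := Nat.dvd_of_mul_dvd_mul_left hp'.pos hu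
    exact ⟨c, by rw [hc]; push_cast; ring⟩
  obtain ⟨w1, hw1⟩ := hdiv v.1 (congrArg Prod.fst hxp)
  obtain ⟨w2, hw2⟩ := hdiv v.2 (congrArg Prod.snd hxp)
  have hev : e v = (p : ZMod (p ^ 2)) • e (w1, w2) := by
    ext r; fin_cases r <;> simp [e, hw1, hw2]
  have hfix : T.mulVec (e v) = e v := by
    have : (T - 1).mulVec (e v) = 0 := by
      rw [hev, Matrix.mulVec_smul, ← Matrix.smul_mulVec, hN, Matrix.zero_mulVec]
    rwa [Matrix.sub_mulVec, Matrix.one_mulVec, sub_eq_zero] at this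
  rw [← hT, hφ] at hfix
  refine Multiplicative.toAdd.injective (Prod.ext ?_ ?_)
  · simpa [e, hv] using congrFun hfix 0
  · simpa [e, hv] using congrFun hfix 1

end Cfsg.Agent.S4080
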