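import Cfsg.Statements.S4081
import Cfsg.Agent.Lib.StructB.ThreeOrbits
import Cfsg.Agent.Lib.Char.Burnside
import Cfsg.Agent.Lib.Coprime.Abelian
import Cfsg.Agent.Lib.Solvable.HallHigman
import Cfsg.Agent.Lib.Solvable.Fitting

set_option autoImplicit false
open Cfsg
open scoped IsMulCommutative

universe u

namespace Cfsg.Agent.S4081

variable {G : Type u} [Group G] [Finite G] {p q : ℕ} [Fact p.Prime] [Fact q.Prime]

/-- Conjugation by `x` on an elementary abelian normal subgroup, as a linear map. -/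
noncomputable def actHom (P : Subgroup G) [P.Normal] [IsMulCommutative P] (x : G) : Additive P →+ Additive P :=
  MonoidHom.toAdditive ((MulAut.conjNormal x : MulAut P).toMonoidHom)

theorem actHom_iterate (P : Subgroup G) [P.Normal] [IsMulCommutative P] (x : G) (i : ℕ) (z : Additive P) :
    (((actHom P x)^[i] z).toMul : G) = x ^ i * (z.toMul : G) * (x ^ i)⁻¹ := by
  induction i with
  | zero => simp
  | succ i ih =>
    rw [Function.iterate_succ_apply']
    show x * (((actHom P x)^[i] z).toMul : G) * x⁻¹ = _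
    rw [ih, pow_succ']; group

/-- An additive endomorphism as a `ZMod p`-linear one. -/
noncomputable def linOf {p : ℕ} [NeZero p] {V : Type*} [AddCommMonoid V] [Module (ZMod p) V] (c : V →+ V) :
    Module.End (ZMod p) V where
  toFun := c
  map_add' := map_add c
  map_smul' a x := by
    obtain ⟨n, rfl⟩ : ∃ n : ℕ, (n : ZMod p) = a := ⟨a.val, ZMod.natCast_zmod_val a⟩
    rw [RingHom.id_apply, Nat.cast_smul_eq_nsmul, Nat.cast_smul_eq_nsmul, map_nsmul]

/-- An automorphism `ψ` of the kernel twisted by `k` extends to the group. -/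
theorem exists_aut_extends {P : Subgroup G} [P.Normal] {x : G}
    (hc : P.IsComplement' (Subgroup.zpowers x)) (k : ℕ) (hk : (orderOf x).Coprime k) (ψ : P ≃* P)
    (h : ∀ n : P, (ψ (MulAut.conjNormal x n) : G) = x ^ k * (ψ n : G) * (x ^ k)⁻¹) :
    ∃ Φ : MulAut G, Φ x = x ^ k ∧ ∀ n : P, Φ n = ψ n := by
  let fg : Subgroup.zpowers x →* G := (Subgroup.zpowers x).subtype.comp (powMonoidHom k)
  let fn : P →* G := P.subtype.comp ψ.toMonoidHom
  have hi : ∀ i : ℕ, ∀ n : P, (ψ (MulAut.conjNormal (x ^ i) n) : G) =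
      (x ^ k) ^ i * (ψ n : G) * ((x ^ k) ^ i)⁻¹ := by
    intro i
    induction i with
    | zero => intro n; simp
    | succ i ih =>
      intro n
      rw [pow_succ', map_mul, MulAut.mul_apply, h, ih, pow_succ']
      group
  have hsd : ∀ g : Subgroup.zpowers x,
      fn.comp ((P.normalizerMonoidHom.comp (Subgroup.inclusion (P.normalizer_eq_top ▸ le_top))) g).toMonoidHom =
        (MulAut.conj (fg g)).toMonoidHom.comp fn := by
    rintro ⟨g, hg⟩
    obtain ⟨i, rfl⟩ := (Submonoid.mem_powers_iff _ _).1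
      ((IsOfFinOrder.mem_powers_iff_mem_zpowers (isOfFinOrder_of_finite x)).2 hg)
    refine MonoidHom.ext fun n => ?_
    have := hi i n
    show (ψ _ : G) = ((x ^ i) ^ k) * (ψ n : G) * ((x ^ i) ^ k)⁻¹
    rw [← pow_mul, mul_comm, pow_mul, ← this]
    exact congrArg (fun z => ((ψ z : P) : G)) (Subtype.ext rfl)
  let e := SemidirectProduct.mulEquivSubgroup hc
  let F : G →* G := (SemidirectProduct.lift fn fg hsd).comp e.symm.toMonoidHom
  have hen : ∀ n : P, e (SemidirectProduct.inl n) = n := fun n => by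
    simp [e, SemidirectProduct.mulEquivSubgroup, SemidirectProduct.monoidHomSubgroup]
  have hex : ∀ g : Subgroup.zpowers x, e (SemidirectProduct.inr g) = g := fun g => by
    simp [e, SemidirectProduct.mulEquivSubgroup, SemidirectProduct.monoidHomSubgroup]
  have hFn : ∀ n : P, F n = ψ n := fun n => by
    show SemidirectProduct.lift fn fg hsd (e.symm (n : G)) = _
    rw [← hen, e.symm_apply_apply, SemidirectProduct.lift_inl]; rfl
  have hFx : ∀ g : Subgroup.zpowers x, F g = (g : G) ^ k := fun g => by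
    show SemidirectProduct.lift fn fg hsd (e.symm (g : G)) = _
    rw [← hex, e.symm_apply_apply, SemidirectProduct.lift_inr, hex]; rfl
  have hsur : Function.Surjective F := by
    intro g
    obtain ⟨⟨⟨a, ha⟩, ⟨b, hb⟩⟩, hab⟩ := hc.2 g
    simp only at hab
    obtain ⟨j, hj⟩ : ∃ j : ℕ, (b ^ j) ^ k = b := by
      have hbo : (orderOf b).Coprime k :=
        Nat.Coprime.coprime_dvd_left (orderOf_dvd_of_mem_zpowers hb) hk
      obtain ⟨j, hj⟩ := exists_pow_eq_self_of_coprime (x := b) hbo.symm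
      exact ⟨j, by rw [← pow_mul, mul_comm, pow_mul, hj]⟩
    refine ⟨((ψ.symm ⟨a, ha⟩ : P) : G) * b ^ j, ?_⟩
    rw [map_mul, hFn, ψ.apply_symm_apply]
    have := hFx ⟨b ^ j, Subgroup.pow_mem _ hb j⟩
    simp only at this
    rw [this, hj, hab]
  refine ⟨MulEquiv.ofBijective F (Finite.surjective_iff_bijective.1 hsur), ?_, fun n => hFn n⟩
  exact hFx ⟨x, Subgroup.mem_zpowers x⟩

omit [Fact p.Prime] [Fact q.Prime] in
theorem orderOf_smul' (a : MulAut G) (g : G) : orderOf (a • g) = orderOf g := MulEquiv.orderOf_eq a g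

omit [Fact p.Prime] [Fact q.Prime] in
theorem orbit_iff (h3 : (Set.range (orderOf : G → ℕ)).ncard = 3) :
    Nat.card (MulAction.orbitRel.Quotient (MulAut G) G) = 3 ↔
      ∀ y z : G, orderOf y = orderOf z → ∃ a : MulAut G, a y = z := by
  let f : MulAction.orbitRel.Quotient (MulAut G) G → Set.range (orderOf : G → ℕ) :=
    Quotient.lift (fun g => ⟨orderOf g, g, rfl⟩) (by
      rintro a b ⟨m, rfl⟩
      exact Subtype.ext (orderOf_smul' m b))
  have hsur : Function.Surjective f := by
    rintro ⟨_, g, rfl⟩; exact ⟨Quotient.mk'' g, rfl⟩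
  rw [← Nat.card_coe_set_eq] at h3
  constructor
  · intro h y z hyz
    have hb : Function.Bijective f := (Nat.bijective_iff_surjective_and_card f).2 ⟨hsur, h.trans h3.symm⟩
    have := hb.1 (a₁ := Quotient.mk'' y) (a₂ := Quotient.mk'' z) (Subtype.ext hyz)
    obtain ⟨m, hm⟩ : y ∈ MulAction.orbit (MulAut G) z := Quotient.exact' this
    exact ⟨m⁻¹, by rw [← hm]; exact inv_smul_smul m z⟩
  · intro h
    refine (Nat.card_eq_of_bijective f ⟨?_, hsur⟩).trans h3
    intro a b
    induction a using Quotient.inductionOn'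
    induction b using Quotient.inductionOn'
    intro hab
    obtain ⟨m, hm⟩ := h _ _ (congrArg Subtype.val hab)
    exact (Quotient.sound' (show (MulAction.orbitRel (MulAut G) G) _ _ from ⟨m, hm⟩)).symm

/-- Elements outside an elementary abelian Sylow subgroup. -/
theorem orders (hpq : p ≠ q) {P : Subgroup G} [P.Normal] (hPe : IsElementaryAbelian p P) (hi : P.index = q)
    (hno : ∀ x y : G, orderOf x = q → orderOf y = p → x * y * x⁻¹ ≠ y) (g : G) :
    (g ∈ P ∧ (g = 1 ∨ orderOf g = p)) ∨ (g ∉ P ∧ orderOf g = q) := by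
  have hp : p.Prime := Fact.out
  have hq : q.Prime := Fact.out
  have hcases : ∀ y ∈ P, y = 1 ∨ orderOf y = p := fun y hy => by
    rcases eq_or_ne y 1 with h | h
    · exact Or.inl h
    · exact Or.inr (orderOf_eq_prime (hPe.2 y hy) h)
  by_cases hg : g ∈ P
  · exact Or.inl ⟨hg, hcases g hg⟩
  refine Or.inr ⟨hg, ?_⟩
  have hgq : g ^ q ∈ P := hi ▸ P.pow_index_mem g
  rcases hcases _ hgq with h | h
  · exact orderOf_eq_prime h fun e => hg (e ▸ P.one_mem)
  exfalso
  have hd : orderOf g ∣ q * p := by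
    rw [orderOf_dvd_iff_pow_eq_one, pow_mul]; exact hPe.2 _ hgq
  have hgp : g ^ p ≠ 1 := by
    intro e
    have h2 : orderOf (g ^ q) = orderOf g := by
      rw [Nat.Coprime.orderOf_pow]
      exact Nat.Coprime.coprime_dvd_left (orderOf_dvd_of_pow_eq_one e) ((Nat.coprime_primes hp hq).2 hpq)
    have h3 : orderOf g = p := h2.symm.trans h
    have h4 : (g : G ⧸ P) = 1 := by
      rw [← orderOf_eq_one_iff]
      refine Nat.eq_one_of_dvd_coprimes ((Nat.coprime_primes hp hq).2 hpq)
        (h3 ▸ orderOf_map_dvd (QuotientGroup.mk' P) g) ?_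
      rw [← hi, Subgroup.index_eq_card]; exact orderOf_dvd_natCard _
    exact hg ((QuotientGroup.eq_one_iff g).1 h4)
  have hgpo : orderOf (g ^ p) = q := orderOf_eq_prime (by
    rw [← pow_mul, mul_comm, ← orderOf_dvd_iff_pow_eq_one]; exact hd) hgp
  refine hno (g ^ p) (g ^ q) hgpo h ?_
  rw [(Commute.pow_pow (Commute.refl g) p q).eq, mul_inv_cancel_right]

theorem range_eq (hpq : p ≠ q) {P : Subgroup G} [P.Normal] (hPe : IsElementaryAbelian p P) (hi : P.index = q)
    (hP : P ≠ ⊥) (hno : ∀ x y : G, orderOf x = q → orderOf y = p → x * y * x⁻¹ ≠ y) :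
    (Set.range (orderOf : G → ℕ)).ncard = 3 := by
  have hp : p.Prime := Fact.out
  have hq : q.Prime := Fact.out
  have : Set.range (orderOf : G → ℕ) = {1, p, q} := by
    ext n
    constructor
    · rintro ⟨g, rfl⟩
      rcases orders hpq hPe hi hno g with ⟨-, rfl | h⟩ | ⟨-, h⟩
      · simp
      · simp [h]
      · simp [h]
    · rintro (rfl | rfl | rfl)
      · exact ⟨1, orderOf_one⟩
      · obtain ⟨y, hy, hy1⟩ := P.bot_or_exists_ne_one.resolve_left hP
        exact ⟨y, orderOf_eq_prime (hPe.2 y hy) hy1⟩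
      · exact exists_prime_orderOf_dvd_card' _ (hi ▸ P.index_dvd_card)
  rw [this, Set.ncard_eq_three]
  exact ⟨1, p, q, hp.one_lt.ne, hq.one_lt.ne, hpq, rfl⟩

theorem backward (hpq : p ≠ q) {P : Subgroup G} [P.Normal] (hPe : IsElementaryAbelian p P) (hi : P.index = q)
    (hP : P ≠ ⊥) (hord : orderOf (p : ZMod q) = q - 1)
    (hno : ∀ x y : G, orderOf x = q → orderOf y = p → x * y * x⁻¹ ≠ y) :
    Nat.card (MulAction.orbitRel.Quotient (MulAut G) G) = 3 := by
  classical
  have hp : p.Prime := Fact.out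
  have hq : q.Prime := Fact.out
  rw [orbit_iff (range_eq hpq hPe hi hP hno)]
  haveI := hPe.1
  obtain ⟨x, hx⟩ := exists_prime_orderOf_dvd_card' q (hi ▸ P.index_dvd_card : q ∣ Nat.card G)
  have hxP : x ∉ P := fun h => by
    rcases (orders hpq hPe hi hno x) with ⟨-, rfl | h'⟩ | ⟨h', -⟩
    · rw [orderOf_one] at hx; exact hq.one_lt.ne hx
    · exact hpq (h'.symm.trans hx)
    · exact h' h
  obtain ⟨y0, hy0, hy01⟩ := P.bot_or_exists_ne_one.resolve_left hP
  have hPp : IsPGroup p P := fun z => ⟨1, Subtype.ext (by rw [pow_one]; exact hPe.2 z z.2)⟩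
  obtain ⟨n, hn⟩ := IsPGroup.iff_card.1 hPp
  have hc : P.IsComplement' (Subgroup.zpowers x) := by
    refine Subgroup.isComplement'_of_coprime ?_ ?_
    · rw [Nat.card_zpowers, hx, ← hi, Subgroup.card_mul_index]
    · rw [Nat.card_zpowers, hx, hn]; exact Nat.Coprime.pow_left n ((Nat.coprime_primes hp hq).2 hpq)
  letI : AddCommMonoid (Additive P) := Additive.addCommMonoid
  haveI : Module (ZMod p) (Additive P) := AddCommMonoid.zmodModule fun z => by
    show Additive.ofMul ((z.toMul) ^ p) = 0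
    rw [show (z.toMul) ^ p = 1 from Subtype.ext (hPe.2 _ z.toMul.2)]; rfl
  let T : Module.End (ZMod p) (Additive P) := linOf (actHom P x)
  have hTi : ∀ (i : ℕ) (z : Additive P), (((T ^ i) z).toMul : G) = x ^ i * (z.toMul : G) * (x ^ i)⁻¹ := by
    intro i z
    rw [Module.End.pow_apply]
    exact actHom_iterate P x i z
  have hTq : T ^ q = 1 := LinearMap.ext fun z => by
    apply Additive.toMul.injective; apply Subtype.ext
    rw [hTi, ← hx, pow_orderOf_eq_one]; simp
  have hT : ∀ v, T v = v → v = 0 := fun v hv => by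
    by_contra hne
    have h1 := hTi 1 v
    rw [pow_one, hv, pow_one] at h1
    refine hno x (v.toMul : G) hx (orderOf_eq_prime (hPe.2 _ v.toMul.2) fun e => hne ?_) h1.symm
    exact Additive.toMul.injective (Subtype.ext e)
  have hkey : ∀ v w : Additive P, v ≠ 0 → w ≠ 0 → ∀ k : ℕ, ¬ q ∣ k →
      ∃ Φ : MulAut G, Φ x = x ^ k ∧ Φ (v.toMul : G) = (w.toMul : G) := by
    intro v w hv hw k hk
    obtain ⟨f, hf, hfc, hfv⟩ := CfsgLib.StructB.exists_twisted_map hpq hord T hTq hT v w hv hw k hk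
    let ψ0 : P →* P :=
      { toFun := fun z => (f (Additive.ofMul z)).toMul
        map_one' := by rw [ofMul_one, map_zero]; rfl
        map_mul' := fun a b => by rw [ofMul_mul, map_add]; rfl }
    let ψ : P ≃* P := MulEquiv.ofBijective ψ0
      (Additive.toMul.bijective.comp (hf.comp Additive.ofMul.bijective))
    obtain ⟨Φ, h1, h2⟩ := exists_aut_extends hc k (hx ▸ (hq.coprime_iff_not_dvd.2 hk)) ψ fun z => by
      show (((f (T (Additive.ofMul z))).toMul : P) : G) = _
      rw [hfc, hTi]; rfl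
    exact ⟨Φ, h1, by rw [h2]; show (((f v).toMul : P) : G) = _; rw [hfv]⟩
  let v0 : Additive P := Additive.ofMul ⟨y0, hy0⟩
  have hv0 : v0 ≠ 0 := fun e => hy01 (congrArg Subtype.val (congrArg Additive.toMul e))
  -- every element of order q is an image of x
  have hQ : ∀ z : G, orderOf z = q → ∃ a : MulAut G, a x = z := by
    intro z hz
    obtain ⟨⟨⟨a, ha⟩, ⟨b, hb⟩⟩, hab⟩ := hc.2 z
    simp only at hab
    obtain ⟨i, rfl⟩ := (Submonoid.mem_powers_iff _ _).1
      ((IsOfFinOrder.mem_powers_iff_mem_zpowers (isOfFinOrder_of_finite x)).2 hb)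
    have hzP : z ∉ P := fun h => by
      rcases (orders hpq hPe hi hno z) with ⟨-, rfl | h'⟩ | ⟨h', -⟩
      · rw [orderOf_one] at hz; exact hq.one_lt.ne hz
      · exact hpq (h'.symm.trans hz)
      · exact h' h
    have hi' : ¬ q ∣ i := by
      rintro ⟨c, rfl⟩
      rw [pow_mul, ← hx, pow_orderOf_eq_one, one_pow, mul_one] at hab
      exact hzP (hab ▸ ha)
    obtain ⟨Φ, hΦ, -⟩ := hkey v0 v0 hv0 hv0 i hi'
    -- conjugating `x ^ i` by `P` reaches every element of the coset
    let D : P → P := fun u => u * (MulAut.conjNormal (x ^ i) u)⁻¹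
    have hD : Function.Injective D := by
      intro u1 u2 he
      by_contra hne
      have he' : MulAut.conjNormal (x ^ i) (u2⁻¹ * u1) = u2⁻¹ * u1 := by
        simp only [D] at he
        rw [map_mul, map_inv]
        calc (MulAut.conjNormal (x ^ i) u2)⁻¹ * MulAut.conjNormal (x ^ i) u1
            = u2⁻¹ * (u2 * (MulAut.conjNormal (x ^ i) u2)⁻¹) * MulAut.conjNormal (x ^ i) u1 := by group
          _ = u2⁻¹ * u1 := by rw [← he]; group
      refine hno (x ^ i) ((u2⁻¹ * u1 : P) : G) ?_ ?_ (congrArg Subtype.val he')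
      · rw [Nat.Coprime.orderOf_pow, hx]; rw [hx]; exact hq.coprime_iff_not_dvd.2 hi'
      · refine orderOf_eq_prime (hPe.2 _ (u2⁻¹ * u1).2) fun e => hne ?_
        exact (inv_mul_eq_one.1 (Subtype.ext e : u2⁻¹ * u1 = 1)).symm
    obtain ⟨u, hu⟩ := (Finite.injective_iff_surjective.1 hD) ⟨a, ha⟩
    have hu' : (u : G) * (x ^ i * (u : G) * (x ^ i)⁻¹)⁻¹ = a := congrArg Subtype.val hu
    refine ⟨MulAut.conj (u : G) * Φ, ?_⟩
    rw [MulAut.mul_apply, hΦ, MulAut.conj_apply, ← hab, ← hu']
    group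
  intro y z hyz
  rcases orders hpq hPe hi hno y with ⟨hyP, rfl | hy⟩ | ⟨-, hy⟩
  · exact ⟨1, by rw [orderOf_one, eq_comm, orderOf_eq_one_iff] at hyz; rw [hyz]; rfl⟩
  · rcases orders hpq hPe hi hno z with ⟨hzP, rfl | hz⟩ | ⟨-, hz⟩
    · exact absurd (hy.symm.trans (hyz.trans orderOf_one)) hp.one_lt.ne'
    · obtain ⟨Φ, -, hΦ⟩ := hkey (Additive.ofMul ⟨y, hyP⟩) (Additive.ofMul ⟨z, hzP⟩)
        (fun e => by
          have : y = 1 := congrArg Subtype.val (congrArg Additive.toMul e)
          rw [this, orderOf_one] at hy; exact hp.one_lt.ne hy)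
        (fun e => by
          have : z = 1 := congrArg Subtype.val (congrArg Additive.toMul e)
          rw [this, orderOf_one] at hz; exact hp.one_lt.ne hz)
        1 (Nat.Prime.not_dvd_one hq)
      exact ⟨Φ, hΦ⟩
    · exact absurd (hy.symm.trans (hyz.trans hz)) hpq
  · obtain ⟨a, ha⟩ := hQ y hy
    obtain ⟨b, hb⟩ := hQ z (hyz ▸ hy)
    exact ⟨b * a⁻¹, by rw [MulAut.mul_apply, ← ha, MulAut.inv_apply, a.symm_apply_apply, hb]⟩

theorem forward (hpq : p ≠ q) (hs : Group.IsSolvable G) (h : Nat.card (MulAction.orbitRel.Quotient (MulAut G) G) = 3)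
    (h3 : (Set.range (orderOf : G → ℕ)).ncard = 3)
    (hr : ∀ g : G, g = 1 ∨ orderOf g = p ∨ orderOf g = q)
    (hqG : q ∣ Nat.card G) (hcore : Cfsg.pCore p G ≠ ⊥) :
    ∃ n : ℕ, 1 ≤ n ∧ Nat.card G = p ^ n * q ∧
      (∀ P : Sylow p G, (P : Subgroup G).Normal ∧ Cfsg.IsElementaryAbelian p (P : Subgroup G)) ∧
      orderOf (p : ZMod q) = q - 1 ∧
      ∀ x y : G, orderOf x = q → orderOf y = p → x * y * x⁻¹ ≠ y := by
  classical
  have hp : p.Prime := Fact.out
  have hq : q.Prime := Fact.out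
  have htr := (orbit_iff h3).1 h
  set P := Cfsg.pCore p G with hPdef
  haveI hPn : P.Normal := CfsgLib.Solvable.pCore_normal p G
  have hPp := CfsgLib.Solvable.pCore_isPGroup (G := G) p
  have hinv : ∀ (a : MulAut G) (g : G), g ∈ P → a g ∈ P := fun a g hg => by
    rw [hPdef, ← CfsgLib.Solvable.map_pCore_equiv a p]
    exact ⟨g, hg, rfl⟩
  have hord : ∀ y ∈ P, y ≠ 1 → orderOf y = p := by
    intro y hy h1
    obtain ⟨j, hj⟩ := IsPGroup.iff_orderOf.1 hPp ⟨y, hy⟩
    rw [Subgroup.orderOf_mk] at hj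
    rcases hr y with h' | h' | h'
    · exact absurd h' h1
    · exact h'
    · exact absurd ((Nat.prime_dvd_prime_iff_eq hq hp).1 (hq.dvd_of_dvd_pow (h' ▸ hj ▸ dvd_rfl : q ∣ p ^ j))).symm hpq
  obtain ⟨y0, hy0, hy01⟩ := P.bot_or_exists_ne_one.resolve_left hcore
  have hmem : ∀ g : G, orderOf g = p → g ∈ P := fun g hg => by
    obtain ⟨a, ha⟩ := htr y0 g ((hord y0 hy0 hy01).trans hg.symm)
    exact ha ▸ hinv a y0 hy0
  have hPe : IsElementaryAbelian p P := by
    haveI : Nontrivial P := ⟨⟨⟨y0, hy0⟩, 1, fun e => hy01 (congrArg Subtype.val e)⟩⟩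
    haveI := hPp.center_nontrivial
    obtain ⟨⟨z, hz⟩, hz1⟩ := exists_ne (1 : Subgroup.center P)
    have hzne : (z : G) ≠ 1 := fun e => hz1 (Subtype.ext (Subtype.ext e))
    refine ⟨⟨⟨fun a b => ?_⟩⟩, fun a ha => ?_⟩
    · rcases eq_or_ne a 1 with rfl | ha1
      · simp
      obtain ⟨f, hf⟩ := htr z a ((hord z z.2 hzne).trans
        (hord a a.2 fun e => ha1 (Subtype.ext e)).symm)
      obtain ⟨b', hb'⟩ : ∃ b' : P, f b' = b :=
        ⟨⟨f.symm b, hinv f⁻¹ b b.2⟩, f.apply_symm_apply _⟩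
      apply Subtype.ext
      show (a : G) * b = b * a
      rw [← hf, ← hb', ← map_mul, ← map_mul]
      exact congrArg f (congrArg Subtype.val (Subgroup.mem_center_iff.1 hz b').symm)
    · rcases eq_or_ne a 1 with rfl | ha1
      · simp
      · rw [← hord a ha ha1, pow_orderOf_eq_one]
  have hsyl : ∀ S : Sylow p G, (S : Subgroup G) = P := by
    intro S
    refine le_antisymm (fun g hg => ?_) (CfsgLib.Solvable.pCore_le_sylow S)
    rcases hr g with rfl | h' | h'
    · exact P.one_mem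
    · exact hmem g h'
    · obtain ⟨j, hj⟩ := IsPGroup.iff_orderOf.1 S.isPGroup' ⟨g, hg⟩
      rw [Subgroup.orderOf_mk, h'] at hj
      exact absurd ((Nat.prime_dvd_prime_iff_eq hq hp).1 (hq.dvd_of_dvd_pow hj.dvd)).symm hpq
  obtain ⟨n, hn⟩ := IsPGroup.iff_card.1 hPp
  have hn1 : 1 ≤ n := Nat.one_le_iff_ne_zero.2 fun e => hcore (Subgroup.card_eq_one.1 (by rw [hn, e, pow_zero]))
  have hno : ∀ x y : G, orderOf x = q → orderOf y = p → x * y * x⁻¹ ≠ y := by
    intro x y hx hy he
    have hc : Commute x y := mul_inv_eq_iff_eq_mul.1 he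
    have ho := hc.orderOf_mul_eq_mul_orderOf_of_coprime (by rw [hx, hy]; exact (Nat.coprime_primes hq hp).2 hpq.symm)
    rw [hx, hy] at ho
    have h1 := hq.one_lt
    have h2 := hp.one_lt
    rcases hr (x * y) with h' | h' | h'
    · rw [h', orderOf_one] at ho
      exact absurd ho.symm (Nat.ne_of_gt (one_lt_mul'' h1 h2))
    · rw [h'] at ho
      exact absurd ho (Nat.ne_of_lt (lt_mul_of_one_lt_left hp.pos h1))
    · rw [h'] at ho
      exact absurd ho (Nat.ne_of_lt (lt_mul_of_one_lt_right hq.pos h2))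
  -- the index
  have hidx : P.index = q := by
    have hnd : ¬ p ∣ P.index := by
      obtain ⟨S⟩ := (inferInstance : Nonempty (Sylow p G))
      rw [← hsyl S]; exact S.not_dvd_index
    obtain ⟨j, hj⟩ : ∃ j, P.index = q ^ j := by
      refine ⟨_, Nat.eq_prime_pow_of_unique_prime_dvd Subgroup.index_ne_zero_of_finite fun {r} hr' hd => ?_⟩
      haveI : Fact r.Prime := ⟨hr'⟩
      obtain ⟨g, hg⟩ := exists_prime_orderOf_dvd_card' r (hd.trans P.index_dvd_card)
      rcases hr g with h' | h' | h'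
      · rw [h', orderOf_one] at hg; exact absurd hg.symm hr'.one_lt.ne'
      · exact absurd ((hg.symm.trans h') ▸ hd) hnd
      · exact hg.symm.trans h'
    rcases Nat.lt_or_ge j 2 with hj2 | hj2
    · rcases (show j = 0 ∨ j = 1 by omega) with rfl | rfl
      · rw [pow_zero] at hj
        have hqP := hqG
        rw [← P.card_mul_index, hj, mul_one, hn] at hqP
        exact absurd ((Nat.prime_dvd_prime_iff_eq hq hp).1 (hq.dvd_of_dvd_pow hqP)).symm hpq
      · rwa [pow_one] at hj
    exfalso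
    have hd2 : q ^ 2 ∣ Nat.card G := (pow_dvd_pow q hj2).trans (hj ▸ P.index_dvd_card)
    obtain ⟨E, hE⟩ := Sylow.exists_subgroup_card_pow_prime q hd2
    haveI : IsMulCommutative E := ⟨⟨IsPGroup.commutative_of_card_eq_prime_sq hE⟩⟩
    haveI := hPe.1
    have hEo : ∀ e : E, e ≠ 1 → orderOf (e : G) = q := by
      intro e he
      obtain ⟨i, -, hi⟩ := (Nat.dvd_prime_pow hq).1 (hE ▸ Subgroup.orderOf_dvd_natCard E e.2)
      rcases hr (e : G) with h' | h' | h'
      · exact absurd (Subtype.ext h') he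
      · rw [h'] at hi
        exact absurd ((Nat.prime_dvd_prime_iff_eq hp hq).1 (hp.dvd_of_dvd_pow hi.dvd)) hpq
      · exact h'
    have hnc : ¬ IsCyclic E := by
      intro hc
      obtain ⟨e, he⟩ := IsCyclic.exists_ofOrder_eq_natCard (α := E)
      rw [hE] at he
      have he1 : e ≠ 1 := fun e1 => by
        rw [e1, orderOf_one] at he
        exact absurd he.symm (Nat.ne_of_gt (Nat.one_lt_pow two_ne_zero hq.one_lt))
      have h2 := hEo e he1
      rw [Subgroup.orderOf_coe, he] at h2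
      nlinarith [hq.one_lt]
    haveI : Nontrivial P := ⟨⟨⟨y0, hy0⟩, 1, fun e => hy01 (congrArg Subtype.val e)⟩⟩
    obtain ⟨e, he, v, hv, hfix⟩ := CfsgLib.Coprime.exists_ne_one_fixed_of_not_isCyclic
      ((MulAut.conjNormal (H := P)).comp E.subtype)
      (by rw [hE, hn]; exact Nat.Coprime.pow 2 n ((Nat.coprime_primes hq hp).2 hpq.symm)) hnc
    exact hno (e : G) (v : G) (hEo e he) (hord v v.2 fun e1 => hv (Subtype.ext e1))
      (congrArg Subtype.val hfix)
  refine ⟨n, hn1, by rw [← P.card_mul_index, hn, hidx], fun S => ⟨by rw [hsyl]; exact hPn, by rw [hsyl]; exact hPe⟩, ?_, hno⟩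
  -- p is a primitive root
  haveI := hPe.1
  obtain ⟨x, hx⟩ := exists_prime_orderOf_dvd_card' q hqG
  have hc : P.IsComplement' (Subgroup.zpowers x) := by
    refine Subgroup.isComplement'_of_coprime ?_ ?_
    · rw [Nat.card_zpowers, hx, ← hidx, Subgroup.card_mul_index]
    · rw [Nat.card_zpowers, hx, hn]; exact Nat.Coprime.pow_left n ((Nat.coprime_primes hp hq).2 hpq)
  letI : AddCommMonoid (Additive P) := Additive.addCommMonoid
  haveI : Module (ZMod p) (Additive P) := AddCommMonoid.zmodModule fun z => by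
    show Additive.ofMul ((z.toMul) ^ p) = 0
    rw [show (z.toMul) ^ p = 1 from Subtype.ext (hPe.2 _ z.toMul.2)]; rfl
  let T : Module.End (ZMod p) (Additive P) := linOf (actHom P x)
  have hTi : ∀ (i : ℕ) (z : Additive P), (((T ^ i) z).toMul : G) = x ^ i * (z.toMul : G) * (x ^ i)⁻¹ := by
    intro i z
    rw [Module.End.pow_apply]
    exact actHom_iterate P x i z
  have hfromaut : ∀ a : MulAut G, ∃ (f : Additive P ≃ₗ[ZMod p] Additive P) (i : ℕ),
      (∀ (z : Additive P), f (T z) = (T ^ i) (f z)) ∧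
      (∀ z : Additive P, ((f z).toMul : G) = a (z.toMul : G)) ∧
      ∀ k : ℕ, a x = x ^ k → ∀ (z : Additive P), f (T z) = (T ^ k) (f z) := by
    intro a
    let f0 : Additive P →+ Additive P := MonoidHom.toAdditive
      { toFun := fun z : P => (⟨a (z : G), hinv a z z.2⟩ : P)
        map_one' := Subtype.ext (map_one a)
        map_mul' := fun z w => Subtype.ext (map_mul a (z : G) (w : G)) }
    have hf0 : Function.Bijective f0 := by
      refine Finite.injective_iff_bijective.1 fun z w hzw => ?_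
      exact Additive.toMul.injective (Subtype.ext (a.injective (congrArg Subtype.val (congrArg Additive.toMul hzw))))
    let f := LinearEquiv.ofBijective (linOf (p := p) f0) hf0
    have hf : ∀ z : Additive P, ((f z).toMul : G) = a (z.toMul : G) := fun z => rfl
    obtain ⟨⟨⟨u, hu⟩, ⟨b, hb⟩⟩, hab⟩ := hc.2 (a x)
    simp only at hab
    obtain ⟨i, rfl⟩ := (Submonoid.mem_powers_iff _ _).1
      ((IsOfFinOrder.mem_powers_iff_mem_zpowers (isOfFinOrder_of_finite x)).2 hb)
    have hcommP : ∀ r s : G, r ∈ P → s ∈ P → r * s * r⁻¹ = s := fun r s hr' hs' => by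
      rw [setLike_mul_comm hr' hs', mul_inv_cancel_right]
    have hgen : ∀ (k : ℕ) (w : G), w ∈ P → a x = w * x ^ k → ∀ z : Additive P, f (T z) = (T ^ k) (f z) := by
      intro k w hw hk z
      apply Additive.toMul.injective; apply Subtype.ext
      rw [hf, hTi, hf]
      have h1 := hTi 1 z
      rw [pow_one, pow_one] at h1
      rw [h1, map_mul, map_mul, map_inv, hk]
      have h2 := hcommP w _ hw (hPn.conj_mem _ (hinv a _ z.toMul.2) (x ^ k))
      conv_rhs => rw [← h2]
      group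
    exact ⟨f, i, hgen i u hu hab.symm, hf, fun k hk => hgen k 1 P.one_mem (by rw [one_mul, hk])⟩
  haveI : Nontrivial (Additive P) :=
    ⟨⟨Additive.ofMul ⟨y0, hy0⟩, 0, fun e => hy01 (congrArg Subtype.val (congrArg Additive.toMul e))⟩⟩
  refine CfsgLib.StructB.orderOf_eq_of_transitive (V := Additive P) hpq T ?_ ?_ ?_ ?_
  · refine LinearMap.ext fun z => ?_
    apply Additive.toMul.injective; apply Subtype.ext
    rw [hTi, ← hx, pow_orderOf_eq_one]; simp
  · intro e
    have h1 := hTi 1 (Additive.ofMul ⟨y0, hy0⟩)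
    rw [pow_one, e, Module.End.one_apply, pow_one] at h1
    exact hno x y0 hx (hord y0 hy0 hy01) h1.symm
  · intro k hk
    have hxk : orderOf (x ^ k) = q := by
      rw [Nat.Coprime.orderOf_pow, hx]; rw [hx]; exact hq.coprime_iff_not_dvd.2 hk
    obtain ⟨a, ha⟩ := htr x (x ^ k) (hx.trans hxk.symm)
    obtain ⟨f, i, -, -, hf⟩ := hfromaut a
    exact ⟨f, hf k ha⟩
  · intro v w hv hw
    have hne : ∀ z : Additive P, z ≠ 0 → orderOf (z.toMul : G) = p := fun z hz =>
      hord _ z.toMul.2 fun e => hz (Additive.toMul.injective (Subtype.ext e))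
    obtain ⟨a, ha⟩ := htr (v.toMul : G) (w.toMul : G) ((hne v hv).trans (hne w hw).symm)
    obtain ⟨f, i, hf1, hf2, -⟩ := hfromaut a
    exact ⟨f, i, hf1, Additive.toMul.injective (Subtype.ext ((hf2 v).trans ha))⟩

/-- A group of non-prime-power order has exactly 3 automorphism orbits iff #G = pⁿq with a normal elementary abelian Sylow p-subgroup on which the elements of order q act fixed-point-freely and p a primitive root mod q. -/
theorem result {G : Type*} [Group G] [Finite G] (hnpp : ¬ IsPrimePow (Nat.card G)) (hnt : Nat.card G ≠ 1) :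
    Nat.card (MulAction.orbitRel.Quotient (MulAut G) G) = 3 ↔
    ∃ (p q n : ℕ) (_ : Fact p.Prime) (_ : Fact q.Prime), p ≠ q ∧ 1 ≤ n ∧ Nat.card G = p ^ n * q ∧
      (∀ P : Sylow p G, (P : Subgroup G).Normal ∧ Cfsg.IsElementaryAbelian p (P : Subgroup G)) ∧
      orderOf (p : ZMod q) = q - 1 ∧
      ∀ x y : G, orderOf x = q → orderOf y = p → x * y * x⁻¹ ≠ y := by
  classical
  constructor
  · intro h
    obtain ⟨r, hr, hrd⟩ := Nat.exists_prime_and_dvd hnt
    obtain ⟨s, hs, hsd, hsr⟩ : ∃ s : ℕ, s.Prime ∧ s ∣ Nat.card G ∧ s ≠ r := by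
      by_contra hall
      push Not at hall
      refine hnpp (isPrimePow_nat_iff _ |>.2 ?_)
      have he := Nat.eq_prime_pow_of_unique_prime_dvd Nat.card_pos.ne' fun {d} hd hdd => hall d hd hdd
      refine ⟨r, _, hr, Nat.pos_of_ne_zero fun h0 => hnt ?_, he.symm⟩
      rw [he, h0, pow_zero]
    haveI : Fact r.Prime := ⟨hr⟩
    haveI : Fact s.Prime := ⟨hs⟩
    obtain ⟨gr, hgr⟩ := exists_prime_orderOf_dvd_card' r hrd
    obtain ⟨gs, hgs⟩ := exists_prime_orderOf_dvd_card' s hsd
    have hsub : ({1, r, s} : Set ℕ) ⊆ Set.range (orderOf : G → ℕ) := by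
      rintro n (rfl | rfl | rfl)
      exacts [⟨1, orderOf_one⟩, ⟨gr, hgr⟩, ⟨gs, hgs⟩]
    have h123 : ({1, r, s} : Set ℕ).ncard = 3 :=
      Set.ncard_eq_three.2 ⟨1, r, s, hr.one_lt.ne, hs.one_lt.ne, hsr.symm, rfl⟩
    have hle : (Set.range (orderOf : G → ℕ)).ncard ≤ 3 := by
      rw [← h, ← Nat.card_coe_set_eq]
      exact Nat.card_le_card_of_surjective
        (Quotient.lift (fun g => (⟨orderOf g, g, rfl⟩ : Set.range (orderOf : G → ℕ))) (by
          rintro a b ⟨m, rfl⟩
          exact Subtype.ext (orderOf_smul' m b)))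
        (by rintro ⟨_, g, rfl⟩; exact ⟨Quotient.mk'' g, rfl⟩)
    have heq := Set.eq_of_subset_of_ncard_le hsub (by rw [h123]; exact hle) (Set.toFinite _)
    have hrr : ∀ g : G, g = 1 ∨ orderOf g = r ∨ orderOf g = s := by
      intro g
      have hg : orderOf g ∈ ({1, r, s} : Set ℕ) := heq ▸ Set.mem_range_self g
      rcases hg with h' | h' | h'
      · exact Or.inl (orderOf_eq_one_iff.1 h')
      · exact Or.inr (Or.inl h')
      · exact Or.inr (Or.inr h')
    have h3 : (Set.range (orderOf : G → ℕ)).ncard = 3 := by rw [← heq, h123]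
    have hprimes : ∀ t : ℕ, t.Prime → t ∣ Nat.card G → t = r ∨ t = s := by
      intro t ht htd
      haveI : Fact t.Prime := ⟨ht⟩
      obtain ⟨g, hg⟩ := exists_prime_orderOf_dvd_card' t htd
      rcases hrr g with h' | h' | h'
      · rw [h', orderOf_one] at hg; exact absurd hg.symm ht.one_lt.ne'
      · exact Or.inl (hg.symm.trans h')
      · exact Or.inr (hg.symm.trans h')
    have hsolv : Group.IsSolvable G := by
      obtain ⟨a, m, hm, hcard⟩ := Nat.exists_eq_pow_mul_and_not_dvd (Nat.card_pos (α := G)).ne' r hr.ne_one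
      refine CfsgLib.Char.burnside_pq r s hr hs a m.primeFactorsList.length G (hcard.trans (congrArg (r ^ a * ·) ?_))
      refine Nat.eq_prime_pow_of_unique_prime_dvd (fun h0 => hm (by rw [h0]; exact dvd_zero r)) fun {t} ht htd => ?_
      rcases hprimes t ht (htd.trans (hcard ▸ dvd_mul_left _ _)) with h' | h'
      · exact absurd (h' ▸ htd) hm
      · exact h'
    haveI : Nontrivial G := by
      rw [← Finite.one_lt_card_iff_nontrivial]
      have := Nat.card_pos (α := G); omega
    have hF := CfsgLib.Solvable.fittingSubgroup_ne_bot (G := G)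
    rw [CfsgLib.Solvable.fittingSubgroup_eq_iSup_pCore, Ne, iSup_eq_bot, not_forall] at hF
    obtain ⟨⟨t, ht⟩, hcore⟩ := hF
    haveI : Fact t.Prime := ⟨ht⟩
    have htd : t ∣ Nat.card G := by
      obtain ⟨j, hj⟩ := IsPGroup.iff_card.1 (CfsgLib.Solvable.pCore_isPGroup (G := G) t)
      rcases Nat.eq_zero_or_pos j with rfl | hj0
      · exact absurd (Subgroup.card_eq_one.1 (hj.trans (pow_zero t))) hcore
      · exact (dvd_pow_self t hj0.ne').trans (hj ▸ Subgroup.card_subgroup_dvd_card _)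
    rcases hprimes t ht htd with rfl | rfl
    · obtain ⟨n, hn⟩ := forward (p := t) (q := s) hsr.symm hsolv h h3 hrr hsd hcore
      exact ⟨t, s, n, inferInstance, inferInstance, hsr.symm, hn⟩
    · obtain ⟨n, hn⟩ := forward (p := t) (q := r) hsr hsolv h h3
        (fun g => (hrr g).imp_right Or.symm) hrd hcore
      exact ⟨t, r, n, inferInstance, inferInstance, hsr, hn⟩
  · rintro ⟨p, q, n, hp, hq, hpq, hn, hcard, hP, hord, hno⟩
    obtain ⟨S⟩ := (inferInstance : Nonempty (Sylow p G))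
    haveI := (hP S).1
    have hSc : Nat.card (S : Subgroup G) = p ^ n := by
      rw [S.card_eq_multiplicity, hcard]
      rw [Nat.factorization_mul (pow_ne_zero _ hp.out.ne_zero) hq.out.ne_zero, Finsupp.add_apply,
        hp.out.factorization_pow, Finsupp.single_eq_same, hq.out.factorization,
        Finsupp.single_eq_of_ne hpq, add_zero]
    refine backward hpq (hP S).2 ?_ ?_ hord hno
    · have := (S : Subgroup G).card_mul_index
      rw [hSc, hcard] at this
      exact Nat.eq_of_mul_eq_mul_left (pow_pos hp.out.pos n) this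
    · intro e
      rw [e, Subgroup.card_bot] at hSc
      exact absurd hSc.symm (Nat.ne_of_gt (Nat.one_lt_pow (by omega) hp.out.one_lt))

end Cfsg.Agent.S4081
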