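import Cfsg.Statements.S4082
import Cfsg.Agent.Lib.StructB.PByCyclic

set_option autoImplicit false
open Cfsg

namespace Cfsg.Agent.S4082

open Subgroup CfsgLib.StructB.PByCyclic

/-- The hard direction, for an embedded group. -/
theorem core {G : Type*} [Group G] [Finite G] {p : ℕ} [Fact p.Prime] (hp : p ≠ 2) (P : Sylow p G)
    (hP : IsCyclic P)
    (hcond : normalizer ((P : Subgroup G) : Set G) = centralizer ((P : Subgroup G) : Set G) ∨
      ∀ Q : Subgroup G, Q ≤ P → Nat.card Q = p →
          IsMulCommutative ↥(centralizer (Q : Set G)) ∧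
          ∀ x : G, x ∈ normalizer (Q : Set G) → x ∉ centralizer (Q : Set G) →
            orderOf x = 2 ∧ ∀ c : G, c ∈ centralizer (Q : Set G) → x * c * x⁻¹ = c⁻¹)
    {H : Type*} [Group H] [Finite H] (ι : H →* G) (hι : Function.Injective ι) (S : Sylow p H)
    [(S : Subgroup H).Normal] (hq : IsCyclic (H ⧸ (S : Subgroup H)))
    (hSP : (S : Subgroup H).map ι ≤ (P : Subgroup G)) :
    IsCyclic H ∨ (∃ n : ℕ, Nonempty (H ≃* DihedralGroup (p ^ n))) := by
  have hp' : p.Prime := Fact.out
  let j : (S : Subgroup H) →* (P : Subgroup G) :=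
    (ι.comp (S : Subgroup H).subtype).codRestrict (P : Subgroup G) fun s => hSP (mem_map_of_mem _ s.2)
  have hj : Function.Injective j := fun a b h => Subtype.ext (hι (congrArg Subtype.val h))
  have hScyc : IsCyclic (S : Subgroup H) := isCyclic_of_injective j hj
  obtain ⟨⟨s, hs⟩, hsg⟩ := hScyc.exists_generator
  have hS : (S : Subgroup H) = zpowers s := le_antisymm (fun y hy => by
      obtain ⟨k, hk⟩ := mem_zpowers_iff.1 (hsg ⟨y, hy⟩)
      exact mem_zpowers_iff.2 ⟨k, congrArg Subtype.val hk⟩) (zpowers_le.2 hs)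
  have hcyclic : (∀ h : H, Commute h s) → IsCyclic H := fun h =>
    isCyclic_of_central S hScyc hq (by
      rw [hS, zpowers_le, mem_center_iff]
      exact fun g => (h g).eq)
  by_cases hall : ∀ h : H, Commute h s
  · exact Or.inl (hcyclic hall)
  push Not at hall
  obtain ⟨x, hx⟩ := hall
  have hPc : IsMulCommutative (P : Subgroup G) := hP.isMulCommutative
  have hPcomm : ∀ a ∈ (P : Subgroup G), ∀ b ∈ (P : Subgroup G), a * b = b * a := fun a ha b hb =>
    congrArg Subtype.val (hPc.is_comm.comm (⟨a, ha⟩ : (P : Subgroup G)) ⟨b, hb⟩)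
  have hsP : ι s ∈ (P : Subgroup G) := hSP (mem_map_of_mem _ hs)
  have hxsS : x * s * x⁻¹ ∈ (S : Subgroup H) := ‹(S : Subgroup H).Normal›.conj_mem s hs x
  obtain ⟨n, hn, hnx⟩ := Sylow.conj_eq_normalizer_conj_of_mem_centralizer P (ι s) (ι x)⁻¹
    (mem_centralizer_iff.2 fun a ha => hPcomm a ha _ hsP)
    (mem_centralizer_iff.2 fun a ha => hPcomm a ha _ (by
      rw [inv_inv, ← map_inv, ← map_mul, ← map_mul]; exact hSP (mem_map_of_mem _ hxsS)))
  have hnC : n ∉ centralizer ((P : Subgroup G) : Set G) := fun h => hx (hι (by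
    rw [inv_inv, mul_assoc n⁻¹, mem_centralizer_iff.1 h _ hsP, inv_mul_cancel_left] at hnx
    rw [map_mul, map_mul]
    exact mul_inv_eq_iff_eq_mul.1 hnx))
  rcases hcond with h1 | h2
  · exact absurd (h1 ▸ hn) hnC
  have hs1 : s ≠ 1 := fun h => hx (by rw [h]; exact Commute.one_right x)
  obtain ⟨k, hk⟩ := IsPGroup.iff_orderOf.1 S.2 ⟨s, hs⟩
  rw [Subgroup.orderOf_mk] at hk
  have hk0 : k ≠ 0 := fun h => hs1 (orderOf_eq_one_iff.1 (by rw [hk, h, pow_zero]))
  set q := ι (s ^ (orderOf s / p)) with hqdef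
  set Q := zpowers q with hQdef
  have hQcard : Nat.card Q = p := by
    rw [hQdef, Nat.card_zpowers, hqdef, orderOf_injective ι hι,
      orderOf_pow_orderOf_div (orderOf_pos s).ne' (hk ▸ dvd_pow_self p hk0)]
  have hQP : Q ≤ (P : Subgroup G) := by
    rw [hQdef, zpowers_le, hqdef, map_pow]; exact pow_mem hsP _
  obtain ⟨hCab, hinv⟩ := h2 Q hQP hQcard
  have hQne : ∀ y : G, (∀ a ∈ Q, y * a * y⁻¹ = a⁻¹) → y ∈ normalizer (Q : Set G) := fun y hy =>
    mem_normalizer_fintype fun a ha => by rw [SetLike.mem_coe, hy a ha]; exact inv_mem ha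
  have hPC : (P : Subgroup G) ≤ centralizer (Q : Set G) := fun a ha =>
    mem_centralizer_iff.2 fun b hb => hPcomm b (hQP hb) a ha
  -- `n` moves the subgroup of order `p`
  have hnQ : n ∉ centralizer (Q : Set G) := by
    intro h
    refine hnC (mem_centralizer_iff.2 fun a ha => ?_)
    exact congrArg Subtype.val (hCab.is_comm.comm (⟨a, hPC ha⟩ : centralizer (Q : Set G)) ⟨n, h⟩)
  have hnNQ : n ∈ normalizer (Q : Set G) := by
    refine mem_normalizer_fintype fun a ha => ?_
    rw [SetLike.mem_coe] at ha ⊢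
    have h1 : n * a * n⁻¹ ∈ (P : Subgroup G) := (mem_normalizer_iff.1 hn a).1 (hQP ha)
    obtain ⟨g, hg⟩ := hP.exists_generator
    have hQ' : ∀ b ∈ (P : Subgroup G), b ^ p = 1 → b ∈ Q := by
      intro b hb hbp
      classical
      let := Fintype.ofFinite (P : Subgroup G)
      have hsub : ((Q.subgroupOf (P : Subgroup G) : Set (P : Subgroup G))).toFinset ⊆
          Finset.univ.filter fun y : (P : Subgroup G) => y ^ p = 1 := by
        intro y hy
        rw [Set.mem_toFinset, SetLike.mem_coe, mem_subgroupOf] at hy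
        refine Finset.mem_filter.2 ⟨Finset.mem_univ _, Subtype.ext ?_⟩
        rw [coe_pow, coe_one, ← orderOf_dvd_iff_pow_eq_one]
        exact (Subgroup.orderOf_dvd_natCard Q hy).trans hQcard.dvd
      have heq := Finset.eq_of_subset_of_card_le hsub
        ((IsCyclic.card_pow_eq_one_le (α := (P : Subgroup G)) hp'.pos).trans (le_of_eq (by
          rw [Set.toFinset_card, ← Nat.card_eq_fintype_card, SetLike.coe_sort_coe,
            Nat.card_congr (subgroupOfEquivOfLe hQP).toEquiv, hQcard])))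
      have hm : (⟨b, hb⟩ : (P : Subgroup G)) ∈ Finset.univ.filter fun y : (P : Subgroup G) => y ^ p = 1 :=
        Finset.mem_filter.2 ⟨Finset.mem_univ _, Subtype.ext hbp⟩
      rw [← heq, Set.mem_toFinset, SetLike.mem_coe, mem_subgroupOf] at hm
      exact hm
    refine hQ' _ h1 ?_
    rw [conj_pow, show a ^ p = 1 by
      rw [← orderOf_dvd_iff_pow_eq_one, ← hQcard]; exact Subgroup.orderOf_dvd_natCard Q ha, mul_one,
      mul_inv_cancel]
  obtain ⟨hn2, hninv⟩ := hinv n hnNQ hnQ
  -- so `x` inverts `s`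
  have hxinv : ι x * ι s * (ι x)⁻¹ = (ι s)⁻¹ := by
    rw [inv_inv] at hnx
    rw [hnx]
    have h := hninv _ (hPC hsP)
    have h3 : n⁻¹ = n := by rw [inv_eq_iff_mul_eq_one, ← pow_two, ← hn2, pow_orderOf_eq_one]
    rw [← h, h3]
  have hxQ : ∀ a ∈ Q, ι x * a * (ι x)⁻¹ = a⁻¹ := by
    intro a ha
    obtain ⟨i, rfl⟩ := mem_zpowers_iff.1 ha
    rw [← conj_zpow, hqdef, map_pow, ← conj_pow, hxinv, inv_pow, inv_zpow]
  have hxnC : ι x ∉ centralizer (Q : Set G) := by
    intro h
    have h1 := hxQ q (mem_zpowers q)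
    rw [← mem_centralizer_iff.1 h q (mem_zpowers q), mul_inv_cancel_right] at h1
    have h2 : q ^ 2 = 1 := by rw [pow_two]; nth_rw 1 [h1]; rw [inv_mul_cancel]
    have h3 : orderOf q = p := by rw [← Nat.card_zpowers]; exact hQcard
    have h4 := orderOf_dvd_of_pow_eq_one h2
    rw [h3, Nat.prime_dvd_prime_iff_eq hp' Nat.prime_two] at h4
    exact hp h4
  obtain ⟨hx2, hxinvC⟩ := hinv (ι x) (hQne _ hxQ) hxnC
  have hxo : orderOf x = 2 := by rw [← orderOf_injective ι hι, hx2]
  -- the centralizer of `Q` in `H` is `S`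
  have hker : ∀ y : H, ι y ∈ centralizer (Q : Set G) → y ∈ (S : Subgroup H) := by
    intro y hy
    have h1 : x * y * x⁻¹ = y⁻¹ := hι (by rw [map_mul, map_mul, map_inv, map_inv]; exact hxinvC _ hy)
    have hab : IsMulCommutative (H ⧸ (S : Subgroup H)) := hq.isMulCommutative
    have h2 : (QuotientGroup.mk' (S : Subgroup H) y) ^ 2 = 1 := by
      have h := congrArg (QuotientGroup.mk' (S : Subgroup H)) h1
      rw [map_mul, map_mul, map_inv, map_inv, mul_comm' (QuotientGroup.mk' _ x) _, mul_inv_cancel_right] at h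
      rw [pow_two]; nth_rw 1 [h]; rw [inv_mul_cancel]
    have hx' : (QuotientGroup.mk' (S : Subgroup H) x) ^ 2 = 1 := by
      rw [← map_pow, ← hxo, pow_orderOf_eq_one, map_one]
    have hxS : x ∉ (S : Subgroup H) := fun h => by
      have h3 := Subgroup.orderOf_dvd_natCard (S : Subgroup H) h
      obtain ⟨l, hl⟩ := S.2.exists_card_eq
      rw [hxo, hl] at h3
      exact hp ((Nat.prime_dvd_prime_iff_eq Nat.prime_two hp').1 (Nat.prime_two.dvd_of_dvd_pow h3)).symm
    by_contra hyS
    classical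
    let := Fintype.ofFinite (H ⧸ (S : Subgroup H))
    have hle := IsCyclic.card_pow_eq_one_le (α := H ⧸ (S : Subgroup H)) two_pos
    have hsub : ({1, QuotientGroup.mk' (S : Subgroup H) x, QuotientGroup.mk' (S : Subgroup H) y} :
        Finset (H ⧸ (S : Subgroup H))) ⊆ Finset.univ.filter fun z => z ^ 2 = 1 := by
      intro z hz
      simp only [Finset.mem_insert, Finset.mem_singleton] at hz
      rcases hz with rfl | rfl | rfl <;> refine Finset.mem_filter.2 ⟨Finset.mem_univ _, ?_⟩
      · rw [one_pow]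
      · exact hx'
      · exact h2
    have hne1 : (1 : H ⧸ (S : Subgroup H)) ≠ QuotientGroup.mk' (S : Subgroup H) x := fun h =>
      hxS ((QuotientGroup.eq_one_iff x).1 h.symm)
    have hne2 : (1 : H ⧸ (S : Subgroup H)) ≠ QuotientGroup.mk' (S : Subgroup H) y := fun h =>
      hyS ((QuotientGroup.eq_one_iff y).1 h.symm)
    have hne3 : QuotientGroup.mk' (S : Subgroup H) x ≠ QuotientGroup.mk' (S : Subgroup H) y := fun h => by
      refine hxnC ?_
      have h3 : x⁻¹ * y ∈ (S : Subgroup H) := QuotientGroup.eq.1 h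
      have h4 : ι (x⁻¹ * y) ∈ centralizer (Q : Set G) := hPC (hSP (mem_map_of_mem _ h3))
      have h5 := mul_mem hy (inv_mem h4)
      rwa [← map_inv, ← map_mul, mul_inv_rev, inv_inv, mul_inv_cancel_left] at h5
    have hc3 : ({1, QuotientGroup.mk' (S : Subgroup H) x, QuotientGroup.mk' (S : Subgroup H) y} :
        Finset (H ⧸ (S : Subgroup H))).card = 3 := Finset.card_eq_three.2 ⟨_, _, _, hne1, hne2, hne3, rfl⟩
    have := Finset.card_le_card hsub
    omega
  refine Or.inr ⟨k, ?_⟩
  have hnz : NeZero (p ^ k) := ⟨pow_ne_zero _ hp'.ne_zero⟩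
  have hxs : x * s * x⁻¹ = s⁻¹ := hι (by rw [map_mul, map_mul, map_inv, map_inv]; exact hxinv)
  have hnot : x ∉ zpowers s := fun h => hxnC (hPC (hSP (mem_map_of_mem _ (hS ▸ h))))
  obtain ⟨e⟩ := CfsgLib.Invol.exists_mulEquiv_dihedral hk hxo hxs hnot
  have htop : closure ({s, x} : Set H) = ⊤ := by
    refine (eq_top_iff' _).2 fun y => ?_
    have hle : (S : Subgroup H) ≤ closure ({s, x} : Set H) := by
      rw [hS, zpowers_le]; exact subset_closure (Set.mem_insert _ _)
    have hxm : x ∈ closure ({s, x} : Set H) := subset_closure (Set.mem_insert_of_mem _ rfl)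
    by_cases hy : ι y ∈ centralizer (Q : Set G)
    · exact hle (hker y hy)
    · have hyN : ι y ∈ normalizer (Q : Set G) := by
        refine mem_normalizer_fintype fun a ha => ?_
        obtain ⟨i, rfl⟩ := mem_zpowers_iff.1 ha
        obtain ⟨l, hl⟩ := mem_zpowers_iff.1 (hS ▸ ‹(S : Subgroup H).Normal›.conj_mem s hs y : y * s * y⁻¹ ∈ zpowers s)
        rw [SetLike.mem_coe, hQdef, ← conj_zpow]
        refine zpow_mem ?_ i
        rw [hqdef, ← map_inv, ← map_mul, ← map_mul, ← conj_pow, ← hl, ← zpow_natCast (s ^ l), ← zpow_mul,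
          mul_comm l, zpow_mul, zpow_natCast, map_zpow]
        exact zpow_mem (mem_zpowers _) _
      have hxyC : ι (x * y) ∈ centralizer (Q : Set G) := by
        obtain ⟨hy2, hyinv⟩ := hinv (ι y) hyN hy
        refine mem_centralizer_iff.2 fun a ha => ?_
        have h1 := hyinv a (hPC (hQP ha))
        have h2 := hxQ a ha
        rw [map_mul]
        refine eq_comm.1 (mul_inv_eq_iff_eq_mul.1 ?_)
        calc ι x * ι y * a * (ι x * ι y)⁻¹ = ι x * (ι y * a * (ι y)⁻¹) * (ι x)⁻¹ := by group
          _ = a := by rw [h1, ← conj_inv, h2, inv_inv]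
      have := mul_mem (inv_mem hxm) (hle (hker _ hxyC))
      rwa [inv_mul_cancel_left] at this
  exact ⟨(topEquiv.symm.trans (MulEquiv.subgroupCongr htop.symm)).trans e⟩


/-- Let p be an odd prime and G a finite group with Sylow p-subgroup P. Say that G has restricted p-by-cyclic subgroups when every subgroup H of G whose Sylow p-subgroup is normal in H with cyclic quotient is itself cyclic or dihedral of order 2pⁿ for some n. Then G has restricted p-by-cyclic subgroups if and only if P is cyclic and one of the following holds: (1) N_G(P) = C_G(P); or (2) N_G(P)/C_G(P) has order 2 and, for the subgroup Q of order p of P, the centralizer C_G(Q) is abelian and every element of N_G(Q) outside C_G(Q) is an involution inverting every element of C_G(Q). -/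
theorem result {G : Type*} [Group G] [Finite G] {p : ℕ}
    [Fact p.Prime] (hp : p ≠ 2) (P : Sylow p G) :
    (∀ H : Subgroup G, (∀ S : Sylow p ↥H, (S : Subgroup ↥H).Normal) →
        (∀ (S : Sylow p ↥H) [(S : Subgroup ↥H).Normal], IsCyclic (↥H ⧸ (S : Subgroup ↥H))) →
        IsCyclic H ∨ (∃ n : ℕ, Nonempty (H ≃* DihedralGroup (p ^ n)))) ↔
    (IsCyclic P ∧
      (Subgroup.normalizer ((P : Subgroup G) : Set G) = Subgroup.centralizer ((P : Subgroup G) : Set G) ∨
       ((Subgroup.centralizer ((P : Subgroup G) : Set G)).relIndex (Subgroup.normalizer ((P : Subgroup G) : Set G)) = 2 ∧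
        ∀ Q : Subgroup G, Q ≤ P → Nat.card Q = p →
          IsMulCommutative ↥(Subgroup.centralizer (Q : Set G)) ∧
          ∀ x : G, x ∈ Subgroup.normalizer (Q : Set G) → x ∉ Subgroup.centralizer (Q : Set G) →
            orderOf x = 2 ∧ ∀ c : G, c ∈ Subgroup.centralizer (Q : Set G) → x * c * x⁻¹ = c⁻¹))) := by
  have hp' : p.Prime := Fact.out
  constructor
  · intro hall
    -- an element normalising a `p`-subgroup of order at least `p` centralises it or is an inverting involution
    have key : ∀ (Q : Subgroup G), IsPGroup p Q → ∀ x ∈ normalizer (Q : Set G), ∀ q ∈ Q, x * q ≠ q * x →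
        orderOf x = 2 ∧ x * q * x⁻¹ = q⁻¹ := by
      intro Q hQ x hx q hq hne
      obtain ⟨h1, h2⟩ := sup_zpowers hQ hx
      let x' : ↥(Q ⊔ zpowers x) := ⟨x, (le_sup_right : zpowers x ≤ _) (mem_zpowers x)⟩
      let q' : ↥(Q ⊔ zpowers x) := ⟨q, (le_sup_left : Q ≤ _) hq⟩
      have hne' : x' * q' ≠ q' * x' := fun h => hne (congrArg Subtype.val h)
      rcases hall (Q ⊔ zpowers x) h1 h2 with hc | ⟨n, ⟨f⟩⟩
      · exact absurd (hc.isMulCommutative.is_comm.comm x' q') hne'
      · have hq2 : q' ^ 2 ≠ 1 := by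
          intro h
          have h' : q ^ 2 = 1 := congrArg Subtype.val h
          obtain ⟨j, hj⟩ := hQ.exists_card_eq
          have h3 := Subgroup.orderOf_dvd_natCard Q hq
          rw [hj] at h3
          have h4 : orderOf q = 1 := by
            rcases (Nat.dvd_prime Nat.prime_two).1 (orderOf_dvd_of_pow_eq_one h') with h5 | h5
            · exact h5
            · rw [h5] at h3
              exact absurd ((Nat.prime_dvd_prime_iff_eq Nat.prime_two hp').1 (Nat.prime_two.dvd_of_dvd_pow h3)).symm hp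
          rw [orderOf_eq_one_iff] at h4
          subst h4
          exact hne (by simp)
        obtain ⟨ho, hi⟩ := dihedral_inverts f hq2 hne'
        exact ⟨by rwa [Subgroup.orderOf_mk] at ho, congrArg Subtype.val hi⟩
    have hP : IsCyclic P := by
      obtain ⟨h1, h2⟩ := sup_zpowers P.2 (one_mem (normalizer ((P : Subgroup G) : Set G)))
      have hPeq : (P : Subgroup G) ⊔ zpowers (1 : G) = P := by rw [zpowers_one_eq_bot, sup_bot_eq]
      rcases hall _ h1 h2 with hc | ⟨n, ⟨f⟩⟩
      · exact isCyclic_of_surjective (MulEquiv.subgroupCongr hPeq) (MulEquiv.subgroupCongr hPeq).surjective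
      · have h := Nat.card_congr f.toEquiv
        rw [DihedralGroup.nat_card, hPeq] at h
        obtain ⟨k, hk⟩ := P.2.exists_card_eq
        rw [hk] at h
        exact absurd ((Nat.prime_dvd_prime_iff_eq Nat.prime_two hp').1
          (Nat.prime_two.dvd_of_dvd_pow (h ▸ dvd_mul_right 2 _))).symm hp
    refine ⟨hP, or_iff_not_imp_left.2 fun hne => ?_⟩
    obtain ⟨⟨g, hg⟩, hgen⟩ := hP.exists_generator
    have hcent : ∀ y : G, y * g = g * y → y ∈ centralizer ((P : Subgroup G) : Set G) := fun y hy =>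
      mem_centralizer_iff.2 fun a ha => by
        obtain ⟨k, hk⟩ := mem_zpowers_iff.1 (hgen ⟨a, ha⟩)
        have hk' : g ^ k = a := congrArg Subtype.val hk
        exact hk' ▸ ((show Commute y g from hy).zpow_right k).eq.symm
    obtain ⟨x₀, hx₀N, hx₀C⟩ : ∃ x ∈ normalizer ((P : Subgroup G) : Set G),
        x ∉ centralizer ((P : Subgroup G) : Set G) := by
      by_contra h
      push Not at h
      exact hne (le_antisymm h (Subgroup.centralizer_le_normalizer _))
    have hmul : ∀ y ∈ normalizer ((P : Subgroup G) : Set G), y ∉ centralizer ((P : Subgroup G) : Set G) →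
        orderOf y = 2 ∧ y * g * y⁻¹ = g⁻¹ := fun y hy hyC =>
      key _ P.2 y hy g hg fun h => hyC (hcent y h)
    obtain ⟨hx₀2, hx₀g⟩ := hmul x₀ hx₀N hx₀C
    constructor
    · rw [relIndex, index_eq_two_iff]
      refine ⟨⟨x₀, hx₀N⟩, fun y => ?_⟩
      simp only [mem_subgroupOf, coe_mul]
      by_cases hy : (y : G) ∈ centralizer ((P : Subgroup G) : Set G)
      · exact Or.inr ⟨hy, fun h => hx₀C (by simpa using mul_mem (inv_mem hy) h)⟩
      · refine Or.inl ⟨hcent _ (mul_inv_eq_iff_eq_mul.1 ?_), hy⟩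
        calc (y : G) * x₀ * g * ((y : G) * x₀)⁻¹ = (y : G) * (x₀ * g * x₀⁻¹) * (y : G)⁻¹ := by group
          _ = g := by rw [hx₀g, ← conj_inv, (hmul y y.2 hy).2, inv_inv]
    · intro Q hQP hQc
      have hQp : IsPGroup p Q := P.2.to_le hQP
      have hinvol : ∀ x ∈ normalizer (Q : Set G), x ∉ centralizer (Q : Set G) → orderOf x = 2 := by
        intro x hx hxC
        obtain ⟨q, hq, hxq⟩ : ∃ q ∈ Q, x * q ≠ q * x := by
          by_contra h
          push Not at h
          exact hxC (mem_centralizer_iff.2 fun a ha => (h a ha).symm)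
        exact (key Q hQp x hx q hq hxq).1
      have hinvert : ∀ x ∈ normalizer (Q : Set G), x ∉ centralizer (Q : Set G) →
          ∀ c ∈ centralizer (Q : Set G), x * c * x⁻¹ = c⁻¹ := by
        intro x hx hxC c hc
        have hx2 := hinvol x hx hxC
        have hxc := hinvol (x * c) (mul_mem hx (Subgroup.centralizer_le_normalizer _ hc))
          (fun h => hxC (by simpa using mul_mem h (inv_mem hc)))
        have hxx : x⁻¹ = x := by rw [inv_eq_iff_mul_eq_one, ← pow_two, ← hx2, pow_orderOf_eq_one]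
        have h1 : x * c * (x * c) = 1 := by rw [← pow_two, ← hxc, pow_orderOf_eq_one]
        rw [hxx, eq_inv_iff_mul_eq_one, ← h1]
        group
      -- some element inverts
      have hPab := hP.isMulCommutative
      have hx₀P : ∀ a ∈ (P : Subgroup G), x₀ * a * x₀⁻¹ = a⁻¹ := by
        intro a ha
        obtain ⟨k, hk⟩ := mem_zpowers_iff.1 (hgen ⟨a, ha⟩)
        have hk' : g ^ k = a := congrArg Subtype.val hk
        rw [← hk', ← conj_zpow, hx₀g, inv_zpow]
      have hx₀Q : x₀ ∈ normalizer (Q : Set G) := mem_normalizer_fintype fun a ha => by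
        rw [SetLike.mem_coe, hx₀P a (hQP ha)]; exact inv_mem ha
      have hx₀QC : x₀ ∉ centralizer (Q : Set G) := by
        intro h
        obtain ⟨q, hq⟩ := exists_prime_orderOf_dvd_card' (G := Q) p (hQc ▸ dvd_rfl)
        have h1 := hx₀P q (hQP q.2)
        rw [← mem_centralizer_iff.1 h q q.2, mul_inv_cancel_right] at h1
        have h2 : (q : G) ^ 2 = 1 := by rw [pow_two]; nth_rw 1 [h1]; rw [inv_mul_cancel]
        have h3 := orderOf_dvd_of_pow_eq_one h2
        rw [Subgroup.orderOf_coe, hq, Nat.prime_dvd_prime_iff_eq hp' Nat.prime_two] at h3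
        exact hp h3
      refine ⟨⟨⟨fun c d => Subtype.ext ?_⟩⟩, fun x hx hxC => ⟨hinvol x hx hxC, hinvert x hx hxC⟩⟩
      have h1 := hinvert x₀ hx₀Q hx₀QC _ (mul_mem c.2 d.2)
      rw [show x₀ * ((c : G) * d) * x₀⁻¹ = (x₀ * c * x₀⁻¹) * (x₀ * d * x₀⁻¹) by group,
        hinvert x₀ hx₀Q hx₀QC _ c.2, hinvert x₀ hx₀Q hx₀QC _ d.2, ← mul_inv_rev, inv_inj] at h1
      exact h1.symm
  · rintro ⟨hP, hcond⟩ H hn hq
    obtain ⟨S⟩ := (inferInstance : Nonempty (Sylow p H))
    have := hn S
    obtain ⟨ι, hι, hSP⟩ := exists_embedding P H S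
    exact core hp P hP (hcond.imp id And.right) ι hι S (hq S) hSP

end Cfsg.Agent.S4082
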