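import Cfsg.Statements.S4083
import Cfsg.Agent.S0228
import Cfsg.Agent.Lib.Coprime.RestrictedPByCyclic
import Cfsg.Agent.Lib.Invol.Dihedral

set_option autoImplicit false
open Cfsg
open CfsgLib.PByCyclic

namespace Cfsg.Agent.S4083

open scoped Classical

/-- A homomorphism image of odd order in the automorphism group of a cyclic 2-group is trivial:
an element normalizing a cyclic 2-subgroup with an odd power centralizing it centralizes it. -/
theorem commute_of_odd {G : Type*} [Group G] [Finite G] (R : Subgroup G) [R.Normal]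
    (hR : IsCyclic R) (h2 : IsPGroup 2 R) {h : G} {m : ℕ} (hm : Odd m)
    (hhm : ∀ r ∈ R, h ^ m * r * (h ^ m)⁻¹ = r) {r : G} (hr : r ∈ R) : h * r * h⁻¹ = r := by
  let f : G →* MulAut R := MulAut.conjNormal
  have h1 : f h ^ m = 1 := by
    rw [← map_pow]
    ext x
    simp only [f, MulAut.conjNormal_apply, MulAut.one_apply]
    exact hhm x x.2
  have h2' : f h ^ Nat.totient (Nat.card R) = 1 := by
    rw [← IsCyclic.card_mulAut]; exact pow_card_eq_one'
  obtain ⟨a, ha⟩ := IsPGroup.iff_card.1 h2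
  have h3 : f h = 1 := by
    have hcop : Nat.Coprime m (Nat.totient (Nat.card R)) := by
      rw [ha]
      rcases Nat.eq_zero_or_pos a with rfl | hpos
      · simp
      · rw [Nat.totient_prime_pow Nat.prime_two hpos]
        simp only [show 2 - 1 = 1 from rfl, mul_one]
        exact Nat.Coprime.pow_right _ (Nat.coprime_two_right.2 hm)
    have h4 : orderOf (f h) ∣ Nat.gcd m (Nat.totient (Nat.card R)) :=
      Nat.dvd_gcd (orderOf_dvd_of_pow_eq_one h1) (orderOf_dvd_of_pow_eq_one h2')
    rw [hcop.gcd_eq_one, Nat.dvd_one, orderOf_eq_one_iff] at h4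
    exact h4
  have h5 := congrArg (fun F : MulAut R => ((F ⟨r, hr⟩ : R) : G)) h3
  simpa only [f, MulAut.conjNormal_apply, MulAut.one_apply] using h5

section forward

variable {G : Type*} [Group G] [Finite G]

theorem forward (P : Sylow 2 G)
    (hyp : ∀ H : Subgroup G, (∀ S : Sylow 2 ↥H, (S : Subgroup ↥H).Normal) →
        (∀ (S : Sylow 2 ↥H) [(S : Subgroup ↥H).Normal], IsCyclic (↥H ⧸ (S : Subgroup ↥H))) →
        IsCyclic H ∨ (∃ n : ℕ, Nonempty (H ≃* DihedralGroup (2 ^ n))) ∨ Nonempty (H ≃* alternatingGroup (Fin 4))) :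
    (IsCyclic P ∨
      ((∃ n : ℕ, 1 ≤ n ∧ Nonempty ((P : Subgroup G) ≃* DihedralGroup (2 ^ n))) ∧
        ∀ K : Subgroup G, K ≤ P → Nat.card K = 4 → (∀ k ∈ K, k ^ 2 = 1) → Subgroup.centralizer (K : Set G) = K)) := by
  have hPp : IsPGroup 2 (P : Subgroup G) := P.2
  by_cases hcyc : IsCyclic P
  · exact Or.inl hcyc
  right
  have h1 : (P : Subgroup G) ⊔ Subgroup.zpowers 1 = P := by simp
  refine ⟨?_, ?_⟩
  · rcases hyp ((P : Subgroup G) ⊔ Subgroup.zpowers 1)
      (fun S => (sup_zpowers_hyp _ hPp (one_mem _) S).1)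
      (fun S => (sup_zpowers_hyp _ hPp (one_mem _) S).2) with hc | ⟨n, ⟨e⟩⟩ | ⟨⟨e⟩⟩
    · exact absurd ((MulEquiv.subgroupCongr h1).isCyclic.1 hc) hcyc
    · refine ⟨n, ?_, ⟨(MulEquiv.subgroupCongr h1).symm.trans e⟩⟩
      by_contra hn
      obtain rfl : n = 0 := by omega
      apply hcyc
      refine ((MulEquiv.subgroupCongr h1).symm.trans e).isCyclic.2 ?_
      exact DihedralGroup.isCyclic_iff.2 (pow_zero 2)
    · exfalso
      have e' := (MulEquiv.subgroupCongr h1).symm.trans e
      have h12 : Nat.card (P : Subgroup G) = 12 := by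
        rw [Nat.card_congr e'.toEquiv, nat_card_alternatingGroup, Nat.card_fin]; rfl
      obtain ⟨a, ha⟩ := IsPGroup.iff_card.1 hPp
      rw [h12] at ha
      have h3 : 3 ∣ 2 ^ a := ha ▸ (by norm_num)
      exact absurd (Nat.prime_three.dvd_of_dvd_pow h3) (by norm_num)
  · intro K _ hK4 hK2
    have hcomm : ∀ a ∈ K, ∀ b ∈ K, a * b = b * a := by
      intro a ha b hb
      have hinv : ∀ k ∈ K, k⁻¹ = k := fun k hk => by
        rw [inv_eq_iff_mul_eq_one, ← pow_two, hK2 k hk]
      rw [← hinv _ (mul_mem ha hb), mul_inv_rev, hinv a ha, hinv b hb]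
    refine le_antisymm ?_ fun a ha => Subgroup.mem_centralizer_iff.2 fun b hb => hcomm b hb a ha
    intro x hx
    rw [Subgroup.mem_centralizer_iff] at hx
    have hxN : x ∈ Subgroup.normalizer (K : Set G) :=
      Subgroup.centralizer_le_normalizer _ (Subgroup.mem_centralizer_iff.2 hx)
    have hKp : IsPGroup 2 K := IsPGroup.of_card (n := 2) (by rw [hK4]; norm_num)
    set H := K ⊔ Subgroup.zpowers x with hH
    have hHc : IsMulCommutative H := by
      have hdec : ∀ w : H, ∃ a ∈ K, ∃ k : ℤ, a * x ^ k = (w : G) := by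
        intro w
        obtain ⟨a, ha, _, ⟨k, rfl⟩, hw⟩ :=
          (CfsgLib.Coprime.mem_sup_of_le_normalizer (Subgroup.zpowers_le.2 hxN)).1 w.2
        exact ⟨a, ha, k, hw⟩
      refine ⟨⟨fun u v => Subtype.ext ?_⟩⟩
      obtain ⟨a, ha, k, hu⟩ := hdec u
      obtain ⟨b, hb, l, hv⟩ := hdec v
      have c1 : Commute a (x ^ l) := Commute.zpow_right (hx a ha) l
      have c2 : Commute (x ^ k) b := Commute.zpow_left (hx b hb).symm k
      have c3 : Commute (x ^ k) (x ^ l) := Commute.zpow_zpow (Commute.refl x) k l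
      have c : Commute (a * x ^ k) (b * x ^ l) :=
        Commute.mul_left (Commute.mul_right (hcomm a ha b hb) c1) (Commute.mul_right c2 c3)
      simp only [Subgroup.coe_mul, ← hu, ← hv]
      exact c.eq
    have hKH : K ≤ H := le_sup_left
    have hnc : ¬ IsCyclic H := by
      intro hc
      have hKc : IsCyclic K :=
        isCyclic_of_injective (Subgroup.inclusion hKH) (Subgroup.inclusion_injective hKH)
      obtain ⟨k, hk⟩ := hKc.exists_ofOrder_eq_natCard
      rw [hK4] at hk
      have : orderOf k ∣ 2 := orderOf_dvd_of_pow_eq_one (Subtype.ext (hK2 k k.2))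
      rw [hk] at this
      norm_num at this
    have hHK : H = K := by
      rcases hyp H (fun S => (sup_zpowers_hyp K hKp hxN S).1)
        (fun S => (sup_zpowers_hyp K hKp hxN S).2) with hc | ⟨n, ⟨e⟩⟩ | ⟨⟨e⟩⟩
      · exact absurd hc hnc
      · have hD : IsMulCommutative (DihedralGroup (2 ^ n)) := ⟨⟨fun u v => by
          obtain ⟨u, rfl⟩ := e.surjective u
          obtain ⟨v, rfl⟩ := e.surjective v
          rw [← map_mul, ← map_mul, hHc.is_comm.comm]⟩⟩
        refine (Subgroup.eq_of_le_of_card_ge hKH ?_).symm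
        rw [hK4, Nat.card_congr e.toEquiv, DihedralGroup.nat_card]
        rcases DihedralGroup.commutative_iff.1 hD with h | h <;> omega
      · exfalso
        have hA : IsMulCommutative (alternatingGroup (Fin 4)) := ⟨⟨fun u v => by
          obtain ⟨u, rfl⟩ := e.surjective u
          obtain ⟨v, rfl⟩ := e.surjective v
          rw [← map_mul, ← map_mul, hHc.is_comm.comm]⟩⟩
        have hne : ∃ u v : alternatingGroup (Fin 4), u * v ≠ v * u := by decide
        obtain ⟨u, v, huv⟩ := hne
        exact huv (hA.is_comm.comm u v)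
    rw [← hHK]
    exact Subgroup.mem_sup_right (Subgroup.mem_zpowers x)

end forward

section backward

/-- The abstract core: `H` has normal Sylow 2-subgroup `S` with cyclic quotient, and `S` embeds in
a dihedral group, with self-centralizing four subgroups. -/
theorem core {H : Type*} [Group H] [Finite H] (S : Sylow 2 H) [(S : Subgroup H).Normal]
    (hQ : IsCyclic (H ⧸ (S : Subgroup H))) (hnc : ¬ IsCyclic (S : Subgroup H)) {n : ℕ}
    (ψ : (S : Subgroup H) →* DihedralGroup n) (hψ : Function.Injective ψ)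
    (hK : ∀ z t : H, z ∈ (S : Subgroup H) → t ∈ (S : Subgroup H) → orderOf z = 2 → orderOf t = 2 →
      Commute z t → z ≠ t → ∀ x : H, Commute x z → Commute x t → x * x = 1) :
    (∃ k : ℕ, Nonempty (H ≃* DihedralGroup (2 ^ k))) ∨ Nonempty (H ≃* alternatingGroup (Fin 4)) := by
  have hS2 : IsPGroup 2 (S : Subgroup H) := S.2
  -- the rotations of `S`
  let R0 : Subgroup (S : Subgroup H) := (Subgroup.zpowers (DihedralGroup.r 1)).comap ψ
  have hrot : ∀ v : (S : Subgroup H), v ∈ R0 ↔ ∃ i, ψ v = DihedralGroup.r i := by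
    intro v
    simp only [R0, Subgroup.mem_comap, Subgroup.mem_zpowers_iff, DihedralGroup.r_one_zpow]
    constructor
    · rintro ⟨k, hk⟩; exact ⟨_, hk.symm⟩
    · rintro ⟨i, hi⟩
      obtain ⟨k, rfl⟩ := ZMod.intCast_surjective i
      exact ⟨k, hi.symm⟩
  have hR0c : IsCyclic R0 :=
    isCyclic_of_injective ((ψ.comp R0.subtype).codRestrict (Subgroup.zpowers (DihedralGroup.r 1))
      fun v => v.2) fun a b h => Subtype.ext (hψ (congrArg Subtype.val h))
  obtain ⟨r0, hr0⟩ := hR0c.exists_generator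
  set r : H := ((r0 : (S : Subgroup H)) : H) with hrdef
  have hrS : r ∈ (S : Subgroup H) := (r0 : (S : Subgroup H)).2
  obtain ⟨b, hb⟩ := (hS2.to_le (Subgroup.zpowers_le.2 hrS)).exists_card_eq
  rw [Nat.card_zpowers] at hb
  have hmemR : ∀ v (hv : v ∈ (S : Subgroup H)),
      v ∈ Subgroup.zpowers r ↔ ∃ i, ψ ⟨v, hv⟩ = DihedralGroup.r i := by
    intro v hv
    rw [← hrot]
    constructor
    · rintro ⟨k, hk⟩
      have : (⟨v, hv⟩ : (S : Subgroup H)) = (r0 : (S : Subgroup H)) ^ k := Subtype.ext hk.symm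
      rw [this]; exact zpow_mem r0.2 k
    · intro h
      obtain ⟨k, hk⟩ := hr0 ⟨_, h⟩
      exact ⟨k, congrArg (fun w : R0 => ((w : (S : Subgroup H)) : H)) hk⟩
  have hrefl : ∀ v ∈ (S : Subgroup H), v ∉ Subgroup.zpowers r →
      orderOf v = 2 ∧ v * r * v⁻¹ = r⁻¹ := by
    intro v hv hvR
    rw [hmemR v hv] at hvR
    rcases hd : ψ ⟨v, hv⟩ with i | i
    · exact absurd ⟨i, hd⟩ hvR
    obtain ⟨j, hj⟩ := (hmemR r hrS).1 (Subgroup.mem_zpowers r)
    refine ⟨?_, ?_⟩
    · rw [← Subgroup.orderOf_mk v hv, ← orderOf_injective ψ hψ, hd, DihedralGroup.orderOf_sr]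
    · have h : ψ (⟨v, hv⟩ * ⟨r, hrS⟩ * ⟨v, hv⟩⁻¹) = ψ (⟨r, hrS⟩⁻¹) := by
        rw [map_mul, map_mul, map_inv, map_inv, hd, hj]
        simp [DihedralGroup.inv_r, DihedralGroup.inv_sr]
      exact congrArg Subtype.val (hψ h)
  obtain ⟨t, htS, htR⟩ : ∃ t ∈ (S : Subgroup H), t ∉ Subgroup.zpowers r := by
    by_contra h
    push Not at h
    apply hnc
    exact isCyclic_of_injective (Subgroup.inclusion (show (S : Subgroup H) ≤ Subgroup.zpowers r from h))
      (Subgroup.inclusion_injective _)
  obtain ⟨ht2, htr⟩ := hrefl t htS htR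
  have hpair : ∀ v ∈ (S : Subgroup H), v ∈ Subgroup.zpowers r ∨ t * v ∈ Subgroup.zpowers r := by
    intro v hv
    by_cases hvR : v ∈ Subgroup.zpowers r
    · exact Or.inl hvR
    right
    rw [hmemR _ (mul_mem htS hv)]
    rw [hmemR t htS] at htR
    rw [hmemR v hv] at hvR
    rcases hd : ψ ⟨t, htS⟩ with i | i
    · exact absurd ⟨i, hd⟩ htR
    rcases hd' : ψ ⟨v, hv⟩ with j | j
    · exact absurd ⟨j, hd'⟩ hvR
    exact ⟨j - i, by
      rw [show (⟨t * v, mul_mem htS hv⟩ : (S : Subgroup H)) = ⟨t, htS⟩ * ⟨v, hv⟩ from rfl,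
        map_mul, hd, hd', DihedralGroup.sr_mul_sr]⟩
  have htinv : t⁻¹ = t := by
    rw [inv_eq_iff_mul_eq_one, ← pow_two, ← ht2, pow_orderOf_eq_one]
  have hSclo : (S : Subgroup H) = Subgroup.closure {r, t} := by
    refine le_antisymm (fun v hv => ?_) ?_
    · have hr' : Subgroup.zpowers r ≤ Subgroup.closure {r, t} :=
        Subgroup.zpowers_le.2 (Subgroup.subset_closure (by simp))
      rcases hpair v hv with h | h
      · exact hr' h
      · rw [show v = t⁻¹ * (t * v) by group]
        exact mul_mem (inv_mem (Subgroup.subset_closure (by simp))) (hr' h)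
    · rw [Subgroup.closure_le]
      rintro z (rfl | rfl)
      · exact hrS
      · exact htS
  have hb0 : 0 < b := by
    by_contra h
    obtain rfl : b = 0 := by omega
    rw [pow_zero, orderOf_eq_one_iff] at hb
    apply hnc
    have hle : (S : Subgroup H) ≤ Subgroup.zpowers t := by
      intro v hv
      have h1 : Subgroup.zpowers r = ⊥ := by rw [hb]; exact Subgroup.zpowers_one_eq_bot
      rcases hpair v hv with h | h
      · rw [h1, Subgroup.mem_bot] at h; rw [h]; exact one_mem _
      · rw [h1, Subgroup.mem_bot] at h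
        rw [eq_inv_of_mul_eq_one_right h]; exact inv_mem (Subgroup.mem_zpowers t)
    exact isCyclic_of_injective (Subgroup.inclusion hle) (Subgroup.inclusion_injective hle)
  -- the central involution
  set z := r ^ (orderOf r / 2) with hz
  have hz2 : orderOf z = 2 := orderOf_pow_orderOf_div (orderOf_pos r).ne' (by
    rw [hb]; exact dvd_pow_self 2 (by omega))
  have hzR : z ∈ Subgroup.zpowers r := Subgroup.npow_mem_zpowers r _
  have hzS : z ∈ (S : Subgroup H) := Subgroup.zpowers_le.2 hrS hzR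
  have hzt : Commute z t := by
    have h1 : t * z * t⁻¹ = z := by
      rw [hz, ← conj_pow, htr, inv_pow, inv_eq_iff_mul_eq_one, ← pow_two, ← hz, ← hz2,
        pow_orderOf_eq_one]
    exact (mul_inv_eq_iff_eq_mul.1 h1).symm
  have hzne : z ≠ t := fun h => htR (h ▸ hzR)
  have hK' : ∀ x : H, Commute x z → Commute x t → x * x = 1 :=
    hK z t hzS htS hz2 ht2 hzt hzne
  obtain ⟨h, hh⟩ : ∃ h : H, Subgroup.zpowers (h : H ⧸ (S : Subgroup H)) = ⊤ := by
    obtain ⟨w, hw⟩ := isCyclic_iff_exists_zpowers_eq_top.1 hQ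
    obtain ⟨h, rfl⟩ := QuotientGroup.mk_surjective w
    exact ⟨h, hw⟩
  set m := Nat.card (H ⧸ (S : Subgroup H)) with hm
  have hmodd : Odd m := by
    rw [Nat.odd_iff, ← Nat.two_dvd_ne_zero, hm, ← Subgroup.index_eq_card]
    exact S.not_dvd_index
  have hmdvd : m ∣ orderOf h := by
    have h1 : orderOf (h : H ⧸ (S : Subgroup H)) = m := by
      rw [← Nat.card_zpowers, hh, Subgroup.card_top]
    exact h1 ▸ orderOf_map_dvd (QuotientGroup.mk' (S : Subgroup H)) h
  set u := h ^ (orderOf h / m) with hu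
  have huo : orderOf u = m := orderOf_pow_orderOf_div (orderOf_pos h).ne' hmdvd
  have hum : u ^ m = 1 := by rw [← huo]; exact pow_orderOf_eq_one u
  by_cases hm1 : m = 1
  · left
    have htop : (S : Subgroup H) = ⊤ :=
      Subgroup.index_eq_one.1 (by rw [Subgroup.index_eq_card, ← hm, hm1])
    have : NeZero (2 ^ b) := ⟨by positivity⟩
    obtain ⟨e⟩ := CfsgLib.Invol.exists_mulEquiv_dihedral hb ht2 htr htR
    exact ⟨b, ⟨(Subgroup.topEquiv.symm.trans
      (MulEquiv.subgroupCongr (htop.symm.trans hSclo))).trans e⟩⟩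
  have hmge : 3 ≤ m := by
    rcases hmodd with ⟨k, hk⟩; omega
  have hu1 : ∀ w : H, w * w = 1 → u ≠ w := by
    intro w hw huw
    have h1 : orderOf u ∣ 2 := orderOf_dvd_of_pow_eq_one (by rw [pow_two, huw]; exact hw)
    rw [huo] at h1
    have := Nat.le_of_dvd (by norm_num) h1
    omega
  by_cases hb2 : 2 ≤ b
  · exfalso
    have hRn : (Subgroup.zpowers r).Normal := by
      constructor
      intro v hv g
      obtain ⟨k, rfl⟩ := hv
      have hgr : g * r * g⁻¹ ∈ Subgroup.zpowers r := by
        by_contra hnot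
        have h1 := (hrefl _ (‹(S : Subgroup H).Normal›.conj_mem r hrS g) hnot).1
        have h2 : orderOf (g * r * g⁻¹) = orderOf r :=
          ((SemiconjBy.conj_mk g r).orderOf_eq g).symm
        rw [h2, hb] at h1
        have : 2 ^ 2 ≤ 2 ^ b := Nat.pow_le_pow_right (by norm_num) hb2
        omega
      simp only
      rw [← conj_zpow]
      exact zpow_mem hgr k
    have hur : u * r * u⁻¹ = r :=
      commute_of_odd (Subgroup.zpowers r) inferInstance (hS2.to_le (Subgroup.zpowers_le.2 hrS))
        hmodd (fun x _ => by rw [hum]; group) (Subgroup.mem_zpowers r)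
    obtain ⟨i, hi⟩ : ∃ i : ℤ, u * t * u⁻¹ = t * r ^ i := by
      rcases hpair _ (‹(S : Subgroup H).Normal›.conj_mem t htS u) with h' | h'
      · exfalso
        apply htR
        obtain ⟨k, hk⟩ := h'
        refine ⟨k, ?_⟩
        simp only at hk ⊢
        have h1 : u * r ^ k * u⁻¹ = r ^ k := by rw [← conj_zpow, hur]
        have h2 : u * t * u⁻¹ = u * r ^ k * u⁻¹ := by rw [h1, hk]
        exact (mul_left_cancel (mul_right_cancel h2)).symm
      · obtain ⟨k, hk⟩ := h'
        refine ⟨k, ?_⟩
        simp only at hk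
        rw [hk, ← mul_assoc, ← pow_two, ← ht2, pow_orderOf_eq_one, one_mul]
    have hiter : ∀ k : ℕ, u ^ k * t * (u ^ k)⁻¹ = t * r ^ (i * k) := by
      intro k
      induction k with
      | zero => simp
      | succ k ih =>
        rw [pow_succ', mul_inv_rev,
          show u * u ^ k * t * ((u ^ k)⁻¹ * u⁻¹) = u * (u ^ k * t * (u ^ k)⁻¹) * u⁻¹ by group, ih,
          show u * (t * r ^ (i * k)) * u⁻¹ = (u * t * u⁻¹) * (u * r ^ (i * k) * u⁻¹) by group,
          hi, ← conj_zpow, hur, mul_assoc, ← zpow_add]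
        congr 2; push_cast; ring
    have h1 := hiter m
    rw [hum] at h1
    simp only [one_mul, inv_one, mul_one, left_eq_mul] at h1
    have h2 : r ^ i = 1 := by
      rw [← orderOf_dvd_iff_zpow_eq_one] at h1 ⊢
      refine (Int.isCoprime_iff_gcd_eq_one.2 ?_).dvd_of_dvd_mul_right h1
      rw [Int.gcd_natCast_natCast, hb]
      exact Nat.Coprime.pow_left _ (Nat.coprime_two_left.2 hmodd)
    rw [h2, mul_one] at hi
    have hcr : Commute u r := mul_inv_eq_iff_eq_mul.1 hur
    exact hu1 u (hK' u (hz ▸ hcr.pow_right _) (mul_inv_eq_iff_eq_mul.1 hi)) rfl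
  right
  obtain rfl : b = 1 := by omega
  have hzr : z = r := by rw [hz, hb]; simp
  have hSel : ∀ v ∈ (S : Subgroup H), v = 1 ∨ v = z ∨ v = t ∨ v = t * z := by
    intro v hv
    have hR : ∀ w ∈ Subgroup.zpowers r, w = 1 ∨ w = z := by
      intro w hw
      obtain ⟨k, hk, hkw⟩ := Finset.mem_image.1
        ((isOfFinOrder_of_finite r).mem_zpowers_iff_mem_range_orderOf.1 hw)
      rw [Finset.mem_range, hb] at hk
      norm_num at hk
      interval_cases k
      · left; simpa using hkw.symm
      · right; rw [hzr]; simpa using hkw.symm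
    rcases hpair v hv with h' | h'
    · rcases hR v h' with h' | h'
      · exact Or.inl h'
      · exact Or.inr (Or.inl h')
    · rcases hR _ h' with h' | h'
      · refine Or.inr (Or.inr (Or.inl ?_))
        rw [eq_inv_of_mul_eq_one_right h', htinv]
      · refine Or.inr (Or.inr (Or.inr ?_))
        rw [← h', ← mul_assoc, ← pow_two, ← ht2, pow_orderOf_eq_one, one_mul]
  have hcomm : ∀ v ∈ (S : Subgroup H), Commute v z ∧ Commute v t := by
    intro v hv
    rcases hSel v hv with rfl | rfl | rfl | rfl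
    · exact ⟨Commute.one_left _, Commute.one_left _⟩
    · exact ⟨Commute.refl _, hzt⟩
    · exact ⟨hzt.symm, Commute.refl _⟩
    · exact ⟨Commute.mul_left hzt.symm (Commute.refl z),
        Commute.mul_left (Commute.refl t) hzt⟩
  have hScard : Nat.card (S : Subgroup H) = 4 := by
    apply le_antisymm
    · have hsub : ((S : Subgroup H) : Set H) ⊆ ↑({1, z, t, t * z} : Finset H) := by
        intro v hv
        rcases hSel v hv with h' | h' | h' | h' <;> simp [h']
      have h1 := Set.ncard_le_ncard hsub (Finset.finite_toSet _)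
      rw [← Nat.card_coe_set_eq, Set.ncard_coe_finset] at h1
      exact le_trans h1 Finset.card_le_four
    · have hsub : (↑({1, z, t, t * z} : Finset H) : Set H) ⊆ ((S : Subgroup H) : Set H) := by
        intro v hv
        simp only [Finset.coe_insert, Finset.coe_singleton, Set.mem_insert_iff,
          Set.mem_singleton_iff] at hv
        rcases hv with rfl | rfl | rfl | rfl
        exacts [one_mem _, hzS, htS, mul_mem htS hzS]
      have h1 := Set.ncard_le_ncard hsub (Set.toFinite _)
      rw [Set.ncard_coe_finset, ← Nat.card_coe_set_eq] at h1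
      refine le_trans (le_of_eq ?_) h1
      have hz1 : z ≠ 1 := fun h' => by rw [h', orderOf_one] at hz2; norm_num at hz2
      have ht1 : t ≠ 1 := fun h' => by rw [h', orderOf_one] at ht2; norm_num at ht2
      have htz1 : t * z ≠ 1 := fun h' => hzne (by
        rw [eq_inv_of_mul_eq_one_right h', htinv])
      rw [Finset.card_insert_of_notMem, Finset.card_insert_of_notMem, Finset.card_insert_of_notMem,
        Finset.card_singleton]
      · simpa using hz1
      · simp [hzne, ht1]
      · simp [Ne.symm hz1, Ne.symm ht1, Ne.symm htz1]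
  -- `u` permutes the three involutions
  let f : H →* MulAut (S : Subgroup H) := MulAut.conjNormal
  have hfix : ∀ w : H, f w = 1 → Commute w z ∧ Commute w t := by
    intro w hw
    constructor
    · have h5 := congrArg (fun F : MulAut (S : Subgroup H) => ((F ⟨z, hzS⟩ : (S : Subgroup H)) : H)) hw
      simp only [f, MulAut.conjNormal_apply, MulAut.one_apply] at h5
      exact mul_inv_eq_iff_eq_mul.1 h5
    · have h5 := congrArg (fun F : MulAut (S : Subgroup H) => ((F ⟨t, htS⟩ : (S : Subgroup H)) : H)) hw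
      simp only [f, MulAut.conjNormal_apply, MulAut.one_apply] at h5
      exact mul_inv_eq_iff_eq_mul.1 h5
  let g : MulAut (S : Subgroup H) →* Equiv.Perm {x : (S : Subgroup H) // x ≠ 1} := MonoidHom.mk'
    (fun F => F.toEquiv.subtypeEquiv fun x => by simp) fun F F' => by ext x; rfl
  have hg6 : ∀ F : MulAut (S : Subgroup H), g F ^ 6 = 1 := by
    intro F
    have : Fintype (S : Subgroup H) := Fintype.ofFinite _
    have : DecidableEq (S : Subgroup H) := Classical.decEq _
    have h6 : Nat.card (Equiv.Perm {x : (S : Subgroup H) // x ≠ 1}) = 6 := by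
      rw [Nat.card_perm, Nat.card_eq_fintype_card, Fintype.card_subtype_compl,
        Fintype.card_subtype_eq, ← Nat.card_eq_fintype_card, hScard]
      rfl
    rw [← h6]; exact pow_card_eq_one'
  have hf6 : ∀ w : H, f (w ^ 6) = 1 := by
    intro w
    apply MulEquiv.ext
    intro x
    by_cases hx : x = 1
    · rw [hx]; simp
    · have h1 := congrArg (fun F : Equiv.Perm {x : (S : Subgroup H) // x ≠ 1} => (F ⟨x, hx⟩).1)
        (hg6 (f w))
      rw [← map_pow, ← map_pow] at h1
      exact h1
  have hu6 : u ^ 6 * u ^ 6 = 1 := hK' _ (hfix _ (hf6 u)).1 (hfix _ (hf6 u)).2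
  have hm3 : m = 3 := by
    rw [← pow_add, ← orderOf_dvd_iff_pow_eq_one, huo] at hu6
    have h3 : m ∣ 3 := by
      have hco : Nat.Coprime m (2 ^ 2) := Nat.Coprime.pow_right 2 (Nat.coprime_two_right.2 hmodd)
      exact hco.dvd_of_dvd_mul_right (show m ∣ 3 * 2 ^ 2 by simpa using hu6)
    rcases (Nat.dvd_prime Nat.prime_three).1 h3 with h | h
    · omega
    · exact h
  have hcard : Nat.card H = 12 := by
    rw [← Subgroup.card_mul_index (S : Subgroup H), hScard, Subgroup.index_eq_card, ← hm, hm3]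
  refine S0228.result hcard fun c hc hcc => ?_
  -- a central involution would force `u` to centralize `S`
  rw [Subgroup.mem_center_iff] at hcc
  have hcS : c ∈ (S : Subgroup H) := by
    have h1 : orderOf (c : H ⧸ (S : Subgroup H)) ∣ 2 :=
      dvd_trans (orderOf_map_dvd (QuotientGroup.mk' (S : Subgroup H)) c) (dvd_of_eq hc)
    have h2 : orderOf (c : H ⧸ (S : Subgroup H)) ∣ m := orderOf_dvd_natCard _
    have h3 := Nat.dvd_gcd h1 h2
    rw [hm3] at h3
    simpa using h3
  have hc1 : c ≠ 1 := fun h' => by rw [h', orderOf_one] at hc; norm_num at hc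
  have huc : f u ⟨c, hcS⟩ = ⟨c, hcS⟩ := Subtype.ext (by
    simp only [f, MulAut.conjNormal_apply]; rw [hcc u, mul_inv_cancel_right])
  have hf3 : f u ^ 3 = 1 := by rw [← map_pow, ← hm3, hum, map_one]
  have hfu : f u = 1 := by
    apply MulEquiv.ext
    intro x
    rw [MulAut.one_apply]
    by_contra hne
    set y := f u x with hy
    have hx1 : x ≠ 1 := fun h' => hne (by rw [hy, h', map_one])
    have hy1 : y ≠ 1 := fun h' => hx1 ((f u).map_eq_one_iff.1 h')
    have hyc : y ≠ ⟨c, hcS⟩ := fun h' => hne (by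
      rw [h', ← (f u).injective (h'.trans huc.symm)])
    have hxc : x ≠ ⟨c, hcS⟩ := fun h' => hne (by rw [hy, h', huc])
    have : Fintype (S : Subgroup H) := Fintype.ofFinite _
    have : DecidableEq (S : Subgroup H) := Classical.decEq _
    have hall : ({1, ⟨c, hcS⟩, x, y} : Finset (S : Subgroup H)) = Finset.univ := by
      rw [← Finset.card_eq_iff_eq_univ, ← Nat.card_eq_fintype_card, hScard,
        Finset.card_insert_of_notMem, Finset.card_insert_of_notMem, Finset.card_insert_of_notMem,
        Finset.card_singleton]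
      · simpa using Ne.symm hne
      · simp [Ne.symm hxc, Ne.symm hyc]
      · simp [Ne.symm hx1, Ne.symm hy1, show (1 : (S : Subgroup H)) ≠ ⟨c, hcS⟩ from
          fun h' => hc1 (congrArg Subtype.val h').symm]
    have hfy : f u y = x := by
      have h1 := Finset.mem_univ (f u y)
      rw [← hall] at h1
      simp only [Finset.mem_insert, Finset.mem_singleton] at h1
      rcases h1 with h' | h' | h' | h'
      · exact absurd ((f u).map_eq_one_iff.1 h') hy1
      · exact absurd ((f u).injective (h'.trans huc.symm)) hyc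
      · exact h'
      · exact absurd ((f u).injective (h'.trans hy)) hne
    have h3 := congrArg (fun F : MulAut (S : Subgroup H) => F x) hf3
    simp only [pow_succ, pow_zero, one_mul, MulAut.mul_apply, MulAut.one_apply] at h3
    rw [← hy, hfy, ← hy] at h3
    exact hne h3
  exact hu1 u (hK' u (hfix u hfu).1 (hfix u hfu).2) rfl

theorem backward {G : Type*} [Group G] [Finite G] (P : Sylow 2 G)
    (hcase : IsCyclic P ∨
      ((∃ n : ℕ, 1 ≤ n ∧ Nonempty ((P : Subgroup G) ≃* DihedralGroup (2 ^ n))) ∧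
        ∀ K : Subgroup G, K ≤ P → Nat.card K = 4 → (∀ k ∈ K, k ^ 2 = 1) → Subgroup.centralizer (K : Set G) = K))
    (H : Subgroup G) (h1 : ∀ S : Sylow 2 ↥H, (S : Subgroup ↥H).Normal)
    (h2 : ∀ (S : Sylow 2 ↥H) [(S : Subgroup ↥H).Normal], IsCyclic (↥H ⧸ (S : Subgroup ↥H))) :
    IsCyclic H ∨ (∃ n : ℕ, Nonempty (H ≃* DihedralGroup (2 ^ n))) ∨ Nonempty (H ≃* alternatingGroup (Fin 4)) := by
  obtain ⟨S⟩ : Nonempty (Sylow 2 ↥H) := inferInstance
  have := h1 S
  have hQ := h2 S
  obtain ⟨T, hT⟩ := (S.2.map H.subtype).exists_le_sylow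
  obtain ⟨g, hg⟩ := MulAction.exists_smul_eq G T P
  let φ : ↥H →* G := (MulAut.conj g).toMonoidHom.comp H.subtype
  have hφ : Function.Injective φ := (MulAut.conj g).injective.comp Subtype.val_injective
  have hφS : ∀ z ∈ (S : Subgroup ↥H), φ z ∈ (P : Subgroup G) := by
    intro z hz
    rw [← hg]
    exact ⟨(z : G), hT ⟨z, hz, rfl⟩, rfl⟩
  let ι : (S : Subgroup ↥H) →* (P : Subgroup G) :=
    (φ.comp (S : Subgroup ↥H).subtype).codRestrict (P : Subgroup G) fun z => hφS _ z.2
  have hι : Function.Injective ι := fun a b h => Subtype.ext (hφ (congrArg Subtype.val h))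
  by_cases hScyc : IsCyclic (S : Subgroup ↥H)
  · left
    obtain ⟨s, hs⟩ : ∃ s : ↥H, Subgroup.zpowers s = (S : Subgroup ↥H) := by
      obtain ⟨s, hs⟩ := hScyc.exists_generator
      refine ⟨s.1, le_antisymm (Subgroup.zpowers_le.2 s.2) fun z hz => ?_⟩
      obtain ⟨k, hk⟩ := hs ⟨z, hz⟩
      exact ⟨k, congrArg Subtype.val hk⟩
    obtain ⟨h, hh⟩ : ∃ h : ↥H, Subgroup.zpowers (h : ↥H ⧸ (S : Subgroup ↥H)) = ⊤ := by
      obtain ⟨z, hz⟩ := isCyclic_iff_exists_zpowers_eq_top.1 hQ
      obtain ⟨h, rfl⟩ := QuotientGroup.mk_surjective z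
      exact ⟨h, hz⟩
    refine isCyclic_of_cyclic_sylow S hScyc hQ hs hh ?_
    have hmodd : Odd (Nat.card (↥H ⧸ (S : Subgroup ↥H))) := by
      rw [Nat.odd_iff, ← Nat.two_dvd_ne_zero, ← Subgroup.index_eq_card]
      exact S.not_dvd_index
    have hhm : h ^ Nat.card (↥H ⧸ (S : Subgroup ↥H)) ∈ (S : Subgroup ↥H) := by
      rw [← QuotientGroup.eq_one_iff, QuotientGroup.mk_pow]
      exact pow_card_eq_one'
    have h3 : h * s * h⁻¹ = s := commute_of_odd (S : Subgroup ↥H) hScyc S.2 hmodd (fun r hr => by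
      let := hScyc.commGroup
      have h4 := congrArg Subtype.val (mul_comm (⟨_, hhm⟩ : (S : Subgroup ↥H)) ⟨r, hr⟩)
      simp only [Subgroup.coe_mul] at h4
      rw [h4, mul_inv_cancel_right]) (hs ▸ Subgroup.mem_zpowers s)
    exact (mul_inv_eq_iff_eq_mul.1 h3).symm
  rcases hcase with hP | ⟨⟨n, -, ⟨e⟩⟩, hK⟩
  · exact absurd (isCyclic_of_injective ι hι) hScyc
  right
  refine core S hQ hScyc (e.toMonoidHom.comp ι) (e.injective.comp hι) ?_
  intro z t hz ht hz2 ht2 hzt hne x hxz hxt
  have sq : ∀ {a : G}, orderOf a = 2 → a * a = 1 := fun ha => by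
    rw [← pow_two, ← ha, pow_orderOf_eq_one]
  set a := φ z with ha
  set c := φ t with hc
  have ha2 : orderOf a = 2 := by rw [ha, orderOf_injective φ hφ, hz2]
  have hc2 : orderOf c = 2 := by rw [hc, orderOf_injective φ hφ, ht2]
  have hac : Commute a c := hzt.map φ
  let K : Subgroup G := Subgroup.closure {a, c}
  have hKP : K ≤ (P : Subgroup G) := by
    rw [Subgroup.closure_le]
    rintro w (rfl | rfl)
    · exact hφS z hz
    · exact hφS t ht
  have hKcomm : IsMulCommutative K := Subgroup.isMulCommutative_closure (by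
    rintro u (rfl | rfl) v (rfl | rfl)
    exacts [rfl, hac.eq, hac.eq.symm, rfl])
  have hKel : ∀ w ∈ K, w ^ 2 = 1 := by
    intro w hw
    induction hw using Subgroup.closure_induction with
    | mem w hw =>
      rcases hw with rfl | rfl
      · rw [pow_two, sq ha2]
      · rw [pow_two, sq hc2]
    | one => simp
    | mul u v hu hv ihu ihv =>
      have huv : Commute u v := congrArg Subtype.val (hKcomm.is_comm.comm ⟨u, hu⟩ ⟨v, hv⟩)
      rw [huv.mul_pow, ihu, ihv, one_mul]
    | inv u _ ihu => rw [inv_pow, ihu, inv_one]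
  have hK4 : Nat.card K = 4 := by
    have : NeZero 2 := ⟨by norm_num⟩
    obtain ⟨e'⟩ := CfsgLib.Invol.exists_mulEquiv_dihedral (n := 2) ha2 hc2 (by
      rw [hac.symm.eq, mul_inv_cancel_right, inv_eq_of_mul_eq_one_right (sq ha2)]) (by
      intro hmem
      obtain ⟨k, hk, hkc⟩ := Finset.mem_image.1
        ((isOfFinOrder_of_finite a).mem_zpowers_iff_mem_range_orderOf.1 hmem)
      rw [Finset.mem_range, ha2] at hk
      interval_cases k
      · simp only [pow_zero] at hkc
        rw [← hkc, orderOf_one] at hc2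
        norm_num at hc2
      · simp only [pow_one] at hkc
        exact hne (hφ hkc))
    rw [Nat.card_congr e'.toEquiv, DihedralGroup.nat_card]
  have hCK := hK K hKP hK4 hKel
  have hxK : φ x ∈ K := by
    rw [← hCK, Subgroup.centralizer_closure, Subgroup.mem_centralizer_iff]
    rintro w (rfl | rfl)
    · exact (hxz.map φ).symm.eq
    · exact (hxt.map φ).symm.eq
  apply hφ
  rw [map_mul, map_one, ← pow_two]
  exact hKel _ hxK

end backward

/-- Let G be a finite group with Sylow 2-subgroup P. Every subgroup H of G whose Sylow 2-subgroup is normal in H with cyclic quotient is cyclic, dihedral of 2-power order, or isomorphic to the alternating group of degree 4, if and only if either P is cyclic, or P is dihedral (of order at least 4) and every elementary abelian subgroup K of order 4 of P satisfies C_G(K) = K. -/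
theorem result {G : Type*} [Group G] [Finite G] (P : Sylow 2 G) :
    (∀ H : Subgroup G, (∀ S : Sylow 2 ↥H, (S : Subgroup ↥H).Normal) →
        (∀ (S : Sylow 2 ↥H) [(S : Subgroup ↥H).Normal], IsCyclic (↥H ⧸ (S : Subgroup ↥H))) →
        IsCyclic H ∨ (∃ n : ℕ, Nonempty (H ≃* DihedralGroup (2 ^ n))) ∨ Nonempty (H ≃* alternatingGroup (Fin 4))) ↔
    (IsCyclic P ∨
      ((∃ n : ℕ, 1 ≤ n ∧ Nonempty ((P : Subgroup G) ≃* DihedralGroup (2 ^ n))) ∧
        ∀ K : Subgroup G, K ≤ P → Nat.card K = 4 → (∀ k ∈ K, k ^ 2 = 1) → Subgroup.centralizer (K : Set G) = K)) :=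
  ⟨forward P, backward P⟩

end Cfsg.Agent.S4083
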