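import Cfsg.Statements.S4084
import Mathlib
-- import your own Cfsg.Agent.* helpers here

set_option autoImplicit false
open Cfsg

namespace Cfsg.Agent.S4084

/-- The existence of an element of order `p * q` passes along a commutation-preserving bijection. -/
theorem aux {G H : Type*} [Group G] [Finite G] [Group H] [Finite H] (e : G ≃ H)
    (he : ∀ x y : G, Commute x y ↔ Commute (e x) (e y))
    {p q : ℕ} (hp : p.Prime) (hq : q.Prime) (hpq : p ≠ q) (g : G) (hg : orderOf g = p * q) :
    ∃ h : H, orderOf h = p * q := by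
  classical
  haveI : Fact p.Prime := ⟨hp⟩
  haveI : Fact q.Prime := ⟨hq⟩
  haveI : Finite (Subgroup G) := Finite.of_injective (SetLike.coe : Subgroup G → Set G) SetLike.coe_injective
  haveI := Fintype.ofFinite (Subgroup G)
  obtain ⟨A, hA, hmax⟩ := Finset.exists_max_image
    ((Finset.univ : Finset (Subgroup G)).filter (fun A : Subgroup G => IsMulCommutative A ∧ g ∈ A)) (fun A : Subgroup G => Nat.card A)
    ⟨Subgroup.zpowers g, by simp only [Finset.mem_filter, Finset.mem_univ, true_and]; exact ⟨inferInstance, Subgroup.mem_zpowers g⟩⟩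
  simp only [Finset.mem_filter, Finset.mem_univ, true_and] at hA hmax
  obtain ⟨hAc, hgA⟩ := hA
  set K := Subgroup.closure (e '' (A : Set G)) with hK
  haveI hKc : IsMulCommutative K := by
    rw [hK]
    refine Subgroup.isMulCommutative_closure ?_
    rintro _ ⟨a, ha, rfl⟩ _ ⟨b, hb, rfl⟩
    exact ((he a b).1 (congrArg Subtype.val (hAc.is_comm.comm (⟨a, ha⟩ : A) ⟨b, hb⟩))).eq
  set B := Subgroup.closure (e ⁻¹' (K : Set H)) with hB
  haveI hBc : IsMulCommutative B := by
    rw [hB]
    refine Subgroup.isMulCommutative_closure fun a ha b hb => ?_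
    exact ((he a b).2 (congrArg Subtype.val (hKc.is_comm.comm (⟨e a, ha⟩ : K) ⟨e b, hb⟩))).eq
  have hgB : g ∈ B := Subgroup.subset_closure (Subgroup.subset_closure ⟨g, hgA, rfl⟩)
  have h1 : Nat.card A ≤ Nat.card K :=
    Nat.card_le_card_of_injective (fun a : A => (⟨e a, Subgroup.subset_closure ⟨a, a.2, rfl⟩⟩ : K))
      (fun a b hab => Subtype.ext (e.injective (congrArg Subtype.val hab)))
  have h2 : Nat.card K ≤ Nat.card B :=
    Nat.card_le_card_of_injective (fun a : K => (⟨e.symm a, Subgroup.subset_closure (by simp)⟩ : B))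
      (fun a b hab => Subtype.ext (e.symm.injective (congrArg Subtype.val hab)))
  have hcard : Nat.card K = Nat.card A := le_antisymm (h2.trans (hmax B ⟨hBc, hgB⟩)) h1
  have hd : p * q ∣ Nat.card A := by
    rw [← hg, ← Subgroup.orderOf_mk g hgA]; exact orderOf_dvd_natCard _
  rw [← hcard] at hd
  obtain ⟨a, ha⟩ := exists_prime_orderOf_dvd_card' (G := K) p (dvd_of_mul_right_dvd hd)
  obtain ⟨b, hb⟩ := exists_prime_orderOf_dvd_card' (G := K) q (dvd_of_mul_left_dvd hd)
  have hab : Commute a b := hKc.is_comm.comm a b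
  refine ⟨(a * b : K), ?_⟩
  rw [Subgroup.orderOf_coe, hab.orderOf_mul_eq_mul_orderOf_of_coprime
    (by rw [ha, hb]; exact (Nat.coprime_primes hp hq).2 hpq), ha, hb]

/-- Let G and H be finite groups whose commuting graphs are isomorphic: there is a bijection e : G → H with x, y commuting exactly when e(x), e(y) commute. Then G and H have the same prime graph: for distinct primes p, q, G has an element of order pq if and only if H does (and #G = #H, so the prime divisors agree). -/
theorem result {G H : Type*} [Group G] [Finite G] [Group H] [Finite H] (e : G ≃ H)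
    (he : ∀ x y : G, Commute x y ↔ Commute (e x) (e y))
    {p q : ℕ} (hp : p.Prime) (hq : q.Prime) (hpq : p ≠ q) :
    (∃ g : G, orderOf g = p * q) ↔ (∃ h : H, orderOf h = p * q) := by
  refine ⟨fun ⟨g, hg⟩ => aux e he hp hq hpq g hg, fun ⟨h, hh⟩ => aux e.symm (fun x y => ?_) hp hq hpq h hh⟩
  rw [he (e.symm x), e.apply_symm_apply, e.apply_symm_apply]

end Cfsg.Agent.S4084
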