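import Cfsg.Statements.S4086
import Mathlib
-- import your own Cfsg.Agent.* helpers here

set_option autoImplicit false
open Cfsg

namespace Cfsg.Agent.S4086

/-- For a finite group G the following are equivalent: every non-identity element has prime-power order; whenever two elements generate a cyclic subgroup, one of them is a power of the other (the enhanced power graph of G coincides with its power graph). -/
theorem result {G : Type*} [Group G] [Finite G] :
    (∀ g : G, g ≠ 1 → IsPrimePow (orderOf g)) ↔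
    (∀ x y : G, IsCyclic ↥(Subgroup.closure ({x, y} : Set G)) → (x ∈ Subgroup.zpowers y ∨ y ∈ Subgroup.zpowers x)) := by
  constructor
  · intro h x y hcyc
    obtain ⟨⟨c, hcK⟩, hc⟩ := hcyc.exists_generator
    have hmem : ∀ z ∈ ({x, y} : Set G), ∃ i : ℤ, c ^ i = z := fun z hz => by
      obtain ⟨i, hi⟩ := hc ⟨z, Subgroup.subset_closure hz⟩
      exact ⟨i, congrArg Subtype.val hi⟩
    obtain ⟨i, rfl⟩ := hmem x (by simp)
    obtain ⟨j, rfl⟩ := hmem y (by simp)
    by_cases hc1 : c = 1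
    · exact Or.inl (by simp [hc1])
    obtain ⟨p, e, hp, -, he⟩ := (isPrimePow_nat_iff _).1 (h c hc1)
    have key : ∀ u : ℤ, ∃ a, a ≤ e ∧ (∃ s : ℤ, (p ^ a : ℕ) * s = u) ∧ c ^ ((p ^ a : ℕ) : ℤ) ∈ Subgroup.zpowers (c ^ u) := by
      intro u
      have hg : Int.gcd u (p ^ e : ℕ) ∣ p ^ e := Int.natCast_dvd_natCast.1 (Int.gcd_dvd_right _ _)
      obtain ⟨a, hae, ha⟩ := (Nat.dvd_prime_pow hp).1 hg
      refine ⟨a, hae, ?_, ?_⟩
      · obtain ⟨s, hs⟩ := ha ▸ Int.gcd_dvd_left u (p ^ e : ℕ)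
        exact ⟨s, hs.symm⟩
      · refine ⟨Int.gcdA u (p ^ e : ℕ), ?_⟩
        show (c ^ u) ^ _ = _
        rw [← ha, Int.gcd_eq_gcd_ab, zpow_add, zpow_mul, zpow_mul c ((p ^ e : ℕ) : ℤ), zpow_natCast, he,
          pow_orderOf_eq_one, one_zpow, mul_one]
    obtain ⟨a, -, ⟨s, hs⟩, hai⟩ := key i
    obtain ⟨b, -, ⟨t, ht⟩, hbj⟩ := key j
    rcases le_total b a with hba | hab
    · left
      obtain ⟨d, hd⟩ := pow_dvd_pow p hba
      rw [← hs, hd, Nat.cast_mul, mul_assoc, zpow_mul]
      exact Subgroup.zpow_mem _ hbj _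
    · right
      obtain ⟨d, hd⟩ := pow_dvd_pow p hab
      rw [← ht, hd, Nat.cast_mul, mul_assoc, zpow_mul]
      exact Subgroup.zpow_mem _ hai _
  · intro h g hg
    by_contra hpp
    have h1 : orderOf g ≠ 1 := fun e => hg (orderOf_eq_one_iff.1 e)
    obtain ⟨p, hp, hpd⟩ := Nat.exists_prime_and_dvd h1
    obtain ⟨k, m, hm, hgo⟩ := Nat.exists_eq_pow_mul_and_not_dvd (orderOf_pos g).ne' p hp.one_lt.ne'
    have hk : k ≠ 0 := by
      rintro rfl
      rw [pow_zero, one_mul] at hgo
      exact hm (hgo ▸ hpd)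
    have hm1 : m ≠ 1 := by
      rintro rfl
      exact hpp (by rw [hgo, mul_one]; exact hp.isPrimePow.pow hk)
    have hmp : 0 < m := Nat.pos_of_ne_zero fun e => hm (e ▸ dvd_zero p)
    have hpk : 0 < p ^ k := pow_pos hp.pos k
    set x := g ^ m with hx
    set y := g ^ (p ^ k) with hy
    have hxo : orderOf x = p ^ k := by
      rw [hx, orderOf_pow_of_dvd hmp.ne' (Dvd.intro_left _ hgo.symm), hgo, Nat.mul_div_cancel _ hmp]
    have hyo : orderOf y = m := by
      rw [hy, orderOf_pow_of_dvd hpk.ne' (Dvd.intro _ hgo.symm), hgo, Nat.mul_div_cancel_left _ hpk]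
    have hcyc : IsCyclic ↥(Subgroup.closure ({x, y} : Set G)) := by
      have hle : Subgroup.closure ({x, y} : Set G) ≤ Subgroup.zpowers g := by
        rw [Subgroup.closure_le]
        rintro z (rfl | rfl) <;> exact Subgroup.pow_mem _ (Subgroup.mem_zpowers g) _
      exact Subgroup.isCyclic_of_le hle
    rcases h x y hcyc with hxy | hyx
    · have := Subgroup.card_dvd_of_le (Subgroup.zpowers_le.2 hxy)
      rw [Nat.card_zpowers, Nat.card_zpowers, hxo, hyo] at this
      exact hm ((dvd_pow_self p hk).trans this)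
    · have := Subgroup.card_dvd_of_le (Subgroup.zpowers_le.2 hyx)
      rw [Nat.card_zpowers, Nat.card_zpowers, hxo, hyo] at this
      exact hm1 (Nat.Coprime.eq_one_of_dvd ((Nat.Coprime.pow_left k ((hp.coprime_iff_not_dvd).2 hm)).symm) this)

end Cfsg.Agent.S4086
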