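import Cfsg.Statements.S4088
import Cfsg.Agent.Lib.StructB.SubnormalCount
import Mathlib.GroupTheory.Sylow

set_option autoImplicit false
open Cfsg

namespace Cfsg.Agent.S4088

open Subgroup
open CfsgLib.StructB.SnCount

section Mobius

variable {α : Type*} [PartialOrder α] [Finite α]

open Classical in
/-- The recursion `m x + ∑_{y > x} m y = 1` over a finite set. -/
noncomputable def mob (S : Finset α) : α → ℤ :=
  WellFoundedGT.fix fun x IH => 1 - ∑ y ∈ S.attach, if h : x < y.1 then IH y.1 h else 0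

open Classical in
theorem mob_eq (S : Finset α) (x : α) :
    mob S x = 1 - ∑ y ∈ S.filter (fun y => x < y), mob S y := by
  conv_lhs => rw [mob, WellFoundedGT.fix_eq]
  congr 1
  rw [Finset.sum_filter, ← Finset.sum_attach S (fun y => if x < y then mob S y else 0)]
  exact Finset.sum_congr rfl fun y _ => by split_ifs <;> rfl

open Classical in
theorem sum_ge_eq_one (S : Finset α) {x : α} (hx : x ∈ S) :
    ∑ y ∈ S.filter (fun y => x ≤ y), mob S y = 1 := by
  have h : S.filter (fun y => x ≤ y) = insert x (S.filter fun y => x < y) := by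
    ext y
    simp only [Finset.mem_filter, Finset.mem_insert, le_iff_lt_or_eq]
    constructor
    · rintro ⟨hy, h | rfl⟩
      · exact Or.inr ⟨hy, h⟩
      · exact Or.inl rfl
    · rintro (rfl | ⟨hy, h⟩)
      · exact ⟨hx, Or.inr rfl⟩
      · exact ⟨hy, Or.inl h⟩
  rw [h, Finset.sum_insert (by simp), mob_eq S x]
  ring

open Classical in
theorem eq_mob (S U : Finset α) (hU : ∀ x ∈ U, x ∈ S ∧ ∀ y ∈ S, x < y → y ∈ U) (T : α → ℤ)
    (hT : ∀ x ∈ U, ∑ y ∈ S.filter (fun y => x ≤ y), T y = 1) : ∀ x ∈ U, T x = mob S x := by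
  intro x
  induction x using WellFoundedGT.induction with
  | _ x ih =>
    intro hx
    have h1 := hT x hx
    have h2 := sum_ge_eq_one S (hU x hx).1
    have hmem : x ∈ S.filter (fun y => x ≤ y) := Finset.mem_filter.2 ⟨(hU x hx).1, le_rfl⟩
    rw [← Finset.add_sum_erase _ _ hmem] at h1 h2
    rw [Finset.sum_congr rfl (fun y hy => ?_)] at h1
    · linarith
    · obtain ⟨hne, hy⟩ := Finset.mem_erase.1 hy
      obtain ⟨hyS, hxy⟩ := Finset.mem_filter.1 hy
      have hlt : x < y := lt_of_le_of_ne hxy (Ne.symm hne)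
      exact ih y hlt ((hU x hx).2 y hyS hlt)

end Mobius

variable {G : Type*} [Group G] [Finite G] {p : ℕ} [Fact p.Prime]

open Classical in
/-- The `p`-subgroups of `M` normalised by `g`. -/
noncomputable def inv' (p : ℕ) (M : Subgroup G) (g : G) : Finset (Subgroup G) :=
  (Set.toFinite {Y : Subgroup G | Y ≤ M ∧ IsPGroup p Y ∧ g ∈ normalizer (Y : Set G)}).toFinset

theorem mem_inv' {M Y : Subgroup G} {g : G} :
    Y ∈ inv' p M g ↔ Y ≤ M ∧ IsPGroup p Y ∧ g ∈ normalizer (Y : Set G) := by
  simp [inv']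

open Classical in
/-- The total weight of `Y` in `M`. -/
noncomputable def wt (p : ℕ) [Fintype G] (M Y : Subgroup G) : ℤ :=
  ∑ g : G, if g ∈ M ∧ g ∈ normalizer (Y : Set G) then mob (inv' p M g) Y else 0

/-- The weight only depends on the normaliser of `X`. -/
theorem mob_local {M X : Subgroup G} {g : G} (hX : X ∈ inv' p M g) :
    mob (inv' p (M ⊓ normalizer (X : Set G)) g) X = mob (inv' p M g) X := by
  classical
  set S := inv' p M g with hS
  set M' := M ⊓ normalizer (X : Set G) with hM'
  set S' := inv' p M' g with hS'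
  obtain ⟨hXM, hXp, hXg⟩ := mem_inv'.1 hX
  let r : Subgroup G → Subgroup G := fun Y => Y ⊓ normalizer (X : Set G)
  let T : Subgroup G → ℤ := fun Z => ∑ Y ∈ (S.filter fun Y => X < Y).filter fun Y => r Y = Z, mob S Y
  have hr : ∀ Y ∈ S.filter (fun Y => X < Y), r Y ∈ S'.filter fun Z => X < Z := by
    intro Y hY
    obtain ⟨hYS, hlt⟩ := Finset.mem_filter.1 hY
    obtain ⟨hYM, hYp, hYg⟩ := mem_inv'.1 hYS
    refine Finset.mem_filter.2 ⟨mem_inv'.2 ⟨inf_le_inf_right _ hYM, hYp.to_le inf_le_left, ?_⟩, ?_⟩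
    · exact mem_normalizer_fintype fun v hv => ⟨(mem_normalizer_iff.1 hYg v).1 hv.1,
        (normalizer (X : Set G)).mul_mem ((normalizer (X : Set G)).mul_mem hXg hv.2)
          ((normalizer (X : Set G)).inv_mem hXg)⟩
    · refine lt_of_le_of_ne (le_inf hlt.le le_normalizer) fun e => ?_
      have := hYp.isNilpotent
      have h1 := Group.normalizerCondition_of_isNilpotent (G := Y) (X.subgroupOf Y)
        (lt_top_iff_ne_top.2 fun h => hlt.not_ge (subgroupOf_eq_top.1 h))
      obtain ⟨⟨y, hyY⟩, hy, hyX⟩ := SetLike.exists_of_lt h1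
      refine hyX ?_
      rw [mem_subgroupOf]
      show y ∈ X
      rw [e]
      refine ⟨hyY, mem_normalizer_fintype fun v hv => ?_⟩
      exact (mem_normalizer_iff.1 hy ⟨v, hlt.le hv⟩).1 hv
  have hTsum : ∀ Z ∈ S'.filter (fun Z => X < Z), ∑ W ∈ S'.filter (fun W => Z ≤ W), T W = 1 := by
    intro Z hZ
    obtain ⟨hZS', hXZ⟩ := Finset.mem_filter.1 hZ
    obtain ⟨hZM, hZp, hZg⟩ := mem_inv'.1 hZS'
    have hZS : Z ∈ S := mem_inv'.2 ⟨hZM.trans inf_le_left, hZp, hZg⟩
    rw [← sum_ge_eq_one S hZS]
    simp only [T]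
    simp_rw [Finset.sum_filter (s := S.filter fun Y => X < Y)]
    rw [Finset.sum_comm]
    simp only [Finset.sum_ite_eq]
    rw [← Finset.sum_filter]
    refine Finset.sum_congr ?_ fun _ _ => rfl
    ext Y
    simp only [Finset.mem_filter]
    constructor
    · rintro ⟨⟨hY, -⟩, -, hle⟩
      exact ⟨hY, hle.trans inf_le_left⟩
    · rintro ⟨hY, hle⟩
      have hlt : X < Y := lt_of_lt_of_le hXZ hle
      exact ⟨⟨hY, hlt⟩, (Finset.mem_filter.1 (hr Y (Finset.mem_filter.2 ⟨hY, hlt⟩))).1,
        le_inf hle (hZM.trans inf_le_right)⟩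
  have hTm := eq_mob S' (S'.filter fun Z => X < Z)
    (fun Z hZ => ⟨(Finset.mem_filter.1 hZ).1, fun W hW h =>
      Finset.mem_filter.2 ⟨hW, (Finset.mem_filter.1 hZ).2.trans h⟩⟩) T hTsum
  rw [mob_eq S', mob_eq S]
  congr 1
  rw [← Finset.sum_fiberwise_of_maps_to hr]
  exact Finset.sum_congr rfl fun Z hZ => (hTm Z hZ).symm

open Classical in
/-- The number of elements with `H` subnormal, as a sum of weights. -/
theorem count_eq [Fintype G] (M H : Subgroup G) (hH : IsPGroup p H) (hHM : H ≤ M) :
    ∑ Y ∈ (Set.toFinite {Y : Subgroup G | H ≤ Y ∧ Y ≤ M ∧ IsPGroup p Y}).toFinset, wt p M Y =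
      Nat.card {g : G // g ∈ M ∧ Valid H g} := by
  simp only [wt]
  rw [Finset.sum_comm, Nat.card_eq_fintype_card, Fintype.card_subtype, Finset.card_filter, Nat.cast_sum]
  refine Finset.sum_congr rfl fun g _ => ?_
  rw [← Finset.sum_filter]
  by_cases hg : g ∈ M
  swap
  · rw [if_neg (fun h => hg h.1), Nat.cast_zero]
    exact Finset.sum_eq_zero fun Y hY => absurd (Finset.mem_filter.1 hY).2.1 hg
  by_cases hv : Valid H g
  · rw [if_pos ⟨hg, hv⟩, Nat.cast_one]
    have hX := (valid_iff hH g).1 hv
    have hXS : hull H g ∈ inv' p M g :=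
      mem_inv'.2 ⟨hull_le hHM (le_normalizer hg), hX, mem_normalizer_hull H g⟩
    rw [← sum_ge_eq_one _ hXS]
    refine Finset.sum_congr ?_ fun _ _ => rfl
    ext Y
    simp only [Finset.mem_filter, mem_inv', Set.Finite.mem_toFinset, Set.mem_ofPred_eq]
    constructor
    · rintro ⟨⟨h1, h2, h3⟩, -, h4⟩
      exact ⟨⟨h2, h3, h4⟩, hull_le h1 h4⟩
    · rintro ⟨⟨h2, h3, h4⟩, h5⟩
      exact ⟨⟨(le_hull H g).trans h5, h2, h3⟩, hg, h4⟩
  · rw [if_neg (fun h => hv h.2), Nat.cast_zero]
    refine Finset.sum_eq_zero fun Y hY => absurd ?_ hv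
    simp only [Finset.mem_filter, Set.Finite.mem_toFinset, Set.mem_ofPred_eq] at hY
    exact (valid_iff hH g).2 (hY.1.2.2.to_le (hull_le hY.1.1 hY.2.2))

theorem wt_local [Fintype G] {M Y : Subgroup G} (hYM : Y ≤ M) (hY : IsPGroup p Y) :
    wt p M Y = wt p (M ⊓ normalizer (Y : Set G)) Y := by
  refine Finset.sum_congr rfl fun g _ => ?_
  by_cases h : g ∈ M ∧ g ∈ normalizer (Y : Set G)
  · rw [if_pos h, if_pos ⟨⟨h.1, h.2⟩, h.2⟩, mob_local (mem_inv'.2 ⟨hYM, hY, h.2⟩)]
  · rw [if_neg h, if_neg fun h' => h ⟨h'.1.1, h'.2⟩]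

open Classical in
/-- Only Sylow subgroups carry weight. -/
theorem wt_normal [Fintype G] : ∀ (n : ℕ) (M X : Subgroup G), X.relIndex M = n → X ≤ M →
    IsPGroup p X → M ≤ normalizer (X : Set G) →
    wt p M X = if p ∣ n then 0 else (Nat.card M : ℤ) := by
  intro n
  induction n using Nat.strong_induction_on with
  | _ n ih =>
    intro M X hn hXM hX hMX
    set A := (Set.toFinite {Y : Subgroup G | X ≤ Y ∧ Y ≤ M ∧ IsPGroup p Y}).toFinset with hA
    have hmemA : ∀ Y, Y ∈ A ↔ X ≤ Y ∧ Y ≤ M ∧ IsPGroup p Y := fun Y => by simp [hA]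
    have hcount := count_eq M X hX hXM
    rw [← hA] at hcount
    have hall : Nat.card {g : G // g ∈ M ∧ Valid X g} = Nat.card M :=
      Nat.card_congr (Equiv.subtypeEquivRight fun g => ⟨fun h => h.1, fun h => ⟨h,
        (valid_iff hX g).2 (hX.to_le (hull_le le_rfl (hMX h)))⟩⟩)
    rw [hall, ← Finset.add_sum_erase _ _ ((hmemA X).2 ⟨le_rfl, hXM, hX⟩)] at hcount
    have hsyl : ∀ (Y : Subgroup G), Y ∈ A.erase X → wt p M Y =
        if p ∣ Y.relIndex M then 0 else (Nat.card ↥(M ⊓ normalizer (Y : Set G)) : ℤ) := by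
      intro Y hY
      obtain ⟨hne, hY⟩ := Finset.mem_erase.1 hY
      obtain ⟨hXY, hYM, hYp⟩ := (hmemA Y).1 hY
      set M' := M ⊓ normalizer (Y : Set G) with hM'
      have hYM' : Y ≤ M' := le_inf hYM le_normalizer
      have h1 := relIndex_mul_relIndex X Y M hXY hYM
      have h2 := relIndex_mul_relIndex Y M' M hYM' inf_le_left
      have hlt : Y.relIndex M' < n := by
        have h3 : 1 < X.relIndex Y := by
          rcases Nat.lt_or_ge 1 (X.relIndex Y) with h | h
          · exact h
          · exact absurd (le_antisymm (relIndex_eq_one.1 (le_antisymm h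
              (Nat.one_le_iff_ne_zero.2 index_ne_zero_of_finite))) hXY) hne
        calc Y.relIndex M' ≤ Y.relIndex M :=
              Nat.le_of_dvd (Nat.pos_of_ne_zero index_ne_zero_of_finite) ⟨_, h2.symm⟩
          _ < X.relIndex Y * Y.relIndex M :=
              lt_mul_left (Nat.pos_of_ne_zero index_ne_zero_of_finite) h3
          _ = n := h1.trans hn
      rw [wt_local hYM hYp, ih _ hlt M' Y rfl hYM' hYp inf_le_right]
      by_cases hd : p ∣ Y.relIndex M'
      · rw [if_pos hd, if_pos (hd.trans ⟨_, h2.symm⟩)]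
      · rw [if_neg hd, if_neg]
        -- a Sylow subgroup of its normaliser is a Sylow subgroup
        intro hd'
        have h4 := hYp.of_equiv (subgroupOfEquivOfLe hYM).symm
        obtain ⟨S, hS⟩ := h4.exists_le_sylow
        by_cases he : Y.subgroupOf M = (S : Subgroup M)
        · exact S.not_dvd_index (he ▸ hd')
        have := S.2.isNilpotent
        have hlt' : Y.subgroupOf M < (S : Subgroup M) := lt_of_le_of_ne hS he
        have h5 := Group.normalizerCondition_of_isNilpotent (G := (S : Subgroup M))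
          ((Y.subgroupOf M).subgroupOf (S : Subgroup M))
          (lt_top_iff_ne_top.2 fun h => hlt'.not_ge (subgroupOf_eq_top.1 h))
        obtain ⟨⟨⟨y, hyM⟩, hyS⟩, hy, hyY⟩ := SetLike.exists_of_lt h5
        have hyY' : y ∉ Y := fun h => hyY h
        have hyn : y ∈ M' := ⟨hyM, mem_normalizer_fintype fun v hv => by
          exact (mem_normalizer_iff.1 hy ⟨⟨v, hYM hv⟩, hS hv⟩).1 hv⟩
        apply hd
        have hn' : (Y.subgroupOf M').Normal := normal_subgroupOf_of_le_normalizer inf_le_right
        have hord : ∃ j, orderOf (⟨y, hyn⟩ : M') = p ^ j := by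
          obtain ⟨j, hj⟩ := IsPGroup.iff_orderOf.1 S.2 ⟨⟨y, hyM⟩, hyS⟩
          refine ⟨j, ?_⟩
          rw [Subgroup.orderOf_mk, Subgroup.orderOf_mk] at hj
          rw [Subgroup.orderOf_mk]
          exact hj
        obtain ⟨j, hj⟩ := hord
        have h6 := orderOf_map_dvd (QuotientGroup.mk' (Y.subgroupOf M')) ⟨y, hyn⟩
        rw [hj] at h6
        obtain ⟨i, -, hi⟩ := (Nat.dvd_prime_pow (Fact.out : p.Prime)).1 h6
        have hi0 : i ≠ 0 := fun e => hyY' (by
          rw [e, pow_zero, orderOf_eq_one_iff] at hi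
          exact mem_subgroupOf.1 ((QuotientGroup.eq_one_iff (⟨y, hyn⟩ : M')).1 hi))
        show p ∣ (Y.subgroupOf M').index
        rw [index_eq_card]
        exact (hi ▸ dvd_pow_self p hi0).trans (orderOf_dvd_natCard _)
    rw [Finset.sum_congr rfl hsyl] at hcount
    by_cases hd : p ∣ n
    · rw [if_pos hd]
      -- every Sylow subgroup of `M` properly contains `X`
      have hn' : (X.subgroupOf M).Normal := normal_subgroupOf_of_le_normalizer hMX
      have hXS : ∀ S : Sylow p M, X.subgroupOf M ≤ (S : Subgroup M) := fun S =>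
        sup_eq_left.1 (S.3 (S.2.to_sup_of_normal_right (hX.of_equiv (subgroupOfEquivOfLe hXM).symm)) le_sup_left)
      obtain ⟨S₀⟩ := (inferInstance : Nonempty (Sylow p M))
      let := Fintype.ofFinite (Sylow p M)
      have hrest : ∑ Y ∈ A.erase X,
          (if p ∣ Y.relIndex M then 0 else (Nat.card ↥(M ⊓ normalizer (Y : Set G)) : ℤ)) =
          ∑ S : Sylow p M, (Nat.card (normalizer ((S : Subgroup M) : Set M)) : ℤ) := by
        rw [Finset.sum_ite, Finset.sum_const_zero, zero_add]
        symm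
        refine Finset.sum_bij (fun S _ => (S : Subgroup M).map M.subtype) (fun S _ => ?_) (fun S _ S' _ h => ?_)
          (fun Y hY => ?_) (fun S _ => ?_)
        · refine Finset.mem_filter.2 ⟨Finset.mem_erase.2 ⟨fun e => ?_, (hmemA _).2
            ⟨fun x hx => ⟨⟨x, hXM hx⟩, hXS S hx, rfl⟩, map_subtype_le _, S.2.map _⟩⟩, ?_⟩
          · refine S.not_dvd_index ?_
            rw [← hn, ← e, relIndex, subgroupOf,
              comap_map_eq_self_of_injective M.subtype_injective] at hd
            exact hd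
          · rw [relIndex, subgroupOf, comap_map_eq_self_of_injective M.subtype_injective]
            exact S.not_dvd_index
        · exact Sylow.ext (map_injective M.subtype_injective h)
        · obtain ⟨hY, hdY⟩ := Finset.mem_filter.1 hY
          obtain ⟨hXY, hYM, hYp⟩ := (hmemA Y).1 (Finset.mem_erase.1 hY).2
          exact ⟨(hYp.of_equiv (subgroupOfEquivOfLe hYM).symm).toSylow hdY, Finset.mem_univ _,
            map_subgroupOf_eq_of_le hYM⟩
        · rw [← card_map_of_injective (K := normalizer ((S : Subgroup M) : Set M)) M.subtype_injective]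
          congr 3
          ext y
          constructor
          · rintro ⟨c, hc, rfl⟩
            refine ⟨c.2, mem_normalizer_fintype ?_⟩
            rintro _ ⟨v, hv, rfl⟩
            exact ⟨c * v * c⁻¹, (mem_normalizer_iff.1 hc v).1 hv, rfl⟩
          · rintro ⟨hyM, hy⟩
            refine ⟨⟨y, hyM⟩, mem_normalizer_fintype fun v hv => ?_, rfl⟩
            obtain ⟨w, hw, hwv⟩ := (mem_normalizer_iff.1 hy (v : G)).1 (mem_map_of_mem _ hv)
            rwa [← show w = (⟨y, hyM⟩ : M) * v * ⟨y, hyM⟩⁻¹ from Subtype.ext hwv]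
      rw [hrest, Finset.sum_congr rfl (fun S _ => show _ = (Nat.card (normalizer ((S₀ : Subgroup M) : Set M)) : ℤ) by
        obtain ⟨g, rfl⟩ := MulAction.exists_smul_eq M S₀ S
        norm_cast
        refine Eq.trans ?_ (card_map_of_injective (K := normalizer ((S₀ : Subgroup M) : Set M))
          (f := (MulAut.conj g).toMonoidHom) (MulAut.conj g).injective)
        rw [map_equiv_normalizer_eq]
        rfl), Finset.sum_const, Finset.card_univ, ← Nat.card_eq_fintype_card, nsmul_eq_mul,
        Sylow.card_eq_index_normalizer S₀, ← Nat.cast_mul] at hcount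
      erw [index_mul_card] at hcount
      linarith
    · rw [if_neg hd]
      have h0 : ∀ Y ∈ A.erase X, False := by
        intro Y hY
        obtain ⟨hne, hY⟩ := Finset.mem_erase.1 hY
        obtain ⟨hXY, hYM, hYp⟩ := (hmemA Y).1 hY
        have h1 := relIndex_mul_relIndex X Y M hXY hYM
        obtain ⟨j, hj⟩ := (hYp.of_equiv (MulEquiv.refl _)).index (X.subgroupOf Y)
        have hj' : X.relIndex Y = p ^ j := hj
        rcases j with _ | j
        · exact hne (le_antisymm (relIndex_eq_one.1 (by rw [hj', pow_zero])) hXY)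
        · exact hd (hn ▸ h1 ▸ Dvd.dvd.mul_right (hj'.symm ▸ dvd_pow_self p (Nat.succ_ne_zero j)) _)
      rw [Finset.sum_eq_zero (fun Y hY => (h0 Y hY).elim), add_zero] at hcount
      exact hcount

/-- Let G be a finite group, p a prime dividing the order of G, H a p-subgroup of G and P a Sylow p-subgroup of G. Call the subnormalizer of H the set of elements g of G such that H is subnormal in the subgroup generated by H and g. Then the number of elements of the subnormalizer of H equals the number of Sylow p-subgroups of G containing H times the order of N_G(P), and also equals the number of conjugates of H contained in P times the order of N_G(H). -/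
theorem result {G : Type*} [Group G] [Finite G] (p : ℕ) [Fact p.Prime]
    (hp : p ∣ Nat.card G) (H : Subgroup G) (hH : IsPGroup p H) (P : Sylow p G) :
    Nat.card {g : G // ((H).subgroupOf (H ⊔ Subgroup.zpowers g)).IsSubnormal} =
        Nat.card {Q : Sylow p G // H ≤ (Q : Subgroup G)} * Nat.card (Subgroup.normalizer ((P : Subgroup G) : Set G)) ∧
    Nat.card {g : G // ((H).subgroupOf (H ⊔ Subgroup.zpowers g)).IsSubnormal} =
        Nat.card {K : Subgroup G // K ≤ (P : Subgroup G) ∧ ∃ g : G, K = H.map (MulAut.conj g).toMonoidHom} *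
          Nat.card (Subgroup.normalizer (H : Set G)) := by
  classical
  let := Fintype.ofFinite G
  let := Fintype.ofFinite (Sylow p G)
  have hcount := count_eq (⊤ : Subgroup G) H hH le_top
  rw [show Nat.card {g : G // g ∈ (⊤ : Subgroup G) ∧ Valid H g} = Nat.card {g : G // Valid H g} from
    Nat.card_congr (Equiv.subtypeEquivRight fun g => ⟨fun h => h.2, fun h => ⟨trivial, h⟩⟩)] at hcount
  have hwt : ∀ Y : Subgroup G, IsPGroup p Y → wt p ⊤ Y =
      if p ∣ Y.index then 0 else (Nat.card (normalizer (Y : Set G)) : ℤ) := by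
    intro Y hY
    rw [wt_local le_top hY, top_inf_eq, wt_normal _ _ Y rfl le_normalizer hY le_rfl]
    have h1 := relIndex_mul_index (le_normalizer (H := Y))
    by_cases hd : p ∣ Y.relIndex (normalizer (Y : Set G))
    · rw [if_pos hd, if_pos (hd.trans ⟨_, h1.symm⟩)]
    · rw [if_neg hd, if_neg]
      intro hd'
      obtain ⟨S, hS⟩ := hY.exists_le_sylow
      by_cases he : Y = (S : Subgroup G)
      · exact S.not_dvd_index (he ▸ hd')
      have := S.2.isNilpotent
      have hlt : Y < (S : Subgroup G) := lt_of_le_of_ne hS he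
      have h5 := Group.normalizerCondition_of_isNilpotent (G := (S : Subgroup G))
        (Y.subgroupOf (S : Subgroup G))
        (lt_top_iff_ne_top.2 fun h => hlt.not_ge (subgroupOf_eq_top.1 h))
      obtain ⟨⟨y, hyS⟩, hy, hyY⟩ := SetLike.exists_of_lt h5
      set W := normalizer (Y : Set G) ⊓ (S : Subgroup G) with hW
      have hyW : y ∈ W := ⟨mem_normalizer_fintype fun v hv =>
        (mem_normalizer_iff.1 hy ⟨v, hS hv⟩).1 hv, hyS⟩
      have hYW : Y ≤ W := le_inf le_normalizer hS
      obtain ⟨j, hj⟩ := (S.2.to_le (inf_le_right : W ≤ _)).index (Y.subgroupOf W)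
      have hj' : Y.relIndex W = p ^ j := hj
      rcases j with _ | j
      · exact hyY (show y ∈ Y from (relIndex_eq_one.1 (hj'.trans (pow_zero p)) : W ≤ Y) hyW)
      · exact hd (((hj'.symm ▸ dvd_pow_self p (Nat.succ_ne_zero j) : p ∣ Y.relIndex W)).trans
          ⟨_, (relIndex_mul_relIndex Y W _ hYW inf_le_left).symm⟩)
  set N₀ := Nat.card (normalizer ((P : Subgroup G) : Set G)) with hN₀
  have hconjN : ∀ S : Sylow p G, Nat.card (normalizer ((S : Subgroup G) : Set G)) = N₀ := by
    intro S
    obtain ⟨g, rfl⟩ := MulAction.exists_smul_eq G P S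
    refine Eq.trans ?_ (card_map_of_injective (K := normalizer ((P : Subgroup G) : Set G))
      (f := (MulAut.conj g).toMonoidHom) (MulAut.conj g).injective)
    rw [map_equiv_normalizer_eq]
    rfl
  have hfirst : Nat.card {g : G // Valid H g} =
      Nat.card {Q : Sylow p G // H ≤ (Q : Subgroup G)} * N₀ := by
    zify
    rw [← hcount, Finset.sum_congr rfl (fun Y hY => hwt Y (by
      simp only [Set.Finite.mem_toFinset, Set.mem_ofPred_eq] at hY; exact hY.2.2))]
    rw [Finset.sum_ite, Finset.sum_const_zero, zero_add, Nat.card_eq_fintype_card, Fintype.card_subtype,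
      ← nsmul_eq_mul, ← Finset.sum_const]
    symm
    refine Finset.sum_bij (fun S _ => (S : Subgroup G)) (fun S hS => ?_) (fun S _ S' _ h => Sylow.ext h)
      (fun Y hY => ?_) (fun S _ => by rw [hconjN])
    · simp only [Finset.mem_filter, Finset.mem_univ, true_and] at hS
      simp only [Finset.mem_filter, Set.Finite.mem_toFinset, Set.mem_ofPred_eq]
      exact ⟨⟨hS, le_top, S.2⟩, S.not_dvd_index⟩
    · simp only [Finset.mem_filter, Set.Finite.mem_toFinset, Set.mem_ofPred_eq] at hY
      exact ⟨hY.1.2.2.toSylow hY.2, Finset.mem_filter.2 ⟨Finset.mem_univ _, hY.1.1⟩, rfl⟩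
  refine ⟨hfirst, hfirst.trans ?_⟩
  -- double counting of the pairs conjugate of `H` inside a Sylow subgroup
  let C := {K : Subgroup G // ∃ g : G, K = H.map (MulAut.conj g).toMonoidHom}
  let := Fintype.ofFinite C
  let R : C → Sylow p G → Prop := fun K Q => K.1 ≤ (Q : Subgroup G)
  have hmm : ∀ (g k : G) (L : Subgroup G), (L.map (MulAut.conj g).toMonoidHom).map (MulAut.conj k).toMonoidHom =
      L.map (MulAut.conj (k * g)).toMonoidHom := fun g k L => by
    rw [map_map]; congr 1; exact MonoidHom.ext fun z => by simp [mul_assoc]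
  have hone : ∀ L : Subgroup G, L.map (MulAut.conj (1 : G)).toMonoidHom = L := fun L => by
    rw [show (MulAut.conj (1 : G)).toMonoidHom = MonoidHom.id G from MonoidHom.ext fun z => by simp, map_id]
  have hA : ∀ K : C, Nat.card {Q : Sylow p G // R K Q} = Nat.card {Q : Sylow p G // H ≤ (Q : Subgroup G)} := by
    rintro ⟨_, g, rfl⟩
    refine Nat.card_congr (Equiv.subtypeEquiv (MulAction.toPerm g⁻¹) fun Q => ?_)
    show H.map (MulAut.conj g).toMonoidHom ≤ (Q : Subgroup G) ↔
      H ≤ (Q : Subgroup G).map (MulAut.conj g⁻¹).toMonoidHom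
    constructor
    · intro h
      have := map_mono (f := (MulAut.conj g⁻¹).toMonoidHom) h
      rwa [hmm, inv_mul_cancel, hone] at this
    · intro h
      have := map_mono (f := (MulAut.conj g).toMonoidHom) h
      rwa [hmm, mul_inv_cancel, hone] at this
  have hB : ∀ Q : Sylow p G, Nat.card {K : C // R K Q} =
      Nat.card {K : Subgroup G // K ≤ (P : Subgroup G) ∧ ∃ g : G, K = H.map (MulAut.conj g).toMonoidHom} := by
    intro Q
    obtain ⟨k, rfl⟩ := MulAction.exists_smul_eq G P Q
    refine Nat.card_congr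
      { toFun := fun K => ⟨K.1.1.map (MulAut.conj k⁻¹).toMonoidHom, ?_, ?_⟩
        invFun := fun K => ⟨⟨K.1.map (MulAut.conj k).toMonoidHom, ?_⟩, ?_⟩
        left_inv := fun K => Subtype.ext (Subtype.ext (by
          show (K.1.1.map _).map _ = K.1.1
          rw [hmm, mul_inv_cancel, hone]))
        right_inv := fun K => Subtype.ext (by
          show (K.1.map _).map _ = K.1
          rw [hmm, inv_mul_cancel, hone]) }
    · have := map_mono (f := (MulAut.conj k⁻¹).toMonoidHom) K.2
      refine this.trans (le_of_eq ?_)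
      show ((P : Subgroup G).map (MulAut.conj k).toMonoidHom).map _ = _
      rw [hmm, inv_mul_cancel, hone]
    · obtain ⟨g, hg⟩ := K.1.2
      exact ⟨k⁻¹ * g, by rw [hg, hmm]⟩
    · obtain ⟨g, hg⟩ := K.2.2
      exact ⟨k * g, by rw [hg, hmm]⟩
    · exact map_mono K.2.1
  have htot : Nat.card C * Nat.card {Q : Sylow p G // H ≤ (Q : Subgroup G)} = Nat.card (Sylow p G) *
      Nat.card {K : Subgroup G // K ≤ (P : Subgroup G) ∧ ∃ g : G, K = H.map (MulAut.conj g).toMonoidHom} := by
    have e : (Σ K : C, {Q : Sylow p G // R K Q}) ≃ Σ Q : Sylow p G, {K : C // R K Q} :=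
      { toFun := fun x => ⟨x.2.1, x.1, x.2.2⟩
        invFun := fun x => ⟨x.2.1, x.1, x.2.2⟩
        left_inv := fun _ => rfl
        right_inv := fun _ => rfl }
    have h1 := Nat.card_congr e
    rw [Nat.card_sigma, Nat.card_sigma, Finset.sum_congr rfl (fun K _ => hA K),
      Finset.sum_congr rfl (fun Q _ => hB Q), Finset.sum_const, Finset.sum_const, Finset.card_univ,
      Finset.card_univ, smul_eq_mul, smul_eq_mul, ← Nat.card_eq_fintype_card,
      ← Nat.card_eq_fintype_card] at h1
    exact h1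
  have hCcard : Nat.card C * Nat.card (normalizer (H : Set G)) = Nat.card G := by
    rw [← index_mul_card (normalizer (H : Set G)), index_eq_card]
    congr 1
    refine (Nat.card_congr (Equiv.ofBijective (fun x : G ⧸ normalizer (H : Set G) => Quotient.liftOn' x
      (fun g => (⟨H.map (MulAut.conj g).toMonoidHom, g, rfl⟩ : C)) ?_) ⟨?_, ?_⟩)).symm
    · intro a b hab
      rw [QuotientGroup.leftRel_apply] at hab
      refine Subtype.ext ?_
      show H.map (MulAut.conj a).toMonoidHom = H.map (MulAut.conj b).toMonoidHom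
      have h1 : H.map (MulAut.conj (a⁻¹ * b)).toMonoidHom = H := mem_normalizer_iff_map_conj_eq.1 hab
      conv_lhs => rw [← h1, hmm, mul_inv_cancel_left]
    · intro x y hxy
      induction x using QuotientGroup.induction_on with | _ a =>
      induction y using QuotientGroup.induction_on with | _ b =>
      refine QuotientGroup.eq.2 (mem_normalizer_iff_map_conj_eq.2 ?_)
      have h1 : H.map (MulAut.conj a).toMonoidHom = H.map (MulAut.conj b).toMonoidHom :=
        congrArg Subtype.val hxy
      show H.map (MulAut.conj (a⁻¹ * b)).toMonoidHom = H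
      rw [← hmm, ← h1, hmm, inv_mul_cancel, hone]
    · rintro ⟨_, g, rfl⟩
      exact ⟨(g : G ⧸ normalizer (H : Set G)), rfl⟩
  have hn : Nat.card (Sylow p G) * N₀ = Nat.card G := by
    rw [Sylow.card_eq_index_normalizer P, hN₀]
    exact index_mul_card _
  have h2 := congrArg (fun m => m * (N₀ * Nat.card (normalizer (H : Set G)))) htot
  refine Nat.eq_of_mul_eq_mul_left (Nat.card_pos (α := G)) ?_
  calc Nat.card G * (Nat.card {Q : Sylow p G // H ≤ (Q : Subgroup G)} * N₀)
      = Nat.card C * Nat.card {Q : Sylow p G // H ≤ (Q : Subgroup G)} *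
          (N₀ * Nat.card (normalizer (H : Set G))) := by rw [← hCcard]; ring
    _ = _ := by rw [h2]; rw [← hn]; ring

end Cfsg.Agent.S4088
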