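import Cfsg.Statements.S4089
import Cfsg.Agent.Lib.Comp.Subnormal
import Cfsg.Agent.Lib.Solvable.PCore
import Cfsg.Agent.Lib.Solvable.Nilpotent

set_option linter.style.haveILetI false

set_option autoImplicit false
open Cfsg

namespace Cfsg.Agent.S4089

open Subgroup CfsgLib.Comp Pointwise

variable {G : Type*} [Group G] [Finite G] {p : ℕ} [hp : Fact p.Prime]

/-- `O_p` of the normalizer of `R`. -/
abbrev rad (p : ℕ) (R : Subgroup G) : Subgroup G :=
  (Cfsg.pCore p (normalizer (R : Set G))).map (normalizer (R : Set G)).subtype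

theorem isPGroup_rad (R : Subgroup G) : IsPGroup p (rad p R) :=
  (isPGroup_pCore p _).map _

theorem le_rad {R : Subgroup G} (hR : IsPGroup p R) : R ≤ rad p R := by
  have h : (R.subgroupOf (normalizer (R : Set G))) ≤ Cfsg.pCore p (normalizer (R : Set G)) :=
    le_sSup ⟨normal_in_normalizer, hR.of_equiv (subgroupOfEquivOfLe le_normalizer).symm⟩
  have := map_mono (f := (normalizer (R : Set G)).subtype) h
  rwa [map_subgroupOf_eq_of_le le_normalizer] at this

theorem normalizer_le_rad (R : Subgroup G) :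
    normalizer (R : Set G) ≤ normalizer (rad p R : Set G) := by
  haveI := CfsgLib.Solvable.pCore_normal p (normalizer (R : Set G))
  have := le_normalizer_map (f := (normalizer (R : Set G)).subtype)
    (H := Cfsg.pCore p (normalizer (R : Set G)))
  rwa [normalizer_eq_top (H := Cfsg.pCore p (normalizer (R : Set G))), ← MonoidHom.range_eq_map,
    range_subtype] at this

theorem subnormal_iff {H : Subgroup G} (hH : IsPGroup p H) (g : G) :
    (H.subgroupOf (H ⊔ zpowers g)).IsSubnormal ↔
      ∃ R : Subgroup G, IsPGroup p R ∧ H ≤ R ∧ g ∈ normalizer (R : Set G) := by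
  set X := H ⊔ zpowers g with hX
  constructor
  · intro h
    refine ⟨(Cfsg.pCore p X).map X.subtype, (isPGroup_pCore p X).map _, ?_, ?_⟩
    · have := map_mono (f := X.subtype)
        (le_pCore_of_isSubnormal h (hH.of_equiv (subgroupOfEquivOfLe le_sup_left).symm))
      rwa [map_subgroupOf_eq_of_le le_sup_left] at this
    · haveI := CfsgLib.Solvable.pCore_normal p X
      have h' := le_normalizer_map (f := X.subtype) (H := Cfsg.pCore p X)
      rw [normalizer_eq_top, ← MonoidHom.range_eq_map, range_subtype] at h'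
      exact h' ((le_sup_right : zpowers g ≤ X) (mem_zpowers g))
  · rintro ⟨R, hR, hHR, hg⟩
    have hXR : X ≤ normalizer (R : Set G) :=
      sup_le (hHR.trans le_normalizer) (zpowers_le.2 hg)
    set R' := R.subgroupOf X with hR'
    have hRp : IsPGroup p R' := by
      refine hR.of_injective ((X.subtype.comp R'.subtype).codRestrict R fun x => x.2) ?_
      intro a b hab
      exact Subtype.ext (Subtype.ext (congrArg (fun z : R => (z : G)) hab))
    have hle : H.subgroupOf X ≤ R' := comap_mono hHR
    haveI := hRp.isNilpotent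
    have h1 : ((H.subgroupOf X).subgroupOf R').IsSubnormal :=
      CfsgLib.Solvable.isSubnormal_of_isNilpotent _
    have h2 : R'.IsSubnormal := (normal_subgroupOf_of_le_normalizer hXR).isSubnormal
    have h3 := h1.trans' h2
    rwa [map_subgroupOf_eq_of_le hle] at h3

theorem inf_sylow_normal {N : Type*} [Group N] [Finite N] :
    (⨅ S : Sylow p N, (S : Subgroup N)).Normal := by
  refine ⟨fun x hx g => mem_iInf.2 fun S => ?_⟩
  have := mem_iInf.1 hx (g⁻¹ • S)
  rw [Sylow.coe_subgroup_smul, mem_pointwise_smul_iff_inv_smul_mem] at this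
  simpa [MulAut.smul_def] using this

theorem exists_radical (R : Subgroup G) (hR : IsPGroup p R) :
    ∃ R' : Subgroup G, R ≤ R' ∧ rad p R' = R' ∧ normalizer (R : Set G) ≤ normalizer (R' : Set G) := by
  obtain ⟨k, hk⟩ : ∃ k, R.index = k := ⟨_, rfl⟩
  induction k using Nat.strong_induction_on generalizing R with
  | _ k ih =>
    rcases eq_or_ne (rad p R) R with he | he
    · exact ⟨R, le_rfl, he, le_rfl⟩
    have hlt : R < rad p R := lt_of_le_of_ne (le_rad hR) (Ne.symm he)
    obtain ⟨R', h1, h2, h3⟩ := ih _ (hk ▸ index_strictAnti hlt) (rad p R) (isPGroup_rad R) rfl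
    exact ⟨R', hlt.le.trans h1, h2, (normalizer_le_rad R).trans h3⟩


/-- Let G be a finite group, p a prime and H a p-subgroup of G. Then the set of elements g of G such that H is subnormal in the subgroup generated by H and g is the union of the normalizers N_G(R) over the subgroups R of G containing H with R = O_p(N_G(R)); and this set does not change when H is replaced by the intersection of all Sylow p-subgroups of G containing H. -/
theorem result {G : Type*} [Group G] [Finite G] (p : ℕ) [Fact p.Prime]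
    (H : Subgroup G) (hH : IsPGroup p H) :
    {g : G | ((H).subgroupOf (H ⊔ Subgroup.zpowers g)).IsSubnormal} =
      {g : G | ∃ R : Subgroup G, H ≤ R ∧ (Cfsg.pCore p (Subgroup.normalizer (R : Set G))).map (Subgroup.normalizer (R : Set G)).subtype = R ∧ g ∈ Subgroup.normalizer (R : Set G)} ∧
    ∀ g : G, (((H).subgroupOf (H ⊔ Subgroup.zpowers g)).IsSubnormal ↔
      (((sInf {K : Subgroup G | ∃ Q : Sylow p G, H ≤ (Q : Subgroup G) ∧ K = (Q : Subgroup G)})).subgroupOf ((sInf {K : Subgroup G | ∃ Q : Sylow p G, H ≤ (Q : Subgroup G) ∧ K = (Q : Subgroup G)}) ⊔ Subgroup.zpowers g)).IsSubnormal) := by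
  refine ⟨Set.ext fun g => ?_, fun g => ?_⟩
  · simp only [Set.mem_setOf_eq]
    rw [subnormal_iff hH]
    constructor
    · rintro ⟨R, hR, hHR, hg⟩
      obtain ⟨R', h1, h2, h3⟩ := exists_radical R hR
      exact ⟨R', hHR.trans h1, h2, h3 hg⟩
    · rintro ⟨R, hHR, hR, hg⟩
      exact ⟨R, hR ▸ isPGroup_rad R, hHR, hg⟩
  · set I := sInf {K : Subgroup G | ∃ Q : Sylow p G, H ≤ (Q : Subgroup G) ∧ K = (Q : Subgroup G)}
      with hI
    obtain ⟨Q₀, hQ₀⟩ := hH.exists_le_sylow
    have hHI : H ≤ I := le_sInf fun K ⟨Q, hQ, hK⟩ => hK ▸ hQ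
    have hIp : IsPGroup p I := Q₀.2.to_le (sInf_le ⟨Q₀, hQ₀, rfl⟩)
    rw [subnormal_iff hH, subnormal_iff hIp]
    refine ⟨?_, fun ⟨R, hR, h, hg⟩ => ⟨R, hR, hHI.trans h, hg⟩⟩
    rintro ⟨R, hR, hHR, hg⟩
    obtain ⟨R', h1, h2, h3⟩ := exists_radical R hR
    have hR' : IsPGroup p R' := h2 ▸ isPGroup_rad R'
    refine ⟨R', hR', ?_, h3 hg⟩
    obtain ⟨Q₁, hQ₁⟩ := hR'.exists_le_sylow
    set T := I ⊔ R' with hT
    have hTQ : ∀ Q : Sylow p G, R' ≤ (Q : Subgroup G) → T ≤ (Q : Subgroup G) := fun Q hQ =>
      sup_le (sInf_le ⟨Q, (hHR.trans h1).trans hQ, rfl⟩) hQ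
    by_contra hI'
    have hlt : R'.subgroupOf T < ⊤ := by
      rw [lt_top_iff_ne_top, Ne, subgroupOf_eq_top]
      exact fun h => hI' (le_sup_left.trans h)
    have hTp : IsPGroup p T := Q₁.2.to_le (hTQ Q₁ hQ₁)
    haveI := hTp.isNilpotent
    have hgr := Group.normalizerCondition_of_isNilpotent (G := T) _ hlt
    obtain ⟨x, hx, hxR⟩ := SetLike.exists_of_lt hgr
    have hxN : (x : G) ∈ normalizer (R' : Set G) := by
      rw [mem_normalizer_iff]
      intro z
      constructor
      · intro hz
        have hzT : z ∈ T := (le_sup_right : R' ≤ T) hz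
        exact (mem_normalizer_iff.1 hx ⟨z, hzT⟩).1 hz
      · intro hz
        have hzT : z ∈ T := by
          have := (le_sup_right : R' ≤ T) hz
          have h4 := mul_mem (mul_mem (inv_mem x.2) this) x.2
          simpa [mul_assoc] using h4
        exact (mem_normalizer_iff.1 hx ⟨z, hzT⟩).2 hz
    refine hxR ?_
    show (x : G) ∈ R'
    rw [← h2]
    refine ⟨⟨x, hxN⟩, ?_, rfl⟩
    -- `x` lies in every Sylow subgroup of the normalizer
    have hall : ∀ S : Sylow p (normalizer (R' : Set G)), (⟨x, hxN⟩ : normalizer (R' : Set G)) ∈ S := by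
      intro S
      haveI : (R'.subgroupOf (normalizer (R' : Set G))).Normal := normal_in_normalizer
      have hRS : R'.subgroupOf (normalizer (R' : Set G)) ≤ (S : Subgroup _) := by
        have hp' : IsPGroup p (R'.subgroupOf (normalizer (R' : Set G))) :=
          hR'.of_equiv (subgroupOfEquivOfLe le_normalizer).symm
        have hsup := hp'.to_sup_of_normal_left S.2
        exact le_sup_left.trans (le_of_eq (S.3 hsup le_sup_right))
      obtain ⟨Q, hQ⟩ := (S.2.map (normalizer (R' : Set G)).subtype).exists_le_sylow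
      have hR'Q : R' ≤ (Q : Subgroup G) := by
        refine le_trans ?_ ((map_mono hRS).trans hQ)
        rw [map_subgroupOf_eq_of_le le_normalizer]
      have hxQ : (x : G) ∈ (Q : Subgroup G) := hTQ Q hR'Q x.2
      have hS : (Q : Subgroup G).subgroupOf (normalizer (R' : Set G)) = (S : Subgroup _) := by
        refine S.3 ?_ (map_le_iff_le_comap.1 hQ)
        refine Q.2.of_injective (((normalizer (R' : Set G)).subtype.comp
          ((Q : Subgroup G).subgroupOf (normalizer (R' : Set G))).subtype).codRestrict Q fun x => x.2) ?_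
        intro a b hab
        exact Subtype.ext (Subtype.ext (congrArg (fun z : (Q : Subgroup G) => (z : G)) hab))
      show _ ∈ S.toSubgroup
      rw [← hS]; exact hxQ
    exact (le_sSup (show (⨅ S : Sylow p (normalizer (R' : Set G)), (S : Subgroup _)) ∈
        {N : Subgroup (normalizer (R' : Set G)) | N.Normal ∧ IsPGroup p N} from
      ⟨inf_sylow_normal, (Sylow.nonempty.some).2.to_le (iInf_le _ _)⟩)) (mem_iInf.2 hall)

end Cfsg.Agent.S4089
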