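import Cfsg.Statements.S4090
import Cfsg.Agent.Lib.StructB.SubnormalCount

set_option autoImplicit false
open scoped BigOperators
open Cfsg

namespace Cfsg.Agent.S4090

open Subgroup CfsgLib.StructB.SnCount

universe u

variable {G : Type u} [Group G] [Finite G] {p : ℕ} [Fact p.Prime]

/-- The `p`-part of a factor. -/
noncomputable def pPart (p : ℕ) (a b : Subgroup G) : ℕ :=
  if (a.relIndex b).Coprime p then 1 else a.relIndex b

/-- The contribution of a factor prime to `p`. -/
noncomputable def cPart (p : ℕ) (H a b : Subgroup G) : ℕ :=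
  if (a.relIndex b).Coprime p then
    Nat.card {u : G // u ∈ b ∧ ∀ h ∈ H, h * u * h⁻¹ * u⁻¹ ∈ a} / Nat.card a
  else 1

/-- The number of cosets `gN` with `H` subnormal in `⟨H, g⟩` modulo `N`. -/
noncomputable def cnt (H N : Subgroup G) [N.Normal] : ℕ :=
  Nat.card {b : G ⧸ N // Valid (H.map (QuotientGroup.mk' N)) b}

theorem cnt_step {H : Subgroup G} (hH : IsPGroup p H) (a b : Subgroup G) [a.Normal] [b.Normal]
    (hab : a ≤ b) (hfac : (∃ m : ℕ, a.relIndex b = p ^ m) ∨ (a.relIndex b).Coprime p) :
    cnt H a = pPart p a b * cPart p H a b * cnt H b := by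
  classical
  let f : G ⧸ a →* G ⧸ b := QuotientGroup.map a b (MonoidHom.id G) (by rwa [Subgroup.comap_id])
  have hf : Function.Surjective f := fun z => by
    obtain ⟨g, rfl⟩ := QuotientGroup.mk_surjective z
    exact ⟨(g : G ⧸ a), rfl⟩
  have hker : f.ker = b.map (QuotientGroup.mk' a) := by
    ext z
    obtain ⟨g, rfl⟩ := QuotientGroup.mk_surjective z
    constructor
    · intro h
      exact ⟨g, (QuotientGroup.eq_one_iff g).1 (MonoidHom.mem_ker.1 h), rfl⟩
    · rintro ⟨g', hg', he⟩
      rw [MonoidHom.mem_ker, ← he]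
      exact (QuotientGroup.eq_one_iff g').2 hg'
  have hkc : Nat.card f.ker = a.relIndex b := by
    rw [hker, ← relIndex_bot_left, ← relIndex_comap, MonoidHom.comap_bot, QuotientGroup.ker_mk']
  have hmap : (H.map (QuotientGroup.mk' a)).map f = H.map (QuotientGroup.mk' b) := by
    rw [map_map]
    congr 1
  by_cases hc : (a.relIndex b).Coprime p
  · rw [pPart, cPart, if_pos hc, if_pos hc, one_mul, cnt, cnt,
      card_valid_of_coprime f hf (by rwa [hkc]) (hH.map (QuotientGroup.mk' a)), hmap]
    congr 1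
    have hset : Nat.card {u : G // u ∈ b ∧ ∀ h ∈ H, h * u * h⁻¹ * u⁻¹ ∈ a} =
        Nat.card a * Nat.card ↥(f.ker ⊓ centralizer (H.map (QuotientGroup.mk' a) : Set (G ⧸ a))) := by
      rw [← Nat.card_prod]
      refine Nat.card_congr ((Equiv.subtypeEquivRight fun u => ?_).trans
        (QuotientGroup.preimageMkEquivSubgroupProdSet a
          ((f.ker ⊓ centralizer (H.map (QuotientGroup.mk' a) : Set (G ⧸ a)) : Subgroup (G ⧸ a)) : Set (G ⧸ a))))
      rw [Set.mem_preimage, SetLike.mem_coe, mem_inf, MonoidHom.mem_ker, mem_centralizer_iff]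
      refine and_congr (QuotientGroup.eq_one_iff u).symm ?_
      constructor
      · rintro h _ ⟨x, hx, rfl⟩
        have h1 : ((x * u * x⁻¹ * u⁻¹ : G) : G ⧸ a) = 1 := (QuotientGroup.eq_one_iff _).2 (h x hx)
        rw [QuotientGroup.mk_mul, QuotientGroup.mk_inv, mul_inv_eq_one, QuotientGroup.mk_mul,
          QuotientGroup.mk_inv, mul_inv_eq_iff_eq_mul, QuotientGroup.mk_mul] at h1
        exact h1
      · intro h x hx
        rw [← QuotientGroup.eq_one_iff, QuotientGroup.mk_mul, QuotientGroup.mk_inv, mul_inv_eq_one,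
          QuotientGroup.mk_mul, QuotientGroup.mk_inv, mul_inv_eq_iff_eq_mul, QuotientGroup.mk_mul]
        exact h _ ⟨x, hx, rfl⟩
    rw [hset, Nat.mul_div_cancel_left _ Nat.card_pos]
  · obtain ⟨m, hm⟩ := hfac.resolve_right hc
    rw [pPart, cPart, if_neg hc, if_neg hc, mul_one, cnt, cnt,
      card_valid_of_pgroup f hf (IsPGroup.of_card (hkc.trans hm)) (hH.map (QuotientGroup.mk' a)), hmap,
      hkc]

theorem chain {H : Subgroup G} (hH : IsPGroup p H) :
    ∀ (n : ℕ) (M : Fin (n + 1) → Subgroup G), M (Fin.last n) = ⊤ → Monotone M →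
      (∀ i, (M i).Normal) →
      (∀ i : Fin n, (∃ m : ℕ, (M i.castSucc).relIndex (M i.succ) = p ^ m) ∨
        ((M i.castSucc).relIndex (M i.succ)).Coprime p) →
      (∏ i : Fin n, pPart p (M i.castSucc) (M i.succ)) = p ^ (M 0).index.factorization p ∧
      ∀ [(M 0).Normal], cnt H (M 0) =
        (∏ i : Fin n, pPart p (M i.castSucc) (M i.succ)) *
          ∏ i : Fin n, cPart p H (M i.castSucc) (M i.succ) := by
  intro n
  induction n with
  | zero =>
    intro M hn _ _ _
    have h0 : M 0 = ⊤ := hn
    refine ⟨by simp [h0], ?_⟩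
    intro _
    have : Subsingleton (G ⧸ M 0) := Finite.card_le_one_iff_subsingleton.1
      (by rw [← index_eq_card, h0, index_top])
    have hv : Valid (H.map (QuotientGroup.mk' (M 0))) (1 : G ⧸ M 0) :=
      (valid_iff (hH.map _) 1).2 (IsPGroup.of_card (n := 0) (by rw [pow_zero]; exact Nat.card_of_subsingleton 1))
    have : Nonempty {b : G ⧸ M 0 // Valid (H.map (QuotientGroup.mk' (M 0))) b} := ⟨⟨1, hv⟩⟩
    simp [cnt]
  | succ n ih =>
    intro M hn hmono hnormal hfac
    obtain ⟨hp1, hc1⟩ := ih (fun i => M i.succ) hn (fun i j h => hmono (Fin.succ_le_succ_iff.2 h))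
      (fun i => hnormal _) (fun i => by have h := hfac i.succ; rw [← Fin.succ_castSucc] at h; exact h)
    have hab : M 0 ≤ M (0 : Fin (n + 1)).succ := hmono (Fin.zero_le _)
    have he : ∀ i : Fin n, M i.succ.castSucc = M i.castSucc.succ := fun i => by rw [Fin.succ_castSucc]
    constructor
    · rw [Fin.prod_univ_succ, Fin.castSucc_zero]
      simp only [he]
      rw [hp1, ← relIndex_mul_index hab, Nat.factorization_mul
        (show (M 0).relIndex (M (0 : Fin (n + 1)).succ) ≠ 0 from index_ne_zero_of_finite)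
        index_ne_zero_of_finite, Finsupp.add_apply, pow_add]
      congr 1
      have hf0 := hfac 0
      rw [Fin.castSucc_zero] at hf0
      unfold pPart
      split_ifs with hc
      · rw [Nat.factorization_eq_zero_of_not_dvd ((Fact.out : p.Prime).coprime_iff_not_dvd.1 hc.symm),
          pow_zero]
      · obtain ⟨m, hm⟩ := hf0.resolve_right hc
        rw [hm, (Fact.out : p.Prime).factorization_pow, Finsupp.single_eq_same]
    · intro _
      have := hnormal (0 : Fin (n + 1)).succ
      have hf0 := hfac 0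
      rw [Fin.castSucc_zero] at hf0
      rw [Fin.prod_univ_succ, Fin.prod_univ_succ, Fin.castSucc_zero]
      simp only [he]
      rw [cnt_step hH (M 0) (M (0 : Fin (n + 1)).succ) hab hf0, hc1]
      ring

/-- Let G be a finite p-solvable group, H a p-subgroup of G and P a Sylow p-subgroup, and fix a chain of normal subgroups 1 = M₀ ≤ M₁ ≤ ⋯ ≤ Mₙ = G of G each of whose factors is a p-group or a p'-group. Then the number of elements g of G such that H is subnormal in the subgroup generated by H and g equals the order of P times the product, over the factors Mᵢ₊₁/Mᵢ of order prime to p, of the order of the centralizer of H in Mᵢ₊₁/Mᵢ (counted as the number of u ∈ Mᵢ₊₁ with [h, u] ∈ Mᵢ for all h ∈ H, divided by the order of Mᵢ). -/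
theorem result {G : Type*} [Group G] [Finite G] (p : ℕ) [Fact p.Prime]
    (hG : Cfsg.IsPSolvable p G) (H : Subgroup G) (hH : IsPGroup p H) (P : Sylow p G)
    (n : ℕ) (M : Fin (n + 1) → Subgroup G) (h0 : M 0 = ⊥) (hn : M (Fin.last n) = ⊤) (hmono : Monotone M)
    (hnormal : ∀ i, (M i).Normal)
    (hfac : ∀ i : Fin n, (∃ m : ℕ, (M i.castSucc).relIndex (M i.succ) = p ^ m) ∨ ((M i.castSucc).relIndex (M i.succ)).Coprime p) :
    Nat.card {g : G // ((H).subgroupOf (H ⊔ Subgroup.zpowers g)).IsSubnormal} =
      Nat.card (P : Subgroup G) *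
        ∏ i : Fin n, (if ((M i.castSucc).relIndex (M i.succ)).Coprime p then
          Nat.card {u : G // u ∈ M i.succ ∧ ∀ h ∈ H, h * u * h⁻¹ * u⁻¹ ∈ M i.castSucc} / Nat.card (M i.castSucc)
          else 1) := by
  classical
  have := hnormal 0
  obtain ⟨h1, h2⟩ := chain hH n M hn hmono hnormal hfac
  have hker : (QuotientGroup.mk' (M 0)).ker = M 0 := QuotientGroup.ker_mk' _
  have h3 := card_valid_of_pgroup (QuotientGroup.mk' (M 0)) (QuotientGroup.mk'_surjective _)
    (p := p) (IsPGroup.of_card (n := 0) (by rw [hker, h0, pow_zero, card_bot])) hH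
  rw [show Nat.card (QuotientGroup.mk' (M 0)).ker = 1 by rw [hker, h0, card_bot], one_mul] at h3
  refine h3.trans (h2.trans ?_)
  rw [h1, P.card_eq_multiplicity, h0, index_bot]
  rfl

end Cfsg.Agent.S4090
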