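import Cfsg.Statements.S4091
import Cfsg.Agent.Lib.StructB.CoprimeFixedProduct
import Cfsg.Agent.Lib.StructB.SubnormalCount
import Mathlib.Analysis.MeanInequalities

set_option autoImplicit false
open Cfsg

namespace Cfsg.Agent.S4091

open Subgroup

universe u

variable {p : ℕ} [hp : Fact p.Prime]

/-- The number of Sylow subgroups containing `H`. -/
noncomputable def nSyl (p : ℕ) {A : Type*} [Group A] (H : Subgroup A) : ℕ :=
  Nat.card {P : Sylow p A // H ≤ (P : Subgroup A)}

theorem nSyl_bot (A : Type*) [Group A] : nSyl p (⊥ : Subgroup A) = Nat.card (Sylow p A) :=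
  Nat.card_congr (Equiv.subtypeUnivEquiv fun _ => bot_le)

theorem nSyl_pos {A : Type*} [Group A] [Finite A] {H : Subgroup A} (hH : IsPGroup p H) :
    0 < nSyl p H := by
  obtain ⟨T, hT⟩ := hH.exists_le_sylow
  have : Nonempty {P : Sylow p A // H ≤ (P : Subgroup A)} := ⟨⟨T, hT⟩⟩
  exact Nat.card_pos

theorem nSyl_conj {A : Type*} [Group A] (g x : A) :
    nSyl p (zpowers (g * x * g⁻¹)) = nSyl p (zpowers x) := by
  refine Nat.card_congr (Equiv.subtypeEquiv (MulAction.toPerm g⁻¹) fun P => ?_)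
  show zpowers (g * x * g⁻¹) ≤ (P : Subgroup A) ↔ zpowers x ≤ ((g⁻¹ • P : Sylow p A) : Subgroup A)
  rw [zpowers_le, zpowers_le]
  constructor
  · intro h
    exact ⟨g * x * g⁻¹, h, by simp [mul_assoc]⟩
  · rintro ⟨y, hy, hyx⟩
    have : y = g * x * g⁻¹ := by
      have h' : g⁻¹ * y * g⁻¹⁻¹ = x := hyx
      rw [← h']; group
    rwa [← this]

section Map

variable {A : Type u} [Group A] [Finite A] {B : Type*} [Group B] [Finite B]

theorem card_ker_inf_normalizer (f : A →* B) (hker : (Nat.card f.ker).Coprime p) (Q : Subgroup A)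
    (hQ : IsPGroup p Q) :
    f.ker ⊓ normalizer (Q : Set A) = f.ker ⊓ centralizer (Q : Set A) := by
  refine le_antisymm (fun n hn => ⟨hn.1, mem_centralizer_iff.2 fun q hq => ?_⟩)
    (inf_le_inf_left _ (centralizer_le_normalizer _))
  have h1 : n * q * n⁻¹ * q⁻¹ ∈ f.ker ⊓ Q := by
    refine ⟨MonoidHom.mem_ker.2 ?_, Q.mul_mem ((mem_normalizer_iff.1 hn.2 q).1 hq) (Q.inv_mem hq)⟩
    simp [MonoidHom.mem_ker.1 hn.1]
  obtain ⟨k, hk⟩ := hQ.exists_card_eq
  rw [(disjoint_of_coprime_natCard (hk ▸ Nat.Coprime.pow_right k hker)).eq_bot, mem_bot] at h1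
  exact (mul_inv_eq_iff_eq_mul.1 (mul_inv_eq_one.1 h1)).symm

theorem nSyl_map_coprime (f : A →* B) (hf : Function.Surjective f) (hker : (Nat.card f.ker).Coprime p)
    (P₀ : Sylow p A) {H : Subgroup A} (hH : IsPGroup p H) :
    nSyl p H * Nat.card ↥(f.ker ⊓ centralizer ((P₀ : Subgroup A) : Set A)) =
      Nat.card ↥(f.ker ⊓ centralizer (H : Set A)) * nSyl p (H.map f) := by
  classical
  set N := f.ker with hN
  set d := Nat.card ↥(N ⊓ centralizer ((P₀ : Subgroup A) : Set A)) with hd
  set C := N ⊓ centralizer (H : Set A) with hC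
  have hdisj : ∀ Q : Subgroup A, IsPGroup p Q → N ⊓ Q = ⊥ := fun Q hQ => by
    obtain ⟨k, hk⟩ := hQ.exists_card_eq
    exact (disjoint_of_coprime_natCard (hk ▸ Nat.Coprime.pow_right k hker)).eq_bot
  have hdconst : ∀ P : Sylow p A, Nat.card ↥(N ⊓ centralizer ((P : Subgroup A) : Set A)) = d := by
    intro P
    obtain ⟨g, rfl⟩ := MulAction.exists_smul_eq A P₀ P
    have he : (N ⊓ centralizer ((P₀ : Subgroup A) : Set A)).map (MulAut.conj g).toMonoidHom =
        N ⊓ centralizer (((g • P₀ : Sylow p A) : Subgroup A) : Set A) := by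
      have hNn : N.Normal := inferInstance
      ext y
      constructor
      · rintro ⟨u, ⟨hu1, hu2⟩, rfl⟩
        refine ⟨hNn.conj_mem u hu1 g, mem_centralizer_iff.2 ?_⟩
        rintro _ ⟨q, hq, rfl⟩
        show (MulAut.conj g) q * (MulAut.conj g) u = (MulAut.conj g) u * (MulAut.conj g) q
        rw [← map_mul, mem_centralizer_iff.1 hu2 q hq, map_mul]
      · rintro ⟨hy1, hy2⟩
        refine ⟨g⁻¹ * y * g, ⟨by simpa using hNn.conj_mem y hy1 g⁻¹, mem_centralizer_iff.2 fun q hq => ?_⟩,
          by simp [mul_assoc]⟩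
        have h1 := mem_centralizer_iff.1 hy2 (g * q * g⁻¹) ⟨q, hq, rfl⟩
        calc q * (g⁻¹ * y * g) = g⁻¹ * (g * q * g⁻¹ * y) * g := by group
          _ = g⁻¹ * (y * (g * q * g⁻¹)) * g := by rw [h1]
          _ = g⁻¹ * y * g * q := by group
    rw [← he, card_map_of_injective (MulAut.conj g).injective]
  let φ : {P : Sylow p A // H ≤ (P : Subgroup A)} → {Q : Sylow p B // H.map f ≤ (Q : Subgroup B)} :=
    fun P => ⟨P.1.mapSurjective hf, map_mono P.2⟩
  have hfib : ∀ Q, Nat.card {P // φ P = Q} * d = Nat.card C := by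
    intro Q
    have hHJ : H ≤ (Q.1 : Subgroup B).comap f := map_le_iff_le_comap.1 Q.2
    obtain ⟨T, hT⟩ := (hH.of_equiv (subgroupOfEquivOfLe hHJ).symm).exists_le_sylow
    set Q₁ := (T : Subgroup ((Q.1 : Subgroup B).comap f)).map (Subgroup.subtype _) with hQ₁
    have hQ₁f : Q₁.map f = Q.1 := by
      have hsurj : Function.Surjective (f.subgroupComap (Q.1 : Subgroup B)) :=
        MonoidHom.subgroupComap_surjective_of_surjective _ _ hf
      have h1 : (T : Subgroup _).map (f.subgroupComap (Q.1 : Subgroup B)) = ⊤ :=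
        ((T.mapSurjective hsurj).3 (Q.1.2.to_subgroup ⊤) le_top).symm
      rw [hQ₁, map_map]
      have h2 := congrArg (Subgroup.map (Q.1 : Subgroup B).subtype) h1
      rw [map_map, ← MonoidHom.range_eq_map, range_subtype] at h2
      exact h2
    obtain ⟨P₁, hP₁⟩ := (T.2.map (Subgroup.subtype _) : IsPGroup p Q₁).exists_le_sylow
    have hHP₁ : H ≤ (P₁ : Subgroup A) := fun x hx => hP₁ ⟨⟨x, hHJ hx⟩, hT hx, rfl⟩
    have hP₁Q : φ ⟨P₁, hHP₁⟩ = Q := Subtype.ext (Sylow.ext
      (Q.1.3 ((P₁.mapSurjective hf).2) (hQ₁f.symm.le.trans (map_mono hP₁))))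
    have hmem : ∀ c ∈ C, H ≤ (((c • P₁ : Sylow p A)) : Subgroup A) := fun c hc h hh =>
      ⟨h, hHP₁ hh, by
        show c * h * c⁻¹ = h
        rw [← mem_centralizer_iff.1 hc.2 h hh, mul_inv_cancel_right]⟩
    have hφc : ∀ c ∈ C, ∀ hc' : H ≤ (((c • P₁ : Sylow p A)) : Subgroup A), φ ⟨c • P₁, hc'⟩ = Q := by
      intro c hc hc'
      rw [← hP₁Q]
      refine Subtype.ext (Sylow.ext ?_)
      show (((c • P₁ : Sylow p A)) : Subgroup A).map f = (P₁ : Subgroup A).map f
      show ((P₁ : Subgroup A).map (MulAut.conj c).toMonoidHom).map f = (P₁ : Subgroup A).map f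
      rw [map_map]
      congr 1
      exact MonoidHom.ext fun z => by simp [MonoidHom.mem_ker.1 hc.1]
    let S : Subgroup C := (normalizer ((P₁ : Subgroup A) : Set A)).subgroupOf C
    have hcard : Nat.card S = d := by
      rw [← hdconst P₁, ← card_ker_inf_normalizer f hker _ P₁.2]
      refine Nat.card_congr ((MulEquiv.subgroupCongr
        (inf_subgroupOf_right (normalizer ((P₁ : Subgroup A) : Set A)) C).symm).trans
        (subgroupOfEquivOfLe inf_le_right)).toEquiv |>.trans ?_
      congr 2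
      refine le_antisymm (fun n hn => ⟨hn.2.1, hn.1⟩) fun n hn => ⟨hn.2, hn.1, ?_⟩
      have h1 : n ∈ N ⊓ centralizer ((P₁ : Subgroup A) : Set A) := by
        rw [← card_ker_inf_normalizer f hker _ P₁.2]; exact hn
      exact centralizer_le hHP₁ h1.2
    rw [← hcard]
    rw [← (S.index_mul_card), index_eq_card]
    congr 1
    refine (Nat.card_congr (Equiv.ofBijective (fun x : C ⧸ S => Quotient.liftOn' x
      (fun c : C => (⟨⟨(c : A) • P₁, hmem c c.2⟩, hφc c c.2 _⟩ : {P // φ P = Q})) ?_) ⟨?_, ?_⟩)).symm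
    · intro a b hab
      rw [QuotientGroup.leftRel_apply] at hab
      refine Subtype.ext (Subtype.ext ?_)
      show (a : A) • P₁ = (b : A) • P₁
      have h1 : ((a : A)⁻¹ * b) • P₁ = P₁ := Sylow.smul_eq_iff_mem_normalizer.2 hab
      calc (a : A) • P₁ = (a : A) • (((a : A)⁻¹ * b) • P₁) := by rw [h1]
        _ = (b : A) • P₁ := by rw [← mul_smul, mul_inv_cancel_left]
    · intro a b hab
      induction a using QuotientGroup.induction_on with | _ a =>
      induction b using QuotientGroup.induction_on with | _ b =>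
      have h1 : (a : A) • P₁ = (b : A) • P₁ :=
        congrArg (fun P : {P // φ P = Q} => P.1.1) hab
      refine QuotientGroup.eq.2 ?_
      show ((a⁻¹ * b : C) : A) ∈ normalizer ((P₁ : Subgroup A) : Set A)
      refine Sylow.smul_eq_iff_mem_normalizer.1 ?_
      rw [Subgroup.coe_mul, Subgroup.coe_inv, mul_smul, ← h1, inv_smul_smul]
    · rintro ⟨⟨P, hHP⟩, hPQ⟩
      have hPf : (P : Subgroup A).map f = (P₁ : Subgroup A).map f :=
        congrArg (fun R : {Q : Sylow p B // H.map f ≤ (Q : Subgroup B)} => (R.1 : Subgroup B))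
          (hPQ.trans hP₁Q.symm)
      have hsup : N ⊔ (P : Subgroup A) = N ⊔ (P₁ : Subgroup A) := by
        have h1 := congrArg (Subgroup.comap f) hPf
        rwa [comap_map_eq, comap_map_eq, sup_comm, sup_comm _ f.ker] at h1
      obtain ⟨k, hk⟩ := P₁.2.exists_card_eq
      obtain ⟨l, hl⟩ := P.2.exists_card_eq
      have := P₁.2.isNilpotent
      obtain ⟨n, hn, hne⟩ := CfsgLib.Coprime.exists_conj_eq_of_coprime (N := N)
        (A := (P₁ : Subgroup A)) (B := (P : Subgroup A))
        (by rw [normalizer_eq_top N]; exact le_top) (by rw [normalizer_eq_top N]; exact le_top)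
        hsup.symm (hk ▸ Nat.Coprime.pow_left k hker.symm) (hl ▸ Nat.Coprime.pow_left l hker.symm)
        (Or.inl inferInstance)
      have hnC : n ∈ C := by
        refine ⟨hn, mem_centralizer_iff.2 fun h hh => ?_⟩
        obtain ⟨q, hq, hqh⟩ : h ∈ (P₁ : Subgroup A).map (MulAut.conj n).toMonoidHom := hne ▸ hHP hh
        have hqh' : n * q * n⁻¹ = h := hqh
        have h1 : q * h⁻¹ ∈ N ⊓ (P₁ : Subgroup A) := by
          refine ⟨MonoidHom.mem_ker.2 ?_,
            (P₁ : Subgroup A).mul_mem hq ((P₁ : Subgroup A).inv_mem (hHP₁ hh))⟩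
          rw [← hqh']
          simp [MonoidHom.mem_ker.1 hn]
        rw [hdisj _ P₁.2, mem_bot, mul_inv_eq_one] at h1
        rw [h1] at hqh'
        exact (mul_inv_eq_iff_eq_mul.1 hqh').symm
      exact ⟨((⟨n, hnC⟩ : C) : C ⧸ S), Subtype.ext (Subtype.ext (Sylow.ext hne.symm))⟩
  let := Fintype.ofFinite {Q : Sylow p B // H.map f ≤ (Q : Subgroup B)}
  rw [nSyl, nSyl, Nat.card_congr (Equiv.sigmaFiberEquiv φ).symm, Nat.card_sigma, Finset.sum_mul,
    Finset.sum_congr rfl (fun Q _ => hfib Q), Finset.sum_const, smul_eq_mul, Finset.card_univ,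
    ← Nat.card_eq_fintype_card, mul_comm]

theorem nSyl_map_pgroup (f : A →* B) (hf : Function.Surjective f) (hker : IsPGroup p f.ker)
    (H : Subgroup A) : nSyl p H = nSyl p (H.map f) := by
  have hle : ∀ P : Sylow p A, f.ker ≤ (P : Subgroup A) := fun P =>
    sup_eq_left.1 (P.3 (P.2.to_sup_of_normal_right hker) le_sup_left)
  have hcm : ∀ P : Sylow p A, ((P : Subgroup A).map f).comap f = (P : Subgroup A) := fun P => by
    rw [comap_map_eq, sup_eq_left.2 (hle P)]
  refine Nat.card_congr (Equiv.ofBijective (fun P => ⟨P.1.mapSurjective hf, map_mono P.2⟩) ⟨?_, ?_⟩)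
  · rintro ⟨P, hP⟩ ⟨P', hP'⟩ h
    refine Subtype.ext (Sylow.ext ?_)
    have h1 : (P : Subgroup A).map f = (P' : Subgroup A).map f :=
      congrArg (fun R : {Q : Sylow p B // H.map f ≤ (Q : Subgroup B)} => (R.1 : Subgroup B)) h
    rw [← hcm P, ← hcm P', h1]
  · rintro ⟨Q, hQ⟩
    obtain ⟨P, rfl⟩ := Sylow.mapSurjective_surjective hf p Q
    refine ⟨⟨P, ?_⟩, rfl⟩
    rw [← hcm P]
    exact map_le_iff_le_comap.1 hQ

theorem bound_step (f : A →* B) (hf : Function.Surjective f)
    (hker : IsPGroup p f.ker ∨ (Nat.card f.ker).Coprime p)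
    (hB : ∀ (P : Sylow p B) [Fintype (P : Subgroup B)],
      (∏ y : (P : Subgroup B), nSyl p (zpowers (y : B))) ^ p ≤
        Nat.card (Sylow p B) ^ Nat.card (P : Subgroup B))
    (P : Sylow p A) [Fintype (P : Subgroup A)] :
    (∏ x : (P : Subgroup A), nSyl p (zpowers (x : A))) ^ p ≤
      Nat.card (Sylow p A) ^ Nat.card (P : Subgroup A) := by
  classical
  set Q := P.mapSurjective hf with hQ
  let := Fintype.ofFinite (Q : Subgroup B)
  let := Fintype.ofFinite A
  have hQB := hB Q
  let r : (P : Subgroup A) →* (Q : Subgroup B) := f.subgroupMap (P : Subgroup A)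
  have hr : Function.Surjective r := MonoidHom.subgroupMap_surjective _ _
  have hcardP : Nat.card r.ker * Nat.card (Q : Subgroup B) = Nat.card (P : Subgroup A) := by
    rw [← r.ker.card_mul_index, index_ker, MonoidHom.range_eq_top.2 hr, card_top]
  have hmapz : ∀ x : A, (zpowers x).map f = zpowers (f x) := fun x => MonoidHom.map_zpowers _ _
  have hpull : ∀ F : B → ℕ, ∏ x : (P : Subgroup A), F (f x) =
      (∏ y : (Q : Subgroup B), F y) ^ Nat.card r.ker := by
    intro F
    rw [← Finset.prod_pow, ← Finset.prod_fiberwise Finset.univ (fun x => r x)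
      (fun x : (P : Subgroup A) => F (f x))]
    refine Finset.prod_congr rfl fun y _ => ?_
    obtain ⟨c, rfl⟩ := hr y
    have hcard : (Finset.univ.filter fun x => r x = r c).card = Nat.card r.ker := by
      rw [← Fintype.card_subtype, ← Nat.card_eq_fintype_card]
      exact Nat.card_congr (CfsgLib.StructB.SnCount.fibreEquiv r c)
    rw [← hcard, ← Finset.prod_const]
    refine Finset.prod_congr rfl fun x hx => ?_
    show F (f x) = F ((r c : (Q : Subgroup B)) : B)
    rw [← (Finset.mem_filter.1 hx).2]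
    rfl
  rcases hker with hk | hk
  · simp only [fun x : (P : Subgroup A) => nSyl_map_pgroup f hf hk (zpowers (x : A)), hmapz]
    rw [hpull (fun b => nSyl p (zpowers b)), ← pow_mul, mul_comm, pow_mul,
      show Nat.card (Sylow p A) = Nat.card (Sylow p B) by
        rw [← nSyl_bot A, ← nSyl_bot B, nSyl_map_pgroup f hf hk, Subgroup.map_bot], ← hcardP, mul_comm,
      pow_mul]
    exact Nat.pow_le_pow_left hQB _
  · set N := f.ker with hN
    set d := Nat.card ↥(N ⊓ centralizer ((P : Subgroup A) : Set A)) with hd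
    have hdpos : 0 < d := Nat.card_pos
    have hx : ∀ x : (P : Subgroup A), nSyl p (zpowers (x : A)) * d =
        Nat.card ↥(N ⊓ centralizer {(x : A)}) * nSyl p (zpowers (f x)) := fun x => by
      have h1 := nSyl_map_coprime f hf hk P (P.2.to_le (zpowers_le.2 x.2))
      rwa [CfsgLib.StructB.FixProd.centralizer_zpowers, hmapz] at h1
    have hn : Nat.card (Sylow p A) * d = Nat.card N * Nat.card (Sylow p B) := by
      have h1 := nSyl_map_coprime f hf hk P (IsPGroup.of_bot : IsPGroup p (⊥ : Subgroup A))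
      rwa [nSyl_bot, Subgroup.map_bot, nSyl_bot, inf_eq_left.2
        (show N ≤ centralizer ((⊥ : Subgroup A) : Set A) from fun a _ => mem_centralizer_iff.2
          fun b hb => by rw [SetLike.mem_coe, mem_bot] at hb; rw [hb, one_mul, mul_one])] at h1
    have hrker : Nat.card r.ker = 1 := by
      rw [card_eq_one, eq_bot_iff]
      intro x hx
      rw [mem_bot]
      have hfx : f x = 1 := congrArg Subtype.val (MonoidHom.mem_ker.1 hx)
      obtain ⟨k, hk'⟩ := IsPGroup.iff_orderOf.1 P.2 x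
      apply Subtype.ext
      show (x : A) = 1
      rw [← orderOf_eq_one_iff]
      refine Nat.eq_one_of_dvd_coprimes (Nat.Coprime.pow_left k hk.symm) ?_
        (N.orderOf_dvd_natCard (MonoidHom.mem_ker.2 hfx))
      rw [Subgroup.orderOf_coe, hk']
    rw [hrker, one_mul] at hcardP
    have hNp : ¬ p ∣ Nat.card N := hp.out.coprime_iff_not_dvd.1 hk.symm
    have hfix := CfsgLib.StructB.FixProd.prod_card_fixed_le _ A (P : Subgroup A) N rfl P.2 hNp
      (by rw [normalizer_eq_top N]; exact le_top)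
    set n := Nat.card (P : Subgroup A) with hn'
    rw [hcardP] at hQB
    refine Nat.le_of_mul_le_mul_right ?_ (pow_pos hdpos (p * n))
    calc (∏ x : (P : Subgroup A), nSyl p (zpowers (x : A))) ^ p * d ^ (p * n)
        = (∏ x : (P : Subgroup A), nSyl p (zpowers (x : A)) * d) ^ p := by
          rw [Finset.prod_mul_distrib, Finset.prod_const, Finset.card_univ,
            ← Nat.card_eq_fintype_card, ← hn', mul_pow, ← pow_mul, mul_comm n p]
      _ = (∏ x : (P : Subgroup A), Nat.card ↥(N ⊓ centralizer {(x : A)})) ^ p *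
          (∏ y : (Q : Subgroup B), nSyl p (zpowers (y : B))) ^ p := by
          simp only [hx]
          rw [Finset.prod_mul_distrib, mul_pow, hpull (fun b => nSyl p (zpowers b)), hrker, pow_one]
      _ ≤ (Nat.card N ^ n * d ^ ((p - 1) * n)) * Nat.card (Sylow p B) ^ n :=
          Nat.mul_le_mul hfix hQB
      _ = (Nat.card (Sylow p A) * d) ^ n * d ^ ((p - 1) * n) := by rw [hn]; ring
      _ = _ := by
          rw [mul_pow, mul_assoc, ← pow_add]
          congr 2
          obtain ⟨q, hq⟩ : ∃ q, p = q + 1 := ⟨p - 1, by have := hp.out.pos; omega⟩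
          rw [hq, Nat.add_sub_cancel]
          ring

end Map

theorem bound_chain {G : Type u} [Group G] [Finite G] :
    ∀ (n : ℕ) (M : Fin (n + 1) → Subgroup G), M (Fin.last n) = ⊤ → Monotone M →
      (∀ i, (M i).Normal) →
      (∀ i : Fin n, (∃ m : ℕ, (M i.castSucc).relIndex (M i.succ) = p ^ m) ∨
        ((M i.castSucc).relIndex (M i.succ)).Coprime p) →
      ∀ [(M 0).Normal] (P : Sylow p (G ⧸ M 0)) [Fintype (P : Subgroup (G ⧸ M 0))],
        (∏ y : (P : Subgroup (G ⧸ M 0)), nSyl p (zpowers (y : G ⧸ M 0))) ^ p ≤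
          Nat.card (Sylow p (G ⧸ M 0)) ^ Nat.card (P : Subgroup (G ⧸ M 0)) := by
  intro n
  induction n with
  | zero =>
    intro M hn _ _ _ _ P _
    have hsub : Subsingleton (G ⧸ M 0) := Finite.card_le_one_iff_subsingleton.1
      (by rw [← index_eq_card, show M 0 = ⊤ from hn, index_top])
    have h1 : Nat.card (P : Subgroup (G ⧸ M 0)) = 1 := Nat.card_of_subsingleton 1
    have hs : Subsingleton (Sylow p (G ⧸ M 0)) := ⟨fun a b => Sylow.ext (Subgroup.ext fun x => by
      simp [Subsingleton.elim x 1, one_mem])⟩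
    have h2 : ∀ H : Subgroup (G ⧸ M 0), nSyl p H ≤ 1 := fun H =>
      Finite.card_le_one_iff_subsingleton.2 inferInstance
    rw [h1, pow_one, Nat.card_of_subsingleton P]
    exact Nat.pow_le_one_iff hp.out.ne_zero |>.2 (Finset.prod_le_one' fun y _ => h2 _)
  | succ n ih =>
    intro M hn hmono hnormal hfac _ P _
    set b := M (0 : Fin (n + 1)).succ with hb
    have := hnormal (0 : Fin (n + 1)).succ
    have hab : M 0 ≤ b := hmono (Fin.zero_le _)
    let f : G ⧸ M 0 →* G ⧸ b := QuotientGroup.map (M 0) b (MonoidHom.id G) (by rwa [Subgroup.comap_id])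
    have hf : Function.Surjective f := fun z => by
      obtain ⟨g, rfl⟩ := QuotientGroup.mk_surjective z
      exact ⟨(g : G ⧸ M 0), rfl⟩
    have hker : f.ker = b.map (QuotientGroup.mk' (M 0)) := by
      ext z
      obtain ⟨g, rfl⟩ := QuotientGroup.mk_surjective z
      constructor
      · intro h
        exact ⟨g, (QuotientGroup.eq_one_iff g).1 (MonoidHom.mem_ker.1 h), rfl⟩
      · rintro ⟨g', hg', he⟩
        rw [MonoidHom.mem_ker, ← he]
        exact (QuotientGroup.eq_one_iff g').2 hg'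
    have hkc : Nat.card f.ker = (M 0).relIndex b := by
      rw [hker, ← relIndex_bot_left, ← relIndex_comap, MonoidHom.comap_bot, QuotientGroup.ker_mk']
    have hf0 := hfac 0
    rw [Fin.castSucc_zero, ← hb] at hf0
    refine bound_step f hf ?_ (fun Q _ => ih (fun i => M i.succ) hn
      (fun i j h => hmono (Fin.succ_le_succ_iff.2 h)) (fun i => hnormal _)
      (fun i => by have h := hfac i.succ; rw [← Fin.succ_castSucc] at h; exact h) Q) P
    rcases hf0 with ⟨m, hm⟩ | hc
    · exact Or.inl (IsPGroup.of_card (hkc.trans hm))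
    · exact Or.inr (by rwa [hkc])

/-- Let G be a finite p-solvable group, P a Sylow p-subgroup of G, u the number of p-elements of G (elements of p-power order, the identity included) and n the number of Sylow p-subgroups of G. Then u/#P ≥ n^((p−1)/p), stated as u^p ≥ #P^p · n^(p−1). -/
theorem result {G : Type*} [Group G] [Finite G] (p : ℕ) [Fact p.Prime]
    (hG : Cfsg.IsPSolvable p G) (P : Sylow p G) :
    Nat.card (P : Subgroup G) ^ p * Nat.card (Sylow p G) ^ (p - 1) ≤ Nat.card {g : G // ∃ k : ℕ, orderOf g = p ^ k} ^ p := by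
  classical
  obtain ⟨k, M, h0, hn, hmono, hnormal, hfac⟩ := hG
  have := hnormal 0
  let π := QuotientGroup.mk' (M 0)
  have hkerπ : IsPGroup p π.ker := IsPGroup.of_card (n := 0) (by
    rw [QuotientGroup.ker_mk', h0, pow_zero, card_bot])
  let := Fintype.ofFinite G
  let := Fintype.ofFinite (P : Subgroup G)
  let := Fintype.ofFinite (Sylow p G)
  have hbound := bound_step π (QuotientGroup.mk'_surjective _) (Or.inl hkerπ)
    (fun Q _ => bound_chain k M hn hmono hnormal hfac Q) P
  set w : G → ℕ := fun x => nSyl p (zpowers x) with hw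
  set N := Nat.card (Sylow p G) with hN
  set c := Nat.card (P : Subgroup G) with hc
  set U : Finset G := Finset.univ.filter fun g : G => ∃ j : ℕ, orderOf g = p ^ j with hU
  have hucard : Nat.card {g : G // ∃ j : ℕ, orderOf g = p ^ j} = U.card := by
    rw [Nat.card_eq_fintype_card, Fintype.card_subtype]
  rw [hucard]
  have hmemU : ∀ (S : Sylow p G), ∀ x ∈ S, x ∈ U := fun S x hx => by
    obtain ⟨j, hj⟩ := IsPGroup.iff_orderOf.1 S.2 ⟨x, hx⟩
    rw [Subgroup.orderOf_mk] at hj
    simp only [hU, Finset.mem_filter, Finset.mem_univ, true_and]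
    exact ⟨j, hj⟩
  have hwpos : ∀ x ∈ U, 0 < w x := fun x hx => by
    obtain ⟨j, hj⟩ := (Finset.mem_filter.1 hx).2
    exact nSyl_pos (IsPGroup.of_card (n := j) (by rw [Nat.card_zpowers, hj]))
  -- double counting
  set a : ↥(P : Subgroup G) → ℝ := fun x => (N : ℝ) / (w x : ℝ) with ha
  have hsum : ∑ x : (P : Subgroup G), a x = (U.card : ℝ) := by
    have h1 : ∀ S : Sylow p G, ∑ x ∈ U.filter (fun x => x ∈ S), (1 : ℝ) / (w x : ℝ) =
        ∑ x : (P : Subgroup G), (1 : ℝ) / (w x : ℝ) := by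
      intro S
      obtain ⟨g, rfl⟩ := MulAction.exists_smul_eq G P S
      symm
      refine Finset.sum_bij (fun x _ => g * (x : G) * g⁻¹) (fun x _ => ?_) (fun x _ y _ h => ?_)
        (fun y hy => ?_) (fun x _ => ?_)
      · have hm : g * (x : G) * g⁻¹ ∈ (g • P : Sylow p G) := ⟨x, x.2, rfl⟩
        exact Finset.mem_filter.2 ⟨hmemU _ _ hm, hm⟩
      · exact Subtype.ext (mul_left_cancel (mul_right_cancel h))
      · obtain ⟨x, hx, rfl⟩ := (Finset.mem_filter.1 hy).2
        exact ⟨⟨x, hx⟩, Finset.mem_univ _, rfl⟩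
      · simp only [hw, nSyl_conj]
    have h2 : ∑ S : Sylow p G, ∑ x ∈ U.filter (fun x => x ∈ S), (1 : ℝ) / (w x : ℝ) = (U.card : ℝ) := by
      rw [Finset.sum_comm' (t' := U) (s' := fun x => Finset.univ.filter fun S : Sylow p G => x ∈ S)
        (fun S x => by simp [Finset.mem_filter, and_comm])]
      rw [Finset.card_eq_sum_ones, Nat.cast_sum]
      refine Finset.sum_congr rfl fun x hx => ?_
      rw [Finset.sum_const, nsmul_eq_mul, Nat.cast_one]
      have he : (Finset.univ.filter fun S : Sylow p G => x ∈ S).card = w x := by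
        rw [← Fintype.card_subtype, ← Nat.card_eq_fintype_card]
        exact Nat.card_congr (Equiv.subtypeEquivRight fun S => (zpowers_le).symm)
      rw [he, mul_one_div_cancel]
      exact Nat.cast_ne_zero.2 (hwpos x hx).ne'
    simp only [h1, Finset.sum_const, Finset.card_univ, nsmul_eq_mul] at h2
    rw [← h2, Finset.mul_sum, ← Nat.card_eq_fintype_card]
    exact Finset.sum_congr rfl fun x _ => by rw [ha]; ring
  have hNpos : 0 < N := Nat.card_pos
  have hcpos : 0 < c := Nat.card_pos
  have hapos : ∀ x, 0 < a x := fun x =>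
    div_pos (Nat.cast_pos.2 hNpos) (Nat.cast_pos.2 (hwpos _ (hmemU P x x.2)))
  have hgm : ∏ x : (P : Subgroup G), a x ≤ ((U.card : ℝ) / c) ^ c := by
    have h1 := Real.geom_mean_le_arith_mean Finset.univ (fun _ : (P : Subgroup G) => (1 : ℝ)) a
      (fun _ _ => zero_le_one)
      (by rw [Finset.sum_const, nsmul_eq_mul, mul_one]; exact Nat.cast_pos.2 Finset.univ_nonempty.card_pos)
      (fun x _ => (hapos x).le)
    simp only [Real.rpow_one, one_mul, hsum, Finset.sum_const, Finset.card_univ, nsmul_eq_mul,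
      mul_one, ← Nat.card_eq_fintype_card] at h1
    rw [← hc] at h1
    have hnn : 0 ≤ ∏ x : (P : Subgroup G), a x := Finset.prod_nonneg fun x _ => (hapos x).le
    calc ∏ x : (P : Subgroup G), a x
        = ((∏ x : (P : Subgroup G), a x) ^ ((c : ℝ)⁻¹)) ^ c :=
          (Real.rpow_inv_natCast_pow hnn hcpos.ne').symm
      _ ≤ _ := pow_le_pow_left₀ (Real.rpow_nonneg hnn _) h1 c
  have hprodw : (0 : ℝ) < ∏ x : (P : Subgroup G), (w x : ℝ) :=
    Finset.prod_pos fun x _ => Nat.cast_pos.2 (hwpos _ (hmemU P x x.2))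
  have hmain : ((N : ℝ) ^ (p - 1)) ^ c ≤ (((U.card : ℝ) / c) ^ p) ^ c := by
    rw [← pow_mul ((U.card : ℝ) / c), mul_comm p c, pow_mul ((U.card : ℝ) / c)]
    refine le_trans ?_ (pow_le_pow_left₀ (Finset.prod_nonneg fun x _ => (hapos x).le) hgm p)
    simp only [ha]
    rw [Finset.prod_div_distrib, Finset.prod_const, Finset.card_univ, ← Nat.card_eq_fintype_card,
      ← hc, div_pow, le_div_iff₀ (pow_pos hprodw p)]
    have hb : (∏ x : (P : Subgroup G), (w x : ℝ)) ^ p ≤ (N : ℝ) ^ c := by exact_mod_cast hbound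
    refine le_trans (mul_le_mul_of_nonneg_left hb (by positivity)) ?_
    rw [← pow_mul, ← pow_mul, ← pow_add]
    refine le_of_eq ?_
    congr 1
    obtain ⟨q, hq⟩ : ∃ q, p = q + 1 := ⟨p - 1, by have := (Fact.out : p.Prime).pos; omega⟩
    rw [hq, Nat.add_sub_cancel]
    ring
  have h3 := (pow_le_pow_iff_left₀ (by positivity) (by positivity) hcpos.ne').1 hmain
  rw [div_pow, le_div_iff₀ (by positivity), mul_comm] at h3
  exact_mod_cast h3

end Cfsg.Agent.S4091
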