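import Cfsg.Statements.S4092
import Cfsg.Agent.Lib.Solvable.PCore
-- import your own Cfsg.Agent.* helpers here

set_option autoImplicit false
open Cfsg

namespace Cfsg.Agent.S4092

/-- Let G be a finite group, p a prime and P a Sylow p-subgroup of G that is not normal in G. Then G has at least p·#P elements of p-power order (the identity included). -/
theorem result {G : Type*} [Group G] [Finite G] (p : ℕ) [Fact p.Prime]
    (P : Sylow p G) (hP : ¬ (P : Subgroup G).Normal) :
    p * Nat.card (P : Subgroup G) ≤ Nat.card {g : G // ∃ k : ℕ, orderOf g = p ^ k} := by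
  classical
  haveI := Fintype.ofFinite (Sylow p G)
  obtain ⟨Q, hQ⟩ : ∃ Q : Sylow p G, Q ≠ P := by
    by_contra hh
    push Not at hh
    haveI : Subsingleton (Sylow p G) := ⟨fun a b => (hh a).trans (hh b).symm⟩
    exact hP (Sylow.normal_of_subsingleton P)
  obtain ⟨⟨P1, Q1⟩, hne, hmax⟩ := Finset.exists_max_image
    ((Finset.univ : Finset (Sylow p G × Sylow p G)).filter (fun v => v.1 ≠ v.2))
    (fun v => Nat.card ((v.1 : Subgroup G) ⊓ (v.2 : Subgroup G) : Subgroup G))
    ⟨(P, Q), Finset.mem_filter.2 ⟨Finset.mem_univ _, hQ.symm⟩⟩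
  have hne' : P1 ≠ Q1 := (Finset.mem_filter.1 hne).2
  set D := (P1 : Subgroup G) ⊓ (Q1 : Subgroup G) with hD
  haveI : Fintype (Sylow p (Subgroup.normalizer (D : Set G))) := Fintype.ofFinite _
  have hmax' : ∀ A B : Sylow p G, A ≠ B → Nat.card ((A : Subgroup G) ⊓ (B : Subgroup G) : Subgroup G) ≤ Nat.card D :=
    fun A B hAB => hmax (A, B) (Finset.mem_filter.2 ⟨Finset.mem_univ _, hAB⟩)
  have hcard : ∀ A : Sylow p G, Nat.card (A : Subgroup G) = Nat.card (P : Subgroup G) := fun A => by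
    rw [A.card_eq_multiplicity, P.card_eq_multiplicity]
  set N := Subgroup.normalizer (D : Set G) with hN
  have hDN : D ≤ N := Subgroup.le_normalizer
  have hDp : IsPGroup p D := P1.isPGroup'.to_le inf_le_left
  have hprop : ∀ A : Sylow p G, D ≤ (A : Subgroup G) → D ≠ (A : Subgroup G) → D < (A : Subgroup G) ⊓ N := by
    intro A hA hAne
    haveI := A.isPGroup'.isNilpotent
    have hlt : D.subgroupOf (A : Subgroup G) < ⊤ := lt_top_iff_ne_top.2 fun e =>
      hAne (le_antisymm hA (Subgroup.subgroupOf_eq_top.1 e))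
    obtain ⟨x, hx, hxD⟩ := SetLike.exists_of_lt (normalizerCondition_of_isNilpotent _ hlt)
    refine lt_of_le_of_ne (le_inf hA hDN) fun e => hxD ?_
    show (x : G) ∈ D
    rw [e]
    refine Subgroup.mem_inf.2 ⟨x.2, Subgroup.mem_normalizer_iff.2 fun d => ⟨fun hd => ?_, fun hd => ?_⟩⟩
    · exact (Subgroup.mem_normalizer_iff.1 hx ⟨d, hA hd⟩).1 hd
    · have hdA : d ∈ (A : Subgroup G) := by
        have h1 := mul_mem (mul_mem (inv_mem x.2) (hA hd)) x.2
        rwa [show (x : G)⁻¹ * ((x : G) * d * (x : G)⁻¹) * (x : G) = d by group] at h1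
      exact (Subgroup.mem_normalizer_iff.1 hx ⟨d, hdA⟩).2 hd
  have hDP1 : D ≠ (P1 : Subgroup G) := fun e =>
    hne' (Sylow.ext (Subgroup.eq_of_le_of_card_ge (inf_eq_left.1 e) ((hcard _).trans (hcard _).symm).le))
  have hDQ1 : D ≠ (Q1 : Subgroup G) := fun e =>
    hne' (Sylow.ext (Subgroup.eq_of_le_of_card_ge (inf_eq_right.1 e) ((hcard _).trans (hcard _).symm).le)).symm
  have hpick : ∀ R : Sylow p N, ∃ S : Sylow p G, (R : Subgroup N).map N.subtype ≤ (S : Subgroup G) :=
    fun R => (R.isPGroup'.map _).exists_le_sylow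
  choose S hS using hpick
  have hDR : ∀ R : Sylow p N, D.subgroupOf N ≤ (R : Subgroup N) := fun R => by
    haveI : (D.subgroupOf N).Normal := Subgroup.normal_in_normalizer
    exact CfsgLib.Solvable.normal_pgroup_le_sylow (hDp.of_equiv (Subgroup.subgroupOfEquivOfLe hDN).symm) R
  have hDS : ∀ R, D ≤ (S R : Subgroup G) := fun R d hd => hS R ⟨⟨d, hDN hd⟩, hDR R hd, rfl⟩
  have hSinj : Function.Injective S := by
    intro R R' hRR
    have hp : IsPGroup p ((S R : Subgroup G).subgroupOf N) :=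
      (S R).isPGroup'.comap_of_injective N.subtype N.subtype_injective
    have h1 := R.is_maximal' hp (fun r hr => hS R ⟨r, hr, rfl⟩)
    have h2 := R'.is_maximal' hp (fun r hr => hRR ▸ hS R' ⟨r, hr, rfl⟩)
    exact Sylow.ext (h1.symm.trans h2)
  have hk : p + 1 ≤ Nat.card (Sylow p N) := by
    have hmod := card_sylow_modEq_one p N
    have h1 : Nat.card (Sylow p N) ≠ 1 := by
      intro h1
      haveI : Subsingleton (Sylow p N) := (Nat.card_eq_one_iff_unique.1 h1).1
      obtain ⟨R⟩ : Nonempty (Sylow p N) := inferInstance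
      have key : ∀ A : Sylow p G, D ≤ (A : Subgroup G) → D ≠ (A : Subgroup G) → S R = A := by
        intro A hA hAne
        obtain ⟨R', hR'⟩ := ((A.isPGroup'.to_le (inf_le_left : (A : Subgroup G) ⊓ N ≤ A)).of_equiv
          (Subgroup.subgroupOfEquivOfLe (inf_le_right : (A : Subgroup G) ⊓ N ≤ N)).symm).exists_le_sylow
        rw [Subsingleton.elim R' R] at hR'
        by_contra hne2
        have hle : (A : Subgroup G) ⊓ N ≤ (S R : Subgroup G) ⊓ (A : Subgroup G) :=
          le_inf (fun a ha => hS R ⟨⟨a, (Subgroup.mem_inf.1 ha).2⟩, hR' ha, rfl⟩) inf_le_left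
        have h2 := (Subgroup.card_le_of_le hle).trans (hmax' _ _ hne2)
        exact (hprop A hA hAne).ne (Subgroup.eq_of_le_of_card_ge (hprop A hA hAne).le h2)
      exact hne' ((key P1 inf_le_left hDP1).symm.trans (key Q1 inf_le_right hDQ1))
    have hpos : 0 < Nat.card (Sylow p N) := Nat.card_pos
    have h2 : p ∣ Nat.card (Sylow p N) - 1 := (Nat.modEq_iff_dvd' (by omega)).1 hmod.symm
    have := Nat.le_of_dvd (by omega) h2
    omega
  have hint : ∀ R R', R ≠ R' → (S R : Subgroup G) ⊓ (S R' : Subgroup G) = D := fun R R' h =>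
    (Subgroup.eq_of_le_of_card_ge (le_inf (hDS R) (hDS R')) (hmax' _ _ (fun e => h (hSinj e)))).symm
  let F : D ⊕ (Σ R : Sylow p N, {x : (S R : Subgroup G) // (x : G) ∉ D}) → {g : G // ∃ k : ℕ, orderOf g = p ^ k} :=
    fun v => match v with
      | .inl d => ⟨d, by obtain ⟨k, hk⟩ := IsPGroup.iff_orderOf.1 hDp d; exact ⟨k, by rw [Subgroup.orderOf_coe, hk]⟩⟩
      | .inr ⟨R, x⟩ => ⟨x.1, by obtain ⟨k, hk⟩ := IsPGroup.iff_orderOf.1 (S R).isPGroup' x.1; exact ⟨k, by rw [Subgroup.orderOf_coe, hk]⟩⟩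
  have hF : Function.Injective F := by
    rintro (d | ⟨R, x, hx⟩) (e | ⟨R', y, hy⟩) he <;> have he' := congrArg Subtype.val he <;>
      dsimp [F] at he'
    · exact congrArg Sum.inl (Subtype.ext he')
    · exact absurd (he' ▸ d.2) hy
    · exact absurd (he'.symm ▸ e.2) hx
    · have hR : R = R' := by
        by_contra hne2
        refine hx ?_
        rw [← hint R R' hne2]
        exact Subgroup.mem_inf.2 ⟨x.2, he'.symm ▸ y.2⟩
      subst hR
      exact congrArg Sum.inr (congrArg (Sigma.mk R) (Subtype.ext (Subtype.ext he')))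
  refine le_trans ?_ (Nat.card_le_card_of_injective F hF)
  rw [Nat.card_sum, Nat.card_sigma]
  have hfib : ∀ R, Nat.card {x : (S R : Subgroup G) // (x : G) ∉ D} = Nat.card (P : Subgroup G) - Nat.card D := by
    intro R
    haveI := Fintype.ofFinite (S R : Subgroup G)
    have h1 : Nat.card {x : (S R : Subgroup G) // (x : G) ∈ D} = Nat.card D :=
      Nat.card_congr (Subgroup.subgroupOfEquivOfLe (hDS R)).toEquiv
    rw [Nat.card_eq_fintype_card, Fintype.card_subtype_compl, ← Nat.card_eq_fintype_card, ← Nat.card_eq_fintype_card,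
      hcard, h1]
  simp only [hfib, Finset.sum_const, Finset.card_univ, smul_eq_mul, ← Nat.card_eq_fintype_card]
  obtain ⟨e, he⟩ := IsPGroup.iff_card.1 P.isPGroup'
  obtain ⟨d, hd⟩ := IsPGroup.iff_card.1 hDp
  have hde : p * p ^ d ≤ p ^ e := by
    rw [← pow_succ']
    refine Nat.pow_le_pow_right (Fact.out : p.Prime).pos ?_
    by_contra hlt
    have : p ^ e ≤ p ^ d := Nat.pow_le_pow_right (Fact.out : p.Prime).pos (by omega)
    exact hDP1 (Subgroup.eq_of_le_of_card_ge inf_le_left (by rw [hcard, he, hd]; exact this))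
  rw [he, hd]
  have hmul := Nat.mul_le_mul_right (p ^ e - p ^ d) hk
  rw [add_mul, one_mul, Nat.mul_sub] at hmul
  have hle : p ^ d ≤ p ^ e := le_trans (Nat.le_mul_of_pos_left _ (Fact.out : p.Prime).pos) hde
  omega

end Cfsg.Agent.S4092
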