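import Cfsg.Statements.S4093
import Mathlib
-- import your own Cfsg.Agent.* helpers here

set_option autoImplicit false
open scoped BigOperators
open Cfsg

namespace Cfsg.Agent.S4093

/-- Let G be a finite group with a normal subgroup N complementing a Sylow p-subgroup P (a normal p-complement). Then the number of elements of G of p-power order equals the sum over x ∈ P of the index of C_N(x) in N. -/
theorem result {G : Type*} [Group G] [Finite G] (p : ℕ) [Fact p.Prime]
    (P : Sylow p G) (N : Subgroup G) [N.Normal] (hNP : N.IsComplement' (P : Subgroup G)) :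
    Nat.card {g : G // ∃ k : ℕ, orderOf g = p ^ k} =
      ∑ᶠ x : (P : Subgroup G), Nat.card N / Nat.card ↥(N ⊓ Subgroup.centralizer ({(x : G)} : Set G)) := by
  classical
  haveI := Fintype.ofFinite (P : Subgroup G)
  rw [finsum_eq_sum_of_fintype]
  have hdis := hNP.disjoint
  have huniq : ∀ n ∈ N, ∀ m ∈ N, ∀ x ∈ (P : Subgroup G), ∀ y ∈ (P : Subgroup G),
      n * x * n⁻¹ = m * y * m⁻¹ → x = y := by
    intro n hn m hm x hx y hy he
    haveI hNn : N.Normal := inferInstance
    have h1 : (QuotientGroup.mk' N) x = (QuotientGroup.mk' N) y := by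
      have := congrArg (QuotientGroup.mk' N) he
      simp only [map_mul, map_inv, QuotientGroup.mk'_apply, (QuotientGroup.eq_one_iff n).2 hn,
        (QuotientGroup.eq_one_iff m).2 hm, one_mul, inv_one, mul_one] at this
      exact this
    have h2 : x⁻¹ * y ∈ N ⊓ (P : Subgroup G) :=
      Subgroup.mem_inf.2 ⟨QuotientGroup.eq.1 h1, mul_mem (inv_mem hx) hy⟩
    rw [hdis.eq_bot, Subgroup.mem_bot, inv_mul_eq_one] at h2
    exact h2
  let F : (Σ x : (P : Subgroup G), {g : G // ∃ n ∈ N, n * (x : G) * n⁻¹ = g}) → {g : G // ∃ k : ℕ, orderOf g = p ^ k} :=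
    fun v => ⟨v.2.1, by
      obtain ⟨n, -, hn⟩ := v.2.2
      obtain ⟨k, hk⟩ := IsPGroup.iff_orderOf.1 P.isPGroup' v.1
      refine ⟨k, ?_⟩
      rw [← hn, ← hk, ← Subgroup.orderOf_coe]
      exact orderOf_injective (MulAut.conj n).toMonoidHom (MulAut.conj n).injective _⟩
  have hF : Function.Bijective F := by
    constructor
    · rintro ⟨x, g, n, hn, rfl⟩ ⟨y, g', m, hm, rfl⟩ he
      have he' : n * (x : G) * n⁻¹ = m * (y : G) * m⁻¹ := congrArg Subtype.val he
      obtain rfl : x = y := Subtype.ext (huniq n hn m hm _ x.2 _ y.2 he')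
      exact congrArg (Sigma.mk x) (Subtype.ext he')
    · rintro ⟨g, k, hk⟩
      obtain ⟨Q, hQ⟩ := (IsPGroup.of_card (n := k) (by rw [Nat.card_zpowers, hk]) : IsPGroup p (Subgroup.zpowers g)).exists_le_sylow
      obtain ⟨a, ha⟩ := MulAction.exists_smul_eq G P Q
      have hg : g ∈ (Q : Subgroup G) := hQ (Subgroup.mem_zpowers g)
      rw [← ha, Sylow.coe_subgroup_smul] at hg
      obtain ⟨x, hx, hxe⟩ := hg
      obtain ⟨n, hn, y, hy, rfl⟩ : ∃ n ∈ N, ∃ y ∈ (P : Subgroup G), n * y = a := by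
        obtain ⟨⟨⟨n, hn⟩, ⟨y, hy⟩⟩, hny⟩ := hNP.2 a
        exact ⟨n, hn, y, hy, hny⟩
      refine ⟨⟨⟨y * x * y⁻¹, mul_mem (mul_mem hy hx) (inv_mem hy)⟩, g, n, hn, ?_⟩, rfl⟩
      have : n * y * x * (n * y)⁻¹ = g := hxe
      rw [← this]; group
  rw [← Nat.card_congr (Equiv.ofBijective F hF), Nat.card_sigma]
  refine Finset.sum_congr rfl fun x _ => ?_
  set C := (N ⊓ Subgroup.centralizer ({(x : G)} : Set G)).subgroupOf N with hC
  let f : N ⧸ C → {g : G // ∃ n ∈ N, n * (x : G) * n⁻¹ = g} := Quotient.lift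
    (fun n : N => ⟨(n : G) * x * (n : G)⁻¹, n, n.2, rfl⟩) (fun a b hab => by
      have h1 : (a⁻¹ * b : N) ∈ C := QuotientGroup.leftRel_apply.1 hab
      have h2 := Subgroup.mem_centralizer_singleton_iff.1 (Subgroup.mem_inf.1 h1).2
      simp only [Subgroup.coe_subtype, Subgroup.coe_mul, Subgroup.coe_inv] at h2
      refine Subtype.ext ?_
      show (a : G) * x * (a : G)⁻¹ = (b : G) * x * (b : G)⁻¹
      calc (a : G) * x * (a : G)⁻¹ = (a : G) * (x * ((a : G)⁻¹ * b)) * (b : G)⁻¹ := by group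
        _ = (a : G) * ((a : G)⁻¹ * b * x) * (b : G)⁻¹ := by rw [h2]
        _ = (b : G) * x * (b : G)⁻¹ := by group)
  have hf : Function.Bijective f := by
    constructor
    · intro a b
      induction a using QuotientGroup.induction_on with | _ a => ?_
      induction b using QuotientGroup.induction_on with | _ b => ?_
      intro he
      have he' : (a : G) * x * (a : G)⁻¹ = (b : G) * x * (b : G)⁻¹ := congrArg Subtype.val he
      refine QuotientGroup.eq.2 (Subgroup.mem_inf.2 ⟨(a⁻¹ * b).2, Subgroup.mem_centralizer_singleton_iff.2 ?_⟩)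
      simp only [Subgroup.coe_subtype, Subgroup.coe_mul, Subgroup.coe_inv]
      calc (a : G)⁻¹ * b * x = (a : G)⁻¹ * ((b : G) * x * (b : G)⁻¹) * b := by group
        _ = (a : G)⁻¹ * ((a : G) * x * (a : G)⁻¹) * b := by rw [he']
        _ = x * ((a : G)⁻¹ * b) := by group
    · rintro ⟨g, n, hn, rfl⟩
      exact ⟨QuotientGroup.mk ⟨n, hn⟩, rfl⟩
  rw [← Nat.card_congr (Equiv.ofBijective f hf), Subgroup.card_eq_card_quotient_mul_card_subgroup C,
    Nat.card_congr (Subgroup.subgroupOfEquivOfLe (inf_le_left : N ⊓ _ ≤ N)).toEquiv, Nat.mul_div_cancel _ Nat.card_pos]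

end Cfsg.Agent.S4093
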