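import Cfsg.Statements.S4097
import Cfsg.Agent.Lib.Solvable.FrobeniusKernel
import Cfsg.Agent.Lib.Complement.FpfNilpotent

set_option autoImplicit false
open Cfsg

namespace Cfsg.Agent.S4097

open Subgroup
open scoped Pointwise

universe u

/-- A normal solvable subgroup extended by an abelian subgroup is solvable. -/
theorem isSolvable_sup {G : Type u} [Group G] (N B : Subgroup G) [N.Normal]
    (hN : Group.IsSolvable N) (hB : IsMulCommutative B) : Group.IsSolvable (N ⊔ B : Subgroup G) := by
  have := hN
  let π := QuotientGroup.mk' N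
  have hrange : ∀ x : (N ⊔ B : Subgroup G), π x ∈ B.map π := by
    intro x
    have h1 : π x ∈ (N ⊔ B).map π := mem_map_of_mem π x.2
    rwa [Subgroup.map_sup, QuotientGroup.map_mk'_self, bot_sup_eq] at h1
  let f : (N ⊔ B : Subgroup G) →* B.map π := (π.comp (N ⊔ B).subtype).codRestrict _ hrange
  have hBs : Group.IsSolvable (B.map π) := by
    refine Group.isSolvable_of_comm ?_
    rintro ⟨_, a, ha, rfl⟩ ⟨_, b, hb, rfl⟩
    refine Subtype.ext ?_
    show π a * π b = π b * π a
    rw [← map_mul, ← map_mul]
    exact congrArg π (congrArg Subtype.val (hB.is_comm.comm ⟨a, ha⟩ ⟨b, hb⟩))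
  refine Group.isSolvable_of_ker_le_range (Subgroup.inclusion (le_sup_left : N ≤ N ⊔ B)) f ?_
  intro x hx
  have h1 : π (x : G) = 1 := congrArg Subtype.val (MonoidHom.mem_ker.1 hx)
  exact ⟨⟨x, (QuotientGroup.eq_one_iff _).1 h1⟩, rfl⟩

theorem main : ∀ (G : Type u) [Group G] [Finite G] (A : Subgroup G), Group.IsSolvable A →
    (∀ S : Subgroup G, A ≤ S → Group.IsSolvable S → ∀ a ∈ A, ∀ s ∈ S, a * s = s * a) →
    A ≤ center G := by
  suffices key : ∀ (n : ℕ) (G : Type u) [Group G] [Finite G], Nat.card G = n →
      ∀ A : Subgroup G, Group.IsSolvable A →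
        (∀ S : Subgroup G, A ≤ S → Group.IsSolvable S → ∀ a ∈ A, ∀ s ∈ S, a * s = s * a) →
        A ≤ center G from fun G _ _ A => key _ G rfl A
  intro n
  induction n using Nat.strong_induction_on with
  | _ n ih =>
  intro G _ _ hn A hA hc
  subst hn
  by_contra hcen
  have hAab : IsMulCommutative A := ⟨⟨fun a b => Subtype.ext (hc A le_rfl hA a a.2 b b.2)⟩⟩
  set M := centralizer (A : Set G) with hMdef
  have hAM : A ≤ M := le_centralizer A
  have hsub : ∀ H : Subgroup G, A ≤ H → H ≠ ⊤ → H ≤ M := by
    intro H hAH hH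
    have hlt : Nat.card H < Nat.card G := lt_of_le_of_ne (card_le_card_group H) fun h => hH (eq_top_of_card_eq H h)
    have hA' : Group.IsSolvable (A.subgroupOf H) :=
      have := hA
      Group.isSolvable_of_surjective (f := (subgroupOfEquivOfLe hAH).symm.toMonoidHom) (MulEquiv.surjective _)
    have h1 := ih _ hlt H rfl (A.subgroupOf H) hA' (fun S hS hSs a ha s hs => by
      refine Subtype.ext (hc (S.map H.subtype) ?_ ?_ a ha s (mem_map_of_mem H.subtype hs))
      · intro x hx
        exact ⟨⟨x, hAH hx⟩, hS hx, rfl⟩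
      · have := hSs
        exact Group.isSolvable_of_surjective (f := (S.equivMapOfInjective H.subtype H.subtype_injective).toMonoidHom) (MulEquiv.surjective _))
    intro x hx
    refine mem_centralizer_iff.2 fun a ha => ?_
    exact congrArg Subtype.val
      (mem_center_iff.1 (h1 (show (⟨a, hAH ha⟩ : H) ∈ A.subgroupOf H from ha)) ⟨x, hx⟩).symm
  have hMtop : M ≠ ⊤ := fun h => hcen fun a ha => mem_center_iff.2 fun g =>
    (mem_centralizer_iff.1 (h.ge (mem_top g)) a ha).symm
  have hZM : center G ≤ M := center_le_centralizer _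
  -- `M` is not normal
  have hNM : normalizer (M : Set G) = M := by
    by_contra hne
    have htop : normalizer (M : Set G) = ⊤ := by
      by_contra h
      exact hne (le_antisymm (hsub _ (hAM.trans le_normalizer) h) le_normalizer)
    have hMn : M.Normal := normalizer_eq_top_iff.1 htop
    set Z := (center M).map M.subtype with hZdef
    have hAZ : A ≤ Z := fun a ha => ⟨⟨a, hAM ha⟩, mem_center_iff.2 fun m =>
      Subtype.ext (mem_centralizer_iff.1 m.2 a ha).symm, rfl⟩
    have : Group.IsSolvable Z := Group.isSolvable_of_comm (by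
      rintro ⟨_, a, ha, rfl⟩ ⟨_, b, hb, rfl⟩
      refine Subtype.ext ?_
      show M.subtype a * M.subtype b = M.subtype b * M.subtype a
      exact congrArg Subtype.val (mem_center_iff.1 hb a))
    have hZn : Z.Normal := inferInstance
    apply hcen
    intro a ha
    refine mem_center_iff.2 fun g => ?_
    have hg : IsMulCommutative (zpowers g) := inferInstance
    exact (hc _ (hAZ.trans le_sup_left) (isSolvable_sup Z (zpowers g) this hg) a ha g
      (mem_sup_right (mem_zpowers g))).symm
  -- `M` meets its conjugates in the centre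
  have hTI : ∀ g ∉ M, ∀ y ∈ M, g * y * g⁻¹ ∈ M → y ∈ center G := by
    intro g hg y hy hx
    by_contra hyc
    have hxc : g * y * g⁻¹ ∉ center G := fun h => hyc (by
      have := (inferInstance : (center G).Normal).conj_mem _ h g⁻¹
      simpa [mul_assoc] using this)
    have hCne : centralizer ({g * y * g⁻¹} : Set G) ≠ ⊤ := fun h => hxc (mem_center_iff.2 fun z =>
      mem_centralizer_singleton_iff.1 (h.ge (mem_top z)))
    have hCM : centralizer ({g * y * g⁻¹} : Set G) ≤ M := hsub _ (fun a ha =>
      mem_centralizer_singleton_iff.2 (mem_centralizer_iff.1 hx a ha)) hCne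
    set M' := M.map (MulAut.conj g⁻¹).toMonoidHom with hM'
    have hcard : Nat.card M' = Nat.card M := card_map_of_injective (MulEquiv.injective _)
    have hAM' : A ≤ M' := by
      intro a ha
      have h1 : g * a * g⁻¹ ∈ M := hCM (mem_centralizer_singleton_iff.2 (by
        have h2 := mem_centralizer_iff.1 hy a ha
        calc g * a * g⁻¹ * (g * y * g⁻¹) = g * (a * y) * g⁻¹ := by group
          _ = g * (y * a) * g⁻¹ := by rw [h2]
          _ = _ := by group))
      exact ⟨_, h1, by simp [mul_assoc]⟩
    have hM'top : M' ≠ ⊤ := fun h => hMtop (eq_top_of_card_eq M (by rw [← hcard, h, card_top]))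
    have hEq : M' = M := eq_of_le_of_card_ge (hsub M' hAM' hM'top) hcard.ge
    apply hg
    have : g⁻¹ ∈ normalizer (M : Set G) := mem_normalizer_iff_map_conj_eq.2 hEq
    rw [hNM] at this
    exact inv_mem_iff.1 this
  -- pass to the quotient by the centre
  let π := QuotientGroup.mk' (center G)
  set H := M.map π with hHdef
  have hcomap : H.comap π = M := by
    rw [hHdef, comap_map_eq, QuotientGroup.ker_mk', sup_eq_left.2 hZM]
  have hH : Cfsg.IsFrobeniusComplement H := by
    refine ⟨?_, ?_, ?_⟩
    · intro h
      refine hcen fun a ha => ?_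
      have h1 : π a ∈ H := mem_map_of_mem π (hAM ha)
      rw [h, mem_bot] at h1
      exact (QuotientGroup.eq_one_iff a).1 h1
    · intro h
      exact hMtop (by rw [← hcomap, h, comap_top])
    · intro q hq
      obtain ⟨g, rfl⟩ := QuotientGroup.mk'_surjective (center G) q
      rw [eq_bot_iff]
      rintro x ⟨hx, hxc⟩
      replace hxc : x ∈ MulAut.conj (π g) • H := hxc
      rw [mem_pointwise_smul_iff_inv_smul_mem, ← map_inv, MulAut.smul_def, MulAut.conj_apply] at hxc
      obtain ⟨m, hm, rfl⟩ := hx
      have hg : g ∉ M := fun h => hq (mem_map_of_mem π h)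
      rw [mem_bot, QuotientGroup.mk'_apply, QuotientGroup.eq_one_iff]
      have h2 : g⁻¹ * m * g ∈ M := by
        rw [← hcomap, mem_comap, map_mul, map_mul, map_inv]
        simpa using hxc
      have h3 := hTI g hg _ h2 (by
        rw [show g * (g⁻¹ * m * g) * g⁻¹ = m by group]; exact hm)
      have h4 := (inferInstance : (center G).Normal).conj_mem _ h3 g
      rwa [show g * (g⁻¹ * m * g) * g⁻¹ = m by group] at h4
  obtain ⟨K, hKset, hKn, hKc⟩ := CfsgLib.Solvable.exists_frobeniusKernel hH
  have hKnil : Group.IsNilpotent K := by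
    obtain ⟨r, hr, hrd⟩ := Nat.exists_prime_and_dvd (fun h => hH.1 (card_eq_one.1 h) : Nat.card H ≠ 1)
    have := Fact.mk hr
    obtain ⟨⟨t, htH⟩, ht⟩ := exists_prime_orderOf_dvd_card' r hrd
    rw [Subgroup.orderOf_mk] at ht
    refine CfsgLib.Complement.isNilpotent_of_fpf K (MulAut.conjNormal t) r hr ?_ ?_
    · rw [← map_pow, ← ht, pow_orderOf_eq_one, map_one]
    · intro x hx
      have hx' : t * (x : G ⧸ center G) * t⁻¹ = x := by
        have := congrArg Subtype.val hx
        simpa using this
      by_contra hx1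
      have hxH : (x : G ⧸ center G) ∉ H := fun h => hx1 (Subtype.ext (by
        have h2 : (x : G ⧸ center G) ∈ K ⊓ H := ⟨x.2, h⟩
        rwa [hKc.disjoint.eq_bot, mem_bot] at h2))
      have h3 : (x : G ⧸ center G) * t * (x : G ⧸ center G)⁻¹ = t := by
        rw [mul_inv_eq_iff_eq_mul] at hx' ⊢
        exact hx'.symm
      have := CfsgLib.Solvable.frobenius_eq_one_of_conj_mem hH hxH htH (by rw [h3]; exact htH)
      rw [this, orderOf_one] at ht
      exact hr.ne_one ht.symm
  have hK0 : Group.IsSolvable (K.comap π) := by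
    have : Group.IsSolvable K := inferInstance
    have hcs : Group.IsSolvable (center G) := Group.isSolvable_of_comm (fun a b => Subtype.ext (mem_center_iff.1 b.2 a))
    refine Group.isSolvable_of_ker_le_range
      (Subgroup.inclusion (show center G ≤ K.comap π from fun z hz => by
        rw [mem_comap]
        show π z ∈ K
        rw [show π z = 1 from (QuotientGroup.eq_one_iff z).2 hz]; exact one_mem _))
      ((π.comp (K.comap π).subtype).codRestrict K fun x => x.2) ?_
    intro x hx
    exact ⟨⟨x, (QuotientGroup.eq_one_iff _).1 (congrArg Subtype.val (MonoidHom.mem_ker.1 hx))⟩, rfl⟩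
  have hSs := isSolvable_sup (K.comap π) A hK0 hAab
  have hKM : K.comap π ≤ M := fun k hk =>
    mem_centralizer_iff.2 fun a ha => hc _ le_sup_right hSs a ha k (mem_sup_left hk)
  have hKH : K ≤ H := by
    rw [← map_comap_eq_self_of_surjective (QuotientGroup.mk'_surjective (center G)) K]
    exact map_mono hKM
  have hKbot : K = ⊥ := by
    rw [← hKc.disjoint.eq_bot, inf_eq_left.2 hKH]
  exact hH.2.1 (isComplement'_bot_left.1 (hKbot ▸ hKc))

/-- Let A be a solvable subgroup of a finite group G such that A lies in the centre of every solvable subgroup of G containing A. Then A lies in the centre of G. -/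
theorem result {G : Type*} [Group G] [Finite G]
    (A : Subgroup G) (hA : Group.IsSolvable A)
    (hc : ∀ S : Subgroup G, A ≤ S → Group.IsSolvable S → ∀ a ∈ A, ∀ s ∈ S, a * s = s * a) : A ≤ Subgroup.center G :=
  main G A hA hc

end Cfsg.Agent.S4097
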