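import Cfsg.Statements.S4106
import Mathlib
-- import your own Cfsg.Agent.* helpers here

set_option autoImplicit false
open Cfsg

namespace Cfsg.Agent.S4106

universe u

theorem aux (s : Finset ℕ) (hs : ∀ p ∈ s, p.Prime) : ∀ (G : Type u) [Group G] [Finite G],
    Nat.card {C : ConjClasses G // ∀ q : ℕ, q.Prime → (∃ g : G, ConjClasses.mk g = C ∧ q ∣ orderOf g) → q ∈ s} ≤
      ∏ p ∈ s, p ^ (Nat.card G).factorization p := by
  classical
  induction s using Finset.induction_on with
  | empty =>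
    intro G _ _
    rw [Finset.prod_empty]
    haveI : Subsingleton {C : ConjClasses G // ∀ q : ℕ, q.Prime → (∃ g : G, ConjClasses.mk g = C ∧ q ∣ orderOf g) → q ∈ (∅ : Finset ℕ)} := by
      refine ⟨fun a b => Subtype.ext ?_⟩
      have h : ∀ c : {C : ConjClasses G // ∀ q : ℕ, q.Prime → (∃ g : G, ConjClasses.mk g = C ∧ q ∣ orderOf g) → q ∈ (∅ : Finset ℕ)}, c.1 = ConjClasses.mk 1 := by
        rintro ⟨C, hC⟩
        induction C using Quotient.inductionOn with | _ g => ?_
        by_contra hne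
        obtain ⟨q, hq, hqd⟩ := Nat.exists_prime_and_dvd (fun e => hne (congrArg ConjClasses.mk (orderOf_eq_one_iff.1 e)))
        exact Finset.notMem_empty q (hC q hq ⟨g, rfl, hqd⟩)
      rw [h a, h b]
    exact Finite.card_le_one_iff_subsingleton.2 this
  | insert p s hps ih =>
    intro G _ _
    have hp := hs p (Finset.mem_insert_self p s)
    have ih' := ih (fun x hx => hs x (Finset.mem_insert_of_mem hx))
    haveI : Fact p.Prime := ⟨hp⟩
    obtain ⟨P⟩ : Nonempty (Sylow p G) := inferInstance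
    have := Fintype.ofFinite (P : Subgroup G)
    let T : ↥(P : Subgroup G) → Type u := fun r => {C : ConjClasses (Subgroup.centralizer ({(r : G)} : Set G)) //
      ∀ q : ℕ, q.Prime → (∃ g, ConjClasses.mk g = C ∧ q ∣ orderOf g) → q ∈ s}
    let F : (Σ r : (P : Subgroup G), T r) → ConjClasses G := fun v =>
      ConjClasses.mk ((v.1 : G) * (Quotient.out v.2.1 : Subgroup.centralizer ({(v.1 : G)} : Set G)))
    have hcov : ∀ C : {C : ConjClasses G // ∀ q : ℕ, q.Prime → (∃ g : G, ConjClasses.mk g = C ∧ q ∣ orderOf g) → q ∈ insert p s},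
        ∃ v, F v = C.1 := by
      rintro ⟨C, hC⟩
      induction C using Quotient.inductionOn with | _ g => ?_
      obtain ⟨a, b, hb, hgo⟩ := Nat.exists_eq_pow_mul_and_not_dvd (orderOf_pos g).ne' p hp.one_lt.ne'
      have hbez : (1 : ℤ) = (p ^ a : ℕ) * Nat.gcdA (p ^ a) b + (b : ℕ) * Nat.gcdB (p ^ a) b := by
        rw [← Nat.gcd_eq_gcd_ab, show Nat.gcd (p ^ a) b = 1 from Nat.Coprime.pow_left a ((hp.coprime_iff_not_dvd).2 hb), Nat.cast_one]
      set x := g ^ ((b : ℕ) * Nat.gcdB (p ^ a) b : ℤ) with hx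
      set y := g ^ ((p ^ a : ℕ) * Nat.gcdA (p ^ a) b : ℤ) with hy
      have hxy : x * y = g := by rw [hx, hy, ← zpow_add, add_comm, ← hbez, zpow_one]
      have hxp : x ^ p ^ a = 1 := by
        rw [hx, ← zpow_natCast, ← zpow_mul, mul_comm ((b : ℕ) : ℤ), mul_assoc, ← Nat.cast_mul, mul_comm, zpow_mul,
          mul_comm b, ← hgo, zpow_natCast, pow_orderOf_eq_one, one_zpow]
      have hyb : y ^ b = 1 := by
        rw [hy, ← zpow_natCast, ← zpow_mul, mul_assoc, mul_comm (Nat.gcdA _ _), ← mul_assoc, ← Nat.cast_mul, zpow_mul,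
          ← hgo, zpow_natCast, pow_orderOf_eq_one, one_zpow]
      obtain ⟨j, -, hj⟩ := (Nat.dvd_prime_pow hp).1 (orderOf_dvd_of_pow_eq_one hxp)
      obtain ⟨R, hR⟩ := (IsPGroup.of_card (n := j) (by rw [Nat.card_zpowers, hj]) : IsPGroup p (Subgroup.zpowers x)).exists_le_sylow
      obtain ⟨c, hc⟩ := MulAction.exists_smul_eq G R P
      have hxP : c * x * c⁻¹ ∈ (P : Subgroup G) := by
        rw [← hc, Sylow.coe_subgroup_smul]
        exact ⟨x, hR (Subgroup.mem_zpowers x), rfl⟩
      have hycen : c * y * c⁻¹ ∈ Subgroup.centralizer ({c * x * c⁻¹} : Set G) := by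
        refine Subgroup.mem_centralizer_singleton_iff.2 ?_
        exact ((Commute.zpow_zpow_self g _ _).map (MulAut.conj c).toMonoidHom : Commute (c * y * c⁻¹) (c * x * c⁻¹)).eq
      refine ⟨⟨⟨c * x * c⁻¹, hxP⟩, ConjClasses.mk ⟨c * y * c⁻¹, hycen⟩, ?_⟩, ?_⟩
      · rintro q hq ⟨z, hz, hzd⟩
        obtain ⟨w, hw⟩ := isConj_iff.1 (ConjClasses.mk_eq_mk_iff_isConj.1 hz)
        have h1 : orderOf z = orderOf y := by
          have e1 := orderOf_injective (MulAut.conj w).toMonoidHom (MulAut.conj w).injective z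
          have e2 := orderOf_injective (MulAut.conj c).toMonoidHom (MulAut.conj c).injective y
          simp only [MulEquiv.coe_toMonoidHom, MulAut.conj_apply] at e1 e2
          rw [← e1, hw, ← Subgroup.orderOf_coe]
          exact e2
        rw [h1] at hzd
        have hqg : q ∣ orderOf g := hzd.trans (hy ▸ orderOf_dvd_of_pow_eq_one (by
          rw [← zpow_natCast, ← zpow_mul, mul_comm, zpow_mul, zpow_natCast, pow_orderOf_eq_one, one_zpow]))
        rcases Finset.mem_insert.1 (hC q hq ⟨g, rfl, hqg⟩) with rfl | h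
        · exact absurd (hzd.trans (orderOf_dvd_of_pow_eq_one hyb)) hb
        · exact h
      · show ConjClasses.mk _ = ConjClasses.mk g
        rw [ConjClasses.mk_eq_mk_iff_isConj]
        set D : ConjClasses (Subgroup.centralizer ({c * x * c⁻¹} : Set G)) := ConjClasses.mk ⟨c * y * c⁻¹, hycen⟩ with hD
        obtain ⟨w, hw⟩ := isConj_iff.1 (ConjClasses.mk_eq_mk_iff_isConj.1 (Quotient.out_eq D : ConjClasses.mk D.out = D))
        have hw' : (w : G) * (D.out : G) * (w : G)⁻¹ = c * y * c⁻¹ := congrArg Subtype.val hw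
        have hwc := Subgroup.mem_centralizer_singleton_iff.1 w.2
        refine isConj_iff.2 ⟨c⁻¹ * (w : G), ?_⟩
        show c⁻¹ * (w : G) * (c * x * c⁻¹ * (D.out : G)) * (c⁻¹ * (w : G))⁻¹ = g
        calc c⁻¹ * (w : G) * (c * x * c⁻¹ * (D.out : G)) * (c⁻¹ * (w : G))⁻¹
            = c⁻¹ * ((w : G) * (c * x * c⁻¹)) * ((D.out : G) * (w : G)⁻¹) * c := by group
          _ = c⁻¹ * ((c * x * c⁻¹) * (w : G)) * ((D.out : G) * (w : G)⁻¹) * c := by rw [hwc]
          _ = c⁻¹ * (c * x * c⁻¹) * ((w : G) * (D.out : G) * (w : G)⁻¹) * c := by group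
          _ = c⁻¹ * (c * x * c⁻¹) * (c * y * c⁻¹) * c := by rw [hw']
          _ = x * y := by group
          _ = g := hxy
    choose h hh using hcov
    refine (Nat.card_le_card_of_injective h (fun a b hab => Subtype.ext (by rw [← hh a, ← hh b, hab]))).trans ?_
    rw [Nat.card_sigma, Finset.prod_insert hps, ← P.card_eq_multiplicity]
    refine (Finset.sum_le_sum fun r _ => (ih' _).trans ?_).trans (le_of_eq (by
      rw [Finset.sum_const, Finset.card_univ, smul_eq_mul, ← Nat.card_eq_fintype_card]))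
    refine Finset.prod_le_prod' fun q hq => Nat.pow_le_pow_right (hs q (Finset.mem_insert_of_mem hq)).pos ?_
    exact (Nat.factorization_le_iff_dvd Nat.card_pos.ne' Nat.card_pos.ne').2 (Subgroup.card_subgroup_dvd_card _) q

/-- Let G be a finite group, π a set of primes and m the π-part of the order of G. Then the number of conjugacy classes of G consisting of π-elements (elements whose order is divisible only by primes in π) is at most m. -/
theorem result {G : Type*} [Group G] [Finite G]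
    (π : Set ℕ) (hπ : ∀ q ∈ π, q.Prime)
    (m : ℕ) (hm : m ∣ Nat.card G) (hmπ : ∀ q : ℕ, q.Prime → q ∣ m → q ∈ π)
    (hm' : ∀ q ∈ π, ¬ q ∣ Nat.card G / m) :
    Nat.card {C : ConjClasses G // ∀ q : ℕ, q.Prime → (∃ g : G, ConjClasses.mk g = C ∧ q ∣ orderOf g) → q ∈ π} ≤ m := by
  classical
  have hm0 : m ≠ 0 := fun e => Nat.card_pos.ne' (Nat.eq_zero_of_zero_dvd (e ▸ hm))
  obtain ⟨k, hk⟩ := hm
  have hk0 : k ≠ 0 := fun e => Nat.card_pos.ne' (by rw [hk, e, mul_zero])
  rw [hk, Nat.mul_div_cancel_left _ (Nat.pos_of_ne_zero hm0)] at hm'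
  calc Nat.card {C : ConjClasses G // ∀ q : ℕ, q.Prime → (∃ g : G, ConjClasses.mk g = C ∧ q ∣ orderOf g) → q ∈ π}
      ≤ Nat.card {C : ConjClasses G // ∀ q : ℕ, q.Prime → (∃ g : G, ConjClasses.mk g = C ∧ q ∣ orderOf g) → q ∈ m.primeFactors} := by
        refine Nat.card_le_card_of_injective (fun C => ⟨C.1, fun q hq hg => ?_⟩) (fun a b hab => Subtype.ext (congrArg (fun z : {C : ConjClasses G // ∀ q : ℕ, q.Prime → (∃ g : G, ConjClasses.mk g = C ∧ q ∣ orderOf g) → q ∈ m.primeFactors} => z.1) hab))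
        obtain ⟨g, hgC, hqg⟩ := hg
        have hqπ := C.2 q hq ⟨g, hgC, hqg⟩
        exact Nat.mem_primeFactors.2 ⟨hq, (hq.dvd_mul.1 (hk ▸ hqg.trans (orderOf_dvd_natCard g))).resolve_right (hm' q hqπ), hm0⟩
    _ ≤ ∏ p ∈ m.primeFactors, p ^ (Nat.card G).factorization p := aux _ (fun p hp => Nat.prime_of_mem_primeFactors hp) G
    _ = m := by
        conv_rhs => rw [← Nat.factorization_prod_pow_eq_self hm0]
        refine Finset.prod_congr rfl fun p hp => ?_
        rw [hk, Nat.factorization_mul hm0 hk0, Finsupp.add_apply, Nat.factorization_eq_zero_of_not_dvd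
          (hm' p (hmπ p (Nat.prime_of_mem_primeFactors hp) (Nat.dvd_of_mem_primeFactors hp))), add_zero]

end Cfsg.Agent.S4106
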