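import Cfsg.Statements.S4107
import Cfsg.Agent.Lib.Solvable.Fitting

set_option autoImplicit false
open Cfsg

namespace Cfsg.Agent.S4107

open CfsgLib.Solvable

variable {G : Type*} [Group G] [Finite G]

theorem isPGroup_of_pCore_not_le (N : Subgroup G) [N.Normal]
    (heq : ∀ x : G, x ∉ N → ∀ n ∈ N, orderOf (x * n) = orderOf x) {p : ℕ} (hp : p.Prime)
    (hnle : ¬ Cfsg.pCore p G ≤ N) : IsPGroup p N := by
  classical
  have := Fact.mk hp
  rw [IsPGroup.iff_card]
  refine ⟨(Nat.card N).factorization p, Nat.eq_pow_of_factorization_eq_single Nat.card_pos.ne' ?_⟩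
  ext r
  rcases eq_or_ne r p with rfl | hrp
  · simp
  rw [Finsupp.single_eq_of_ne hrp]
  by_contra hr0
  have hrm : r ∈ (Nat.card N).primeFactors := by
    rw [← Nat.support_factorization]; exact Finsupp.mem_support_iff.2 hr0
  obtain ⟨hr, hrd, -⟩ := Nat.mem_primeFactors.1 hrm
  have := Fact.mk hr
  obtain ⟨⟨y, hyN⟩, hy⟩ := exists_prime_orderOf_dvd_card' r hrd
  rw [Subgroup.orderOf_mk] at hy
  obtain ⟨x, hxP, hxN⟩ := SetLike.not_le_iff_exists.1 hnle
  have hPn : (Cfsg.pCore p G).Normal := pCore_normal p G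
  let S := {c : G // c ∈ Cfsg.pCore p G ∧ x⁻¹ * c ∈ N}
  have hmem : ∀ z : G, z ∈ N → ∀ c : S, z * c.1 * z⁻¹ ∈ Cfsg.pCore p G ∧ x⁻¹ * (z * c.1 * z⁻¹) ∈ N := by
    intro z hz c
    refine ⟨hPn.conj_mem _ c.2.1 z, ?_⟩
    have h1 : x⁻¹ * z * x ∈ N := by simpa using (inferInstance : N.Normal).conj_mem z hz x⁻¹
    have h2 : x⁻¹ * (z * c.1 * z⁻¹) = (x⁻¹ * z * x) * (x⁻¹ * c.1) * z⁻¹ := by group
    rw [h2]
    exact mul_mem (mul_mem h1 c.2.2) (inv_mem hz)
  let σ : Equiv.Perm S :=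
    { toFun := fun c => ⟨_, hmem y hyN c⟩
      invFun := fun c => ⟨_, hmem y⁻¹ (inv_mem hyN) c⟩
      left_inv := fun c => Subtype.ext (by simp [mul_assoc])
      right_inv := fun c => Subtype.ext (by simp [mul_assoc]) }
  have hpow : ∀ (k : ℕ) (c : S), ((σ ^ k) c).1 = y ^ k * c.1 * (y ^ k)⁻¹ := by
    intro k
    induction k with
    | zero => simp
    | succ k ih =>
      intro c
      rw [pow_succ', Equiv.Perm.mul_apply]
      show y * ((σ ^ k) c).1 * y⁻¹ = _
      rw [ih c]; group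
  have hσ : σ ^ r ^ 1 = 1 := by
    refine Equiv.ext fun c => Subtype.ext ?_
    rw [pow_one, hpow, ← hy, pow_orderOf_eq_one]; simp
  have hcard : Nat.card S = Nat.card ↥(Cfsg.pCore p G ⊓ N) :=
    Nat.card_congr
      { toFun := fun c => ⟨x⁻¹ * c.1, Subgroup.mem_inf.2 ⟨mul_mem (inv_mem hxP) c.2.1, c.2.2⟩⟩
        invFun := fun d => ⟨x * d.1, mul_mem hxP (Subgroup.mem_inf.1 d.2).1, by simpa using (Subgroup.mem_inf.1 d.2).2⟩
        left_inv := fun c => Subtype.ext (by simp)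
        right_inv := fun d => Subtype.ext (by simp) }
  have := Fintype.ofFinite S
  have hnd : ¬ r ∣ Fintype.card S := by
    rw [← Nat.card_eq_fintype_card, hcard]
    obtain ⟨n, hn⟩ := IsPGroup.iff_card.1 ((pCore_isPGroup (G := G) p).to_le inf_le_left (H := Cfsg.pCore p G ⊓ N))
    rw [hn]
    exact fun h => hrp ((Nat.prime_dvd_prime_iff_eq hr hp).1 (hr.dvd_of_dvd_pow h))
  obtain ⟨c, hc⟩ := Equiv.Perm.exists_fixed_point_of_prime hnd hσ
  have hcy : Commute c.1 y := by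
    have h1 : y * c.1 * y⁻¹ = c.1 := congrArg Subtype.val hc
    exact (mul_inv_eq_iff_eq_mul.1 h1).symm
  have hcN : c.1 ∉ N := by
    intro h
    apply hxN
    have : x = c.1 * (x⁻¹ * c.1)⁻¹ := by group
    rw [this]; exact mul_mem h (inv_mem c.2.2)
  obtain ⟨a, ha⟩ := IsPGroup.iff_orderOf.1 (pCore_isPGroup (G := G) p) ⟨c.1, c.2.1⟩
  rw [Subgroup.orderOf_mk] at ha
  have hcop : (orderOf c.1).Coprime (orderOf y) := by
    rw [ha, hy]
    exact Nat.Coprime.pow_left _ ((Nat.coprime_primes hp hr).2 (Ne.symm hrp))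
  have h2 := heq c.1 hcN y hyN
  rw [hcy.orderOf_mul_eq_mul_orderOf_of_coprime hcop, hy] at h2
  have h3 : 0 < orderOf c.1 := orderOf_pos _
  have h4 := hr.two_le
  nlinarith [h2, h3, h4]

/-- Let G be a finite group and N a proper non-trivial normal subgroup such that for every x outside N all elements of the coset xN have the same order as x. Then N ≤ F(G) or F(G) ≤ N, where F(G) is the Fitting subgroup; and if N is properly contained in F(G) then F(G) has prime-power order. -/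
theorem result {G : Type*} [Group G] [Finite G] (N : Subgroup G) [N.Normal] (hN1 : N ≠ ⊥) (hN2 : N ≠ ⊤)
    (heq : ∀ x : G, x ∉ N → ∀ n ∈ N, orderOf (x * n) = orderOf x) :
    (N ≤ Cfsg.fittingSubgroup G ∨ Cfsg.fittingSubgroup G ≤ N) ∧
    (N < Cfsg.fittingSubgroup G → IsPrimePow (Nat.card (Cfsg.fittingSubgroup G))) := by
  have hF := fittingSubgroup_eq_iSup_pCore (G := G)
  have key : ∀ _ : ¬ Cfsg.fittingSubgroup G ≤ N, ∃ p : Nat.Primes, IsPGroup p N := by
    intro h
    rw [hF, iSup_le_iff] at h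
    push_neg at h
    obtain ⟨p, hp⟩ := h
    exact ⟨p, isPGroup_of_pCore_not_le N heq p.2 hp⟩
  constructor
  · by_cases h : Cfsg.fittingSubgroup G ≤ N
    · exact Or.inr h
    · obtain ⟨p, hp⟩ := key h
      have := Fact.mk p.2
      exact Or.inl (le_fittingSubgroup inferInstance hp.isNilpotent)
  · intro hlt
    obtain ⟨p, hp⟩ := key (fun h => hlt.ne (le_antisymm hlt.le h))
    have := Fact.mk p.2
    have hbot : ∀ q : Nat.Primes, q ≠ p → Cfsg.pCore (q : ℕ) G = ⊥ := by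
      intro q hq
      have := Fact.mk q.2
      have hne : (q : ℕ) ≠ (p : ℕ) := fun h => hq (Subtype.ext h)
      have h2 : ∀ H : Subgroup G, H ≤ N → IsPGroup (q : ℕ) H → H = ⊥ := fun H hH hq' =>
        disjoint_self.1 (IsPGroup.disjoint_of_ne _ _ hne _ _ hq' (hp.to_le hH))
      by_cases hle : Cfsg.pCore (q : ℕ) G ≤ N
      · exact h2 _ hle (pCore_isPGroup _)
      · exact absurd (h2 N le_rfl (isPGroup_of_pCore_not_le N heq q.2 hle)) hN1
    have hFp : Cfsg.fittingSubgroup G = Cfsg.pCore (p : ℕ) G := by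
      rw [hF]
      refine le_antisymm (iSup_le fun q => ?_) (le_iSup (fun q : Nat.Primes => Cfsg.pCore (q : ℕ) G) p)
      rcases eq_or_ne q p with rfl | hq
      · exact le_rfl
      · rw [hbot q hq]; exact bot_le
    rw [hFp] at hlt ⊢
    obtain ⟨n, hn⟩ := IsPGroup.iff_card.1 (pCore_isPGroup (G := G) (p : ℕ))
    rw [hn]
    refine p.2.isPrimePow.pow ?_
    rintro rfl
    rw [pow_zero] at hn
    rw [Subgroup.card_eq_one.1 hn] at hlt
    exact not_lt_bot hlt

end Cfsg.Agent.S4107
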