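import Cfsg.Statements.S4108
import Cfsg.Agent.Lib.Solvable.FrobeniusComplement
-- import your own Cfsg.Agent.* helpers here

set_option autoImplicit false
open Cfsg

namespace Cfsg.Agent.S4108

/-- Let G be a finite group, p a prime and N a proper non-trivial normal p-subgroup such that for every x outside N all elements of the coset xN have the same order as x. Then every non-trivial subgroup H of G of order prime to p acts fixed-point-freely on N: NH is a Frobenius group with complement H and kernel N. -/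
theorem result {G : Type*} [Group G] [Finite G] (N : Subgroup G) [N.Normal] (hN1 : N ≠ ⊥) (hN2 : N ≠ ⊤)
    (heq : ∀ x : G, x ∉ N → ∀ n ∈ N, orderOf (x * n) = orderOf x)
    (p : ℕ) [Fact p.Prime] (hNp : IsPGroup p N) :
    ∀ H : Subgroup G, H ≠ ⊥ → (Nat.card H).Coprime p →
      Cfsg.IsFrobeniusComplement (H.subgroupOf (N ⊔ H)) ∧ Cfsg.frobeniusKernel (H.subgroupOf (N ⊔ H)) = (N.subgroupOf (N ⊔ H) : Set ↥(N ⊔ H)) := by
  classical
  intro H hH hcop
  set L := N ⊔ H with hL
  have hdis : ∀ x ∈ N, x ∈ H → x = 1 := by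
    intro x hx hxH
    obtain ⟨k, hk⟩ := IsPGroup.iff_orderOf.1 hNp ⟨x, hx⟩
    rw [Subgroup.orderOf_mk] at hk
    have h1 : orderOf x ∣ Nat.card H := Subgroup.orderOf_mk x hxH ▸ orderOf_dvd_natCard (⟨x, hxH⟩ : H)
    exact orderOf_eq_one_iff.1 (Nat.Coprime.eq_one_of_dvd (hk ▸ (Nat.Coprime.pow_right k hcop).symm) h1)
  set K := N.subgroupOf L with hK
  set H' := H.subgroupOf L with hH'
  haveI : K.Normal := inferInstance
  have hc : Subgroup.IsComplement' K H' := by
    refine Subgroup.isComplement'_of_disjoint_and_mul_eq_univ ?_ ?_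
    · rw [Subgroup.disjoint_def]
      exact fun {x} hx hx' => Subtype.ext (hdis x.1 hx hx')
    · refine Set.eq_univ_of_forall fun x => ?_
      obtain ⟨n, hn, h, hh, he⟩ := Subgroup.mem_sup_of_normal_left.1 x.2
      exact ⟨⟨n, le_sup_left (a := N) hn⟩, hn, ⟨h, le_sup_right (a := N) hh⟩, hh, Subtype.ext he⟩
  have hKne : K ≠ ⊥ := fun e => hN1 (eq_bot_iff.2 fun x hx => by
    have : (⟨x, le_sup_left (a := N) hx⟩ : L) ∈ K := hx
    rw [e, Subgroup.mem_bot] at this
    exact congrArg Subtype.val this)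
  have hHne : H' ≠ ⊥ := fun e => hH (eq_bot_iff.2 fun x hx => by
    have : (⟨x, le_sup_right (a := N) hx⟩ : L) ∈ H' := hx
    rw [e, Subgroup.mem_bot] at this
    exact congrArg Subtype.val this)
  have hF : Cfsg.IsFrobeniusComplement H' := by
    refine (CfsgLib.Solvable.isFrobeniusComplement_iff_fpf hc hKne hHne).2 fun h hh hh1 => eq_bot_iff.2 ?_
    rintro n ⟨hn, hcm⟩
    replace hn : (n : G) ∈ N := hn
    refine Subgroup.mem_bot.2 (Subtype.ext ?_)
    have hcom : Commute (h : G) (n : G) := (congrArg Subtype.val (Subgroup.mem_centralizer_singleton_iff.1 hcm)).symm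
    have hnot : (h : G) ∉ N := fun hN' => hh1 (Subtype.ext (hdis _ hN' hh))
    obtain ⟨k, hk⟩ := IsPGroup.iff_orderOf.1 hNp ⟨n, hn⟩
    rw [Subgroup.orderOf_mk] at hk
    have hco : (orderOf (h : G)).Coprime (orderOf (n : G)) := by
      rw [hk]
      exact (Nat.Coprime.pow_right k hcop).coprime_dvd_left
        (Subgroup.orderOf_mk (h : G) hh ▸ orderOf_dvd_natCard (⟨(h : G), hh⟩ : H))
    have := heq _ hnot _ hn
    rw [hcom.orderOf_mul_eq_mul_orderOf_of_coprime hco] at this
    exact orderOf_eq_one_iff.1 ((mul_eq_left₀ (orderOf_pos _).ne').1 this)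
  refine ⟨hF, (Set.eq_of_subset_of_ncard_le ?_ ?_ (Set.toFinite _)).symm⟩
  · intro x hx
    by_cases hx1 : x = 1
    · exact Or.inl hx1
    refine Or.inr fun g hg => ?_
    obtain ⟨y, hy, rfl⟩ := hg
    have hyK : y ∈ K := by
      have := (inferInstance : K.Normal).conj_mem _ hx g⁻¹
      simpa [mul_assoc] using this
    rw [Subgroup.disjoint_def.1 hc.disjoint hyK hy] at hx1
    exact hx1 (by simp)
  · rw [← Nat.card_coe_set_eq, ← Nat.card_coe_set_eq, CfsgLib.Solvable.card_kernel_of_isFrobeniusComplement hF, hc.index_eq_card]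
    exact le_rfl

end Cfsg.Agent.S4108
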