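import Cfsg.Statements.S4112
import Mathlib
import Cfsg.Agent.Lib.Solvable.Nilpotent
-- import your own Cfsg.Agent.* helpers here

set_option autoImplicit false
open Cfsg

namespace Cfsg.Agent.S4112

/-- Let G be a finite group and M ≤ N non-trivial proper normal subgroups such that for every g outside N the conjugacy class of g is a union of cosets of M (equivalently gm is conjugate to g for every m ∈ M). Then (1) and (2) below are equivalent, and they imply (3): (1) every g outside N acts fixed-point-freely on M, that is C_G(x) ≤ N for every x ∈ M, x ≠ 1; (2) the index of N in G is coprime to the order of M; (3) there is a subgroup H of G with HN = G and H ∩ M = 1. -/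
theorem result {G : Type*} [Group G] [Finite G] (N M : Subgroup G) [N.Normal] [M.Normal] (hMN : M ≤ N) (hM1 : M ≠ ⊥) (hN2 : N ≠ ⊤)
    (hcam : ∀ g : G, g ∉ N → ∀ m ∈ M, ∃ x : G, x * g * x⁻¹ = g * m) :
    ((∀ x ∈ M, x ≠ 1 → Subgroup.centralizer ({x} : Set G) ≤ N) ↔ N.index.Coprime (Nat.card M)) ∧
    ((∀ x ∈ M, x ≠ 1 → Subgroup.centralizer ({x} : Set G) ≤ N) → ∃ H : Subgroup G, H ⊔ N = ⊤ ∧ H ⊓ M = ⊥) := by
  classical
  have hcop_of : (∀ x ∈ M, x ≠ 1 → Subgroup.centralizer ({x} : Set G) ≤ N) → N.index.Coprime (Nat.card M) := by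
    intro h
    refine Nat.coprime_of_dvd fun q hq hqi hqM => ?_
    haveI : Fact q.Prime := ⟨hq⟩
    obtain ⟨⟨y, hyM⟩, hy⟩ := exists_prime_orderOf_dvd_card' (G := M) q hqM
    rw [Subgroup.orderOf_mk] at hy
    obtain ⟨R, hR⟩ := (IsPGroup.of_card (n := 1) (by rw [Nat.card_zpowers, hy, pow_one]) : IsPGroup q (Subgroup.zpowers y)).exists_le_sylow
    have hyR : y ∈ (R : Subgroup G) := hR (Subgroup.mem_zpowers y)
    haveI := R.isPGroup'.isNilpotent
    have hne : M.subgroupOf (R : Subgroup G) ≠ ⊥ := by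
      intro e
      have h1 : (⟨y, hyR⟩ : (R : Subgroup G)) ∈ M.subgroupOf (R : Subgroup G) := hyM
      rw [e, Subgroup.mem_bot] at h1
      have h2 : y = 1 := congrArg Subtype.val h1
      rw [h2, orderOf_one] at hy
      exact hq.ne_one hy.symm
    obtain ⟨⟨x, hx⟩, hx1⟩ := Subgroup.ne_bot_iff_exists_ne_one.1
      (CfsgLib.Solvable.normal_inf_center_ne_bot (M.subgroupOf (R : Subgroup G)) hne)
    obtain ⟨hxM, hxZ⟩ := Subgroup.mem_inf.1 hx
    have hRN : (R : Subgroup G) ≤ N := fun r hr => h x.1 hxM (fun e => hx1 (Subtype.ext (Subtype.ext e)))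
      (Subgroup.mem_centralizer_singleton_iff.2 (congrArg Subtype.val (Subgroup.mem_center_iff.1 hxZ ⟨r, hr⟩)))
    refine R.not_dvd_index (hqi.trans (Subgroup.index_dvd_of_le hRN))
  refine ⟨⟨hcop_of, fun hcop x hx hx1 c hc => ?_⟩, fun h => ?_⟩
  · by_contra hcN
    obtain ⟨q, hq, hqx⟩ := Nat.exists_prime_and_dvd (fun e => hx1 (orderOf_eq_one_iff.1 e))
    set x' := x ^ (orderOf x / q) with hx'
    have hx'o : orderOf x' = q := orderOf_pow_orderOf_div (orderOf_pos x).ne' hqx
    have hqM : q ∣ Nat.card M := hqx.trans (Subgroup.orderOf_mk x hx ▸ orderOf_dvd_natCard (⟨x, hx⟩ : M))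
    obtain ⟨a, b, hb, hco⟩ := Nat.exists_eq_pow_mul_and_not_dvd (orderOf_pos c).ne' q hq.one_lt.ne'
    set c' := c ^ (q ^ a) with hc'
    have hc'o : orderOf c' = b := by
      rw [hc', orderOf_pow_of_dvd (pow_pos hq.pos a).ne' (Dvd.intro _ hco.symm), hco,
        Nat.mul_div_cancel_left _ (pow_pos hq.pos a)]
    have hc'N : c' ∉ N := by
      intro hin
      have h1 : (QuotientGroup.mk c : G ⧸ N) ^ (q ^ a) = 1 := by
        rw [← QuotientGroup.mk_pow]; exact (QuotientGroup.eq_one_iff _).2 hin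
      have h2 : orderOf (QuotientGroup.mk c : G ⧸ N) ∣ N.index :=
        (Subgroup.index_eq_card N).symm ▸ orderOf_dvd_natCard _
      have h3 : N.index.Coprime (q ^ a) := Nat.Coprime.pow_right a (hcop.coprime_dvd_right hqM)
      exact hcN ((QuotientGroup.eq_one_iff c).1 (orderOf_eq_one_iff.1
        (Nat.eq_one_of_dvd_coprimes h3 h2 (orderOf_dvd_of_pow_eq_one h1))))
    have hcom : Commute c' x' :=
      (show Commute c x from Subgroup.mem_centralizer_singleton_iff.1 hc).pow_pow _ _
    obtain ⟨g, hg⟩ := hcam c' hc'N x' (pow_mem hx _)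
    have h1 : orderOf (c' * x') = orderOf c' := by
      rw [← hg]
      exact orderOf_injective (MulAut.conj g).toMonoidHom (MulAut.conj g).injective c'
    rw [hcom.orderOf_mul_eq_mul_orderOf_of_coprime
      (by rw [hx'o, hc'o]; exact ((hq.coprime_iff_not_dvd).2 hb).symm), hx'o, hc'o] at h1
    have hb0 : b ≠ 0 := fun e => hb (e ▸ dvd_zero q)
    exact hq.ne_one ((mul_eq_left₀ hb0).1 h1)
  · have hcop := hcop_of h
    haveI : Finite (Subgroup G) := Finite.of_injective (SetLike.coe : Subgroup G → Set G) SetLike.coe_injective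
    haveI := Fintype.ofFinite (Subgroup G)
    obtain ⟨H, hH, hmin⟩ := Finset.exists_min_image
      ((Finset.univ : Finset (Subgroup G)).filter (fun H : Subgroup G => H ⊔ N = ⊤)) (fun H : Subgroup G => Nat.card H)
      ⟨⊤, Finset.mem_filter.2 ⟨Finset.mem_univ _, top_sup_eq _⟩⟩
    have hHN : H ⊔ N = ⊤ := (Finset.mem_filter.1 hH).2
    refine ⟨H, hHN, ?_⟩
    by_contra hne
    set K0 := N.subgroupOf H with hK0
    have hK0le : K0 ≤ frattini H := by
      rw [frattini, Order.radical, le_iInf₂_iff]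
      intro U hU
      by_contra hle
      have htop : U ⊔ K0 = ⊤ := hU.2 _ (lt_of_le_of_ne le_sup_left (fun e => hle (sup_eq_left.1 e.symm)))
      have hsub : U.map H.subtype ⊔ N = ⊤ := by
        rw [eq_top_iff, ← hHN]
        refine sup_le ?_ le_sup_right
        calc H = (U ⊔ K0).map H.subtype := by rw [htop, ← MonoidHom.range_eq_map, Subgroup.range_subtype]
          _ = U.map H.subtype ⊔ K0.map H.subtype := Subgroup.map_sup _ _ _
          _ ≤ U.map H.subtype ⊔ N := sup_le_sup_left (fun z ⟨k, hk, hkz⟩ => hkz ▸ hk) _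
      have hle2 := hmin _ (Finset.mem_filter.2 ⟨Finset.mem_univ _, hsub⟩)
      rw [Subgroup.card_map_of_injective H.subtype_injective] at hle2
      exact hU.1 (Subgroup.eq_top_of_le_card U hle2)
    obtain ⟨q, hq, hqd⟩ := Nat.exists_prime_and_dvd (fun e => hne (Subgroup.eq_bot_of_card_eq _ e) : Nat.card (H ⊓ M : Subgroup G) ≠ 1)
    haveI : Fact q.Prime := ⟨hq⟩
    have hqM : q ∣ Nat.card M := hqd.trans (Subgroup.card_dvd_of_le inf_le_right)
    have hqH : q ∣ Nat.card H := hqd.trans (Subgroup.card_dvd_of_le inf_le_left)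
    obtain ⟨Q⟩ : Nonempty (Sylow q H) := inferInstance
    have hQK : (Q : Subgroup H) ≤ K0 := by
      intro y hy
      obtain ⟨k, hk⟩ := IsPGroup.iff_orderOf.1 Q.isPGroup' ⟨y, hy⟩
      rw [Subgroup.orderOf_mk] at hk
      have h1 : orderOf (QuotientGroup.mk (y : G) : G ⧸ N) ∣ N.index :=
        (Subgroup.index_eq_card N).symm ▸ orderOf_dvd_natCard _
      have h2 : orderOf (QuotientGroup.mk (y : G) : G ⧸ N) ∣ q ^ k := by
        refine orderOf_dvd_of_pow_eq_one ?_
        rw [← QuotientGroup.mk_pow, QuotientGroup.eq_one_iff, ← hk, ← Subgroup.coe_pow, pow_orderOf_eq_one]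
        exact one_mem N
      exact (QuotientGroup.eq_one_iff (y : G)).1 (orderOf_eq_one_iff.1
        (Nat.eq_one_of_dvd_coprimes (Nat.Coprime.pow_right k (hcop.coprime_dvd_right hqM)) h1 h2))
    have hQn : (Q : Subgroup H).Normal := by
      refine Subgroup.normalizer_eq_top_iff.1 (frattini_nongenerating ?_)
      exact Sylow.normalizer_sup_eq_top' Q (hQK.trans hK0le)
    obtain ⟨K, hK⟩ := Subgroup.exists_right_complement'_of_coprime (N := (Q : Subgroup H)) Q.card_coprime_index
    have hKtop : K = ⊤ := frattini_nongenerating (eq_top_iff.2 (by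
      rw [← hK.sup_eq_top, sup_comm]; exact sup_le_sup_left (hQK.trans hK0le) _))
    rw [hKtop] at hK
    have hQbot : (Q : Subgroup H) = ⊥ := Subgroup.isComplement'_top_right.1 hK
    exact hq.ne_one (Nat.dvd_one.1 ((Q.dvd_card_of_dvd_card hqH).trans (by rw [hQbot, Subgroup.card_bot])))

end Cfsg.Agent.S4112
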