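import Cfsg.Statements.S4113
import Mathlib
import Cfsg.Agent.Lib.StructB.Misc
import Cfsg.Agent.Lib.Solvable.Nilpotent
import Cfsg.Agent.Lib.Coprime.Complements
-- import your own Cfsg.Agent.* helpers here

set_option autoImplicit false
open Cfsg

namespace Cfsg.Agent.S4113

theorem aux {G : Type*} [Group G] [Finite G] (N M : Subgroup G) [N.Normal] [M.Normal] (hMN : M ≤ N)
    (H : Subgroup G) (hHM : H ⊔ M = ⊤) (hHM' : H ⊓ M = ⊥)
    (hti : ∀ g : G, g ∉ H → H ⊓ H.map (MulAut.conj g).toMonoidHom ≤ N) :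
    ∀ x ∈ M, x ≠ 1 → Subgroup.centralizer ({x} : Set G) ≤ N := by
  classical
  have key : ∀ x ∈ M, x ≠ 1 → ∀ h ∈ H, Commute x h → h ∈ N := by
    intro x hx hx1 h hh hc
    have hxH : x ∉ H := fun hxH => hx1 (Subgroup.mem_bot.1 (hHM' ▸ Subgroup.mem_inf.2 ⟨hxH, hx⟩))
    refine hti x hxH (Subgroup.mem_inf.2 ⟨hh, h, hh, ?_⟩)
    show x * h * x⁻¹ = h
    rw [hc.eq, mul_inv_cancel_right]
  have hHN : H ⊔ N = ⊤ := top_le_iff.1 (hHM ▸ sup_le_sup_left hMN H)
  have hrel : (N.subgroupOf H).index = N.index := by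
    show N.relIndex H = N.index
    rw [← Subgroup.relIndex_top_right N, ← hHN, Subgroup.relIndex_sup_right]
  have hMi : M.index = Nat.card H := by
    have hc : Subgroup.IsComplement' M H := by
      refine Subgroup.isComplement'_of_disjoint_and_mul_eq_univ (disjoint_iff.2 (by rw [inf_comm]; exact hHM')) ?_
      rw [← Subgroup.normal_mul, sup_comm, hHM]; rfl
    exact hc.symm.index_eq_card
  have hcop : ∀ q : ℕ, q.Prime → q ∣ N.index → ¬ q ∣ Nat.card M := by
    intro q hq hqi hqM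
    haveI : Fact q.Prime := ⟨hq⟩
    obtain ⟨⟨y, hyM⟩, hy⟩ := exists_prime_orderOf_dvd_card' (G := M) q hqM
    rw [Subgroup.orderOf_mk] at hy
    obtain ⟨RH⟩ : Nonempty (Sylow q H) := inferInstance
    obtain ⟨R, hR⟩ := (RH.isPGroup'.map H.subtype).exists_le_sylow
    obtain ⟨T, hT⟩ := (IsPGroup.of_card (n := 1) (by rw [Nat.card_zpowers, hy, pow_one]) : IsPGroup q (Subgroup.zpowers y)).exists_le_sylow
    obtain ⟨a, ha⟩ := MulAction.exists_smul_eq G T R
    haveI := R.isPGroup'.isNilpotent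
    have hne : M.subgroupOf (R : Subgroup G) ≠ ⊥ := by
      intro e
      have hmem : a * y * a⁻¹ ∈ (R : Subgroup G) := by
        rw [← ha, Sylow.coe_subgroup_smul]
        exact ⟨y, hT (Subgroup.mem_zpowers y), rfl⟩
      have h1 : (⟨a * y * a⁻¹, hmem⟩ : (R : Subgroup G)) ∈ M.subgroupOf (R : Subgroup G) :=
        (inferInstance : M.Normal).conj_mem y hyM a
      rw [e, Subgroup.mem_bot] at h1
      have h2 : a * y * a⁻¹ = 1 := congrArg Subtype.val h1
      rw [conj_eq_one_iff] at h2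
      rw [h2, orderOf_one] at hy
      exact hq.ne_one hy.symm
    obtain ⟨⟨x, hx⟩, hx1⟩ := Subgroup.ne_bot_iff_exists_ne_one.1
      (CfsgLib.Solvable.normal_inf_center_ne_bot (M.subgroupOf (R : Subgroup G)) hne)
    obtain ⟨hxM, hxZ⟩ := Subgroup.mem_inf.1 hx
    have hle : (RH : Subgroup H) ≤ N.subgroupOf H := fun h hh =>
      key x.1 hxM (fun e => hx1 (Subtype.ext (Subtype.ext e))) h.1 h.2
        (congrArg Subtype.val (Subgroup.mem_center_iff.1 hxZ ⟨h.1, hR ⟨h, hh, rfl⟩⟩)).symm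
    exact RH.not_dvd_index ((hrel ▸ hqi).trans (Subgroup.index_dvd_of_le hle))
  intro x hx hx1 c hc
  refine CfsgLib.StructB.mem_of_forall_primePow N c fun z hz r k hr hk hzo _ => ?_
  by_contra hzN
  haveI : Fact r.Prime := ⟨hr⟩
  have hri : r ∣ N.index := by
    have h1 : orderOf (QuotientGroup.mk z : G ⧸ N) ∣ r ^ k := hzo ▸ orderOf_map_dvd (QuotientGroup.mk' N) z
    obtain ⟨j, -, hj⟩ := (Nat.dvd_prime_pow hr).1 h1
    have hj0 : j ≠ 0 := by
      rintro rfl
      exact hzN ((QuotientGroup.eq_one_iff z).1 (orderOf_eq_one_iff.1 (by rw [hj, pow_zero])))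
    exact (dvd_pow_self r hj0).trans (hj ▸ (Subgroup.index_eq_card N).symm ▸ orderOf_dvd_natCard _)
  have hrM := hcop r hr hri
  obtain ⟨RH⟩ : Nonempty (Sylow r H) := inferInstance
  have hcard : Nat.card ((RH : Subgroup H).map H.subtype) = r ^ (Nat.card G).factorization r := by
    rw [Subgroup.card_map_of_injective H.subtype_injective, RH.card_eq_multiplicity, ← Subgroup.card_mul_index M, hMi,
      Nat.factorization_mul Nat.card_pos.ne' Nat.card_pos.ne', Finsupp.add_apply, Nat.factorization_eq_zero_of_not_dvd hrM, zero_add]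
  obtain ⟨T, hT⟩ := (IsPGroup.of_card (n := k) (by rw [Nat.card_zpowers, hzo]) : IsPGroup r (Subgroup.zpowers z)).exists_le_sylow
  obtain ⟨a, ha⟩ := MulAction.exists_smul_eq G T (Sylow.ofCard _ hcard)
  have hmem : a * z * a⁻¹ ∈ (RH : Subgroup H).map H.subtype := by
    have h := congrArg (fun S : Sylow r G => (S : Subgroup G)) ha
    simp only [Sylow.coe_subgroup_smul, Sylow.coe_ofCard] at h
    rw [← h]
    exact ⟨z, hT (Subgroup.mem_zpowers z), rfl⟩
  obtain ⟨h, -, hh⟩ := hmem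
  have hhH : a * z * a⁻¹ ∈ H := hh ▸ h.2
  have hzx : Commute x z := by
    obtain ⟨i, rfl⟩ := hz
    exact (show Commute x c from (Subgroup.mem_centralizer_singleton_iff.1 hc).symm).zpow_right i
  have hN := key (a * x * a⁻¹) ((inferInstance : M.Normal).conj_mem x hx a) (fun e => hx1 (conj_eq_one_iff.1 e))
    _ hhH (hzx.map (MulAut.conj a).toMonoidHom)
  refine hzN ?_
  simpa [mul_assoc] using (inferInstance : N.Normal).conj_mem _ hN a⁻¹

/-- Let G be a finite group, M ≤ N non-trivial proper normal subgroups, and H a subgroup with HM = G and H ∩ M = 1. Then every element of G outside N acts fixed-point-freely on M (C_G(x) ≤ N for every x ∈ M, x ≠ 1) if and only if H ∩ gHg⁻¹ ≤ H ∩ N for every g outside H, with H proper and non-trivial and H ∩ N proper in H. -/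
theorem result {G : Type*} [Group G] [Finite G] (N M : Subgroup G) [N.Normal] [M.Normal] (hMN : M ≤ N) (hM1 : M ≠ ⊥) (hN2 : N ≠ ⊤)
    (H : Subgroup G) (hHM : H ⊔ M = ⊤) (hHM' : H ⊓ M = ⊥) :
    (∀ x ∈ M, x ≠ 1 → Subgroup.centralizer ({x} : Set G) ≤ N) ↔
      (H ≠ ⊥ ∧ H ≠ ⊤ ∧ H ⊓ N < H ∧ ∀ g : G, g ∉ H → H ⊓ H.map (MulAut.conj g).toMonoidHom ≤ N) := by
  classical
  constructor
  · intro hfr
    refine ⟨?_, ?_, ?_, ?_⟩
    · rintro rfl
      rw [bot_sup_eq] at hHM
      exact hN2 (top_le_iff.1 (hHM ▸ hMN))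
    · rintro rfl
      rw [top_inf_eq] at hHM'
      exact hM1 hHM'
    · refine lt_of_le_of_ne inf_le_left fun e => hN2 (top_le_iff.1 ?_)
      rw [← hHM]
      exact sup_le (inf_eq_left.1 e) hMN
    · intro g hg x hx
      obtain ⟨hxH, hxg⟩ := Subgroup.mem_inf.1 hx
      obtain ⟨m, hm, h, hh, hmh⟩ := Subgroup.mem_sup_of_normal_left.1 ((sup_comm H M ▸ hHM.symm ▸ Subgroup.mem_top g) : g ∈ M ⊔ H)
      obtain ⟨y, hy, hye⟩ := hxg
      have hye' : g * y * g⁻¹ = x := hye
      have hm1 : m ≠ 1 := by rintro rfl; exact hg (by rw [← hmh, one_mul]; exact hh)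
      have hz : m⁻¹ * x * m ∈ H := by
        rw [← hye', ← hmh, show m⁻¹ * (m * h * y * (m * h)⁻¹) * m = h * y * h⁻¹ by group]
        exact mul_mem (mul_mem hh hy) (inv_mem hh)
      have hk : m⁻¹ * x * m * x⁻¹ ∈ H ⊓ M := by
        refine Subgroup.mem_inf.2 ⟨mul_mem hz (inv_mem hxH), ?_⟩
        rw [show m⁻¹ * x * m * x⁻¹ = m⁻¹ * (x * m * x⁻¹) by group]
        exact mul_mem (inv_mem hm) ((inferInstance : M.Normal).conj_mem m hm x)
      rw [hHM', Subgroup.mem_bot, mul_inv_eq_one] at hk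
      refine hfr m hm hm1 (Subgroup.mem_centralizer_singleton_iff.2 ?_)
      calc x * m = m * (m⁻¹ * x * m) := by group
        _ = m * x := by rw [hk]
  · rintro ⟨-, -, -, hti⟩
    exact aux N M hMN H hHM hHM' hti

end Cfsg.Agent.S4113
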