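import Cfsg.Statements.S4115
import Cfsg.Agent.Lib.ClassK.TIHall
import Cfsg.Agent.S0877
-- import your own Cfsg.Agent.* helpers here

set_option autoImplicit false
universe u
open Cfsg

namespace Cfsg.Agent.S4115

open CfsgLib.ClassK Subgroup in
theorem complement_of_normalizer {G : Type u} [Group G] [Finite G] {H : Subgroup G}
    (hTI : Cfsg.IsTISubset (H : Set G))
    (hHall : (Nat.card H).Coprime (H.subgroupOf (normalizer (H : Set G))).index)
    {K : Subgroup (normalizer (H : Set G))} (hK : K.Normal)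
    (hc : K.IsComplement' (H.subgroupOf (normalizer (H : Set G)))) :
    ∃ N : Subgroup G, N.Normal ∧ N.IsComplement' H := by
  have hH := TIHall.coprime_index hTI hHall
  have hfus : ∀ x ∈ H, ∀ y ∈ H, IsConj x y → ∃ h ∈ H, h * x * h⁻¹ = y := by
    intro x hx y hy hxy
    obtain ⟨g, hg⟩ := isConj_iff.mp hxy
    by_cases hx1 : x = 1
    · exact ⟨1, one_mem H, by rw [← hg, hx1]; simp⟩
    have hgM : g ∈ normalizer (H : Set G) :=
      TIHall.mem_normalizer_of_conj hTI hx hx1 (hg ▸ hy)
    obtain ⟨⟨⟨k, hk⟩, ⟨h, hh⟩⟩, hkh⟩ := hc.2 ⟨g, hgM⟩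
    refine ⟨h, hh, ?_⟩
    haveI : (H.subgroupOf (normalizer (H : Set G))).Normal :=
      normal_subgroupOf_of_le_normalizer le_rfl
    have hz : (h : G) * x * (h : G)⁻¹ ∈ H := mul_mem (mul_mem hh hx) (inv_mem hh)
    have hcm : Commute k ⟨_, le_normalizer hz⟩ :=
      commute_of_normal_of_disjoint _ _ hK inferInstance hc.disjoint _ _ hk hz
    rw [← hg, show g = (k : G) * h from (congrArg Subtype.val hkh).symm]
    have h2 : (k : G) * (h * x * (h : G)⁻¹) = h * x * (h : G)⁻¹ * k :=
      congrArg Subtype.val hcm.eq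
    calc (h : G) * x * (h : G)⁻¹ = (h * x * (h : G)⁻¹ * k) * (k : G)⁻¹ := by group
      _ = k * h * x * ((k : G) * h)⁻¹ := by rw [← h2]; group
  have helem : ∀ (E : Subgroup G) (p : ℕ), p.Prime → Cfsg.IsElementary p E →
      Nat.card E ∣ Nat.card H → ∃ g : G, E.map (MulAut.conj g).toMonoidHom ≤ H := by
    intro E p _ _ hd
    obtain ⟨g, hg⟩ := Cfsg.Agent.S4116.result H hH hTI E (fun q _ hq => hq.trans hd)
    refine ⟨g⁻¹, ?_⟩
    rintro _ ⟨e, he, rfl⟩
    obtain ⟨y, hy, rfl⟩ := hg he
    simpa [mul_assoc] using hy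
  obtain ⟨N, hN, hsup, hinf⟩ := Cfsg.Agent.S0877.result H hH hfus helem
  haveI := hN
  exact ⟨N, hN, isComplement'_of_disjoint_and_mul_eq_univ (disjoint_iff.mpr hinf)
    (by rw [← normal_mul, hsup, coe_top])⟩

/-- Let G be a finite group and H a subgroup that meets each of its conjugates by elements outside N_G(H) trivially and whose order is coprime to its index in N_G(H). Then H has a normal complement in N_G(H) if and only if H has a normal complement in G. Moreover, if H is not normal in G and has a normal complement in N_G(H), then H is isomorphic to a Frobenius complement of some finite Frobenius group. -/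
theorem result {G : Type u} [Group G] [Finite G] (H : Subgroup G)
    (hTI : Cfsg.IsTISubset (H : Set G)) (hHall : (Nat.card H).Coprime (H.subgroupOf (Subgroup.normalizer (H : Set G))).index) :
    ((∃ K : Subgroup (Subgroup.normalizer (H : Set G)), K.Normal ∧ K.IsComplement' (H.subgroupOf (Subgroup.normalizer (H : Set G)))) ↔
      (∃ N : Subgroup G, N.Normal ∧ N.IsComplement' H)) ∧
    (¬ H.Normal → (∃ K : Subgroup (Subgroup.normalizer (H : Set G)), K.Normal ∧ K.IsComplement' (H.subgroupOf (Subgroup.normalizer (H : Set G)))) →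
      ∃ (F : Type u) (_ : Group F) (_ : Finite F) (C : Subgroup F), Cfsg.IsFrobeniusComplement C ∧ Nonempty (H ≃* C)) := by
  have hH := CfsgLib.ClassK.TIHall.coprime_index hTI hHall
  refine ⟨⟨fun ⟨K, hK, hc⟩ => complement_of_normalizer hTI hHall hK hc, ?_⟩, ?_⟩
  · rintro ⟨N, hN, hc⟩
    refine ⟨N.subgroupOf _, hN.subgroupOf _, Subgroup.isComplement'_of_disjoint_and_mul_eq_univ ?_ ?_⟩
    · rw [disjoint_iff, eq_bot_iff]
      rintro x ⟨h1, h2⟩
      exact Subtype.ext (Subgroup.disjoint_def.mp hc.disjoint h1 h2)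
    · refine Set.eq_univ_of_forall fun x => ?_
      obtain ⟨⟨⟨n, hn⟩, ⟨h, hh⟩⟩, hnh⟩ := hc.2 (x : G)
      have hhM : h ∈ Subgroup.normalizer (H : Set G) := Subgroup.le_normalizer hh
      have hnM : n ∈ Subgroup.normalizer (H : Set G) := by
        have := mul_mem x.2 (inv_mem hhM)
        rwa [← hnh, mul_inv_cancel_right] at this
      exact ⟨⟨n, hnM⟩, hn, ⟨h, hhM⟩, hh, Subtype.ext hnh⟩
  · rintro hnn ⟨K, hK, hc⟩
    obtain ⟨N, hN, hNc⟩ := complement_of_normalizer hTI hHall hK hc
    haveI := hN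
    exact CfsgLib.ClassK.TIHall.exists_frobenius_of_complement hTI hnn hNc
      (hNc.index_eq_card ▸ hH)

end Cfsg.Agent.S4115
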