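import Cfsg.Statements.S4117
import Mathlib.GroupTheory.SpecificGroups.ZGroup
import Mathlib.GroupTheory.Complement
import Mathlib.Data.Fintype.BigOperators

set_option autoImplicit false
open Cfsg

namespace Cfsg.Agent.S4117

open Subgroup

variable {G A : Type*} [Group G] [Group A] [MulDistribMulAction A G]

/-- The fixed points as a subgroup. -/
def fixedSubgroup (G A : Type*) [Group G] [Group A] [MulDistribMulAction A G] : Subgroup G where
  carrier := MulAction.fixedPoints A G
  one_mem' := fun a => smul_one a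
  mul_mem' := fun {x y} hx hy a => by rw [smul_mul', hx a, hy a]
  inv_mem' := fun {x} hx a => by rw [smul_inv', hx a]

theorem mem_fixedSubgroup {x : G} : x ∈ fixedSubgroup G A ↔ ∀ a : A, a • x = x := Iff.rfl

/-- The subgroup `[G, A]`. -/
def commA (G A : Type*) [Group G] [Group A] [MulDistribMulAction A G] : Subgroup G :=
  Subgroup.closure {y : G | ∃ (a : A) (g : G), y = g⁻¹ * a • g}

theorem gen_mem (a : A) (g : G) : g⁻¹ * a • g ∈ commA G A :=
  subset_closure ⟨a, g, rfl⟩

theorem commA_normal [Finite G] : (commA G A).Normal := by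
  refine normalizer_eq_top_iff.1 (eq_top_iff.2 fun x _ => ?_)
  have key : ∀ x : G, ∀ y ∈ commA G A, x⁻¹ * y * x ∈ commA G A := by
    intro x
    have h : commA G A ≤ (commA G A).comap (MulAut.conj x⁻¹).toMonoidHom := by
      refine (closure_le _).2 ?_
      rintro _ ⟨a, g, rfl⟩
      show x⁻¹ * (g⁻¹ * a • g) * x⁻¹⁻¹ ∈ commA G A
      rw [inv_inv, show x⁻¹ * (g⁻¹ * a • g) * x = ((g * x)⁻¹ * a • (g * x)) * (x⁻¹ * a • x)⁻¹ by
        rw [smul_mul']; group]
      exact mul_mem (gen_mem a _) (inv_mem (gen_mem a x))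
    intro y hy
    simpa using h hy
  refine mem_normalizer_iff''.2 fun y => ⟨key x y, fun hy => ?_⟩
  simpa [mul_assoc] using key x⁻¹ _ hy

theorem smul_mem_commutator (a : A) {d : G} (hd : d ∈ commutator G) : a • d ∈ commutator G := by
  have h := mem_map_of_mem (MulDistribMulAction.toMonoidHom G a) hd
  rw [commutator_def, map_commutator] at h
  exact commutator_mono le_top le_top h

/-- When `G'` is cyclic, `[G, A]` centralises it. -/
theorem commA_le_centralizer [Finite G] [hc : IsCyclic (commutator G)] :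
    commA G A ≤ centralizer (commutator G : Set G) := by
  refine (closure_le _).2 ?_
  rintro _ ⟨a, g, rfl⟩
  refine mem_centralizer_iff.2 fun e he => ?_
  have hd : a⁻¹ • e ∈ commutator G := smul_mem_commutator a⁻¹ he
  obtain ⟨k, hk⟩ := MonoidHom.map_cyclic (G := commutator G)
    (MulAut.conjNormal (H := commutator G) g).toMonoidHom
  have hpow : ∀ d ∈ commutator G, g * d * g⁻¹ = d ^ k := fun d hd => by
    have := congrArg Subtype.val (hk ⟨d, hd⟩)
    simpa using this
  have h1 : g * e * g⁻¹ = e ^ k := hpow e he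
  have h2 : a • g * e * (a • g)⁻¹ = e ^ k := by
    have h3 := congrArg (fun z : G => a • z) (hpow _ hd)
    simp only [smul_mul', smul_inv', smul_zpow', smul_inv_smul] at h3
    exact h3
  calc e * (g⁻¹ * a • g) = g⁻¹ * (g * e * g⁻¹) * a • g := by group
    _ = g⁻¹ * (a • g * e * (a • g)⁻¹) * a • g := by rw [h1, h2]
    _ = g⁻¹ * a • g * e := by group

theorem isCyclic_commA [Finite G] [IsZGroup G] : IsCyclic (commA G A) := by
  have := IsZGroup.isCyclic_commutator G
  set F := centralizer (commutator G : Set G)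
  have : Group.IsNilpotent F := by
    refine Subgroup.isNilpotent_of_ker_le_center (Abelianization.of (G := F)) ?_
    intro z hz
    rw [Abelianization.ker_of] at hz
    have hz' : (z : G) ∈ commutator G := by
      have h := mem_map_of_mem F.subtype hz
      rw [Subgroup.map_subtype_commutator] at h
      exact commutator_mono le_top le_top h
    exact mem_center_iff.2 fun w => Subtype.ext (mem_centralizer_iff.1 w.2 z hz').symm
  exact isCyclic_of_injective (inclusion (commA_le_centralizer (G := G) (A := A)))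
    (inclusion_injective _)

theorem exists_fixed_mem_coset [Finite G] [Finite A] (hcop : (Nat.card A).Coprime (Nat.card G))
    [hM : IsCyclic (commA G A)] (g : G) :
    ∃ m ∈ commA G A, ∀ a : A, a • (g * m) = g * m := by
  classical
  let := Fintype.ofFinite A
  obtain ⟨w, hw⟩ := hM.exists_generator
  letI : CommGroup (commA G A) := { (inferInstance : Group (commA G A)) with
    mul_comm := fun u v => by
      obtain ⟨i, rfl⟩ := mem_zpowers_iff.1 (hw u)
      obtain ⟨j, rfl⟩ := mem_zpowers_iff.1 (hw v)
      rw [← zpow_add, ← zpow_add, add_comm] }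
  have hinv : ∀ (b : A) (y : commA G A), b • (y : G) ∈ commA G A := by
    intro b y
    have h : commA G A ≤ (commA G A).comap (MulDistribMulAction.toMonoidHom G b) := by
      refine (closure_le _).2 ?_
      rintro _ ⟨a, x, rfl⟩
      show b • (x⁻¹ * a • x) ∈ commA G A
      rw [show b • (x⁻¹ * a • x) = ((b • x)⁻¹ * (b * a * b⁻¹) • (b • x)) by
        rw [smul_mul', smul_inv', mul_smul, mul_smul, inv_smul_smul]]
      exact gen_mem _ _
    exact h y.2
  let σ : A → (commA G A →* commA G A) := fun b =>
    { toFun := fun y => ⟨b • (y : G), hinv b y⟩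
      map_one' := Subtype.ext (by simp)
      map_mul' := fun u v => Subtype.ext (by simp) }
  let c : A → commA G A := fun a => ⟨g⁻¹ * a • g, gen_mem a g⟩
  have hc : ∀ b a, c (b * a) = c b * σ b (c a) := fun b a => Subtype.ext (by
    show g⁻¹ * (b * a) • g = g⁻¹ * b • g * b • (g⁻¹ * a • g)
    rw [smul_mul', smul_inv', mul_smul]
    group)
  have hn : (Nat.card (commA G A)).Coprime (Nat.card A) :=
    hcop.symm.coprime_dvd_left (commA G A).card_subgroup_dvd_card
  obtain ⟨m, hm⟩ := (powCoprime hn).surjective (∏ a, c a)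
  refine ⟨m, m.2, fun b => ?_⟩
  have key : c b * σ b m = m := by
    apply (powCoprime hn).injective
    show (c b * σ b m) ^ Nat.card A = m ^ Nat.card A
    have hm' : m ^ Nat.card A = ∏ a, c a := hm
    rw [mul_pow, ← map_pow, hm', map_prod, Nat.card_eq_fintype_card, ← Finset.card_univ,
      ← Finset.prod_const, ← Finset.prod_mul_distrib]
    exact Fintype.prod_equiv (Equiv.mulLeft b) _ _ fun a => (hc b a).symm
  have key' : g⁻¹ * b • g * b • (m : G) = m := congrArg Subtype.val key
  rw [smul_mul']
  calc b • g * b • (m : G) = g * (g⁻¹ * b • g * b • (m : G)) := by group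
    _ = g * m := by rw [key']

theorem fixed_inter [Finite G] [Finite A] (hcop : (Nat.card A).Coprime (Nat.card G))
    [hM : IsCyclic (commA G A)] {y : G} (hy : y ∈ commA G A) (hyf : ∀ a : A, a • y = y) :
    y = 1 := by
  classical
  let := Fintype.ofFinite A
  obtain ⟨w, hw⟩ := hM.exists_generator
  letI : CommGroup (commA G A) := { (inferInstance : Group (commA G A)) with
    mul_comm := fun u v => by
      obtain ⟨i, rfl⟩ := mem_zpowers_iff.1 (hw u)
      obtain ⟨j, rfl⟩ := mem_zpowers_iff.1 (hw v)
      rw [← zpow_add, ← zpow_add, add_comm] }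
  -- every generator is a commutator with an element of `[G, A]`
  have hgen : ∀ (b : A) (g : G), ∃ n ∈ commA G A, g⁻¹ * b • g = n⁻¹ * b • n := by
    intro b g
    obtain ⟨m, hm, hfix⟩ := exists_fixed_mem_coset hcop g
    refine ⟨m⁻¹, inv_mem hm, ?_⟩
    have h1 : b • g = g * m * (b • m)⁻¹ := by
      rw [eq_mul_inv_iff_mul_eq, ← smul_mul', hfix b]
    rw [h1, smul_inv']
    group
  have hinv : ∀ (b : A), ∀ z ∈ commA G A, b • z ∈ commA G A := by
    intro b z hz
    rw [show b • z = z * (z⁻¹ * b • z) by group]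
    exact mul_mem hz (gen_mem b z)
  let ν : commA G A →* commA G A :=
    { toFun := fun z => ∏ a : A, ⟨a • (z : G), hinv a z z.2⟩
      map_one' := Finset.prod_eq_one fun a _ => Subtype.ext (by simp)
      map_mul' := fun u v => by
        rw [← Finset.prod_mul_distrib]
        exact Finset.prod_congr rfl fun a _ => Subtype.ext (by simp) }
  have hν : commA G A ≤ ν.ker.map (commA G A).subtype := by
    refine (closure_le _).2 ?_
    rintro _ ⟨b, g, rfl⟩
    obtain ⟨n, hn, hgn⟩ := hgen b g
    rw [hgn]
    refine ⟨⟨n⁻¹ * b • n, mul_mem (inv_mem hn) (hinv b n hn)⟩, ?_, rfl⟩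
    rw [SetLike.mem_coe, MonoidHom.mem_ker,
      show (⟨n⁻¹ * b • n, mul_mem (inv_mem hn) (hinv b n hn)⟩ : commA G A) =
        (⟨n, hn⟩ : commA G A)⁻¹ * ⟨b • n, hinv b n hn⟩ from rfl, map_mul, map_inv, inv_mul_eq_one]
    exact (Fintype.prod_equiv (Equiv.mulRight b) _ _ fun a => Subtype.ext (by
      simp [mul_smul])).symm
  obtain ⟨z, hz, hzy⟩ := hν hy
  change (z : G) = y at hzy
  have h1 : z ^ Nat.card A = 1 := by
    rw [Nat.card_eq_fintype_card, ← Finset.card_univ, ← Finset.prod_const, ← MonoidHom.mem_ker.1 hz]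
    exact Finset.prod_congr rfl fun a _ => Subtype.ext (by
      show (z : G) = a • (z : G)
      rw [hzy, hyf a])
  have h2 : z = 1 := by
    rw [← orderOf_eq_one_iff]
    exact Nat.eq_one_of_dvd_coprimes hcop (orderOf_dvd_of_pow_eq_one h1)
      ((orderOf_dvd_natCard z).trans (commA G A).card_subgroup_dvd_card)
  rw [← hzy, h2, coe_one]

/-- Let A be a finite group acting on the finite group G by automorphisms with the orders of A and G coprime, and suppose every Sylow subgroup of G is cyclic. Then the fixed-point subgroup C_G(A) is a Hall subgroup of G (its order is coprime to its index), the subgroup [G, A] generated by the elements g⁻¹·a(g) is cyclic and normal with [G, A] ∩ C_G(A) = 1 and [G, A]·C_G(A) = G. -/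
theorem result {G A : Type*} [Group G] [Finite G] [Group A] [Finite A]
    [MulDistribMulAction A G] (hcop : (Nat.card A).Coprime (Nat.card G))
    (hcyc : ∀ (p : ℕ) [Fact p.Prime] (P : Sylow p G), IsCyclic (P : Subgroup G)) :
    (Nat.card (MulAction.fixedPoints A G : Set G)).Coprime (Nat.card G / Nat.card (MulAction.fixedPoints A G : Set G)) ∧
    IsCyclic (Subgroup.closure {y : G | ∃ (a : A) (g : G), y = g⁻¹ * a • g}) ∧
    (Subgroup.closure {y : G | ∃ (a : A) (g : G), y = g⁻¹ * a • g}).Normal ∧
    (Subgroup.closure {y : G | ∃ (a : A) (g : G), y = g⁻¹ * a • g} : Set G) ∩ MulAction.fixedPoints A G = {1} ∧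
    Subgroup.closure {y : G | ∃ (a : A) (g : G), y = g⁻¹ * a • g} ⊔ Subgroup.closure (MulAction.fixedPoints A G) = ⊤ := by
  classical
  haveI : IsZGroup G := ⟨fun p hp P => have := Fact.mk hp; hcyc p P⟩
  haveI hM : IsCyclic (commA G A) := isCyclic_commA
  haveI hn : (commA G A).Normal := commA_normal
  have hset : Subgroup.closure {y : G | ∃ (a : A) (g : G), y = g⁻¹ * a • g} = commA G A := rfl
  rw [hset]
  have hinf : ∀ y ∈ commA G A, (∀ a : A, a • y = y) → y = 1 := fun y hy hf =>
    fixed_inter hcop hy hf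
  have hprod : ∀ g : G, ∃ x ∈ fixedSubgroup G A, ∃ n ∈ commA G A, g = x * n := by
    intro g
    obtain ⟨m, hm, hf⟩ := exists_fixed_mem_coset hcop g
    exact ⟨g * m, hf, m⁻¹, inv_mem hm, by group⟩
  have hcompl : (fixedSubgroup G A).IsComplement' (commA G A) := by
    refine isComplement'_of_disjoint_and_mul_eq_univ ?_ ?_
    · rw [disjoint_def]
      exact fun {x} hx hy => hinf x hy hx
    · refine Set.eq_univ_of_forall fun g => ?_
      obtain ⟨x, hx, n, hn', rfl⟩ := hprod g
      exact Set.mul_mem_mul hx hn'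
  refine ⟨?_, hM, hn, ?_, ?_⟩
  · have hC : Nat.card (MulAction.fixedPoints A G : Set G) = Nat.card (fixedSubgroup G A) := rfl
    rw [hC, ← hcompl.card_mul, Nat.mul_div_cancel_left _ Nat.card_pos]
    refine Nat.coprime_of_dvd fun r hr hrC hrM => ?_
    have := Fact.mk hr
    obtain ⟨c, hc⟩ := exists_prime_orderOf_dvd_card' r hrC
    obtain ⟨m, hm⟩ := exists_prime_orderOf_dvd_card' r hrM
    rw [← Subgroup.orderOf_coe] at hc hm
    have hmn : (zpowers (m : G)).Normal := by
      constructor
      intro z hz g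
      obtain ⟨j, rfl⟩ := mem_zpowers_iff.1 hz
      obtain ⟨k, hk⟩ := MonoidHom.map_cyclic (G := commA G A)
        (MulAut.conjNormal (H := commA G A) g).toMonoidHom
      have h1 : g * (m : G) * g⁻¹ = (m : G) ^ k := by
        have := congrArg Subtype.val (hk m)
        simpa using this
      rw [← conj_zpow, h1, ← zpow_mul]
      exact zpow_mem_zpowers _ _
    have hp1 : IsPGroup r (zpowers (c : G)) := IsPGroup.of_card (n := 1) (by
      rw [Nat.card_zpowers, hc, pow_one])
    obtain ⟨P, hP⟩ := hp1.exists_le_sylow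
    have hp2 : IsPGroup r (zpowers (m : G)) := IsPGroup.of_card (n := 1) (by
      rw [Nat.card_zpowers, hm, pow_one])
    obtain ⟨P', hP'⟩ := hp2.exists_le_sylow
    obtain ⟨g, hg⟩ := MulAction.exists_smul_eq G P' P
    have hmP : (m : G) ∈ P := by
      rw [← hg]
      have h1 : g⁻¹ * (m : G) * g ∈ zpowers (m : G) := by
        simpa using hmn.conj_mem _ (mem_zpowers (m : G)) g⁻¹
      exact ⟨g⁻¹ * m * g, hP' h1, by simp [mul_assoc]⟩
    have hcP : (c : G) ∈ P := hP (mem_zpowers _)
    obtain ⟨w, hw⟩ := (hcyc r P).exists_generator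
    have hle : zpowers (⟨c, hcP⟩ : (P : Subgroup G)) = zpowers ⟨m, hmP⟩ := by
      let := Fintype.ofFinite (P : Subgroup G)
      have hsub : ∀ z : (P : Subgroup G), orderOf z = r → (zpowers z : Set (P : Subgroup G)) =
          {v | v ^ r = 1} := by
        intro z hz
        refine Set.eq_of_subset_of_ncard_le (fun v hv => ?_) ?_
        · obtain ⟨i, rfl⟩ := mem_zpowers_iff.1 hv
          show (z ^ i) ^ r = 1
          have h5 : z ^ r = 1 := orderOf_dvd_iff_pow_eq_one.1 hz.dvd
          rw [← zpow_natCast, ← zpow_mul, mul_comm, zpow_mul, zpow_natCast, h5, one_zpow]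
        · rw [Set.ncard_eq_toFinset_card', Set.ncard_eq_toFinset_card']
          have h2 : (zpowers z : Set (P : Subgroup G)).toFinset.card = r := by
            rw [Set.toFinset_card, ← Nat.card_eq_fintype_card]
            exact (Nat.card_zpowers z).trans hz
          rw [h2, Set.toFinset_setOf]
          exact IsCyclic.card_pow_eq_one_le hr.pos
      exact SetLike.coe_injective ((hsub _ (by rw [Subgroup.orderOf_mk, hc])).trans
        (hsub _ (by rw [Subgroup.orderOf_mk, hm])).symm)
    obtain ⟨i, hi⟩ := mem_zpowers_iff.1 (hle ▸ mem_zpowers _ :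
      (⟨c, hcP⟩ : (P : Subgroup G)) ∈ zpowers ⟨m, hmP⟩)
    have hcm : (c : G) = (m : G) ^ i := (congrArg Subtype.val hi).symm
    have h1 := hinf c (hcm ▸ zpow_mem m.2 i) c.2
    rw [h1, orderOf_one] at hc
    exact hr.one_lt.ne hc
  · ext y
    exact ⟨fun h => hinf y h.1 h.2, fun h => by
      rw [Set.mem_singleton_iff] at h
      subst h
      exact ⟨one_mem _, fun a => smul_one a⟩⟩
  · refine eq_top_iff.2 fun g _ => ?_
    obtain ⟨x, hx, n, hn', rfl⟩ := hprod g
    exact mul_mem (mem_sup_right (subset_closure hx)) (mem_sup_left hn')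

end Cfsg.Agent.S4117
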