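import Cfsg.Statements.S4118
import Cfsg.Agent.Lib.ClassK.TIHallSep
-- import your own Cfsg.Agent.* helpers here

set_option autoImplicit false
open Cfsg
open CfsgLib.ClassK Subgroup
open scoped commutatorElement

namespace Cfsg.Agent.S4118

/-- Let G be a finite group and H a non-normal subgroup meeting each of its conjugates by elements outside N_G(H) trivially, with the order of H coprime to its index in N_G(H); let π be the set of primes dividing the order of H and suppose G is π-separable (it has a chain of normal subgroups from 1 to G each of whose factors has order divisible only by primes in π or coprime to the order of H). Let O be the largest normal subgroup of G of order coprime to the order of H. Then G = O·N_G(H), O·H is normal in G, and G is solvable if and only if O is solvable and H has no subgroup isomorphic to SL₂(5). -/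
theorem result {G : Type*} [Group G] [Finite G] (H : Subgroup G)
    (hTI : Cfsg.IsTISubset (H : Set G)) (hnn : ¬ H.Normal)
    (hHall : (Nat.card H).Coprime (H.subgroupOf (Subgroup.normalizer (H : Set G))).index)
    (hsep : ∃ (n : ℕ) (M : Fin (n + 1) → Subgroup G), M 0 = ⊥ ∧ M (Fin.last n) = ⊤ ∧ Monotone M ∧ (∀ i, (M i).Normal) ∧
      ∀ i : Fin n, (∀ q : ℕ, q.Prime → q ∣ (M i.castSucc).relIndex (M i.succ) → q ∣ Nat.card H) ∨
        ((M i.castSucc).relIndex (M i.succ)).Coprime (Nat.card H))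
    (O : Subgroup G) (hO : O = sSup {K : Subgroup G | K.Normal ∧ (Nat.card K).Coprime (Nat.card H)}) :
    O ⊔ Subgroup.normalizer (H : Set G) = ⊤ ∧ (O ⊔ H).Normal ∧
    (Group.IsSolvable G ↔ Group.IsSolvable O ∧
      ∀ K : Subgroup G, K ≤ H → ¬ Nonempty (K ≃* Matrix.SpecialLinearGroup (Fin 2) (ZMod 5))) := by
  obtain ⟨hOn, hOc, htop, hJn, ⟨V, _, _, _, φ, hφ⟩, -⟩ :=
    TIHall.sep_structure hTI hnn hHall hsep hO
  refine ⟨htop, hJn, fun hs => ⟨inferInstance, fun K hK ⟨e⟩ => ?_⟩, ?_⟩
  · exact TIHall.not_isSolvable_sl25 (Group.isSolvable_of_surjective (f := e.toMonoidHom)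
      e.surjective)
  rintro ⟨hOs, h25⟩
  have hHs : Group.IsSolvable H := TIHall.isSolvable_of_fpf φ hφ fun K ⟨e⟩ =>
    h25 (K.map H.subtype) (map_subtype_le _)
      ⟨(K.equivMapOfInjective _ H.subtype_injective).symm.trans e⟩
  haveI := hOn
  haveI := hJn
  obtain ⟨Q, hQ, hQH, hQH'⟩ := TIHall.exists_normalizer_complement hHall
  have hJs : Group.IsSolvable (O ⊔ H : Subgroup G) := by
    haveI := hOs
    haveI : Group.IsSolvable ((O ⊔ H : Subgroup G) ⧸ O.subgroupOf (O ⊔ H)) := by
      refine Group.isSolvable_of_surjective (f := (QuotientGroup.mk' _).comp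
        (inclusion (le_sup_right : H ≤ O ⊔ H))) fun v => ?_
      obtain ⟨⟨x, hx⟩, rfl⟩ := QuotientGroup.mk_surjective v
      obtain ⟨h, hh, o, ho, rfl⟩ := mem_sup_of_normal_right.mp (sup_comm O H ▸ hx)
      refine ⟨⟨h, hh⟩, QuotientGroup.eq.mpr (mem_subgroupOf.mpr ?_)⟩
      show h⁻¹ * (h * o) ∈ O
      rwa [inv_mul_cancel_left]
    exact Group.isSolvable_of_ker_le_range (inclusion (le_sup_left : O ≤ O ⊔ H))
      (QuotientGroup.mk' (O.subgroupOf (O ⊔ H))) fun x hx =>
        ⟨⟨x, mem_subgroupOf.mp (by rwa [QuotientGroup.ker_mk'] at hx)⟩, Subtype.ext rfl⟩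
  have hgen : ∀ v : G ⧸ (O ⊔ H), ∃ q ∈ Q, (q : G ⧸ (O ⊔ H)) = v := by
    intro v
    obtain ⟨x, rfl⟩ := QuotientGroup.mk_surjective v
    obtain ⟨o, ho, m, hm, rfl⟩ := mem_sup_of_normal_left.mp (htop ▸ mem_top x :
      x ∈ O ⊔ normalizer (H : Set G))
    haveI : (H.subgroupOf (normalizer (H : Set G))).Normal :=
      normal_subgroupOf_of_le_normalizer le_rfl
    rw [← hQH', sup_comm] at hm
    obtain ⟨h, hh, q, hq, rfl⟩ := (CfsgLib.Coprime.mem_sup_of_le_normalizer hQ).mp hm
    refine ⟨q, hq, QuotientGroup.eq.mpr ?_⟩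
    rw [show q⁻¹ * (o * (h * q)) = q⁻¹ * (o * h) * q⁻¹⁻¹ by group]
    exact hJn.conj_mem _ (mul_mem (mem_sup_left ho) (mem_sup_right hh)) q⁻¹
  haveI : Group.IsSolvable (G ⧸ (O ⊔ H)) := Group.isSolvable_of_comm fun v w => by
    obtain ⟨a, ha, rfl⟩ := hgen v
    obtain ⟨b, hb, rfl⟩ := hgen w
    refine commutatorElement_eq_one_iff_mul_comm.mp ?_
    show ⁅QuotientGroup.mk' (O ⊔ H) a, QuotientGroup.mk' (O ⊔ H) b⁆ = 1
    rw [← map_commutatorElement]
    exact (QuotientGroup.eq_one_iff _).mpr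
      (mem_sup_left (TIHall.commutator_mem hTI hnn hHall hsep hO hQ hQH hQH' hHs ha hb).1)
  exact Group.isSolvable_of_ker_le_range (O ⊔ H).subtype (QuotientGroup.mk' (O ⊔ H))
    (by rw [QuotientGroup.ker_mk', range_subtype])

end Cfsg.Agent.S4118
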