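import Cfsg.Statements.S4125
import Cfsg.Agent.Lib.StructB.BaerPPower

set_option autoImplicit false
open Cfsg

namespace Cfsg.Agent.S4125

open Subgroup CfsgLib.StructB.Baer

universe v

/-- An element of `Q` whose class has size prime to `q` is central in `Q`, `Q` being normal modulo
a normal `q'`-subgroup. -/
theorem commute_of_coprime_class {G : Type*} [Group G] [Finite G] {q : ℕ} [Fact q.Prime]
    (Q : Sylow q G) (K : Subgroup G) [K.Normal] (hdisj : K ⊓ (Q : Subgroup G) = ⊥)
    (hmap : ∀ y ∈ Q, (y : G ⧸ K) ∈ Cfsg.pCore q (G ⧸ K))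
    {x : G} (hx : x ∈ Q) (hind : ¬ q ∣ (centralizer ({x} : Set G)).index) {u : G} (hu : u ∈ Q) :
    u * x = x * u := by
  obtain ⟨T, hT⟩ := exists_sylow_le (ℓ := q) _ hind
  have h1 : Cfsg.pCore q (G ⧸ K) ≤ (T : Subgroup G).map (QuotientGroup.mk' K) :=
    CfsgLib.Solvable.pCore_le_sylow (T.mapSurjective (QuotientGroup.mk'_surjective K))
  obtain ⟨t, ht, htu⟩ := h1 (hmap u hu)
  have hc : t * x = x * t := mem_centralizer_singleton_iff.1 (hT ht)
  have htu' : (t : G ⧸ K) = (u : G ⧸ K) := htu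
  have h2 : (((u * x) * (x * u)⁻¹ : G) : G ⧸ K) = 1 := by
    rw [QuotientGroup.mk_mul, QuotientGroup.mk_inv, QuotientGroup.mk_mul, QuotientGroup.mk_mul,
      ← htu', ← QuotientGroup.mk_mul, ← QuotientGroup.mk_mul, hc, mul_inv_cancel]
  rw [QuotientGroup.eq_one_iff] at h2
  have h3 : u * x * (x * u)⁻¹ ∈ K ⊓ (Q : Subgroup G) :=
    ⟨h2, (Q : Subgroup G).mul_mem ((Q : Subgroup G).mul_mem hu hx)
      ((Q : Subgroup G).inv_mem ((Q : Subgroup G).mul_mem hx hu))⟩
  rw [hdisj, mem_bot] at h3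
  exact mul_inv_eq_one.1 h3

/-- Images modulo the `q'`-core lie in its `q`-core. -/
theorem mem_pCore_quot {G : Type v} [Group G] [Finite G] {q : ℕ} [Fact q.Prime]
    {r : ℕ} [Fact r.Prime] {x : G} {a k : ℕ} (hk : x ^ q ^ k = 1)
    (hx : (centralizer ({x} : Set G)).index ∣ r ^ a) [(Cfsg.pCore r G).Normal] :
    (x : G ⧸ Cfsg.pCore r G) ∈ Cfsg.pCore q (G ⧸ Cfsg.pCore r G) := by
  refine mem_pCore_of_index (r := r) (a := a) (k := k)
    (CfsgLib.Solvable.pCore_quotient_eq_bot r) ?_ ?_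
  · rw [← QuotientGroup.mk_pow, hk, QuotientGroup.mk_one]
  · exact (index_centralizer_map_dvd (QuotientGroup.mk' _) (QuotientGroup.mk'_surjective _) x).trans hx

theorem mem_pCore_primeCore {G : Type v} [Group G] [Finite G] {q : ℕ} [Fact q.Prime]
    (Q : Sylow q G) (K : Subgroup G) [K.Normal] (hK : K = Cfsg.pPrimeCore q G) {x : G}
    (hxQ : x ∈ Q) {r a k : ℕ} (hr : r.Prime) (hk : x ^ q ^ k = 1)
    (hx : (centralizer ({x} : Set G)).index = r ^ a) :
    (x : G ⧸ K) ∈ Cfsg.pCore q (G ⧸ K) := by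
  by_cases hrq : r = q
  · subst hrq
    exact map_pCore_le_of_surjective (QuotientGroup.mk' K) (QuotientGroup.mk'_surjective K)
      (mem_map_of_mem _ (mem_pCore_of_qpower Q hxQ hx))
  · have : Fact r.Prime := ⟨hr⟩
    have := CfsgLib.Solvable.pCore_normal r G
    have hle : Cfsg.pCore r G ≤ K := by
      rw [hK]
      refine CfsgLib.Solvable.le_pPrimeCore inferInstance ?_
      obtain ⟨i, hi⟩ := (CfsgLib.Solvable.pCore_isPGroup (G := G) r).exists_card_eq
      rw [hi]
      exact Nat.Coprime.pow_left i ((Nat.coprime_primes hr Fact.out).2 hrq)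
    let g : G ⧸ Cfsg.pCore r G →* G ⧸ K :=
      QuotientGroup.map _ _ (MonoidHom.id G) (by rwa [Subgroup.comap_id])
    have hg : Function.Surjective g := fun z => by
      obtain ⟨y, rfl⟩ := QuotientGroup.mk_surjective z
      exact ⟨(y : G ⧸ Cfsg.pCore r G), rfl⟩
    exact map_pCore_le_of_surjective g hg (mem_map_of_mem _ (mem_pCore_quot hk hx.dvd))

/-- If elements of the Sylow subgroup with `q`-power classes exist, it is a direct factor. -/
theorem direct_factor {G : Type*} [Group G] [Finite G] {q : ℕ} [Fact q.Prime] (Q : Sylow q G)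
    (K : Subgroup G) [K.Normal] (hdisj : K ⊓ (Q : Subgroup G) = ⊥)
    (hmap : ∀ y ∈ Q, (y : G ⧸ K) ∈ Cfsg.pCore q (G ⧸ K))
    (hidx : ∀ x ∈ Q, ∃ r a : ℕ, r.Prime ∧ (centralizer ({x} : Set G)).index = r ^ a)
    (hA : (∃ x ∈ Q, x ∉ center G ∧ ∃ a, (centralizer ({x} : Set G)).index = q ^ a) ∨
      ∀ x ∈ Q, x ∈ center G) :
    (Q : Subgroup G).Normal ∧ (∃ N : Subgroup G, N.Normal ∧ N.IsComplement' (Q : Subgroup G)) ∧
      ∀ x ∈ Q, ∃ a, (centralizer ({x} : Set G)).index = q ^ a := by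
  classical
  have hqp : q.Prime := Fact.out
  have hmain : (Q : Subgroup G).Normal ∧
      ∀ s : ℕ, s.Prime → s ≠ q → ∀ S : Sylow s G, (Q : Subgroup G) ≤ centralizer (S : Set G) := by
    rcases hA with ⟨x₀, hx₀, hx₀Z, a₀, ha₀⟩ | hall
    swap
    · exact ⟨⟨fun n hn g => by rwa [mem_center_iff.1 (hall n hn) g, mul_inv_cancel_right]⟩,
        fun s _ _ S => fun x hx => mem_centralizer_iff.2 fun y _ => mem_center_iff.1 (hall x hx) y⟩
    have hcase : ∀ x ∈ Q, (∃ a, (centralizer ({x} : Set G)).index = q ^ a) ∨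
        x ∈ centralizer ((Q : Subgroup G) : Set G) := by
      intro x hx
      obtain ⟨r, a, hr, ha⟩ := hidx x hx
      by_cases hrq : r = q
      · exact Or.inl ⟨a, hrq ▸ ha⟩
      · refine Or.inr (mem_centralizer_iff.2 fun u hu => ?_)
        refine commute_of_coprime_class Q K hdisj hmap hx (fun hd => hrq ?_) hu
        exact ((Nat.prime_dvd_prime_iff_eq hqp hr).1 (hqp.dvd_of_dvd_pow (ha ▸ hd))).symm
    have hx₀C : x₀ ∉ centralizer ((Q : Subgroup G) : Set G) := by
      intro hc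
      apply hx₀Z
      apply mem_center_of_index_eq_one
      have hle : (Q : Subgroup G) ≤ centralizer ({x₀} : Set G) := fun u hu =>
        mem_centralizer_singleton_iff.2 (mem_centralizer_iff.1 hc u hu)
      refine Nat.eq_one_of_dvd_coprimes (a := q ^ a₀) (b := (Q : Subgroup G).index) ?_ ha₀.dvd
        (index_dvd_of_le hle)
      exact Nat.Coprime.pow_left a₀ (hqp.coprime_iff_not_dvd.2 Q.not_dvd_index)
    have hQO : (Q : Subgroup G) = Cfsg.pCore q G := by
      refine le_antisymm (fun x hx => ?_) (CfsgLib.Solvable.pCore_le_sylow Q)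
      by_contra hxO
      have hxC := ((hcase x hx).resolve_left fun ⟨a, ha⟩ => hxO (mem_pCore_of_qpower Q hx ha))
      rcases hcase _ (mul_mem hx hx₀) with ⟨a, ha⟩ | h1
      · exact hxO ((Subgroup.mul_mem_cancel_right _ (mem_pCore_of_qpower Q hx₀ ha₀)).1
          (mem_pCore_of_qpower Q (mul_mem hx hx₀) ha))
      · exact hx₀C ((Subgroup.mul_mem_cancel_left _ hxC).1 h1)
    refine ⟨hQO ▸ CfsgLib.Solvable.pCore_normal q G, fun s hs hsq S => ?_⟩
    have : Fact s.Prime := ⟨hs⟩
    have := Q.2.isNilpotent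
    have hnc : center (Q : Subgroup G) ≠ ⊤ := by
      intro e
      apply hx₀C
      refine mem_centralizer_iff.2 fun u hu => ?_
      exact congrArg Subtype.val
        (mem_center_iff.1 (e ▸ mem_top (⟨x₀, hx₀⟩ : (Q : Subgroup G))) ⟨u, hu⟩)
    have htop := eq_top_of_conj_union
      ((centralizer (S : Set G)).subgroupOf (Q : Subgroup G)) (fun ⟨x, hx⟩ => ?_) hnc
    · exact subgroupOf_eq_top.1 htop
    rcases hcase x hx with ⟨a, ha⟩ | h1
    swap
    · exact Or.inl (mem_center_iff.2 fun u => Subtype.ext (mem_centralizer_iff.1 h1 u u.2))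
    refine Or.inr ?_
    have hs' : ¬ s ∣ (centralizer ({x} : Set G)).index := fun hd =>
      hsq ((Nat.prime_dvd_prime_iff_eq hs hqp).1 (hs.dvd_of_dvd_pow (ha ▸ hd)))
    obtain ⟨T, hT⟩ := exists_sylow_le (ℓ := s) _ hs'
    obtain ⟨g, hg⟩ := MulAction.exists_smul_eq G T S
    obtain ⟨b, hb, c, hc, hgbc⟩ := exists_conj_eq_of_qpower Q ha g
    refine ⟨⟨b, hb⟩, ?_⟩
    rw [mem_subgroupOf]
    show b * x * b⁻¹ ∈ centralizer (S : Set G)
    refine mem_centralizer_iff.2 fun z hz => ?_
    have hz' : z ∈ (T : Subgroup G).map (MulAut.conj g).toMonoidHom := by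
      rw [show (T : Subgroup G).map (MulAut.conj g).toMonoidHom = (S : Subgroup G) from
        congrArg (fun P : Sylow s G => (P : Subgroup G)) hg]
      exact hz
    obtain ⟨t, ht, rfl⟩ := hz'
    have h2 : t * x = x * t := mem_centralizer_singleton_iff.1 (hT ht)
    rw [mem_centralizer_singleton_iff] at hc
    have h3 : c * x * c⁻¹ = x := by rw [hc, mul_inv_cancel_right]
    show g * t * g⁻¹ * (b * x * b⁻¹) = b * x * b⁻¹ * (g * t * g⁻¹)
    conv_lhs => rw [← h3]
    conv_rhs => rw [← h3]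
    rw [hgbc]
    calc b * c * t * (b * c)⁻¹ * (b * (c * x * c⁻¹) * b⁻¹)
        = b * c * (t * x) * (b * c)⁻¹ := by group
      _ = b * c * (x * t) * (b * c)⁻¹ := by rw [h2]
      _ = b * (c * x * c⁻¹) * b⁻¹ * (b * c * t * (b * c)⁻¹) := by group
  obtain ⟨hQn, hQS⟩ := hmain
  set C := centralizer ((Q : Subgroup G) : Set G) with hC
  have hCn : C.Normal := Subgroup.normal_centralizer
  have hCidx : C.index = q ^ C.index.primeFactorsList.length := by
    refine Nat.eq_prime_pow_of_unique_prime_dvd index_ne_zero_of_finite fun {s} hs hd => ?_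
    by_contra hsq
    have : Fact s.Prime := ⟨hs⟩
    obtain ⟨S⟩ := (inferInstance : Nonempty (Sylow s G))
    refine S.not_dvd_index (hd.trans (index_dvd_of_le fun z hz => ?_))
    exact mem_centralizer_iff.2 fun u hu => (mem_centralizer_iff.1 (hQS s hs hsq S hu) z hz).symm
  obtain ⟨H, hH⟩ := exists_right_complement'_of_coprime (N := (Q : Subgroup G)) Q.card_coprime_index
  have hcard : Nat.card H = (Q : Subgroup G).index := (hH.symm.index_eq_card).symm
  have hHC : H ≤ C := by
    intro g hg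
    have h1 : orderOf (g : G ⧸ C) ∣ q ^ C.index.primeFactorsList.length := by
      rw [← hCidx, index_eq_card]
      exact orderOf_dvd_natCard _
    have h2 : orderOf (g : G ⧸ C) ∣ (Q : Subgroup G).index :=
      (orderOf_map_dvd (QuotientGroup.mk' C) g).trans (hcard ▸ H.orderOf_dvd_natCard hg)
    have h3 := Nat.eq_one_of_dvd_coprimes
      (Nat.Coprime.pow_left _ (hqp.coprime_iff_not_dvd.2 Q.not_dvd_index)) h1 h2
    rwa [orderOf_eq_one_iff, QuotientGroup.eq_one_iff] at h3
  have hHn : H.Normal := by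
    refine normalizer_eq_top_iff.1 (eq_top_iff.2 ?_)
    rw [← hH.sup_eq_top]
    refine sup_le (fun u hu => ?_) le_normalizer
    refine mem_normalizer_iff.2 fun h => ?_
    constructor
    · intro hh
      rw [mem_centralizer_iff.1 (hHC hh) u hu, mul_inv_cancel_right]
      exact hh
    · intro hh
      have h1 := mem_centralizer_iff.1 (hHC hh) u hu
      have h2 : u * h * u⁻¹ = h := by
        have h3 : u * h * u⁻¹ = u⁻¹ * (u * (u * h * u⁻¹)) := by group
        rw [h1] at h3
        rw [h3]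
        group
      rwa [h2] at hh
  refine ⟨hQn, ⟨H, hHn, hH.symm⟩, fun x hx => ?_⟩
  have hle : H ≤ centralizer ({x} : Set G) := fun h hh =>
    mem_centralizer_singleton_iff.2 (mem_centralizer_iff.1 (hHC hh) x hx).symm
  obtain ⟨i, hi⟩ := Q.2.exists_card_eq
  obtain ⟨b, -, hb⟩ := (Nat.dvd_prime_pow hqp).1
    ((index_dvd_of_le hle).trans ((hH.index_eq_card.trans hi).dvd))
  exact ⟨b, hb⟩

/-- An element centralising a Sylow `ℓ`-subgroup of `K` centralises every invariant one. -/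
theorem le_centralizer_of_class {G : Type*} [Group G] [Finite G] {ℓ : ℕ} [Fact ℓ.Prime]
    (K : Subgroup G) [K.Normal] (T : Sylow ℓ K) {w : G} {t c : ℕ} (ht : t.Prime) (hne : t ≠ ℓ)
    (hw : (centralizer ({w} : Set G)).index = t ^ c)
    (hcop : (Nat.card (zpowers w)).Coprime (Nat.card K))
    (hnT : zpowers w ≤ normalizer (((T : Subgroup K).map K.subtype : Subgroup G) : Set G)) :
    (T : Subgroup K).map K.subtype ≤ centralizer ({w} : Set G) := by
  have hd : ¬ ℓ ∣ ((centralizer ({w} : Set G)).subgroupOf K).index := by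
    intro hd
    have h1 := hd.trans (CfsgLib.StructB.Kazarin.relIndex_dvd_index_normal K (centralizer ({w} : Set G)))
    rw [hw] at h1
    exact hne ((Nat.prime_dvd_prime_iff_eq (Fact.out : ℓ.Prime) ht).1
      ((Fact.out : ℓ.Prime).dvd_of_dvd_pow h1)).symm
  obtain ⟨T', hT'⟩ := exists_sylow_le (ℓ := ℓ) _ hd
  have hT'w : (T' : Subgroup K).map K.subtype ≤ centralizer ({w} : Set G) := by
    rintro _ ⟨z, hz, rfl⟩
    exact hT' hz
  have hnT' : zpowers w ≤ normalizer (((T' : Subgroup K).map K.subtype : Subgroup G) : Set G) := by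
    rw [zpowers_le]
    refine mem_normalizer_iff.2 fun z => ?_
    constructor
    · intro hz
      rw [← mem_centralizer_singleton_iff.1 (hT'w hz), mul_inv_cancel_right]
      exact hz
    · intro hz
      have h1 := mem_centralizer_singleton_iff.1 (hT'w hz)
      have h2 : w * z * w⁻¹ = z := by
        have h3 : w * z * w⁻¹ = w⁻¹ * (w * (w * z * w⁻¹)) := by group
        rw [← h1] at h3
        rw [h3]
        group
      rwa [h2] at hz
  obtain ⟨c', hc', hcon⟩ := CfsgLib.Coprime.exists_conj_invariant_sylow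
    (A := zpowers w) (G := K) le_normalizer_of_normal hcop
    (Or.inl (Group.isSolvable_of_comm fun a b => mul_comm' a b)) T' T hnT' hnT
  rw [← hcon]
  rintro _ ⟨z, hz, rfl⟩
  have h1 := mem_centralizer_singleton_iff.1 (hT'w hz)
  have h2 : w * c' = c' * w := mem_centralizer_iff.1 hc'.2 w (mem_zpowers w)
  rw [mem_centralizer_singleton_iff]
  show c' * z * c'⁻¹ * w = w * (c' * z * c'⁻¹)
  calc c' * z * c'⁻¹ * w = c' * z * c'⁻¹ * (w * c') * c'⁻¹ := by group
    _ = c' * (z * w) * c'⁻¹ := by rw [h2]; group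
    _ = c' * (w * z) * c'⁻¹ := by rw [h1]
    _ = w * (c' * z * c'⁻¹) := by rw [← mul_assoc c' w, ← h2]; group

/-- In the abelian case the classes of the Sylow subgroup share a prime. -/
theorem false_of_mixed {G : Type*} [Group G] [Finite G] {q : ℕ} [Fact q.Prime] (Q : Sylow q G)
    (K : Subgroup G) [K.Normal] (hcopK : (Nat.card K).Coprime q)
    (hcomm : ∀ x ∈ Q, ∀ y ∈ Q, x * y = y * x)
    {M : Subgroup (G ⧸ K)} (hMmap : (Q : Subgroup G).map (QuotientGroup.mk' K) = M)
    (hfalse : ∀ (x y : M) (r s a b : ℕ), r.Prime → s.Prime → r ≠ s → a ≠ 0 → b ≠ 0 →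
      (centralizer ({(x : G ⧸ K)} : Set (G ⧸ K))).index = r ^ a →
      (centralizer ({(y : G ⧸ K)} : Set (G ⧸ K))).index = s ^ b → False)
    {x y : G} (hxQ : x ∈ Q) (hyQ : y ∈ Q) {r s t a b c : ℕ}
    (hr : r.Prime) (hs : s.Prime) (ht : t.Prime) (hrs : r ≠ s) (htr : t ≠ r) (ha0 : a ≠ 0)
    (hx : (centralizer ({x} : Set G)).index = r ^ a) (hy : (centralizer ({y} : Set G)).index = s ^ b)
    (hxy : (centralizer ({x * y} : Set G)).index = t ^ c) : False := by
  classical
  have hqp : q.Prime := Fact.out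
  obtain ⟨i, hi⟩ := Q.2.exists_card_eq
  have hQK : (Nat.card (Q : Subgroup G)).Coprime (Nat.card K) := by
    rw [hi]; exact Nat.Coprime.pow_left i hcopK.symm
  have hzp : ∀ w ∈ Q, (Nat.card (zpowers w)).Coprime (Nat.card K) := fun w hw =>
    hQK.coprime_dvd_left (card_dvd_of_le (zpowers_le.2 hw))
  have hsolQ : Group.IsSolvable (Q : Subgroup G) :=
    Group.isSolvable_of_comm fun u v => Subtype.ext (hcomm u u.2 v v.2)
  -- `x` centralises `K`
  have hxK : K ≤ centralizer ({x} : Set G) := by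
    refine subgroupOf_eq_top.1 (CfsgLib.Solvable.eq_top_of_forall_prime fun ℓ hℓ hd => ?_)
    have : Fact ℓ.Prime := ⟨hℓ⟩
    obtain ⟨T, hT⟩ := CfsgLib.Coprime.exists_invariant_sylow (A := (Q : Subgroup G)) (G := K)
      le_normalizer_of_normal hQK (Or.inl hsolQ) ℓ
    have hcen : ∀ w ∈ Q, ∀ {t c : ℕ}, t.Prime → t ≠ ℓ →
        (centralizer ({w} : Set G)).index = t ^ c →
        (T : Subgroup K).map K.subtype ≤ centralizer ({w} : Set G) := fun w hw t c ht' hne hw' =>
      le_centralizer_of_class K T ht' hne hw' (hzp w hw) ((zpowers_le.2 hw).trans hT)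
    have hle : (T : Subgroup K).map K.subtype ≤ centralizer ({x} : Set G) := by
      by_cases hℓr : r = ℓ
      · subst hℓr
        intro z hz
        have h1 := mem_centralizer_singleton_iff.1 (hcen y hyQ hs hrs.symm hy hz)
        have h2 := mem_centralizer_singleton_iff.1 (hcen _ (mul_mem hxQ hyQ) ht htr hxy hz)
        rw [mem_centralizer_singleton_iff]
        apply mul_right_cancel (b := y)
        rw [mul_assoc z x y, h2, mul_assoc x y z, ← h1, mul_assoc]
      · exact hcen x hxQ hr hℓr hx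
    refine T.not_dvd_index (hd.trans (index_dvd_of_le fun z hz => ?_))
    exact hle (mem_map_of_mem _ hz)
  -- the image of `x` is not central
  obtain ⟨a', -, ha'_eq⟩ := (Nat.dvd_prime_pow hr).1
    ((index_centralizer_map_dvd (QuotientGroup.mk' K) (QuotientGroup.mk'_surjective K) x).trans hx.dvd)
  obtain ⟨b', -, hb'⟩ := (Nat.dvd_prime_pow hs).1
    ((index_centralizer_map_dvd (QuotientGroup.mk' K) (QuotientGroup.mk'_surjective K) y).trans hy.dvd)
  obtain ⟨c', -, hc'⟩ := (Nat.dvd_prime_pow ht).1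
    ((index_centralizer_map_dvd (QuotientGroup.mk' K) (QuotientGroup.mk'_surjective K) (x * y)).trans
      hxy.dvd)
  have ha' : a' ≠ 0 := by
    intro e
    rw [e, pow_zero] at ha'_eq
    have hxc := mem_center_of_index_eq_one ha'_eq
    apply ha0
    have hxZ : x ∈ center G := by
      refine mem_center_iff.2 fun g => ?_
      have h1 : g * x * g⁻¹ * x⁻¹ ∈ K := by
        rw [← QuotientGroup.eq_one_iff, QuotientGroup.mk_mul, QuotientGroup.mk_mul,
          QuotientGroup.mk_mul, QuotientGroup.mk_inv, QuotientGroup.mk_inv]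
        have h2 := mem_center_iff.1 hxc (g : G ⧸ K)
        rw [show (g : G ⧸ K) * x = (x : G ⧸ K) * g from h2, mul_inv_cancel_right, mul_inv_cancel]
      set k := g * x * g⁻¹ * x⁻¹ with hk
      have hkx : Commute k x := mem_centralizer_singleton_iff.1 (hxK h1)
      have hgx : k * x = g * x * g⁻¹ := by rw [hk, inv_mul_cancel_right]
      have hpow : k ^ orderOf x = 1 := by
        have h2 : (k * x) ^ orderOf x = 1 := by
          rw [hgx, conj_pow, pow_orderOf_eq_one, mul_one, mul_inv_cancel]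
        rwa [hkx.mul_pow, pow_orderOf_eq_one, mul_one] at h2
      have hk1 : k = 1 := by
        rw [← orderOf_eq_one_iff]
        exact Nat.eq_one_of_dvd_coprimes
          (hQK.coprime_dvd_left ((Q : Subgroup G).orderOf_dvd_natCard hxQ))
          (orderOf_dvd_of_pow_eq_one hpow) (K.orderOf_dvd_natCard h1)
      rw [hk1, one_mul] at hgx
      exact mul_inv_eq_iff_eq_mul.1 hgx.symm
    have h3 := index_eq_one_of_mem_center hxZ
    rw [hx] at h3
    exact (Nat.pow_eq_one.1 h3).resolve_left hr.ne_one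
  have hmem : ∀ w ∈ Q, (w : G ⧸ K) ∈ M := fun w hw => hMmap ▸ mem_map_of_mem _ hw
  by_cases hb0 : b' = 0
  · rw [hb0, pow_zero] at hb'
    have hyc := mem_center_of_index_eq_one hb'
    have heq : centralizer ({QuotientGroup.mk' K (x * y)} : Set (G ⧸ K)) =
        centralizer ({QuotientGroup.mk' K x} : Set (G ⧸ K)) := by
      ext g
      rw [mem_centralizer_singleton_iff, mem_centralizer_singleton_iff, map_mul, ← mul_assoc,
        mul_assoc (QuotientGroup.mk' K x), ← mem_center_iff.1 hyc g, ← mul_assoc, mul_left_inj]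
    rw [heq, ha'_eq] at hc'
    exact htr ((Nat.prime_dvd_prime_iff_eq hr ht).1
      (hr.dvd_of_dvd_pow (hc' ▸ dvd_pow_self r ha'))).symm
  · exact hfalse ⟨_, hmem x hxQ⟩ ⟨_, hmem y hyQ⟩ r s a' b' hr hs hrs ha' hb0 ha'_eq hb'

/-- Let G be a finite group and q a prime dividing its order such that every element of q-power order has a conjugacy class of prime-power size. Then G is q-solvable of q-length 1: there are normal subgroups K ≤ L of G with K of order prime to q, L/K a q-group and L of index prime to q. Moreover there is a prime p such that every element of q-power order has a class of p-power size (one prime serving for all of them), and for a Sylow q-subgroup Q: if p = q then Q is normal with a normal complement (a direct factor), while if p ≠ q then Q is abelian, the product of Q with the largest normal p-subgroup O_p(G) is normal in G, and G/O_{q'}(G) is solvable, where O_{q'}(G) is the largest normal subgroup of order prime to q. -/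
theorem result {G : Type*} [Group G] [Finite G] (q : ℕ) [Fact q.Prime] (hq : q ∣ Nat.card G)
    (hBaer : ∀ x : G, (∃ k : ℕ, orderOf x = q ^ k) → ∃ (r : ℕ) (a : ℕ), r.Prime ∧ (Subgroup.centralizer ({x} : Set G)).index = r ^ a) (Q : Sylow q G) :
    (∃ K L : Subgroup G, K.Normal ∧ L.Normal ∧ K ≤ L ∧ (Nat.card K).Coprime q ∧ (∃ m : ℕ, K.relIndex L = q ^ m) ∧ L.index.Coprime q) ∧
    ∃ p : ℕ, p.Prime ∧ (∀ x : G, (∃ k : ℕ, orderOf x = q ^ k) → ∃ a : ℕ, (Subgroup.centralizer ({x} : Set G)).index = p ^ a) ∧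
      (p = q → (Q : Subgroup G).Normal ∧ ∃ N : Subgroup G, N.Normal ∧ N.IsComplement' (Q : Subgroup G)) ∧
      (p ≠ q → IsMulCommutative (Q : Subgroup G) ∧ (Cfsg.pCore p G ⊔ (Q : Subgroup G)).Normal ∧
        ∀ _h : (Cfsg.pPrimeCore q G).Normal, Group.IsSolvable (G ⧸ Cfsg.pPrimeCore q G)) := by
  classical
  have hqp : q.Prime := Fact.out
  set K := Cfsg.pPrimeCore q G with hKdef
  haveI hKn : K.Normal := CfsgLib.Solvable.pPrimeCore_normal q G
  have hcopK : (Nat.card K).Coprime q := CfsgLib.Solvable.pPrimeCore_coprime q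
  have hdisj : K ⊓ (Q : Subgroup G) = ⊥ := by
    refine card_eq_one.1 (Nat.eq_one_of_dvd_coprimes ?_ (card_dvd_of_le inf_le_left)
      (card_dvd_of_le inf_le_right))
    obtain ⟨i, hi⟩ := Q.2.exists_card_eq
    rw [hi]
    exact Nat.Coprime.pow_right i hcopK
  have hpow : ∀ x ∈ Q, ∃ k, x ^ q ^ k = 1 := fun x hx =>
    (Q.2 ⟨x, hx⟩).imp fun k hk => congrArg Subtype.val hk
  have hidx : ∀ x ∈ Q, ∃ r a : ℕ, r.Prime ∧ (centralizer ({x} : Set G)).index = r ^ a := by
    intro x hx
    obtain ⟨k, hk⟩ := hpow x hx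
    obtain ⟨j, -, hj⟩ := (Nat.dvd_prime_pow hqp).1 (orderOf_dvd_of_pow_eq_one hk)
    exact hBaer x ⟨j, hj⟩
  have hmap : ∀ x ∈ Q, (x : G ⧸ K) ∈ Cfsg.pCore q (G ⧸ K) := by
    intro x hx
    obtain ⟨r, a, hr, ha⟩ := hidx x hx
    obtain ⟨k, hk⟩ := hpow x hx
    exact mem_pCore_primeCore Q K hKdef hx hr hk ha
  have hgen : ∀ (p : ℕ), (∀ x ∈ Q, ∃ a, (centralizer ({x} : Set G)).index = p ^ a) →
      ∀ x : G, (∃ k : ℕ, orderOf x = q ^ k) →
        ∃ a : ℕ, (centralizer ({x} : Set G)).index = p ^ a := by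
    intro p hQp x ⟨k, hk⟩
    have hz : IsPGroup q (zpowers x) := IsPGroup.of_card (n := k) (by rw [Nat.card_zpowers, hk])
    obtain ⟨T, hT⟩ := hz.exists_le_sylow
    obtain ⟨g, hg⟩ := MulAction.exists_smul_eq G T Q
    have hmem : g * x * g⁻¹ ∈ Q := by
      rw [← hg]
      exact ⟨x, hT (mem_zpowers x), rfl⟩
    obtain ⟨a, ha⟩ := hQp _ hmem
    exact ⟨a, by rw [← index_centralizer_conj g x, ha]⟩
  refine ⟨⟨K, K ⊔ (Q : Subgroup G), hKn, sup_normal Q K hmap, le_sup_left, hcopK, ?_, ?_⟩, ?_⟩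
  · obtain ⟨i, hi⟩ := Q.2.exists_card_eq
    refine ⟨i, ?_⟩
    rw [relIndex_sup_left, ← inf_relIndex_right, hdisj, relIndex_bot_left, hi]
  · refine Nat.Coprime.symm (hqp.coprime_iff_not_dvd.2 fun hd => ?_)
    exact Q.not_dvd_index (hd.trans (index_dvd_of_le le_sup_right))
  by_cases hA : (∃ x ∈ Q, x ∉ center G ∧ ∃ a, (centralizer ({x} : Set G)).index = q ^ a) ∨
      ∀ x ∈ Q, x ∈ center G
  · obtain ⟨hQn, hN, hQq⟩ := direct_factor Q K hdisj hmap hidx hA
    exact ⟨q, hqp, hgen q hQq, fun _ => ⟨hQn, hN⟩, fun h => absurd rfl h⟩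
  push Not at hA
  obtain ⟨hA1, x₀, hx₀, hx₀Z⟩ := hA
  have hne : ∀ x ∈ Q, x ∉ center G → ∀ {r a : ℕ}, r.Prime →
      (centralizer ({x} : Set G)).index = r ^ a → r ≠ q ∧ a ≠ 0 := by
    intro x hx hxZ r a hr ha
    refine ⟨fun e => hA1 x hx hxZ a (e ▸ ha), fun e => hxZ (mem_center_of_index_eq_one ?_)⟩
    rw [ha, e, pow_zero]
  have hcomm : ∀ x ∈ Q, ∀ y ∈ Q, x * y = y * x := by
    intro x hx y hy
    by_cases hxZ : x ∈ center G
    · exact (mem_center_iff.1 hxZ y).symm
    obtain ⟨r, a, hr, ha⟩ := hidx x hx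
    refine (commute_of_coprime_class Q K hdisj hmap hx (fun hd => (hne x hx hxZ hr ha).1 ?_) hy).symm
    exact ((Nat.prime_dvd_prime_iff_eq hqp hr).1 (hqp.dvd_of_dvd_pow (ha ▸ hd))).symm
  -- the action on the image of `Q`
  obtain ⟨M, hM⟩ : ∃ M : Subgroup (G ⧸ K), (Q : Subgroup G).map (QuotientGroup.mk' K) = M :=
    ⟨_, rfl⟩
  have hMcore : M = Cfsg.pCore q (G ⧸ K) := hM ▸ map_eq_pCore Q K hmap
  haveI hMn : M.Normal := hMcore ▸ CfsgLib.Solvable.pCore_normal q (G ⧸ K)
  have hMq : IsPGroup q M := hMcore ▸ CfsgLib.Solvable.pCore_isPGroup q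
  have hMcomm : ∀ u ∈ M, ∀ v ∈ M, u * v = v * u := by
    rw [← hM]
    rintro _ ⟨u, hu, rfl⟩ _ ⟨v, hv, rfl⟩
    rw [← map_mul, ← map_mul, hcomm u hu v hv]
  have hMidx : ¬ q ∣ M.index := by
    rw [← hM]
    exact (Q.mapSurjective (QuotientGroup.mk'_surjective K)).not_dvd_index
  have hCM : centralizer (M : Set (G ⧸ K)) ≤ M := by
    have hCn : (centralizer (M : Set (G ⧸ K))).Normal := Subgroup.normal_centralizer
    have hMC : M ≤ centralizer (M : Set (G ⧸ K)) := fun u hu =>
      mem_centralizer_iff.2 fun v hv => hMcomm v hv u hu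
    let M' := M.subgroupOf (centralizer (M : Set (G ⧸ K)))
    haveI : M'.Normal := normal_subgroupOf
    have hidx' : M'.index ∣ M.index := relIndex_dvd_index_of_normal M _
    have hcop' : (Nat.card M').Coprime M'.index := by
      obtain ⟨i, hi⟩ := hMq.exists_card_eq
      rw [Nat.card_congr (subgroupOfEquivOfLe hMC).toEquiv, hi]
      exact Nat.Coprime.pow_left i (hqp.coprime_iff_not_dvd.2 fun hd => hMidx (hd.trans hidx'))
    obtain ⟨R, hR⟩ := exists_right_complement'_of_coprime hcop'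
    have hRcard : Nat.card R = M'.index := (hR.symm.index_eq_card).symm
    have hRn : R.Normal := by
      refine normalizer_eq_top_iff.1 (eq_top_iff.2 ?_)
      rw [← hR.sup_eq_top]
      refine sup_le (fun u hu => ?_) le_normalizer
      refine mem_normalizer_iff.2 fun h => ?_
      have h1 : u * h = h * u := Subtype.ext (mem_centralizer_iff.1 h.2 u (mem_subgroupOf.1 hu))
      rw [h1, mul_inv_cancel_right]
    have hRle : R ≤ Cfsg.pPrimeCore q (centralizer (M : Set (G ⧸ K))) := by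
      refine CfsgLib.Solvable.le_pPrimeCore hRn ?_
      rw [hRcard]
      exact Nat.Coprime.symm (hqp.coprime_iff_not_dvd.2 fun hd => hMidx (hd.trans hidx'))
    have hbot : R = ⊥ := by
      have h1 := (map_mono (f := (centralizer (M : Set (G ⧸ K))).subtype) hRle).trans
        (CfsgLib.Solvable.map_pPrimeCore_le q _)
      rw [CfsgLib.Solvable.pPrimeCore_quotient_eq_bot q, le_bot_iff] at h1
      exact (map_eq_bot_iff_of_injective _ (Subgroup.subtype_injective _)).1 h1
    have htop : M' = ⊤ := by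
      rw [← hR.sup_eq_top, hbot, sup_bot_eq]
    exact subgroupOf_eq_top.1 htop
  letI : CommGroup M := { (inferInstance : Group M) with
    mul_comm := fun u v => Subtype.ext (hMcomm u u.2 v v.2) }
  let φ : (G ⧸ K) ⧸ M →* MulAut M := QuotientGroup.lift M MulAut.conjNormal (fun u hu => by
    rw [MonoidHom.mem_ker]
    refine MulEquiv.ext fun v => Subtype.ext ?_
    rw [MulAut.conjNormal_apply, MulAut.one_apply, hMcomm u hu v v.2, mul_inv_cancel_right])
  have hstab : ∀ m : M, (stab φ m).index = (centralizer ({(m : G ⧸ K)} : Set (G ⧸ K))).index := by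
    intro m
    rw [← index_comap_of_surjective (stab φ m) (QuotientGroup.mk'_surjective M)]
    congr 1
    ext g
    rw [mem_comap, mem_stab, mem_centralizer_singleton_iff, QuotientGroup.mk'_apply]
    show MulAut.conjNormal g m = m ↔ _
    rw [Subtype.ext_iff, MulAut.conjNormal_apply, mul_inv_eq_iff_eq_mul]
  have hlift : ∀ m : M, ∃ w ∈ Q,
      (centralizer ({(m : G ⧸ K)} : Set (G ⧸ K))).index ∣ (centralizer ({w} : Set G)).index := by
    intro m
    have hm : (m : G ⧸ K) ∈ (Q : Subgroup G).map (QuotientGroup.mk' K) := hM.symm ▸ m.2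
    obtain ⟨w, hw, hwm⟩ := hm
    exact ⟨w, hw, hwm ▸ index_centralizer_map_dvd _ (QuotientGroup.mk'_surjective K) w⟩
  have hcopMH : (Nat.card M).Coprime (Nat.card ((G ⧸ K) ⧸ M)) := by
    obtain ⟨i, hi⟩ := hMq.exists_card_eq
    rw [hi, ← index_eq_card]
    exact Nat.Coprime.pow_left i (hqp.coprime_iff_not_dvd.2 hMidx)
  have hfalse : ∀ (x y : M) (r s a b : ℕ), r.Prime → s.Prime → r ≠ s → a ≠ 0 → b ≠ 0 →
      (centralizer ({(x : G ⧸ K)} : Set (G ⧸ K))).index = r ^ a →
      (centralizer ({(y : G ⧸ K)} : Set (G ⧸ K))).index = s ^ b → False := by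
    intro x y r s a b hr hs hrs ha hb hx hy
    refine false_of_two_primes φ hcopMH (fun m => ?_) hr hs hrs ha hb ((hstab x).trans hx)
      ((hstab y).trans hy)
    obtain ⟨w, hw, hdvd⟩ := hlift m
    obtain ⟨r', a', hr', ha'⟩ := hidx w hw
    obtain ⟨b', -, hb'⟩ := (Nat.dvd_prime_pow hr').1 (hdvd.trans ha'.dvd)
    exact ⟨r', b', hr', (hstab m).trans hb'⟩
  obtain ⟨p, a₀, hp, ha₀⟩ := hidx x₀ hx₀
  obtain ⟨hpq, ha₀0⟩ := hne x₀ hx₀ hx₀Z hp ha₀
  have hQp : ∀ x ∈ Q, ∃ a, (centralizer ({x} : Set G)).index = p ^ a := by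
    intro x hx
    obtain ⟨r, b, hr, hb⟩ := hidx x hx
    by_cases hxZ : x ∈ center G
    · exact ⟨0, by rw [pow_zero, index_eq_one_of_mem_center hxZ]⟩
    obtain ⟨-, hb0⟩ := hne x hx hxZ hr hb
    by_cases hrp : r = p
    · exact ⟨b, hrp ▸ hb⟩
    exfalso
    obtain ⟨t, c, ht, hc⟩ := hidx (x₀ * x) (mul_mem hx₀ hx)
    by_cases htp : t = p
    · rw [hcomm x₀ hx₀ x hx] at hc
      exact false_of_mixed Q K hcopK hcomm hM hfalse hx hx₀ hr hp ht hrp
        (fun e => hrp (e.symm.trans htp)) hb0 hb ha₀ hc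
    · exact false_of_mixed Q K hcopK hcomm hM hfalse hx₀ hx hp hr ht (Ne.symm hrp) htp ha₀0 ha₀
        hb hc
  haveI : Fact p.Prime := ⟨hp⟩
  refine ⟨p, hp, hgen p hQp, fun h => absurd h hpq, fun _ => ⟨⟨⟨fun u v =>
    Subtype.ext (hcomm u u.2 v v.2)⟩⟩, ?_, fun _h => ?_⟩⟩
  · haveI := CfsgLib.Solvable.pCore_normal p G
    refine sup_normal Q (Cfsg.pCore p G) fun x hx => ?_
    obtain ⟨a, ha⟩ := hQp x hx
    obtain ⟨k, hk⟩ := hpow x hx
    exact mem_pCore_quot hk ha.dvd
  · haveI : Group.IsSolvable ((G ⧸ K) ⧸ M) := by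
      refine isSolvable_of_mulAut φ (p := p) hqp hMq ?_ ?_ fun m => ?_
      · rwa [← index_eq_card]
      · rw [injective_iff_map_eq_one]
        intro z hz
        induction z using QuotientGroup.induction_on with
        | H g =>
          rw [QuotientGroup.eq_one_iff]
          refine hCM (mem_centralizer_iff.2 fun u hu => ?_)
          have h1 := congrArg (fun e : MulAut M => ((e ⟨u, hu⟩ : M) : G ⧸ K)) hz
          simp only [φ, QuotientGroup.lift_mk, MulAut.conjNormal_apply, MulAut.one_apply] at h1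
          exact (mul_inv_eq_iff_eq_mul.1 h1).symm
      · obtain ⟨w, hw, hdvd⟩ := hlift m
        obtain ⟨a, ha⟩ := hQp w hw
        obtain ⟨b, -, hb⟩ := (Nat.dvd_prime_pow hp).1 (hdvd.trans ha.dvd)
        exact ⟨b, (hstab m).trans hb⟩
    haveI : Group.IsSolvable M := Group.isSolvable_of_comm fun u v => mul_comm u v
    exact Group.isSolvable_of_ker_le_range M.subtype (QuotientGroup.mk' M) (by simp)

end Cfsg.Agent.S4125
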