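import Cfsg.Statements.S4126
import Cfsg.Agent.Lib.Transfer.PPrimeAut
import Cfsg.Agent.Lib.Transfer.Frobenius
import Cfsg.Agent.Lib.Transfer.PGroupNormal
import Cfsg.Agent.Lib.StructB.BaerPPower

set_option autoImplicit false
open Cfsg

namespace Cfsg.Agent.S4126

open Subgroup
open scoped commutatorElement

/-- The exponent `p` for odd `p`, and `4` for `p = 2`. -/
def smallExp (p : ℕ) : ℕ := if p = 2 then 4 else p

theorem dvd_smallExp (p : ℕ) : p ∣ smallExp p := by
  unfold smallExp
  split_ifs with h
  · rw [h]; norm_num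
  · exact dvd_rfl

theorem dvd_choose_smallExp {p : ℕ} (hp : p.Prime) : p ∣ (smallExp p).choose 2 := by
  unfold smallExp
  split_ifs with h
  · rw [h]; decide
  · exact hp.dvd_choose_self two_ne_zero (by have := hp.two_le; omega)

section PGroup

variable {P : Type*} [Group P] [Finite P] {p : ℕ} [Fact p.Prime]

/-- In a critical subgroup taking the small exponent power is multiplicative. -/
theorem mul_pow_small (hP : IsPGroup p P) {C : Subgroup P}
    (hΦ : (frattini C).map C.subtype ≤ centralizer (C : Set P))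
    (hcomm : ⁅C, (⊤ : Subgroup P)⁆ ≤ C ⊓ centralizer (C : Set P)) (x y : P) (hx : x ∈ C) (hy : y ∈ C) :
    (x * y) ^ smallExp p = x ^ smallExp p * y ^ smallExp p := by
  have hcl : ∀ u v : C, ⁅u, v⁆ ∈ center C := fun u v => by
    refine mem_center_iff.2 fun w => Subtype.ext ?_
    exact mem_centralizer_iff.1
      (hcomm (commutator_mem_commutator u.2 (mem_top (v : P)))).2 w w.2
  set u : C := ⟨x, hx⟩
  set v : C := ⟨y, hy⟩
  have hc : ⁅v, u⁆ ^ p = 1 := by
    rw [← CfsgLib.Transfer.commutatorElement_pow_left hcl, commutatorElement_eq_one_iff_mul_comm]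
    exact Subtype.ext (mem_centralizer_iff.1
      (hΦ (mem_map_of_mem _ (CfsgLib.Transfer.pow_mem_frattini (hP.to_subgroup C) v))) u u.2).symm
  have h := CfsgLib.Transfer.mul_pow_of_commute_commutator (x := u) (y := v)
    (mem_center_iff.1 (hcl v u) u) (mem_center_iff.1 (hcl v u) v) (smallExp p)
  obtain ⟨j, hj⟩ := dvd_choose_smallExp (p := p) Fact.out
  rw [hj, pow_mul, hc, one_pow, mul_one] at h
  exact congrArg Subtype.val h

/-- An automorphism of order prime to `p` fixing the elements of small exponent in a critical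
subgroup is trivial. -/
theorem eq_one_of_fixes_critical (hP : IsPGroup p P) (a : MulAut P) (ha : (orderOf a).Coprime p)
    {C : Subgroup P} (hch : C.Characteristic)
    (hΦ : (frattini C).map C.subtype ≤ centralizer (C : Set P))
    (hcomm : ⁅C, (⊤ : Subgroup P)⁆ ≤ C ⊓ centralizer (C : Set P))
    (hcen : centralizer (C : Set P) ≤ C)
    (h : ∀ x ∈ C, x ^ smallExp p = 1 → a x = x) : a = 1 := by
  have haC : ∀ x ∈ C, a x ∈ C := fun x hx => by
    have h1 := Subgroup.characteristic_iff_comap_eq.1 hch a
    rw [← h1] at hx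
    exact hx
  have key : ∀ k : ℕ, ∀ x ∈ C, x ^ p ^ k = 1 → a x = x := by
    intro k
    induction k with
    | zero =>
      intro x _ hx
      rw [pow_zero, pow_one] at hx
      rw [hx, map_one]
    | succ k ih =>
      intro x hx hk
      have h1 : a (x ^ p) = x ^ p := ih _ (pow_mem hx p) (by rw [← pow_mul, ← pow_succ', hk])
      obtain ⟨j, hj⟩ := dvd_smallExp p
      have h2 : a x ^ smallExp p = x ^ smallExp p := by
        rw [← map_pow, hj, pow_mul, map_pow, h1]
      refine CfsgLib.Transfer.apply_eq_self_of_fixed_quotient hP a ha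
        (h _ (mul_mem (inv_mem hx) (haC x hx)) ?_)
      rw [mul_pow_small hP hΦ hcomm _ _ (inv_mem hx) (haC x hx), h2, inv_pow, inv_mul_cancel]
  have hfix : ∀ x ∈ C, a x = x := fun x hx => by
    obtain ⟨k, hk⟩ := hP x
    exact key k x hx hk
  have : C.Normal := normal_of_characteristic C
  refine MulEquiv.ext fun x => CfsgLib.Transfer.apply_eq_self_of_fixed_quotient hP a ha ?_
  exact hfix _ (hcen (mem_centralizer_iff.2 fun c hc =>
    (CfsgLib.Transfer.commute_of_conj_fixed a (hfix c hc)
      (hfix _ (this.conj_mem c hc x))).eq.symm))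

/-- An automorphism of order prime to `p` fixing every element of small exponent is trivial. -/
theorem eq_one_of_fixes_small (hP : IsPGroup p P) (a : MulAut P) (ha : (orderOf a).Coprime p)
    (h : ∀ x : P, x ^ smallExp p = 1 → a x = x) : a = 1 := by
  obtain ⟨C, hch, hΦ, hcomm, hcen⟩ := CfsgLib.Transfer.exists_critical hP
  exact eq_one_of_fixes_critical hP a ha hch hΦ hcomm hcen fun x _ => h x

end PGroup

variable {G : Type*} [Group G] [Finite G] {p : ℕ} [Fact p.Prime]

/-- A `p'`-element centralises `O_p(G)`. -/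
theorem commute_pCore
    (hgood : ∀ x : G, x ^ smallExp p = 1 →
      ∃ a : ℕ, (centralizer ({x} : Set G)).index = p ^ a)
    (P : Sylow p G) {g : G} (hg : (orderOf g).Coprime p) {x : G}
    (hx : x ∈ Cfsg.pCore p G) : g * x * g⁻¹ = x := by
  set R := Cfsg.pCore p G with hR
  have hRn : R.Normal := CfsgLib.Solvable.pCore_normal p G
  have hRp : IsPGroup p R := CfsgLib.Solvable.pCore_isPGroup p
  obtain ⟨C, hch, hΦ, hcomm, hcen⟩ := CfsgLib.Transfer.exists_critical hRp
  set a : MulAut R := MulAut.conjNormal g with ha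
  have hao : (orderOf a).Coprime p :=
    hg.coprime_dvd_left (orderOf_map_dvd (MulAut.conjNormal (H := R)) g)
  suffices h : a = 1 by
    have h1 := congrArg (fun e : MulAut R => ((e ⟨x, hx⟩ : R) : G)) h
    simpa [ha] using h1
  refine eq_one_of_fixes_critical hRp a hao hch hΦ hcomm hcen ?_
  have hPR : R ≤ (P : Subgroup G) := CfsgLib.Solvable.pCore_le_sylow P
  have hnil : Group.IsNilpotent (P : Subgroup G) := P.2.isNilpotent
  have key : ∀ i : ℕ, ∀ z ∈ C, z ^ smallExp p = 1 →
      (⟨(z : G), hPR z.2⟩ : (P : Subgroup G)) ∈ Subgroup.upperCentralSeries (P : Subgroup G) i →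
      a z = z := by
    intro i
    induction i with
    | zero =>
      intro z _ _ hz
      rw [Subgroup.upperCentralSeries_zero, mem_bot] at hz
      have : z = 1 := Subtype.ext (congrArg (fun w : (P : Subgroup G) => (w : G)) hz :)
      rw [this, map_one]
    | succ i ih =>
      intro z hzC hze hz
      obtain ⟨b, hb⟩ := hgood (z : G) (by rw [← SubmonoidClass.coe_pow, hze, OneMemClass.coe_one])
      obtain ⟨u, hu, c, hc, hguc⟩ := CfsgLib.StructB.Baer.exists_conj_eq_of_qpower P hb g
      rw [mem_centralizer_singleton_iff] at hc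
      have haz : ((a z : R) : G) = u * z * u⁻¹ := by
        rw [ha, MulAut.conjNormal_apply, hguc,
          show u * c * (z : G) * (u * c)⁻¹ = u * (c * z * c⁻¹) * u⁻¹ by group, hc,
          mul_inv_cancel_right]
      have haC : a z ∈ C := by
        have h1 := Subgroup.characteristic_iff_comap_eq.1 hch a
        rw [← h1] at hzC
        exact hzC
      refine CfsgLib.Transfer.apply_eq_self_of_fixed_quotient hRp a hao
        (ih _ (mul_mem (inv_mem hzC) haC) ?_ ?_)
      · rw [mul_pow_small hRp hΦ hcomm _ _ (inv_mem hzC) haC, inv_pow, hze, inv_one, one_mul,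
          ← map_pow, hze, map_one]
      · have h1 := Subgroup.mem_upperCentralSeries_succ_iff.1 (inv_mem hz) (⟨u, hu⟩ : (P : Subgroup G))
        have h2 : (⟨((z⁻¹ * a z : R) : G), hPR (z⁻¹ * a z).2⟩ : (P : Subgroup G)) =
            ⁅(⟨(z : G), hPR z.2⟩ : (P : Subgroup G))⁻¹, ⟨u, hu⟩⁆ := by
          apply Subtype.ext
          simp only [commutatorElement_def, Subgroup.coe_mul, Subgroup.coe_inv, haz, inv_inv]
          group
        rw [h2]
        exact h1
  intro z hzC hze
  exact key _ z hzC hze (by rw [Subgroup.upperCentralSeries_nilpotencyClass]; exact mem_top _)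

/-- Let G be a finite group and p a prime. Suppose every element of order p, and when p = 2 also every element of order 4, has a conjugacy class of p-power size. Then G has a normal p-complement. -/
theorem result {G : Type*} [Group G] [Finite G] (p : ℕ) [Fact p.Prime]
    (h : ∀ x : G, (orderOf x = p ∨ (p = 2 ∧ orderOf x = 4)) → ∃ a : ℕ, (Subgroup.centralizer ({x} : Set G)).index = p ^ a) :
    Cfsg.HasNormalPComplement p G := by
  classical
  have hpp : p.Prime := Fact.out
  have hgood : ∀ x : G, x ^ smallExp p = 1 →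
      ∃ a : ℕ, (centralizer ({x} : Set G)).index = p ^ a := by
    intro x hx
    have hd := orderOf_dvd_of_pow_eq_one hx
    by_cases hx1 : x = 1
    · subst hx1
      exact ⟨0, by rw [pow_zero, index_eq_one, eq_top_iff]
                   exact fun g _ => mem_centralizer_singleton_iff.2 (by rw [mul_one, one_mul])⟩
    have ho : orderOf x ≠ 1 := by rwa [Ne, orderOf_eq_one_iff]
    refine h x ?_
    unfold smallExp at hd
    split_ifs at hd with h2
    · have hle := Nat.le_of_dvd (by norm_num) hd
      have h0 := orderOf_pos x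
      rcases (show orderOf x = 2 ∨ orderOf x = 3 ∨ orderOf x = 4 by omega) with e | e | e
      · exact Or.inl (e.trans h2.symm)
      · rw [e] at hd; norm_num at hd
      · exact Or.inr ⟨h2, e⟩
    · exact Or.inl ((hpp.eq_one_or_self_of_dvd _ hd).resolve_left ho)
  rw [CfsgLib.Transfer.hasNormalPComplement_iff_frobenius]
  intro D hD g hg hgp
  set a : MulAut D := normalizerMonoidHom D ⟨g, hg⟩ with ha
  have hao : (orderOf a).Coprime p := by
    refine hgp.coprime_dvd_left ((orderOf_map_dvd (normalizerMonoidHom D) ⟨g, hg⟩).trans ?_)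
    rw [Subgroup.orderOf_mk]
  obtain ⟨P⟩ := (inferInstance : Nonempty (Sylow p G))
  have hfix : a = 1 := by
    refine eq_one_of_fixes_small hD a hao fun x hx => ?_
    have hxG : (x : G) ^ smallExp p = 1 := by
      rw [← SubmonoidClass.coe_pow, hx, OneMemClass.coe_one]
    obtain ⟨b, hb⟩ := hgood (x : G) hxG
    obtain ⟨T, hT⟩ := hD.exists_le_sylow
    apply Subtype.ext
    show g * (x : G) * g⁻¹ = x
    exact commute_pCore hgood P hgp (CfsgLib.StructB.Baer.mem_pCore_of_qpower T (hT x.2) hb)
  refine mem_centralizer_iff.2 fun d hd => ?_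
  have h1 : g * d * g⁻¹ = d :=
    congrArg (fun e : MulAut D => ((e ⟨d, hd⟩ : D) : G)) hfix
  exact (mul_inv_eq_iff_eq_mul.1 h1).symm

end Cfsg.Agent.S4126
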