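import Cfsg.Statements.S4127
import Cfsg.Agent.Lib.Comp.Local
import Cfsg.Agent.Lib.Transfer.Basic
import Cfsg.Agent.Lib.StructB.Misc
import Cfsg.Agent.Lib.StructB.Ambivalent
-- import your own Cfsg.Agent.* helpers here

set_option autoImplicit false
open Cfsg

namespace Cfsg.Agent.S4127

/-- Let G be a finite group, p a prime and p^a the largest power of p dividing the size of any conjugacy class of G. If some element of p-power order has a conjugacy class of size exactly p^a, then G has a normal p-complement. -/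
theorem result {G : Type*} [Group G] [Finite G] (p : ℕ) [Fact p.Prime]
    (a : ℕ) (hmax : ∀ y : G, ¬ p ^ (a + 1) ∣ (Subgroup.centralizer ({y} : Set G)).index)
    (hx : ∃ x : G, (∃ k : ℕ, orderOf x = p ^ k) ∧ (Subgroup.centralizer ({x} : Set G)).index = p ^ a) :
    Cfsg.HasNormalPComplement p G := by
  classical
  have hp : p.Prime := Fact.out
  obtain ⟨x, ⟨kx, hxo⟩, hxi⟩ := hx
  set L := Subgroup.centralizer ({x} : Set G) with hL
  have hxL : x ∈ L := Subgroup.mem_centralizer_singleton_iff.2 rfl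
  have hxcen : ∀ l ∈ L, Commute x l := fun l hl => (Subgroup.mem_centralizer_singleton_iff.1 hl).symm
  -- every `p'`-element of `L` centralises a Sylow `p`-subgroup of `L`
  have hfull : ∀ y : G, y ∈ L → ¬ p ∣ orderOf y → ∃ S : Sylow p L, ∀ s ∈ (S : Subgroup L), Commute (s : G) y := by
    intro y hy hyp
    set Cy := (Subgroup.centralizer ({y} : Set G)).subgroupOf L with hCy
    have hcop : (orderOf x).Coprime (orderOf y) := by
      rw [hxo]; exact Nat.Coprime.pow_left kx ((hp.coprime_iff_not_dvd).2 hyp)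
    have heq : Subgroup.centralizer ({x * y} : Set G) = L ⊓ Subgroup.centralizer ({y} : Set G) := by
      refine le_antisymm (fun c hc => ?_) (fun c hc => ?_)
      · have hcxy : Commute c (x * y) := Subgroup.mem_centralizer_singleton_iff.1 hc
        obtain ⟨e, he⟩ := Nat.chineseRemainder hcop 1 0
        obtain ⟨f, hf⟩ := Nat.chineseRemainder hcop 0 1
        have hxe : (x * y) ^ e = x := by
          rw [(hxcen y hy).mul_pow, (pow_eq_pow_iff_modEq.2 he.1).trans (pow_one x),
            (pow_eq_pow_iff_modEq.2 he.2).trans (pow_zero y), mul_one]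
        have hyf : (x * y) ^ f = y := by
          rw [(hxcen y hy).mul_pow, (pow_eq_pow_iff_modEq.2 hf.1).trans (pow_zero x),
            (pow_eq_pow_iff_modEq.2 hf.2).trans (pow_one y), one_mul]
        exact Subgroup.mem_inf.2 ⟨Subgroup.mem_centralizer_singleton_iff.2 (hxe ▸ hcxy.pow_right e).eq,
          Subgroup.mem_centralizer_singleton_iff.2 (hyf ▸ hcxy.pow_right f).eq⟩
      · obtain ⟨h1, h2⟩ := Subgroup.mem_inf.1 hc
        exact Subgroup.mem_centralizer_singleton_iff.2
          ((show Commute c x from Subgroup.mem_centralizer_singleton_iff.1 h1).mul_right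
            (show Commute c y from Subgroup.mem_centralizer_singleton_iff.1 h2)).eq
    have hidx : ¬ p ∣ Cy.index := by
      intro hd
      refine hmax (x * y) ?_
      rw [heq, ← Subgroup.relIndex_mul_index (inf_le_left : L ⊓ Subgroup.centralizer ({y} : Set G) ≤ L),
        Subgroup.inf_relIndex_left, hxi, pow_succ']
      exact Nat.mul_dvd_mul hd dvd_rfl
    obtain ⟨S⟩ : Nonempty (Sylow p Cy) := inferInstance
    have hcard : Nat.card ((S : Subgroup Cy).map Cy.subtype) = p ^ (Nat.card L).factorization p := by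
      rw [Subgroup.card_map_of_injective Cy.subtype_injective, S.card_eq_multiplicity, ← Subgroup.card_mul_index Cy,
        Nat.factorization_mul Nat.card_pos.ne' Subgroup.index_ne_zero_of_finite, Finsupp.add_apply,
        Nat.factorization_eq_zero_of_not_dvd hidx, add_zero]
    refine ⟨Sylow.ofCard _ hcard, fun s hs => ?_⟩
    rw [Sylow.coe_ofCard] at hs
    obtain ⟨c, -, rfl⟩ := hs
    exact Subgroup.mem_centralizer_singleton_iff.1 c.2
  obtain ⟨S⟩ : Nonempty (Sylow p L) := inferInstance
  -- so `L` is the product of `S` and its centraliser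
  set W := (S : Subgroup L) ⊔ Subgroup.centralizer ((S : Subgroup L) : Set L) with hW
  have hconj : ∀ y : L, ¬ p ∣ orderOf y → ∃ l : L, l * y * l⁻¹ ∈ Subgroup.centralizer ((S : Subgroup L) : Set L) := by
    intro y hy
    obtain ⟨T, hT⟩ := hfull y.1 y.2 (by rwa [Subgroup.orderOf_coe])
    obtain ⟨l, hl⟩ := MulAction.exists_smul_eq L T S
    refine ⟨l, Subgroup.mem_centralizer_iff.2 fun s hs => ?_⟩
    rw [SetLike.mem_coe, ← hl, Sylow.coe_subgroup_smul] at hs
    obtain ⟨t, ht, rfl⟩ := hs
    show l * t * l⁻¹ * (l * y * l⁻¹) = l * y * l⁻¹ * (l * t * l⁻¹)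
    have : t * y = y * t := Subtype.ext (hT t ht).eq
    rw [show l * t * l⁻¹ * (l * y * l⁻¹) = l * (t * y) * l⁻¹ by group, this]; group
  have hWtop : W = ⊤ := by
    refine CfsgLib.StructB.eq_top_of_conj_cover W fun g => ?_
    obtain ⟨a', b, hb, hgo⟩ := Nat.exists_eq_pow_mul_and_not_dvd (orderOf_pos g).ne' p hp.one_lt.ne'
    have hco : (p ^ a').Coprime b := Nat.Coprime.pow_left a' ((hp.coprime_iff_not_dvd).2 hb)
    obtain ⟨e, he⟩ := Nat.chineseRemainder hco 1 0
    obtain ⟨f, hf⟩ := Nat.chineseRemainder hco 0 1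
    have hgsplit : g ^ e * g ^ f = g := by
      rw [← pow_add]
      refine (pow_eq_pow_iff_modEq.2 ?_).trans (pow_one g)
      rw [hgo]
      exact (Nat.modEq_and_modEq_iff_modEq_mul hco).1 ⟨he.1.add hf.1, he.2.add hf.2⟩
    have hfb : (g ^ f) ^ b = 1 := by
      rw [← pow_mul, ← pow_zero g, pow_eq_pow_iff_modEq, hgo]
      exact (Nat.modEq_and_modEq_iff_modEq_mul hco).1 ⟨(hf.1.mul_right b).trans (by rw [zero_mul]), Nat.modEq_zero_iff_dvd.2 (dvd_mul_left b f)⟩
    have hea : (g ^ e) ^ p ^ a' = 1 := by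
      rw [← pow_mul, ← pow_zero g, pow_eq_pow_iff_modEq, hgo]
      exact (Nat.modEq_and_modEq_iff_modEq_mul hco).1 ⟨Nat.modEq_zero_iff_dvd.2 (dvd_mul_left _ e), (he.2.mul_right _).trans (by rw [zero_mul])⟩
    obtain ⟨l, hl⟩ := hconj (g ^ f) (fun hd => hb (hd.trans (orderOf_dvd_of_pow_eq_one hfb)))
    set y' := l * g ^ f * l⁻¹ with hy'
    set u := l * g ^ e * l⁻¹ with hu
    set Cy := Subgroup.centralizer ({y'} : Set L) with hCy
    have huC : u ∈ Cy := Subgroup.mem_centralizer_singleton_iff.2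
      (((Commute.refl g).pow_pow e f).map (MulAut.conj l).toMonoidHom : Commute u y').eq
    have hSC : (S : Subgroup L) ≤ Cy := fun s hs =>
      Subgroup.mem_centralizer_singleton_iff.2 (Subgroup.mem_centralizer_iff.1 hl s hs)
    have hupow : u ^ p ^ a' = 1 := by rw [hu, conj_pow, hea, mul_one, mul_inv_cancel]
    obtain ⟨R, hR⟩ := IsPGroup.exists_le_sylow (G := Cy) (P := Subgroup.zpowers (⟨u, huC⟩ : Cy))
      (by
        obtain ⟨j, -, hj⟩ := (Nat.dvd_prime_pow hp).1 (orderOf_dvd_of_pow_eq_one hupow)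
        exact IsPGroup.of_card (n := j) (by rw [Nat.card_zpowers, Subgroup.orderOf_mk, hj]))
    obtain ⟨d, hd⟩ := MulAction.exists_smul_eq Cy R (S.subtype hSC)
    have hdu : (d : L) * u * (d : L)⁻¹ ∈ (S : Subgroup L) := by
      have h1 : d * (⟨u, huC⟩ : Cy) * d⁻¹ ∈ ((S.subtype hSC : Sylow p Cy) : Subgroup Cy) := by
        rw [← hd, Sylow.coe_subgroup_smul]
        exact ⟨_, hR (Subgroup.mem_zpowers _), rfl⟩
      exact h1
    refine ⟨(d : L) * l, ?_⟩
    have hdy : (d : L) * y' * (d : L)⁻¹ = y' := by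
      rw [Subgroup.mem_centralizer_singleton_iff.1 d.2, mul_inv_cancel_right]
    have h2 : (d : L) * l * g * ((d : L) * l)⁻¹ = ((d : L) * u * (d : L)⁻¹) * y' := by
      nth_rewrite 1 [← hgsplit]
      rw [← hdy, hu, hy']; group
    rw [h2]
    exact mul_mem (Subgroup.mem_sup_left hdu) (Subgroup.mem_sup_right hl)
  haveI hSn : (S : Subgroup L).Normal := by
    refine Subgroup.normalizer_eq_top_iff.1 (top_le_iff.1 ?_)
    rw [← hWtop]
    exact sup_le Subgroup.le_normalizer (Subgroup.centralizer_le_normalizer _)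
  have hcentS : ∀ y : L, ¬ p ∣ orderOf y → y ∈ Subgroup.centralizer ((S : Subgroup L) : Set L) := by
    intro y hy
    obtain ⟨l, hl⟩ := hconj y hy
    haveI : (Subgroup.centralizer ((S : Subgroup L) : Set L)).Normal := inferInstance
    have := (inferInstance : (Subgroup.centralizer ((S : Subgroup L) : Set L)).Normal).conj_mem _ hl l⁻¹
    simpa [mul_assoc] using this
  have hSmem : ∀ s : G, s ∈ L → (∃ k : ℕ, s ^ p ^ k = 1) → ∃ h : s ∈ L, (⟨s, h⟩ : L) ∈ (S : Subgroup L) := by
    rintro s hs ⟨k, hk⟩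
    exact ⟨hs, CfsgLib.StructB.mem_sylow_of_mem_normalizer S (Subtype.ext hk) (by rw [Subgroup.normalizer_eq_top]; exact Subgroup.mem_top _)⟩
  -- `x` lies in `O_p(G)`
  obtain ⟨P, hP⟩ := (S.isPGroup'.map L.subtype).exists_le_sylow
  have hxP : x ∈ (P : Subgroup G) := by
    obtain ⟨h, hh⟩ := hSmem x hxL ⟨kx, by rw [← hxo, pow_orderOf_eq_one]⟩
    exact hP ⟨_, hh, rfl⟩
  have hLP : ∀ g : G, ∃ u ∈ (P : Subgroup G), ∃ l ∈ L, g = u * l := by
    have hinj : Function.Injective (fun q : (P : Subgroup G) ⧸ L.subgroupOf (P : Subgroup G) =>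
        (Quotient.map' (fun u : (P : Subgroup G) => (u : G)) (fun a b hab => by
          rw [QuotientGroup.leftRel_apply] at hab ⊢; exact hab) q : G ⧸ L)) := by
      intro q r
      induction q using QuotientGroup.induction_on with | _ q => ?_
      induction r using QuotientGroup.induction_on with | _ r => ?_
      intro he
      have h1 := (QuotientGroup.eq (s := L)).1 (he : (QuotientGroup.mk (q : G) : G ⧸ L) = QuotientGroup.mk (r : G))
      exact QuotientGroup.eq.2 h1
    have hcard : Nat.card (G ⧸ L) ≤ Nat.card ((P : Subgroup G) ⧸ L.subgroupOf (P : Subgroup G)) := by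
      rw [← Subgroup.index_eq_card, hxi, ← Subgroup.index_eq_card]
      have h1 := Subgroup.card_mul_index (L.subgroupOf (P : Subgroup G))
      have h2 : Nat.card (L.subgroupOf (P : Subgroup G)) ≤ Nat.card (S : Subgroup L) := by
        refine Nat.card_le_card_of_injective (fun z => ⟨⟨(z.1 : G), z.2⟩, ?_⟩) (fun a b hab => Subtype.ext (Subtype.ext (congrArg (fun w : (S : Subgroup L) => ((w : L) : G)) hab)))
        obtain ⟨k, hk⟩ := P.isPGroup' z.1
        exact (hSmem _ z.2 ⟨k, congrArg Subtype.val hk⟩).choose_spec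
      have h3 : Nat.card (S : Subgroup L) * p ^ a = Nat.card (P : Subgroup G) := by
        rw [S.card_eq_multiplicity, P.card_eq_multiplicity, ← Subgroup.card_mul_index L, hxi,
          Nat.factorization_mul Nat.card_pos.ne' (pow_pos hp.pos a).ne', Finsupp.add_apply, pow_add,
          Nat.Prime.factorization_pow hp, Finsupp.single_eq_same]
      rw [← h3] at h1
      refine le_of_mul_le_mul_left ?_ (Nat.card_pos (α := L.subgroupOf (P : Subgroup G)))
      rw [h1]
      exact Nat.mul_le_mul_right _ h2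
    intro g
    obtain ⟨q, hq⟩ := ((Nat.bijective_iff_injective_and_card _).2 ⟨hinj,
      le_antisymm (Nat.card_le_card_of_injective _ hinj) hcard⟩).2 (QuotientGroup.mk g)
    induction q using QuotientGroup.induction_on with | _ u => ?_
    exact ⟨u, u.2, (u : G)⁻¹ * g, QuotientGroup.eq.1 hq, by group⟩
  set Q := Cfsg.pCore p G with hQ
  haveI hQn : Q.Normal := CfsgLib.Solvable.pCore_normal p G
  have hxQ : x ∈ Q := by
    refine CfsgLib.Solvable.le_pCore (Subgroup.normalClosure_normal (s := {x})) (P.isPGroup'.to_le ?_) (Subgroup.subset_normalClosure (Set.mem_singleton x))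
    rw [Subgroup.normalClosure, Subgroup.closure_le]
    intro z hz
    obtain ⟨x', hx', hzx⟩ := Group.mem_conjugatesOfSet_iff.1 hz
    rw [Set.mem_singleton_iff.1 hx'] at hzx
    obtain ⟨g, rfl⟩ := isConj_iff.1 hzx
    obtain ⟨u, hu, l, hl, rfl⟩ := hLP g
    rw [show u * l * x * (u * l)⁻¹ = u * (l * x * l⁻¹) * u⁻¹ by group, Subgroup.mem_centralizer_singleton_iff.1 hl,
      mul_inv_cancel_right]
    exact mul_mem (mul_mem hu hxP) (inv_mem hu)
  -- the `p'`-elements of `L` centralise `O_p(G)`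
  have hAB : ∀ y ∈ L, ¬ p ∣ orderOf y → y ∈ Subgroup.centralizer (Q : Set G) := by
    intro y hy hyp
    have h := CfsgLib.Comp.le_centralizer_of_centralizes_fixed (R := Q) (P := Subgroup.zpowers x) (Q := Subgroup.zpowers y)
      (p := p) (CfsgLib.Solvable.pCore_isPGroup p)
      (IsPGroup.of_card (n := kx) (by rw [Nat.card_zpowers, hxo]))
      (by rw [Nat.card_zpowers]; exact ((hp.coprime_iff_not_dvd).2 hyp).symm)
      (by rw [Subgroup.normalizer_eq_top]; exact le_top) (by rw [Subgroup.normalizer_eq_top]; exact le_top)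
      (by
        rw [Subgroup.zpowers_le, Subgroup.mem_centralizer_iff]
        rintro z ⟨i, rfl⟩
        exact ((hxcen y hy).zpow_left i).eq)
      (by
        rw [Subgroup.zpowers_le, Subgroup.mem_centralizer_iff]
        intro z hz
        obtain ⟨hzQ, hzc⟩ := Subgroup.mem_inf.1 hz
        have hzL : z ∈ L := Subgroup.mem_centralizer_singleton_iff.2
          (Subgroup.mem_centralizer_iff.1 hzc x (Subgroup.mem_zpowers x)).symm
        obtain ⟨k, hk⟩ := (CfsgLib.Solvable.pCore_isPGroup (G := G) p) ⟨z, hzQ⟩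
        obtain ⟨h, hzS⟩ := hSmem z hzL ⟨k, congrArg Subtype.val hk⟩
        exact congrArg Subtype.val (Subgroup.mem_centralizer_iff.1 (hcentS ⟨y, hy⟩ (by rwa [Subgroup.orderOf_mk])) _ hzS))
    exact h (Subgroup.mem_zpowers y)
  set M := Subgroup.centralizer (Q : Set G) with hM
  haveI : M.Normal := inferInstance
  have hML : M ≤ L := fun c hc => Subgroup.mem_centralizer_singleton_iff.2 (Subgroup.mem_centralizer_iff.1 hc x hxQ).symm
  have hmemL : ∀ y : G, ¬ p ∣ orderOf y → y ∈ L := by
    intro y hy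
    refine CfsgLib.StructB.mem_of_forall_primePow L y fun z hz r k hr hk hzo hdv => hML ?_
    haveI : Fact r.Prime := ⟨hr⟩
    have hrp : ¬ r = p := fun e => hy (e ▸ (dvd_pow_self r (by omega)).trans hdv)
    -- a Sylow `r`-subgroup of `L` is one of `G`
    obtain ⟨T⟩ : Nonempty (Sylow r L) := inferInstance
    have hcard : Nat.card ((T : Subgroup L).map L.subtype) = r ^ (Nat.card G).factorization r := by
      rw [Subgroup.card_map_of_injective L.subtype_injective, T.card_eq_multiplicity, ← Subgroup.card_mul_index L, hxi,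
        Nat.factorization_mul Nat.card_pos.ne' (pow_pos hp.pos a).ne', Finsupp.add_apply,
        Nat.Prime.factorization_pow hp, Finsupp.single_eq_of_ne hrp, add_zero]
    have hTM : (T : Subgroup L).map L.subtype ≤ M := by
      rintro _ ⟨t, ht, rfl⟩
      refine hAB _ t.2 (fun hd => ?_)
      obtain ⟨j, hj⟩ := IsPGroup.iff_orderOf.1 T.isPGroup' ⟨t, ht⟩
      rw [Subgroup.orderOf_mk] at hj
      rw [Subgroup.coe_subtype, Subgroup.orderOf_coe, hj] at hd
      exact hrp ((Nat.prime_dvd_prime_iff_eq hp hr).1 (hp.dvd_of_dvd_pow hd)).symm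
    obtain ⟨R, hR⟩ := (IsPGroup.of_card (n := k) (by rw [Nat.card_zpowers, hzo]) : IsPGroup r (Subgroup.zpowers z)).exists_le_sylow
    obtain ⟨c, hc⟩ := MulAction.exists_smul_eq G R (Sylow.ofCard _ hcard)
    have h1 : c * z * c⁻¹ ∈ M := by
      refine hTM ?_
      have h := congrArg (fun U : Sylow r G => (U : Subgroup G)) hc
      simp only [Sylow.coe_subgroup_smul, Sylow.coe_ofCard] at h
      rw [← h]
      exact ⟨z, hR (Subgroup.mem_zpowers z), rfl⟩
    simpa [mul_assoc] using (inferInstance : M.Normal).conj_mem _ h1 c⁻¹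
  obtain ⟨K, hK⟩ := Subgroup.exists_right_complement'_of_coprime (N := (S : Subgroup L)) S.card_coprime_index
  have hKp : (Nat.card K).Coprime p := by
    rw [← hK.symm.index_eq_card]
    exact ((hp.coprime_iff_not_dvd).2 S.not_dvd_index).symm
  have hKmem : ∀ y : L, y ∈ K ↔ ¬ p ∣ orderOf y := by
    intro y
    constructor
    · exact fun hy hd => hp.ne_one (Nat.eq_one_of_dvd_coprimes hKp (hd.trans (Subgroup.orderOf_dvd_natCard K hy)) dvd_rfl)
    · intro hy
      obtain ⟨⟨⟨s, hs⟩, ⟨k, hk⟩⟩, hsk⟩ := hK.2 y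
      simp only at hsk
      have hkp : ¬ p ∣ orderOf k := fun hd => hp.ne_one (Nat.eq_one_of_dvd_coprimes hKp (hd.trans (Subgroup.orderOf_dvd_natCard K hk)) dvd_rfl)
      have hcomm : Commute s k := Subgroup.mem_centralizer_iff.1 (hcentS k hkp) s hs
      obtain ⟨e, he⟩ := S.isPGroup' ⟨s, hs⟩
      have he' : s ^ p ^ e = 1 := congrArg Subtype.val he
      have h2 : s ^ (orderOf y * Nat.card K) = 1 := by
        have h3 : y ^ (orderOf y * Nat.card K) = 1 := by rw [pow_mul, pow_orderOf_eq_one, one_pow]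
        rw [← hsk, hcomm.mul_pow] at h3
        rw [hsk] at h3
        rwa [mul_comm, pow_mul k, orderOf_dvd_iff_pow_eq_one.1 (Subgroup.orderOf_dvd_natCard K hk), one_pow, mul_one, mul_comm] at h3
      have hs1 : s = 1 := orderOf_eq_one_iff.1 (Nat.eq_one_of_dvd_coprimes
        (Nat.Coprime.pow_left e (Nat.Coprime.mul_right ((hp.coprime_iff_not_dvd).2 hy) hKp.symm))
        (orderOf_dvd_of_pow_eq_one he') (orderOf_dvd_of_pow_eq_one h2))
      rw [← hsk, hs1, one_mul]; exact hk
  have hKG : ∀ g : G, g ∈ K.map L.subtype ↔ ¬ p ∣ orderOf g := by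
    intro g
    constructor
    · rintro ⟨y, hy, rfl⟩
      rw [Subgroup.coe_subtype, Subgroup.orderOf_coe]
      exact (hKmem y).1 hy
    · exact fun hg => ⟨⟨g, hmemL g hg⟩, (hKmem _).2 (by rwa [Subgroup.orderOf_mk]), rfl⟩
  have hKn : (K.map L.subtype).Normal := ⟨fun g hg c => by
    rw [hKG] at hg ⊢
    have := orderOf_injective (MulAut.conj c).toMonoidHom (MulAut.conj c).injective g
    simp only [MulEquiv.coe_toMonoidHom, MulAut.conj_apply] at this
    rwa [this]⟩
  refine CfsgLib.Transfer.hasNormalPComplement_iff_exists.2 ⟨K.map L.subtype, hKn, ?_, fun q => ?_⟩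
  · rwa [Subgroup.card_map_of_injective L.subtype_injective]
  · induction q using QuotientGroup.induction_on with | _ g => ?_
    obtain ⟨j, b, hb, hgo⟩ := Nat.exists_eq_pow_mul_and_not_dvd (orderOf_pos g).ne' p hp.one_lt.ne'
    refine ⟨j, ?_⟩
    rw [← QuotientGroup.mk_pow, QuotientGroup.eq_one_iff, hKG, orderOf_pow_of_dvd (pow_ne_zero j hp.ne_zero) (Dvd.intro _ hgo.symm),
      hgo, Nat.mul_div_cancel_left _ (pow_pos hp.pos j)]
    exact hb

end Cfsg.Agent.S4127
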