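import Cfsg.Statements.S4130
import Cfsg.Agent.Lib.Perm.SquarefreeClasses

set_option autoImplicit false
open Cfsg

namespace Cfsg.Agent.S4130

/-- Let G be a finite group all of whose conjugacy class sizes are square-free. Then G is supersolvable, G/F(G) and the derived subgroup G′ are cyclic of square-free order (F(G) the Fitting subgroup, which is normal), F(G) has nilpotency class at most 2, and G is metabelian. -/
theorem result {G : Type*} [Group G] [Finite G]
    (h : ∀ x : G, Squarefree (Subgroup.centralizer ({x} : Set G)).index) :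
    Cfsg.IsSupersolvable G ∧ (Cfsg.fittingSubgroup G).Normal ∧
    (∀ _h : (Cfsg.fittingSubgroup G).Normal, IsCyclic (G ⧸ Cfsg.fittingSubgroup G) ∧ Squarefree (Cfsg.fittingSubgroup G).index) ∧
    IsCyclic (commutator G) ∧ Squarefree (Nat.card (commutator G)) ∧
    Subgroup.upperCentralSeries ↥(Cfsg.fittingSubgroup G) 2 = ⊤ ∧ commutator ↥(commutator G) = ⊥ := by
  haveI hcyc := CfsgLib.Perm.SquarefreeClasses.isCyclic_commutator h
  obtain ⟨h1, h2, h3⟩ := CfsgLib.Perm.SquarefreeClasses.fitting_structure h
  refine ⟨CfsgLib.Perm.SquarefreeClasses.isSupersolvable _ G rfl h,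
    CfsgLib.Solvable.fittingSubgroup_normal G, fun hn => ⟨h2 hn, h1⟩, hcyc,
    CfsgLib.Perm.SquarefreeClasses.squarefree_card_commutator h, h3, ?_⟩
  rw [commutator_def (G := ↥(commutator G)), Subgroup.commutator_eq_bot_iff_le_centralizer]
  intro a _
  rw [Subgroup.mem_centralizer_iff]
  intro b _
  obtain ⟨v, hv⟩ := IsCyclic.exists_generator (α := commutator G)
  obtain ⟨i, rfl⟩ := Subgroup.mem_zpowers_iff.1 (hv a)
  obtain ⟨j, rfl⟩ := Subgroup.mem_zpowers_iff.1 (hv b)
  rw [← zpow_add, ← zpow_add, add_comm]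

end Cfsg.Agent.S4130
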