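import Cfsg.Statements.S4133
import Cfsg.Agent.Lib.StructB.OddTwoComplement
import Cfsg.Agent.Lib.Transfer.AbelianSylow

set_option autoImplicit false
set_option maxHeartbeats 2000000
open Cfsg

namespace Cfsg.Agent.S4133

open Subgroup CfsgLib.StructB CfsgLib.StructB.OddTwoComplement

universe u

variable {G : Type u} [Group G] [Finite G]

theorem comm_sub (hA : ∀ (p : ℕ) [Fact p.Prime] (P : Sylow p G), IsMulCommutative (P : Subgroup G))
    (W : Subgroup G) (p : ℕ) [Fact p.Prime] (P : Sylow p W) :
    IsMulCommutative (P : Subgroup W) := by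
  obtain ⟨T, hT⟩ := (P.2.map W.subtype).exists_le_sylow
  exact ⟨⟨fun a b => Subtype.ext (Subtype.ext
    (comm_mem (hA p T) (hT (mem_map_of_mem W.subtype a.2)) (hT (mem_map_of_mem W.subtype b.2))))⟩⟩

/-- In a group with abelian Sylow subgroups the derived subgroup meets the centre trivially. -/
theorem commutator_inf_center {W : Type u} [Group W] [Finite W]
    (hA : ∀ (p : ℕ) [Fact p.Prime] (P : Sylow p W), IsMulCommutative (P : Subgroup W))
    {z : W} (h1 : z ∈ commutator W) (h2 : z ∈ center W) : z = 1 := by
  by_contra hz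
  obtain ⟨p, hp, hd⟩ := Nat.exists_prime_and_dvd (fun h => hz (orderOf_eq_one_iff.1 h))
  have := Fact.mk hp
  set w := z ^ (orderOf z / p)
  have hw : orderOf w = p := orderOf_pow_orderOf_div (orderOf_pos z).ne' hd
  have hwp : IsPGroup p (zpowers w) := IsPGroup.of_card (n := 1) (by rw [Nat.card_zpowers, hw, pow_one])
  obtain ⟨P, hP⟩ := hwp.exists_le_sylow
  have := hA p P
  have h := CfsgLib.Transfer.inf_commutator_inf_center_eq_bot (P : Subgroup W) P.card_coprime_index
  have hmem : w ∈ (P : Subgroup W) ⊓ commutator W ⊓ center W :=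
    ⟨⟨hP (mem_zpowers w), pow_mem h1 _⟩, pow_mem h2 _⟩
  rw [h, Subgroup.mem_bot] at hmem
  rw [hmem, orderOf_one] at hw
  exact hp.ne_one hw.symm

/-- A group in which every element centralizes an (abelian) Sylow 2-subgroup is solvable. -/
theorem solvable_of_centralizes {D : Type u} [Group D] [Finite D]
    (hA : ∀ P : Sylow 2 D, IsMulCommutative (P : Subgroup D))
    (h : ∀ y : D, ∃ P : Sylow 2 D, ∀ a ∈ (P : Subgroup D), a * y = y * a) : Group.IsSolvable D := by
  obtain ⟨P₀⟩ : Nonempty (Sylow 2 D) := inferInstance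
  have htop : centralizer ((P₀ : Subgroup D) : Set D) = ⊤ := by
    refine eq_top_of_conj_cover _ fun y => ?_
    obtain ⟨P, hP⟩ := h y
    obtain ⟨x, rfl⟩ := MulAction.exists_smul_eq D P₀ P
    refine ⟨x⁻¹, ?_⟩
    rw [inv_inv, Subgroup.mem_centralizer_iff]
    intro a ha
    have h1 : (x * a * x⁻¹) * y = y * (x * a * x⁻¹) :=
      hP _ ⟨a, ha, rfl⟩
    calc a * (x⁻¹ * y * x) = x⁻¹ * ((x * a * x⁻¹) * y) * x := by group
      _ = _ := by rw [h1]; group
  have hn : (P₀ : Subgroup D).Normal := ⟨fun a ha g => by
    have hg : g ∈ centralizer ((P₀ : Subgroup D) : Set D) := htop ▸ mem_top g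
    rw [← Subgroup.mem_centralizer_iff.1 hg a ha, mul_inv_cancel_right]; exact ha⟩
  have h2 : Group.IsSolvable (D ⧸ (P₀ : Subgroup D)) := CfsgLib.FT.odd_order_solvable (by
    rw [← (P₀ : Subgroup D).index_eq_card, Nat.odd_iff, ← Nat.two_dvd_ne_zero]
    exact P₀.not_dvd_index)
  have h1 : Group.IsSolvable (P₀ : Subgroup D) :=
    Group.isSolvable_of_comm fun a b => Subtype.ext (comm_mem (hA P₀) a.2 b.2)
  exact Group.isSolvable_of_ker_le_range (P₀ : Subgroup D).subtype
    (QuotientGroup.mk' (P₀ : Subgroup D))
    (by rw [QuotientGroup.ker_mk', Subgroup.range_subtype])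

theorem main (hA : ∀ (p : ℕ) [Fact p.Prime] (P : Sylow p G), IsMulCommutative (P : Subgroup G))
    (a : ℕ) (hmax : ∀ y : G, ¬ 2 ^ (a + 1) ∣ (centralizer ({y} : Set G)).index) (x : G)
    (hx : (centralizer ({x} : Set G)).index = 2 ^ a) : Group.IsSolvable G := by
  classical
  set C := centralizer ({x} : Set G) with hCdef
  set V := normalClosure ({x} : Set G) with hVdef
  set W := centralizer (V : Set G) with hWdef
  have hVn : V.Normal := normalClosure_normal
  have hWC : W ≤ C := by
    intro w hw
    rw [hCdef, Subgroup.mem_centralizer_singleton_iff]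
    exact ((Subgroup.mem_centralizer_iff.1 hw) x (subset_normalClosure rfl)).symm
  -- a Sylow 2-subgroup containing the one of `C`
  obtain ⟨Q⟩ : Nonempty (Sylow 2 C) := inferInstance
  obtain ⟨S, hS⟩ := (Q.2.map C.subtype).exists_le_sylow
  have hSc := hA 2 S
  set Q' := (Q : Subgroup C).map C.subtype with hQ'
  have hcardQ : Nat.card Q' * 2 ^ a = Nat.card (S : Subgroup G) := by
    rw [hQ', Subgroup.card_map_of_injective C.subtype_injective, Q.card_eq_multiplicity,
      S.card_eq_multiplicity, ← C.card_mul_index, hx,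
      Nat.factorization_mul Nat.card_pos.ne' (by positivity), Finsupp.add_apply, pow_add,
      Nat.Prime.factorization_pow Nat.prime_two, Finsupp.single_eq_same]
  -- `S ∩ C` centralizes every conjugate of `x`
  have hSI : (S : Subgroup G) ⊓ C ≤ W := by
    have hIQ : Nat.card ((S : Subgroup G) ⊓ C : Subgroup G) ≤ Nat.card Q' := by
      obtain ⟨T, hT⟩ := ((S.2.to_le (inf_le_left : (S : Subgroup G) ⊓ C ≤ _)).comap_subtype
        (K := C)).exists_le_sylow
      rw [show Nat.card ((S : Subgroup G) ⊓ C : Subgroup G)
          = Nat.card (((S : Subgroup G) ⊓ C).subgroupOf C) from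
          Nat.card_congr (Subgroup.subgroupOfEquivOfLe inf_le_right).toEquiv.symm,
        hQ', Subgroup.card_map_of_injective C.subtype_injective,
        Nat.card_congr (Q.equiv T).toEquiv]
      exact Subgroup.card_le_of_le hT
    have hrel : C.relIndex (S : Subgroup G) = C.index := by
      have h1 := Subgroup.relIndex_mul_relIndex (⊥ : Subgroup G) ((S : Subgroup G) ⊓ C) S bot_le
        inf_le_left
      rw [inf_comm (S : Subgroup G) C, Subgroup.inf_relIndex_right, Subgroup.relIndex_bot_left,
        Subgroup.relIndex_bot_left, inf_comm C] at h1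
      refine le_antisymm ?_ ?_
      · rw [← Subgroup.relIndex_top_right C]
        exact Subgroup.relIndex_le_of_le_right le_top
          (by rw [Subgroup.relIndex_top_right]; exact C.index_ne_zero_of_finite)
      · rw [hx]
        by_contra hlt
        push Not at hlt
        have := Nat.mul_lt_mul_of_le_of_lt hIQ hlt Nat.card_pos
        omega
    have htrans : ∀ g : G, ∃ s ∈ (S : Subgroup G), g * x * g⁻¹ = s * x * s⁻¹ := by
      intro g
      let f : (S : Subgroup G) ⧸ C.subgroupOf S → G ⧸ C := fun q => Quotient.liftOn' q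
        (fun s => ((s : G) : G ⧸ C)) fun s t h => by
          rw [QuotientGroup.leftRel_apply, Subgroup.mem_subgroupOf] at h
          exact QuotientGroup.eq.2 h
      have hfi : Function.Injective f := by
        intro q q'
        induction q using QuotientGroup.induction_on with
        | H s =>
          induction q' using QuotientGroup.induction_on with
          | H t =>
            intro h
            exact QuotientGroup.eq.2 (Subgroup.mem_subgroupOf.2 (QuotientGroup.eq.1 h))
      have hfs := ((Nat.bijective_iff_injective_and_card f).2 ⟨hfi, by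
        rw [← Subgroup.index_eq_card, ← Subgroup.index_eq_card]; exact hrel⟩).2
      obtain ⟨q, hq⟩ := hfs (g : G ⧸ C)
      induction q using QuotientGroup.induction_on with
      | H s =>
        refine ⟨s, s.2, ?_⟩
        have hc : (s : G)⁻¹ * g ∈ C := QuotientGroup.eq.1 hq
        rw [hCdef, Subgroup.mem_centralizer_singleton_iff] at hc
        calc g * x * g⁻¹ = (s : G) * (((s : G)⁻¹ * g) * x) * g⁻¹ := by group
          _ = _ := by rw [hc]; group
    intro i hi
    have hiS : i ∈ (S : Subgroup G) := hi.1
    have hiC : i * x = x * i := Subgroup.mem_centralizer_singleton_iff.1 hi.2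
    have hle : V ≤ centralizer ({i} : Set G) := by
      rw [hVdef, normalClosure, closure_le]
      intro y hy
      obtain ⟨z, hz, hconj⟩ := Group.mem_conjugatesOfSet_iff.1 hy
      rw [Set.mem_singleton_iff] at hz
      obtain ⟨g, rfl⟩ := isConj_iff.1 hconj
      obtain ⟨s, hs, hgs⟩ := htrans g
      rw [hz, hgs, SetLike.mem_coe, Subgroup.mem_centralizer_singleton_iff]
      have his : i * s = s * i := comm_mem hSc hiS hs
      calc s * x * s⁻¹ * i = s * x * (s⁻¹ * (i * s) * s⁻¹) := by group
        _ = s * (x * i) * s⁻¹ := by rw [his]; group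
        _ = i * (s * x * s⁻¹) := by rw [← hiC, ← mul_assoc, ← his]; group
    rw [hWdef, Subgroup.mem_centralizer_iff]
    intro v hv
    exact Subgroup.mem_centralizer_singleton_iff.1 (hle hv)
  have hQW : Q' ≤ W := fun y hy => hSI ⟨hS hy, by
    obtain ⟨c, -, rfl⟩ := hy; exact c.2⟩
  have hrelodd : ¬ 2 ∣ W.relIndex C := by
    intro h
    refine Q.not_dvd_index (dvd_trans h ?_)
    refine Subgroup.index_dvd_of_le (H := (Q : Subgroup C)) (K := W.subgroupOf C) fun c hc => ?_
    exact Subgroup.mem_subgroupOf.2 (hQW ⟨c, hc, rfl⟩)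
  -- the quotient by `W`
  have hquot : Group.IsSolvable (G ⧸ W) := by
    have hi : (C.map (QuotientGroup.mk' W)).index = 2 ^ a := by
      rw [Subgroup.index_map_eq _ (QuotientGroup.mk'_surjective W) (by rwa [QuotientGroup.ker_mk']), hx]
    have hodd : Odd (Nat.card (C.map (QuotientGroup.mk' W))) := by
      have h1 : (C.map (QuotientGroup.mk' W)).index * Nat.card (C.map (QuotientGroup.mk' W))
          = W.index := by
        rw [mul_comm, Subgroup.card_mul_index, W.index_eq_card]
      rw [hi, ← Subgroup.relIndex_mul_index hWC, hx, mul_comm (W.relIndex C)] at h1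
      rw [Nat.eq_of_mul_eq_mul_left (by positivity) h1, Nat.odd_iff, ← Nat.two_dvd_ne_zero]
      exact hrelodd
    refine isSolvable_of_abelian_sylow _ (G ⧸ W) rfl
      (S.mapSurjective (QuotientGroup.mk'_surjective W)) ⟨⟨fun u v => Subtype.ext ?_⟩⟩ _ a hodd hi
    obtain ⟨u', hu', hu⟩ := Subgroup.mem_map.1 (show (u : G ⧸ W) ∈
      (S : Subgroup G).map (QuotientGroup.mk' W) from u.2)
    obtain ⟨v', hv', hv⟩ := Subgroup.mem_map.1 (show (v : G ⧸ W) ∈
      (S : Subgroup G).map (QuotientGroup.mk' W) from v.2)
    show (u : G ⧸ W) * v = v * u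
    rw [← hu, ← hv, ← map_mul, ← map_mul, comm_mem hSc hu' hv']
  -- the derived subgroup of `W`
  set D := (commutator W).map W.subtype with hDdef
  have hDW : D ≤ W := map_subtype_le _
  have hDn : D.Normal := by
    rw [hDdef, commutator_def, Subgroup.map_commutator, ← MonoidHom.range_eq_map, Subgroup.range_subtype]
    infer_instance
  have hcent : ∀ y ∈ D, ∃ P : Sylow 2 D, ∀ q ∈ (P : Subgroup D), (q : G) * y = y * q := by
    intro y hy
    have hxy : x * y = y * x :=
      (Subgroup.mem_centralizer_iff.1 (hDW hy)) x (subset_normalClosure rfl)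
    have hle : centralizer ({x * y} : Set G) ≤ C ⊓ centralizer ({y} : Set G) := by
      intro g hg
      rw [Subgroup.mem_centralizer_singleton_iff] at hg
      have hgx : x⁻¹ * (g * x * g⁻¹) = 1 := by
        have hV : x⁻¹ * (g * x * g⁻¹) ∈ V := V.mul_mem (V.inv_mem (subset_normalClosure rfl))
          (hVn.conj_mem _ (subset_normalClosure rfl) g)
        have he : x⁻¹ * (g * x * g⁻¹) = y * (g * y⁻¹ * g⁻¹) := by
          calc x⁻¹ * (g * x * g⁻¹) = x⁻¹ * (g * (x * y)) * (y⁻¹ * g⁻¹) := by group
            _ = _ := by rw [hg]; group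
        have hD : x⁻¹ * (g * x * g⁻¹) ∈ D := by
          rw [he]; exact D.mul_mem hy (hDn.conj_mem _ (D.inv_mem hy) g)
        obtain ⟨d, hd, hde⟩ := hD
        have hdc : d ∈ center W := by
          rw [Subgroup.mem_center_iff]
          intro w
          have hwd := (Subgroup.mem_centralizer_iff.1 w.2) (d : G) (by
            show (W.subtype d) ∈ (V : Set G)
            rw [hde]; exact hV)
          exact Subtype.ext hwd.symm
        rw [← hde, commutator_inf_center (comm_sub hA W) hd hdc, map_one]
      have hgc : g * x = x * g := by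
        calc g * x = x * (x⁻¹ * (g * x * g⁻¹)) * g := by group
          _ = x * g := by rw [hgx, mul_one]
      refine ⟨Subgroup.mem_centralizer_singleton_iff.2 hgc,
        Subgroup.mem_centralizer_singleton_iff.2 ?_⟩
      have : x * (g * y) = x * (y * g) := by
        rw [← mul_assoc, ← hgc, mul_assoc g, hg, mul_assoc]
      exact mul_left_cancel this
    set E := C ⊓ centralizer ({y} : Set G) with hE
    have hodd : ¬ 2 ∣ E.relIndex C := by
      intro h
      refine hmax (x * y) (dvd_trans ?_ (Subgroup.index_dvd_of_le hle))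
      rw [← Subgroup.relIndex_mul_index (inf_le_left : E ≤ C), hx, pow_succ, mul_comm (E.relIndex C)]
      exact mul_dvd_mul_left _ h
    obtain ⟨P⟩ : Nonempty (Sylow 2 E) := inferInstance
    set P' := (P : Subgroup E).map E.subtype with hP'
    have hP'C : P' ≤ C := (map_subtype_le _).trans inf_le_left
    have hP'W : P' ≤ W := by
      intro z hz
      have hzC := hP'C hz
      obtain ⟨k, hk⟩ := (P.2.map E.subtype) ⟨z, hz⟩
      have hk' : z ^ (2 ^ k) = 1 := congrArg Subtype.val hk
      let π := QuotientGroup.mk' (W.subgroupOf C)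
      have h1 : orderOf (π ⟨z, hzC⟩) ∣ 2 ^ k := orderOf_dvd_of_pow_eq_one (by
        rw [← map_pow, show (⟨z, hzC⟩ : C) ^ (2 ^ k) = 1 from Subtype.ext hk', map_one])
      have h2 : orderOf (π ⟨z, hzC⟩) ∣ W.relIndex C := by
        rw [Subgroup.relIndex, Subgroup.index_eq_card]; exact orderOf_dvd_natCard _
      have hco : Nat.Coprime (2 ^ k) (W.relIndex C) :=
        (Nat.prime_two.coprime_iff_not_dvd.2 hrelodd).pow_left k
      have h3 := orderOf_eq_one_iff.1 (Nat.eq_one_of_dvd_coprimes hco h1 h2)
      exact Subgroup.mem_subgroupOf.1 ((QuotientGroup.eq_one_iff _).1 h3)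
    have hP'card : Nat.card P' = 2 ^ (Nat.card W).factorization 2 := by
      have h1 : (Nat.card E).factorization 2 = (Nat.card C).factorization 2 := by
        have h := Subgroup.relIndex_mul_relIndex (⊥ : Subgroup G) E C bot_le inf_le_left
        rw [Subgroup.relIndex_bot_left, Subgroup.relIndex_bot_left] at h
        rw [← h, Nat.factorization_mul Nat.card_pos.ne' (fun h0 => hodd (by rw [h0]; exact dvd_zero 2)),
          Finsupp.add_apply, Nat.factorization_eq_zero_of_not_dvd hodd, add_zero]
      have h2 : (Nat.card W).factorization 2 = (Nat.card C).factorization 2 := by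
        have h := Subgroup.relIndex_mul_relIndex (⊥ : Subgroup G) W C bot_le hWC
        rw [Subgroup.relIndex_bot_left, Subgroup.relIndex_bot_left] at h
        rw [← h, Nat.factorization_mul Nat.card_pos.ne' (fun h0 => hrelodd (by rw [h0]; exact dvd_zero 2)),
          Finsupp.add_apply, Nat.factorization_eq_zero_of_not_dvd hrelodd, add_zero]
      rw [hP', Subgroup.card_map_of_injective E.subtype_injective, P.card_eq_multiplicity, h1, h2]
    have hPW : IsPGroup 2 (P'.subgroupOf W) := (P.2.map E.subtype).comap_subtype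
    obtain ⟨R, hR⟩ := hPW.exists_le_sylow
    have hRP : (R : Subgroup W) = P'.subgroupOf W := (Subgroup.eq_of_le_of_card_ge hR (by
      rw [R.card_eq_multiplicity, ← hP'card]
      exact (Nat.card_congr (Subgroup.subgroupOfEquivOfLe hP'W).toEquiv).ge)).symm
    -- the Sylow subgroup of `D` inside it
    let ι : D →* W := Subgroup.inclusion hDW
    have : (commutator W).Normal := inferInstance
    obtain ⟨P₂, hP₂⟩ : ∃ P₂ : Sylow 2 D, (P₂ : Subgroup D) = (R : Subgroup W).comap ι := by
      have hin : IsPGroup 2 ((R : Subgroup W).comap ι) :=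
        R.2.comap_of_injective ι (Subgroup.inclusion_injective hDW)
      obtain ⟨P₁, hP₁⟩ := hin.exists_le_sylow
      refine ⟨P₁, (Subgroup.eq_of_le_of_card_ge hP₁ ?_).symm⟩
      obtain ⟨R', hR'⟩ := (P₁.2.map ι).exists_le_sylow
      obtain ⟨w, hw⟩ := MulAction.exists_smul_eq W R' R
      let φ : ↥(P₁ : Subgroup D) → ↥((R : Subgroup W).comap ι) := fun d =>
        ⟨⟨(w : G) * ((d : D) : G) * (w : G)⁻¹, hDn.conj_mem _ (d : D).2 _⟩, by
          rw [← hw]; exact ⟨ι d, hR' ⟨d, d.2, rfl⟩, rfl⟩⟩
      refine Nat.card_le_card_of_injective φ fun d d' h => ?_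
      have h' : (w : G) * ((d : D) : G) * (w : G)⁻¹ = (w : G) * ((d' : D) : G) * (w : G)⁻¹ :=
        congrArg (fun v : ((R : Subgroup W).comap ι) => ((v : D) : G)) h
      exact Subtype.ext (Subtype.ext (mul_left_cancel (mul_right_cancel h')))
    refine ⟨P₂, fun q hq => ?_⟩
    rw [hP₂, Subgroup.mem_comap, hRP, Subgroup.mem_subgroupOf] at hq
    have hqE : ((q : D) : G) ∈ E := map_subtype_le _ hq
    exact Subgroup.mem_centralizer_singleton_iff.1 hqE.2
  have hDsol : Group.IsSolvable D := solvable_of_centralizes (fun P => comm_sub hA D 2 P) fun y => by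
    obtain ⟨P, hP⟩ := hcent y y.2
    exact ⟨P, fun q hq => Subtype.ext (hP q hq)⟩
  have hWsol : Group.IsSolvable W := by
    have h1 : Group.IsSolvable (commutator W) :=
      Group.isSolvable_of_surjective (f := ((commutator W).equivMapOfInjective W.subtype
        W.subtype_injective).symm.toMonoidHom) (MulEquiv.surjective _)
    have h2 : Group.IsSolvable (W ⧸ commutator W) := Group.isSolvable_of_comm fun u v => by
      induction u using QuotientGroup.induction_on with
      | H u =>
        induction v using QuotientGroup.induction_on with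
        | H v => exact mul_comm (Abelianization.of u) (Abelianization.of v)
    exact Group.isSolvable_of_ker_le_range (commutator W).subtype
      (QuotientGroup.mk' (commutator W))
      (by rw [QuotientGroup.ker_mk', Subgroup.range_subtype])
  exact Group.isSolvable_of_ker_le_range W.subtype (QuotientGroup.mk' W)
    (by rw [QuotientGroup.ker_mk', Subgroup.range_subtype])

/-- Let G be a finite group all of whose Sylow subgroups are abelian, and let 2^a be the largest power of 2 dividing the size of any conjugacy class of G. If some element has a conjugacy class of size exactly 2^a, then G is solvable. -/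
theorem result {G : Type*} [Group G] [Finite G]
    (hA : ∀ (p : ℕ) [Fact p.Prime] (P : Sylow p G), IsMulCommutative (P : Subgroup G))
    (a : ℕ) (hmax : ∀ y : G, ¬ 2 ^ (a + 1) ∣ (Subgroup.centralizer ({y} : Set G)).index) (hx : ∃ x : G, (Subgroup.centralizer ({x} : Set G)).index = 2 ^ a) :
    Group.IsSolvable G := by
  obtain ⟨x, hx⟩ := hx
  exact main hA a hmax x hx

end Cfsg.Agent.S4133
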