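import Cfsg.Statements.S4139
import Cfsg.Agent.Lib.StructB.BaerPPower
import Cfsg.Agent.Lib.Char.Column

set_option autoImplicit false
open Cfsg

namespace Cfsg.Agent.S4139

open Subgroup CfsgLib.StructB.Baer

section

variable {G : Type*} [Group G] [Finite G]

/-- The class size. -/
noncomputable def ix (x : G) : ℕ := (centralizer ({x} : Set G)).index

theorem ix_mul_center (x : G) {z : G} (hz : z ∈ center G) : ix (x * z) = ix x := by
  unfold ix
  congr 1
  ext g
  rw [mem_centralizer_singleton_iff, mem_centralizer_singleton_iff, ← mul_assoc, mul_assoc x z g,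
    ← mem_center_iff.1 hz g, ← mul_assoc, mul_left_inj]

/-- Commutation modulo a central `q`-subgroup is commutation, for classes of size prime to `q`. -/
theorem commute_of_mk {q : ℕ} [Fact q.Prime] (Z : Subgroup G) [Z.Normal] (hZ : Z ≤ center G)
    (hZq : IsPGroup q Z) {x g : G} (hx : ¬ q ∣ ix x) (h : (g : G ⧸ Z) * x = x * g) :
    g * x = x * g := by
  let M : Subgroup G := (centralizer ({(x : G ⧸ Z)} : Set (G ⧸ Z))).comap (QuotientGroup.mk' Z)
  have hM : ∀ m : M, x⁻¹ * ((m : G) * x * (m : G)⁻¹) ∈ Z := fun m => by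
    have h1 : ((m : G) : G ⧸ Z) * x = x * (m : G) := mem_centralizer_singleton_iff.1 m.2
    rw [← QuotientGroup.eq_one_iff, QuotientGroup.mk_mul, QuotientGroup.mk_mul, QuotientGroup.mk_mul,
      QuotientGroup.mk_inv, QuotientGroup.mk_inv, h1]
    group
  let f : M →* Z :=
    { toFun := fun m => ⟨_, hM m⟩
      map_one' := Subtype.ext (by simp)
      map_mul' := fun m n => Subtype.ext (by
        show x⁻¹ * ((m : G) * n * x * ((m : G) * n)⁻¹) =
          x⁻¹ * ((m : G) * x * (m : G)⁻¹) * (x⁻¹ * ((n : G) * x * (n : G)⁻¹))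
        have hc := mem_center_iff.1 (hZ (hM n))
        calc x⁻¹ * ((m : G) * n * x * ((m : G) * n)⁻¹)
            = x⁻¹ * ((m : G) * x) * ((x⁻¹ * ((n : G) * x * (n : G)⁻¹)) * (m : G)⁻¹) := by group
          _ = x⁻¹ * ((m : G) * x) * ((m : G)⁻¹ * (x⁻¹ * ((n : G) * x * (n : G)⁻¹))) := by rw [hc]
          _ = _ := by group) }
  have hle : centralizer ({x} : Set G) ≤ M := fun c hc => by
    rw [mem_comap, mem_centralizer_singleton_iff, QuotientGroup.mk'_apply, ← QuotientGroup.mk_mul,
      mem_centralizer_singleton_iff.1 hc, QuotientGroup.mk_mul]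
  have hker : f.ker = (centralizer ({x} : Set G)).subgroupOf M := by
    ext m
    rw [MonoidHom.mem_ker, mem_subgroupOf, mem_centralizer_singleton_iff, Subtype.ext_iff]
    show x⁻¹ * ((m : G) * x * (m : G)⁻¹) = 1 ↔ _
    rw [inv_mul_eq_one, eq_comm, mul_inv_eq_iff_eq_mul]
  have h1 : (centralizer ({x} : Set G)).relIndex M = Nat.card f.range := by
    show ((centralizer ({x} : Set G)).subgroupOf M).index = _
    rw [← hker, index_ker]
  obtain ⟨k, hk⟩ := hZq.exists_card_eq
  obtain ⟨i, -, hi⟩ := (Nat.dvd_prime_pow (Fact.out : q.Prime)).1 (hk ▸ card_subgroup_dvd_card f.range)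
  have h2 : (centralizer ({x} : Set G)).relIndex M = 1 := by
    rw [h1, hi]
    rcases i with _ | i
    · exact pow_zero q
    · exact absurd ((dvd_pow_self q (Nat.succ_ne_zero i)).trans
        (hi ▸ h1 ▸ ⟨_, (relIndex_mul_index hle).symm⟩)) hx
  exact mem_centralizer_singleton_iff.1 (relIndex_eq_one.1 h2
    (show g ∈ M from mem_centralizer_singleton_iff.2 h))

theorem card_inter_center {p : ℕ} [Fact p.Prime] (P : Sylow p G) :
    Nat.card ↥((P : Subgroup G) ⊓ center G) = p ^ (Nat.card (center G)).factorization p := by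
  obtain ⟨i, hi⟩ := (P.2.to_le (inf_le_left (b := center G))).exists_card_eq
  have h2 : ¬ p ∣ ((P : Subgroup G) ⊓ center G).relIndex (center G) := by
    rw [inf_relIndex_right]
    exact fun hd => P.not_dvd_index (hd.trans
      (CfsgLib.StructB.Kazarin.relIndex_dvd_index_normal (center G) (P : Subgroup G)))
  rw [hi, ← CfsgLib.StructB.Kazarin.card_mul_relIndex_of_le (inf_le_right (a := (P : Subgroup G))),
    Nat.factorization_mul Nat.card_pos.ne' (by intro h; rw [h] at h2; exact h2 (dvd_zero p)),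
    Finsupp.add_apply, Nat.factorization_eq_zero_of_not_dvd h2, add_zero, hi,
    (Fact.out : p.Prime).factorization_pow, Finsupp.single_eq_same]

theorem card_sup_center {p : ℕ} [Fact p.Prime] (P : Sylow p G) :
    Nat.card ↥((P : Subgroup G) ⊔ center G) * p ^ (Nat.card (center G)).factorization p =
      p ^ (Nat.card G).factorization p * Nat.card (center G) := by
  have e1 := CfsgLib.StructB.Kazarin.card_mul_relIndex_of_le
    (le_sup_right : center G ≤ (P : Subgroup G) ⊔ center G)
  rw [relIndex_sup_right] at e1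
  have e2 := CfsgLib.StructB.Kazarin.card_mul_relIndex_of_le
    (inf_le_right : center G ⊓ (P : Subgroup G) ≤ (P : Subgroup G))
  rw [inf_relIndex_right, inf_comm, card_inter_center, P.card_eq_multiplicity] at e2
  rw [← e1, ← e2]
  ring

/-- In a nilpotent group a `p`-element has a class of `p`-power size. -/
theorem exists_ix_eq_pow [Group.IsNilpotent G] {p : ℕ} [Fact p.Prime] (P : Sylow p G) {u : G}
    (hu : u ∈ P) : ∃ a, ix u = p ^ a := by
  refine ⟨_, Nat.eq_prime_pow_of_unique_prime_dvd index_ne_zero_of_finite fun {l} hl hd => ?_⟩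
  by_contra hlp
  have : Fact l.Prime := ⟨hl⟩
  obtain ⟨R⟩ := (inferInstance : Nonempty (Sylow l G))
  refine R.not_dvd_index (hd.trans (index_dvd_of_le fun r hr => ?_))
  rw [mem_centralizer_singleton_iff]
  have hd' : Disjoint (R : Subgroup G) (P : Subgroup G) :=
    IsPGroup.disjoint_of_ne l p hlp _ _ R.2 P.2
  exact Subgroup.commute_of_normal_of_disjoint _ _ inferInstance inferInstance hd' r u hr hu

theorem sylow_inf_centralizer [Group.IsNilpotent G] {q : ℕ} [Fact q.Prime] (Q : Sylow q G) {u : G}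
    (hu : u ∈ Q) (hc : u ∈ centralizer ((Q : Subgroup G) : Set G)) : u ∈ center G := by
  apply mem_center_of_index_eq_one
  obtain ⟨a, ha⟩ := exists_ix_eq_pow Q hu
  refine Nat.eq_one_of_dvd_coprimes (a := q ^ a) (b := (Q : Subgroup G).index) ?_ ha.dvd
    (index_dvd_of_le fun v hv => mem_centralizer_singleton_iff.2 (mem_centralizer_iff.1 hc v hv))
  exact Nat.Coprime.pow_left a ((Fact.out : q.Prime).coprime_iff_not_dvd.2 Q.not_dvd_index)

theorem card_class (x : G) : Nat.card (ConjClasses.mk x).carrier = ix x := by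
  let := Fintype.ofFinite G
  exact CfsgLib.Char.natCard_carrier_eq_index x

/-- In a nilpotent group the number of elements with classes of size prime to `q` has the
`q`-part of the centre. -/
theorem not_dvd_card_coprime [Group.IsNilpotent G] {q : ℕ} [Fact q.Prime] :
    ¬ q ^ ((Nat.card (center G)).factorization q + 1) ∣ Nat.card {x : G // ¬ q ∣ ix x} := by
  obtain ⟨Q⟩ := (inferInstance : Nonempty (Sylow q G))
  have he : {x : G // ¬ q ∣ ix x} ≃ centralizer ((Q : Subgroup G) : Set G) := by
    refine Equiv.subtypeEquivRight fun x => ⟨fun hx => ?_, fun hx hd => ?_⟩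
    · obtain ⟨T, hT⟩ := exists_sylow_le (ℓ := q) _ hx
      have : Subsingleton (Sylow q G) := (Sylow.unique_of_normal Q inferInstance).instSubsingleton
      rw [Subsingleton.elim T Q] at hT
      exact mem_centralizer_iff.2 fun v hv => mem_centralizer_singleton_iff.1 (hT hv)
    · exact Q.not_dvd_index (hd.trans (index_dvd_of_le fun v hv =>
        mem_centralizer_singleton_iff.2 (mem_centralizer_iff.1 hx v hv)))
  rw [Nat.card_congr he]
  intro hd
  obtain ⟨B, hBc, hB⟩ : ∃ B : Subgroup G, Nat.card B = q ^ ((Nat.card (center G)).factorization q + 1) ∧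
      B ≤ centralizer ((Q : Subgroup G) : Set G) := by
    obtain ⟨B, hB⟩ := Sylow.exists_subgroup_card_pow_prime q hd
    exact ⟨B.map (Subgroup.subtype _), by rw [card_map_of_injective (subtype_injective _), hB],
      map_subtype_le B⟩
  have hBp : IsPGroup q B := IsPGroup.of_card hBc
  obtain ⟨T, hT⟩ := hBp.exists_le_sylow
  have : Subsingleton (Sylow q G) := (Sylow.unique_of_normal Q inferInstance).instSubsingleton
  rw [Subsingleton.elim T Q] at hT
  have hle : B ≤ (Q : Subgroup G) ⊓ center G := fun b hb =>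
    ⟨hT hb, sylow_inf_centralizer Q (hT hb) (hB hb)⟩
  have h1 := Subgroup.card_le_of_le hle
  rw [card_inter_center, hBc] at h1
  exact absurd h1 (not_le.2 (Nat.pow_lt_pow_right (Fact.out : q.Prime).one_lt (Nat.lt_succ_self _)))

/-- If the number of elements with classes of size prime to `q` has only the `q`-part of the
centre, the centre of a Sylow `q`-subgroup is central. -/
theorem inter_centralizer_le {q : ℕ} [Fact q.Prime]
    (h : ¬ q ^ ((Nat.card (center G)).factorization q + 1) ∣ Nat.card {x : G // ¬ q ∣ ix x})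
    (Q : Sylow q G) {a : G} (ha : a ∈ Q) (hac : a ∈ centralizer ((Q : Subgroup G) : Set G)) :
    a ∈ center G := by
  by_contra haZ
  apply h
  set Z := (Q : Subgroup G) ⊓ center G with hZdef
  have hZc : Z ≤ center G := inf_le_right
  have hZn : Z.Normal := ⟨fun n hn g => by rwa [mem_center_iff.1 (hZc hn) g, mul_inv_cancel_right]⟩
  have hZq : IsPGroup q Z := Q.2.to_le inf_le_left
  let X : Set (G ⧸ Z) := QuotientGroup.mk '' {x : G | ¬ q ∣ ix x}
  have hpre : QuotientGroup.mk ⁻¹' X = {x : G | ¬ q ∣ ix x} := by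
    refine Set.Subset.antisymm ?_ (Set.subset_preimage_image _ _)
    rintro y ⟨x, hx, hxy⟩
    have h1 : x⁻¹ * y ∈ Z := QuotientGroup.eq.1 hxy
    rw [Set.mem_ofPred_eq] at hx ⊢
    rwa [← mul_inv_cancel_left x y, ix_mul_center x (hZc h1)]
  have hcard : Nat.card {x : G // ¬ q ∣ ix x} = Nat.card Z * Nat.card X := by
    rw [← Nat.card_prod]
    exact Nat.card_congr ((Equiv.setCongr hpre.symm).trans
      (QuotientGroup.preimageMkEquivSubgroupProdSet Z X))
  rw [hcard, pow_succ, show Nat.card Z = q ^ (Nat.card (center G)).factorization q from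
    card_inter_center Q]
  refine Nat.mul_dvd_mul_left _ ?_
  have hinv : ∀ (u : G) (c : G ⧸ Z), c ∈ X → (u : G ⧸ Z) * c * (u : G ⧸ Z)⁻¹ ∈ X := by
    rintro u _ ⟨x, hx, rfl⟩
    refine ⟨u * x * u⁻¹, ?_, by simp⟩
    rw [Set.mem_ofPred_eq] at hx ⊢
    rwa [ix, index_centralizer_conj]
  let act : MulAction (Q : Subgroup G) X :=
    { smul := fun u c => ⟨((u : G) : G ⧸ Z) * c * ((u : G) : G ⧸ Z)⁻¹, hinv u c c.2⟩
      one_smul := fun c => Subtype.ext (by
        show ((((1 : (Q : Subgroup G)) : G)) : G ⧸ Z) * (c : G ⧸ Z) * _ = c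
        simp)
      mul_smul := fun u v c => Subtype.ext (by
        show (((u * v : (Q : Subgroup G)) : G) : G ⧸ Z) * (c : G ⧸ Z) * _ = _
        rw [Subgroup.coe_mul, QuotientGroup.mk_mul]
        show _ = ((u : G) : G ⧸ Z) * (((v : G) : G ⧸ Z) * (c : G ⧸ Z) * _) * _
        group) }
  have hmod := Q.2.card_modEq_card_fixedPoints X
  refine (Nat.modEq_zero_iff_dvd).1 (hmod.trans (Nat.modEq_zero_iff_dvd.2 ?_))
  let C := (centralizer ((Q : Subgroup G) : Set G)).map (QuotientGroup.mk' Z)
  have e : MulAction.fixedPoints (Q : Subgroup G) X ≃ C := by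
    refine (Equiv.subtypeSubtypeEquivSubtypeExists _ _).trans
      (Equiv.subtypeEquivRight fun c => ⟨?_, ?_⟩)
    · rintro ⟨hc, hfix⟩
      obtain ⟨x, hx, rfl⟩ := hc
      refine ⟨x, mem_centralizer_iff.2 fun u hu => ?_, rfl⟩
      refine commute_of_mk Z hZc hZq hx ?_
      exact mul_inv_eq_iff_eq_mul.1 (congrArg Subtype.val (hfix (⟨u, hu⟩ : (Q : Subgroup G))))
    · rintro ⟨x, hx, rfl⟩
      refine ⟨⟨x, fun hd => Q.not_dvd_index (hd.trans (index_dvd_of_le fun v hv =>
        mem_centralizer_singleton_iff.2 (mem_centralizer_iff.1 hx v hv))), rfl⟩, ?_⟩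
      intro u
      apply Subtype.ext
      show ((u : G) : G ⧸ Z) * (x : G ⧸ Z) * ((u : G) : G ⧸ Z)⁻¹ = _
      rw [← QuotientGroup.mk_mul, mem_centralizer_iff.1 hx u u.2, QuotientGroup.mk_mul,
        mul_inv_cancel_right]
      rfl
  rw [Nat.card_congr e]
  obtain ⟨k, hk⟩ := Q.2 ⟨a, ha⟩
  have hk' : ((a : G ⧸ Z)) ^ q ^ k = 1 := by
    rw [← QuotientGroup.mk_pow, show a ^ q ^ k = 1 from congrArg Subtype.val hk, QuotientGroup.mk_one]
  obtain ⟨j, -, hj⟩ := (Nat.dvd_prime_pow (Fact.out : q.Prime)).1 (orderOf_dvd_of_pow_eq_one hk')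
  have hj0 : j ≠ 0 := fun e0 => haZ (hZc ((QuotientGroup.eq_one_iff a).1
    (orderOf_eq_one_iff.1 (by rw [hj, e0, pow_zero]))))
  exact (hj ▸ dvd_pow_self q hj0).trans (C.orderOf_dvd_natCard ⟨a, hac, rfl⟩)

/-- With central Sylow centres, elements with classes of `p`-power size lie in `O_p(G)Z(G)`. -/
theorem mem_sup_of_ix {p : ℕ} [Fact p.Prime]
    (hZ : ∀ (q : ℕ) [Fact q.Prime] (Q : Sylow q G), ∀ a ∈ Q,
      a ∈ centralizer ((Q : Subgroup G) : Set G) → a ∈ center G)
    {x : G} {a : ℕ} (hx : ix x = p ^ a) : x ∈ Cfsg.pCore p G ⊔ center G := by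
  refine CfsgLib.StructB.Kazarin.mem_of_prime_pow_powers x fun z l m hzx hl ho => ?_
  have : Fact l.Prime := ⟨hl⟩
  have hle : centralizer ({x} : Set G) ≤ centralizer ({z} : Set G) := fun c hc => by
    rw [mem_centralizer_singleton_iff] at hc ⊢
    obtain ⟨j, rfl⟩ := mem_zpowers_iff.1 hzx
    exact (Commute.zpow_right hc j).eq
  obtain ⟨i, -, hi⟩ := (Nat.dvd_prime_pow (Fact.out : p.Prime)).1
    ((index_dvd_of_le hle).trans hx.dvd)
  have hzp : IsPGroup l (zpowers z) := IsPGroup.of_card (by rw [Nat.card_zpowers, ho])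
  by_cases hlp : l = p
  · subst hlp
    obtain ⟨T, hT⟩ := hzp.exists_le_sylow
    exact mem_sup_left (mem_pCore_of_qpower T (hT (mem_zpowers z)) hi)
  · obtain ⟨T, hT⟩ := exists_sylow_le (ℓ := l) (centralizer ({z} : Set G)) (fun hd =>
      hlp ((Nat.prime_dvd_prime_iff_eq hl Fact.out).1 (hl.dvd_of_dvd_pow (hi ▸ hd))))
    have hn : zpowers z ≤ normalizer ((T : Subgroup G) : Set G) :=
      le_trans (zpowers_le.2 (mem_centralizer_iff.2 fun v hv =>
        mem_centralizer_singleton_iff.1 (hT hv))) (centralizer_le_normalizer _)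
    have hs : (T : Subgroup G) ⊔ zpowers z = T :=
      T.3 (T.2.to_sup_of_normal_left' hzp hn) le_sup_left
    refine mem_sup_right (hZ l T z (SetLike.le_def.1 hs.le (mem_sup_right (mem_zpowers z))) ?_)
    exact mem_centralizer_iff.2 fun v hv => mem_centralizer_singleton_iff.1 (hT hv)

end

/-- Equal class numbers give equal counts of elements by class size. -/
theorem card_eq_of_classes {G H : Type*} [Group G] [Finite G] [Group H] [Finite H]
    (h : ∀ k : ℕ, Nat.card {C : ConjClasses G // Nat.card C.carrier = k} =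
      Nat.card {C : ConjClasses H // Nat.card C.carrier = k}) (P : ℕ → Prop) :
    Nat.card {x : G // P (ix x)} = Nat.card {y : H // P (ix y)} := by
  classical
  have e : ∀ k, {C : ConjClasses G // Nat.card C.carrier = k} ≃
      {C : ConjClasses H // Nat.card C.carrier = k} := fun k =>
    (Finite.equivFin _).trans ((finCongr (h k)).trans (Finite.equivFin _).symm)
  let E : ConjClasses G ≃ ConjClasses H := Equiv.ofFiberEquiv e
  have hE : ∀ C, Nat.card (E C).carrier = Nat.card C.carrier := Equiv.ofFiberEquiv_map e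
  have hG : ∀ (K : Type _) [Group K] [Finite K], Nonempty ({x : K // P (ix x)} ≃
      Σ C : {C : ConjClasses K // P (Nat.card C.carrier)}, C.1.carrier) := fun K _ _ => ⟨
    { toFun := fun x => ⟨⟨ConjClasses.mk x.1, by rw [card_class]; exact x.2⟩,
        ⟨x.1, ConjClasses.mem_carrier_mk⟩⟩
      invFun := fun y => ⟨y.2.1, by
        rw [← card_class, ConjClasses.mem_carrier_iff_mk_eq.1 y.2.2]; exact y.1.2⟩
      left_inv := fun x => rfl
      right_inv := fun y => by
        obtain ⟨⟨C, hC⟩, ⟨y, hy⟩⟩ := y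
        obtain rfl := ConjClasses.mem_carrier_iff_mk_eq.1 hy
        rfl }⟩
  have hH : Nonempty ({y : H // P (ix y)} ≃
      Σ C : {C : ConjClasses H // P (Nat.card C.carrier)}, C.1.carrier) := ⟨
    { toFun := fun x => ⟨⟨ConjClasses.mk x.1, by rw [card_class]; exact x.2⟩,
        ⟨x.1, ConjClasses.mem_carrier_mk⟩⟩
      invFun := fun y => ⟨y.2.1, by
        rw [← card_class, ConjClasses.mem_carrier_iff_mk_eq.1 y.2.2]; exact y.1.2⟩
      left_inv := fun x => rfl
      right_inv := fun y => by
        obtain ⟨⟨C, hC⟩, ⟨y, hy⟩⟩ := y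
        obtain rfl := ConjClasses.mem_carrier_iff_mk_eq.1 hy
        rfl }⟩
  obtain ⟨eG⟩ := hG G
  obtain ⟨eH⟩ := hH
  rw [Nat.card_congr eG, Nat.card_congr eH]
  refine Nat.card_congr (Equiv.sigmaCongr (E.subtypeEquiv fun C => by rw [hE]) fun C => ?_)
  exact (Finite.equivFin _).trans ((finCongr (hE C.1).symm).trans (Finite.equivFin _).symm)

/-- Let G and H be finite groups such that for every natural number k, G and H have the same number of conjugacy classes of size k. If H is nilpotent then G is nilpotent. -/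
theorem result {G H : Type*} [Group G] [Finite G] [Group H] [Finite H]
    (hH : Group.IsNilpotent H)
    (h : ∀ k : ℕ, Nat.card {C : ConjClasses G // Nat.card C.carrier = k} = Nat.card {C : ConjClasses H // Nat.card C.carrier = k}) :
    Group.IsNilpotent G := by
  classical
  have hcnt := card_eq_of_classes h
  have hord : Nat.card G = Nat.card H := by
    simpa [Nat.card_congr (Equiv.subtypeUnivEquiv (fun _ => trivial))] using hcnt fun _ => True
  have hcen : Nat.card (center G) = Nat.card (center H) := by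
    have key := hcnt fun n => n = 1
    rwa [Nat.card_congr (Equiv.subtypeEquivRight fun x : G =>
        (⟨mem_center_of_index_eq_one, index_eq_one_of_mem_center⟩ : ix x = 1 ↔ x ∈ center G)),
      Nat.card_congr (Equiv.subtypeEquivRight fun x : H =>
        (⟨mem_center_of_index_eq_one, index_eq_one_of_mem_center⟩ : ix x = 1 ↔ x ∈ center H))] at key
  have hZ : ∀ (q : ℕ) [Fact q.Prime] (Q : Sylow q G), ∀ a ∈ Q,
      a ∈ centralizer ((Q : Subgroup G) : Set G) → a ∈ center G := fun q _ Q a ha hac => by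
    refine inter_centralizer_le ?_ Q ha hac
    rw [hcen, hcnt fun n => ¬ q ∣ n]
    exact not_dvd_card_coprime
  refine ((Group.isNilpotent_of_finite_tfae (G := G)).out 0 3).2 ?_
  intro p _ P
  obtain ⟨PH⟩ := (inferInstance : Nonempty (Sylow p H))
  have h1 : Nat.card ↥((PH : Subgroup H) ⊔ center H) ≤ Nat.card {y : H // ∃ a, ix y = p ^ a} := by
    refine Nat.card_le_card_of_injective (fun y => ⟨y.1, ?_⟩) fun y z hyz =>
      Subtype.ext (congrArg Subtype.val hyz :)
    obtain ⟨u, hu, z, hz, huz⟩ := mem_sup_of_normal_right.1 y.2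
    rw [← huz, ix_mul_center u hz]
    exact exists_ix_eq_pow PH hu
  rw [← hcnt fun n => ∃ a, n = p ^ a] at h1
  have h2 : Nat.card {x : G // ∃ a, ix x = p ^ a} ≤ Nat.card ↥(Cfsg.pCore p G ⊔ center G) :=
    Nat.card_le_card_of_injective
      (fun x => ⟨x.1, by obtain ⟨a, ha⟩ := x.2; exact mem_sup_of_ix hZ ha⟩)
      fun y z hyz => Subtype.ext (congrArg Subtype.val hyz :)
  have hOP : Cfsg.pCore p G ≤ (P : Subgroup G) := CfsgLib.Solvable.pCore_le_sylow P
  have h3 : Nat.card ↥((P : Subgroup G) ⊔ center G) = Nat.card ↥((PH : Subgroup H) ⊔ center H) := by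
    have e1 := card_sup_center P
    have e2 := card_sup_center PH
    rw [hord, hcen, ← e2] at e1
    exact Nat.eq_of_mul_eq_mul_right (pow_pos (Fact.out : p.Prime).pos _) e1
  have h4 : Cfsg.pCore p G ⊔ center G = (P : Subgroup G) ⊔ center G :=
    eq_of_le_of_card_ge (sup_le_sup_right hOP _) (by rw [h3]; exact h1.trans h2)
  have h5 : (P : Subgroup G) ≤ Cfsg.pCore p G := by
    intro x hx
    have hx' : x ∈ Cfsg.pCore p G ⊔ center G := h4 ▸ mem_sup_left hx
    obtain ⟨o, ho, z, hz, rfl⟩ := mem_sup_of_normal_right.1 hx'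
    refine mul_mem ho ?_
    have hzP : z ∈ (P : Subgroup G) ⊓ center G :=
      ⟨((P : Subgroup G).mul_mem_cancel_left (hOP ho)).1 hx, hz⟩
    exact CfsgLib.Solvable.le_pCore ⟨fun n hn g => by
      rwa [mem_center_iff.1 hn.2 g, mul_inv_cancel_right]⟩ (P.2.to_le inf_le_left) hzP
  rw [le_antisymm h5 hOP]
  exact CfsgLib.Solvable.pCore_normal p G

end Cfsg.Agent.S4139
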