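import Cfsg.Statements.S4140
import Cfsg.Agent.Lib.StructB.Camina

set_option autoImplicit false
open Cfsg

namespace Cfsg.Agent.S4140

open CfsgLib.StructB

/-- Let G be a finite group and N a proper non-trivial normal subgroup such that for every g outside N the conjugacy class of g is a union of cosets of N (equivalently gn is conjugate to g for every n ∈ N). Then either every element of G outside N acts fixed-point-freely on N (C_G(x) ≤ N for all x ∈ N, x ≠ 1, so G is a Frobenius group with kernel N), or N has prime-power order, or G/N has prime-power order. -/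
theorem result {G : Type*} [Group G] [Finite G] (N : Subgroup G) [N.Normal] (hN1 : N ≠ ⊥) (hN2 : N ≠ ⊤)
    (hcam : ∀ g : G, g ∉ N → ∀ n ∈ N, ∃ x : G, x * g * x⁻¹ = g * n) :
    (∀ x ∈ N, x ≠ 1 → Subgroup.centralizer ({x} : Set G) ≤ N) ∨ IsPrimePow (Nat.card N) ∨ IsPrimePow N.index := by
  have hC : IsCamina N := hcam
  by_contra hcon
  push Not at hcon
  obtain ⟨⟨x, hxN, hx1, hxc⟩, hNp, hIp⟩ := hcon
  obtain ⟨c, hc, hcN⟩ := SetLike.not_le_iff_exists.1 hxc
  -- a power of `c` of prime power order outside `N`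
  set m := orderOf (c : G ⧸ N) with hmdef
  have hm1 : m ≠ 1 := fun h => hcN ((QuotientGroup.eq_one_iff c).1 (orderOf_eq_one_iff.1 h))
  obtain ⟨p, hp, hpm⟩ := Nat.exists_prime_and_dvd hm1
  have : Fact p.Prime := ⟨hp⟩
  have hc0 : orderOf c ≠ 0 := (orderOf_pos c).ne'
  set g := c ^ (orderOf c / p ^ (orderOf c).factorization p) with hgdef
  have hgo : orderOf g = p ^ (orderOf c).factorization p :=
    orderOf_pow_orderOf_div hc0 (Nat.ordProj_dvd _ _)
  have hgN : g ∉ N := by
    intro h
    rw [hgdef, ← QuotientGroup.eq_one_iff, QuotientGroup.mk_pow, ← orderOf_dvd_iff_pow_eq_one] at h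
    exact Nat.not_dvd_ordCompl hp hc0 (hpm.trans h)
  have hgx : Commute g x := (Commute.pow_left
    (show Commute c x from Subgroup.mem_centralizer_singleton_iff.1 hc) _)
  have hpN : p ∣ Nat.card N := by
    by_contra hpn
    refine hx1 (hC.eq_one_of_commute hp hgN hgo hxN (fun hd => hpn (hd.trans ?_)) hgx)
    exact Subgroup.orderOf_dvd_natCard N hxN
  have hpI : p ∣ N.index := by
    refine hpm.trans ?_
    rw [Subgroup.index_eq_card]
    exact orderOf_dvd_natCard _
  have hN1c : Nat.card N ≠ 1 := fun h => hN1 (Subgroup.eq_bot_of_card_eq N h)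
  have hother : ∀ n : ℕ, n ≠ 0 → n ≠ 1 → ¬ IsPrimePow n → ∃ r : ℕ, r.Prime ∧ r ∣ n ∧ r ≠ p := by
    intro n h0 h1 hn
    by_contra hcon
    push Not at hcon
    have he := Nat.eq_prime_pow_of_unique_prime_dvd h0 (p := p) fun {q} hq hd => hcon q hq hd
    refine hn (he ▸ hp.isPrimePow.pow ?_)
    intro h
    rw [h, pow_zero] at he
    exact h1 he
  obtain ⟨q, hq, hqI, hqp⟩ := hother N.index Subgroup.index_ne_zero_of_finite
    (fun h => hN2 (Subgroup.index_eq_one.1 h)) hIp
  have : Fact q.Prime := ⟨hq⟩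
  obtain ⟨r, hr, hrN, hrp⟩ := hother (Nat.card N) Nat.card_pos.ne' hN1c hNp
  have : Fact r.Prime := ⟨hr⟩
  by_cases hqN : q ∣ Nat.card N
  · -- both `p` and `q` divide `|N|` and the index
    obtain ⟨Kp, hKpn, hKpN, hKpc, hKpm, hKpp⟩ := hC.exists_pComplement (p := p) hpI
    obtain ⟨Kq, hKqn, hKqN, hKqc, hKqm, hKqp⟩ := hC.exists_pComplement (p := q) hqI
    set M := Kp ⊓ Kq with hM
    set π := QuotientGroup.mk' M with hπ
    have hMN : M ≤ N := inf_le_left.trans hKpN
    have hC' := hC.map M hMN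
    have hN'n : (N.map π).Normal := Subgroup.Normal.map inferInstance _ (QuotientGroup.mk'_surjective M)
    set B := Kp.map π with hB
    have hBn : B.Normal := Subgroup.Normal.map inferInstance _ (QuotientGroup.mk'_surjective M)
    have hAn : (Kq.map π).Normal := Subgroup.Normal.map inferInstance _ (QuotientGroup.mk'_surjective M)
    have hdisj : Disjoint (Kq.map π) B := by
      rw [disjoint_iff, eq_bot_iff]
      rintro z ⟨⟨a, ha, haz⟩, ⟨b, hb, hbz⟩⟩
      rw [← haz, Subgroup.mem_bot, hπ, QuotientGroup.mk'_apply, QuotientGroup.eq_one_iff]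
      refine ⟨?_, ha⟩
      have hm : b⁻¹ * a ∈ M := QuotientGroup.eq.1 (hbz.trans haz.symm)
      simpa using Kp.mul_mem hb hm.1
    have hBq : IsPGroup q B := by
      rintro ⟨_, b, hb, rfl⟩
      obtain ⟨j, hj⟩ := hKqp b (hKpN hb)
      refine ⟨j, Subtype.ext ?_⟩
      show π b ^ q ^ j = 1
      rw [← map_pow, hπ, QuotientGroup.mk'_apply, QuotientGroup.eq_one_iff]
      exact ⟨pow_mem hb _, hj⟩
    have hB1 : B ≠ ⊥ := by
      intro h
      obtain ⟨y, hy⟩ := exists_prime_orderOf_dvd_card' q hqN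
      have hy' : orderOf (y : G) = q := by rw [Subgroup.orderOf_coe, hy]
      have hyK : (y : G) ∈ Kp := hKpm y y.2 (by
        rw [hy']; exact fun hd => hqp ((Nat.prime_dvd_prime_iff_eq hp hq).1 hd).symm)
      have h1 : π y ∈ B := Subgroup.mem_map_of_mem _ hyK
      rw [h, Subgroup.mem_bot, hπ, QuotientGroup.mk'_apply, QuotientGroup.eq_one_iff] at h1
      exact hKqc (hy' ▸ Subgroup.orderOf_dvd_natCard Kq h1.2)
    have hnil := hBq.isNilpotent
    have hBnt : Nontrivial B := (Subgroup.nontrivial_iff_ne_bot B).2 hB1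
    have hVn : ((Subgroup.center B).map B.subtype).Normal := inferInstance
    have hVc : IsMulCommutative ↥((Subgroup.center B).map B.subtype) := by
      refine ⟨⟨?_⟩⟩
      rintro ⟨_, a, ha, rfl⟩ ⟨_, b, hb, rfl⟩
      have hab := congrArg Subtype.val (Subgroup.mem_center_iff.1 hb a)
      exact Subtype.ext hab
    refine IsCamina.false_of_centralized hC' (p := p) ?_ ?_ ((Subgroup.center B).map B.subtype)
      ((Subgroup.map_subtype_le _).trans (Subgroup.map_mono hKpN)) ?_ ?_ ?_
    · rwa [Subgroup.index_map_eq _ (QuotientGroup.mk'_surjective M) (by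
        rw [QuotientGroup.ker_mk']; exact hMN)]
    · obtain ⟨y, hy⟩ := exists_prime_orderOf_dvd_card' p hpN
      have hy' : orderOf (y : G) = p := by rw [Subgroup.orderOf_coe, hy]
      have h1 : π y ∈ N.map π := Subgroup.mem_map_of_mem _ y.2
      have h2 : orderOf (π y) = p := orderOf_eq_prime (by
        rw [← map_pow, ← hy', pow_orderOf_eq_one, map_one]) (fun h => by
        rw [hπ, QuotientGroup.mk'_apply, QuotientGroup.eq_one_iff] at h
        exact hKpc (hy' ▸ Subgroup.orderOf_dvd_natCard Kp h.1))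
      exact h2 ▸ Subgroup.orderOf_dvd_natCard _ h1
    · rw [Ne, Subgroup.map_eq_bot_iff_of_injective _ B.subtype_injective]
      exact (Subgroup.nontrivial_iff_ne_bot _).1 hBq.center_nontrivial
    · obtain ⟨j, hj⟩ := hBq.exists_card_eq
      intro hd
      exact hqp ((Nat.prime_dvd_prime_iff_eq hp hq).1 (hp.dvd_of_dvd_pow
        (hd.trans (hj ▸ Subgroup.card_dvd_of_le (Subgroup.map_subtype_le _))))).symm
    · rintro z ⟨n, hn, rfl⟩ k hk v hv
      obtain ⟨j, hj⟩ := hKqp n hn
      obtain ⟨l, hl⟩ := exists_pow_eq_self_of_coprime (x := π n) (n := q ^ j)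
        (by rw [hk]; exact Nat.Coprime.pow _ _ ((Nat.coprime_primes hq hp).2 hqp))
      have hnA : π n ∈ Kq.map π := hl ▸ pow_mem (by rw [← map_pow]; exact Subgroup.mem_map_of_mem _ hj) l
      exact Subgroup.commute_of_normal_of_disjoint _ _ hAn hBn hdisj _ _ hnA (Subgroup.map_subtype_le _ hv)
  · -- an element of order `q` acts fixed-point-freely on `N`
    obtain ⟨h, hh⟩ := exists_prime_orderOf_dvd_card' q (hqI.trans N.index_dvd_card)
    have hhN : h ∉ N := fun h' => hqN (hh ▸ Subgroup.orderOf_dvd_natCard N h')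
    have hnil : Group.IsNilpotent N := by
      refine CfsgLib.Complement.isNilpotent_of_fpf N (MulAut.conjNormal h) q hq ?_ ?_
      · rw [← map_pow, ← hh, pow_orderOf_eq_one, map_one]
      · intro y hy
        have hy' : h * (y : G) * h⁻¹ = y := congrArg Subtype.val hy
        refine Subtype.ext (hC.eq_one_of_commute hq hhN (k := 1) (by rw [pow_one, hh]) y.2
          (fun hd => hqN (hd.trans (Subgroup.orderOf_dvd_natCard N y.2))) (mul_inv_eq_iff_eq_mul.1 hy'))
    exact hrp (hC.isPGroup_of_isNilpotent hnil hpI hpN hrN)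

end Cfsg.Agent.S4140
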