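import Cfsg.Statements.S4142
import Mathlib
import Cfsg.Agent.Lib.Solvable.Basic
-- import your own Cfsg.Agent.* helpers here

set_option autoImplicit false
open Cfsg

namespace Cfsg.Agent.S4142

/-- Let G be a finite group and N a normal subgroup. Then the conjugacy class of every element g outside N is a union of cosets of N (gn is conjugate to g for all n ∈ N) if and only if for every g outside N the centralizer of g in G has the same order as the centralizer of gN in G/N. -/
theorem result {G : Type*} [Group G] [Finite G] (N : Subgroup G) [N.Normal] :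
    (∀ g : G, g ∉ N → ∀ n ∈ N, ∃ x : G, x * g * x⁻¹ = g * n) ↔
      ∀ g : G, g ∉ N → Nat.card (Subgroup.centralizer ({g} : Set G)) =
        Nat.card (Subgroup.centralizer ({(QuotientGroup.mk g : G ⧸ N)} : Set (G ⧸ N))) := by
  classical
  have key : ∀ g : G, (∀ n ∈ N, ∃ x : G, x * g * x⁻¹ = g * n) ↔
      Nat.card (Subgroup.centralizer ({g} : Set G)) =
        Nat.card (Subgroup.centralizer ({(QuotientGroup.mk g : G ⧸ N)} : Set (G ⧸ N))) := by
    intro g
    set D := (Subgroup.centralizer ({(QuotientGroup.mk g : G ⧸ N)} : Set (G ⧸ N))).comap (QuotientGroup.mk' N) with hD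
    set C := Subgroup.centralizer ({g} : Set G) with hC
    have hDmem : ∀ x : G, x ∈ D ↔ g⁻¹ * (x * g * x⁻¹) ∈ N := fun x => by
      rw [hD, Subgroup.mem_comap, Subgroup.mem_centralizer_singleton_iff, QuotientGroup.mk'_apply,
        ← QuotientGroup.eq_one_iff, QuotientGroup.mk_mul, QuotientGroup.mk_inv, QuotientGroup.mk_mul,
        QuotientGroup.mk_mul, QuotientGroup.mk_inv, inv_mul_eq_one, eq_mul_inv_iff_mul_eq]
      exact eq_comm
    have hCD : C ≤ D := fun x hx => by
      rw [hDmem, Subgroup.mem_centralizer_singleton_iff.1 hx, mul_inv_cancel_right, inv_mul_cancel]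
      exact one_mem N
    let f : D ⧸ C.subgroupOf D → N := Quotient.lift
      (fun x : D => ⟨g⁻¹ * ((x : G) * g * (x : G)⁻¹), (hDmem x).1 x.2⟩) (fun a b hab => by
        have h1 : (a⁻¹ * b : D) ∈ C.subgroupOf D := QuotientGroup.leftRel_apply.1 hab
        have h2 : (a : G)⁻¹ * b * g = g * ((a : G)⁻¹ * b) := Subgroup.mem_centralizer_singleton_iff.1 h1
        refine Subtype.ext ?_
        show g⁻¹ * ((a : G) * g * (a : G)⁻¹) = g⁻¹ * ((b : G) * g * (b : G)⁻¹)
        congr 1
        calc (a : G) * g * (a : G)⁻¹ = (a : G) * (g * ((a : G)⁻¹ * b)) * (b : G)⁻¹ := by group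
          _ = (a : G) * ((a : G)⁻¹ * b * g) * (b : G)⁻¹ := by rw [h2]
          _ = (b : G) * g * (b : G)⁻¹ := by group)
    have hf : Function.Injective f := by
      intro a b
      induction a using QuotientGroup.induction_on with | _ a => ?_
      induction b using QuotientGroup.induction_on with | _ b => ?_
      intro he
      have h' : (a : G) * g * (a : G)⁻¹ = (b : G) * g * (b : G)⁻¹ := mul_left_cancel (congrArg Subtype.val he)
      refine QuotientGroup.eq.2 (Subgroup.mem_centralizer_singleton_iff.2 ?_)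
      show (a : G)⁻¹ * b * g = g * ((a : G)⁻¹ * b)
      calc (a : G)⁻¹ * b * g = (a : G)⁻¹ * ((b : G) * g * (b : G)⁻¹) * b := by group
        _ = (a : G)⁻¹ * ((a : G) * g * (a : G)⁻¹) * b := by rw [h']
        _ = g * ((a : G)⁻¹ * b) := by group
    have hcardD : Nat.card D = Nat.card N * Nat.card (Subgroup.centralizer ({(QuotientGroup.mk g : G ⧸ N)} : Set (G ⧸ N))) := by
      rw [hD, CfsgLib.Solvable.card_comap_mk', mul_comm]
    have hsplit : Nat.card D = Nat.card (D ⧸ C.subgroupOf D) * Nat.card C := by
      rw [Subgroup.card_eq_card_quotient_mul_card_subgroup (C.subgroupOf D),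
        Nat.card_congr (Subgroup.subgroupOfEquivOfLe hCD).toEquiv]
    constructor
    · intro h
      have hsurj : Function.Surjective f := by
        rintro ⟨n, hn⟩
        obtain ⟨x, hx⟩ := h n hn
        refine ⟨QuotientGroup.mk ⟨x, (hDmem x).2 (by rw [hx, inv_mul_cancel_left]; exact hn)⟩, Subtype.ext ?_⟩
        show g⁻¹ * (x * g * x⁻¹) = n
        rw [hx, inv_mul_cancel_left]
      rw [Nat.card_congr (Equiv.ofBijective f ⟨hf, hsurj⟩), hcardD] at hsplit
      exact (Nat.eq_of_mul_eq_mul_left Nat.card_pos hsplit).symm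
    · intro h n hn
      have hc : Nat.card (D ⧸ C.subgroupOf D) = Nat.card N := by
        refine Nat.eq_of_mul_eq_mul_right (Nat.card_pos (α := C)) ?_
        rw [← hsplit, hcardD, ← h]
      obtain ⟨q, hq⟩ := ((Nat.bijective_iff_injective_and_card f).2 ⟨hf, hc⟩).2 ⟨n, hn⟩
      induction q using QuotientGroup.induction_on with | _ x => ?_
      refine ⟨x, ?_⟩
      have hx : g⁻¹ * ((x : G) * g * (x : G)⁻¹) = n := congrArg Subtype.val hq
      rw [← hx, mul_inv_cancel_left]
  exact forall_congr' fun g => imp_congr_right fun _ => key g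

end Cfsg.Agent.S4142
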