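import Cfsg.Statements.S4143
import Cfsg.Agent.Lib.Transfer.MaxClass

set_option autoImplicit false
open Cfsg

namespace Cfsg.Agent.S4143

open Subgroup
open scoped commutatorElement

/-- Let X be a finite p-group of order p^n containing a non-abelian subgroup B of order p³ with C_X(B) ≤ B. Then X has nilpotency class n − 1 (maximal class). -/
theorem result {X : Type*} [Group X] [Finite X] {p : ℕ} [Fact p.Prime] (n : ℕ) (hX : Nat.card X = p ^ n)
    (B : Subgroup X) (hB : Nat.card B = p ^ 3) (hBna : ¬ IsMulCommutative B) (hC : Subgroup.centralizer (B : Set X) ≤ B) :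
    Group.nilpotencyClass X = n - 1 := by
  classical
  have hp : p.Prime := Fact.out
  have hXp : IsPGroup p X := IsPGroup.of_card hX
  have := hXp.isNilpotent
  have hn3 : 3 ≤ n := by
    have := card_le_card_group B
    rw [hB, hX] at this
    exact (Nat.pow_le_pow_iff_right hp.one_lt).1 this
  obtain ⟨b₁, hb₁, b₂, hb₂, hne⟩ : ∃ b₁ ∈ B, ∃ b₂ ∈ B, b₁ * b₂ ≠ b₂ * b₁ := by
    by_contra! h
    exact hBna ⟨⟨fun x y => Subtype.ext (h x x.2 y y.2)⟩⟩
  have := CfsgLib.Transfer.nontrivial_of_card_pow hp.one_lt (show 1 ≤ n by omega) hX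
  -- the centralizer of `B` has order `p`
  set Z := centralizer (B : Set X) with hZdef
  have hZp : Nat.card Z = p := by
    have hdvd : Nat.card Z ∣ p ^ 3 := hB ▸ card_dvd_of_le hC
    obtain ⟨i, hi, hci⟩ := (Nat.dvd_prime_pow hp).1 hdvd
    have hi0 : i ≠ 0 := by
      rintro rfl
      rw [pow_zero, card_eq_one] at hci
      have h1 : center X ≤ ⊥ := (center_le_centralizer (B : Set X)).trans hci.le
      exact (Subgroup.nontrivial_iff_ne_bot _).1 hXp.center_nontrivial (le_bot_iff.1 h1)
    have hb₁Z : b₁ ∉ Z := fun h => hne (mem_centralizer_iff.1 h b₂ hb₂).symm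
    have hi2 : i ≤ 1 := by
      by_contra hlt
      set C := centralizer ({b₁} : Set X) ⊓ B
      have hZC : Z ≤ C := fun z hz =>
        mem_inf.2 ⟨mem_centralizer_singleton_iff.2 (mem_centralizer_iff.1 hz b₁ hb₁).symm, hC hz⟩
      have hb₁C : b₁ ∈ C := mem_inf.2 ⟨mem_centralizer_singleton_iff.2 rfl, hb₁⟩
      obtain ⟨j, hj, hcj⟩ := (Nat.dvd_prime_pow hp).1 (hB ▸ card_dvd_of_le (inf_le_right : C ≤ B))
      have hlt' : Nat.card Z < Nat.card C := by
        refine lt_of_le_of_ne (card_le_of_le hZC) fun e => hb₁Z ?_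
        exact (eq_of_le_of_card_ge hZC e.ge).ge hb₁C
      rw [hci, hcj] at hlt'
      have : i < j := (Nat.pow_lt_pow_iff_right hp.one_lt).1 hlt'
      have hCB : C = B := eq_of_le_of_card_ge inf_le_right
        (by rw [hcj, hB, show j = 3 by omega])
      exact hne (mem_centralizer_singleton_iff.1 (mem_inf.1 (hCB.ge hb₂)).1).symm
    rw [hci, show i = 1 by omega, pow_one]
  have hZc : center X = Z := by
    refine eq_of_le_of_card_ge (center_le_centralizer _) ?_
    rw [hZp]
    obtain ⟨c, hc⟩ := IsPGroup.iff_card.1 (hXp.to_subgroup (center X))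
    have h1 := (Finite.one_lt_card_iff_nontrivial (α := center X)).2 hXp.center_nontrivial
    rw [hc] at h1 ⊢
    calc p = p ^ 1 := (pow_one p).symm
      _ ≤ p ^ c := Nat.pow_le_pow_right hp.pos (by
        rcases Nat.eq_zero_or_pos c with rfl | h
        · simp at h1
        · exact h)
  -- the image of `B` is self-centralizing modulo the centre
  let π := QuotientGroup.mk' (center X)
  set B' := B.map π
  have hB' : Nat.card B' = p ^ 2 := by
    rw [show Nat.card B' = π.ker.relIndex B from (relIndex_ker _ _).symm, QuotientGroup.ker_mk']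
    have h1 := relIndex_mul_relIndex ⊥ (center X) B bot_le (hZc ▸ hC)
    rw [relIndex_bot_left, relIndex_bot_left, hB, hZc, hZp, show p ^ 3 = p * p ^ 2 by ring] at h1
    rw [hZc]
    exact Nat.eq_of_mul_eq_mul_left hp.pos h1
  have hab : IsMulCommutative B' := IsPGroup.isMulCommutative_of_card_eq_prime_sq hB'
  have hcent : centralizer (B' : Set (X ⧸ center X)) = B' := by
    let S : Subgroup X := (centralizer (B' : Set (X ⧸ center X))).comap π
    have hBS : B ≤ S := fun b hb => le_centralizer B' (mem_map_of_mem π hb)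
    have hgen : ∀ x : X, x * b₁ = b₁ * x → x * b₂ = b₂ * x → x ∈ Z := by
      intro x h1 h2
      have hD : closure {b₁, b₂} = B := by
        have hle : closure {b₁, b₂} ≤ B := (closure_le _).2 (by rintro y (rfl | rfl) <;> assumption)
        refine eq_of_le_of_card_ge hle ?_
        obtain ⟨j, hj, hcj⟩ := (Nat.dvd_prime_pow hp).1 (hB ▸ card_dvd_of_le hle)
        rw [hB, hcj]
        by_contra hlt
        apply hne
        have hj2 : j ≤ 2 := by
          by_contra hj2
          exact hlt (by rw [show j = 3 by omega])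
        have hb1' : b₁ ∈ closure {b₁, b₂} := subset_closure (by simp)
        have hb2' : b₂ ∈ closure {b₁, b₂} := subset_closure (by simp)
        have hcomm : IsMulCommutative (closure {b₁, b₂} : Subgroup X) := by
          rcases (show j = 0 ∨ j = 1 ∨ j = 2 by omega) with rfl | rfl | rfl
          · have := card_eq_one.1 (hcj.trans (pow_zero p))
            rw [this]; infer_instance
          · have := isCyclic_of_prime_card (hcj.trans (pow_one p))
            exact ⟨⟨fun u v => by let _ := IsCyclic.commGroup (α := closure {b₁, b₂}); exact mul_comm u v⟩⟩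
          · exact IsPGroup.isMulCommutative_of_card_eq_prime_sq hcj
        exact congrArg Subtype.val (hcomm.is_comm.comm ⟨b₁, hb1'⟩ ⟨b₂, hb2'⟩)
      rw [hZdef, ← hD, centralizer_closure]
      refine mem_centralizer_iff.2 ?_
      rintro y (rfl | rfl)
      · exact h1.symm
      · exact h2.symm
    have hval : ∀ (x : S) (b : X), b ∈ B → ⁅(x : X), b⁆ ∈ Z := by
      intro x b hb
      rw [← hZc, ← QuotientGroup.eq_one_iff]
      show π ⁅(x : X), b⁆ = 1
      rw [map_commutatorElement, commutatorElement_eq_one_iff_mul_comm]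
      exact (mem_centralizer_iff.1 x.2 _ (mem_map_of_mem π hb)).symm
    have hSle : Nat.card (S ⧸ Z.subgroupOf S) ≤ p * p := by
      let f : S → Z × Z := fun x => (⟨_, hval x b₁ hb₁⟩, ⟨_, hval x b₂ hb₂⟩)
      rw [← hZp, ← Nat.card_prod]
      refine Nat.card_le_card_of_injective (fun q => f q.out) fun q r hqr => ?_
      have h1 : ⁅(q.out : X), b₁⁆ = ⁅(r.out : X), b₁⁆ := congrArg (fun t : Z × Z => (t.1 : X)) hqr
      have h2 : ⁅(q.out : X), b₂⁆ = ⁅(r.out : X), b₂⁆ := congrArg (fun t : Z × Z => (t.2 : X)) hqr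
      rw [← q.out_eq, ← r.out_eq]
      refine QuotientGroup.eq.2 (mem_subgroupOf.2 ?_)
      simp only [Subgroup.coe_mul, Subgroup.coe_inv]
      have key : ∀ u v b : X, ⁅u, b⁆ = ⁅v, b⁆ → u⁻¹ * v * b = b * (u⁻¹ * v) := by
        intro u v b h
        rw [commutatorElement_def, commutatorElement_def, mul_left_inj] at h
        calc u⁻¹ * v * b = u⁻¹ * (v * b * v⁻¹) * v := by group
          _ = u⁻¹ * (u * b * u⁻¹) * v := by rw [h]
          _ = b * (u⁻¹ * v) := by group
      exact hgen _ (key _ _ _ h1) (key _ _ _ h2)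
    have hSB : S = B := by
      refine (eq_of_le_of_card_ge hBS ?_).symm
      rw [card_eq_card_quotient_mul_card_subgroup (Z.subgroupOf S),
        Nat.card_congr (subgroupOfEquivOfLe (hC.trans hBS)).toEquiv, hZp, hB,
        show p ^ 3 = p * p * p by ring]
      exact Nat.mul_le_mul_right p hSle
    rw [← Subgroup.map_comap_eq_self_of_surjective (QuotientGroup.mk'_surjective (center X))
      (centralizer (B' : Set (X ⧸ center X)))]
    exact congrArg (map π) hSB
  have hm : Nat.card (X ⧸ center X) = p ^ (n - 1) := by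
    have h1 := (center X).card_mul_index
    rw [show Nat.card (center X) = p by rw [hZc, hZp], index_eq_card, hX, show p ^ n = p * p ^ (n - 1) by
      rw [← pow_succ']; congr 1; omega] at h1
    exact Nat.eq_of_mul_eq_mul_left hp.pos h1
  rw [Group.nilpotencyClass_eq_quotient_center_plus_one,
    CfsgLib.Transfer.maxClass_of_self_centralizing hm B' hB' hcent]
  omega

end Cfsg.Agent.S4143
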