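import Cfsg.Statements.S4145
import Cfsg.Agent.Lib.Invol.CyclicSylow
import Cfsg.Agent.Lib.Transfer.Frobenius
import Cfsg.Agent.Lib.Comp.Normalize

set_option autoImplicit false
open Cfsg

namespace Cfsg.Agent.S4145

open Subgroup

variable {G : Type*} [Group G] [Finite G] {p : ℕ} [Fact p.Prime]

theorem complement_aux (P : Sylow p G) (hP : IsCyclic (P : Subgroup G)) (H : Subgroup G) [H.Normal]
    (h2 : p ∣ H.index) : Cfsg.HasNormalPComplement p H := by
  rw [CfsgLib.Transfer.hasNormalPComplement_iff_frobenius]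
  intro D hD g hg hgp
  rw [mem_centralizer_iff]
  intro d hd
  have hD' : IsPGroup p (D.map H.subtype) := hD.map _
  obtain ⟨T, hT⟩ := hD'.exists_le_sylow
  haveI : IsCyclic ↥(T : Subgroup G) := (T.equiv P).isCyclic.2 hP
  obtain ⟨⟨t, htT⟩, hgen⟩ := IsCyclic.exists_generator (α := ↥(T : Subgroup G))
  have hTt : ∀ u ∈ T, ∃ i : ℤ, t ^ i = u := fun u hu => by
    obtain ⟨i, hi⟩ := mem_zpowers_iff.1 (hgen ⟨u, hu⟩)
    exact ⟨i, congrArg Subtype.val hi⟩
  have hTc : (T : Subgroup G) ≤ centralizer ((D.map H.subtype : Subgroup G) : Set G) := by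
    intro u hu
    rw [mem_centralizer_iff]
    intro w hw
    obtain ⟨i, rfl⟩ := hTt u hu
    obtain ⟨j, rfl⟩ := hTt w (hT hw)
    exact zpow_mul_comm t j i
  -- `L` is the part of the centralizer inside `HT`
  set C := centralizer ((D.map H.subtype : Subgroup G) : Set G) with hC
  set L := (C ⊓ H) ⊔ (T : Subgroup G) with hL
  have hgn : (g : G) ∈ normalizer ((D.map H.subtype : Subgroup G) : Set G) :=
    le_normalizer_map H.subtype (mem_map_of_mem _ hg)
  have hTL : (T : Subgroup G) ≤ L := le_sup_right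
  let T1 : Sylow p L := T.subtype hTL
  have hconjL : ∀ u ∈ T, (g : G) * u * (g : G)⁻¹ ∈ L := by
    intro u hu
    have hmem : ((g : G) * u * (g : G)⁻¹) * u⁻¹ ∈ C ⊓ H := by
      refine ⟨C.mul_mem ?_ (C.inv_mem (hTc hu)), ?_⟩
      · rw [hC, mem_centralizer_iff]
        intro w hw
        have h1 := mem_centralizer_iff.1 (hTc hu) _ ((mem_normalizer_iff''.1 hgn w).1 hw)
        calc w * ((g : G) * u * (g : G)⁻¹) = (g : G) * (((g : G)⁻¹ * w * g) * u) * (g : G)⁻¹ := by group
          _ = (g : G) * (u * ((g : G)⁻¹ * w * g)) * (g : G)⁻¹ := by rw [h1]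
          _ = ((g : G) * u * (g : G)⁻¹) * w := by group
      · have e : (g : G) * u * (g : G)⁻¹ * u⁻¹ = (g : G) * (u * (g : G)⁻¹ * u⁻¹) := by group
        rw [e]
        exact mul_mem g.2 ((inferInstance : H.Normal).conj_mem _ (inv_mem g.2) u)
    have : (g : G) * u * (g : G)⁻¹ = ((g : G) * u * (g : G)⁻¹ * u⁻¹) * u := by group
    rw [this]
    exact mul_mem (mem_sup_left hmem) (hTL hu)
  have h2' : ↑((g : G) • T) ≤ L := by
    rintro w ⟨u, hu, rfl⟩
    exact hconjL u hu
  obtain ⟨⟨c', hc'⟩, hh⟩ := MulAction.exists_smul_eq L ((((g : G) • T)).subtype h2') T1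
  simp_rw [T1, Sylow.smul_subtype, Subgroup.smul_def, smul_smul] at hh
  have hn0 : c' * (g : G) ∈ normalizer ((T : Subgroup G) : Set G) :=
    Sylow.smul_eq_iff_mem_normalizer.mp (Sylow.subtype_injective hh)
  obtain ⟨c, rfl⟩ : ∃ c, c⁻¹ = c' := ⟨c'⁻¹, inv_inv c'⟩
  have hc : c ∈ L := by simpa using inv_mem hc'
  have hCT : ∀ w ∈ L, w ∈ C := fun w hw => (sup_le inf_le_left hTc : L ≤ C) hw
  have hn := hn0
  obtain ⟨c0, hc0, s, hs, hcs⟩ : ∃ c0 ∈ C ⊓ H, ∃ s ∈ T, c0 * s = c := by
    have hnorm : (T : Subgroup G) ≤ normalizer ((C ⊓ H : Subgroup G) : Set G) := by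
      intro u hu
      rw [mem_normalizer_iff]
      intro w
      have hu' : u ∈ C := hTc hu
      simp only [mem_inf]
      refine and_congr ⟨fun h => mul_mem (mul_mem hu' h) (inv_mem hu'), fun h => ?_⟩
        ((inferInstance : H.Normal).mem_comm_iff.trans (by simp)).symm
      simpa [mul_assoc] using mul_mem (mul_mem (inv_mem hu') h) hu'
    rw [hL] at hc
    exact CfsgLib.Comp.exists_mul_of_mem_sup hnorm hc
  set n := c0⁻¹ * (g : G) with hn'
  have hnT : n ∈ normalizer ((T : Subgroup G) : Set G) := by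
    have e : n = s * (c⁻¹ * g) := by rw [hn', ← hcs]; group
    rw [e]
    exact mul_mem (le_normalizer hs) hn
  have hnH : n ∈ H := mul_mem (inv_mem hc0.2) g.2
  obtain ⟨k, hk⟩ := hTt _ ((mem_normalizer_iff.1 hnT t).1 htT)
  have hk1 : (p : ℤ) ∣ k - 1 := by
    by_contra hnd
    have hmem : t ^ (k - 1) ∈ H := by
      rw [zpow_sub, zpow_one, hk]
      have e : n * t * n⁻¹ * t⁻¹ = n * (t * n⁻¹ * t⁻¹) := by group
      rw [e]
      exact mul_mem hnH ((inferInstance : H.Normal).conj_mem _ (inv_mem hnH) t)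
    obtain ⟨m, hm⟩ := (IsPGroup.iff_orderOf.1 T.2) ⟨t, htT⟩
    obtain ⟨a, b, hab⟩ := (((Nat.prime_iff_prime_int.1 (Fact.out : p.Prime)).coprime_iff_not_dvd.2 hnd).pow_left (m := m)).symm
    have ht : t ∈ H := by
      have e : t = t ^ (b * (p : ℤ) ^ m) * (t ^ (k - 1)) ^ a := by
        rw [← zpow_mul, ← zpow_add, mul_comm (k - 1) a, add_comm, hab, zpow_one]
      rw [e]
      refine mul_mem ?_ (zpow_mem hmem a)
      have : t ^ (b * (p : ℤ) ^ m) = 1 := by
        rw [← orderOf_dvd_iff_zpow_eq_one]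
        rw [Subgroup.orderOf_mk] at hm
        rw [hm]; push_cast; exact dvd_mul_left _ _
      rw [this]; exact one_mem _
    have hle : (T : Subgroup G) ≤ H := fun u hu => by
      obtain ⟨i, rfl⟩ := hTt u hu; exact zpow_mem ht i
    exact T.not_dvd_index (h2.trans (index_dvd_of_le hle))
  obtain ⟨m, hm⟩ := (IsPGroup.iff_orderOf.1 T.2) ⟨t, htT⟩
  rw [Subgroup.orderOf_mk] at hm
  have hiter : ∀ j : ℕ, n ^ j * t * (n ^ j)⁻¹ = t ^ (k ^ j) := by
    intro j
    induction j with
    | zero => simp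
    | succ j ih =>
      rw [pow_succ', show n * n ^ j * t * (n * n ^ j)⁻¹ = n * (n ^ j * t * (n ^ j)⁻¹) * n⁻¹ by group,
        ih, ← conj_zpow, ← hk, ← zpow_mul, pow_succ' k]
  have hfix : Commute (n ^ p ^ m) t := by
    have h4 : ((p : ℤ) ^ (m + 1)) ∣ k ^ (p ^ m) - 1 ^ (p ^ m) := dvd_sub_pow_of_dvd_sub hk1 m
    rw [one_pow] at h4
    have h5 : t ^ (k ^ p ^ m) = t ^ (1 : ℤ) := by
      rw [← orderOf_dvd_sub_iff_zpow_eq_zpow, hm]
      push_cast
      exact (pow_dvd_pow _ (Nat.le_succ m)).trans h4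
    have := hiter (p ^ m)
    rw [h5, zpow_one] at this
    exact mul_inv_eq_iff_eq_mul.1 this
  -- `g` acts on `D` as `n`
  obtain ⟨i, hi⟩ := hTt _ (hT (mem_map_of_mem _ hd))
  have hdD : ∀ w ∈ D.map H.subtype, (g : G) * w * (g : G)⁻¹ = n * w * n⁻¹ := by
    intro w hw
    have hw' : (g : G) * w * (g : G)⁻¹ ∈ D.map H.subtype := (mem_normalizer_iff.1 hgn w).1 hw
    have := mem_centralizer_iff.1 (inv_mem hc0.1) _ hw'
    calc (g : G) * w * (g : G)⁻¹ = ((g : G) * w * (g : G)⁻¹) * c0⁻¹ * c0 := by group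
      _ = c0⁻¹ * ((g : G) * w * (g : G)⁻¹) * c0 := by rw [this]
      _ = n * w * n⁻¹ := by rw [hn']; group
  have hpow : ∀ (j : ℕ), ∀ w ∈ D.map H.subtype, (g : G) ^ j * w * ((g : G) ^ j)⁻¹ = n ^ j * w * (n ^ j)⁻¹ := by
    intro j
    induction j with
    | zero => simp
    | succ j ih =>
      intro w hw
      rw [pow_succ, pow_succ, show (g : G) ^ j * g * w * ((g : G) ^ j * g)⁻¹ =
        (g : G) ^ j * ((g : G) * w * (g : G)⁻¹) * ((g : G) ^ j)⁻¹ by group,
        ih _ ((mem_normalizer_iff.1 hgn w).1 hw), hdD w hw]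
      group
  have hcomm : Commute ((g : G) ^ p ^ m) (H.subtype d) := by
    refine mul_inv_eq_iff_eq_mul.1 ?_
    rw [hpow _ _ (mem_map_of_mem _ hd), mul_inv_eq_iff_eq_mul, ← hi]
    exact (hfix.zpow_right i).eq
  have hcop : Nat.Coprime (orderOf (g : G)) (p ^ m) := by
    rw [Subgroup.orderOf_coe]; exact hgp.pow_right m
  obtain ⟨j, hj⟩ := exists_pow_eq_self_of_coprime hcop.symm
  have := hcomm.pow_left j
  rw [hj] at this
  exact Subtype.ext this.eq.symm

theorem pSolvable_aux (P : Sylow p G) (hP : IsCyclic (P : Subgroup G)) (H : Subgroup G) [H.Normal]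
    (h1 : p ∣ Nat.card H) (hH : Cfsg.HasNormalPComplement p H) : Cfsg.IsPSolvable p G := by
  rw [CfsgLib.Transfer.hasNormalPComplement_iff_coprime_pResidual] at hH
  have hKn : ((Cfsg.pResidual p H).map H.subtype).Normal := by
    have := CfsgLib.Transfer.pResidual_characteristic (G := H) (p := p)
    infer_instance
  set K := (Cfsg.pResidual p H).map H.subtype with hK
  have hKc : (Nat.card K).Coprime p := by
    rwa [hK, card_map_of_injective H.subtype_injective]
  set f := QuotientGroup.mk' K with hf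
  have hfs : Function.Surjective f := QuotientGroup.mk'_surjective K
  set Hb := H.map f with hHb
  have : Hb.Normal := (inferInstance : H.Normal).map f hfs
  have hHbp : IsPGroup p Hb := by
    intro x
    obtain ⟨h, hh, hx⟩ := x.2
    obtain ⟨i, hi⟩ : ∃ i, (orderOf (⟨h, hh⟩ : H)).factorization p = i := ⟨_, rfl⟩
    refine ⟨i, Subtype.ext ?_⟩
    rw [Subgroup.coe_pow, ← hx, ← map_pow, Subgroup.coe_one, hf, QuotientGroup.mk'_apply,
      QuotientGroup.eq_one_iff, hK]
    refine ⟨(⟨h, hh⟩ : H) ^ p ^ i, CfsgLib.Transfer.mem_pResidual_of_coprime ?_, rfl⟩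
    have hd : p ^ i ∣ orderOf (⟨h, hh⟩ : H) := hi ▸ Nat.ordProj_dvd _ p
    rw [orderOf_pow_of_dvd (pow_ne_zero _ (Fact.out : p.Prime).ne_zero) hd, ← hi]
    exact (Nat.coprime_ordCompl (Fact.out : p.Prime) (orderOf_pos _).ne').symm
  have hne : Hb ≠ ⊥ := by
    intro e
    have hle : H ≤ K := fun h hh => by
      have h1 : f h ∈ Hb := mem_map_of_mem f hh
      rwa [e, mem_bot, hf, QuotientGroup.mk'_apply, QuotientGroup.eq_one_iff] at h1
    exact (Fact.out : p.Prime).coprime_iff_not_dvd.1 hKc.symm (h1.trans (card_dvd_of_le hle))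
  set Pb := P.mapSurjective hfs with hPb
  have hPbc : IsCyclic ↥(Pb : Subgroup (G ⧸ K)) := by
    have := hP
    exact isCyclic_of_surjective (f.subgroupMap (P : Subgroup G)) (f.subgroupMap_surjective _)
  have hHP : Hb ≤ (Pb : Subgroup (G ⧸ K)) := by
    obtain ⟨Q, hQ⟩ := hHbp.exists_le_sylow
    obtain ⟨u, hu⟩ := MulAction.exists_smul_eq (G ⧸ K) Q Pb
    intro x hx
    rw [← hu, Sylow.coe_subgroup_smul, mem_pointwise_smul_iff_inv_smul_mem]
    refine hQ ?_
    simpa [MulAut.smul_def] using (inferInstance : Hb.Normal).conj_mem x hx u⁻¹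
  set C := centralizer (Hb : Set (G ⧸ K)) with hC
  have hPC : (Pb : Subgroup (G ⧸ K)) ≤ C := by
    intro u hu
    rw [mem_centralizer_iff]
    intro w hw
    obtain ⟨t, ht⟩ := IsCyclic.exists_generator (α := ↥(Pb : Subgroup (G ⧸ K)))
    obtain ⟨i, hi⟩ := mem_zpowers_iff.1 (ht ⟨u, hu⟩)
    obtain ⟨j, hj⟩ := mem_zpowers_iff.1 (ht ⟨w, hHP hw⟩)
    have := zpow_mul_comm t j i
    rw [hi, hj] at this
    exact congrArg Subtype.val this
  have := (nontrivial_iff_ne_bot Hb).2 hne
  obtain ⟨⟨x, hx⟩, hx1⟩ := exists_ne (1 : Hb)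
  have hxC : x ∈ C := hPC (hHP hx)
  have hc : Cfsg.HasNormalPComplement p C := by
    refine CfsgLib.Invol.hasNormalPComplement_of_central (P := Pb.subtype hPC) ?_
      (x := (⟨x, hxC⟩ : C)) ?_ ?_ (fun e => hx1 (Subtype.ext (show x = ((1 : Hb) : G ⧸ K) from congrArg Subtype.val e)))
    · exact (subgroupOfEquivOfLe hPC).isCyclic.2 hPbc
    · refine (IsPGroup.iff_orderOf.2 fun w => ?_)
      obtain ⟨i, hi⟩ := mem_zpowers_iff.1 w.2
      obtain ⟨a, ha⟩ := IsPGroup.iff_orderOf.1 hHbp (⟨x, hx⟩ ^ i)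
      refine ⟨a, ?_⟩
      rw [← ha, ← Subgroup.orderOf_coe, ← Subgroup.orderOf_coe, ← hi, ← Subgroup.orderOf_coe]
      simp
    · rw [mem_center_iff]
      intro w
      exact Subtype.ext (mem_centralizer_iff.1 w.2 x hx).symm
  have hres : (Nat.card (Cfsg.pResidual p C)).Coprime p :=
    CfsgLib.Transfer.hasNormalPComplement_iff_coprime_pResidual.1 hc
  have hCn : C.Normal := normal_centralizer
  have hK2n : ((Cfsg.pResidual p C).map C.subtype).Normal := by
    have := CfsgLib.Transfer.pResidual_characteristic (G := C) (p := p)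
    infer_instance
  set K2 := (Cfsg.pResidual p C).map C.subtype with hK2
  have hq2 : ∃ m : ℕ, K2.relIndex C = p ^ m := by
    have e : K2.relIndex C = (Cfsg.pResidual p C).index := by
      rw [relIndex, hK2]
      congr 1
      exact comap_map_eq_self_of_injective C.subtype_injective _
    have := CfsgLib.Transfer.pResidual_normal (G := C) (p := p)
    have hq : IsPGroup p (C ⧸ Cfsg.pResidual p C) := by
      intro x
      obtain ⟨h, rfl⟩ := QuotientGroup.mk'_surjective _ x
      obtain ⟨i, hi⟩ : ∃ i, (orderOf h).factorization p = i := ⟨_, rfl⟩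
      refine ⟨i, ?_⟩
      rw [← map_pow, QuotientGroup.mk'_apply, QuotientGroup.eq_one_iff]
      refine CfsgLib.Transfer.mem_pResidual_of_coprime ?_
      have hd : p ^ i ∣ orderOf h := hi ▸ Nat.ordProj_dvd _ p
      rw [orderOf_pow_of_dvd (pow_ne_zero _ (Fact.out : p.Prime).ne_zero) hd, ← hi]
      exact (Nat.coprime_ordCompl (Fact.out : p.Prime) (orderOf_pos _).ne').symm
    obtain ⟨m, hm⟩ := hq.exists_card_eq
    exact ⟨m, by rw [e, index_eq_card, hm]⟩
  have hker : f.ker = K := QuotientGroup.ker_mk' K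
  have hrel : ∀ X Y : Subgroup (G ⧸ K), (X.comap f).relIndex (Y.comap f) = X.relIndex Y := by
    intro X Y
    rw [relIndex_comap, map_comap_eq_self_of_surjective hfs]
  refine ⟨4, ![⊥, K, K2.comap f, C.comap f, ⊤], rfl, rfl, ?_, ?_, ?_⟩
  · refine Fin.monotone_iff_le_succ.2 fun i => ?_
    fin_cases i
    · exact bot_le
    · exact hker.symm.le.trans (Subgroup.ker_le_comap f K2)
    · exact comap_mono (map_subtype_le _)
    · exact le_top
  · intro i
    fin_cases i
    · exact inferInstanceAs (⊥ : Subgroup G).Normal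
    · exact hKn
    · exact hK2n.comap f
    · exact hCn.comap f
    · exact inferInstanceAs (⊤ : Subgroup G).Normal
  · intro i
    fin_cases i
    · exact Or.inr (by simpa [relIndex_bot_left] using hKc)
    · refine Or.inr ?_
      show (K.relIndex (K2.comap f)).Coprime p
      have e : f.ker.relIndex (K2.comap f) = K.relIndex (K2.comap f) :=
        congrArg (fun X => Subgroup.relIndex X (K2.comap f)) hker
      rw [← e, relIndex_ker, map_comap_eq_self_of_surjective hfs, hK2,
        card_map_of_injective C.subtype_injective]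
      exact hres
    · refine Or.inl ?_
      show ∃ m, (K2.comap f).relIndex (C.comap f) = p ^ m
      rw [hrel]; exact hq2
    · refine Or.inr ?_
      show ((C.comap f).relIndex ⊤).Coprime p
      rw [relIndex_top_right, index_comap_of_surjective _ hfs]
      exact ((Fact.out : p.Prime).coprime_iff_not_dvd.2 fun hd =>
        Pb.not_dvd_index (hd.trans (index_dvd_of_le hPC))).symm

/-- Let G be a finite group with a cyclic Sylow p-subgroup and H a normal subgroup such that p divides both the order of H and the index of H. Then H has a normal p-complement and G is p-solvable. -/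
theorem result {G : Type*} [Group G] [Finite G] (p : ℕ) [Fact p.Prime]
    (P : Sylow p G) (hP : IsCyclic (P : Subgroup G)) (H : Subgroup G) [H.Normal] (h1 : p ∣ Nat.card H) (h2 : p ∣ H.index) :
    Cfsg.HasNormalPComplement p H ∧ Cfsg.IsPSolvable p G := by
  exact ⟨complement_aux P hP H h2, pSolvable_aux P hP H h1 (complement_aux P hP H h2)⟩

end Cfsg.Agent.S4145
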