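import Cfsg.Statements.S4149
import Cfsg.Agent.Lib.StructC.SylowClassCover

set_option autoImplicit false
open Cfsg

namespace Cfsg.Agent.S4149

open CfsgLib.StructC.ClassCoprime

/-- Let G be a finite group that has a normal p-complement for at most one prime p dividing its order, and let σ be a natural number such that every conjugacy class size of G has at most σ distinct prime divisors. Then the number of primes dividing at least one conjugacy class size of G is at most 2σ. -/
theorem result {G : Type*} [Group G] [Finite G] (σ : ℕ)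
    (hσ : ∀ x : G, ((Subgroup.centralizer ({x} : Set G)).index).primeFactors.card ≤ σ)
    (hnil : ∀ p q : ℕ, p.Prime → q.Prime → p ∣ Nat.card G → q ∣ Nat.card G →
      Cfsg.HasNormalPComplement p G → Cfsg.HasNormalPComplement q G → p = q) :
    Nat.card {p : ℕ | p.Prime ∧ ∃ x : G, p ∣ (Subgroup.centralizer ({x} : Set G)).index} ≤ 2 * σ := by
  classical
  have := Fintype.ofFinite G
  set V := (Nat.card G).primeFactors.filter (fun p => ∃ x : G, p ∣ cs x) with hV
  have hVset : {p : ℕ | p.Prime ∧ ∃ x : G, p ∣ cs x} = (V : Set ℕ) := by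
    ext p
    simp only [Set.mem_ofPred_eq, hV, Finset.coe_filter, Nat.mem_primeFactors]
    constructor
    · rintro ⟨hp, x, hx⟩
      exact ⟨⟨hp, hx.trans (Subgroup.index_dvd_card _), Nat.card_pos.ne'⟩, x, hx⟩
    · rintro ⟨⟨hp, -, -⟩, h⟩
      exact ⟨hp, h⟩
  show Nat.card {p : ℕ | p.Prime ∧ ∃ x : G, p ∣ cs x} ≤ 2 * σ
  rw [hVset, Nat.card_coe_set_eq, Set.ncard_coe_finset]
  by_contra! hlt
  -- every element is counted at least `#V - σ` times
  have hlow : Fintype.card G * (V.card - σ) ≤ ∑ q ∈ V, {x : G | ¬ q ∣ cs x}.ncard := by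
    have h1 : ∀ x : G, V.card - σ ≤ (V.filter fun q => ¬ q ∣ cs x).card := by
      intro x
      have h2 : (V.filter fun q => q ∣ cs x).card ≤ σ := by
        refine le_trans (Finset.card_le_card fun q hq => ?_) (hσ x)
        rw [Finset.mem_filter, hV, Finset.mem_filter, Nat.mem_primeFactors] at hq
        exact Nat.mem_primeFactors.2 ⟨hq.1.1.1, hq.2, Subgroup.index_ne_zero_of_finite⟩
      have h3 := Finset.card_filter_add_card_filter_not (s := V) (fun q => q ∣ cs x)
      omega
    calc Fintype.card G * (V.card - σ) = ∑ _x : G, (V.card - σ) := by simp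
      _ ≤ ∑ x : G, (V.filter fun q => ¬ q ∣ cs x).card := Finset.sum_le_sum fun x _ => h1 x
      _ = ∑ q ∈ V, {x : G | ¬ q ∣ cs x}.ncard := by
        simp only [Finset.card_filter, Set.ncard_eq_toFinset_card', Set.toFinset_ofPred]
        rw [Finset.sum_comm]
  have hhalf : ∀ q ∈ V, ¬ Cfsg.HasNormalPComplement q G → 2 * {x : G | ¬ q ∣ cs x}.ncard ≤ Fintype.card G := by
    intro q hq h
    rw [hV, Finset.mem_filter, Nat.mem_primeFactors] at hq
    haveI := Fact.mk hq.1.1
    rw [← Nat.card_eq_fintype_card]
    exact CfsgLib.StructC.SylowClassCover.two_mul_ncard_notdvd_le h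
  have hup : 2 * ∑ q ∈ V, {x : G | ¬ q ∣ cs x}.ncard < (V.card + 1) * Fintype.card G := by
    rw [Finset.mul_sum]
    by_cases h0 : ∃ q0 ∈ V, Cfsg.HasNormalPComplement q0 G
    · obtain ⟨q0, hq0, hn⟩ := h0
      rw [← Finset.add_sum_erase _ _ hq0]
      have h1 : {x : G | ¬ q0 ∣ cs x}.ncard < Fintype.card G := by
        have hq0' := hq0
        rw [hV, Finset.mem_filter, Nat.mem_primeFactors] at hq0'
        haveI := Fact.mk hq0'.1.1
        obtain ⟨x, hx⟩ := hq0'.2
        rw [← Nat.card_eq_fintype_card]
        exact CfsgLib.StructC.SylowClassCover.ncard_notdvd_lt hx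
      have h2 := Finset.sum_le_card_nsmul (V.erase q0) (fun q => 2 * {x : G | ¬ q ∣ cs x}.ncard) (Fintype.card G)
        fun q hq => hhalf q (Finset.mem_of_mem_erase hq) fun hq' => Finset.ne_of_mem_erase hq (by
          have hV' : ∀ r ∈ V, r.Prime ∧ r ∣ Nat.card G := fun r hr => by
            rw [hV, Finset.mem_filter, Nat.mem_primeFactors] at hr
            exact ⟨hr.1.1, hr.1.2.1⟩
          exact hnil q q0 (hV' q (Finset.mem_of_mem_erase hq)).1 (hV' q0 hq0).1 (hV' q (Finset.mem_of_mem_erase hq)).2
            (hV' q0 hq0).2 hq' hn)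
      rw [Finset.card_erase_of_mem hq0, smul_eq_mul] at h2
      have h3 : 1 ≤ V.card := by omega
      have h4 : (V.card + 1) * Fintype.card G = (V.card - 1) * Fintype.card G + 2 * Fintype.card G := by
        rw [← add_mul]; congr 1; omega
      omega
    · push Not at h0
      have h2 := Finset.sum_le_card_nsmul V (fun q => 2 * {x : G | ¬ q ∣ cs x}.ncard) (Fintype.card G)
        fun q hq => hhalf q hq (h0 q hq)
      rw [smul_eq_mul] at h2
      have h4 : 0 < Fintype.card G := Fintype.card_pos
      rw [add_mul, one_mul]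
      omega
  have h5 : V.card + 1 ≤ 2 * (V.card - σ) := by omega
  have := Nat.mul_le_mul_left (Fintype.card G) h5
  have h6 : Fintype.card G * (V.card + 1) = (V.card + 1) * Fintype.card G := mul_comm _ _
  have h7 : Fintype.card G * (2 * (V.card - σ)) = 2 * (Fintype.card G * (V.card - σ)) := by ring
  omega

end Cfsg.Agent.S4149
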