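import Cfsg.Statements.S4150
import Cfsg.Agent.Lib.Comp.TwoPrimes
import Cfsg.Agent.Lib.Comp.TwoCycleGen

set_option linter.style.haveILetI false

set_option autoImplicit false
open Cfsg

namespace Cfsg.Agent.S4150

open Equiv Equiv.Perm CfsgLib.Comp

theorem exists_pair (m : ℕ) (hm : 5 ≤ m) : ∃ p q : ℕ, p.Prime ∧ q.Prime ∧ m ≤ 2 * p ∧ p < q ∧ q ≤ m ∧
    ((p + 4 ≤ q ∧ (m < 2 * p ∨ q + 3 ≤ m)) ∨ (p = 3 ∧ q = 5 ∧ m ≤ 6) ∨ (p = 5 ∧ q = 7) ∨ (p = 11 ∧ q = 13 ∧ m ≤ 16)) := by
  rcases (show m ≤ 6 ∨ (7 ≤ m ∧ m ≤ 10) ∨ (11 ≤ m ∧ m ≤ 14) ∨ (15 ≤ m ∧ m ≤ 16) ∨ m = 17 ∨ 18 ≤ m by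
    omega) with h | h | h | h | h | h
  · exact ⟨3, 5, by norm_num, by norm_num, by omega, by omega, hm, Or.inr (Or.inl ⟨rfl, rfl, h⟩)⟩
  · exact ⟨5, 7, by norm_num, by norm_num, by omega, by omega, by omega,
      Or.inr (Or.inr (Or.inl ⟨rfl, rfl⟩))⟩
  · exact ⟨7, 11, by norm_num, by norm_num, by omega, by omega, by omega, Or.inl ⟨le_rfl, by omega⟩⟩
  · exact ⟨11, 13, by norm_num, by norm_num, by omega, by omega, by omega,
      Or.inr (Or.inr (Or.inr ⟨rfl, rfl, h.2⟩))⟩
  · exact ⟨11, 17, by norm_num, by norm_num, by omega, by omega, by omega, Or.inl ⟨by norm_num, by omega⟩⟩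
  · obtain ⟨p, q, hp, hq, h1, h2, h3⟩ := exists_two_primes (n := m / 2) (by omega)
    exact ⟨p, q, hp, hq, by omega, by omega, by omega, Or.inl ⟨h2, Or.inl (by omega)⟩⟩

theorem gen_alternating {β : Type} [Fintype β] [DecidableEq β] (p q m : ℕ) (hp : p.Prime)
    (hq : q.Prime) (hmp : m ≤ 2 * p) (hpq : p < q) (hd : Fintype.card β ≤ m)
    (hc : (p + 4 ≤ q ∧ (m < 2 * p ∨ q + 3 ≤ m)) ∨ (p = 3 ∧ q = 5 ∧ m ≤ 6) ∨ (p = 5 ∧ q = 7) ∨ (p = 11 ∧ q = 13 ∧ m ≤ 16))
    (x y : Perm β) (hx : orderOf x = p) (hy : orderOf y = q) (hxe : sign x = 1) (hye : sign y = 1)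
    (hU : ∀ a, x a ≠ a ∨ y a ≠ a) :
    ∃ d : ℕ, 5 ≤ d ∧
      Nonempty (Subgroup.closure ({x, y} : Set (Perm β)) ≃* alternatingGroup (Fin d)) := by
  classical
  have hp2 := hp.two_le
  have hyc : y.IsCycle := isCycle_of_prime_order' (hy ▸ hq) (by omega)
  have hys : y.support.card = q := hyc.orderOf.symm.trans hy
  have hqd : q ≤ Fintype.card β := hys ▸ Finset.card_le_univ _
  have hG := closure_pair_isPreprimitive hp hx hyc hys hq hU (by omega) (by omega)
  set G := Subgroup.closure ({x, y} : Set (Perm β)) with hGdef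
  have hxG : x ∈ G := Subgroup.subset_closure (by simp)
  have hyG : y ∈ G := Subgroup.subset_closure (by simp)
  have hA : G ≤ alternatingGroup β := by
    rw [hGdef, Subgroup.closure_le]
    rintro z (rfl | rfl)
    · exact hxe
    · exact hye
  have hfull : alternatingGroup β ≤ G →
      ∃ d : ℕ, 5 ≤ d ∧ Nonempty (G ≃* alternatingGroup (Fin d)) := by
    intro h
    exact ⟨Fintype.card β, by omega, ⟨(MulEquiv.subgroupCongr (le_antisymm hA h)).trans
      (Equiv.altCongrHom (Fintype.equivFin β))⟩⟩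
  obtain ⟨k, hk⟩ : ∃ k, x.cycleType = Multiset.replicate (k + 1) p := by
    have := cycleType_prime_order (σ := x) (hx.symm ▸ hp)
    rwa [hx] at this
  have hxs : x.support.card = (k + 1) * p := by
    rw [← sum_cycleType, hk, Multiset.sum_replicate, smul_eq_mul]
  have hxsd : (k + 1) * p ≤ Fintype.card β := hxs ▸ Finset.card_le_univ _
  rcases Nat.eq_zero_or_pos k with rfl | hk1
  · rw [zero_add, one_mul] at hxs
    have hxc : x.IsCycle := card_cycleType_eq_one.1 (by rw [hk]; simp)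
    by_cases hp3 : p = 3
    · exact hfull (alternatingGroup_le_of_isPreprimitive_of_isThreeCycle_mem hG
        (card_support_eq_three_iff.1 (hxs.trans hp3)) hxG)
    by_cases hp3d : p + 3 ≤ Fintype.card β
    · exact hfull (Cfsg.Agent.S0713.result G hG hp (by omega) hp3d hxc hxs hxG)
    rcases hc with h | ⟨h, -, -⟩ | ⟨rfl, rfl⟩ | ⟨rfl, rfl, -⟩
    · omega
    · exact absurd h hp3
    · exact hfull (twin_five hA hG (by omega) hxc hxs hxG)
    · exact hfull (twin_eleven hA hG (by omega) hxc hxs hxG)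
  · have h2p : 2 * p ≤ (k + 1) * p := Nat.mul_le_mul_right _ (by omega)
    by_cases hq3 : q + 3 ≤ Fintype.card β
    · exact hfull (Cfsg.Agent.S0713.result G hG hq (by omega) hq3 hyc hys hyG)
    rcases hc with h | ⟨rfl, rfl, -⟩ | ⟨rfl, rfl⟩ | ⟨rfl, rfl, h⟩
    · omega
    · rcases card_of_six hA hG (by omega) hyc hys hyG with h | ⟨⟨e⟩⟩
      · exact hfull h.ge
      · exact ⟨5, le_rfl, ⟨e⟩⟩
    · omega
    · omega

/-- Let m ≥ 5. Then there are primes p < q with m/2 ≤ p and q ≤ m such that any two elements x, y of the alternating group of degree m with x of order p and y of order q generate a subgroup isomorphic to an alternating group of some degree d ≥ 5. -/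
theorem result (m : ℕ) (hm : 5 ≤ m) :
    ∃ p q : ℕ, p.Prime ∧ q.Prime ∧ m ≤ 2 * p ∧ p < q ∧ q ≤ m ∧
      ∀ x y : alternatingGroup (Fin m), orderOf x = p → orderOf y = q →
        ∃ d : ℕ, 5 ≤ d ∧ Nonempty (Subgroup.closure ({x, y} : Set (alternatingGroup (Fin m))) ≃* alternatingGroup (Fin d)) := by
  obtain ⟨p, q, hp, hq, hmp, hpq, hqm, hc⟩ := exists_pair m hm
  refine ⟨p, q, hp, hq, hmp, hpq, hqm, fun x y hx hy => ?_⟩
  classical
  let P : Fin m → Prop := fun z => (x : Perm (Fin m)) z ≠ z ∨ (y : Perm (Fin m)) z ≠ z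
  have hmem : ∀ w : Perm (Fin m), (∀ z, ¬ P z → w z = z) → ∀ z, P (w z) ↔ P z := by
    intro w hw z
    refine ⟨fun h => ?_, fun h => ?_⟩
    · by_contra hz; rw [hw z hz] at h; exact hz h
    · by_contra hz
      have := w.injective (hw _ hz)
      rw [this] at hz; exact hz h
  have hxf : ∀ z, ¬ P z → (x : Perm (Fin m)) z = z := fun z hz =>
    by_contra fun h => hz (Or.inl h)
  have hyf : ∀ z, ¬ P z → (y : Perm (Fin m)) z = z := fun z hz =>
    by_contra fun h => hz (Or.inr h)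
  set x' : Perm {z // P z} := (x : Perm (Fin m)).subtypePerm (hmem _ hxf) with hx'
  set y' : Perm {z // P z} := (y : Perm (Fin m)).subtypePerm (hmem _ hyf) with hy'
  have ex : ofSubtype x' = (x : Perm (Fin m)) :=
    ofSubtype_subtypePerm (hmem _ hxf) fun z hz => by_contra fun h => hz (hxf z h)
  have ey : ofSubtype y' = (y : Perm (Fin m)) :=
    ofSubtype_subtypePerm (hmem _ hyf) fun z hz => by_contra fun h => hz (hyf z h)
  have inj : Function.Injective (ofSubtype : Perm {z // P z} →* Perm (Fin m)) := ofSubtype_injective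
  obtain ⟨d, hd, ⟨e⟩⟩ := gen_alternating p q m hp hq hmp hpq
    (le_of_le_of_eq (Fintype.card_subtype_le _) (Fintype.card_fin m)) hc x' y'
    (by rw [← orderOf_injective _ inj x', ex, Subgroup.orderOf_coe, hx])
    (by rw [← orderOf_injective _ inj y', ey, Subgroup.orderOf_coe, hy])
    (by rw [← sign_ofSubtype, ex]; exact x.2) (by rw [← sign_ofSubtype, ey]; exact y.2)
    (fun ⟨z, hz⟩ => hz.imp (fun h h' => h (congrArg Subtype.val h'))
      (fun h h' => h (congrArg Subtype.val h')))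
  refine ⟨d, hd, ⟨(((Subgroup.equivMapOfInjective _ (alternatingGroup (Fin m)).subtype
    (alternatingGroup (Fin m)).subtype_injective).trans (MulEquiv.subgroupCongr ?_)).trans
    (Subgroup.equivMapOfInjective (Subgroup.closure {x', y'}) _ inj).symm).trans e⟩⟩
  rw [MonoidHom.map_closure, MonoidHom.map_closure, Set.image_pair, Set.image_pair, ex, ey]
  rfl

end Cfsg.Agent.S4150
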