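import Cfsg.Statements.S4151
import Cfsg.Agent.Lib.ClassK.TIHallSep
import Cfsg.Agent.Lib.ClassK.TIHallFix
-- import your own Cfsg.Agent.* helpers here

set_option autoImplicit false
open Cfsg
open CfsgLib.ClassK Subgroup

namespace Cfsg.Agent.S4151

/-- Let G be a finite group and H a non-normal subgroup meeting each of its conjugates by elements outside N_G(H) trivially, with the order of H coprime to its index in N_G(H), such that G is π-separable for π the set of primes dividing the order of H (G has a chain of normal subgroups from 1 to G each of whose factors has order divisible only by primes dividing the order of H or coprime to it). Suppose a Sylow 2-subgroup of H is abelian and Q is a complement of H in N_G(H). Then C_H(Q), the subgroup of elements of H commuting with Q, has order coprime to its index in G and has a normal complement in G. -/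
theorem result {G : Type*} [Group G] [Finite G] (H : Subgroup G)
    (hTI : Cfsg.IsTISubset (H : Set G)) (hnn : ¬ H.Normal)
    (hHall : (Nat.card H).Coprime (H.subgroupOf (Subgroup.normalizer (H : Set G))).index)
    (hsep : ∃ (n : ℕ) (M : Fin (n + 1) → Subgroup G), M 0 = ⊥ ∧ M (Fin.last n) = ⊤ ∧ Monotone M ∧ (∀ i, (M i).Normal) ∧
      ∀ i : Fin n, (∀ q : ℕ, q.Prime → q ∣ (M i.castSucc).relIndex (M i.succ) → q ∣ Nat.card H) ∨
        ((M i.castSucc).relIndex (M i.succ)).Coprime (Nat.card H))
    (h2 : ∀ P : Sylow 2 H, IsMulCommutative (P : Subgroup H))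
    (Q : Subgroup G) (hQ : Q ≤ Subgroup.normalizer (H : Set G)) (hQH : Q ⊓ H = ⊥) (hQH' : Q ⊔ H = Subgroup.normalizer (H : Set G)) :
    (Nat.card ↥(H ⊓ Subgroup.centralizer (Q : Set G))).Coprime (H ⊓ Subgroup.centralizer (Q : Set G)).index ∧
    ∃ N : Subgroup G, N.Normal ∧ N.IsComplement' (H ⊓ Subgroup.centralizer (Q : Set G)) := by
  obtain ⟨hOn, hOc, htop, -, ⟨V, _, _, _, φ, hφ⟩, -⟩ :=
    TIHall.sep_structure hTI hnn hHall hsep rfl
  set O : Subgroup G := sSup {K : Subgroup G | K.Normal ∧ (Nat.card K).Coprime (Nat.card H)}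
  have hco := TIHall.coprime_complement hHall hQ hQH
  have hZ : IsZGroup H := TIHall.isZGroup_of_fpf φ hφ h2
  have hs : Group.IsSolvable H := inferInstance
  set C := H ⊓ centralizer (Q : Set G) with hC
  set M := ⁅H, Q⁆
  have hMH : M ≤ H := le_normalizer_iff_commutator_le_left.mp hQ
  have hQM : Q ≤ normalizer (M : Set G) := normalizer_commutator_ge_right H Q
  have hHM : H ≤ normalizer (M : Set G) := normalizer_commutator_ge_left H Q
  have hMC : M ⊔ C = H := CfsgLib.Coprime.commutator_sup_centralizer hQ hco (Or.inr hs)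
  have hcMC : (Nat.card M).Coprime (Nat.card C) :=
    TIHall.coprime_commutator_fixed hQ hco hZ
  set W := M ⊔ Q
  have hHW : H ≤ normalizer (W : Set G) := by
    intro h hh
    rw [CfsgLib.Coprime.mem_normalizer_iff_map_conj]
    refine eq_of_le_of_card_ge ?_ (CfsgLib.Coprime.card_map_conj h W).ge
    rw [Subgroup.map_sup, CfsgLib.Coprime.map_conj_of_mem_normalizer (hHM hh)]
    refine sup_le le_sup_left ?_
    rintro _ ⟨q, hq, rfl⟩
    show h * q * h⁻¹ ∈ W
    rw [show h * q * h⁻¹ = (h * q * h⁻¹ * q⁻¹) * q by group]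
    exact mul_mem (mem_sup_left (commutator_mem_commutator hh hq)) (mem_sup_right hq)
  set N := O ⊔ W
  have hNn : N.Normal := TIHall.normal_of_sup_normalizer htop
    (le_sup_left.trans le_normalizer) (hQH'.symm.le.trans (sup_le
      ((le_sup_right.trans (le_sup_right : W ≤ N)).trans le_normalizer) fun h hh => by
        rw [CfsgLib.Coprime.mem_normalizer_iff_map_conj, Subgroup.map_sup,
          CfsgLib.Coprime.map_conj_of_mem_normalizer (hHW hh),
          CfsgLib.Coprime.map_conj_of_mem_normalizer (normalizer_eq_top (H := O) ▸ mem_top h)]))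
  haveI := hOn
  haveI := hNn
  have hcard : Nat.card N ∣ Nat.card O * (Nat.card M * Nat.card Q) := by
    have h1 := relIndex_mul_relIndex ⊥ O N bot_le le_sup_left
    rw [relIndex_bot_left, relIndex_bot_left, show N = W ⊔ O from sup_comm O W, relIndex_sup_right] at h1
    have h3 : Nat.card W = Nat.card M * Nat.card Q := by
      have h4 : M ⊓ Q = ⊥ := eq_bot_iff.mpr (le_trans (inf_le_inf_right Q hMH)
        (by rw [inf_comm, hQH]))
      exact CfsgLib.Coprime.card_sup_of_inf_eq_bot hQM (inf_comm M Q ▸ h4)
    rw [show N = W ⊔ O from sup_comm O W, ← h1, ← h3]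
    exact Nat.mul_dvd_mul_left _ (relIndex_dvd_card _ _)
  have hNC : (Nat.card N).Coprime (Nat.card C) :=
    Nat.Coprime.coprime_dvd_left hcard ((hOc.coprime_dvd_right (card_dvd_of_le inf_le_left)).mul_left
      (hcMC.mul_left (hco.coprime_dvd_right (card_dvd_of_le inf_le_left))))
  have hsup : N ⊔ C = ⊤ := top_le_iff.mp (htop.symm.le.trans (sup_le (le_sup_left.trans le_sup_left)
    (hQH'.symm.le.trans (sup_le ((le_sup_right.trans (le_sup_right : W ≤ N)).trans le_sup_left)
      (hMC.symm.le.trans (sup_le ((le_sup_left.trans (le_sup_right : W ≤ N)).trans le_sup_left)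
        le_sup_right))))))
  have hcompl : N.IsComplement' C := isComplement'_of_disjoint_and_mul_eq_univ
    (disjoint_of_coprime_natCard hNC) (by rw [← normal_mul, hsup, coe_top])
  exact ⟨hcompl.index_eq_card ▸ hNC.symm, N, hNn, hcompl⟩

end Cfsg.Agent.S4151
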