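import Cfsg.Statements.S4153
import Mathlib
import Cfsg.Agent.Lib.StructB.Ambivalent
-- import your own Cfsg.Agent.* helpers here

set_option autoImplicit false
open Cfsg

namespace Cfsg.Agent.S4153

/-- Let G be a finite group, p a prime, N a normal subgroup, P a Sylow p-subgroup of G and P̄ a Sylow p-subgroup of G/N. Count the elements of p-power order, the identity included. Then (number of such elements of G/N)/#P̄ ≤ (number of such elements of G)/#P, stated as a cross-multiplied inequality, with equality when N is central. -/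
theorem result {G : Type*} [Group G] [Finite G] (p : ℕ) [Fact p.Prime] (N : Subgroup G) [N.Normal]
    (P : Sylow p G) (Pbar : Sylow p (G ⧸ N)) :
    Nat.card {g : (G ⧸ N) // ∃ k : ℕ, orderOf g = p ^ k} * Nat.card (P : Subgroup G) ≤ Nat.card {g : G // ∃ k : ℕ, orderOf g = p ^ k} * Nat.card (Pbar : Subgroup (G ⧸ N)) ∧
    (N ≤ Subgroup.center G → Nat.card {g : (G ⧸ N) // ∃ k : ℕ, orderOf g = p ^ k} * Nat.card (P : Subgroup G) = Nat.card {g : G // ∃ k : ℕ, orderOf g = p ^ k} * Nat.card (Pbar : Subgroup (G ⧸ N))) := by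
  classical
  haveI := Fintype.ofFinite {g : (G ⧸ N) // ∃ k : ℕ, orderOf g = p ^ k}
  have hmk := QuotientGroup.mk'_surjective N
  have hpick : ∀ q : {g : (G ⧸ N) // ∃ k : ℕ, orderOf g = p ^ k},
      ∃ Q : Sylow p G, ∃ g ∈ (Q : Subgroup G), QuotientGroup.mk' N g = q.1 := by
    rintro ⟨q, k, hk⟩
    obtain ⟨R, hR⟩ := (IsPGroup.of_card (n := k) (by rw [Nat.card_zpowers, hk]) : IsPGroup p (Subgroup.zpowers q)).exists_le_sylow
    obtain ⟨Q, rfl⟩ := Sylow.mapSurjective_surjective hmk p R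
    have := hR (Subgroup.mem_zpowers q)
    rw [Sylow.coe_mapSurjective] at this
    exact ⟨Q, this⟩
  choose Q g hgQ hgq using hpick
  have hcard : ∀ R : Sylow p G, Nat.card ((R : Subgroup G) ⊓ N : Subgroup G) * Nat.card (Pbar : Subgroup (G ⧸ N)) = Nat.card (P : Subgroup G) := by
    intro R
    have h1 : Nat.card ((R : Subgroup G).map (QuotientGroup.mk' N)) = Nat.card (Pbar : Subgroup (G ⧸ N)) := by
      rw [← Sylow.coe_mapSurjective hmk, Sylow.card_eq_multiplicity, Sylow.card_eq_multiplicity]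
    rw [← h1, P.card_eq_multiplicity, ← R.card_eq_multiplicity]
    set f := (QuotientGroup.mk' N).comp (R : Subgroup G).subtype with hf
    have hr : f.range = (R : Subgroup G).map (QuotientGroup.mk' N) := by
      rw [hf, MonoidHom.range_comp, Subgroup.range_subtype]
    have hk : f.ker = ((R : Subgroup G) ⊓ N).subgroupOf (R : Subgroup G) := by
      ext x
      rw [MonoidHom.mem_ker, Subgroup.mem_subgroupOf, Subgroup.mem_inf, hf, MonoidHom.comp_apply, QuotientGroup.mk'_apply,
        QuotientGroup.eq_one_iff]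
      exact ⟨fun h => ⟨x.2, h⟩, fun h => h.2⟩
    rw [← hr, ← Subgroup.index_ker, hk,
      ← Nat.card_congr (Subgroup.subgroupOfEquivOfLe (inf_le_left : (R : Subgroup G) ⊓ N ≤ R)).toEquiv]
    exact Subgroup.card_mul_index _
  let F : (Σ q : {g : (G ⧸ N) // ∃ k : ℕ, orderOf g = p ^ k}, ((Q q : Subgroup G) ⊓ N : Subgroup G)) →
      {g : G // ∃ k : ℕ, orderOf g = p ^ k} := fun v => ⟨g v.1 * v.2.1, by
    obtain ⟨k, hk⟩ := IsPGroup.iff_orderOf.1 (Q v.1).isPGroup' ⟨_, mul_mem (hgQ v.1) (Subgroup.mem_inf.1 v.2.2).1⟩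
    exact ⟨k, by rw [← hk, Subgroup.orderOf_mk]⟩⟩
  have hF : Function.Injective F := by
    rintro ⟨a, n, hn⟩ ⟨b, m, hm⟩ he
    have he' : g a * n = g b * m := congrArg Subtype.val he
    have hab : a = b := by
      have := congrArg (QuotientGroup.mk' N) he'
      rw [map_mul, map_mul, hgq, hgq, QuotientGroup.mk'_apply, QuotientGroup.mk'_apply,
        (QuotientGroup.eq_one_iff n).2 (Subgroup.mem_inf.1 hn).2, (QuotientGroup.eq_one_iff m).2 (Subgroup.mem_inf.1 hm).2,
        mul_one, mul_one] at this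
      exact Subtype.ext this
    subst hab
    exact congrArg (Sigma.mk a) (Subtype.ext (mul_left_cancel he'))
  have hsum : Nat.card (Σ q : {g : (G ⧸ N) // ∃ k : ℕ, orderOf g = p ^ k}, ((Q q : Subgroup G) ⊓ N : Subgroup G)) * Nat.card (Pbar : Subgroup (G ⧸ N)) =
      Nat.card {g : (G ⧸ N) // ∃ k : ℕ, orderOf g = p ^ k} * Nat.card (P : Subgroup G) := by
    rw [Nat.card_sigma, Finset.sum_mul, Finset.sum_congr rfl (fun q _ => hcard (Q q)), Finset.sum_const, Finset.card_univ,
      smul_eq_mul, ← Nat.card_eq_fintype_card]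
  refine ⟨?_, fun hZ => ?_⟩
  · rw [← hsum]
    exact Nat.mul_le_mul_right _ (Nat.card_le_card_of_injective F hF)
  · rw [← hsum]
    refine congrArg (· * _) (Nat.card_congr (Equiv.ofBijective F ⟨hF, ?_⟩))
    rintro ⟨x, k, hk⟩
    set q : {g : (G ⧸ N) // ∃ k : ℕ, orderOf g = p ^ k} := ⟨QuotientGroup.mk' N x, by
      obtain ⟨j, -, hj⟩ := (Nat.dvd_prime_pow Fact.out).1 (hk ▸ orderOf_map_dvd (QuotientGroup.mk' N) x)
      exact ⟨j, hj⟩⟩ with hq
    have hn : (g q)⁻¹ * x ∈ N := QuotientGroup.eq.1 (hgq q)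
    have hc := Subgroup.mem_center_iff.1 (hZ hn)
    obtain ⟨l, hl⟩ := IsPGroup.iff_orderOf.1 (Q q).isPGroup' ⟨_, hgQ q⟩
    rw [Subgroup.orderOf_mk] at hl
    have hcomm : Commute (g q) x := by
      have h3 := hc (g q)
      rw [mul_inv_cancel_left] at h3
      show g q * x = x * g q
      calc g q * x = g q * ((g q)⁻¹ * x * g q) := by rw [← h3]
        _ = x * g q := by group
    have hpow : ((g q)⁻¹ * x) ^ p ^ (l + k) = 1 := by
      rw [hcomm.inv_left.mul_pow, inv_pow, pow_add, pow_mul, ← hl, pow_orderOf_eq_one, one_pow, inv_one, one_mul,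
        mul_comm, pow_mul, ← hk, pow_orderOf_eq_one, one_pow]
    have hnorm : (g q)⁻¹ * x ∈ Subgroup.normalizer (((Q q) : Subgroup G) : Set G) := by
      refine Subgroup.mem_normalizer_iff.2 fun y => ?_
      rw [(hc y).symm, mul_inv_cancel_right]
    exact ⟨⟨q, (g q)⁻¹ * x, Subgroup.mem_inf.2 ⟨CfsgLib.StructB.mem_sylow_of_mem_normalizer (Q q) hpow hnorm, hn⟩⟩,
      Subtype.ext (mul_inv_cancel_left (g q) x)⟩

end Cfsg.Agent.S4153
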