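import Cfsg.Statements.S4154
import Mathlib
-- import your own Cfsg.Agent.* helpers here

set_option autoImplicit false
open Cfsg

namespace Cfsg.Agent.S4154

/-- Let G be a finite group and α an automorphism of G such that every element of G is the product of an element fixed by α and an element of the form g⁻¹α(g). If N is a normal α-invariant subgroup, then the automorphism ᾱ induced on G/N has the same property, and every coset fixed by ᾱ contains an element fixed by α (so the fixed points of ᾱ are the images of the fixed points of α). -/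
theorem result {G : Type*} [Group G] [Finite G] (α : MulAut G)
    (hccp : ∀ x : G, ∃ c g : G, α c = c ∧ x = c * (g⁻¹ * α g))
    (N : Subgroup G) [N.Normal] (hN : ∀ n ∈ N, α n ∈ N) :
    (∀ x : G, ∃ c g : G, c⁻¹ * α c ∈ N ∧ x⁻¹ * (c * (g⁻¹ * α g)) ∈ N) ∧
    (∀ x : G, x⁻¹ * α x ∈ N → ∃ c : G, α c = c ∧ c⁻¹ * x ∈ N) := by
  classical
  refine ⟨fun x => ?_, fun x hx => ?_⟩
  · obtain ⟨c, g, hc, hx⟩ := hccp x
    refine ⟨c, g, ?_, ?_⟩
    · rw [hc, inv_mul_cancel]; exact one_mem N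
    · rw [← hx, inv_mul_cancel]; exact one_mem N
  set αb : G ⧸ N →* G ⧸ N := QuotientGroup.map N N α.toMonoidHom hN with hαb
  have hαmk : ∀ g : G, αb (QuotientGroup.mk g) = QuotientGroup.mk (α g) := fun g => rfl
  set C0 : Subgroup G := α.toMonoidHom.eqLocus (MonoidHom.id G) with hC0
  set Cb : Subgroup (G ⧸ N) := αb.eqLocus (MonoidHom.id _) with hCb
  set I := C0.map (QuotientGroup.mk' N) with hI
  have hIC : I ≤ Cb := by
    rintro _ ⟨c, hc, rfl⟩
    show αb (QuotientGroup.mk c) = QuotientGroup.mk c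
    rw [hαmk]; exact congrArg _ hc
  let K : (G ⧸ N) ⧸ Cb → G ⧸ N := Quotient.lift (fun h => h * αb h⁻¹) (fun a b hab => by
    have h1 : αb (a⁻¹ * b) = a⁻¹ * b := QuotientGroup.leftRel_apply.1 hab
    show a * αb a⁻¹ = b * αb b⁻¹
    have h2 : αb a⁻¹ = a⁻¹ * b * αb b⁻¹ := by
      rw [← h1, ← map_mul, mul_inv_cancel_right]
    rw [h2, ← mul_assoc, mul_inv_cancel_left])
  let F : I × ((G ⧸ N) ⧸ Cb) → G ⧸ N := fun v => v.1.1 * K v.2
  have hF : Function.Surjective F := by
    intro q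
    obtain ⟨y, rfl⟩ := QuotientGroup.mk_surjective q
    obtain ⟨c, g, hc, hy⟩ := hccp y
    refine ⟨(⟨QuotientGroup.mk c, c, hc, rfl⟩, QuotientGroup.mk (QuotientGroup.mk g⁻¹)), ?_⟩
    show (QuotientGroup.mk c : G ⧸ N) * ((QuotientGroup.mk g⁻¹ : G ⧸ N) * αb (QuotientGroup.mk g⁻¹)⁻¹) = QuotientGroup.mk y
    rw [← QuotientGroup.mk_inv, hαmk, inv_inv, ← QuotientGroup.mk_mul, ← QuotientGroup.mk_mul, ← hy]
  have hle := Nat.card_le_card_of_surjective F hF
  rw [Nat.card_prod, Subgroup.card_eq_card_quotient_mul_card_subgroup Cb, mul_comm] at hle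
  have heq : I = Cb := Subgroup.eq_of_le_of_card_ge hIC (Nat.le_of_mul_le_mul_right hle Nat.card_pos)
  have hxC : (QuotientGroup.mk x : G ⧸ N) ∈ I := by
    rw [heq]
    show αb (QuotientGroup.mk x) = QuotientGroup.mk x
    rw [hαmk]
    exact (QuotientGroup.eq.2 hx).symm
  obtain ⟨c, hc, hcx⟩ := hxC
  exact ⟨c, hc, QuotientGroup.eq.1 hcx⟩

end Cfsg.Agent.S4154
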