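import Cfsg.Statements.S4156
import Mathlib
-- import your own Cfsg.Agent.* helpers here

set_option autoImplicit false
open Cfsg

namespace Cfsg.Agent.S4156

/-- The extension of a vector to a sum-zero vector. -/
noncomputable def ext {n : ℕ} {F : Type*} [Field F] : (Fin n → F) →ₗ[F] (Fin (n + 1) → F) where
  toFun v := Fin.snoc v (-∑ i, v i)
  map_add' u v := by
    funext i
    refine Fin.lastCases ?_ (fun j => ?_) i
    · simp [Finset.sum_add_distrib]; ring
    · simp
  map_smul' c v := by
    funext i
    refine Fin.lastCases ?_ (fun j => ?_) i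
    · simp [Finset.mul_sum]
    · simp

theorem sum_ext {n : ℕ} {F : Type*} [Field F] (v : Fin n → F) : ∑ i, ext v i = 0 := by
  rw [Fin.sum_univ_castSucc]
  simp [ext]

theorem ext_res {n : ℕ} {F : Type*} [Field F] (w : Fin (n + 1) → F) (hw : ∑ i, w i = 0) :
    ext (fun j => w j.castSucc) = w := by
  rw [Fin.sum_univ_castSucc] at hw
  funext i
  refine Fin.lastCases ?_ (fun j => ?_) i
  · simp only [ext, LinearMap.coe_mk, AddHom.coe_mk, Fin.snoc_last]
    exact neg_eq_of_add_eq_zero_right hw
  · simp [ext]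

/-- The deleted permutation action. -/
noncomputable def perm {n : ℕ} {F : Type*} [Field F] : Equiv.Perm (Fin (n + 1)) →* Module.End F (Fin n → F) where
  toFun σ := (LinearMap.funLeft F F (fun j : Fin n => σ⁻¹ j.castSucc)).comp ext
  map_one' := by
    refine LinearMap.ext fun v => ?_
    funext j
    simp [ext, LinearMap.funLeft_apply]
  map_mul' σ τ := by
    refine LinearMap.ext fun v => ?_
    funext j
    have h : ext (fun i : Fin n => ext v (τ⁻¹ i.castSucc)) = fun i => ext v (τ⁻¹ i) :=
      ext_res (fun i => ext v (τ⁻¹ i)) (by rw [Equiv.sum_comp τ⁻¹ (ext v)]; exact sum_ext v)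
    show ext v ((σ * τ)⁻¹ j.castSucc) = ext (fun i : Fin n => ext v (τ⁻¹ i.castSucc)) (σ⁻¹ j.castSucc)
    rw [h, mul_inv_rev]
    rfl

/-- Let n ≥ 5 and F a finite field. Then the projective special linear group PSL_n(F) contains a subgroup isomorphic to the alternating group of degree n + 1. -/
theorem result (n : ℕ) (hn : 5 ≤ n) (F : Type*) [Field F] [Finite F] :
    ∃ f : alternatingGroup (Fin (n + 1)) →* Matrix.ProjectiveSpecialLinearGroup (Fin n) F, Function.Injective f := by
  classical
  have h5 : 5 ≤ Nat.card (Fin (n + 1)) := by rw [Nat.card_fin]; omega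
  haveI := alternatingGroup.isSimpleGroup h5
  have hperf := commutator_alternatingGroup_eq_top h5
  let M : alternatingGroup (Fin (n + 1)) →* Matrix (Fin n) (Fin n) F :=
    ((LinearMap.toMatrixAlgEquiv' (R := F) (n := Fin n)).toMulEquiv.toMonoidHom.comp (perm (F := F))).comp (alternatingGroup (Fin (n + 1))).subtype
  have hdet : ∀ s, (M s).det = 1 := fun s => by
    set d : alternatingGroup (Fin (n + 1)) →* Fˣ := (Matrix.detMonoidHom.comp M).toHomUnits with hd
    have h1 : commutator (alternatingGroup (Fin (n + 1))) ≤ d.ker := Abelianization.commutator_subset_ker d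
    rw [hperf] at h1
    exact congrArg Units.val (h1 (Subgroup.mem_top s))
  let S : alternatingGroup (Fin (n + 1)) →* Matrix.SpecialLinearGroup (Fin n) F :=
    { toFun := fun s => ⟨M s, hdet s⟩
      map_one' := Subtype.ext M.map_one
      map_mul' := fun a b => Subtype.ext (M.map_mul a b) }
  let g := (QuotientGroup.mk' (Subgroup.center (Matrix.SpecialLinearGroup (Fin n) F))).comp S
  refine ⟨g, (MonoidHom.ker_eq_bot_iff g).1 ?_⟩
  rcases (inferInstance : g.ker.Normal).eq_bot_or_eq_top with h | h
  · exact h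
  exfalso
  have hcen : ∀ s, S s ∈ Subgroup.center (Matrix.SpecialLinearGroup (Fin n) F) := fun s =>
    (QuotientGroup.eq_one_iff _).1 (show g s = 1 from (h ▸ Subgroup.mem_top s : s ∈ g.ker))
  have hker : commutator (alternatingGroup (Fin (n + 1))) ≤ S.ker := by
    rw [commutator_eq_closure, Subgroup.closure_le]
    rintro c ⟨a, b, rfl⟩
    rw [SetLike.mem_coe, MonoidHom.mem_ker, map_commutatorElement, commutatorElement_eq_one_iff_mul_comm]
    exact ((Subgroup.mem_center_iff.1 (hcen a)) (S b)).symm
  rw [hperf] at hker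
  let i0 : Fin n := ⟨0, by omega⟩
  let i1 : Fin n := ⟨1, by omega⟩
  let i2 : Fin n := ⟨2, by omega⟩
  have h01 : i0.castSucc ≠ i1.castSucc := fun e => by
    have := congrArg Fin.val e; simp [i0, i1] at this
  have h02 : i0.castSucc ≠ i2.castSucc := fun e => by
    have := congrArg Fin.val e; simp [i0, i2] at this
  have h12 : i1.castSucc ≠ i2.castSucc := fun e => by
    have := congrArg Fin.val e; simp [i1, i2] at this
  set σ : Equiv.Perm (Fin (n + 1)) := Equiv.swap i0.castSucc i1.castSucc * Equiv.swap i1.castSucc i2.castSucc with hσ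
  have hσA : σ ∈ alternatingGroup (Fin (n + 1)) := by
    rw [Equiv.Perm.mem_alternatingGroup, hσ, map_mul, Equiv.Perm.sign_swap h01, Equiv.Perm.sign_swap h12]
    rfl
  have h1 : M ⟨σ, hσA⟩ = 1 := congrArg Subtype.val (hker (Subgroup.mem_top _))
  have h2 : perm (F := F) σ = 1 := by
    apply (LinearMap.toMatrixAlgEquiv' (R := F) (n := Fin n)).injective
    rw [map_one]
    exact h1
  have h3 := congrFun (LinearMap.congr_fun h2 (Pi.single i0 1)) i0
  have hinv : σ⁻¹ i0.castSucc = i2.castSucc := by
    rw [hσ, mul_inv_rev, Equiv.swap_inv, Equiv.swap_inv, Equiv.Perm.mul_apply, Equiv.swap_apply_left, Equiv.swap_apply_left]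
  have h4 : ext (Pi.single i0 (1 : F)) (σ⁻¹ i0.castSucc) = (Pi.single i0 (1 : F) : Fin n → F) i0 := h3
  rw [hinv] at h4
  simp only [ext, LinearMap.coe_mk, AddHom.coe_mk, Fin.snoc_castSucc] at h4
  rw [Pi.single_eq_same, Pi.single_eq_of_ne (fun e => h02 (by rw [e]))] at h4
  exact zero_ne_one h4

end Cfsg.Agent.S4156
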