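import Cfsg.Statements.S4159
import Cfsg.Agent.Lib.StructB.InvertedOdd

set_option autoImplicit false
open Cfsg

namespace Cfsg.Agent.S4159

/-- Let G be a finite group such that in every subgroup H of G, any two conjugacy classes of H of size greater than 1 have non-coprime sizes. Then G is solvable. -/
theorem result {G : Type*} [Group G] [Finite G]
    (h : ∀ (H : Subgroup G) (x y : H), 1 < (Subgroup.centralizer ({x} : Set H)).index → 1 < (Subgroup.centralizer ({y} : Set H)).index →
      ¬ ((Subgroup.centralizer ({x} : Set H)).index).Coprime (Subgroup.centralizer ({y} : Set H)).index) : Group.IsSolvable G := by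
  classical
  by_contra hns
  obtain ⟨r, u, y, hr, hr2, hur, ⟨k, hk⟩, hy⟩ := CfsgLib.StructB.exists_inverted_odd_prime hns
  haveI : Fact r.Prime := ⟨hr⟩
  set H : Subgroup G := Subgroup.zpowers y ⊔ Subgroup.zpowers u with hH
  set u' : H := ⟨u, Subgroup.mem_sup_right (Subgroup.mem_zpowers u)⟩ with hu'
  set y' : H := ⟨y, Subgroup.mem_sup_left (Subgroup.mem_zpowers y)⟩ with hy'
  have hu'o : orderOf u' = r := by rw [← Subgroup.orderOf_coe, hu', hur]
  have hy'o : orderOf y' = 2 ^ k := by rw [← Subgroup.orderOf_coe, hy', hk]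
  have hyu : y' * u' * y'⁻¹ = u'⁻¹ := Subtype.ext hy
  have hu2 : u' ≠ u'⁻¹ := fun e => by
    have h1 : u' ^ 2 = 1 := by rw [pow_two]; exact mul_eq_one_iff_eq_inv.2 e
    have h2 := orderOf_dvd_of_pow_eq_one h1
    rw [hu'o] at h2
    exact hr2 ((Nat.prime_dvd_prime_iff_eq hr Nat.prime_two).1 h2)
  -- the class of `u` is `{u, u⁻¹}`
  have htop : (⊤ : Subgroup H) = Subgroup.zpowers y' ⊔ Subgroup.zpowers u' := by
    refine Subgroup.map_injective H.subtype_injective ?_
    rw [← MonoidHom.range_eq_map, Subgroup.range_subtype, Subgroup.map_sup, MonoidHom.map_zpowers,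
      MonoidHom.map_zpowers]
    rfl
  have hcl : ∀ b : H, b * u' * b⁻¹ = u' ∨ b * u' * b⁻¹ = u'⁻¹ := by
    intro b
    have hb : b ∈ Subgroup.closure ({y', u'} : Set H) := by
      rw [Set.insert_eq, Subgroup.closure_union, ← Subgroup.zpowers_eq_closure, ← Subgroup.zpowers_eq_closure,
        ← htop]
      trivial
    induction hb using Subgroup.closure_induction with
    | mem b hb =>
      rcases hb with rfl | rfl
      · exact Or.inr hyu
      · exact Or.inl (mul_inv_cancel_right _ _)
    | one => exact Or.inl (by rw [one_mul, inv_one, mul_one])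
    | mul b c _ _ hb hc =>
      have e : b * c * u' * (b * c)⁻¹ = b * (c * u' * c⁻¹) * b⁻¹ := by group
      rcases hc with hc | hc <;> rcases hb with hb | hb
      · exact Or.inl (by rw [e, hc, hb])
      · exact Or.inr (by rw [e, hc, hb])
      · exact Or.inr (by rw [e, hc, ← conj_inv, hb])
      · exact Or.inl (by rw [e, hc, ← conj_inv, hb, inv_inv])
    | inv b _ hb =>
      rw [inv_inv]
      rcases hb with hb | hb
      · refine Or.inl ?_
        have h1 : b⁻¹ * (b * u' * b⁻¹) * b = u' := by group
        rwa [hb] at h1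
      · refine Or.inr ?_
        have h1 : b⁻¹ * (b * u' * b⁻¹)⁻¹ * b = u'⁻¹ := by group
        rwa [hb, inv_inv] at h1
  have hidx2 : (Subgroup.centralizer ({u'} : Set H)).index = 2 := by
    rw [Subgroup.index_eq_two_iff']
    refine ⟨y', fun b => ?_⟩
    have hmem : ∀ c : H, c ∈ Subgroup.centralizer ({u'} : Set H) ↔ c * u' * c⁻¹ = u' := fun c => by
      rw [Subgroup.mem_centralizer_singleton_iff, mul_inv_eq_iff_eq_mul]
    have e : y' * b * u' * (y' * b)⁻¹ = y' * (b * u' * b⁻¹) * y'⁻¹ := by group
    rcases hcl b with hb | hb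
    · refine Or.inr ⟨(hmem b).2 hb, fun h => ?_⟩
      rw [hmem, e, hb, hyu] at h
      exact hu2 h.symm
    · refine Or.inl ⟨?_, fun h => ?_⟩
      · rw [hmem, e, hb, ← conj_inv, hyu, inv_inv]
      · rw [hmem, hb] at h
        exact hu2 h.symm
  -- the class size of `y` divides `r`
  haveI hUn : (Subgroup.zpowers u').Normal := by
    refine ⟨fun z hz g => ?_⟩
    obtain ⟨i, rfl⟩ := Subgroup.mem_zpowers_iff.1 hz
    rw [← conj_zpow]
    rcases hcl g with h | h <;> rw [h]
    · exact zpow_mem (Subgroup.mem_zpowers u') i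
    · exact zpow_mem (inv_mem (Subgroup.mem_zpowers u')) i
  have hcard : Nat.card H = r * Nat.card (Subgroup.zpowers y') := by
    have h1 := Subgroup.relIndex_sup_right (H := Subgroup.zpowers y') (K := Subgroup.zpowers u')
    rw [← htop, Subgroup.relIndex_top_right] at h1
    have hdis : Subgroup.zpowers u' ⊓ Subgroup.zpowers y' = ⊥ := by
      rw [← Subgroup.card_eq_one]
      refine Nat.eq_one_of_dvd_coprimes (a := r) (b := 2 ^ k) ?_ ?_ ?_
      · exact Nat.Coprime.pow_right _ ((Nat.coprime_primes hr Nat.prime_two).2 hr2)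
      · rw [← hu'o, ← Nat.card_zpowers]; exact Subgroup.card_dvd_of_le inf_le_left
      · rw [← hy'o, ← Nat.card_zpowers]; exact Subgroup.card_dvd_of_le inf_le_right
    have h2 : (Subgroup.zpowers u').relIndex (Subgroup.zpowers y') = Nat.card (Subgroup.zpowers y') := by
      rw [← Subgroup.inf_relIndex_right, hdis, Subgroup.relIndex_bot_left]
    rw [h2] at h1
    rw [← (Subgroup.zpowers u').card_mul_index, h1, Nat.card_zpowers, hu'o]
  have hyr : (Subgroup.centralizer ({y'} : Set H)).index ∣ r := by
    set C := Subgroup.centralizer ({y'} : Set H) with hC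
    obtain ⟨c, hc⟩ := Subgroup.card_dvd_of_le (show Subgroup.zpowers y' ≤ C from Subgroup.zpowers_le.2
      (Subgroup.mem_centralizer_singleton_iff.2 rfl))
    have h1 := C.card_mul_index
    rw [hcard, hc, mul_assoc, mul_comm r] at h1
    exact Dvd.intro_left c (Nat.eq_of_mul_eq_mul_left (Nat.card_pos) h1)
  have hy1 : (Subgroup.centralizer ({y'} : Set H)).index ≠ 1 := fun e => by
    have := (Subgroup.index_eq_one.1 e).ge (Subgroup.mem_top u')
    rw [Subgroup.mem_centralizer_singleton_iff] at this
    rw [← this, mul_inv_cancel_right] at hyu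
    exact hu2 hyu
  have hyeq : (Subgroup.centralizer ({y'} : Set H)).index = r :=
    ((Nat.dvd_prime hr).1 hyr).resolve_left hy1
  exact h H u' y' (by rw [hidx2]; norm_num) (by rw [hyeq]; exact hr.one_lt)
    (by rw [hidx2, hyeq]; exact (Nat.coprime_primes Nat.prime_two hr).2 (Ne.symm hr2))

end Cfsg.Agent.S4159
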