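import Cfsg.Statements.S4160
import Cfsg.Agent.Lib.StructC.SylowClassCover

set_option autoImplicit false
open Cfsg

namespace Cfsg.Agent.S4160

/-- Let G be a finite group and p ≠ q primes each dividing the size of some conjugacy class of G, such that no conjugacy class size is divisible by pq. Then G has a normal p-complement or a normal q-complement. -/
theorem result {G : Type*} [Group G] [Finite G] (p q : ℕ) (hp : p.Prime) (hq : q.Prime) (hpq : p ≠ q)
    (hp' : ∃ x : G, p ∣ (Subgroup.centralizer ({x} : Set G)).index) (hq' : ∃ x : G, q ∣ (Subgroup.centralizer ({x} : Set G)).index) (h : ∀ x : G, ¬ p * q ∣ (Subgroup.centralizer ({x} : Set G)).index) :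
    Cfsg.HasNormalPComplement p G ∨ Cfsg.HasNormalPComplement q G := by
  classical
  have := Fact.mk hp
  have := Fact.mk hq
  by_contra hno
  rw [not_or] at hno
  have h1 := CfsgLib.StructC.SylowClassCover.two_mul_ncard_notdvd_le hno.1
  have h2 := CfsgLib.StructC.SylowClassCover.two_mul_ncard_notdvd_le hno.2
  obtain ⟨A, hA⟩ : ∃ A, A = {x : G | ¬ p ∣ CfsgLib.StructC.ClassCoprime.cs x} := ⟨_, rfl⟩
  obtain ⟨B, hB⟩ : ∃ B, B = {x : G | ¬ q ∣ CfsgLib.StructC.ClassCoprime.cs x} := ⟨_, rfl⟩
  rw [← hA] at h1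
  rw [← hB] at h2
  have hcs1 : CfsgLib.StructC.ClassCoprime.cs (1 : G) = 1 :=
    CfsgLib.StructC.ClassCoprime.cs_eq_one_iff.2 (one_mem _)
  have hcover : A ∪ B = Set.univ := Set.eq_univ_of_forall fun x => by
    by_contra hx
    rw [Set.mem_union, hA, hB, Set.mem_setOf_eq, Set.mem_setOf_eq, not_or, not_not, not_not] at hx
    exact h x (((Nat.coprime_primes hp hq).2 hpq).mul_dvd_of_dvd_of_dvd hx.1 hx.2)
  have hone : 0 < (A ∩ B).ncard := by
    refine (Set.ncard_pos (Set.toFinite _)).2 ⟨1, ?_, ?_⟩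
    · rw [hA, Set.mem_setOf_eq, hcs1]; exact hp.not_dvd_one
    · rw [hB, Set.mem_setOf_eq, hcs1]; exact hq.not_dvd_one
  have hsum := Set.ncard_union_add_ncard_inter A B (Set.toFinite _) (Set.toFinite _)
  rw [hcover, Set.ncard_univ] at hsum
  omega

end Cfsg.Agent.S4160
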