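import Cfsg.Statements.S4161
import Cfsg.Agent.Lib.ClassGraph.BadPrime

set_option autoImplicit false
open Cfsg

namespace Cfsg.Agent.S4161

open CfsgLib.ClassGraph Subgroup

variable {G : Type*} [Group G] [Finite G]

/-- a noncentral `p`-element whose class size divides one divisible by `q` -/
private theorem exists_side {p q : ℕ} [Fact p.Prime] [Fact q.Prime]
    (hno : ∀ x : G, ¬ (p ∣ cIdx x ∧ q ∣ cIdx x)) (hp' : ∃ x : G, p ∣ cIdx x) {g : G}
    (hg : q ∣ cIdx g) :
    ∃ a : G, (∃ P : Sylow p G, a ∈ P) ∧ (∃ k, a ^ p ^ k = 1) ∧ a ∉ center G ∧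
      ∃ g' : G, cIdx a ∣ cIdx g' ∧ q ∣ cIdx g' := by
  have hpp : p.Prime := Fact.out
  have hpg : ¬ p ∣ cIdx g := fun h => hno g ⟨h, hg⟩
  obtain ⟨k, m, hm, hkm⟩ := Nat.exists_eq_pow_mul_and_not_dvd (orderOf_pos g).ne' p hpp.ne_one
  by_cases hc : g ^ m ∈ center G
  · have hco : (p ^ k).Coprime m := ((Nat.Prime.coprime_iff_not_dvd hpp).mpr hm).pow_left k
    have hge : centralizer ({g ^ p ^ k} : Set G) ≤ centralizer ({g} : Set G) := fun h hh =>
      mem_cent.mpr (commute_of_coprime hco (mem_cent.mp hh) (mem_center_iff.mp hc h))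
    obtain ⟨P, hP⟩ := exists_sylow_le_of_not_dvd (p := p) hpg
    obtain ⟨x0, hx0⟩ := hp'
    obtain ⟨a, haP, hac⟩ : ∃ a ∈ P, a ∉ center G := by
      by_contra hh
      push Not at hh
      exact P.not_dvd_index (hx0.trans (index_dvd_of_le fun y hy =>
        mem_cent.mpr (mem_center_iff.mp (hh y hy) x0).symm))
    obtain ⟨i, hi⟩ := P.2 ⟨a, haP⟩
    have hi' : a ^ p ^ i = 1 := by simpa using congrArg Subtype.val hi
    have hcom : Commute a (g ^ p ^ k) := ((mem_cent.mp (hP haP)).pow_right _)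
    have hord : (orderOf a).Coprime (orderOf (g ^ p ^ k)) := by
      refine Nat.Coprime.coprime_dvd_left (orderOf_dvd_of_pow_eq_one hi') ?_
      refine Nat.Coprime.coprime_dvd_right (orderOf_dvd_of_pow_eq_one (n := m) ?_) ?_
      · rw [← pow_mul, ← hkm, pow_orderOf_eq_one]
      · exact ((Nat.Prime.coprime_iff_not_dvd hpp).mpr hm).pow_left i
    obtain ⟨h1, h2⟩ := cIdx_dvd_mul hcom hord
    exact ⟨a, ⟨P, haP⟩, ⟨i, hi'⟩, hac, a * g ^ p ^ k, h1,
      hg.trans ((index_dvd_of_le hge).trans h2)⟩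
  · have h1 : (g ^ m) ^ p ^ k = 1 := by rw [← pow_mul, mul_comm, ← hkm, pow_orderOf_eq_one]
    have hP0 : IsPGroup p (zpowers (g ^ m)) := by
      rintro ⟨y, i, rfl⟩
      exact ⟨k, Subtype.ext (by
        show ((g ^ m) ^ i) ^ p ^ k = 1
        rw [← zpow_natCast, zpow_comm, zpow_natCast, h1, one_zpow])⟩
    obtain ⟨P, hP⟩ := hP0.exists_le_sylow
    exact ⟨g ^ m, ⟨P, hP (mem_zpowers _)⟩, ⟨k, h1⟩, hc, g, cIdx_pow_dvd g m, hg⟩

/-- Let G be a finite non-solvable group and p ≠ q primes each dividing the size of some conjugacy class of G. Then either some class size is divisible by pq, or there is a prime r, different from p and q, such that some class size is divisible by pr and some class size is divisible by rq. -/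
theorem result {G : Type*} [Group G] [Finite G] (hG : ¬ Group.IsSolvable G)
    (p q : ℕ) (hp : p.Prime) (hq : q.Prime) (hpq : p ≠ q) (hp' : ∃ x : G, p ∣ (Subgroup.centralizer ({x} : Set G)).index) (hq' : ∃ x : G, q ∣ (Subgroup.centralizer ({x} : Set G)).index) :
    (∃ x : G, p * q ∣ (Subgroup.centralizer ({x} : Set G)).index) ∨ ∃ r : ℕ, r.Prime ∧ r ≠ p ∧ r ≠ q ∧ (∃ x : G, p * r ∣ (Subgroup.centralizer ({x} : Set G)).index) ∧ (∃ y : G, r * q ∣ (Subgroup.centralizer ({y} : Set G)).index) := by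
  by_contra hcon
  rw [not_or] at hcon
  obtain ⟨hno1, hno2⟩ := hcon
  have : Fact p.Prime := ⟨hp⟩
  have : Fact q.Prime := ⟨hq⟩
  have hcop : p.Coprime q := (Nat.coprime_primes hp hq).mpr hpq
  have hno : ∀ x : G, ¬ (p ∣ cIdx x ∧ q ∣ cIdx x) := fun x h =>
    hno1 ⟨x, hcop.mul_dvd_of_dvd_of_dvd h.1 h.2⟩
  -- no prime is joined to both `p` and `q`
  have far : ∀ r : ℕ, r.Prime → ∀ x y : G, p ∣ cIdx x → r ∣ cIdx x → q ∣ cIdx y → r ∣ cIdx y → False := by
    intro r hr x y hpx hrx hqy hry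
    by_cases hrp : r = p
    · subst hrp; exact hno y ⟨hry, hqy⟩
    by_cases hrq : r = q
    · subst hrq; exact hno x ⟨hpx, hrx⟩
    exact hno2 ⟨r, hr, hrp, hrq,
      ⟨x, ((Nat.coprime_primes hp hr).mpr (Ne.symm hrp)).mul_dvd_of_dvd_of_dvd hpx hrx⟩,
      ⟨y, ((Nat.coprime_primes hr hq).mpr hrq).mul_dvd_of_dvd_of_dvd hry hqy⟩⟩
  have hgp : Good p G := by
    by_contra hb
    obtain ⟨z, hz⟩ := hq'
    refine hG (isSolvable_of_good_nbhd (q := q) hz fun r hr hr' => ?_)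
    have : Fact r.Prime := ⟨hr⟩
    refine (good_or_good (fun g hg => ?_)).resolve_left hb
    rcases hr' with rfl | ⟨y, hy⟩
    · exact hno g hg
    · exact far r hr g y hg.1 hg.2 ((dvd_mul_right q r).trans hy) ((dvd_mul_left r q).trans hy)
  have hgq : Good q G := by
    by_contra hb
    obtain ⟨z, hz⟩ := hp'
    refine hG (isSolvable_of_good_nbhd (q := p) hz fun r hr hr' => ?_)
    have : Fact r.Prime := ⟨hr⟩
    refine (good_or_good (fun g hg => ?_)).resolve_left hb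
    rcases hr' with rfl | ⟨y, hy⟩
    · exact hno g ⟨hg.2, hg.1⟩
    · exact far r hr y g ((dvd_mul_right p r).trans hy) ((dvd_mul_left r p).trans hy) hg.1 hg.2
  obtain ⟨g, hg⟩ := hq'
  obtain ⟨h, hh⟩ := hp'
  obtain ⟨a, ⟨P, haP⟩, hap, hac, g', hag, hqg⟩ := exists_side hno ⟨h, hh⟩ hg
  obtain ⟨b, ⟨Q, hbQ⟩, hbq, hbc, h', hbh, hph⟩ :=
    exists_side (p := q) (q := p) (fun x hx => hno x ⟨hx.2, hx.1⟩) ⟨g, hg⟩ hh
  have hco : (cIdx a).Coprime (cIdx b) := Nat.coprime_of_dvd fun r hr ha hb =>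
    far r hr h' g' hph (hb.trans hbh) hqg (ha.trans hag)
  obtain ⟨x, hx⟩ := exists_conj_of_not_dvd Q (not_dvd_cIdx_of_good hpq hgp hgq P haP)
  -- all conjugates of `a` commute with all conjugates of `b`
  have hcomm : ∀ u v : G, Commute (u * a * u⁻¹) (v * b * v⁻¹) := by
    intro u v
    have hab : Commute a (x * b * x⁻¹) := (mem_cent.mp (hx b hbQ)).symm
    have h0 := conj_commute_of_coprime hab (by rwa [cIdx_conj]) (x * v⁻¹ * u)
    have := h0.map (MulAut.conj (v * x⁻¹)).toMonoidHom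
    simpa [MulAut.conj_apply, mul_assoc] using this
  obtain ⟨α, hα, hα'⟩ := exists_no_conj_commute hgp hap hac
  obtain ⟨β, hβ, hβ'⟩ := exists_no_conj_commute hgq hbq hbc
  have hN1 : ∀ v : G, normalClosure ({a} : Set G) ≤ centralizer ({v * b * v⁻¹} : Set G) := by
    intro v
    refine (closure_le _).mpr fun y hy => ?_
    obtain ⟨w, hw, hwy⟩ := Group.mem_conjugatesOfSet_iff.mp hy
    rw [Set.mem_singleton_iff] at hw
    rw [hw] at hwy
    obtain ⟨u, rfl⟩ := isConj_iff.mp hwy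
    exact mem_cent.mpr (hcomm u v)
  have hN2 : ∀ u : G, normalClosure ({b} : Set G) ≤ centralizer ({u * a * u⁻¹} : Set G) := by
    intro u
    refine (closure_le _).mpr fun y hy => ?_
    obtain ⟨w, hw, hwy⟩ := Group.mem_conjugatesOfSet_iff.mp hy
    rw [Set.mem_singleton_iff] at hw
    rw [hw] at hwy
    obtain ⟨v, rfl⟩ := isConj_iff.mp hwy
    exact mem_cent.mpr (hcomm u v).symm
  have hpd : p ∣ cIdx (α * β) := by
    by_contra hd
    obtain ⟨y, hy⟩ := exists_conj_of_not_dvd P hd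
    refine hα' y ?_
    have h1 : Commute (y * a * y⁻¹) (α * β) := mem_cent.mp (hy a haP)
    have h2 : Commute (y * a * y⁻¹) β := (mem_cent.mp (hN2 y hβ)).symm
    simpa using h1.mul_right h2.inv_right
  have hqd : q ∣ cIdx (α * β) := by
    by_contra hd
    obtain ⟨y, hy⟩ := exists_conj_of_not_dvd Q hd
    refine hβ' y ?_
    have h1 : Commute (y * b * y⁻¹) (α * β) := mem_cent.mp (hy b hbQ)
    have h2 : Commute (y * b * y⁻¹) α := (mem_cent.mp (hN1 y hα)).symm
    simpa using h2.inv_right.mul_right h1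
  exact hno _ ⟨hpd, hqd⟩

end Cfsg.Agent.S4161
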