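import Cfsg.Statements.S4168
import Mathlib
-- import your own Cfsg.Agent.* helpers here

set_option autoImplicit false
open Cfsg

namespace Cfsg.Agent.S4168

/-- Let L be a finite quasisimple group (perfect with L/Z(L) simple). Then every prime dividing the order of the centre Z(L) also divides the order of L/Z(L). -/
theorem result {L : Type*} [Group L] [Finite L] (hL : Cfsg.IsQuasisimple L)
    (p : ℕ) (hp : p.Prime) (hdiv : p ∣ Nat.card (Subgroup.center L)) : p ∣ (Subgroup.center L).index := by
  classical
  haveI : Fact p.Prime := ⟨hp⟩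
  obtain ⟨⟨z, hz⟩, hzo⟩ := exists_prime_orderOf_dvd_card' (G := Subgroup.center L) p hdiv
  have htriv : ∀ g : L, MonoidHom.transferCenterPow L g = 1 := fun g => by
    have h1 : commutator L ≤ (MonoidHom.transferCenterPow L).ker := by
      rw [commutator_eq_closure, Subgroup.closure_le]
      rintro c ⟨a, b, rfl⟩
      rw [SetLike.mem_coe, MonoidHom.mem_ker, map_commutatorElement, commutatorElement_eq_one_iff_mul_comm]
      exact Subtype.ext ((Subgroup.mem_center_iff.1 (MonoidHom.transferCenterPow L a).2 _).symm)
    have h2 : commutator L = ⊤ := hL.1.commutator_eq_top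
    exact h1 (h2 ▸ Subgroup.mem_top g)
  have h1 : z ^ (Subgroup.center L).index = 1 := by
    rw [← MonoidHom.transferCenterPow_apply, htriv, Subgroup.coe_one]
  rw [← hzo, Subgroup.orderOf_mk]
  exact orderOf_dvd_of_pow_eq_one h1

end Cfsg.Agent.S4168
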