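import Cfsg.Statements.S4169
import Cfsg.Agent.Lib.Perm.MinimalClasses
import Cfsg.Agent.Lib.StructC.ClassCoprime
import Cfsg.Agent.Lib.OddLocal.PGroup

set_option autoImplicit false
open Cfsg

namespace Cfsg.Agent.S4169

/-- Let P be a finite p-group whose conjugacy classes have exactly two sizes (1 and one other value). Then P has nilpotency class at most 3. -/
theorem result {P : Type*} [Group P] [Finite P] {p : ℕ} [Fact p.Prime] (hP : IsPGroup p P)
    (m : ℕ) (hm : 1 < m) (h : ∀ x : P, (Subgroup.centralizer ({x} : Set P)).index = 1 ∨ (Subgroup.centralizer ({x} : Set P)).index = m) :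
    upperCentralSeries P 3 = ⊤ := by
  obtain ⟨A, -, hAn, hAc, hCA⟩ :=
    CfsgLib.OddLocal.exists_normal_self_centralizing hP (⊥ : Subgroup P) inferInstance
  haveI := hAn
  haveI := hAc
  have hS : Subgroup.closure (Set.univ : Set P) = ⊤ := Subgroup.closure_univ
  have h3 := CfsgLib.Perm.MinimalClasses.upperCentralSeries_three A hCA (S := (Set.univ : Set P))
    fun x _ hx z hz => by
      have h0 : ∀ y : P, y ∉ Subgroup.center P → (Subgroup.centralizer ({y} : Set P)).index = m :=
        fun y hy => (h y).resolve_left fun e => hy (CfsgLib.StructC.ClassCoprime.cs_eq_one_iff.1 e)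
      rw [h0 x hx, h0 z hz]
  rw [hS] at h3
  have e := (Subgroup.topEquiv (G := P))
  have := Subgroup.comap_upperCentralSeries e.symm 3
  rw [h3, Subgroup.comap_top] at this
  exact this.symm

end Cfsg.Agent.S4169
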