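import Cfsg.Statements.S4170
import Mathlib

set_option autoImplicit false
open scoped Pointwise
open Cfsg

namespace Cfsg.Agent.S4170

/-- Let p be an odd prime and G a nontrivial group of permutations of a finite set Ω that is generated by its elements of p-power order. Then Ω has two disjoint nonempty subsets Δ₁ and Δ₂ such that the index in G of the subgroup of elements mapping Δ₁ onto Δ₁ and Δ₂ onto Δ₂ (and hence also the complement of their union onto itself) is divisible by p. -/
theorem result {Ω : Type*} [Fintype Ω] (p : ℕ) [Fact p.Prime] (hp : p ≠ 2) (G : Subgroup (Equiv.Perm Ω)) (hG : G ≠ ⊥) (hgen : Subgroup.closure {g : G | ∃ k : ℕ, orderOf g = p ^ k} = ⊤) :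
    ∃ Δ₁ Δ₂ : Set Ω, Δ₁.Nonempty ∧ Δ₂.Nonempty ∧ Disjoint Δ₁ Δ₂ ∧ p ∣ (MulAction.stabilizer G Δ₁ ⊓ MulAction.stabilizer G Δ₂).index := by
  classical
  have hpp : p.Prime := Fact.out
  have hpG : p ∣ Nat.card G := by
    by_contra hn
    have hone : ∀ g ∈ {g : G | ∃ k : ℕ, orderOf g = p ^ k}, g = 1 := by
      rintro g ⟨k, hk⟩
      rcases k with _ | k
      · exact orderOf_eq_one_iff.1 (by rw [hk, pow_zero])
      · exact absurd ((dvd_pow_self p k.succ_ne_zero).trans (hk ▸ orderOf_dvd_natCard g)) hn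
    have hbot : (⊤ : Subgroup G) = ⊥ := by
      rw [← hgen, Subgroup.closure_eq_bot_iff]
      exact fun g hg => hone g hg
    refine hG ((Subgroup.eq_bot_iff_forall G).2 fun g hg => ?_)
    have h : (⟨g, hg⟩ : G) ∈ (⊥ : Subgroup G) := hbot ▸ Subgroup.mem_top _
    exact congrArg Subtype.val (Subgroup.mem_bot.1 h)
  obtain ⟨x, hx⟩ := exists_prime_orderOf_dvd_card' p hpG
  obtain ⟨a, ha⟩ : ∃ a : Ω, x • a ≠ a := by
    by_contra hall
    push Not at hall
    have h1 : x = 1 := Subtype.ext (Equiv.ext fun b => hall b)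
    rw [h1, orderOf_one] at hx
    exact hpp.ne_one hx.symm
  set D : Finset Ω := (Finset.Ico 1 p).image (fun i => (x ^ i) • a) with hD
  have haD : a ∉ D := by
    intro h
    obtain ⟨i, hi, hia⟩ := Finset.mem_image.1 h
    rw [Finset.mem_Ico] at hi
    have hcop : (i : ℕ).Coprime (orderOf x) := by
      rw [hx]; exact Nat.Coprime.symm (hpp.coprime_iff_not_dvd.2 (Nat.not_dvd_of_pos_of_lt hi.1 hi.2))
    obtain ⟨l, hl⟩ := exists_pow_eq_self_of_coprime hcop
    have hfix : x ^ i ∈ MulAction.stabilizer G a := hia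
    exact ha (hl ▸ pow_mem hfix l : x ∈ MulAction.stabilizer G a)
  have hDne : (D : Set Ω).Nonempty :=
    ⟨x • a, Finset.mem_image.2 ⟨1, Finset.mem_Ico.2 ⟨le_rfl, hpp.one_lt⟩, by rw [pow_one]⟩⟩
  refine ⟨{a}, D, Set.singleton_nonempty a, hDne, Set.disjoint_singleton_left.2 haD, ?_⟩
  by_contra hn
  set S := MulAction.stabilizer G ({a} : Set Ω) ⊓ MulAction.stabilizer G (D : Set Ω) with hS
  obtain ⟨Q⟩ : Nonempty (Sylow p S) := inferInstance
  -- the subgroup fixing the cycle pointwise
  set W : Subgroup G := ⨅ i : ℕ, MulAction.stabilizer G ((x ^ i) • a) with hW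
  have hQW : (Q : Subgroup S).map S.subtype ≤ W := by
    rintro _ ⟨q, hq, rfl⟩
    have hqS : (q : G) ∈ S := q.2
    have hqa : (q : G) • a = a := by
      have h : (q : G) • ({a} : Set Ω) = {a} := hqS.1
      rw [Set.smul_set_singleton] at h
      exact Set.singleton_injective h
    have hqD : ∀ y ∈ D, (q : G) • y = y := by
      intro y hy
      have hD' : (q : G) • (D : Set Ω) = (D : Set Ω) := hqS.2
      have hpq : IsPGroup p (Subgroup.zpowers (q : G)) := by
        obtain ⟨k, hk⟩ := Q.2 ⟨q, hq⟩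
        have hk' : (q : G) ^ p ^ k = 1 := congrArg (fun z : S => (z : G)) (congrArg Subtype.val hk)
        obtain ⟨t, -, ht⟩ := (Nat.dvd_prime_pow hpp).1 (orderOf_dvd_of_pow_eq_one hk')
        exact IsPGroup.of_card (n := t) (by rw [Nat.card_zpowers, ht])
      obtain ⟨k, hk⟩ := hpq.card_orbit y
      have hsub : MulAction.orbit (Subgroup.zpowers (q : G)) y ⊆ (D : Set Ω) := by
        rintro _ ⟨⟨g, hg⟩, rfl⟩
        show g • y ∈ (D : Set Ω)
        have hg' : g ∈ MulAction.stabilizer G (D : Set Ω) :=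
          Subgroup.zpowers_le.2 (show (q : G) ∈ MulAction.stabilizer G (D : Set Ω) from hD') hg
        rw [← (hg' : g • (D : Set Ω) = (D : Set Ω))]
        exact Set.smul_mem_smul_set hy
      have hle : p ^ k ≤ p - 1 := by
        rw [← hk]
        refine le_trans (Nat.card_mono D.finite_toSet hsub) ?_
        rw [Nat.card_coe_set_eq, Set.ncard_coe_finset]
        exact Finset.card_image_le.trans (by rw [Nat.card_Ico])
      have hk0 : k = 0 := by
        by_contra hk0
        have := Nat.le_of_dvd (pow_pos hpp.pos k) (dvd_pow_self p hk0)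
        have := hpp.pos
        omega
      rw [hk0, pow_zero, Nat.card_eq_one_iff_unique] at hk
      have := hk.1
      exact congrArg Subtype.val (Subsingleton.elim
        (⟨(q : G) • y, ⟨⟨q, Subgroup.mem_zpowers _⟩, rfl⟩⟩ : MulAction.orbit (Subgroup.zpowers (q : G)) y)
        ⟨y, MulAction.mem_orbit_self y⟩)
    rw [hW, Subgroup.mem_iInf]
    intro i
    show (q : G) • (x ^ i) • a = (x ^ i) • a
    have hxi : (x ^ i) • a = (x ^ (i % p)) • a := by rw [← hx, pow_mod_orderOf]
    rw [hxi]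
    rcases Nat.eq_zero_or_pos (i % p) with h0 | h0
    · rw [h0, pow_zero, one_smul, hqa]
    · exact hqD _ (Finset.mem_image.2 ⟨i % p, Finset.mem_Ico.2 ⟨h0, Nat.mod_lt _ hpp.pos⟩, rfl⟩)
  have hWi : ¬ p ∣ W.index := by
    intro h
    have h' := h.trans (Subgroup.index_dvd_of_le hQW)
    rw [Subgroup.index_map_subtype] at h'
    rcases hpp.dvd_mul.1 h' with h1 | h1
    · exact Q.not_dvd_index h1
    · exact hn h1
  have hxN : x ∈ Subgroup.normalizer (W : Set G) := by
    refine Subgroup.mem_normalizer_fintype fun g hg => ?_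
    rw [hW, SetLike.mem_coe, Subgroup.mem_iInf] at hg ⊢
    intro i
    show (x * g * x⁻¹) • (x ^ i) • a = (x ^ i) • a
    have hstep : x⁻¹ • (x ^ i) • a = (x ^ (i + (p - 1))) • a := by
      rw [smul_smul]
      congr 1
      have hinv : x⁻¹ = x ^ (p - 1) := by
        rw [inv_eq_iff_mul_eq_one, ← pow_succ', Nat.sub_add_cancel hpp.pos, ← hx, pow_orderOf_eq_one]
      rw [hinv, ← pow_add, add_comm]
    rw [mul_smul, mul_smul, hstep, (hg (i + (p - 1)) : g • _ = _), ← hstep, smul_inv_smul]
  have hxW : x ∉ W := fun h => ha (by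
    have h0 : x • ((x ^ 0) • a) = (x ^ 0) • a := Subgroup.mem_iInf.1 h 0
    simpa using h0)
  refine hWi (dvd_trans ?_ (Dvd.intro (Subgroup.normalizer (W : Set G)).index (Subgroup.relIndex_mul_index Subgroup.le_normalizer)))
  rw [Subgroup.relIndex, Subgroup.index_eq_card]
  have hord : orderOf (QuotientGroup.mk' (W.subgroupOf (Subgroup.normalizer (W : Set G))) ⟨x, hxN⟩) = p := by
    refine orderOf_eq_prime ?_ ?_
    · rw [← map_pow]
      have : (⟨x, hxN⟩ : Subgroup.normalizer (W : Set G)) ^ p = 1 := Subtype.ext (by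
        rw [SubmonoidClass.coe_pow, Subgroup.coe_one, ← hx, pow_orderOf_eq_one])
      rw [this, map_one]
    · rw [QuotientGroup.mk'_apply, Ne, QuotientGroup.eq_one_iff, Subgroup.mem_subgroupOf]
      exact hxW
  exact hord ▸ orderOf_dvd_natCard _

end Cfsg.Agent.S4170
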