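import Cfsg.Statements.S4177
import Mathlib
-- import your own Cfsg.Agent.* helpers here

set_option autoImplicit false
open Cfsg

namespace Cfsg.Agent.S4177

/-- Let k be a field whose characteristic does not divide the order of the finite group H (for instance a field of characteristic zero), and ρ a k-linear representation of H on V. Let a be a vector whose H-orbit spans V. Then the space of H-fixed vectors has dimension at most 1, and every vector b whose H-orbit has size coprime to the size of the orbit of a is fixed by H. -/
theorem result {k V H : Type*} [Field k] [AddCommGroup V] [Module k V] [Group H] [Finite H]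
    (hchar : ¬ ringChar k ∣ Nat.card H) (ρ : Representation k H V) (a : V)
    (hspan : Submodule.span k {u : V | ∃ h : H, ρ h a = u} = ⊤) :
    Module.finrank k ρ.invariants ≤ 1 ∧
    ∀ b : V, (Nat.card {u : V | ∃ h : H, ρ h a = u}).Coprime (Nat.card {u : V | ∃ h : H, ρ h b = u}) → ∀ h : H, ρ h b = b := by
  classical
  haveI := Fintype.ofFinite H
  have hne : ∀ B : Subgroup H, (Nat.card B : k) ≠ 0 := fun B h0 =>
    hchar (((ringChar.spec k _).1 h0).trans (Subgroup.card_subgroup_dvd_card B))
  have hneH : (Nat.card H : k) ≠ 0 := fun h0 => hchar ((ringChar.spec k _).1 h0)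
  have hmul : ∀ (x y : H) (v : V), ρ (x * y) v = ρ x (ρ y v) := fun x y v => by
    rw [map_mul, Module.End.mul_apply]
  set T := ∑ h : H, ρ h a with hT
  have hTinv : ∀ h : H, ρ h T = T := fun h => by
    rw [hT, map_sum]
    exact Fintype.sum_equiv (Equiv.mulLeft h) _ _ (fun x => (hmul h x a).symm)
  refine ⟨?_, fun b hcop h => ?_⟩
  · have hle : ρ.invariants ≤ k ∙ T := by
      intro v hv
      set π : V →ₗ[k] V := ∑ h : H, ρ h with hπ
      have hπspan : ∀ u ∈ Submodule.span k {u : V | ∃ h : H, ρ h a = u}, π u ∈ k ∙ T := by
        intro u hu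
        refine (Submodule.span_le (p := Submodule.comap π (k ∙ T))).2 ?_ hu
        rintro _ ⟨g, rfl⟩
        show π (ρ g a) ∈ k ∙ T
        have : π (ρ g a) = T := by
          rw [hπ, LinearMap.sum_apply, hT]
          exact Fintype.sum_equiv (Equiv.mulRight g) _ _ (fun x => (hmul x g a).symm)
        rw [this]
        exact Submodule.mem_span_singleton_self T
      have h1 : π v = (Nat.card H : k) • v := by
        rw [hπ, LinearMap.sum_apply, Finset.sum_congr rfl (fun g _ => (ρ.mem_invariants v).1 hv g), Finset.sum_const,
          Finset.card_univ, Nat.card_eq_fintype_card, Nat.cast_smul_eq_nsmul]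
      have h2 := hπspan v (hspan ▸ Submodule.mem_top)
      rw [h1] at h2
      exact ((k ∙ T).smul_mem_iff hneH).1 h2
    refine (Submodule.finrank_mono hle).trans ?_
    exact (finrank_span_le_card ({T} : Set V)).trans (by simp)
  · let st : V → Subgroup H := fun v =>
      { carrier := {g | ρ g v = v}
        one_mem' := by show ρ 1 v = v; rw [map_one, Module.End.one_apply]
        mul_mem' := fun {x y} hx hy => by
          show ρ (x * y) v = v
          rw [hmul, show ρ y v = v from hy]; exact hx
        inv_mem' := fun {x} hx => by
          show ρ x⁻¹ v = v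
          conv_lhs => rw [← (show ρ x v = v from hx)]
          rw [← hmul, inv_mul_cancel, map_one, Module.End.one_apply] }
    have horb : ∀ v, Nat.card {u : V | ∃ h : H, ρ h v = u} = (st v).index := by
      intro v
      let f : H ⧸ st v → {u : V | ∃ h : H, ρ h v = u} := Quotient.lift (fun g => ⟨ρ g v, g, rfl⟩) (fun x y hxy => by
        have h1 : ρ (x⁻¹ * y) v = v := QuotientGroup.leftRel_apply.1 hxy
        refine Subtype.ext ?_
        show ρ x v = ρ y v
        conv_lhs => rw [← h1]
        rw [← hmul, mul_inv_cancel_left])
      have hf : Function.Bijective f := by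
        constructor
        · intro x y
          induction x using QuotientGroup.induction_on with | _ x => ?_
          induction y using QuotientGroup.induction_on with | _ y => ?_
          intro he
          refine QuotientGroup.eq.2 ?_
          show ρ (x⁻¹ * y) v = v
          have he' : ρ x v = ρ y v := congrArg Subtype.val he
          rw [hmul, ← he', ← hmul, inv_mul_cancel, map_one, Module.End.one_apply]
        · rintro ⟨_, g, rfl⟩
          exact ⟨QuotientGroup.mk g, rfl⟩
      rw [Subgroup.index_eq_card, Nat.card_congr (Equiv.ofBijective f hf)]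
    rw [horb, horb] at hcop
    set A := st a with hA
    set B := st b with hB
    have hAB : A.index ∣ A.relIndex B := by
      have h1 : A.index ∣ (A ⊓ B).index := Subgroup.index_dvd_of_le inf_le_left
      rw [← Subgroup.relIndex_mul_index (inf_le_right : A ⊓ B ≤ B), Subgroup.inf_relIndex_right] at h1
      exact hcop.dvd_of_dvd_mul_right h1
    let ι : B ⧸ A.subgroupOf B → H ⧸ A := Quotient.map' (fun x => (x : H)) (fun x y hxy => by
      rw [QuotientGroup.leftRel_apply] at hxy ⊢
      exact hxy)
    have hι : Function.Bijective ι := by
      have hinj : Function.Injective ι := by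
        intro x y
        induction x using QuotientGroup.induction_on with | _ x => ?_
        induction y using QuotientGroup.induction_on with | _ y => ?_
        intro he
        have he' : (QuotientGroup.mk (x : H) : H ⧸ A) = QuotientGroup.mk (y : H) := he
        have h2 := (QuotientGroup.eq (s := A)).1 he'
        exact QuotientGroup.eq.2 h2
      refine (Nat.bijective_iff_injective_and_card ι).2 ⟨hinj, le_antisymm (Nat.card_le_card_of_injective ι hinj) ?_⟩
      rw [← Subgroup.index_eq_card, ← Subgroup.index_eq_card]
      refine Nat.le_of_dvd ?_ hAB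
      exact Nat.pos_of_ne_zero Subgroup.index_ne_zero_of_finite
    have hsplit : ∀ g : H, ∃ β : B, ρ g a = ρ (β : H) a := by
      intro g
      obtain ⟨q, hq⟩ := hι.2 (QuotientGroup.mk g)
      induction q using QuotientGroup.induction_on with | _ β => ?_
      refine ⟨β, ?_⟩
      have h1 : ρ ((β : H)⁻¹ * g) a = a := QuotientGroup.eq.1 (show (QuotientGroup.mk (β : H) : H ⧸ A) = QuotientGroup.mk g from hq)
      conv_rhs => rw [← h1]
      rw [← hmul, mul_inv_cancel_left]
    set s := ∑ β : B, ρ (β : H) a with hs
    set π : V →ₗ[k] V := ∑ β : B, ρ (β : H) with hπ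
    have horbit : ∀ g : H, π (ρ g a) = s := by
      intro g
      obtain ⟨β, hβ⟩ := hsplit g
      rw [hπ, LinearMap.sum_apply, hs, hβ]
      exact Fintype.sum_equiv (Equiv.mulRight β) _ _ (fun x => (hmul x β a).symm)
    have hsT : (Nat.card H : k) • s = (Nat.card B : k) • T := by
      have h1 : π T = (Nat.card B : k) • T := by
        rw [hπ, LinearMap.sum_apply, Finset.sum_congr rfl (fun (β : B) _ => hTinv (β : H)), Finset.sum_const,
          Finset.card_univ, Nat.card_eq_fintype_card, Nat.cast_smul_eq_nsmul]
      rw [← h1, hT, map_sum, Finset.sum_congr rfl (fun g _ => horbit g), Finset.sum_const, Finset.card_univ,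
        Nat.card_eq_fintype_card, Nat.cast_smul_eq_nsmul]
    have hsinv : ρ h s = s := by
      apply smul_right_injective V hneH
      show (Nat.card H : k) • ρ h s = (Nat.card H : k) • s
      rw [← map_smul, hsT, map_smul, hTinv]
    have hπb : π b = (Nat.card B : k) • b := by
      rw [hπ, LinearMap.sum_apply, Finset.sum_congr rfl (fun (β : B) _ => (β.2 : ρ (β : H) b = b)), Finset.sum_const,
        Finset.card_univ, Nat.card_eq_fintype_card, Nat.cast_smul_eq_nsmul]
    have hmem : π b ∈ k ∙ s := by
      refine (Submodule.span_le (p := Submodule.comap π (k ∙ s))).2 ?_ (hspan ▸ Submodule.mem_top : b ∈ Submodule.span k _)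
      rintro _ ⟨g, rfl⟩
      show π (ρ g a) ∈ k ∙ s
      rw [horbit]
      exact Submodule.mem_span_singleton_self s
    obtain ⟨c, hc⟩ := Submodule.mem_span_singleton.1 hmem
    apply smul_right_injective V (hne B)
    show (Nat.card B : k) • ρ h b = (Nat.card B : k) • b
    rw [← map_smul, ← hπb, ← hc, map_smul, hsinv]

end Cfsg.Agent.S4177
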