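import Cfsg.Statements.S4178
import Mathlib
-- import your own Cfsg.Agent.* helpers here

set_option autoImplicit false
open Cfsg

namespace Cfsg.Agent.S4178

/-- Let F be a finite field with q elements, V a non-zero finite-dimensional F-space of dimension d, H a group of invertible linear maps of V, and R the subgroup of H generated by the elements of H that fix some non-zero vector (have eigenvalue 1). Then the index of R in H is at most q^d − 1; and if H leaves invariant some proper non-zero subspace, the index is at most q^(d/2) − 1. -/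
theorem result {F V : Type*} [Field F] [Fintype F] [AddCommGroup V] [Module F V] [FiniteDimensional F V] [Nontrivial V]
    (H : Subgroup (V ≃ₗ[F] V)) :
    (Subgroup.closure {h : ↥H | ∃ v : V, v ≠ 0 ∧ (h : V ≃ₗ[F] V) v = v}).index ≤ Fintype.card F ^ Module.finrank F V - 1 ∧
    ((∃ W : Submodule F V, W ≠ ⊥ ∧ W ≠ ⊤ ∧ ∀ h ∈ H, ∀ w ∈ W, h w ∈ W) →
      ((Subgroup.closure {h : ↥H | ∃ v : V, v ≠ 0 ∧ (h : V ≃ₗ[F] V) v = v}).index : ℝ) ≤ Real.sqrt ((Fintype.card F : ℝ) ^ Module.finrank F V) - 1) := by
  classical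
  haveI : Finite V := Module.finite_of_finite F
  haveI : Finite (V ≃ₗ[F] V) := DFunLike.finite _
  set K := Subgroup.closure {h : ↥H | ∃ v : V, v ≠ 0 ∧ (h : V ≃ₗ[F] V) v = v} with hK
  have key : ∀ (h h' : ↥H) (v : V), v ≠ 0 → (h : V ≃ₗ[F] V) v = (h' : V ≃ₗ[F] V) v → h⁻¹ * h' ∈ K := by
    intro h h' v hv he
    refine Subgroup.subset_closure ⟨v, hv, ?_⟩
    show ((h : V ≃ₗ[F] V)⁻¹ * (h' : V ≃ₗ[F] V)) v = v
    show (h : V ≃ₗ[F] V).symm ((h' : V ≃ₗ[F] V) v) = v
    rw [← he, LinearEquiv.symm_apply_apply]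
  have hout : ∀ a b : ↥H ⧸ K, a.out⁻¹ * b.out ∈ K → a = b := fun a b h => by
    rw [← QuotientGroup.out_eq' a, ← QuotientGroup.out_eq' b]
    exact QuotientGroup.eq.2 h
  have hne : ∀ (h : ↥H) (v : V), v ≠ 0 → (h : V ≃ₗ[F] V) v ≠ 0 := fun h v hv e =>
    hv ((h : V ≃ₗ[F] V).injective (e.trans (map_zero _).symm))
  refine ⟨?_, ?_⟩
  · obtain ⟨v0, hv0⟩ := exists_ne (0 : V)
    haveI := Fintype.ofFinite V
    have hc : Nat.card {v : V // v ≠ 0} = Fintype.card F ^ Module.finrank F V - 1 := by
      rw [Nat.card_eq_fintype_card, Fintype.card_subtype_compl, Fintype.card_subtype_eq, Module.card_eq_pow_finrank (K := F)]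
    rw [Subgroup.index_eq_card, ← hc]
    exact Nat.card_le_card_of_injective (fun a => ⟨(a.out : V ≃ₗ[F] V) v0, hne _ _ hv0⟩)
      (fun a b he => hout a b (key _ _ v0 hv0 (congrArg Subtype.val he)))
  · rintro ⟨W, hW0, hW1, hWinv⟩
    have hWc : K.index + 1 ≤ Nat.card W := by
      obtain ⟨w0, hw0, hw0'⟩ := Submodule.exists_mem_ne_zero_of_ne_bot hW0
      let f : Option (↥H ⧸ K) → W := fun o => match o with
        | none => 0
        | some a => ⟨(a.out : V ≃ₗ[F] V) w0, hWinv _ a.out.2 w0 hw0⟩
      have hf : Function.Injective f := by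
        rintro (_ | a) (_ | b) he
        · rfl
        · exact absurd (congrArg Subtype.val he : (0 : V) = (b.out : V ≃ₗ[F] V) w0).symm (hne _ _ hw0')
        · exact absurd (congrArg Subtype.val he : (a.out : V ≃ₗ[F] V) w0 = (0 : V)) (hne _ _ hw0')
        · exact congrArg some (hout a b (key _ _ w0 hw0' (congrArg Subtype.val he)))
      rw [Subgroup.index_eq_card, ← Finite.card_option]
      exact Nat.card_le_card_of_injective f hf
    have hQc : K.index + 1 ≤ Nat.card (V ⧸ W) := by
      obtain ⟨v, -, hvW⟩ := SetLike.exists_of_lt (lt_top_iff_ne_top.2 hW1)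
      let f : Option (↥H ⧸ K) → V ⧸ W := fun o => match o with
        | none => 0
        | some a => Submodule.Quotient.mk ((a.out : V ≃ₗ[F] V) v)
      have hmemW : ∀ h : ↥H, (h : V ≃ₗ[F] V) v ∉ W := fun h hm => hvW (by
        have h1 := hWinv _ (H.inv_mem h.2) _ hm
        rwa [show ((h : V ≃ₗ[F] V)⁻¹) ((h : V ≃ₗ[F] V) v) = v from (h : V ≃ₗ[F] V).symm_apply_apply v] at h1)
      have hf : Function.Injective f := by
        rintro (_ | a) (_ | b) he
        · rfl
        · exact absurd ((Submodule.Quotient.mk_eq_zero W).1 he.symm) (hmemW _)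
        · exact absurd ((Submodule.Quotient.mk_eq_zero W).1 he) (hmemW _)
        · refine congrArg some (hout a b ?_)
          have hd : (a.out : V ≃ₗ[F] V) v - (b.out : V ≃ₗ[F] V) v ∈ W := (Submodule.Quotient.eq W).1 he
          by_contra hnK
          set g := (a.out⁻¹ * b.out : ↥H) with hg
          have hgv : (g : V ≃ₗ[F] V) v - v ∈ W := by
            have h1 := hWinv _ (H.inv_mem a.out.2) _ (W.neg_mem hd)
            rw [neg_sub, map_sub] at h1
            rwa [show ((a.out : V ≃ₗ[F] V)⁻¹) ((a.out : V ≃ₗ[F] V) v) = v from (a.out : V ≃ₗ[F] V).symm_apply_apply v] at h1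
          let D : W →ₗ[F] W :=
            { toFun := fun w => ⟨(g : V ≃ₗ[F] V) w - w, W.sub_mem (hWinv _ g.2 _ w.2) w.2⟩
              map_add' := fun u w => Subtype.ext (by simp; abel)
              map_smul' := fun c w => Subtype.ext (by simp [smul_sub]) }
          have hDinj : Function.Injective D := by
            rw [injective_iff_map_eq_zero]
            intro w hw
            by_contra hw0
            exact hnK (Subgroup.subset_closure ⟨w, fun e => hw0 (Subtype.ext e), sub_eq_zero.1 (congrArg Subtype.val hw)⟩)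
          obtain ⟨w, hw⟩ := (LinearMap.injective_iff_surjective.1 hDinj) ⟨_, hgv⟩
          have hw' : (g : V ≃ₗ[F] V) w - (w : V) = (g : V ≃ₗ[F] V) v - v := congrArg Subtype.val hw
          refine hnK (Subgroup.subset_closure ⟨v - w, fun e => hvW (sub_eq_zero.1 e ▸ w.2), ?_⟩)
          rw [map_sub]
          linear_combination (norm := abel) (-1 : ℤ) • hw'
      rw [Subgroup.index_eq_card, ← Finite.card_option]
      haveI : Finite (V ⧸ W) := Finite.of_surjective _ (Submodule.Quotient.mk_surjective W)
      exact Nat.card_le_card_of_injective f hf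
    haveI := Fintype.ofFinite V
    have hmul : Nat.card (V ⧸ W) * Nat.card W = Fintype.card F ^ Module.finrank F V := by
      rw [← Module.card_eq_pow_finrank (K := F) (V := V), ← Nat.card_eq_fintype_card, Submodule.card_eq_card_quotient_mul_card W, mul_comm]
    have hsq : (K.index + 1) * (K.index + 1) ≤ Fintype.card F ^ Module.finrank F V := hmul ▸ Nat.mul_le_mul hQc hWc
    rw [le_sub_iff_add_le, Real.le_sqrt' (by positivity), pow_two]
    exact_mod_cast hsq

end Cfsg.Agent.S4178
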