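import Cfsg.Statements.S4184
import Cfsg.Agent.Lib.StructC.ClassCoprime
import Cfsg.Agent.Lib.StructB.Misc
import Cfsg.Agent.Lib.InvChar.Basic

set_option autoImplicit false
open Cfsg

namespace Cfsg.Agent.S4184

open CfsgLib.StructC.ClassCoprime

/-- `c` has the full `A`-part of `n`. -/
def Full (A : Set ℕ) (n c : ℕ) : Prop := ∀ p ∈ A, p.Prime → c.factorization p = n.factorization p

theorem factorization_le_of_dvd {a b : ℕ} (hb : b ≠ 0) (h : a ∣ b) (p : ℕ) :
    a.factorization p ≤ b.factorization p :=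
  (Nat.factorization_le_iff_dvd (ne_zero_of_dvd_ne_zero hb h) hb).2 h p

/-- The prime parts of the order, from the class sizes. -/
theorem factorization_eq_aux {G : Type*} [Group G] [Finite G] (hZ : Subgroup.center G = ⊥) {n : ℕ} (hn : n ≠ 0)
    (A : Set ℕ) (hd : ∀ x : G, cs x ∣ n) (h1 : ∀ x : G, x ≠ 1 → Full A n (cs x) ∨ Full Aᶜ n (cs x))
    (h2 : ∀ x : G, ¬ (Full A n (cs x) ∧ Full Aᶜ n (cs x)))
    (h3 : ∀ p : ℕ, p.Prime → ∃ x : G, (cs x).factorization p = n.factorization p)
    {q : ℕ} (hq : q.Prime) (hqA : q ∉ A) (hqn : q ∣ n) {p : ℕ} (hp : p.Prime) (hpA : p ∈ A) (hpn : p ∣ n) :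
    (Nat.card G).factorization p = n.factorization p := by
  have hG0 : Nat.card G ≠ 0 := Nat.card_pos.ne'
  have hle : ∀ r : ℕ, r.Prime → n.factorization r ≤ (Nat.card G).factorization r := fun r hr => by
    obtain ⟨x, hx⟩ := h3 r hr
    rw [← hx]
    exact factorization_le_of_dvd hG0 (Subgroup.index_dvd_card _) r
  refine le_antisymm ?_ (hle p hp)
  by_contra hlt
  push Not at hlt
  haveI := Fact.mk hp
  haveI := Fact.mk hq
  have hne1 : ∀ x : G, x ≠ 1 → x ∉ Subgroup.center G := fun x hx h => hx (by rwa [hZ, Subgroup.mem_bot] at h)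
  -- a central element of a Sylow `q`-subgroup
  let Q : Sylow q G := Classical.arbitrary _
  have hnq : 1 ≤ n.factorization q := hq.factorization_pos_of_dvd hn hqn
  have hQne : (Q : Subgroup G) ≠ ⊥ := by
    intro h
    have h4 := Q.card_eq_multiplicity
    rw [h, Subgroup.card_bot] at h4
    have := hle q hq
    rcases (pow_eq_one_iff.1 h4.symm) with h5 | h5
    · exact hq.ne_one h5
    · omega
  obtain ⟨z', -, hz1, hzc⟩ := CfsgLib.InvChar.exists_mem_center_of_normal Q.isPGroup'
    (⊤ : Subgroup (Q : Subgroup G)) (fun h => hQne (by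
      rw [← Subgroup.card_eq_one] at h ⊢
      rwa [Subgroup.card_top] at h))
  set z : G := (z' : G) with hzdef
  have hz : z ≠ 1 := fun h => hz1 (Subtype.ext h)
  obtain ⟨i, hi⟩ : ∃ i, orderOf z = q ^ i := by
    obtain ⟨i, hi⟩ := IsPGroup.iff_orderOf.1 Q.isPGroup' z'
    exact ⟨i, by rw [hzdef, Subgroup.orderOf_coe, hi]⟩
  have hzA : Full A n (cs z) := by
    refine (h1 z hz).resolve_right fun hB => ?_
    have h4 := hB q hqA hq
    have hQle : (Q : Subgroup G) ≤ Subgroup.centralizer ({z} : Set G) := fun u hu =>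
      mem_cent.2 (congrArg Subtype.val (Subgroup.mem_center_iff.1 hzc ⟨u, hu⟩))
    have h5 : (cs z).factorization q ≤ ((Q : Subgroup G).index).factorization q :=
      factorization_le_of_dvd Subgroup.index_ne_zero_of_finite (Subgroup.index_dvd_of_le hQle) q
    rw [Nat.factorization_eq_zero_of_not_dvd Q.not_dvd_index] at h5
    omega
  -- a Sylow `p`-subgroup of its centraliser is not one of `G`
  let C := Subgroup.centralizer ({z} : Set G)
  have hCcard : (Nat.card C).factorization p + n.factorization p = (Nat.card G).factorization p := by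
    rw [← hzA p hpA hp, ← Finsupp.add_apply, ← Nat.factorization_mul Nat.card_pos.ne' Subgroup.index_ne_zero_of_finite,
      Subgroup.card_mul_index]
  let U' : Sylow p C := Classical.arbitrary _
  obtain ⟨U, hU⟩ : ∃ U, U = (U' : Subgroup C).map C.subtype := ⟨_, rfl⟩
  have hUp : IsPGroup p U := hU ▸ U'.isPGroup'.map _
  have hUcard : Nat.card U = p ^ (Nat.card C).factorization p := by
    rw [hU, Subgroup.card_map_of_injective C.subtype_injective]
    exact U'.card_eq_multiplicity
  obtain ⟨P, hUP⟩ := hUp.exists_le_sylow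
  have hUlt : U.subgroupOf (P : Subgroup G) < ⊤ := by
    rw [lt_top_iff_ne_top, Ne, Subgroup.subgroupOf_eq_top]
    intro h
    have h4 := Subgroup.card_dvd_of_le h
    rw [P.card_eq_multiplicity, hUcard, Nat.pow_dvd_pow_iff_le_right hp.one_lt] at h4
    have := hp.factorization_pos_of_dvd hn hpn
    omega
  haveI : Group.IsNilpotent (P : Subgroup G) := P.isPGroup'.isNilpotent
  have hnorm := Group.normalizerCondition_of_isNilpotent (U.subgroupOf (P : Subgroup G)) hUlt
  set N := Subgroup.normalizer ((U.subgroupOf (P : Subgroup G)) : Set (P : Subgroup G))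
  set V := (U.subgroupOf (P : Subgroup G)).subgroupOf N
  haveI : V.Normal := Subgroup.normal_in_normalizer
  have hVne : V ≠ ⊥ := by
    intro h
    rw [Subgroup.subgroupOf_eq_bot, disjoint_iff, inf_eq_left.2 hnorm.le] at h
    rw [Subgroup.subgroupOf_eq_bot, disjoint_iff, inf_eq_left.2 hUP] at h
    rw [h, Subgroup.card_bot] at hUcard
    rcases (pow_eq_one_iff.1 hUcard.symm) with h5 | h5
    · exact hp.ne_one h5
    · omega
  obtain ⟨u', hu', hu1, huc⟩ :=
    CfsgLib.InvChar.exists_mem_center_of_normal (P.isPGroup'.to_subgroup N) V hVne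
  set u : G := ((u' : (P : Subgroup G)) : G) with hudef
  have hu : u ≠ 1 := fun h => hu1 (Subtype.ext (Subtype.ext h))
  have huU : u ∈ U := hu'
  have huz : Commute u z := by
    rw [hU] at huU
    obtain ⟨w, -, hw⟩ := huU
    rw [← hw]
    exact mem_cent.1 w.2
  have hNC : N.map (P : Subgroup G).subtype ≤ Subgroup.centralizer ({u} : Set G) := by
    rintro _ ⟨w, hw, rfl⟩
    exact mem_cent.2 (congrArg (fun t : N => ((t : (P : Subgroup G)) : G)) (Subgroup.mem_center_iff.1 huc ⟨w, hw⟩))
  have hcop : (orderOf z).Coprime (orderOf u) := by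
    obtain ⟨j, hj⟩ := IsPGroup.iff_orderOf.1 P.isPGroup' (u' : (P : Subgroup G))
    rw [hi, hudef, Subgroup.orderOf_coe, hj]
    exact ((Nat.coprime_primes hq hp).2 fun e => hqA (e ▸ hpA)).pow _ _
  obtain ⟨k, hk⟩ := exists_pow_eq_self_of_coprime hcop
  have hpow : ((u * z) ^ orderOf z) ^ k = u := by rw [huz.mul_pow, pow_orderOf_eq_one, mul_one, hk]
  have hleu : Subgroup.centralizer ({u * z} : Set G) ≤ Subgroup.centralizer ({u} : Set G) := fun c hc => by
    rw [← hpow]
    exact mem_cent.2 ((Commute.pow_right (mem_cent.1 hc) _).pow_right k).eq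
  have hlez : Subgroup.centralizer ({u * z} : Set G) ≤ Subgroup.centralizer ({z} : Set G) := fun c hc => by
    have h4 : Commute c (u * z) := mem_cent.1 hc
    have h5 : Commute c u := mem_cent.1 (hleu hc)
    have h6 := h5.inv_right.mul_right h4
    rw [inv_mul_cancel_left] at h6
    exact mem_cent.2 h6.eq
  have hdvdn : ∀ x : G, ∀ r : ℕ, (cs x).factorization r ≤ n.factorization r := fun x r =>
    factorization_le_of_dvd hn (hd x) r
  have huz1 : Full A n (cs (u * z)) := fun r hr hr' => le_antisymm (hdvdn _ r) (by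
    rw [← hzA r hr hr']
    exact factorization_le_of_dvd Subgroup.index_ne_zero_of_finite (Subgroup.index_dvd_of_le hlez) r)
  have huA : Full A n (cs u) := by
    refine (h1 u hu).resolve_right fun hB => h2 (u * z) ⟨huz1, fun r hr hr' => le_antisymm (hdvdn _ r) ?_⟩
    rw [← hB r hr hr']
    exact factorization_le_of_dvd Subgroup.index_ne_zero_of_finite (Subgroup.index_dvd_of_le hleu) r
  have hCu : (Nat.card (Subgroup.centralizer ({u} : Set G))).factorization p + n.factorization p =
      (Nat.card G).factorization p := by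
    rw [← huA p hpA hp, ← Finsupp.add_apply, ← Nat.factorization_mul Nat.card_pos.ne' Subgroup.index_ne_zero_of_finite,
      Subgroup.card_mul_index]
  have hNcard : Nat.card U < Nat.card (N.map (P : Subgroup G).subtype) := by
    rw [Subgroup.card_map_of_injective (P : Subgroup G).subtype_injective,
      ← Nat.card_congr (Subgroup.subgroupOfEquivOfLe hUP).toEquiv]
    exact lt_of_le_of_ne (Subgroup.card_le_of_le hnorm.le) fun e => hnorm.ne (Subgroup.eq_of_le_of_card_ge hnorm.le e.ge)
  obtain ⟨b, hb⟩ := IsPGroup.iff_card.1 ((P.isPGroup'.to_subgroup N).map (P : Subgroup G).subtype)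
  rw [hb, hUcard, Nat.pow_lt_pow_iff_right hp.one_lt] at hNcard
  have h4 := Subgroup.card_dvd_of_le hNC
  rw [hb, hp.pow_dvd_iff_le_factorization Nat.card_pos.ne'] at h4
  omega

/-- Let G and M be finite groups with trivial centres and the same set of conjugacy class sizes, and suppose the prime graph of M is disconnected: the prime divisors of #M split into two non-empty parts such that M has no element of order pq with p in one part and q in the other. Then #G = #M. -/
theorem result {G M : Type*}
    [Group G] [Finite G] [Group M] [Finite M] (hZG : Subgroup.center G = ⊥) (hZM : Subgroup.center M = ⊥)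
    (h : Set.range (fun g : G => (Subgroup.centralizer ({g} : Set G)).index) = Set.range (fun g : M => (Subgroup.centralizer ({g} : Set M)).index))
    (hdisc : ∃ A : Set ℕ, (∃ a ∈ A, a.Prime ∧ a ∣ Nat.card M) ∧ (∃ b ∉ A, b.Prime ∧ b ∣ Nat.card M) ∧
      ∀ a ∈ A, ∀ b ∉ A, a.Prime → b.Prime → a ∣ Nat.card M → b ∣ Nat.card M → ¬ ∃ x : M, orderOf x = a * b) :
    Nat.card G = Nat.card M := by
  obtain ⟨A, ⟨a, haA, ha, haM⟩, ⟨b, hbA, hb, hbM⟩, hdisc⟩ := hdisc
  have hn : Nat.card M ≠ 0 := Nat.card_pos.ne'
  have hGM : ∀ x : G, ∃ y : M, cs y = cs x := fun x => by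
    have : cs x ∈ Set.range (fun g : M => cs g) := h ▸ ⟨x, rfl⟩
    exact this
  have hMG : ∀ y : M, ∃ x : G, cs x = cs y := fun y => by
    have : cs y ∈ Set.range (fun g : G => cs g) := h.symm ▸ ⟨y, rfl⟩
    exact this
  -- in `M` a centraliser is an `A`-group or prime to `A`
  have hside : ∀ y : M, y ≠ 1 →
      (∀ r ∈ A, r.Prime → ¬ r ∣ Nat.card (Subgroup.centralizer ({y} : Set M))) ∨
      (∀ r ∉ A, r.Prime → ¬ r ∣ Nat.card (Subgroup.centralizer ({y} : Set M))) := by
    intro y hy
    obtain ⟨r, hr, hrd⟩ := Nat.exists_prime_and_dvd (mt orderOf_eq_one_iff.1 hy)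
    have mk : ∀ s : ℕ, s.Prime → s ∣ Nat.card (Subgroup.centralizer ({y} : Set M)) → s ≠ r →
        ∃ x : M, orderOf x = r * s := by
      intro s hs hsd hne
      haveI := Fact.mk hs
      obtain ⟨w, hw⟩ := exists_prime_orderOf_dvd_card' s hsd
      have hyr : orderOf (y ^ (orderOf y / r)) = r := orderOf_pow_orderOf_div (orderOf_pos y).ne' hrd
      have hc : Commute (y ^ (orderOf y / r)) (w : M) := Commute.pow_left (mem_cent.1 w.2).symm _
      refine ⟨y ^ (orderOf y / r) * w, ?_⟩
      rw [hc.orderOf_mul_eq_mul_orderOf_of_coprime (by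
          rw [hyr, Subgroup.orderOf_coe, hw]; exact (Nat.coprime_primes hr hs).2 hne.symm),
        hyr, Subgroup.orderOf_coe, hw]
    have hrM : r ∣ Nat.card M := hrd.trans (orderOf_dvd_natCard y)
    by_cases hrA : r ∈ A
    · refine Or.inr fun s hsA hs hsd => ?_
      exact hdisc r hrA s hsA hr hs hrM (hsd.trans (Subgroup.card_subgroup_dvd_card _))
        (mk s hs hsd fun e => hsA (e ▸ hrA))
    · refine Or.inl fun s hsA hs hsd => ?_
      obtain ⟨x, hx⟩ := mk s hs hsd fun e => hrA (e ▸ hsA)
      exact hdisc s hsA r hrA hs hr (hsd.trans (Subgroup.card_subgroup_dvd_card _)) hrM ⟨x, hx.trans (mul_comm _ _)⟩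
  have hfull : ∀ (y : M) (r : ℕ), ¬ r ∣ Nat.card (Subgroup.centralizer ({y} : Set M)) →
      (cs y).factorization r = (Nat.card M).factorization r := fun y r hr => by
    rw [← Subgroup.card_mul_index (Subgroup.centralizer ({y} : Set M)),
      Nat.factorization_mul Nat.card_pos.ne' Subgroup.index_ne_zero_of_finite, Finsupp.add_apply,
      Nat.factorization_eq_zero_of_not_dvd hr, zero_add]
  have hd : ∀ x : G, cs x ∣ Nat.card M := fun x => by
    obtain ⟨y, hy⟩ := hGM x
    rw [← hy]
    exact Subgroup.index_dvd_card _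
  have h1 : ∀ x : G, x ≠ 1 → Full A (Nat.card M) (cs x) ∨ Full Aᶜ (Nat.card M) (cs x) := by
    intro x hx
    obtain ⟨y, hy⟩ := hGM x
    have hy1 : y ≠ 1 := fun e => hx (by
      rw [← Subgroup.mem_bot (G := G), ← hZG, ← cs_eq_one_iff, ← hy, cs_eq_one_iff, e]
      exact one_mem _)
    rcases hside y hy1 with hs | hs
    · exact Or.inl fun r hr hr' => hy ▸ hfull y r (hs r hr hr')
    · exact Or.inr fun r hr hr' => hy ▸ hfull y r (hs r hr hr')
  have h2 : ∀ x : G, ¬ (Full A (Nat.card M) (cs x) ∧ Full Aᶜ (Nat.card M) (cs x)) := by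
    rintro x ⟨hA, hB⟩
    obtain ⟨y, hy⟩ := hGM x
    rw [← hy] at hA hB
    have he : cs y = Nat.card M := Nat.eq_of_factorization_eq Subgroup.index_ne_zero_of_finite hn fun r => by
      by_cases hr : r.Prime
      · by_cases hrA : r ∈ A
        · exact hA r hrA hr
        · exact hB r hrA hr
      · rw [Nat.factorization_eq_zero_of_not_prime _ hr, Nat.factorization_eq_zero_of_not_prime _ hr]
    have h0 := Subgroup.card_mul_index (Subgroup.centralizer ({y} : Set M))
    rw [show (Subgroup.centralizer ({y} : Set M)).index = cs y from rfl, he, Nat.mul_eq_right hn,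
      Subgroup.card_eq_one] at h0
    have hy1 : y = 1 := by
      rw [← Subgroup.mem_bot (G := M), ← h0]
      exact mem_cent.2 rfl
    rw [hy1] at h0
    have : (⊤ : Subgroup M) = ⊥ := by
      rw [← h0, eq_comm, Subgroup.centralizer_eq_top_iff_subset, Set.singleton_subset_iff]
      exact one_mem _
    have h7 : Nat.card M = 1 := by rw [← Subgroup.card_top, this, Subgroup.card_bot]
    exact ha.ne_one (Nat.dvd_one.1 (h7 ▸ haM))
  have h3 : ∀ p : ℕ, p.Prime → ∃ x : G, (cs x).factorization p = (Nat.card M).factorization p := by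
    intro p hp
    have key : ∀ y : M, ¬ p ∣ Nat.card (Subgroup.centralizer ({y} : Set M)) →
        ∃ x : G, (cs x).factorization p = (Nat.card M).factorization p := fun y hy => by
      obtain ⟨x, hx⟩ := hMG y
      exact ⟨x, by rw [hx, hfull y p hy]⟩
    by_cases hpM : p ∣ Nat.card M
    · haveI := Fact.mk ha
      haveI := Fact.mk hb
      by_cases hpA : p ∈ A
      · obtain ⟨y, hy⟩ := exists_prime_orderOf_dvd_card' b hbM
        have hy1 : y ≠ 1 := fun e => hb.ne_one (by rw [← hy, e, orderOf_one])
        rcases hside y hy1 with hs | hs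
        · exact key y (hs p hpA hp)
        · exact absurd (hy ▸ Subgroup.orderOf_dvd_natCard _ (mem_cent.2 (rfl : y * y = y * y))) (hs b hbA hb)
      · obtain ⟨y, hy⟩ := exists_prime_orderOf_dvd_card' a haM
        have hy1 : y ≠ 1 := fun e => ha.ne_one (by rw [← hy, e, orderOf_one])
        rcases hside y hy1 with hs | hs
        · exact absurd (hy ▸ Subgroup.orderOf_dvd_natCard _ (mem_cent.2 (rfl : y * y = y * y))) (hs a haA ha)
        · exact key y (hs p hpA hp)
    · exact key 1 fun e => hpM (e.trans (Subgroup.card_subgroup_dvd_card _))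
  refine Nat.eq_of_factorization_eq Nat.card_pos.ne' hn fun p => ?_
  by_cases hp : p.Prime
  swap
  · rw [Nat.factorization_eq_zero_of_not_prime _ hp, Nat.factorization_eq_zero_of_not_prime _ hp]
  by_cases hpM : p ∣ Nat.card M
  · by_cases hpA : p ∈ A
    · exact factorization_eq_aux hZG hn A hd h1 h2 h3 hb hbA hbM hp hpA hpM
    · exact factorization_eq_aux hZG hn Aᶜ hd (fun x hx => by rw [compl_compl]; exact (h1 x hx).symm)
        (fun x hx => h2 x ⟨by simpa using hx.2, hx.1⟩) h3 ha (fun e => e haA) haM hp hpA hpM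
  · rw [Nat.factorization_eq_zero_of_not_dvd hpM, Nat.factorization_eq_zero_of_not_dvd]
    intro hpG
    haveI := Fact.mk hp
    let P : Sylow p G := Classical.arbitrary _
    have htop : Subgroup.centralizer ((P : Subgroup G) : Set G) = ⊤ := by
      refine CfsgLib.StructB.eq_top_of_conj_cover _ fun g => ?_
      have hnd : ¬ p ∣ cs g := fun e => hpM (e.trans (hd g))
      let S : Sylow p (Subgroup.centralizer ({g} : Set G)) := Classical.arbitrary _
      obtain ⟨R, hR⟩ := (S.isPGroup'.map (Subgroup.centralizer ({g} : Set G)).subtype).exists_le_sylow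
      have hRle : (R : Subgroup G) ≤ Subgroup.centralizer ({g} : Set G) := by
        refine le_trans ?_ (Subgroup.map_subtype_le (S : Subgroup (Subgroup.centralizer ({g} : Set G))))
        refine (Subgroup.eq_of_le_of_card_ge hR (le_of_eq ?_)).ge
        rw [Subgroup.card_map_of_injective (Subgroup.subtype_injective _), R.card_eq_multiplicity, S.card_eq_multiplicity,
          ← Subgroup.card_mul_index (Subgroup.centralizer ({g} : Set G)),
          Nat.factorization_mul Nat.card_pos.ne' Subgroup.index_ne_zero_of_finite, Finsupp.add_apply,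
          Nat.factorization_eq_zero_of_not_dvd hnd, add_zero]
      obtain ⟨c, hc⟩ := MulAction.exists_smul_eq G R P
      refine ⟨c, Subgroup.mem_centralizer_iff.2 fun u hu => ?_⟩
      rw [← hc, SetLike.mem_coe, Sylow.coe_subgroup_smul, Subgroup.mem_pointwise_smul_iff_inv_smul_mem] at hu
      have h4 := mem_cent.1 (hRle hu)
      simp only [← map_inv, MulAut.smul_def, MulAut.conj_apply, inv_inv] at h4
      calc u * (c * g * c⁻¹) = c * (c⁻¹ * u * c * g) * c⁻¹ := by group
        _ = c * (g * (c⁻¹ * u * c)) * c⁻¹ := by rw [h4]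
        _ = c * g * c⁻¹ * u := by group
    rw [Subgroup.centralizer_eq_top_iff_subset] at htop
    have h5 : (P : Subgroup G) = ⊥ := le_bot_iff.1 (hZG ▸ htop)
    exact P.ne_bot_of_dvd_card hpG h5

end Cfsg.Agent.S4184
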