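import Cfsg.Statements.S4186
import Mathlib
-- import your own Cfsg.Agent.* helpers here

set_option autoImplicit false
open Cfsg

namespace Cfsg.Agent.S4186

/-- Let T and X be subgroups of a group with T a finite 2-group normalizing X but not centralizing it. Then some element of T inverts some non-identity element of X under conjugation. -/
theorem result {G : Type*} [Group G] (T X : Subgroup G) [Finite ↥T] (hT : IsPGroup 2 ↥T) (hTN : T ≤ Subgroup.normalizer (X : Set G)) (hTC : ¬ T ≤ Subgroup.centralizer (X : Set G)) : ∃ t ∈ T, ∃ x ∈ X, x ≠ 1 ∧ t * x * t⁻¹ = x⁻¹ := by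
  classical
  obtain ⟨t0, ht0, ht0C⟩ := SetLike.not_le_iff_exists.1 hTC
  obtain ⟨k, hk⟩ := hT ⟨t0, ht0⟩
  have hk' : t0 ^ 2 ^ k = 1 := congrArg Subtype.val hk
  have hex : ∃ j, t0 ^ 2 ^ j ∈ Subgroup.centralizer (X : Set G) := ⟨k, by rw [hk']; exact one_mem _⟩
  have hj : Nat.find hex ≠ 0 := fun e => ht0C (by simpa [e] using Nat.find_spec hex)
  obtain ⟨j, hjeq⟩ := Nat.exists_eq_succ_of_ne_zero hj
  set t := t0 ^ 2 ^ j with ht
  have htC : t ∉ Subgroup.centralizer (X : Set G) := Nat.find_min hex (by omega)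
  have ht2 : t * t ∈ Subgroup.centralizer (X : Set G) := by
    have h1 := Nat.find_spec hex
    rw [hjeq, pow_succ, pow_mul, pow_two] at h1
    exact h1
  have htT : t ∈ T := pow_mem ht0 _
  rw [Subgroup.mem_centralizer_iff] at htC
  push Not at htC
  obtain ⟨x0, hx0, hne⟩ := htC
  have hconj : ∀ x ∈ X, t * x * t⁻¹ ∈ X := fun x hx => (Subgroup.mem_normalizer_iff.1 (hTN htT) x).1 hx
  have hinv : t * (t * x0⁻¹ * t⁻¹) * t⁻¹ = x0⁻¹ := by
    rw [show t * (t * x0⁻¹ * t⁻¹) * t⁻¹ = t * t * x0⁻¹ * (t * t)⁻¹ by group,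
      ← Subgroup.mem_centralizer_iff.1 ht2 _ (inv_mem hx0), mul_inv_cancel_right]
  refine ⟨t, htT, x0 * (t * x0⁻¹ * t⁻¹), mul_mem hx0 (hconj _ (inv_mem hx0)), fun h1 => hne ?_, ?_⟩
  · rw [show x0 * (t * x0⁻¹ * t⁻¹) = x0 * (t * x0 * t⁻¹)⁻¹ by group, mul_inv_eq_one] at h1
    calc x0 * t = t * x0 * t⁻¹ * t := by rw [← h1]
      _ = t * x0 := by group
  · rw [show t * (x0 * (t * x0⁻¹ * t⁻¹)) * t⁻¹ = (t * x0 * t⁻¹) * (t * (t * x0⁻¹ * t⁻¹) * t⁻¹) by group, hinv]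
    group

end Cfsg.Agent.S4186
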