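import Cfsg.Statements.S4187
import Cfsg.Agent.Lib.S4187.Main
import Mathlib.GroupTheory.Index
import Mathlib.GroupTheory.GroupAction.Quotient

set_option autoImplicit false
open Cfsg

namespace Cfsg.Agent.S4187

open CfsgLib.S4187

section

variable {G : Type*} [Group G] [Finite G]

/-- the class size of a real element of order greater than two is even -/
theorem two_dvd_classSize {d : G} (hr : IsConj d d⁻¹) (hd : d * d ≠ 1) :
    2 ∣ (Subgroup.centralizer ({d} : Set G)).index := by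
  classical
  obtain ⟨n, hn⟩ := isConj_iff.mp hr
  set C := Subgroup.centralizer ({d} : Set G) with hC
  have hmem : ∀ a : G, a ∈ C ↔ a * d = d * a := fun a => Subgroup.mem_centralizer_singleton_iff
  have hnC : ∀ a ∈ C, n⁻¹ * a * n ∈ C := fun a ha => by
    rw [hmem] at ha ⊢
    have h1 : n * d = d⁻¹ * n := by rw [← hn]; group
    have h2 : a * d⁻¹ = d⁻¹ * a := ((show Commute a d from ha).inv_right).eq
    calc n⁻¹ * a * n * d = n⁻¹ * (a * d⁻¹) * n := by rw [mul_assoc (n⁻¹ * a), h1]; group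
      _ = n⁻¹ * d⁻¹ * n * (n⁻¹ * a * n) := by rw [h2]; group
      _ = d * (n⁻¹ * a * n) := by rw [show n⁻¹ * d⁻¹ * n = d by rw [← hn]; group]
  let s : G ⧸ C → G ⧸ C := Quotient.map' (fun a => a * n) fun a b hab => by
    rw [QuotientGroup.leftRel_apply] at hab ⊢
    have := hnC _ hab
    simpa [mul_assoc] using this
  have hn2 : n * n ∈ C := by
    rw [hmem, ← mul_inv_eq_iff_eq_mul]
    calc n * n * d * (n * n)⁻¹ = n * (n * d * n⁻¹) * n⁻¹ := by group
      _ = d := by rw [hn, show n * d⁻¹ * n⁻¹ = (n * d * n⁻¹)⁻¹ by group, hn, inv_inv]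
  have hs2 : Function.Involutive s := by
    intro q
    induction q using QuotientGroup.induction_on with
    | H a =>
      refine (QuotientGroup.eq.mpr ?_)
      simpa [mul_assoc] using inv_mem hn2
  let σ : Equiv.Perm (G ⧸ C) := hs2.toPerm s
  by_contra hodd
  have : Fintype (G ⧸ C) := Fintype.ofFinite _
  rw [Subgroup.index_eq_card, Nat.card_eq_fintype_card] at hodd
  have hσ : σ ^ 2 ^ 1 = 1 := Equiv.ext fun q => by
    rw [pow_one, sq]; exact hs2 q
  obtain ⟨q, hq⟩ := Equiv.Perm.exists_fixed_point_of_prime hodd hσ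
  induction q using QuotientGroup.induction_on with
  | H a =>
    have h1 : (a * n)⁻¹ * a ∈ C := QuotientGroup.eq.mp hq
    have h2 : n ∈ C := by simpa [mul_assoc] using inv_mem h1
    rw [hmem, ← mul_inv_eq_iff_eq_mul, hn] at h2
    exact hd (by conv_lhs => arg 1; rw [← h2]
                 exact inv_mul_cancel d)

/-- coprime indices: one subgroup is transitive on the cosets of the other -/
theorem exists_mem_smul_eq {A B : Subgroup G} (h : Nat.Coprime A.index B.index) (v w : G ⧸ B) :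
    ∃ c ∈ A, c • v = w := by
  have key : ∀ u : G ⧸ B, ∃ c ∈ A, c • ((1 : G) : G ⧸ B) = u := by
    have h1 : (A ⊓ B).index = A.index * B.index :=
      le_antisymm (Subgroup.index_inf_le ..) (Nat.le_of_dvd (Nat.pos_of_ne_zero Subgroup.index_ne_zero_of_finite)
        (h.mul_dvd_of_dvd_of_dvd (Subgroup.index_dvd_of_le inf_le_left) (Subgroup.index_dvd_of_le inf_le_right)))
    have h2 : B.relIndex A = B.index := by
      have := Subgroup.relIndex_mul_index (inf_le_left : A ⊓ B ≤ A)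
      rw [h1, Subgroup.inf_relIndex_left, mul_comm] at this
      exact Nat.eq_of_mul_eq_mul_left (Nat.pos_of_ne_zero Subgroup.index_ne_zero_of_finite) this
    have h3 : MulAction.stabilizer A ((1 : G) : G ⧸ B) = B.subgroupOf A := by
      ext a
      rw [MulAction.mem_stabilizer_iff, Subgroup.mem_subgroupOf]
      show (((a : G) * 1 : G) : G ⧸ B) = ((1 : G) : G ⧸ B) ↔ (a : G) ∈ B
      rw [QuotientGroup.eq]
      simp
    have h4 : (MulAction.orbit A ((1 : G) : G ⧸ B)).ncard = (Set.univ : Set (G ⧸ B)).ncard := by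
      rw [← MulAction.index_stabilizer, h3, Set.ncard_univ, ← Subgroup.index_eq_card]
      exact h2
    intro u
    have h5 := Set.eq_of_subset_of_ncard_le (Set.subset_univ _) h4.ge
    obtain ⟨c, hc⟩ := (h5 ▸ Set.mem_univ u : u ∈ MulAction.orbit A ((1 : G) : G ⧸ B))
    exact ⟨c, c.2, hc⟩
  obtain ⟨a, ha, rfl⟩ := key v
  obtain ⟨b, hb, rfl⟩ := key w
  exact ⟨b * a⁻¹, mul_mem hb (inv_mem ha), by rw [mul_smul, inv_smul_smul]⟩

theorem solvable_aux (π₁ π₂ : Set ℕ) (h₂ : π₂.Nonempty) (h2 : 2 ∈ π₁)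
    (hcover : ∀ q : ℕ, q.Prime → (∃ n ∈ {n : ℕ | ∃ x : G, IsConj x x⁻¹ ∧ (Subgroup.centralizer ({x} : Set G)).index = n}, q ∣ n) → q ∈ π₁ ∨ q ∈ π₂)
    (hsub : ∀ q ∈ π₂, q.Prime ∧ ∃ n ∈ {n : ℕ | ∃ x : G, IsConj x x⁻¹ ∧ (Subgroup.centralizer ({x} : Set G)).index = n}, q ∣ n)
    (hnoedge : ∀ a ∈ π₁, ∀ b ∈ π₂, ∀ n ∈ {n : ℕ | ∃ x : G, IsConj x x⁻¹ ∧ (Subgroup.centralizer ({x} : Set G)).index = n}, ¬ (a ∣ n ∧ b ∣ n)) :
    Group.IsSolvable G := by
  obtain ⟨q, hq⟩ := h₂
  obtain ⟨hqp, n, hnS, hqn⟩ := hsub q hq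
  obtain ⟨x, hx, hxn⟩ := id hnS
  have hxx : x * x = 1 := by
    by_contra h
    exact hnoedge 2 h2 q hq n hnS ⟨hxn ▸ two_dvd_classSize hx h, hqn⟩
  set B := Subgroup.centralizer ({x} : Set G) with hB
  have hcop : ∀ d : G, RealP d → Nat.Coprime (Subgroup.centralizer ({d} : Set G)).index B.index := by
    intro d hd
    refine Nat.coprime_of_dvd fun r hr hrd hrn => ?_
    rw [hxn] at hrn
    rcases hcover r hr ⟨n, hnS, hrn⟩ with hr1 | hr2
    · exact hnoedge r hr1 q hq n hnS ⟨hrn, hqn⟩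
    · exact hnoedge 2 h2 r hr2 _ ⟨d, hd.2.2, rfl⟩ ⟨two_dvd_classSize hd.2.2 hd.sq_ne_one, hrd⟩
  have noFixBase : ∀ d : G, RealP d → Commute d x → False := by
    intro d hd hdx
    obtain ⟨g, hg⟩ := isConj_iff.mp hd.2.2
    obtain ⟨c, hc, hcv⟩ := exists_mem_smul_eq (hcop d hd) ((1 : G) : G ⧸ B) ((g : G) : G ⧸ B)
    change ((c * 1 : G) : G ⧸ B) = (g : G ⧸ B) at hcv
    rw [mul_one, QuotientGroup.eq] at hcv
    set e := c⁻¹ * g with he
    rw [Subgroup.mem_centralizer_singleton_iff] at hcv hc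
    have hed : e * d * e⁻¹ = d⁻¹ := by
      rw [he, show c⁻¹ * g * d * (c⁻¹ * g)⁻¹ = c⁻¹ * (g * d * g⁻¹) * c by group, hg]
      rw [mul_assoc, ← ((show Commute c d from hc).inv_right).eq, inv_mul_cancel_left]
    have hxi : x⁻¹ = x := inv_eq_of_mul_eq_one_left hxx
    have hy : IsConj (d * x) (d * x)⁻¹ := isConj_iff.mpr ⟨e, by
      rw [show e * (d * x) * e⁻¹ = (e * d * e⁻¹) * (e * x * e⁻¹) by group, hed, hcv,
        mul_inv_cancel_right, hdx.eq, mul_inv_rev, hxi]⟩
    obtain ⟨j, hj⟩ := hd.odd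
    have hdy : (d * x) ^ (orderOf d + 1) = d := by
      rw [hdx.mul_pow, show orderOf d + 1 = 2 * (j + 1) by omega, pow_mul x, sq x, hxx, one_pow,
        mul_one, show 2 * (j + 1) = orderOf d + 1 by omega, pow_succ, pow_orderOf_eq_one, one_mul]
    have hle : Subgroup.centralizer ({d * x} : Set G) ≤
        Subgroup.centralizer ({d} : Set G) ⊓ B := by
      intro a ha
      rw [Subgroup.mem_centralizer_singleton_iff] at ha
      have h1 : Commute a d := hdy ▸ (show Commute a (d * x) from ha).pow_right _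
      refine ⟨Subgroup.mem_centralizer_singleton_iff.mpr h1.eq, Subgroup.mem_centralizer_singleton_iff.mpr ?_⟩
      have h2 := h1.inv_right.mul_right (show Commute a (d * x) from ha)
      rwa [inv_mul_cancel_left] at h2
    have hd1 : Subgroup.index (Subgroup.centralizer ({d} : Set G)) ∣ _ :=
      Subgroup.index_dvd_of_le (hle.trans inf_le_left)
    have hd2 : B.index ∣ _ := Subgroup.index_dvd_of_le (hle.trans inf_le_right)
    exact hnoedge 2 h2 q hq _ ⟨d * x, hy, rfl⟩
      ⟨(two_dvd_classSize hd.2.2 hd.sq_ne_one).trans hd1, (hxn ▸ hqn).trans hd2⟩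
  refine CfsgLib.S4187.Setup.solvable (O := G ⧸ B) ⟨?_, fun v w => MulAction.exists_smul_eq G v w, ?_, ?_⟩
  · rw [← Subgroup.index_eq_card, hxn, ← Nat.not_even_iff_odd, even_iff_two_dvd]
    exact fun h => hnoedge 2 h2 q hq n hnS ⟨h, hqn⟩
  · intro z v hz
    induction v using QuotientGroup.induction_on with
    | H a =>
      intro hv
      change ((z * a : G) : G ⧸ B) = (a : G ⧸ B) at hv
      rw [QuotientGroup.eq] at hv
      have h1 : a⁻¹ * z * a ∈ B := by simpa [mul_assoc] using inv_mem hv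
      rw [Subgroup.mem_centralizer_singleton_iff] at h1
      refine noFixBase (a⁻¹ * z * a) ?_ h1
      have := hz.conj a⁻¹
      rwa [inv_inv] at this
  · intro z hz v w
    obtain ⟨c, hc, hcv⟩ := exists_mem_smul_eq (hcop z hz) v w
    exact ⟨c, Subgroup.mem_centralizer_singleton_iff.mp hc, hcv⟩

end

/-- Let G be a finite group. Call an element real when it is conjugate to its inverse, and consider the graph whose vertices are the primes dividing the size of some conjugacy class of real elements, two distinct primes being adjacent when their product divides such a class size. If this graph is disconnected — its vertex set splits into two non-empty parts such that no real class size is divisible by a prime from each part — then G is solvable. -/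
theorem result {G : Type*} [Group G] [Finite G] (π₁ π₂ : Set ℕ) (h₁ : π₁.Nonempty) (h₂ : π₂.Nonempty) (hcover : ∀ q : ℕ, q.Prime → (∃ n ∈ {n : ℕ | ∃ x : G, IsConj x x⁻¹ ∧ (Subgroup.centralizer ({x} : Set G)).index = n}, q ∣ n) → q ∈ π₁ ∨ q ∈ π₂) (hsub : ∀ q ∈ π₁ ∪ π₂, q.Prime ∧ ∃ n ∈ {n : ℕ | ∃ x : G, IsConj x x⁻¹ ∧ (Subgroup.centralizer ({x} : Set G)).index = n}, q ∣ n) (hdisj : Disjoint π₁ π₂) (hnoedge : ∀ a ∈ π₁, ∀ b ∈ π₂, ∀ n ∈ {n : ℕ | ∃ x : G, IsConj x x⁻¹ ∧ (Subgroup.centralizer ({x} : Set G)).index = n}, ¬ (a ∣ n ∧ b ∣ n)) : Group.IsSolvable G := by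
  by_cases hno : ∀ d : G, ¬ RealP d
  · exact solvable_of_noReal hno
  push Not at hno
  obtain ⟨d, hd⟩ := hno
  rcases hcover 2 Nat.prime_two ⟨_, ⟨d, hd.2.2, rfl⟩, two_dvd_classSize hd.2.2 hd.sq_ne_one⟩ with h | h
  · exact solvable_aux π₁ π₂ h₂ h hcover (fun r hr => hsub r (Or.inr hr)) hnoedge
  · exact solvable_aux π₂ π₁ h₁ h (fun r hr hn => (hcover r hr hn).symm)
      (fun r hr => hsub r (Or.inl hr)) (fun a ha b hb n hn hab => hnoedge b hb a ha n hn ⟨hab.2, hab.1⟩)

end Cfsg.Agent.S4187
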