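import Cfsg.Statements.S4188
import Cfsg.Agent.Lib.StructB.TwoLinear

set_option autoImplicit false
open Cfsg

namespace Cfsg.Agent.S4188

/-- Let G be a finite group that is the semidirect product of a normal abelian subgroup N of odd order by a 2-subgroup P, and suppose N is the unique minimal normal subgroup of G. Then the index of the Frattini subgroup of P in P is at most #N − 1. -/
theorem result {G : Type*} [Group G] [Finite G] (N P : Subgroup G) (hN : N.Normal) (hNab : IsMulCommutative ↥N) (hNodd : Odd (Nat.card ↥N)) (hP : IsPGroup 2 ↥P) (hdisj : N ⊓ P = ⊥) (hprod : N ⊔ P = ⊤) (hmin : N ≠ ⊥ ∧ ∀ M : Subgroup G, M.Normal → M ≠ ⊥ → N ≤ M) : (frattini ↥P).index ≤ Nat.card ↥N - 1 := by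
  haveI := hN
  haveI : Fact (Nat.Prime 2) := ⟨Nat.prime_two⟩
  letI : CommGroup N := { (inferInstance : Group N) with mul_comm := fun a b => mul_comm' a b }
  let φ : P →* MulAut N := (MulAut.conjNormal (H := N)).comp P.subtype
  have hφ : Function.Injective φ := by
    rw [← MonoidHom.ker_eq_bot_iff]
    by_contra hne
    let K := φ.ker.map P.subtype
    have hKN : ∀ k ∈ K, ∀ n ∈ N, k * n = n * k := by
      rintro _ ⟨k, hk, rfl⟩ n hn
      have h1 : (φ k ⟨n, hn⟩ : G) = n := by rw [MonoidHom.mem_ker.mp hk]; rfl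
      change (k : G) * n * (k : G)⁻¹ = n at h1
      exact mul_inv_eq_iff_eq_mul.mp h1
    have hKn : K.Normal := by
      refine ⟨fun k hk g => ?_⟩
      have hg : g ∈ N ⊔ P := hprod ▸ Subgroup.mem_top g
      obtain ⟨n, hn, q, hq, rfl⟩ := Subgroup.mem_sup_of_normal_left.mp hg
      obtain ⟨k', hk', rfl⟩ := hk
      have h2 : q * P.subtype k' * q⁻¹ ∈ K :=
        Subgroup.mem_map_of_mem P.subtype (K := φ.ker)
          ((MonoidHom.normal_ker φ).conj_mem k' hk' (⟨q, hq⟩ : P))
      have h3 := hKN _ h2 n hn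
      have h4 : n * q * P.subtype k' * (n * q)⁻¹ = n * (q * P.subtype k' * q⁻¹) * n⁻¹ := by
        simp [mul_assoc]
      rw [h4, ← h3, mul_inv_cancel_right]
      exact h2
    have hKne : K ≠ ⊥ := by
      intro h
      exact hne ((Subgroup.map_eq_bot_iff_of_injective _ P.subtype_injective).mp h)
    have hle := hmin.2 K hKn hKne
    exact hmin.1 (le_bot_iff.mp (hdisj ▸ le_inf le_rfl (hle.trans (Subgroup.map_subtype_le _))))
  obtain ⟨d, hd, hb⟩ := CfsgLib.TwoLinear.gen_bound (Nat.card N) N φ.range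
    (hP.of_surjective _ φ.rangeRestrict_surjective) rfl hNodd
  obtain ⟨T, hT, hTc⟩ := hd.of_surjective (MonoidHom.ofInjective hφ).symm.toMonoidHom
    (MonoidHom.ofInjective hφ).symm.surjective
  obtain ⟨T', hT', hsup, hrel⟩ := CfsgLib.Solvable.exists_basis_subset hP T
  rw [hTc, top_sup_eq] at hsup
  rw [hsup, Subgroup.relIndex_top_right] at hrel
  have h2 : (frattini P).index ≤ 2 ^ d :=
    hrel.trans_le (Nat.pow_le_pow_right two_pos ((Finset.card_le_card hT').trans hT))
  have h1 : 1 < Nat.card N := N.one_lt_card_iff_ne_bot.mpr hmin.1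
  refine h2.trans ?_
  rcases hb with rfl | h | ⟨h, h'⟩
  · simp; omega
  · rw [pow_succ] at h
    have := Nat.one_le_two_pow (n := d)
    omega
  · rw [h]
    exact le_trans (Nat.pow_le_pow_right two_pos h') (by norm_num)

end Cfsg.Agent.S4188
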