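import Cfsg.Statements.S4189
import Cfsg.Agent.Lib.Transfer.MaxClassTwo
import Cfsg.Agent.Lib.StructB.TowerSolvable
import Cfsg.Agent.Lib.Solvable.Frattini
import Cfsg.Agent.Lib.Solvable.Frattini2
import Cfsg.Agent.Lib.Invol.TwoGroups

set_option autoImplicit false
open Cfsg

namespace Cfsg.Agent.S4189

open scoped commutatorElement

/-- An element of odd prime order in the automorphism group. -/
theorem exists_aut_prime_order {P : Type*} [Group P] [Finite P] (haut : ¬ IsPGroup 2 (MulAut P)) :
    ∃ q : ℕ, q.Prime ∧ q ≠ 2 ∧ ∃ φ : MulAut P, orderOf φ = q := by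
  classical
  have : Finite (MulAut P) := Finite.of_injective _ DFunLike.coe_injective
  by_contra hcon
  push Not at hcon
  refine haut (IsPGroup.iff_card.2 ⟨(Nat.card (MulAut P)).factorization 2,
    Nat.eq_pow_of_factorization_eq_single Nat.card_pos.ne' ?_⟩)
  ext r
  rcases eq_or_ne r 2 with rfl | hr2
  · simp
  rw [Finsupp.single_eq_of_ne hr2]
  by_contra hr0
  have hrm : r ∈ (Nat.card (MulAut P)).primeFactors := by
    rw [← Nat.support_factorization]; exact Finsupp.mem_support_iff.2 hr0
  obtain ⟨hr, hrd, -⟩ := Nat.mem_primeFactors.1 hrm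
  have := Fact.mk hr
  obtain ⟨φ, hφ⟩ := exists_prime_orderOf_dvd_card' r hrd
  exact hcon r hr hr2 φ hφ

/-- Let P be a finite non-abelian 2-group whose commutator subgroup has index 4 and whose automorphism group is not a 2-group (some automorphism has order that is not a power of 2). Then P is isomorphic to the quaternion group of order 8. -/
theorem result {P : Type*} [Group P] [Finite P] (hP : IsPGroup 2 P) (hna : ¬ IsMulCommutative P) (h4 : (commutator P).index = 4) (haut : ¬ IsPGroup 2 (MulAut P)) : Nonempty (P ≃* QuaternionGroup 2) := by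
  classical
  haveI : Fact (Nat.Prime 2) := ⟨Nat.prime_two⟩
  haveI := hP.isNilpotent
  obtain ⟨n, hn⟩ := IsPGroup.iff_card.1 hP
  have hne : commutator P ≠ ⊥ := fun e => hna ⟨⟨fun x y => by
    have h : ⁅x, y⁆ ∈ commutator P :=
      Subgroup.commutator_mem_commutator (Subgroup.mem_top x) (Subgroup.mem_top y)
    rw [e, Subgroup.mem_bot] at h
    exact commutatorElement_eq_one_iff_mul_comm.1 h⟩⟩
  have hn3 : 3 ≤ n := by
    have h1 := (commutator P).card_mul_index
    rw [h4, hn] at h1
    have h2 := (commutator P).one_lt_card_iff_ne_bot.2 hne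
    by_contra hlt
    have : 2 ^ n ≤ 2 ^ 2 := Nat.pow_le_pow_right two_pos (by omega)
    omega
  have hsq : ∀ x : P, x * x ∈ commutator P := by
    intro x
    by_contra hx
    have hc : Nat.card (Abelianization P) = 4 := by rw [← h4]; exact (Subgroup.index_eq_card _).symm
    have htop : Subgroup.zpowers (Abelianization.of x) = ⊤ := by
      refine Subgroup.eq_top_of_card_eq _ ?_
      rw [Nat.card_zpowers, hc]
      have hd : orderOf (Abelianization.of x) ∣ 2 ^ 2 := by
        have := orderOf_dvd_natCard (Abelianization.of x); rwa [hc] at this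
      obtain ⟨i, hi, hi'⟩ := (Nat.dvd_prime_pow Nat.prime_two).1 hd
      rcases (show i ≤ 1 ∨ i = 2 by omega) with h | h
      · exfalso
        apply hx
        have : Abelianization.of x ^ 2 = 1 :=
          orderOf_dvd_iff_pow_eq_one.1 (hi' ▸ (pow_dvd_pow 2 h : 2 ^ i ∣ 2 ^ 1))
        rw [← map_pow, ← pow_two] at *
        exact (QuotientGroup.eq_one_iff _).1 this
      · rw [hi', h]; norm_num
    have hsup : Subgroup.zpowers x ⊔ commutator P = ⊤ := by
      rw [eq_top_iff]
      intro y _
      obtain ⟨k, hk⟩ := Subgroup.mem_zpowers_iff.1 (htop ▸ Subgroup.mem_top (Abelianization.of y))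
      rw [← map_zpow] at hk
      have h1 : (x ^ k)⁻¹ * y ∈ commutator P := QuotientGroup.eq.1 hk
      have h2 : y = x ^ k * ((x ^ k)⁻¹ * y) := by group
      rw [h2]
      exact Subgroup.mul_mem_sup (Subgroup.zpow_mem_zpowers x k) h1
    have := CfsgLib.Solvable.eq_top_of_sup_eq_top_of_le_frattini CfsgLib.Solvable.commutator_le_frattini hsup
    have : IsCyclic P := isCyclic_iff_exists_zpowers_eq_top.2 ⟨x, this⟩
    exact hna ⟨⟨fun u v => by let _ := IsCyclic.commGroup (α := P); exact mul_comm u v⟩⟩
  have hcl := CfsgLib.Transfer.maxClass_of_commutator hn3 hn h4 hsq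
  obtain ⟨A, hA, hAi⟩ := CfsgLib.Transfer.exists_cyclic_index_two hn3 hn hcl
  obtain ⟨a, ha⟩ := A.isCyclic_iff_exists_zpowers_eq_top.1 hA
  subst ha
  have hao : orderOf a = 2 ^ (n - 1) := by
    have h1 := (Subgroup.zpowers a).card_mul_index
    rw [Nat.card_zpowers, hAi, hn, show 2 ^ n = 2 ^ (n - 1) * 2 by rw [← pow_succ]; congr 1; omega] at h1
    omega
  obtain ⟨q, hq, hq2, φ, hφ⟩ := exists_aut_prime_order haut
  have := Fact.mk hq
  have hq3 : q = 3 := by
    by_contra hne3
    have h5 : 5 ≤ q := by
      have := hq.two_le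
      by_contra hlt
      interval_cases q <;> norm_num at *
    have h1 := CfsgLib.StructB.mulAut_eq_one_of_cyclic_index_two hP a hAi.le h5 φ (e := 1)
      (by rw [pow_one, ← hφ, pow_orderOf_eq_one])
    rw [h1, orderOf_one] at hφ
    exact hq.ne_one hφ.symm
  subst hq3
  have h3 : ∀ x : P, φ (φ (φ x)) = x := fun x => by
    have := DFunLike.congr_fun (show φ * φ * φ = 1 by rw [← pow_three', ← hφ, pow_orderOf_eq_one]) x
    simpa using this
  set A := Subgroup.zpowers a with hAdef
  have hmul : ∀ {u v : P}, u ∉ A → v ∉ A → u * v⁻¹ ∈ A := fun {u v} hu hv => by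
    rw [Subgroup.mul_mem_iff_of_index_two hAi, inv_mem_iff]
    exact iff_of_false hu hv
  by_cases hfix : φ a ∈ A
  · -- φ fixes A: then φ = 1
    exfalso
    obtain ⟨k, hk⟩ := Subgroup.mem_zpowers_iff.1 hfix
    have hφa : φ a = a := by
      have h1 : a ^ (k * k * k - 1) = 1 := by
        have := h3 a
        rw [← hk, map_zpow, ← hk, ← zpow_mul, map_zpow, ← hk, ← zpow_mul] at this
        rw [zpow_sub_one, mul_inv_eq_one, show k * k * k = k * (k * k) by ring]
        exact this
      rw [← orderOf_dvd_iff_zpow_eq_one, hao, show k * k * k - 1 = (k - 1) * (k * k + k + 1) by ring] at h1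
      obtain ⟨t, ht⟩ := Int.even_mul_succ_self k
      have hco : IsCoprime ((2 ^ (n - 1) : ℕ) : ℤ) (k * k + k + 1) := by
        push_cast
        exact IsCoprime.pow_left ⟨-t, 1, by linear_combination ht⟩
      have h2 := hco.dvd_of_dvd_mul_right h1
      rw [← hao, orderOf_dvd_iff_zpow_eq_one, zpow_sub_one, hk, mul_inv_eq_one] at h2
      exact h2
    have hfixA : ∀ x ∈ A, φ x = x := by
      intro x hx
      obtain ⟨i, rfl⟩ := Subgroup.mem_zpowers_iff.1 hx
      rw [map_zpow, hφa]
    obtain ⟨y, hy⟩ : ∃ y, y ∉ A := by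
      by_contra! h
      rw [(Subgroup.eq_top_iff' A).2 h, Subgroup.index_top] at hAi
      omega
    have hφy : φ y ∉ A := fun h => hy (by
      have h' := hfixA _ h
      exact (φ.injective h' : φ y = y) ▸ h)
    obtain ⟨j, hj⟩ := Subgroup.mem_zpowers_iff.1 (hmul hφy hy)
    have hj' : φ y = a ^ j * y := by rw [hj]; group
    have hj3 : a ^ (3 * j) = 1 := by
      have h := h3 y
      rw [hj', map_mul, map_zpow, hφa, hj', map_mul, map_zpow, hφa, map_mul, map_zpow, hφa, hj',
        ← mul_assoc, ← zpow_add, ← mul_assoc, ← zpow_add, mul_eq_right] at h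
      rw [show 3 * j = j + j + j by ring]
      exact h
    have hj0 : a ^ j = 1 := by
      rw [← orderOf_dvd_iff_zpow_eq_one, hao] at hj3 ⊢
      refine IsCoprime.dvd_of_dvd_mul_left ?_ hj3
      push_cast
      exact IsCoprime.pow_left ⟨-1, 1, by norm_num⟩
    rw [hj0, one_mul] at hj'
    have : φ = 1 := MulEquiv.ext fun x => by
      show φ x = x
      by_cases hx : x ∈ A
      · exact hfixA x hx
      · have h1 := hfixA _ (hmul hx hy)
        rw [map_mul, map_inv, hj'] at h1
        exact mul_right_cancel h1
    rw [this, orderOf_one] at hφ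
    omega
  · set b := φ a with hbdef
    have hbo : orderOf b = orderOf a := φ.orderOf_eq a
    have hbi : (Subgroup.zpowers b).index = 2 := by
      have h1 := (Subgroup.zpowers b).card_mul_index
      rw [Nat.card_zpowers, hbo, ← Nat.card_zpowers a, ← A.card_mul_index, hAi] at h1
      exact Nat.eq_of_mul_eq_mul_left Nat.card_pos h1
    have haa : a * a ∈ Subgroup.zpowers b := Subgroup.mul_self_mem_of_index_two hbi a
    have hcz : a * a ∈ Subgroup.center P := by
      rw [Subgroup.mem_center_iff]
      intro x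
      obtain ⟨i, hi⟩ := Subgroup.mem_zpowers_iff.1 haa
      have hcb : Commute b (a * a) := by rw [← hi]; exact Commute.self_zpow b i
      have hcA : ∀ z ∈ A, Commute z (a * a) := fun z hz => by
        obtain ⟨j, rfl⟩ := Subgroup.mem_zpowers_iff.1 hz
        exact ((Commute.refl a).mul_right (Commute.refl a)).zpow_left j
      by_cases hx : x ∈ A
      · exact hcA x hx
      · have h := (hcA _ (hmul hx hfix)).mul_left hcb
        rw [inv_mul_cancel_right] at h
        exact h
    have hn' : n = 3 := by
      have hZ := (CfsgLib.Transfer.card_center_of_maxClass (p := 2) hn3 hn hcl).1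
      have h1 : orderOf (a * a) ∣ 2 := hZ ▸ Subgroup.orderOf_dvd_natCard _ hcz
      rw [← pow_two, orderOf_pow' a two_ne_zero, hao,
        Nat.gcd_eq_right (dvd_pow_self 2 (by omega : n - 1 ≠ 0)),
        show 2 ^ (n - 1) = 2 ^ (n - 2) * 2 by rw [← pow_succ]; congr 1; omega,
        Nat.mul_div_cancel _ two_pos] at h1
      have := (Nat.pow_dvd_pow_iff_le_right one_lt_two (k := n - 2) (l := 1)).1 (by simpa using h1)
      omega
    subst hn'
    norm_num at hao
    have ha4 : a ^ 4 = 1 := by rw [← hao, pow_orderOf_eq_one]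
    have hb4 : b ^ 4 = 1 := by rw [← hao, ← hbo, pow_orderOf_eq_one]
    have ha2 : a ^ 2 ≠ 1 := fun h => by
      have := orderOf_dvd_of_pow_eq_one h
      rw [hao] at this; norm_num at this
    have hbb : b * b = a ^ 2 := by
      obtain ⟨i, hi⟩ := (Submonoid.mem_powers_iff _ _).1 (mem_powers_iff_mem_zpowers.2 haa)
      have hi4 : b ^ (i % 4) = a * a := by
        rw [← hi]; conv_rhs => rw [← Nat.mod_add_div i 4, pow_add, pow_mul, hb4, one_pow, mul_one]
      have hlt : i % 4 < 4 := Nat.mod_lt _ (by norm_num)
      have haA : a * a ∈ A := mul_mem (Subgroup.mem_zpowers a) (Subgroup.mem_zpowers a)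
      interval_cases hj : i % 4
      · rw [pow_zero, ← pow_two] at hi4; exact absurd hi4.symm ha2
      · rw [pow_one] at hi4; rw [← hi4] at haA; exact absurd haA hfix
      · rw [← pow_two, hi4, pow_two]
      · exfalso
        apply hfix
        have : b = (a * a)⁻¹ := by
          rw [← hi4, eq_inv_iff_mul_eq_one, ← pow_succ', hb4]
        rw [this]; exact inv_mem haA
    have hconj : b * a * b⁻¹ = a⁻¹ := by
      have hAn : A.Normal := Subgroup.normal_of_index_eq_two hAi
      have hm : b * a * b⁻¹ ∈ A := hAn.conj_mem a (Subgroup.mem_zpowers a) b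
      obtain ⟨i, hi⟩ := (Submonoid.mem_powers_iff _ _).1 (mem_powers_iff_mem_zpowers.2 hm)
      have hi4 : a ^ (i % 4) = b * a * b⁻¹ := by
        rw [← hi]; conv_rhs => rw [← Nat.mod_add_div i 4, pow_add, pow_mul, ha4, one_pow, mul_one]
      have hlt : i % 4 < 4 := Nat.mod_lt _ (by norm_num)
      interval_cases hj : i % 4
      · rw [pow_zero, eq_comm, conj_eq_one_iff] at hi4
        rw [hi4, one_pow] at ha2; exact absurd rfl ha2
      · exfalso
        apply hna
        have hab : Commute b a := by
          rw [pow_one, eq_comm, mul_inv_eq_iff_eq_mul] at hi4; exact hi4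
        have hall : ∀ x : P, Commute x a ∧ Commute x b := fun x => by
          have hcA : ∀ z ∈ A, Commute z a ∧ Commute z b := fun z hz => by
            obtain ⟨j, rfl⟩ := Subgroup.mem_zpowers_iff.1 hz
            exact ⟨(Commute.refl a).zpow_left j, hab.symm.zpow_left j⟩
          by_cases hx : x ∈ A
          · exact hcA x hx
          · have h := hcA _ (hmul hx hfix)
            have h1 := h.1.mul_left hab
            have h2 := h.2.mul_left (Commute.refl b)
            rw [inv_mul_cancel_right] at h1 h2
            exact ⟨h1, h2⟩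
        refine ⟨⟨fun x y => ?_⟩⟩
        have hcA : ∀ z ∈ A, Commute x z := fun z hz => by
          obtain ⟨j, rfl⟩ := Subgroup.mem_zpowers_iff.1 hz
          exact (hall x).1.zpow_right j
        by_cases hy : y ∈ A
        · exact hcA y hy
        · have h := (hcA _ (hmul hy hfix)).mul_right (hall x).2
          rw [inv_mul_cancel_right] at h
          exact h
      · exfalso
        apply ha2
        have : (b * a * b⁻¹) ^ 2 = 1 := by rw [← hi4, ← pow_mul, ha4]
        rw [conj_pow, conj_eq_one_iff] at this
        exact this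
      · rw [← hi4, eq_inv_iff_mul_eq_one, ← pow_succ, ha4]
    obtain ⟨e⟩ := CfsgLib.Invol.exists_mulEquiv_quaternion (n := 2) (by simpa using hao) hbb hconj hfix
    have htop : Subgroup.closure ({a, b} : Set P) = ⊤ := by
      rw [eq_top_iff]
      intro x _
      have hAle : A ≤ Subgroup.closure ({a, b} : Set P) :=
        Subgroup.zpowers_le.2 (Subgroup.subset_closure (by simp))
      by_cases hx : x ∈ A
      · exact hAle hx
      · have h := mul_mem (hAle (hmul hx hfix))
          (Subgroup.subset_closure (show b ∈ ({a, b} : Set P) by simp))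
        rwa [inv_mul_cancel_right] at h
    exact ⟨(Subgroup.topEquiv.symm.trans (MulEquiv.subgroupCongr htop.symm)).trans e⟩

end Cfsg.Agent.S4189
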