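import Cfsg.Statements.S4190
import Cfsg.Agent.Lib.ClassFit.Main
-- import your own Cfsg.Agent.* helpers here

set_option autoImplicit false
open Cfsg

namespace Cfsg.Agent.S4190

/-- Let G be a finite solvable group and p a prime dividing the index of the Fitting subgroup of G. Then the number of conjugacy classes of G is at least p/(3·log₂ p). -/
theorem result {G : Type*} [Group G] [Finite G] (hG : Group.IsSolvable G) (p : ℕ) [Fact p.Prime] (hp : p ∣ (Cfsg.fittingSubgroup G).index) : (p : ℝ) / (3 * Real.logb 2 p) ≤ Nat.card (ConjClasses G) := by
  exact CfsgLib.ClassFit.class_number_bound hG p hp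

end Cfsg.Agent.S4190
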