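import Cfsg.Statements.S4192
import Cfsg.Agent.Lib.RealClass.EvenClass
import Cfsg.Agent.S4187

set_option autoImplicit false
open Cfsg

namespace Cfsg.Agent.S4192

/-- Let G be a finite group; call an element real when it is conjugate to its inverse, and say that the real-class-size graph of a group is disconnected when the primes dividing its real class sizes split into two non-empty disjoint parts with no real class size divisible by a prime from each part. If the real-class-size graph of G is disconnected, then some real class size of G is even, and either the Sylow 2-subgroups of G are normal, or the subgroup K generated by the 2-elements of G (the smallest normal subgroup of odd index) again has a disconnected real-class-size graph and every real class size of K is odd or a power of 2. -/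
theorem result {G : Type*} [Group G] [Finite G] (h : (∃ π₁ π₂ : Set ℕ, π₁.Nonempty ∧ π₂.Nonempty ∧ Disjoint π₁ π₂ ∧ (∀ q ∈ π₁ ∪ π₂, q.Prime ∧ ∃ n ∈ {n : ℕ | ∃ x : G, IsConj x x⁻¹ ∧ (Subgroup.centralizer ({x} : Set G)).index = n}, q ∣ n) ∧ (∀ q : ℕ, q.Prime → (∃ n ∈ {n : ℕ | ∃ x : G, IsConj x x⁻¹ ∧ (Subgroup.centralizer ({x} : Set G)).index = n}, q ∣ n) → q ∈ π₁ ∨ q ∈ π₂) ∧ ∀ a ∈ π₁, ∀ b ∈ π₂, ∀ n ∈ {n : ℕ | ∃ x : G, IsConj x x⁻¹ ∧ (Subgroup.centralizer ({x} : Set G)).index = n}, ¬ (a ∣ n ∧ b ∣ n))) : (∃ n ∈ {n : ℕ | ∃ x : G, IsConj x x⁻¹ ∧ (Subgroup.centralizer ({x} : Set G)).index = n}, 2 ∣ n) ∧ ((∀ P : Sylow 2 G, (P : Subgroup G).Normal) ∨ ((∃ π₁ π₂ : Set ℕ, π₁.Nonempty ∧ π₂.Nonempty ∧ Disjoint π₁ π₂ ∧ (∀ q ∈ π₁ ∪ π₂, q.Prime ∧ ∃ n ∈ {n : ℕ | ∃ x : ↥(Subgroup.closure {g : G | ∃ k : ℕ, orderOf g = 2 ^ k}), IsConj x x⁻¹ ∧ (Subgroup.centralizer ({x} : Set ↥(Subgroup.closure {g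 : G | ∃ k : ℕ, orderOf g = 2 ^ k}))).index = n}, q ∣ n) ∧ (∀ q : ℕ, q.Prime → (∃ n ∈ {n : ℕ | ∃ x : ↥(Subgroup.closure {g : G | ∃ k : ℕ, orderOf g = 2 ^ k}), IsConj x x⁻¹ ∧ (Subgroup.centralizer ({x} : Set ↥(Subgroup.closure {g : G | ∃ k : ℕ, orderOf g = 2 ^ k}))).index = n}, q ∣ n) → q ∈ π₁ ∨ q ∈ π₂) ∧ ∀ a ∈ π₁, ∀ b ∈ π₂, ∀ n ∈ {n : ℕ | ∃ x : ↥(Subgroup.closure {g : G | ∃ k : ℕ, orderOf g = 2 ^ k}), IsConj x x⁻¹ ∧ (Subgroup.centralizer ({x} : Set ↥(Subgroup.closure {g : G | ∃ k : ℕ, orderOf g = 2 ^ k}))).index = n}, ¬ (a ∣ n ∧ b ∣ n)) ∧ ∀ n ∈ {n : ℕ | ∃ x : ↥(Subgroup.closure {g : G | ∃ k : ℕ, orderOf g = 2 ^ k}), IsConj x x⁻¹ ∧ (Subgroup.centralizer ({x} : Set ↥(Subgroup.closure {g : G | ∃ k : ℕ, orderOf g = 2 ^ k}))).index = n}, Odd n ∨ ∃ j : ℕ, n = 2 ^ j)) := by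
  classical
  obtain ⟨π₁, π₂, h₁, h₂, hdisj, hsub, hcover, hnoedge⟩ := h
  have hsolv : Group.IsSolvable G := Cfsg.Agent.S4187.result π₁ π₂ h₁ h₂ hcover hsub hdisj hnoedge
  haveI := hsolv
  haveI : Fact (Nat.Prime 2) := ⟨Nat.prime_two⟩
  let I : G → ℕ := fun x => (Subgroup.centralizer ({x} : Set G)).index
  set K := Subgroup.closure {g : G | ∃ k : ℕ, orderOf g = 2 ^ k} with hKdef
  -- no even size is impossible
  have heven : ∃ x : G, IsConj x x⁻¹ ∧ 2 ∣ I x := by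
    by_contra hno
    push Not at hno
    have hsq : ∀ x : G, IsConj x x⁻¹ → x * x = 1 := fun x hx =>
      by_contra fun h => hno x hx (CfsgLib.RealGraph.two_dvd_index hx h)
    have hK2 : IsPGroup 2 K := by
      obtain ⟨k, m, hm, hn⟩ := Nat.exists_eq_two_pow_mul_odd (Nat.card_pos (α := K)).ne'
      refine IsPGroup.of_card (n := k) ?_
      rcases eq_or_ne m 1 with rfl | hm1
      · rwa [mul_one] at hn
      obtain ⟨q, hq, hqm⟩ := Nat.exists_prime_and_dvd hm1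
      haveI : Fact q.Prime := ⟨hq⟩
      have hq2 : q ≠ 2 := fun e => Nat.not_even_iff_odd.2 hm (even_iff_two_dvd.2 (e ▸ hqm))
      obtain ⟨y, -, s, -, hy1, ⟨j, hj⟩, hs⟩ := CfsgLib.RealGraph.exists_real (G := G) hq2
        (hn ▸ hqm.trans (dvd_mul_left m _))
      exact absurd (hsq y (isConj_iff.2 ⟨s, hs⟩)) (CfsgLib.RealGraph.sq_ne_one hq2 hj hy1)
    -- every real element is a central involution of `K`
    have hcen : ∀ x : G, IsConj x x⁻¹ → ∀ g ∈ K, g * x = x * g := by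
      intro x hx g hg
      obtain ⟨P, hP⟩ := CfsgLib.RealGraph.exists_sylow_le (p := 2) (hno x hx)
      exact Subgroup.mem_centralizer_singleton_iff.1
        (hP (CfsgLib.RealGraph.normal_le_sylow hK2 P hg))
    let V : Subgroup G :=
      { carrier := {x | x * x = 1 ∧ x ∈ K ∧ ∀ g ∈ K, g * x = x * g}
        one_mem' := ⟨one_mul 1, K.one_mem, fun g _ => by rw [one_mul, mul_one]⟩
        mul_mem' := by
          rintro a b ⟨ha, haK, hac⟩ ⟨hb, hbK, hbc⟩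
          refine ⟨?_, K.mul_mem haK hbK, fun g hg => ?_⟩
          · calc a * b * (a * b) = a * (b * a) * b := by group
              _ = a * (a * b) * b := by rw [hac b hbK]
              _ = (a * a) * (b * b) := by group
              _ = 1 := by rw [ha, hb, one_mul]
          · rw [← mul_assoc, hac g hg, mul_assoc, hbc g hg, ← mul_assoc]
        inv_mem' := by
          rintro a ⟨ha, haK, hac⟩
          rw [inv_eq_of_mul_eq_one_right ha]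
          exact ⟨ha, haK, hac⟩ }
    have hKn : K.Normal := CfsgLib.RealGraph.twoEl_closure_normal
    have hVn : V.Normal := ⟨by
      rintro x ⟨hx, hxK, hxc⟩ g
      refine ⟨by rw [conj_mul, hx, mul_one, mul_inv_cancel], hKn.conj_mem x hxK g, fun a ha => ?_⟩
      have := hxc _ (hKn.conj_mem' a ha g)
      calc a * (g * x * g⁻¹) = g * (g⁻¹ * a * g * x) * g⁻¹ := by group
        _ = g * (x * (g⁻¹ * a * g)) * g⁻¹ := by rw [this]
        _ = g * x * g⁻¹ * a := by group⟩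
    obtain ⟨z, ⟨hz2, -, -⟩, hzv⟩ := CfsgLib.RealGraph.exists_common _ V rfl hVn (fun v hv => hv.1)
      (fun v hv w hw => hw.2.2 v hv.2.1)
      (fun v hv s hs => hv.2.2 s (Subgroup.subset_closure hs))
    have hzreal : IsConj z z⁻¹ := by rw [inv_eq_of_mul_eq_one_right hz2]
    have side : ∀ (A B : Set ℕ), Disjoint A B → (∀ q ∈ A, q ∈ π₁ ∪ π₂) →
        (∀ q : ℕ, q.Prime → (∃ x : G, IsConj x x⁻¹ ∧ q ∣ I x) → q ∈ A ∨ q ∈ B) →
        (∀ a ∈ A, ∀ b ∈ B, ∀ x : G, IsConj x x⁻¹ → ¬ (a ∣ I x ∧ b ∣ I x)) →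
        A.Nonempty → ∃ d ∈ A, d ∣ I z := by
      intro A B hd hA hcov hedge ⟨a, ha⟩
      obtain ⟨hap, n, ⟨x, hx, rfl⟩, han⟩ := hsub a (hA a ha)
      have hxV : x ∈ V := ⟨hsq x hx, CfsgLib.RealGraph.real_mem_twoEl hx, hcen x hx⟩
      obtain ⟨d, hdp, hdx, hdz⟩ := hzv x hxV (fun h => hap.ne_one (Nat.dvd_one.1 (h ▸ han)))
      rcases hcov d hdp ⟨x, hx, hdx⟩ with hd' | hd'
      · exact ⟨d, hd', hdz⟩
      · exact absurd ⟨han, hdx⟩ (hedge a ha d hd' x hx)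
    obtain ⟨a, ha, haz⟩ := side π₁ π₂ hdisj (fun q h => Or.inl h)
      (fun q hq ⟨x, hx, hd⟩ => hcover q hq ⟨_, ⟨x, hx, rfl⟩, hd⟩)
      (fun a ha b hb x hx => hnoedge a ha b hb _ ⟨x, hx, rfl⟩) h₁
    obtain ⟨b, hb, hbz⟩ := side π₂ π₁ hdisj.symm (fun q h => Or.inr h)
      (fun q hq ⟨x, hx, hd⟩ => (hcover q hq ⟨_, ⟨x, hx, rfl⟩, hd⟩).symm)
      (fun b hb a ha x hx hh => hnoedge a ha b hb _ ⟨x, hx, rfl⟩ hh.symm) h₂
    exact hnoedge a ha b hb _ ⟨z, hzreal, rfl⟩ ⟨haz, hbz⟩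
  obtain ⟨x2, hx2, h2x2⟩ := heven
  refine ⟨⟨_, ⟨x2, hx2, rfl⟩, h2x2⟩, or_iff_not_imp_left.2 fun hnn => ?_⟩
  -- an involution with odd class size coprime to all even ones
  obtain ⟨t, ht2, hb1, hP, htodd⟩ : ∃ t : G, t * t = 1 ∧ I t ≠ 1 ∧
      (∀ x : G, IsConj x x⁻¹ → 2 ∣ I x → (I x).Coprime (I t)) ∧ ¬ 2 ∣ I t := by
    have main : ∀ (A B : Set ℕ), Disjoint A B → B.Nonempty → (∀ q ∈ B, q ∈ π₁ ∪ π₂) → 2 ∈ A →
        (∀ q : ℕ, q.Prime → (∃ x : G, IsConj x x⁻¹ ∧ q ∣ I x) → q ∈ A ∨ q ∈ B) →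
        (∀ a ∈ A, ∀ b ∈ B, ∀ x : G, IsConj x x⁻¹ → ¬ (a ∣ I x ∧ b ∣ I x)) →
        ∃ t : G, t * t = 1 ∧ I t ≠ 1 ∧
          (∀ x : G, IsConj x x⁻¹ → 2 ∣ I x → (I x).Coprime (I t)) ∧ ¬ 2 ∣ I t := by
      intro A B hd ⟨q, hq⟩ hB h2 hcov hedge
      obtain ⟨hqp, n, ⟨t, ht, rfl⟩, hqn⟩ := hsub q (hB q hq)
      have hodd : ¬ 2 ∣ I t := fun h => hedge 2 h2 q hq t ht ⟨h, hqn⟩
      refine ⟨t, by_contra fun h => hodd (CfsgLib.RealGraph.two_dvd_index ht h),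
        fun h => hqp.ne_one (Nat.dvd_one.1 (h ▸ hqn)), fun x hx hx2 => ?_, hodd⟩
      refine Nat.coprime_of_dvd fun d hd' hdx hdt => ?_
      rcases hcov d hd' ⟨t, ht, hdt⟩ with h | h
      · exact hedge d h q hq t ht ⟨hdt, hqn⟩
      · exact hedge 2 h2 d h x hx ⟨hx2, hdx⟩
    rcases hcover 2 Nat.prime_two ⟨_, ⟨x2, hx2, rfl⟩, h2x2⟩ with h | h
    · exact main π₁ π₂ hdisj h₂ (fun q h => Or.inr h) h
        (fun q hq ⟨x, hx, hd⟩ => hcover q hq ⟨_, ⟨x, hx, rfl⟩, hd⟩)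
        (fun a ha b hb x hx => hnoedge a ha b hb _ ⟨x, hx, rfl⟩)
    · exact main π₂ π₁ hdisj.symm h₁ (fun q h => Or.inl h) h
        (fun q hq ⟨x, hx, hd⟩ => (hcover q hq ⟨_, ⟨x, hx, rfl⟩, hd⟩).symm)
        (fun b hb a ha x hx hh => hnoedge a ha b hb _ ⟨x, hx, rfl⟩ hh.symm)
  haveI hKn : K.Normal := CfsgLib.RealGraph.twoEl_closure_normal
  -- an odd prime dividing the order of `K`
  obtain ⟨q, hq, hq2, hqK⟩ : ∃ q : ℕ, q.Prime ∧ q ≠ 2 ∧ q ∣ Nat.card K := by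
    by_contra hno
    push Not at hno
    refine hnn fun P => ?_
    obtain ⟨k, hk⟩ : ∃ k : ℕ, Nat.card K = 2 ^ k := ⟨_,
      Nat.eq_prime_pow_of_unique_prime_dvd Nat.card_pos.ne' fun {d} hd hdK =>
        by_contra fun h => hno d hd h hdK⟩
    have hPK : (P : Subgroup G) = K := by
      refine le_antisymm (fun g hg => Subgroup.subset_closure ?_)
        (CfsgLib.RealGraph.normal_le_sylow (IsPGroup.of_card hk) P)
      obtain ⟨j, hj⟩ := P.2 ⟨g, hg⟩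
      obtain ⟨i, -, hi⟩ := (Nat.dvd_prime_pow Nat.prime_two).1
        (orderOf_dvd_of_pow_eq_one (congrArg Subtype.val hj : g ^ 2 ^ j = 1))
      exact ⟨i, hi⟩
    rw [hPK]
    exact hKn
  haveI : Fact q.Prime := ⟨hq⟩
  obtain ⟨y, hyK, s, hsK, hy1, ⟨j, hj⟩, hs⟩ := CfsgLib.RealGraph.exists_real (G := G) hq2 hqK
  -- class sizes in `K`
  let J : K → ℕ := fun x => (Subgroup.centralizer ({x} : Set K)).index
  have hJsub : ∀ x : K, Subgroup.centralizer ({x} : Set K) =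
      (Subgroup.centralizer ({(x : G)} : Set G)).subgroupOf K := fun x => Subgroup.ext fun g => by
    rw [Subgroup.mem_subgroupOf, Subgroup.mem_centralizer_singleton_iff,
      Subgroup.mem_centralizer_singleton_iff, Subtype.ext_iff, Subgroup.coe_mul, Subgroup.coe_mul]
  have hJK : ∀ x : K, J x ∣ Nat.card K := fun x => Subgroup.index_dvd_card _
  have hJI : ∀ x : K, J x ∣ I x := by
    intro x
    set C := Subgroup.centralizer ({(x : G)} : Set G)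
    show (Subgroup.centralizer ({x} : Set K)).index ∣ C.index
    rw [hJsub]
    have e1 := Subgroup.relIndex_mul_index (inf_le_right : C ⊓ K ≤ K)
    have e2 := Subgroup.relIndex_mul_index (inf_le_left : C ⊓ K ≤ C)
    rw [Subgroup.inf_relIndex_right] at e1
    rw [inf_comm, Subgroup.inf_relIndex_right, inf_comm] at e2
    obtain ⟨m, hm⟩ := Subgroup.relIndex_dvd_index_of_normal K C
    have hpos : 0 < K.relIndex C := Nat.pos_of_ne_zero (by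
      intro h0
      rw [h0, zero_mul] at e2
      exact (C ⊓ K).index_ne_zero_of_finite e2.symm)
    refine ⟨m, Nat.eq_of_mul_eq_mul_left hpos ?_⟩
    rw [e2, ← e1, hm]
    show _ = K.relIndex C * (C.relIndex K * m)
    ring
  have hreal : ∀ x : K, IsConj x x⁻¹ → IsConj (x : G) (x : G)⁻¹ := fun x hx => K.subtype.map_isConj hx
  have hclause : ∀ n ∈ {n : ℕ | ∃ x : K, IsConj x x⁻¹ ∧ J x = n}, Odd n ∨ ∃ i : ℕ, n = 2 ^ i := by
    rintro n ⟨x, hx, rfl⟩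
    refine or_iff_not_imp_left.2 fun hodd => ?_
    rw [Nat.not_odd_iff_even, even_iff_two_dvd] at hodd
    refine ⟨_, Nat.eq_prime_pow_of_unique_prime_dvd (Subgroup.index_ne_zero_of_finite)
      fun {d} hd hdJ => by_contra fun hd2 => ?_⟩
    haveI : Fact d.Prime := ⟨hd⟩
    obtain ⟨y', -, s', -, hy', ⟨j', hj'⟩, hs'⟩ :=
      CfsgLib.RealGraph.exists_real (G := G) hd2 (hdJ.trans (hJK x))
    refine CfsgLib.RealGraph.no_real ht2 hb1 hP hd2 (fun hdt => ?_) hj' hy' hs'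
    exact hd.ne_one (Nat.eq_one_of_dvd_coprimes (hP x (hreal x hx) (hodd.trans (hJI x)))
      (hdJ.trans (hJI x)) hdt)
  refine ⟨?_, hclause⟩
  -- the two parts
  have htreal : IsConj t t⁻¹ := by rw [inv_eq_of_mul_eq_one_right ht2]
  have htK : t ∈ K := CfsgLib.RealGraph.real_mem_twoEl htreal
  have hJt1 : J ⟨t, htK⟩ ≠ 1 := by
    intro h
    have hall : ∀ g ∈ K, Commute g t := fun g hg => by
      have : (⟨g, hg⟩ : K) ∈ Subgroup.centralizer ({⟨t, htK⟩} : Set K) := by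
        rw [Subgroup.index_eq_one.1 h]; trivial
      exact congrArg Subtype.val (Subgroup.mem_centralizer_singleton_iff.1 this)
    exact CfsgLib.RealGraph.comm_false ht2 hb1 hP hq2 hj hy1 hs (hall y hyK) (hall s hsK)
  have htKreal : IsConj (⟨t, htK⟩ : K) (⟨t, htK⟩ : K)⁻¹ := by
    rw [inv_eq_of_mul_eq_one_right (show (⟨t, htK⟩ : K) * ⟨t, htK⟩ = 1 from Subtype.ext ht2)]
  obtain ⟨d, hd, hdt⟩ := Nat.exists_prime_and_dvd hJt1
  have hd2 : d ≠ 2 := fun e => htodd ((e ▸ hdt).trans (hJI _))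
  have hJy : 2 ∣ J ⟨y, hyK⟩ := CfsgLib.RealGraph.two_dvd_index
    (isConj_iff.2 ⟨⟨s, hsK⟩, Subtype.ext hs⟩)
    fun h => CfsgLib.RealGraph.sq_ne_one hq2 hj hy1 (congrArg Subtype.val h)
  have hJyreal : IsConj (⟨y, hyK⟩ : K) (⟨y, hyK⟩ : K)⁻¹ :=
    isConj_iff.2 ⟨⟨s, hsK⟩, Subtype.ext hs⟩
  refine ⟨{2}, {e | e.Prime ∧ e ≠ 2 ∧ ∃ x : K, IsConj x x⁻¹ ∧ e ∣ J x}, ⟨2, rfl⟩,
    ⟨d, hd, hd2, _, htKreal, hdt⟩, Set.disjoint_left.2 fun e he he' => he'.2.1 he, ?_, ?_, ?_⟩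
  · rintro e (rfl | ⟨he, -, x, hx, hex⟩)
    · exact ⟨Nat.prime_two, _, ⟨_, hJyreal, rfl⟩, hJy⟩
    · exact ⟨he, _, ⟨x, hx, rfl⟩, hex⟩
  · rintro e he ⟨n, ⟨x, hx, rfl⟩, hex⟩
    exact or_iff_not_imp_left.2 fun h => ⟨he, h, x, hx, hex⟩
  · rintro a rfl b ⟨hb, hb2, -⟩ n hn ⟨h2n, hbn⟩
    rcases hclause n hn with ho | ⟨i, rfl⟩
    · exact Nat.not_even_iff_odd.2 ho (even_iff_two_dvd.2 h2n)
    · exact hb2 ((Nat.prime_dvd_prime_iff_eq hb Nat.prime_two).1 (hb.dvd_of_dvd_pow hbn))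

end Cfsg.Agent.S4192
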