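import Cfsg.Statements.S4193
import Cfsg.Agent.Lib.Coprime.RealSchmidt
import Cfsg.Agent.Lib.Fusion.GTReplaceModel
import Cfsg.Agent.S0205

set_option autoImplicit false
open Cfsg

namespace Cfsg.Agent.S4193

open Subgroup

/-- If all noncentral real classes have odd size, the Sylow 2-subgroup is normal. -/
theorem sylow_normal {G : Type*} [Group G] [Finite G]
    (h : ∀ x : G, IsConj x x⁻¹ → x ∉ center G → (centralizer ({x} : Set G)).index.factorization 2 = 0)
    (S : Sylow 2 G) : (S : Subgroup G).Normal := by
  haveI : Fact (Nat.Prime 2) := ⟨Nat.prime_two⟩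
  refine CfsgLib.StructB.sylow_two_normal_of_not_inverted (fun x g hx hgx => ?_) S
  have hreal : IsConj x x⁻¹ := isConj_iff.2 ⟨g, hgx⟩
  have hfin : x ^ 2 = 1 → x = 1 := fun h2 => by
    have h3 : orderOf x ∣ 2 := orderOf_dvd_of_pow_eq_one h2
    rcases (Nat.dvd_prime Nat.prime_two).1 h3 with h1 | h1
    · exact orderOf_eq_one_iff.1 h1
    · rw [h1] at hx; exact absurd hx (by decide)
  by_cases hc : x ∈ center G
  · refine hfin ?_
    have h1 : g * x * g⁻¹ = x := by rw [mem_center_iff.1 hc g, mul_inv_cancel_right]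
    rw [h1] at hgx
    rw [pow_two]
    exact mul_eq_one_iff_eq_inv.2 hgx
  · have h0 := h x hreal hc
    set C := centralizer ({x} : Set G) with hC
    obtain ⟨T⟩ := (inferInstance : Nonempty (Sylow 2 C))
    have hnd : ¬ 2 ∣ C.index := fun hd => by
      have := (Nat.Prime.factorization_pos_of_dvd Nat.prime_two Subgroup.index_ne_zero_of_finite hd)
      omega
    have hcard : Nat.card ((T : Subgroup C).map C.subtype) = 2 ^ (Nat.card G).factorization 2 := by
      rw [card_map_of_injective C.subtype_injective, T.card_eq_multiplicity, ← C.card_mul_index,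
        Nat.factorization_mul Nat.card_pos.ne' Subgroup.index_ne_zero_of_finite, Finsupp.add_apply, h0,
        add_zero]
    let T' : Sylow 2 G := Sylow.ofCard ((T : Subgroup C).map C.subtype) hcard
    refine hfin (CfsgLib.StructB.sq_eq_one_of_isConj_inv_of_mem_centralizer T' ?_ hreal)
    refine mem_centralizer_iff.2 fun t ht => ?_
    obtain ⟨c, -, rfl⟩ := (ht : t ∈ (T : Subgroup C).map C.subtype)
    exact mem_centralizer_singleton_iff.1 c.2

/-- Let G be a finite group in which the conjugacy classes of all non-central real elements (elements conjugate to their inverses) have sizes with the same 2-part, and suppose G has a Sylow 2-subgroup S such that every element of S that is conjugate in S to its inverse lies in the centre of S. Then G is solvable and the subgroup generated by the 2-elements of G (the smallest normal subgroup of odd index) has a normal 2-complement. -/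
theorem result {G : Type*} [Group G] [Finite G] (a : ℕ) (h : ∀ x : G, IsConj x x⁻¹ → x ∉ Subgroup.center G → ((Subgroup.centralizer ({x} : Set G)).index).factorization 2 = a) (S : Sylow 2 G) (hS : ∀ s : ↥(S : Subgroup G), IsConj s s⁻¹ → s ∈ Subgroup.center ↥(S : Subgroup G)) : Group.IsSolvable G ∧ Cfsg.HasNormalPComplement 2 ↥(Subgroup.closure {g : G | ∃ k : ℕ, orderOf g = 2 ^ k}) := by
  haveI : Fact (Nat.Prime 2) := ⟨Nat.prime_two⟩
  set L := Subgroup.closure {g : G | ∃ k : ℕ, orderOf g = 2 ^ k} with hL
  by_cases hA : ∃ t ∈ (S : Subgroup G), t * t = 1 ∧ t ∉ Subgroup.center G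
  · obtain ⟨t, htS, ht2, htc⟩ := hA
    have hts : (⟨t, htS⟩ : (S : Subgroup G)) ∈ Subgroup.center (S : Subgroup G) := hS _ (by
      rw [show (⟨t, htS⟩ : (S : Subgroup G))⁻¹ = ⟨t, htS⟩ from
        Subtype.ext (inv_eq_of_mul_eq_one_right ht2)])
    have ha : a = 0 := by
      rw [← h t (by rw [inv_eq_of_mul_eq_one_right ht2]) htc]
      refine Nat.factorization_eq_zero_of_not_dvd fun hd => S.not_dvd_index (hd.trans ?_)
      refine Subgroup.index_dvd_of_le fun s hs => Subgroup.mem_centralizer_singleton_iff.2 ?_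
      exact congrArg Subtype.val (Subgroup.mem_center_iff.1 hts ⟨s, hs⟩)
    subst ha
    have hn : (S : Subgroup G).Normal := sylow_normal h S
    have hLS : L ≤ (S : Subgroup G) := by
      refine (Subgroup.closure_le _).2 fun g hg => ?_
      obtain ⟨k, hk⟩ := hg
      refine CfsgLib.StructB.mem_sylow_of_mem_normalizer S (k := k) ?_ ?_
      · rw [← hk, pow_orderOf_eq_one]
      · rw [Subgroup.normalizer_eq_top]; trivial
    refine ⟨?_, CfsgLib.Fusion.hasNormalPComplement_of_isPGroup (S.isPGroup'.to_le hLS)⟩
    have : Group.IsNilpotent (S : Subgroup G) := S.isPGroup'.isNilpotent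
    have : Group.IsSolvable (G ⧸ (S : Subgroup G)) := Cfsg.Agent.S0205.result (by
      rw [← Subgroup.index_eq_card]
      exact Nat.not_even_iff_odd.1 fun he => S.not_dvd_index (even_iff_two_dvd.1 he))
    exact solvable_of_ker_le_range (S : Subgroup G).subtype (QuotientGroup.mk' (S : Subgroup G))
      (by rw [QuotientGroup.ker_mk', Subgroup.range_subtype])
  · have hcen : ∀ t : G, t * t = 1 → t ∈ Subgroup.center G := by
      intro t ht
      have hp : IsPGroup 2 (Subgroup.zpowers t) := by
        rintro ⟨_, i, rfl⟩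
        refine ⟨1, Subtype.ext ?_⟩
        show (t ^ i) ^ (2 ^ 1) = 1
        rw [pow_one, pow_two, ← zpow_add, ← two_mul, zpow_mul, zpow_two, ht, one_zpow]
      obtain ⟨Q, hQ⟩ := hp.exists_le_sylow
      obtain ⟨g, rfl⟩ := MulAction.exists_smul_eq G S Q
      obtain ⟨s, hs, rfl⟩ := hQ (Subgroup.mem_zpowers t)
      have hs2 : s * s = 1 := by
        have e : (MulAut.conj g) (s * s) = 1 := by rw [map_mul]; exact ht
        exact (MulAut.conj g).map_eq_one_iff.1 e
      have hsc : s ∈ Subgroup.center G := by_contra fun hc => hA ⟨s, hs, hs2, hc⟩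
      show g * s * g⁻¹ ∈ Subgroup.center G
      rwa [Subgroup.mem_center_iff.1 hsc g, mul_inv_cancel_right]
    have hN : Cfsg.HasNormalPComplement 2 G := by
      refine CfsgLib.Transfer.hasNormalPComplement_iff_frobenius.2 fun D hD g hg hgo => ?_
      by_contra hgc
      have hnc : ¬ ∀ d ∈ D, g * d * g⁻¹ = d := fun hall => hgc <| Subgroup.mem_centralizer_iff.2
        fun d hd => by
          have e := hall d hd
          calc d * g = (g * d * g⁻¹) * g := by rw [e]
            _ = g * d := by group
      obtain ⟨x, hx, b, hb, hbx, hne⟩ := CfsgLib.Coprime.exists_real_of_action hcen _ D rfl hD g hg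
        (Nat.coprime_two_right.1 hgo) hnc
      obtain ⟨Q, hQ⟩ := hD.exists_le_sylow
      obtain ⟨u, rfl⟩ := MulAction.exists_smul_eq G S Q
      obtain ⟨x', hx', rfl⟩ := hQ hx
      obtain ⟨b', hb', rfl⟩ := hQ hb
      have hbx' : b' * x' * b'⁻¹ = x'⁻¹ := (MulAut.conj u).injective (by
        simp only [map_mul, map_inv]; exact hbx)
      have hcen' := hS ⟨x', hx'⟩ (isConj_iff.2 ⟨⟨b', hb'⟩, Subtype.ext hbx'⟩)
      have hcomm : b' * x' = x' * b' := congrArg Subtype.val (Subgroup.mem_center_iff.1 hcen' ⟨b', hb'⟩)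
      refine hne ?_
      show MulAut.conj u b' * MulAut.conj u x' = MulAut.conj u x' * MulAut.conj u b'
      rw [← map_mul, ← map_mul, hcomm]
    refine ⟨?_, CfsgLib.Transfer.hasNormalPComplement_subgroup L hN⟩
    obtain ⟨N, hNn, hNc, hNq⟩ := CfsgLib.Transfer.hasNormalPComplement_iff_exists.1 hN
    have := hNn
    have : Group.IsSolvable N := Cfsg.Agent.S0205.result (Nat.coprime_two_right.1 hNc)
    have : Group.IsNilpotent (G ⧸ N) := hNq.isNilpotent
    exact solvable_of_ker_le_range N.subtype (QuotientGroup.mk' N)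
      (by rw [QuotientGroup.ker_mk', Subgroup.range_subtype])

end Cfsg.Agent.S4193
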