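import Cfsg.Statements.S4194
import Cfsg.Agent.Lib.OddClassTwo.Basic

set_option autoImplicit false
open Cfsg

namespace Cfsg.Agent.S4194

/-- A finite group G has commutative Sylow 2-subgroups if and only if every 2-element of G (element of order a power of 2) is 2-central, that is, its centralizer contains a Sylow 2-subgroup of G. -/
theorem result {G : Type*} [Group G] [Finite G] (P : Sylow 2 G) :
    IsMulCommutative (P : Subgroup G) ↔ ∀ x : G, (∃ k : ℕ, orderOf x = 2 ^ k) → (∃ Q : Sylow 2 G, (Q : Subgroup G) ≤ Subgroup.centralizer ({x} : Set G)) := by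
  constructor
  · intro hP x hx
    obtain ⟨k, hk⟩ := hx
    have hz : IsPGroup 2 (Subgroup.zpowers x) :=
      IsPGroup.of_card (n := k) (by rw [Nat.card_zpowers, hk])
    obtain ⟨Q, hQ⟩ := hz.exists_le_sylow
    refine ⟨Q, fun y hy => ?_⟩
    haveI := hP
    let e := Sylow.equiv Q P
    have hc : (⟨y, hy⟩ : (Q : Subgroup G)) * ⟨x, hQ (Subgroup.mem_zpowers x)⟩ =
        ⟨x, hQ (Subgroup.mem_zpowers x)⟩ * ⟨y, hy⟩ := by
      apply e.injective
      rw [map_mul, map_mul]
      exact hP.is_comm.comm _ _
    exact Subgroup.mem_centralizer_singleton_iff.mpr (congrArg Subtype.val hc)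
  · intro h
    exact CfsgLib.OddClassTwo.sylow_commutative h P

end Cfsg.Agent.S4194
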