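import Cfsg.Statements.S4195

set_option autoImplicit false
open Cfsg

namespace Cfsg.Agent.S4195

theorem mem_normalizer_of_conj_mem {G : Type*} [Group G] [Finite G] {C : Subgroup G} (t : G)
    (h : ∀ z ∈ C, t * z * t⁻¹ ∈ C) : t ∈ Subgroup.normalizer (C : Set G) :=
  Subgroup.mem_normalizer_fintype h

theorem relIndex_sup_of_le_normalizer {G : Type*} [Group G] {C T : Subgroup G}
    (h : T ≤ Subgroup.normalizer (C : Set G)) : C.relIndex (T ⊔ C) = C.relIndex T := by
  have hle : T ⊔ C ≤ Subgroup.normalizer (C : Set G) := sup_le h Subgroup.le_normalizer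
  have : (C.subgroupOf (T ⊔ C)).Normal := (Subgroup.normal_subgroupOf_iff_le_normalizer le_sup_right).mpr hle
  have h1 := Subgroup.relIndex_sup_right (T.subgroupOf (T ⊔ C)) (C.subgroupOf (T ⊔ C))
  rw [← Subgroup.subgroupOf_sup le_sup_left le_sup_right] at h1
  rw [Subgroup.relIndex_subgroupOf le_rfl, Subgroup.relIndex_subgroupOf le_sup_left] at h1
  exact h1

/-- Let x be a non-identity element of a finite group G whose centralizer contains a Sylow 2-subgroup of G. If x is conjugate to its inverse, then x has order 2. -/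
theorem result {G : Type*} [Group G] [Finite G] (x : G) (hx : x ≠ 1) (P : Sylow 2 G) (hP : (P : Subgroup G) ≤ Subgroup.centralizer ({x} : Set G)) (hreal : IsConj x x⁻¹) : orderOf x = 2 := by
  obtain ⟨c, hc⟩ := isConj_iff.mp hreal
  -- replace `c` by its 2-part
  obtain ⟨k, m, hm, ho⟩ := Nat.exists_eq_two_pow_mul_odd (orderOf_pos c).ne'
  set C := Subgroup.centralizer ({x} : Set G)
  have hinv : ∀ n : ℕ, c ^ n * x * (c ^ n)⁻¹ = if Even n then x else x⁻¹ := by
    intro n
    induction n with
    | zero => simp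
    | succ n ih =>
      have : c ^ (n + 1) * x * (c ^ (n + 1))⁻¹ = c * (c ^ n * x * (c ^ n)⁻¹) * c⁻¹ := by
        rw [pow_succ']; group
      rw [this, ih]
      split_ifs with h1 h2 h2
      · exact absurd h2 (by simp [Nat.even_add_one, h1])
      · exact hc
      · have := congrArg (·⁻¹) hc
        simpa [mul_assoc] using this
      · exact absurd (Nat.even_add_one.mpr h1) h2
  set t := c ^ m
  have ht : t * x * t⁻¹ = x⁻¹ := by
    rw [hinv m, if_neg (Nat.not_even_iff_odd.mpr hm)]
  by_cases hC : t ∈ C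
  · have h1 : x⁻¹ = x := by
      rw [← ht, ← Subgroup.mem_centralizer_singleton_iff.mp hC |>.symm.trans rfl]; simp
    exact orderOf_eq_prime (by rw [sq]; nth_rewrite 1 [← h1]; simp) hx
  · exfalso
    -- the normaliser of `{x, x⁻¹}` has a larger 2-subgroup than a Sylow 2-subgroup
    have ht2 : t ^ 2 ^ k = 1 := by
      rw [← pow_mul, mul_comm, ← ho, pow_orderOf_eq_one]
    have hconj : ∀ z ∈ C, t * z * t⁻¹ ∈ C := by
      intro z hz
      rw [Subgroup.mem_centralizer_singleton_iff] at hz ⊢
      have hx' : t * x⁻¹ * t⁻¹ = x := by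
        have := congrArg (·⁻¹) ht
        simpa [mul_assoc] using this
      calc t * z * t⁻¹ * x = t * z * t⁻¹ * (t * x⁻¹ * t⁻¹) := by rw [hx']
        _ = t * (z * x⁻¹) * t⁻¹ := by group
        _ = t * (x⁻¹ * z) * t⁻¹ := by rw [(Commute.inv_right hz).eq]
        _ = t * x⁻¹ * t⁻¹ * (t * z * t⁻¹) := by group
        _ = x * (t * z * t⁻¹) := by rw [hx']
    let M : Subgroup G := C ⊔ Subgroup.zpowers t
    have hTn : Subgroup.zpowers t ≤ Subgroup.normalizer (C : Set G) := by
      rw [Subgroup.zpowers_le]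
      exact mem_normalizer_of_conj_mem t hconj
    have hodd : Odd (C.index) := by
      rw [Nat.odd_iff, ← Nat.two_dvd_ne_zero]
      exact fun h => P.not_dvd_index (h.trans (Subgroup.index_dvd_of_le hP))
    have h2 : C.relIndex M ∣ 2 ^ k := by
      rw [show M = Subgroup.zpowers t ⊔ C from sup_comm _ _]
      have h3 : C.relIndex (Subgroup.zpowers t ⊔ C) = C.relIndex (Subgroup.zpowers t) :=
        relIndex_sup_of_le_normalizer hTn
      rw [h3]
      refine (Subgroup.relIndex_dvd_card C (Subgroup.zpowers t)).trans ?_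
      rw [Nat.card_zpowers]
      exact orderOf_dvd_of_pow_eq_one ht2
    have h4 : C.relIndex M ∣ C.index := Subgroup.relIndex_dvd_index_of_le le_sup_left
    have h5 : C.relIndex M = 1 := Nat.eq_one_of_dvd_coprimes
      (Nat.Coprime.pow_left k (Nat.coprime_two_left.mpr hodd)) h2 h4
    exact hC (Subgroup.relIndex_eq_one.mp h5 (Subgroup.mem_sup_right (Subgroup.mem_zpowers t)))

end Cfsg.Agent.S4195
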