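import Cfsg.Statements.S4196
import Cfsg.Agent.S4195

set_option autoImplicit false
open Cfsg

namespace Cfsg.Agent.S4196

/-- A finite group G has elementary abelian Sylow 2-subgroups (commutative with every element squaring to the identity) if and only if every 2-element of G has a Sylow 2-subgroup in its centralizer and is conjugate to its inverse. -/
theorem result {G : Type*} [Group G] [Finite G] (P : Sylow 2 G) :
    (IsMulCommutative (P : Subgroup G) ∧ ∀ x ∈ (P : Subgroup G), x ^ 2 = 1) ↔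
      ∀ x : G, (∃ k : ℕ, orderOf x = 2 ^ k) → (∃ Q : Sylow 2 G, (Q : Subgroup G) ≤ Subgroup.centralizer ({x} : Set G)) ∧ IsConj x x⁻¹ := by
  constructor
  · rintro ⟨hc, h2⟩ x ⟨k, hk⟩
    obtain ⟨Q, hQ⟩ := IsPGroup.exists_le_sylow (IsPGroup.of_card (p := 2) (n := k)
      (by rw [Nat.card_zpowers, hk] : Nat.card (Subgroup.zpowers x) = 2 ^ k))
    obtain ⟨g, hg⟩ := MulAction.exists_smul_eq G P Q
    have hxQ : x ∈ (Q : Subgroup G) := hQ (Subgroup.mem_zpowers x)
    have hcQ : ∀ z ∈ (Q : Subgroup G), ∀ w ∈ (Q : Subgroup G), z * w = w * z := by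
      rw [← hg]
      intro z hz w hw
      rw [Sylow.coe_subgroup_smul, Subgroup.mem_pointwise_smul_iff_inv_smul_mem] at hz hw
      have := congrArg (Subtype.val) (hc.is_comm.comm (⟨_, hz⟩ : (P : Subgroup G)) ⟨_, hw⟩)
      simp only [Subgroup.coe_mul] at this
      rw [← smul_mul', ← smul_mul'] at this
      exact smul_left_cancel _ this
    have hx2 : x ^ 2 = 1 := by
      rw [← hg, Sylow.coe_subgroup_smul, Subgroup.mem_pointwise_smul_iff_inv_smul_mem] at hxQ
      have := h2 _ hxQ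
      rwa [← smul_pow', smul_eq_iff_eq_inv_smul, smul_one] at this
    refine ⟨⟨Q, fun z hz => Subgroup.mem_centralizer_singleton_iff.mpr (hcQ z hz x hxQ)⟩, ?_⟩
    rw [inv_eq_of_mul_eq_one_right (by rwa [← sq] : x * x = 1)]
  · intro h
    have hsq : ∀ x ∈ (P : Subgroup G), x ^ 2 = 1 := by
      intro x hx
      obtain ⟨k, hk⟩ := IsPGroup.iff_orderOf.mp P.isPGroup' ⟨x, hx⟩
      rw [← Subgroup.orderOf_coe] at hk
      obtain ⟨⟨Q, hQ⟩, hr⟩ := h x ⟨k, hk⟩
      rcases eq_or_ne x 1 with rfl | hx1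
      · simp
      · rw [← Cfsg.Agent.S4195.result x hx1 Q hQ hr, pow_orderOf_eq_one]
    refine ⟨⟨⟨fun a b => Subtype.ext ?_⟩⟩, hsq⟩
    have e : ∀ z ∈ (P : Subgroup G), z⁻¹ = z := fun z hz => inv_eq_of_mul_eq_one_right (by rw [← sq]; exact hsq z hz)
    calc (a : G) * b = ((a : G) * b)⁻¹ := (e _ (mul_mem a.2 b.2)).symm
      _ = b * a := by rw [mul_inv_rev, e _ a.2, e _ b.2]

end Cfsg.Agent.S4196
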