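import Cfsg.Statements.S4198
import Mathlib

set_option autoImplicit false
open Cfsg
open scoped Pointwise
set_option linter.style.haveILetI false

namespace Cfsg.Agent.S4198

open Equiv Equiv.Perm

theorem card_partition_five : Nat.card (Nat.Partition 5) ≤ 8 := by
  have key : ∀ P : Nat.Partition 5,
      P.parts.count 1 + 2 * P.parts.count 2 + 3 * P.parts.count 3 + 4 * P.parts.count 4
        + 5 * P.parts.count 5 = 5 := by
    intro P
    have hs : P.parts.toFinset ⊆ ({1, 2, 3, 4, 5} : Finset ℕ) := by
      intro i hi
      rw [Multiset.mem_toFinset] at hi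
      have h1 := P.parts_pos hi
      have h2 := (Multiset.le_sum_of_mem hi).trans P.parts_sum.le
      simp only [Finset.mem_insert, Finset.mem_singleton]
      omega
    have h := Finset.sum_multiset_count_of_subset P.parts _ hs
    rw [P.parts_sum] at h
    simp [mul_comm] at h
    omega
  let S : Finset (Fin 6 × Fin 6 × Fin 6 × Fin 6 × Fin 6) := Finset.univ.filter fun c =>
    c.1.1 + 2 * c.2.1.1 + 3 * c.2.2.1.1 + 4 * c.2.2.2.1.1 + 5 * c.2.2.2.2.1 = 5
  have hS : S.card ≤ 8 := by decide +kernel
  refine le_trans ?_ hS
  rw [← Nat.card_eq_finsetCard]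
  refine Nat.card_le_card_of_injective (fun P => ⟨(⟨P.parts.count 1, by have := key P; omega⟩,
    ⟨P.parts.count 2, by have := key P; omega⟩, ⟨P.parts.count 3, by have := key P; omega⟩,
    ⟨P.parts.count 4, by have := key P; omega⟩, ⟨P.parts.count 5, by have := key P; omega⟩),
    by simp only [S, Finset.mem_filter]; exact ⟨Finset.mem_univ _, key P⟩⟩) ?_
  intro P Q h
  simp only [Subtype.mk.injEq, Prod.mk.injEq, Fin.mk.injEq] at h
  refine Nat.Partition.ext (Multiset.ext.2 fun i => ?_)
  by_cases hi : 1 ≤ i ∧ i ≤ 5
  · rcases (by omega : i = 1 ∨ i = 2 ∨ i = 3 ∨ i = 4 ∨ i = 5) with rfl | rfl | rfl | rfl | rfl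
    exacts [h.1, h.2.1, h.2.2.1, h.2.2.2.1, h.2.2.2.2]
  · have h0 : ∀ R : Nat.Partition 5, R.parts.count i = 0 := by
      intro R
      refine Multiset.count_eq_zero.2 fun hm => hi ⟨R.parts_pos hm, ?_⟩
      exact (Multiset.le_sum_of_mem hm).trans R.parts_sum.le
    rw [h0, h0]

theorem sum_erase {s : Multiset ℕ} {a : ℕ} (h : a ∈ s) : (s.erase a).sum + a = s.sum := by
  conv_rhs => rw [← Multiset.cons_erase h, Multiset.sum_cons]
  exact Nat.add_comm _ _

theorem card_partition_succ (n : ℕ) :
    Nat.card (Nat.Partition (n + 1)) ≤ 2 * Nat.card (Nat.Partition n) := by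
  classical
  have hne : ∀ P : Nat.Partition (n + 1), P.parts.toFinset.Nonempty := by
    intro P
    rw [Multiset.toFinset_nonempty]
    intro h
    have := P.parts_sum
    rw [h, Multiset.sum_zero] at this
    omega
  let m : Nat.Partition (n + 1) → ℕ := fun P => P.parts.toFinset.min' (hne P)
  have hm : ∀ P, m P ∈ P.parts := fun P => Multiset.mem_toFinset.1 (Finset.min'_mem _ _)
  have hmle : ∀ P, ∀ i ∈ P.parts, m P ≤ i := fun P i hi =>
    Finset.min'_le _ _ (Multiset.mem_toFinset.2 hi)
  let f : Nat.Partition (n + 1) → Bool × Nat.Partition n := fun P =>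
    if h : m P = 1 then (true, ⟨P.parts.erase (m P), fun hi => P.parts_pos (Multiset.mem_of_mem_erase hi),
      by have := sum_erase (hm P); rw [P.parts_sum] at this; omega⟩)
    else (false, ⟨(m P - 1) ::ₘ P.parts.erase (m P), fun hi => by
        rcases Multiset.mem_cons.1 hi with rfl | hi
        · have := P.parts_pos (hm P); omega
        · exact P.parts_pos (Multiset.mem_of_mem_erase hi),
      by
        have := sum_erase (hm P)
        have := P.parts_pos (hm P)
        rw [P.parts_sum] at *
        rw [Multiset.sum_cons]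
        omega⟩)
  have hf : Function.Injective f := by
    intro P Q h
    simp only [f] at h
    split_ifs at h with hP hQ hQ
    · simp only [Prod.mk.injEq, Nat.Partition.mk.injEq, true_and] at h
      apply Nat.Partition.ext
      rw [← Multiset.cons_erase (hm P), ← Multiset.cons_erase (hm Q), h, hP, hQ]
    · simp at h
    · simp at h
    · simp only [Prod.mk.injEq, Nat.Partition.mk.injEq, true_and] at h
      have hPQ : ∀ A B : Nat.Partition (n + 1),
          (m A - 1) ::ₘ A.parts.erase (m A) = (m B - 1) ::ₘ B.parts.erase (m B) → m B - 1 ≤ m A - 1 := by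
        intro A B hAB
        have : m A - 1 ∈ (m B - 1) ::ₘ B.parts.erase (m B) := hAB ▸ Multiset.mem_cons_self _ _
        rcases Multiset.mem_cons.1 this with h' | h'
        · omega
        · have := hmle B _ (Multiset.mem_of_mem_erase h'); omega
      have h1 := hPQ P Q h
      have h2 := hPQ Q P h.symm
      have hmm : m P = m Q := by
        have := P.parts_pos (hm P); have := Q.parts_pos (hm Q); omega
      apply Nat.Partition.ext
      rw [hmm, Multiset.cons_inj_right] at h
      rw [← Multiset.cons_erase (hm P), ← Multiset.cons_erase (hm Q), hmm, h]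
  have := Nat.card_le_card_of_injective f hf
  simpa using this

theorem card_partition_le (n : ℕ) (hn : 5 ≤ n) : Nat.card (Nat.Partition n) ≤ 2 ^ (n - 2) := by
  induction n, hn using Nat.le_induction with
  | base => simpa using card_partition_five
  | succ k hk ih =>
    refine (card_partition_succ k).trans ?_
    rw [show k + 1 - 2 = k - 2 + 1 by omega, pow_succ']
    exact Nat.mul_le_mul_left 2 ih

theorem card_conjClasses_perm (α : Type*) [Fintype α] [DecidableEq α] :
    Nat.card (ConjClasses (Perm α)) = Nat.card (Nat.Partition (Fintype.card α)) := by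
  refine Nat.card_congr (Equiv.ofBijective (Quotient.lift (fun σ : Perm α => σ.partition)
    (fun a b h => partition_eq_of_isConj.1 h)) ⟨fun a b => ?_, fun P => ?_⟩)
  · refine Quotient.inductionOn₂ a b (fun σ τ h => ?_)
    exact Quotient.sound (partition_eq_of_isConj.2 h)
  · obtain ⟨g, hg⟩ := (Equiv.Perm.exists_with_cycleType_iff α (m := P.parts.filter (2 ≤ ·))).2
      ⟨by conv_rhs => rw [← P.parts_sum, ← Multiset.filter_add_not (2 ≤ ·) P.parts, Multiset.sum_add]
          exact Nat.le_add_right _ _, fun a ha => (Multiset.mem_filter.1 ha).2⟩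
    refine ⟨ConjClasses.mk g, Nat.Partition.ext ?_⟩
    show g.cycleType + Multiset.replicate (Fintype.card α - g.support.card) 1 = P.parts
    rw [← sum_cycleType, hg]
    conv_rhs => rw [← Multiset.filter_add_not (2 ≤ ·) P.parts]
    congr 1
    have h1 : ∀ i ∈ P.parts.filter (fun i => ¬ 2 ≤ i), i = 1 := fun i hi => by
      have := P.parts_pos (Multiset.mem_filter.1 hi).1
      have := (Multiset.mem_filter.1 hi).2
      omega
    have h2 := Multiset.eq_replicate_card.2 h1
    rw [h2]
    congr 1
    have h3 := P.parts_sum
    rw [← Multiset.filter_add_not (2 ≤ ·) P.parts, Multiset.sum_add] at h3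
    have h4 := congrArg Multiset.sum h2
    rw [Multiset.sum_replicate, smul_eq_mul, mul_one] at h4
    omega

/-- number of parts determines the sign -/
theorem sign_eq_neg_one_pow_partition {n : ℕ} (σ : Perm (Fin n)) :
    Perm.sign σ = (-1 : ℤˣ) ^ (n + σ.partition.parts.card) := by
  rw [sign_of_cycleType, parts_partition, Multiset.card_add, Multiset.card_replicate, ← sum_cycleType,
    Fintype.card_fin]
  have h : σ.cycleType.sum ≤ n := by rw [sum_cycleType]; simpa using Finset.card_le_univ σ.support
  obtain ⟨k, hk⟩ := Nat.le.dest h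
  rw [Int.units_pow_eq_pow_mod_two, Int.units_pow_eq_pow_mod_two _ (n + _)]
  congr 1
  omega

theorem parts_split {n : ℕ} {σ : Perm (Fin n)} (h : Subgroup.centralizer {σ} ≤ alternatingGroup (Fin n)) :
    (∀ i ∈ σ.partition.parts, Odd i) ∧ σ.partition.parts.Nodup := by
  obtain ⟨h1, h2, h3⟩ := centralizer_le_alternating_iff.1 h
  rw [parts_partition, ← sum_cycleType]
  rw [Fintype.card_fin] at h2 ⊢
  set k := n - σ.cycleType.sum
  have hk : k ≤ 1 := by omega
  constructor
  · intro i hi
    rcases Multiset.mem_add.1 hi with hi | hi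
    · exact h1 i hi
    · rw [Multiset.eq_of_mem_replicate hi]; exact odd_one
  · rw [Multiset.nodup_add]
    refine ⟨Multiset.nodup_iff_count_le_one.2 h3, ?_, ?_⟩
    · rcases (by omega : k = 0 ∨ k = 1) with hk | hk <;> simp [hk]
    · rw [Multiset.disjoint_left]
      intro i hi hi'
      have := two_le_of_mem_cycleType hi
      rw [Multiset.eq_of_mem_replicate hi'] at this
      omega

theorem card_conjClasses_alternating_lt (n : ℕ) (hn : 5 ≤ n) :
    Nat.card (ConjClasses (alternatingGroup (Fin n))) < Nat.card (Nat.Partition n) := by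
  classical
  let q : ConjClasses (alternatingGroup (Fin n)) → Nat.Partition n := fun c =>
    cast (by rw [Fintype.card_fin]) ((c.out : alternatingGroup (Fin n)) : Perm (Fin n)).partition
  have hcast : ∀ (a b : ℕ) (hab : a = b) (P : Nat.Partition a),
      (cast (congrArg Nat.Partition hab) P).parts = P.parts := by
    intro a b hab P; subst hab; rfl
  have hq : ∀ c, (q c).parts = ((c.out : alternatingGroup (Fin n)) : Perm (Fin n)).partition.parts :=
    fun c => hcast _ _ (Fintype.card_fin n) _
  have hconj : ∀ c d, q c = q d → IsConj ((c.out : alternatingGroup (Fin n)) : Perm (Fin n))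
      ((d.out : alternatingGroup (Fin n)) : Perm (Fin n)) := by
    intro c d h
    apply partition_eq_of_isConj.2
    apply Nat.Partition.ext
    rw [← hq, ← hq, h]
  -- two distinct classes over the same partition: split; a third is impossible
  have htwo : ∀ c d, q c = q d → c ≠ d →
      (∀ i ∈ (q c).parts, Odd i) ∧ (q c).parts.Nodup ∧ ∀ e, q c = q e → e = c ∨ e = d := by
    intro c d h hne
    set a := ((c.out : alternatingGroup (Fin n)) : Perm (Fin n)) with ha
    have same : ∀ (e₁ e₂ : ConjClasses (alternatingGroup (Fin n))) (t : Perm (Fin n)),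
        t ∈ alternatingGroup (Fin n) →
        t * ((e₁.out : alternatingGroup (Fin n)) : Perm (Fin n)) * t⁻¹ =
          ((e₂.out : alternatingGroup (Fin n)) : Perm (Fin n)) → e₁ = e₂ := by
      intro e₁ e₂ t ht he
      rw [← Quotient.out_eq e₁, ← Quotient.out_eq e₂]
      exact Quotient.sound (isConj_iff.2 ⟨⟨t, ht⟩, Subtype.ext he⟩)
    obtain ⟨t, ht⟩ := isConj_iff.1 (hconj c d h)
    have htodd : Perm.sign t = -1 := by
      rcases Int.units_eq_one_or (Perm.sign t) with h1 | h1
      · exact absurd (same c d t (mem_alternatingGroup.2 h1) ht) hne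
      · exact h1
    have hcen : Subgroup.centralizer {a} ≤ alternatingGroup (Fin n) := by
      intro u hu
      rw [mem_alternatingGroup]
      rcases Int.units_eq_one_or (Perm.sign u) with h1 | h1
      · exact h1
      · exfalso
        have hu' := Subgroup.mem_centralizer_iff.1 hu a rfl
        refine hne (same c d (t * u) (mem_alternatingGroup.2 (by rw [map_mul, htodd, h1]; decide)) ?_)
        calc t * u * a * (t * u)⁻¹ = t * (u * a) * u⁻¹ * t⁻¹ := by group
          _ = t * (a * u) * u⁻¹ * t⁻¹ := by rw [hu']
          _ = t * a * t⁻¹ := by group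
          _ = _ := ht
    obtain ⟨hodd, hnd⟩ := parts_split hcen
    rw [hq, ← ha]
    refine ⟨hodd, hnd, fun e he => ?_⟩
    obtain ⟨s, hs⟩ := isConj_iff.1 (hconj c e he)
    rcases Int.units_eq_one_or (Perm.sign s) with h1 | h1
    · exact Or.inl (same c e s (mem_alternatingGroup.2 h1) hs).symm
    · refine Or.inr (same d e (s * t⁻¹) (mem_alternatingGroup.2 (by
        rw [map_mul, map_inv, htodd, h1]; decide)) ?_).symm
      rw [← ht, ← ha]
      calc s * t⁻¹ * (t * a * t⁻¹) * (s * t⁻¹)⁻¹ = s * a * s⁻¹ := by group
        _ = _ := hs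
  -- move the largest part
  have hne : ∀ P : Nat.Partition n, P.parts.toFinset.Nonempty := by
    intro P
    rw [Multiset.toFinset_nonempty]
    intro h
    have := P.parts_sum
    rw [h, Multiset.sum_zero] at this
    omega
  let top : Nat.Partition n → ℕ := fun P => P.parts.toFinset.max' (hne P)
  have htop : ∀ P, top P ∈ P.parts := fun P => Multiset.mem_toFinset.1 (Finset.max'_mem _ _)
  let φ : Nat.Partition n → Nat.Partition n := fun P =>
    if h : 2 ≤ top P then
      ⟨(top P - 1) ::ₘ 1 ::ₘ P.parts.erase (top P), fun hi => by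
          rcases Multiset.mem_cons.1 hi with rfl | hi
          · omega
          · rcases Multiset.mem_cons.1 hi with rfl | hi
            · omega
            · exact P.parts_pos (Multiset.mem_of_mem_erase hi),
        by
          have := sum_erase (htop P)
          rw [P.parts_sum] at this
          rw [Multiset.sum_cons, Multiset.sum_cons]
          omega⟩
    else P
  let Split : Nat.Partition n → Prop := fun P => (∀ i ∈ P.parts, Odd i) ∧ P.parts.Nodup
  have htop3 : ∀ P, Split P → 3 ≤ top P := by
    intro P hP
    by_contra h3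
    have h1 : ∀ i ∈ P.parts, i = 1 := fun i hi => by
      have := Finset.le_max' P.parts.toFinset i (Multiset.mem_toFinset.2 hi)
      obtain ⟨j, rfl⟩ := hP.1 i hi
      simp only [top] at h3
      omega
    have h2 := Multiset.eq_replicate_card.2 h1
    have h4 := P.parts_sum
    have h5 := hP.2
    rw [h2] at h4 h5
    rw [Multiset.nodup_iff_count_le_one] at h5
    have := h5 1
    simp at h4 this
    omega
  have hφ : ∀ P, Split P → (φ P).parts = (top P - 1) ::ₘ 1 ::ₘ P.parts.erase (top P) := by
    intro P hP
    have := htop3 P hP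
    simp only [φ, dif_pos (show 2 ≤ top P by omega)]
  have hφcard : ∀ P, Split P → (φ P).parts.card = P.parts.card + 1 := by
    intro P hP
    rw [hφ P hP, Multiset.card_cons, Multiset.card_cons, Multiset.card_erase_add_one (htop P)]
  have hφinj : ∀ P Q, Split P → Split Q → φ P = φ Q → P = Q := by
    intro P Q hP hQ h
    have h' : (top P - 1) ::ₘ 1 ::ₘ P.parts.erase (top P) = (top Q - 1) ::ₘ 1 ::ₘ Q.parts.erase (top Q) := by
      rw [← hφ P hP, ← hφ Q hQ, h]
    have h1 := htop3 P hP
    have h2 := htop3 Q hQ
    have hmm : top P = top Q := by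
      have hmem : top P - 1 ∈ (top Q - 1) ::ₘ 1 ::ₘ Q.parts.erase (top Q) := h' ▸ Multiset.mem_cons_self _ _
      rcases Multiset.mem_cons.1 hmem with h3 | h3
      · omega
      · rcases Multiset.mem_cons.1 h3 with h3 | h3
        · omega
        · obtain ⟨i, hi⟩ := hP.1 _ (htop P)
          obtain ⟨j, hj⟩ := hQ.1 _ (Multiset.mem_of_mem_erase h3)
          omega
    rw [hmm, Multiset.cons_inj_right, Multiset.cons_inj_right] at h'
    apply Nat.Partition.ext
    rw [← Multiset.cons_erase (htop P), ← Multiset.cons_erase (htop Q), hmm, h']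
  -- the map
  let rep : ConjClasses (alternatingGroup (Fin n)) → ConjClasses (alternatingGroup (Fin n)) :=
    fun c => if h : ∃ d, q d = q c then h.choose else c
  have hrepq : ∀ c, q (rep c) = q c := fun c => by
    have h : ∃ d, q d = q c := ⟨c, rfl⟩
    simp only [rep, dif_pos h]
    exact h.choose_spec
  have hrepcongr : ∀ c d, q c = q d → rep c = rep d := by
    intro c d h
    simp only [rep, dif_pos (show ∃ e, q e = q c from ⟨c, rfl⟩),
      dif_pos (show ∃ e, q e = q d from ⟨d, rfl⟩)]
    congr 1
    rw [h]
  let Φ : ConjClasses (alternatingGroup (Fin n)) → Nat.Partition n :=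
    fun c => if rep c = c then q c else φ (q c)
  have hsplit : ∀ c, rep c ≠ c → Split (q c) := fun c hc =>
    ⟨(htwo c (rep c) (hrepq c).symm (Ne.symm hc)).1, (htwo c (rep c) (hrepq c).symm (Ne.symm hc)).2.1⟩
  have heven : ∀ c, Even (n + (q c).parts.card) := by
    intro c
    rw [hq]
    have := mem_alternatingGroup.1 (c.out : alternatingGroup (Fin n)).2
    rw [sign_eq_neg_one_pow_partition] at this
    exact (neg_one_pow_eq_one_iff_even (R := ℤˣ) (by decide)).1 this
  have hmix : ∀ c d, rep c = c → rep d ≠ d → Φ c ≠ Φ d := by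
    intro c d hc hd h
    simp only [Φ, if_pos hc, if_neg hd] at h
    have h1 := heven c
    have h2 := heven d
    rw [h, hφcard _ (hsplit d hd)] at h1
    rw [Nat.even_iff] at h1 h2
    omega
  have hΦ : Function.Injective Φ := by
    intro c d h
    by_cases hc : rep c = c <;> by_cases hd : rep d = d
    · simp only [Φ, if_pos hc, if_pos hd] at h
      rw [← hc, ← hd, hrepcongr c d h]
    · exact absurd h (hmix c d hc hd)
    · exact absurd h.symm (hmix d c hd hc)
    · simp only [Φ, if_neg hc, if_neg hd] at h
      have hqq := hφinj _ _ (hsplit c hc) (hsplit d hd) h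
      by_contra hne'
      have hr : rep c = rep d := hrepcongr c d hqq
      rcases (htwo c d hqq hne').2.2 (rep c) (hrepq c).symm with h1 | h1
      · exact hc h1
      · exact hd (hr ▸ h1)
  let P0 : Nat.Partition n := ⟨2 ::ₘ Multiset.replicate (n - 2) 1, fun hi => by
      rcases Multiset.mem_cons.1 hi with rfl | hi
      · omega
      · rw [Multiset.eq_of_mem_replicate hi]; omega, by simp; omega⟩
  have hP0 : ∀ c, Φ c ≠ P0 := by
    intro c h
    by_cases hc : rep c = c
    · simp only [Φ, if_pos hc] at h
      have h1 := heven c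
      rw [h, Nat.even_iff] at h1
      simp [P0] at h1
      omega
    · simp only [Φ, if_neg hc] at h
      have hs := hsplit c hc
      have h2 : ((φ (q c)).parts).count 1 = n - 2 := by
        rw [h]; simp [P0]
      rw [hφ _ hs] at h2
      have h3 : ((q c).parts.erase (top (q c))).count 1 ≤ 1 :=
        (Multiset.count_le_of_le _ (Multiset.erase_le _ _)).trans (Multiset.nodup_iff_count_le_one.1 hs.2 1)
      have := htop3 _ hs
      rw [Multiset.count_cons_of_ne (by omega), Multiset.count_cons_self] at h2
      omega
  have := Fintype.card_lt_of_injective_of_notMem Φ hΦ (b := P0) (by rintro ⟨c, hc⟩; exact hP0 c hc)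
  simpa [← Nat.card_eq_fintype_card] using this

/-- For n ≥ 5 the alternating group of degree n has strictly fewer conjugacy classes than the symmetric group of degree n, and the symmetric group of degree n (whose classes correspond to the partitions of n) has at most 2^(n−2) conjugacy classes. -/
theorem result (n : ℕ) (hn : 5 ≤ n) : Nat.card (ConjClasses (alternatingGroup (Fin n))) < Nat.card (ConjClasses (Equiv.Perm (Fin n))) ∧ Nat.card (ConjClasses (Equiv.Perm (Fin n))) ≤ 2 ^ (n - 2) := by
  rw [card_conjClasses_perm, Fintype.card_fin]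
  exact ⟨card_conjClasses_alternating_lt n hn, card_partition_le n hn⟩

end Cfsg.Agent.S4198
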