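import Cfsg.Statements.S4200
import Cfsg.Agent.Lib.StructC.ClassCount

set_option autoImplicit false
open Cfsg

namespace Cfsg.Agent.S4200

/-- Let Y be a subgroup of the finite group X, of index m. Then the numbers of conjugacy classes satisfy k(Y) ≤ m·k(X) and k(X) ≤ m·k(Y), and the second inequality is strict unless Y is normal in X. -/
theorem result {X : Type*} [Group X] [Finite X] (Y : Subgroup X) : Nat.card (ConjClasses Y) ≤ Y.index * Nat.card (ConjClasses X) ∧ Nat.card (ConjClasses X) ≤ Y.index * Nat.card (ConjClasses Y) ∧ (¬ Y.Normal → Nat.card (ConjClasses X) < Y.index * Nat.card (ConjClasses Y)) := by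
  classical
  have := Fintype.ofFinite X
  let c : X → ℕ := fun x => Nat.card (Subgroup.centralizer ({x} : Set X))
  let d : X → ℕ := fun x => Nat.card ↥(Subgroup.centralizer ({x} : Set X) ⊓ Y)
  have hX : ∑ x, c x = Nat.card (ConjClasses X) * Nat.card X := CfsgLib.StructC.sum_card_centralizer X
  have hY : ∑ y : Y, d y = Nat.card (ConjClasses Y) * Nat.card Y := by
    rw [← CfsgLib.StructC.sum_card_centralizer Y]
    exact Finset.sum_congr rfl fun y _ => (CfsgLib.StructC.card_centralizer_subgroup Y y).symm
  have hdc : ∑ x, d x = ∑ y : Y, c y := CfsgLib.StructC.sum_card_inf_centralizer Y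
  have hle : ∀ x, c x ≤ Y.index * d x := fun x => CfsgLib.StructC.card_le_index_mul _ Y
  have hcard : Nat.card Y * Y.index = Nat.card X := Y.card_mul_index
  have hYpos : 0 < Nat.card Y := Nat.card_pos
  have hdle : ∀ x, d x ≤ c x := fun x => Subgroup.card_le_of_le inf_le_left
  have hm : 0 < Y.index := Nat.pos_of_ne_zero Subgroup.index_ne_zero_of_finite
  have hup : Nat.card (ConjClasses X) * Nat.card X ≤ Y.index * ∑ y : Y, c y := by
    rw [← hX, ← hdc, Finset.mul_sum]
    exact Finset.sum_le_sum fun x _ => hle x
  refine ⟨?_, ?_, ?_⟩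
  · have h1 : ∑ y : Y, d y ≤ ∑ y : Y, c y := Finset.sum_le_sum fun y _ => hdle y
    have h2 : ∑ y : Y, c y ≤ ∑ x, c x := by
      rw [← Finset.sum_subtype (Finset.univ.filter (fun x => x ∈ Y)) (fun x => by simp) c]
      exact Finset.sum_le_sum_of_subset (Finset.filter_subset _ _)
    rw [hY] at h1
    rw [hX, ← hcard] at h2
    have h3 := h1.trans h2
    refine Nat.le_of_mul_le_mul_right ?_ hYpos
    calc _ ≤ _ := h3
      _ = _ := by ring
  · have h1 : ∑ y : Y, c y ≤ Y.index * ∑ y : Y, d y := by
      rw [Finset.mul_sum]; exact Finset.sum_le_sum fun y _ => hle y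
    have h2 := hup.trans (Nat.mul_le_mul_left _ h1)
    rw [hY, ← hcard] at h2
    exact Nat.le_of_mul_le_mul_right (h2.trans (le_of_eq (show _ = Y.index * Nat.card (ConjClasses Y) * (Nat.card Y * Y.index) by ring))) (Nat.mul_pos hYpos hm)
  · intro hN
    obtain ⟨y, hy⟩ : ∃ y : Y, c y < Y.index * d y := by
      by_contra hc
      push Not at hc
      refine hN ⟨fun y hy g => ?_⟩
      -- every coset of `Y` meets the centralizer of `y`
      set C := Subgroup.centralizer ({y} : Set X)
      have heq : c y = Y.index * d y := le_antisymm (hle y) (hc ⟨y, hy⟩)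
      have h1 : Nat.card ↥(C ⊓ Y) * Y.relIndex C = Nat.card C := by
        rw [← Subgroup.inf_relIndex_left,
          ← Nat.card_congr (Subgroup.subgroupOfEquivOfLe (inf_le_left : C ⊓ Y ≤ C)).toEquiv]
        exact Subgroup.card_mul_index _
      have h2 : Y.relIndex C = Y.index := by
        apply Nat.eq_of_mul_eq_mul_left (show 0 < Nat.card ↥(C ⊓ Y) from Nat.card_pos)
        rw [h1, mul_comm]; exact heq
      have hinj : Function.Injective (fun q : C ⧸ Y.subgroupOf C =>
          Quotient.liftOn' q (fun z => ((z : X) : X ⧸ Y)) (fun a b hab => by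
            rw [QuotientGroup.leftRel_apply] at hab
            exact QuotientGroup.eq.mpr hab)) := by
        intro a b
        induction a using QuotientGroup.induction_on with
        | _ a =>
          induction b using QuotientGroup.induction_on with
          | _ b =>
            intro hab
            have hab' : ((a : X) : X ⧸ Y) = ((b : X) : X ⧸ Y) := hab
            exact QuotientGroup.eq.mpr (show ((a⁻¹ * b : C) : X) ∈ Y from QuotientGroup.eq.mp hab')
      have hsurj := (Nat.bijective_iff_injective_and_card _).mpr ⟨hinj, h2⟩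
      obtain ⟨q, hq⟩ := hsurj.2 (g⁻¹ : X)
      induction q using QuotientGroup.induction_on with
      | _ z =>
        have hgz : (g⁻¹ : X)⁻¹ * z ∈ Y := QuotientGroup.eq.mp hq.symm
        simp only [inv_inv] at hgz
        have hz : (z : X) * y = y * z := Subgroup.mem_centralizer_singleton_iff.mp z.2
        have h3 := Y.mul_mem (Y.mul_mem hgz hy) (Y.inv_mem hgz)
        convert h3 using 1
        rw [mul_inv_rev, show g * (z : X) * y = g * y * z by rw [mul_assoc, hz, ← mul_assoc]]
        group
    have h1 : ∑ y : Y, c y < Y.index * ∑ y : Y, d y := by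
      rw [Finset.mul_sum]
      exact Finset.sum_lt_sum (fun y _ => hle y) ⟨y, Finset.mem_univ _, hy⟩
    have h2 := hup.trans_lt (Nat.mul_lt_mul_of_pos_left h1 hm)
    rw [hY, ← hcard] at h2
    exact Nat.lt_of_mul_lt_mul_right (h2.trans_eq (show _ = Y.index * Nat.card (ConjClasses Y) * (Nat.card Y * Y.index) by ring))

end Cfsg.Agent.S4200
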