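import Cfsg.Statements.S4204
import Cfsg.Agent.Lib.StructC.Commutator

set_option autoImplicit false
open Cfsg

namespace Cfsg.Agent.S4204

/-- If `H` and `K` are normal subgroups of a finite group with `H` nilpotent of class at most `c` and `K` nilpotent of class at most `d` (the terms with index `c`, respectively `d`, of their lower central series are trivial, indices starting at `0`), then `HK` is nilpotent of class at most `c + d`. -/
theorem result {G : Type*} [Group G] [Finite G] (H K : Subgroup G) [H.Normal] [K.Normal] (c d : ℕ) (hH : H.lowerCentralSeries c = ⊥) (hK : K.lowerCentralSeries d = ⊥) : (H ⊔ K).lowerCentralSeries (c + d) = ⊥ := by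
  classical
  -- filtration `T m`: the join of `A i ⊓ B (m - i)`
  let A : ℕ → Subgroup G := fun i => if i = 0 then ⊤ else H.lowerCentralSeries (i - 1)
  let B : ℕ → Subgroup G := fun i => if i = 0 then ⊤ else K.lowerCentralSeries (i - 1)
  let T : ℕ → Subgroup G := fun m => ⨆ i : Fin (m + 1), A i ⊓ B (m - i)
  have hA : ∀ i, (A i).Normal := by
    intro i; simp only [A]; split_ifs
    · infer_instance
    · exact CfsgLib.StructC.normal_lowerCentralSeries H _
  have hB : ∀ i, (B i).Normal := by
    intro i; simp only [B]; split_ifs
    · infer_instance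
    · exact CfsgLib.StructC.normal_lowerCentralSeries K _
  have hT : ∀ m, (T m).Normal := fun m => by
    have : ∀ i : Fin (m + 1), (A i ⊓ B (m - i)).Normal := fun i => by
      have := hA i; have := hB (m - i); infer_instance
    exact Subgroup.iSup_normal _
  have stepA : ∀ i, ⁅A i, H⁆ ≤ A (i + 1) := by
    intro i; rcases Nat.eq_zero_or_pos i with rfl | hi
    · simpa [A] using Subgroup.commutator_le_right (⊤ : Subgroup G) H
    · obtain ⟨k, rfl⟩ : ∃ k, i = k + 1 := ⟨i - 1, by omega⟩
      simp [A]
  have stepB : ∀ i, ⁅B i, K⁆ ≤ B (i + 1) := by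
    intro i; rcases Nat.eq_zero_or_pos i with rfl | hi
    · simpa [B] using Subgroup.commutator_le_right (⊤ : Subgroup G) K
    · obtain ⟨k, rfl⟩ : ∃ k, i = k + 1 := ⟨i - 1, by omega⟩
      simp [B]
  have hle : ∀ m i, i ≤ m → A i ⊓ B (m - i) ≤ T m := fun m i hi =>
    le_iSup (fun i : Fin (m + 1) => A i ⊓ B (m - i)) ⟨i, by omega⟩
  have key : ∀ m, (H ⊔ K).lowerCentralSeries m ≤ T (m + 1) := by
    intro m
    induction m with
    | zero =>
      rw [Subgroup.lowerCentralSeries_zero]
      refine sup_le ?_ ?_
      · exact le_trans (by simp [A, B]) (hle 1 1 le_rfl)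
      · exact le_trans (by simp [A, B]) (hle 1 0 (by omega))
    | succ m ih =>
      rw [Subgroup.lowerCentralSeries_succ]
      refine (Subgroup.commutator_mono ih le_rfl).trans ?_
      have := hT (m + 1 + 1)
      refine CfsgLib.StructC.iSup_commutator_le fun i => ?_
      have hi := i.2
      have := hA i; have := hB (m + 1 - i)
      refine CfsgLib.StructC.commutator_sup_le_normal ?_ ?_
      · refine le_trans (le_inf ?_ ?_) (hle (m + 1 + 1) (i + 1) (by omega))
        · exact (Subgroup.commutator_mono inf_le_left le_rfl).trans (stepA i)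
        · rw [show m + 1 + 1 - (↑i + 1) = m + 1 - ↑i by omega]
          exact (Subgroup.commutator_mono inf_le_right le_rfl).trans (Subgroup.commutator_le_left _ _)
      · refine le_trans (le_inf ?_ ?_) (hle (m + 1 + 1) i (by omega))
        · exact (Subgroup.commutator_mono inf_le_left le_rfl).trans (Subgroup.commutator_le_left _ _)
        · rw [show m + 1 + 1 - ↑i = m + 1 - ↑i + 1 by omega]
          exact (Subgroup.commutator_mono inf_le_right le_rfl).trans (stepB _)
  have mono : ∀ (S : Subgroup G) [S.Normal] (i j : ℕ), i ≤ j →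
      S.lowerCentralSeries j ≤ S.lowerCentralSeries i := by
    intro S _ i j hij
    induction j, hij using Nat.le_induction with
    | base => rfl
    | succ j _ ih =>
      have := CfsgLib.StructC.normal_lowerCentralSeries S j
      rw [Subgroup.lowerCentralSeries_succ]
      exact (Subgroup.commutator_le_left _ _).trans ih
  rw [eq_bot_iff]
  refine (key (c + d)).trans (iSup_le fun i => ?_)
  by_cases hi : c < (i : ℕ)
  · refine inf_le_left.trans ?_
    simp only [A, if_neg (show (i : ℕ) ≠ 0 by omega)]
    exact (mono H c ((i : ℕ) - 1) (by omega)).trans hH.le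
  · refine inf_le_right.trans ?_
    simp only [B, if_neg (show c + d + 1 - (i : ℕ) ≠ 0 by omega)]
    exact (mono K d (c + d + 1 - (i : ℕ) - 1) (by omega)).trans hK.le

end Cfsg.Agent.S4204
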