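import Cfsg.Statements.S4205

set_option autoImplicit false
open Cfsg
open scoped commutatorElement

namespace Cfsg.Agent.S4205

/-- In a finite group whose upper central series reaches the whole group at step `c` (nilpotent of class at most `c`), starting from any subgroup and taking normalizers `c` times reaches the whole group. -/
theorem result {G : Type*} [Group G] [Finite G] (c : ℕ) (hG : Subgroup.upperCentralSeries G c = ⊤) (H : Subgroup G) : (fun K : Subgroup G => Subgroup.normalizer (K : Set G))^[c] H = ⊤ := by
  have key : ∀ i ≤ c, Subgroup.upperCentralSeries G i ≤
      (fun K : Subgroup G => Subgroup.normalizer (K : Set G))^[i] H := by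
    intro i
    induction i with
    | zero => intro _; simp
    | succ i ih =>
      intro hi x hx
      rw [Function.iterate_succ_apply']
      have ih' := ih (by omega)
      set K := (fun K : Subgroup G => Subgroup.normalizer (K : Set G))^[i] H
      have hx' : ∀ y, ⁅x, y⁆ ∈ K := fun y => ih' (Subgroup.mem_upperCentralSeries_succ_iff.mp hx y)
      show x ∈ Subgroup.normalizer (K : Set G)
      refine Subgroup.mem_normalizer_iff.mpr fun y => ⟨fun hy => ?_, fun hy => ?_⟩
      · have := K.mul_mem (hx' y) hy
        simpa [commutatorElement_def, mul_assoc] using this
      · have := K.mul_mem (K.inv_mem (hx' y)) hy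
        simpa [commutatorElement_def, mul_assoc] using this
  exact top_le_iff.mp (hG.symm.le.trans (key c le_rfl))

end Cfsg.Agent.S4205
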