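import Cfsg.Statements.S4207
import Cfsg.Agent.Lib.StructC.BurnsideBasis

set_option autoImplicit false
open Cfsg
open scoped Pointwise
set_option linter.style.haveILetI false

namespace Cfsg.Agent.S4207

/-- Let `P` be a group of order `p^n` whose Frattini subgroup has index `p^r`. Then any group of automorphisms of `P` each of which induces the identity on the Frattini quotient has order dividing `p^(r(n-r))`; in particular it is a `p`-group. -/
theorem result {P : Type*} [Group P] [Finite P] {p n r : ℕ} [Fact p.Prime] (hP : Nat.card P = p ^ n) (hr : (frattini P).index = p ^ r) (A : Subgroup (MulAut P)) (hA : ∀ α ∈ A, ∀ x : P, α x * x⁻¹ ∈ frattini P) : Nat.card A ∣ p ^ (r * (n - r)) := by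
  classical
  have hp : IsPGroup p P := IsPGroup.of_card hP
  have hΦ : Nat.card (frattini P) = p ^ (n - r) := by
    have h := (frattini P).card_mul_index
    rw [hr, hP] at h
    have hle : r ≤ n := (Nat.pow_dvd_pow_iff_le_right (Fact.out : p.Prime).one_lt).1
      ⟨Nat.card (frattini P), by rw [← h, mul_comm]⟩
    have e : p ^ n = p ^ (n - r) * p ^ r := by rw [← pow_add, Nat.sub_add_cancel hle]
    rw [e] at h
    exact Nat.eq_of_mul_eq_mul_right (pow_pos (Fact.out : p.Prime).pos r) h
  have hcard := CfsgLib.StructC.card_generating_tuples hp hr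
  have hpos : 0 < ∏ i ∈ Finset.range r, (p ^ r - p ^ i) :=
    Finset.prod_pos fun i hi => Nat.sub_pos_of_lt
      (Nat.pow_lt_pow_right (Fact.out : p.Prime).one_lt (Finset.mem_range.1 hi))
  obtain ⟨⟨f0, hf0⟩⟩ := (Nat.card_pos_iff.1 (hcard ▸ hpos)).1
  let T : Set (Fin r → P) :=
    {f | (fun i => (QuotientGroup.mk (f i) : P ⧸ frattini P)) ∈ ({f0} : Set _)}
  have h1 := CfsgLib.StructC.card_aut_dvd_card_tuples A T (fun α hα f hf => ?_) (fun f hf => ?_)
  · have h2 : Nat.card T = 1 * Nat.card (frattini P) ^ r := by
      rw [← Nat.card_unique (α := ({f0} : Set (Fin r → P ⧸ frattini P)))]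
      exact CfsgLib.StructC.card_tuples_mk_mem (P := P) ({f0} : Set (Fin r → P ⧸ frattini P))
    rw [h2, one_mul, hΦ, ← pow_mul, mul_comm] at h1
    exact h1
  · show _ = f0
    rw [← (hf : _ = f0)]
    funext i
    rw [eq_comm, QuotientGroup.eq]
    have h := hA α hα (f i)
    have := Subgroup.Normal.mem_comm (inferInstance : (frattini P).Normal) h
    exact this
  · exact CfsgLib.StructC.closure_eq_top_of_frattini f (by
      rw [(hf : (fun i => (QuotientGroup.mk (f i) : P ⧸ frattini P)) = f0), hf0])

end Cfsg.Agent.S4207
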