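import Cfsg.Statements.S4208
import Cfsg.Agent.Lib.StructC.BurnsideBasis

set_option autoImplicit false
open Cfsg
open scoped Pointwise
set_option linter.style.haveILetI false

namespace Cfsg.Agent.S4208

/-- Let `P` be a group of order `p^n` whose Frattini subgroup has index `p^r`. Then the order of the automorphism group of `P` divides `p^(r(n-r)) · (p^r - 1)(p^r - p) ⋯ (p^r - p^(r-1))`. -/
theorem result {P : Type*} [Group P] [Finite P] {p n r : ℕ} [Fact p.Prime] (hP : Nat.card P = p ^ n) (hr : (frattini P).index = p ^ r) : Nat.card (MulAut P) ∣ p ^ (r * (n - r)) * ∏ i ∈ Finset.range r, (p ^ r - p ^ i) := by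
  classical
  have hp : IsPGroup p P := IsPGroup.of_card hP
  have hΦ : Nat.card (frattini P) = p ^ (n - r) := by
    have h := (frattini P).card_mul_index
    rw [hr, hP] at h
    have hle : r ≤ n := (Nat.pow_dvd_pow_iff_le_right (Fact.out : p.Prime).one_lt).1
      ⟨Nat.card (frattini P), by rw [← h, mul_comm]⟩
    have e : p ^ n = p ^ (n - r) * p ^ r := by rw [← pow_add, Nat.sub_add_cancel hle]
    rw [e] at h
    exact Nat.eq_of_mul_eq_mul_right (pow_pos (Fact.out : p.Prime).pos r) h
  let S : Set (Fin r → P ⧸ frattini P) := {f | Subgroup.closure (Set.range f) = ⊤}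
  let T : Set (Fin r → P) := {f | (fun i => (QuotientGroup.mk (f i) : P ⧸ frattini P)) ∈ S}
  have h1 := CfsgLib.StructC.card_aut_dvd_card_tuples (⊤ : Subgroup (MulAut P)) T
    (fun α _ f hf => ?_) (fun f hf => CfsgLib.StructC.closure_eq_top_of_frattini f hf)
  · have h2 : Nat.card T = Nat.card S * Nat.card (frattini P) ^ r :=
      CfsgLib.StructC.card_tuples_mk_mem S
    have hS : Nat.card S = ∏ i ∈ Finset.range r, (p ^ r - p ^ i) :=
      CfsgLib.StructC.card_generating_tuples hp hr
    rw [Subgroup.card_top, h2, hS, hΦ, ← pow_mul, mul_comm _ (p ^ _), mul_comm (n - r) r] at h1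
    exact h1
  · have htop := CfsgLib.StructC.closure_eq_top_of_frattini f hf
    show Subgroup.closure (Set.range fun i => (QuotientGroup.mk (α (f i)) : P ⧸ frattini P)) = ⊤
    have e : Subgroup.closure (Set.range fun i => (QuotientGroup.mk (α (f i)) : P ⧸ frattini P)) =
        (Subgroup.closure (Set.range f)).map
          ((QuotientGroup.mk' (frattini P)).comp α.toMonoidHom) := by
      rw [MonoidHom.map_closure, ← Set.range_comp]; rfl
    rw [e, htop, ← MonoidHom.range_eq_map, MonoidHom.range_eq_top]
    exact (QuotientGroup.mk'_surjective _).comp α.surjective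

end Cfsg.Agent.S4208
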