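import Cfsg.Statements.S4211
import Mathlib
import Cfsg.Agent.Lib.StructC.QuatPair
import Cfsg.Agent.Lib.Invol.TwoGroups

set_option autoImplicit false
open Cfsg
open scoped Pointwise
set_option linter.style.haveILetI false

namespace Cfsg.Agent.S4211

variable {G : Type*} [Group G] [Finite G]

/-- The normality of cyclic subgroups puts commutators into both factors. -/
theorem commutator_mem_zpowers (hn : ∀ H : Subgroup G, H.Normal) (a b : G) :
    a * b * a⁻¹ * b⁻¹ ∈ Subgroup.zpowers a ∧ a * b * a⁻¹ * b⁻¹ ∈ Subgroup.zpowers b := by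
  refine ⟨?_, mul_mem ((hn _).conj_mem b (Subgroup.mem_zpowers b) a) (inv_mem (Subgroup.mem_zpowers b))⟩
  rw [show a * b * a⁻¹ * b⁻¹ = a * (b * a⁻¹ * b⁻¹) by group]
  exact mul_mem (Subgroup.mem_zpowers a) ((hn _).conj_mem a⁻¹ (inv_mem (Subgroup.mem_zpowers a)) b)

theorem pow_comm_eq_one {a b c : G} (hc : a * b * a⁻¹ * b⁻¹ = c) (hca : Commute c a) {k : ℕ}
    (h : Commute (a ^ k) b) : c ^ k = 1 := by
  have h1 : b * a * b⁻¹ = c⁻¹ * a := by rw [← hc]; group
  have h2 : b * a ^ k * b⁻¹ = (c⁻¹) ^ k * a ^ k := by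
    rw [← conj_pow, h1, (hca.inv_left).mul_pow]
  rw [← h.eq, mul_inv_cancel_right, eq_comm, inv_pow, mul_eq_right, inv_eq_one] at h2
  exact h2

theorem exists_quaternion_pair (hn : ∀ H : Subgroup G, H.Normal) {a₀ b₀ : G} (h₀ : ¬ Commute a₀ b₀)
    (S : Subgroup G) (ha₀ : a₀ ∈ S) (hb₀ : b₀ ∈ S) :
    ∃ a ∈ S, ∃ b ∈ S, orderOf a = 4 ∧ b * b = a ^ 2 ∧ b * a * b⁻¹ = a⁻¹ ∧ ¬ Commute a b := by
  classical
  have hex : ∃ s, ∃ a ∈ S, ∃ b ∈ S, ¬ Commute a b ∧ orderOf b ≤ orderOf a ∧ orderOf a + orderOf b = s := by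
    rcases le_total (orderOf b₀) (orderOf a₀) with h | h
    · exact ⟨_, a₀, ha₀, b₀, hb₀, h₀, h, rfl⟩
    · exact ⟨_, b₀, hb₀, a₀, ha₀, fun h' => h₀ h'.symm, h, rfl⟩
  obtain ⟨a, haS, b, hbS, hab, hle, hsum⟩ := Nat.find_spec hex
  have hmin : ∀ x ∈ S, ∀ y ∈ S, orderOf x + orderOf y < orderOf a + orderOf b → Commute x y := by
    intro x hx y hy hlt
    by_contra hc
    rcases le_total (orderOf y) (orderOf x) with h | h
    · exact Nat.find_min hex (hsum ▸ hlt) ⟨x, hx, y, hy, hc, h, rfl⟩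
    · exact Nat.find_min hex (hsum ▸ (add_comm (orderOf y) _ ▸ hlt)) ⟨y, hy, x, hx, fun h' => hc h'.symm, h, rfl⟩
  obtain ⟨hca', hcb'⟩ := commutator_mem_zpowers hn a b
  generalize hc : a * b * a⁻¹ * b⁻¹ = c at hca' hcb'
  have hca : Commute c a := by
    obtain ⟨i, rfl⟩ := Subgroup.mem_zpowers_iff.1 hca'
    exact (Commute.refl a).zpow_left i
  have hcb : Commute c b := by
    obtain ⟨i, rfl⟩ := Subgroup.mem_zpowers_iff.1 hcb'
    exact (Commute.refl b).zpow_left i
  have hc1 : c ≠ 1 := fun h => hab (by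
    rw [h, mul_inv_eq_one, mul_inv_eq_iff_eq_mul] at hc; exact hc)
  have hlow : ∀ (x : G), ∀ q : ℕ, q.Prime → q ∣ orderOf x → orderOf (x ^ q) < orderOf x := by
    intro x q hq hd
    rw [orderOf_pow_of_dvd hq.ne_zero hd]
    exact Nat.div_lt_self (orderOf_pos x) hq.one_lt
  have hpa : ∀ q : ℕ, q.Prime → q ∣ orderOf a → c ^ q = 1 := fun q hq hd =>
    pow_comm_eq_one hc hca (hmin _ (pow_mem haS q) _ hbS (Nat.add_lt_add_right (hlow a q hq hd) _))
  have hpb : ∀ q : ℕ, q.Prime → q ∣ orderOf b → c ^ q = 1 := by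
    intro q hq hd
    have h1 := pow_comm_eq_one (c := c⁻¹) (a := b) (b := a) (by rw [← hc]; group) hcb.inv_left
      (hmin _ haS _ (pow_mem hbS q) (Nat.add_lt_add_left (hlow b q hq hd) _)).symm
    rwa [inv_pow, inv_eq_one] at h1
  have ha1 : orderOf a ≠ 1 := fun h => hab (by rw [orderOf_eq_one_iff.1 h]; exact Commute.one_left b)
  have hb1 : orderOf b ≠ 1 := fun h => hab (by rw [orderOf_eq_one_iff.1 h]; exact Commute.one_right a)
  set p := (orderOf a).minFac
  have hp : p.Prime := Nat.minFac_prime ha1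
  haveI : Fact p.Prime := ⟨hp⟩
  have hcp : orderOf c = p := orderOf_eq_prime (hpa p hp (Nat.minFac_dvd _)) hc1
  have honly : ∀ x : G, orderOf x ≠ 1 → (∀ q : ℕ, q.Prime → q ∣ orderOf x → c ^ q = 1) →
      ∃ m, 1 ≤ m ∧ orderOf x = p ^ m := by
    intro x hx hq
    refine ⟨(orderOf x).primeFactorsList.length, ?_, Nat.eq_prime_pow_of_unique_prime_dvd (orderOf_pos x).ne' ?_⟩
    · rcases Nat.eq_zero_or_pos (orderOf x).primeFactorsList.length with h | h
      · rw [List.length_eq_zero_iff, Nat.primeFactorsList_eq_nil] at h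
        rcases h with h | h
        · exact absurd h (orderOf_pos x).ne'
        · exact absurd h hx
      · exact h
    · intro d hd hdx
      have := orderOf_dvd_of_pow_eq_one (hq d hd hdx)
      rw [hcp] at this
      exact ((Nat.prime_dvd_prime_iff_eq hp hd).1 this).symm
  obtain ⟨m, hm1, hm⟩ := honly a ha1 hpa
  obtain ⟨n, hn1, hnb⟩ := honly b hb1 hpb
  have hnm : n ≤ m := (Nat.pow_le_pow_iff_right hp.one_lt).1 (hm ▸ hnb ▸ hle)
  obtain ⟨m', rfl⟩ : ∃ m', m = m' + 1 := ⟨m - 1, by omega⟩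
  obtain ⟨n', rfl⟩ : ∃ n', n = n' + 1 := ⟨n - 1, by omega⟩
  obtain ⟨d, hd⟩ : ∃ d, m' = n' + d := ⟨m' - n', by omega⟩
  -- the subgroup of order `p` is `⟨c⟩` in both
  have hroot : ∀ (x : G) (k : ℕ), orderOf x = p ^ (k + 1) → c ∈ Subgroup.zpowers x →
      orderOf (x ^ p ^ k) = p ∧ Subgroup.zpowers (x ^ p ^ k) = Subgroup.zpowers c := by
    intro x k hx hcx
    have ho : orderOf (x ^ p ^ k) = p := by
      rw [orderOf_pow_of_dvd (pow_ne_zero _ hp.ne_zero) (hx ▸ pow_dvd_pow p (Nat.le_succ k)), hx, pow_succ,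
        Nat.mul_div_cancel_left _ (pow_pos hp.pos k)]
    refine ⟨ho, ?_⟩
    have hle' : Subgroup.zpowers c ≤ Subgroup.zpowers (x ^ p ^ k) := by
      rw [Subgroup.zpowers_le]
      obtain ⟨i, rfl⟩ := Subgroup.mem_zpowers_iff.1 hcx
      have h1 : (x ^ i) ^ p = 1 := hcp ▸ pow_orderOf_eq_one _
      rw [← zpow_natCast (x ^ i) p, ← zpow_mul, ← orderOf_dvd_iff_zpow_eq_one, hx, pow_succ,
        Nat.cast_mul] at h1
      obtain ⟨j, hj⟩ := (mul_dvd_mul_iff_right (Int.natCast_ne_zero.2 hp.ne_zero)).1 h1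
      exact Subgroup.mem_zpowers_iff.2 ⟨j, by rw [← zpow_natCast x (p ^ k), ← zpow_mul, hj]⟩
    exact (Subgroup.eq_of_le_of_card_ge hle' (by rw [Nat.card_zpowers, Nat.card_zpowers, ho, hcp])).symm
  obtain ⟨-, hza⟩ := hroot a m' hm hca'
  obtain ⟨hzb', hzb⟩ := hroot b n' hnb hcb'
  obtain ⟨t, ht⟩ := Subgroup.mem_zpowers_iff.1
    (show b ^ p ^ n' ∈ Subgroup.zpowers (a ^ p ^ m') by rw [hza, ← hzb]; exact Subgroup.mem_zpowers _)
  set j : ℤ := -(t * (p : ℤ) ^ d) with hj
  set x := a ^ j with hx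
  have hxk : x ^ p ^ n' * b ^ p ^ n' = 1 := by
    rw [← ht, hx, ← zpow_natCast (a ^ j), ← zpow_mul, ← zpow_natCast a (p ^ m'), ← zpow_mul, ← zpow_add,
      show j * ((p ^ n' : ℕ) : ℤ) + ((p ^ m' : ℕ) : ℤ) * t = 0 by rw [hj, hd]; push_cast; ring, zpow_zero]
  have hbx : b * x = c ^ (-j) * (x * b) := by
    have h1 : b * a * b⁻¹ = c⁻¹ * a := by rw [← hc]; group
    have h2 : b * x * b⁻¹ = c ^ (-j) * x := by
      rw [hx, ← conj_zpow, h1, (hca.inv_left).mul_zpow, inv_zpow']
    rw [← mul_assoc, ← h2, inv_mul_cancel_right]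
  have hey : (x * b) ^ p ^ n' = (c ^ (-j)) ^ ((p ^ n').choose 2) := by
    rw [CfsgLib.StructC.central_pow_mul_formula ((hca.zpow_zpow _ _)) (hcb.zpow_left _) hbx, hxk, mul_one]
  have hne : (x * b) ^ p ^ n' ≠ 1 := by
    intro h
    apply hab
    have hxa : Commute a x := (Commute.refl a).zpow_right j
    have hlt : orderOf a + orderOf (x * b) < orderOf a + orderOf b := by
      refine Nat.add_lt_add_left (lt_of_le_of_lt (Nat.le_of_dvd (pow_pos hp.pos n') (orderOf_dvd_of_pow_eq_one h)) ?_) _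
      rw [hnb]; exact Nat.pow_lt_pow_right hp.one_lt (Nat.lt_succ_self n')
    have h3 := hmin _ haS _ (mul_mem (zpow_mem haS j) hbS) hlt
    have h4 : Commute a (x⁻¹ * (x * b)) := hxa.inv_right.mul_right h3
    rwa [inv_mul_cancel_left] at h4
  rw [hey] at hne
  have hch : ¬ p ∣ (p ^ n').choose 2 := by
    intro h
    apply hne
    obtain ⟨w, hw⟩ := h
    rw [hw, pow_mul, ← zpow_natCast (c ^ (-j)) p, ← zpow_mul, mul_comm (-j), zpow_mul, zpow_natCast,
      ← hcp, pow_orderOf_eq_one, one_zpow, one_pow]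
  have hn'1 : n' = 1 ∧ p = 2 := by
    rcases Nat.eq_zero_or_pos n' with h0 | h0
    · exact absurd (by rw [h0, pow_zero]; exact dvd_zero p) hch
    have h2 : (p ^ n').choose 2 * 2 = p ^ n' * (p ^ n' - 1) := by
      rw [Nat.choose_two_right]
      exact Nat.div_mul_cancel (Nat.even_mul_pred_self _).two_dvd
    by_cases hp2 : p = 2
    · refine ⟨?_, hp2⟩
      by_contra h1
      apply hch
      obtain ⟨k, hk⟩ : ∃ k, n' = k + 2 := ⟨n' - 2, by omega⟩
      rw [hp2] at h2 ⊢
      rw [hk, pow_succ, pow_succ] at h2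
      refine ⟨2 ^ k * (2 ^ k * 2 * 2 - 1), ?_⟩
      rw [hk, pow_succ, pow_succ]
      generalize 2 ^ k * 2 * 2 - 1 = w at h2 ⊢
      have e : 2 ^ k * 2 * 2 * w = 2 * (2 ^ k * w) * 2 := by ring
      omega
    · exfalso
      apply hch
      refine (hp.dvd_mul.1 (h2 ▸ (dvd_pow_self p h0.ne').mul_right _)).resolve_right fun h => hp2 ?_
      exact (Nat.prime_dvd_prime_iff_eq hp Nat.prime_two).1 h
  obtain ⟨rfl, hp2⟩ := hn'1
  have hd0 : d = 0 := by
    by_contra h
    apply hne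
    have hpj : (p : ℤ) ∣ -j := by
      rw [hj, neg_neg]
      exact (dvd_pow_self _ h).mul_left t
    obtain ⟨w, hw⟩ := hpj
    rw [hw, zpow_mul, zpow_natCast, ← hcp, pow_orderOf_eq_one, one_zpow, one_pow]
  subst hd0
  obtain rfl : m' = 1 := by omega
  rw [hp2] at hm hnb hza hzb hcp
  have hc2 : ∀ x : G, orderOf (x ^ 2) = 2 → Subgroup.zpowers (x ^ 2) = Subgroup.zpowers c → x ^ 2 = c := by
    intro x ho hz
    obtain ⟨i, hi⟩ := Subgroup.mem_zpowers_iff.1 (hz ▸ Subgroup.mem_zpowers (x ^ 2))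
    rw [← zpow_mod_orderOf, hcp] at hi
    rcases Int.emod_two_eq_zero_or_one i with h | h
    · rw [show i % ((2 : ℕ) : ℤ) = 0 from h, zpow_zero] at hi
      rw [← hi, orderOf_one] at ho
      omega
    · rw [show i % ((2 : ℕ) : ℤ) = 1 from h, zpow_one] at hi
      exact hi.symm
  have hza' : orderOf (a ^ 2) = 2 := by
    rw [orderOf_pow_of_dvd two_ne_zero (by rw [hm]; norm_num), hm]; norm_num
  have hac : a ^ 2 = c := hc2 a hza' (by simpa using hza)
  have hbc : b ^ 2 = c := hc2 b (by rw [orderOf_pow_of_dvd two_ne_zero (by rw [hnb]; norm_num), hnb]; norm_num)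
    (by simpa using hzb)
  refine ⟨a, haS, b, hbS, by rw [hm]; norm_num, by rw [← pow_two, hbc, hac], ?_, hab⟩
  rw [show b * a * b⁻¹ = c⁻¹ * a by rw [← hc]; group, ← hac]
  group

/-- A finite non-abelian group in which every subgroup is normal is the internal direct product of a subgroup isomorphic to the quaternion group of order `8`, an elementary abelian `2`-subgroup and an abelian subgroup of odd order. -/
theorem result {G : Type*} [Group G] [Finite G] (hna : ¬ IsMulCommutative G) (hn : ∀ H : Subgroup G, H.Normal) : ∃ Q E A : Subgroup G, Nonempty (Q ≃* QuaternionGroup 2) ∧ Cfsg.IsElementaryAbelian 2 E ∧ IsMulCommutative A ∧ Odd (Nat.card A) ∧ E ⊓ A = ⊥ ∧ Q ⊓ (E ⊔ A) = ⊥ ∧ Q ⊔ (E ⊔ A) = ⊤ := by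
  classical
  obtain ⟨a₀, b₀, h₀⟩ : ∃ a b : G, ¬ Commute a b := by
    by_contra h
    push Not at h
    exact hna ⟨⟨fun a b => h a b⟩⟩
  obtain ⟨a, -, b, -, ha4, hbb, hba, hab⟩ := exists_quaternion_pair hn h₀ ⊤ trivial trivial
  have hbnot : b ∉ Subgroup.zpowers a := by
    intro hb
    obtain ⟨i, rfl⟩ := Subgroup.mem_zpowers_iff.1 hb
    exact hab ((Commute.refl a).zpow_right i)
  set Q := Subgroup.closure ({a, b} : Set G) with hQ
  have hQiso : Nonempty (Q ≃* QuaternionGroup 2) :=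
    CfsgLib.Invol.exists_mulEquiv_quaternion (n := 2) (by rw [ha4]) hbb hba hbnot
  have haQ : a ∈ Q := Subgroup.subset_closure (by simp)
  have hbQ : b ∈ Q := Subgroup.subset_closure (by simp)
  set c := a ^ 2 with hcdef
  have hc2 : c * c = 1 := by
    rw [hcdef, ← pow_add, show (2 : ℕ) + 2 = orderOf a from ha4.symm, pow_orderOf_eq_one]
  have ha3 : a ^ 4 = 1 := ha4 ▸ pow_orderOf_eq_one a
  have hab' : a * b * a⁻¹ = b⁻¹ := by
    have h1 : b * a = a⁻¹ * b := by rw [← hba, inv_mul_cancel_right]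
    rw [mul_inv_eq_iff_eq_mul]
    calc a * b = a ^ 4 * (a⁻¹ * a⁻¹) * (a⁻¹ * b) := by group
      _ = (a ^ 2)⁻¹ * (b * a) := by rw [ha3, h1]; group
      _ = b⁻¹ * a := by rw [show a ^ 2 = b * b from hbb.symm]; group
  -- conjugation fixes each generator up to inversion
  have hval : ∀ (g x : G), orderOf x = 4 → g * x * g⁻¹ = x ∨ g * x * g⁻¹ = x⁻¹ := by
    intro g x hx
    obtain ⟨i, hi⟩ := Subgroup.mem_zpowers_iff.1 ((hn _).conj_mem x (Subgroup.mem_zpowers x) g)
    have ho : orderOf (g * x * g⁻¹) = 4 := by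
      rw [← MulAut.conj_apply, MulEquiv.orderOf_eq, hx]
    rw [← zpow_mod_orderOf, hx] at hi
    have : i % ((4 : ℕ) : ℤ) = 0 ∨ i % ((4 : ℕ) : ℤ) = 1 ∨ i % ((4 : ℕ) : ℤ) = 2 ∨ i % ((4 : ℕ) : ℤ) = 3 := by
      omega
    rcases this with h | h | h | h <;> rw [h] at hi
    · rw [zpow_zero] at hi
      rw [← hi, orderOf_one] at ho
      omega
    · exact Or.inl (by rw [← hi, zpow_one])
    · exfalso
      rw [← hi, show (x ^ (2 : ℤ)) = x ^ 2 from zpow_natCast x 2,
        orderOf_pow_of_dvd two_ne_zero (by rw [hx]; norm_num), hx] at ho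
      omega
    · refine Or.inr ?_
      rw [← hi, eq_inv_iff_mul_eq_one, ← zpow_add_one]
      exact (zpow_natCast x 4).trans (hx ▸ pow_orderOf_eq_one x)
  have hb4 : orderOf b = 4 := by
    haveI : Fact (Nat.Prime 2) := ⟨Nat.prime_two⟩
    refine orderOf_eq_prime_pow (p := 2) (n := 1) ?_ ?_
    · rw [pow_one, pow_two, hbb]
      intro h
      have := Nat.le_of_dvd two_pos (orderOf_dvd_of_pow_eq_one h)
      omega
    · show b ^ 4 = 1
      rw [pow_succ, pow_succ, pow_two, mul_assoc, hbb, hc2]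
  set C := Subgroup.centralizer ({a, b} : Set G) with hC
  have hmemC : ∀ x : G, x ∈ C ↔ a * x = x * a ∧ b * x = x * b := by
    intro x; rw [hC, Subgroup.mem_centralizer_iff]; simp
  have htop : ∀ g : G, ∃ q ∈ Q, ∃ z ∈ C, g = q * z := by
    intro g
    have key : ∀ q ∈ Q, q⁻¹ * g * a * (q⁻¹ * g)⁻¹ = a → q⁻¹ * g * b * (q⁻¹ * g)⁻¹ = b →
        ∃ q ∈ Q, ∃ z ∈ C, g = q * z := fun q hq h1 h2 => ⟨q, hq, q⁻¹ * g, (hmemC _).2
          ⟨(mul_inv_eq_iff_eq_mul.1 h1).symm, (mul_inv_eq_iff_eq_mul.1 h2).symm⟩, by group⟩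
    have e : ∀ q x : G, q⁻¹ * g * x * (q⁻¹ * g)⁻¹ = q⁻¹ * (g * x * g⁻¹) * q := fun q x => by group
    have aa : a⁻¹ * a * a = a := by group
    have bb : b⁻¹ * b * b = b := by group
    have ab1 : a⁻¹ * b⁻¹ * a = b := by rw [← hab']; group
    have ba1 : b⁻¹ * a⁻¹ * b = a := by rw [← hba]; group
    have hab1 : (a * b)⁻¹ * a⁻¹ * (a * b) = a := by
      calc (a * b)⁻¹ * a⁻¹ * (a * b) = b⁻¹ * a⁻¹ * b := by group
        _ = a := ba1
    have hab2 : (a * b)⁻¹ * b⁻¹ * (a * b) = b := by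
      calc (a * b)⁻¹ * b⁻¹ * (a * b) = b⁻¹ * (a⁻¹ * b⁻¹ * a) * b := by group
        _ = b := by rw [ab1, bb]
    rcases hval g a ha4 with h1 | h1 <;> rcases hval g b hb4 with h2 | h2
    · exact key 1 Q.one_mem (by rw [e, h1]; group) (by rw [e, h2]; group)
    · exact key a haQ (by rw [e, h1, aa]) (by rw [e, h2, ab1])
    · exact key b hbQ (by rw [e, h1, ba1]) (by rw [e, h2, bb])
    · exact key (a * b) (mul_mem haQ hbQ) (by rw [e, h1, hab1]) (by rw [e, h2, hab2])
  -- no element of order 4 in the centralizer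
  have hno4 : ∀ x ∈ C, x ^ 4 = 1 → x ^ 2 = 1 := by
    intro x hx hx4
    obtain ⟨hxa, hxb⟩ := (hmemC x).1 hx
    by_contra hx2
    haveI : Fact (Nat.Prime 2) := ⟨Nat.prime_two⟩
    have hxo : orderOf x = 4 := orderOf_eq_prime_pow (p := 2) (n := 1) (by simpa using hx2) (by simpa using hx4)
    have hcax : Commute a x := hxa
    have hprod : b * (a * x) * b⁻¹ = a⁻¹ * x := by
      rw [show b * (a * x) * b⁻¹ = (b * a * b⁻¹) * (b * x * b⁻¹) by group, hba, hxb, mul_inv_cancel_right]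
    obtain ⟨k, hk⟩ := Subgroup.mem_zpowers_iff.1
      (hprod ▸ (hn _).conj_mem (a * x) (Subgroup.mem_zpowers (a * x)) b)
    rw [hcax.mul_zpow] at hk
    have he : a ^ (k + 1) = x ^ (1 - k) := by
      calc a ^ (k + 1) = a * (a ^ k * x ^ k) * x ^ (-k) := by group
        _ = a * (a⁻¹ * x) * x ^ (-k) := by rw [hk]
        _ = x ^ (1 - k) := by group
    -- `a ^ (k+1)` commutes with `b`
    have hkb : Commute (a ^ (k + 1)) b := by
      rw [he]
      exact (Commute.zpow_left (show Commute x b from hxb.symm) _)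
    have h2k : (4 : ℤ) ∣ 2 * (k + 1) := by
      have h1 : b * a ^ (k + 1) * b⁻¹ = (a ^ (k + 1))⁻¹ := by
        rw [← conj_zpow, hba, inv_zpow]
      rw [← hkb.eq, mul_inv_cancel_right, eq_inv_iff_mul_eq_one, ← zpow_add, ← two_mul,
        ← orderOf_dvd_iff_zpow_eq_one, ha4] at h1
      exact_mod_cast h1
    rcases (by omega : (4 : ℤ) ∣ k + 1 ∨ (4 : ℤ) ∣ k - 1) with h | h
    · have h1 : a ^ (k + 1) = 1 := orderOf_dvd_iff_zpow_eq_one.1 (by rw [ha4]; exact_mod_cast h)
      rw [h1, eq_comm, ← orderOf_dvd_iff_zpow_eq_one, hxo] at he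
      omega
    · have h1 : x ^ (1 - k) = 1 := orderOf_dvd_iff_zpow_eq_one.1 (by rw [hxo]; push_cast; omega)
      rw [h1, ← orderOf_dvd_iff_zpow_eq_one, ha4] at he
      omega
  have hCab : ∀ x ∈ C, ∀ y ∈ C, Commute x y := by
    intro x hx y hy
    by_contra h
    obtain ⟨a', ha', -, -, ha'4, -⟩ := exists_quaternion_pair hn h C hx hy
    have := hno4 a' ha' (ha'4 ▸ pow_orderOf_eq_one a')
    have := Nat.le_of_dvd two_pos (orderOf_dvd_of_pow_eq_one this)
    omega
  have hcC : c ∈ C := by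
    rw [hmemC, hcdef]
    refine ⟨((Commute.refl a).pow_right 2).eq, ?_⟩
    rw [show a ^ 2 = b * b from hbb.symm]; group
  set N := Nat.card G / 2 ^ (Nat.card G).factorization 2 with hN
  have hNodd : Odd N := Nat.not_even_iff_odd.1 fun h =>
    Nat.not_dvd_ordCompl Nat.prime_two Nat.card_pos.ne' (even_iff_two_dvd.1 h)
  let E' : Subgroup G :=
    { carrier := {x | x ∈ C ∧ x ^ 2 = 1}
      one_mem' := ⟨C.one_mem, one_pow 2⟩
      mul_mem' := fun {x y} hx hy => ⟨C.mul_mem hx.1 hy.1, by rw [(hCab x hx.1 y hy.1).mul_pow, hx.2, hy.2, mul_one]⟩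
      inv_mem' := fun {x} hx => ⟨C.inv_mem hx.1, by rw [inv_pow, hx.2, inv_one]⟩ }
  let A : Subgroup G :=
    { carrier := {x | x ∈ C ∧ x ^ N = 1}
      one_mem' := ⟨C.one_mem, one_pow N⟩
      mul_mem' := fun {x y} hx hy => ⟨C.mul_mem hx.1 hy.1, by rw [(hCab x hx.1 y hy.1).mul_pow, hx.2, hy.2, mul_one]⟩
      inv_mem' := fun {x} hx => ⟨C.inv_mem hx.1, by rw [inv_pow, hx.2, inv_one]⟩ }
  have hc1 : c ≠ 1 := fun h => by
    have := Nat.le_of_dvd two_pos (orderOf_dvd_of_pow_eq_one (hcdef ▸ h : a ^ 2 = 1))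
    omega
  -- a complement of `⟨c⟩` in `E'`
  have hne : {E : Subgroup G | E ≤ E' ∧ c ∉ E}.Nonempty := ⟨⊥, bot_le, by rwa [Subgroup.mem_bot]⟩
  obtain ⟨E, ⟨hEle, hcE⟩, hEmax⟩ := (Set.toFinite {E : Subgroup G | E ≤ E' ∧ c ∉ E}).exists_maximal hne
  have hsplit : ∀ x ∈ E', x ∈ E ∨ c * x ∈ E := by
    intro x hx
    by_contra hh
    push Not at hh
    let F : Subgroup G :=
      { carrier := {y | y ∈ E ∨ y * x ∈ E}
        one_mem' := Or.inl E.one_mem
        mul_mem' := fun {u v} hu hv => by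
          have huC : u ∈ C := by
            rcases hu with h | h
            · exact (hEle h).1
            · simpa using C.mul_mem (hEle h).1 (C.inv_mem hx.1)
          have hvC : v ∈ C := by
            rcases hv with h | h
            · exact (hEle h).1
            · simpa using C.mul_mem (hEle h).1 (C.inv_mem hx.1)
          have hxx : x * x = 1 := by rw [← pow_two, hx.2]
          have hxv : x * v = v * x := (hCab x hx.1 v hvC).eq
          rcases hu with hu | hu <;> rcases hv with hv | hv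
          · exact Or.inl (E.mul_mem hu hv)
          · exact Or.inr (by rw [mul_assoc]; exact E.mul_mem hu hv)
          · refine Or.inr ?_
            rw [mul_assoc, ← hxv, ← mul_assoc]
            exact E.mul_mem hu hv
          · refine Or.inl ?_
            have := E.mul_mem hu hv
            rwa [mul_assoc, ← mul_assoc x v, hxv, mul_assoc v x x, hxx, mul_one] at this
        inv_mem' := fun {u} hu => by
          rcases hu with h | h
          · exact Or.inl (E.inv_mem h)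
          · refine Or.inr ?_
            have h2 := (hEle h).2
            have huC : u ∈ C := by simpa using C.mul_mem (hEle h).1 (C.inv_mem hx.1)
            have hu2 : u⁻¹ * x = (u * x)⁻¹ := by
              rw [mul_inv_rev, inv_eq_of_mul_eq_one_right (show x * x = 1 by rw [← pow_two, hx.2])]
              exact ((hCab x hx.1 u huC).inv_right).eq.symm
            rw [hu2]; exact E.inv_mem h }
    have hxx : x * x = 1 := by rw [← pow_two, hx.2]
    have hFle : F ≤ E' := fun y hy => by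
      rcases hy with h | h
      · exact hEle h
      · have := E'.mul_mem (hEle h) hx
        rwa [mul_assoc, hxx, mul_one] at this
    have hcF : c ∉ F := fun h => h.elim hcE (fun h => hh.2 h)
    exact hh.1 (hEmax ⟨hFle, hcF⟩ (fun y hy => Or.inl hy) (Or.inr (by rw [hxx]; exact E.one_mem)))
  have hEA : ∀ e ∈ E, ∀ u ∈ A, Commute e u := fun e he u hu => hCab e (hEle he).1 u hu.1
  have hkill : ∀ e ∈ E', e ^ N = 1 → e = 1 := by
    intro e he h
    obtain ⟨k, hk⟩ := hNodd
    rwa [hk, pow_succ, pow_mul, he.2, one_pow, one_mul] at h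
  refine ⟨Q, E, A, hQiso, ⟨⟨⟨fun x y => Subtype.ext (hCab x (hEle x.2).1 y (hEle y.2).1).eq⟩⟩,
    fun x hx => (hEle hx).2⟩, ⟨⟨fun x y => Subtype.ext (hCab x x.2.1 y y.2.1).eq⟩⟩, ?_, ?_, ?_, ?_⟩
  · rw [← Nat.not_even_iff_odd, even_iff_two_dvd]
    intro h
    obtain ⟨x, hx⟩ := exists_prime_orderOf_dvd_card' (G := A) 2 (hp := ⟨Nat.prime_two⟩) h
    have h1 : x ^ N = 1 := Subtype.ext (by simpa using x.2.2)
    have := orderOf_dvd_of_pow_eq_one h1
    rw [hx] at this
    exact Nat.not_even_iff_odd.2 hNodd (even_iff_two_dvd.2 this)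
  · rw [Subgroup.eq_bot_iff_forall]
    intro x ⟨hxE, hxA⟩
    exact hkill x (hEle hxE) hxA.2
  · rw [Subgroup.eq_bot_iff_forall]
    intro x ⟨hxQ, hxEA⟩
    have hxe : ∃ e ∈ E, ∃ u ∈ A, x = e * u := by
      have hperm : ∀ y ∈ E ⊔ A, ∃ e ∈ E, ∃ u ∈ A, y = e * u := by
        intro y hy
        haveI : A.Normal := hn A
        rw [← SetLike.mem_coe, Subgroup.mul_normal] at hy
        obtain ⟨e, he, u, hu, rfl⟩ := Set.mem_mul.1 hy
        exact ⟨e, he, u, hu, rfl⟩
      exact hperm x hxEA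
    obtain ⟨e, he, u, hu, rfl⟩ := hxe
    -- elements of `Q` centralizing `a`, `b` are powers of `c`
    have hQC : ∀ q ∈ Q, q ∈ C → q = 1 ∨ q = c := by
      intro q hq hqC
      obtain ⟨f⟩ := hQiso
      have key : ∀ z : QuaternionGroup 2, (∀ w, Commute w z) → z = 1 ∨ z = QuaternionGroup.a 2 := by
        unfold Commute SemiconjBy; decide +kernel
      have hz : ∀ w : Q, Commute w ⟨q, hq⟩ := by
        intro w
        have hle : Q ≤ Subgroup.centralizer ({q} : Set G) := by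
          rw [hQ, Subgroup.closure_le]
          rintro y (rfl | rfl) <;> rw [SetLike.mem_coe, Subgroup.mem_centralizer_singleton_iff]
          · exact ((hmemC q).1 hqC).1
          · exact ((hmemC q).1 hqC).2
        exact Subtype.ext (Subgroup.mem_centralizer_singleton_iff.1 (hle w.2))
      have hzc : ∀ w : Q, Commute w ⟨c, (by rw [hcdef]; exact Q.pow_mem haQ 2)⟩ := by
        intro w
        have hle : Q ≤ Subgroup.centralizer ({c} : Set G) := by
          rw [hQ, Subgroup.closure_le]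
          rintro y (rfl | rfl) <;> rw [SetLike.mem_coe, Subgroup.mem_centralizer_singleton_iff]
          · exact ((hmemC c).1 hcC).1
          · exact ((hmemC c).1 hcC).2
        exact Subtype.ext (Subgroup.mem_centralizer_singleton_iff.1 (hle w.2))
      have h1 := key (f ⟨q, hq⟩) (fun w => by simpa using (hz (f.symm w)).map f.toMonoidHom)
      have hcQ : c ∈ Q := by rw [hcdef]; exact Q.pow_mem haQ 2
      have h2 := key (f ⟨c, hcQ⟩) (fun w => by simpa using (hzc (f.symm w)).map f.toMonoidHom)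
      have h2' : f ⟨c, hcQ⟩ = QuaternionGroup.a 2 := h2.resolve_left (fun h => hc1 (by
        have := f.injective (h.trans (map_one f).symm)
        exact congrArg Subtype.val this))
      rcases h1 with h1 | h1
      · exact Or.inl (congrArg Subtype.val (f.injective (h1.trans (map_one f).symm)))
      · exact Or.inr (congrArg Subtype.val (f.injective (h1.trans h2'.symm)))
    rcases hQC _ hxQ (C.mul_mem (hEle he).1 hu.1) with h | h
    · exact h
    · exfalso
      apply hcE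
      have h2 : u ^ 2 = 1 := by
        have h3 : (e * u) ^ 2 = 1 := by rw [h, pow_two, hc2]
        rwa [(hEA e he u hu).mul_pow, (hEle he).2, one_mul] at h3
      rw [← h, hkill u ⟨hu.1, h2⟩ hu.2, mul_one]
      exact he
  · rw [eq_top_iff]
    intro g _
    obtain ⟨q, hq, z, hz, rfl⟩ := htop g
    refine Subgroup.mul_mem _ (Subgroup.mem_sup_left hq) ?_
    -- `z` has order dividing `2 * N`
    have hz2 : z ^ (2 * N) = 1 := by
      have h1 : z ^ Nat.card G = 1 := pow_card_eq_one'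
      have key : ∀ k, z ^ (2 ^ (k + 1) * N) = 1 → z ^ (2 * N) = 1 := by
        intro k
        induction k with
        | zero => intro h; simpa using h
        | succ k ih =>
          intro h
          refine ih ?_
          have := hno4 (z ^ (2 ^ k * N)) (C.pow_mem hz _) (by
            rw [← pow_mul, show 2 ^ k * N * 4 = 2 ^ (k + 1 + 1) * N by ring]; exact h)
          rwa [← pow_mul, show 2 ^ k * N * 2 = 2 ^ (k + 1) * N by ring] at this
      rcases Nat.eq_zero_or_pos ((Nat.card G).factorization 2) with h0 | h0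
      · have : N = Nat.card G := by rw [hN, h0]; simp
        rw [mul_comm, pow_mul, this, h1, one_pow]
      · refine key ((Nat.card G).factorization 2 - 1) ?_
        rw [Nat.sub_add_cancel h0, hN, Nat.ordProj_mul_ordCompl_eq_self, h1]
    obtain ⟨k, hk⟩ := hNodd
    have hzN : z ^ N ∈ Q ⊔ (E ⊔ A) := by
      have hE' : z ^ N ∈ E' := ⟨C.pow_mem hz _, by rw [← pow_mul, mul_comm]; exact hz2⟩
      rcases hsplit _ hE' with h | h
      · exact Subgroup.mem_sup_right (Subgroup.mem_sup_left h)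
      · have h' := Subgroup.mul_mem _ (Subgroup.inv_mem _ (Subgroup.mem_sup_left (T := E ⊔ A)
          (show c ∈ Q by rw [hcdef]; exact Q.pow_mem haQ 2))) (Subgroup.mem_sup_right (S := Q) (Subgroup.mem_sup_left (T := A) h))
        rwa [inv_mul_cancel_left] at h'
    have hzA : z ^ (1 - (N : ℤ)) ∈ Q ⊔ (E ⊔ A) := by
      refine Subgroup.mem_sup_right (Subgroup.mem_sup_right ⟨C.zpow_mem hz _, ?_⟩)
      rw [← zpow_natCast, ← zpow_mul, show (1 - (N : ℤ)) * N = ((2 * N : ℕ) : ℤ) * (-(k : ℤ)) by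
        rw [hk]; push_cast; ring, zpow_mul, zpow_natCast, hz2, one_zpow]
    have := Subgroup.mul_mem _ hzN hzA
    rwa [← zpow_natCast z N, ← zpow_add, add_sub_cancel, zpow_one] at this

end Cfsg.Agent.S4211
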