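import Cfsg.Statements.S4213
import Cfsg.Agent.Lib.StructC.FrobCount
import Cfsg.Agent.Lib.Solvable.MinNormal

set_option autoImplicit false
open Cfsg
open scoped Pointwise
set_option linter.style.haveILetI false

namespace Cfsg.Agent.S4213

theorem exists_subgroup_aux (m : ℕ) : ∀ (G : Type*) [Group G] [Finite G], Nat.card G = m →
    Group.IsSolvable G → ∀ n : ℕ, n ∣ Nat.card G → Nat.card {x : G // x ^ n = 1} = n →
    ∃ H : Subgroup G, (H : Set G) = {x : G | x ^ n = 1} := by
  induction m using Nat.strong_induction_on with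
  | _ m ih =>
    intro G _ _ hm hG n hn hcount
    rcases subsingleton_or_nontrivial G with hs | hnt
    · exact ⟨⊤, Set.eq_of_subset_of_subset (fun x _ => Subsingleton.elim (α := G) _ _) (fun _ _ => trivial)⟩
    obtain ⟨N, hNn, hN1, hNmin⟩ := CfsgLib.Solvable.exists_minimal_normal (G := G)
    have := hNn
    have := hG
    obtain ⟨p, hp, hNp, hpow, -⟩ := CfsgLib.Solvable.exists_isPGroup_of_minimal_normal hN1 hNmin
    haveI : Fact p.Prime := ⟨hp⟩
    obtain ⟨a, ha⟩ := IsPGroup.iff_card.1 hNp
    have ha1 : a ≠ 0 := fun h0 => hN1 (Subgroup.eq_bot_of_card_eq _ (by rw [ha, h0, pow_zero]))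
    have hn0 : 0 < n := Nat.pos_of_dvd_of_pos hn Nat.card_pos
    have hcardq : Nat.card G = Nat.card (G ⧸ N) * p ^ a := by
      rw [← ha]; exact Subgroup.card_eq_card_quotient_mul_card_subgroup N
    have hlt : Nat.card (G ⧸ N) < m := by
      rw [← hm, hcardq]
      exact lt_mul_of_one_lt_right Nat.card_pos (Nat.one_lt_pow ha1 hp.one_lt)
    have hpre : ∀ H : Subgroup (G ⧸ N), Nat.card (H.comap (QuotientGroup.mk' N)) = Nat.card H * p ^ a := by
      intro H
      have h1 := (H.comap (QuotientGroup.mk' N)).index_mul_card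
      rw [Subgroup.index_comap_of_surjective _ (QuotientGroup.mk'_surjective N), hcardq, ← H.index_mul_card,
        mul_assoc] at h1
      exact Nat.eq_of_mul_eq_mul_left (Nat.pos_of_ne_zero Subgroup.index_ne_zero_of_finite) h1
    by_cases hpn : p ∣ n
    · -- the preimage of the roots of exponent `n'` consists of roots
      obtain ⟨c, hc, hgcd⟩ := (Nat.dvd_prime_pow hp).1 (Nat.gcd_dvd_right n (p ^ a))
      have hc1 : c ≠ 0 := by
        intro h0
        rw [h0, pow_zero] at hgcd
        exact hp.not_dvd_one (hgcd ▸ Nat.dvd_gcd hpn (dvd_pow_self p ha1))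
      obtain ⟨n', hn'⟩ := hgcd ▸ Nat.gcd_dvd_left n (p ^ a)
      have hn'q : n' ∣ Nat.card (G ⧸ N) := by
        have h1 : p ^ c * n' ∣ Nat.card (G ⧸ N) * p ^ a := by rw [← hcardq, ← hn']; exact hn
        rcases eq_or_lt_of_le hc with h2 | h2
        · rw [h2, mul_comm (Nat.card _)] at h1
          exact (mul_dvd_mul_iff_left (pow_ne_zero _ hp.ne_zero)).1 h1
        · have hnd : ¬ p ∣ n' := by
            intro hd
            have h3 : p ^ (c + 1) ∣ Nat.gcd n (p ^ a) :=
              Nat.dvd_gcd (by rw [hn', pow_succ]; exact Nat.mul_dvd_mul_left _ hd) (pow_dvd_pow p h2)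
            rw [hgcd] at h3
            have := (Nat.pow_dvd_pow_iff_le_right hp.one_lt).1 h3
            omega
          exact (((hp.coprime_iff_not_dvd.2 hnd).pow_left a).symm).dvd_of_dvd_mul_right ((dvd_mul_left n' _).trans h1)
      have hmem : ∀ x : G, (x : G ⧸ N) ^ n' = 1 → x ^ n = 1 := by
        intro x hx
        rw [← QuotientGroup.mk_pow, QuotientGroup.eq_one_iff] at hx
        rw [hn', mul_comm, pow_mul, ← Nat.sub_add_cancel (Nat.one_le_iff_ne_zero.2 hc1), pow_succ', pow_mul,
          hpow _ hx, one_pow]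
      let T := {y : G ⧸ N // y ^ n' = 1}
      haveI : Nonempty T := ⟨⟨1, one_pow n'⟩⟩
      have hT0 : n' ≤ Nat.card T :=
        Nat.le_of_dvd Nat.card_pos (CfsgLib.StructC.dvd_card_pow_eq_one n' hn'q)
      have hX : Nat.card {x : G // (x : G ⧸ N) ^ n' = 1} = Nat.card T * p ^ a := by
        have e2 : {q : (G ⧸ N) × N // q.1 ^ n' = 1} ≃ T × N :=
          { toFun := fun q => (⟨q.1.1, q.2⟩, q.1.2)
            invFun := fun q => ⟨(q.1.1, q.2), q.1.2⟩
            left_inv := fun _ => rfl
            right_inv := fun _ => rfl }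
        rw [Nat.card_congr ((Equiv.subtypeEquiv (p := fun x : G => (x : G ⧸ N) ^ n' = 1)
          (q := fun q : (G ⧸ N) × N => q.1 ^ n' = 1) (Subgroup.groupEquivQuotientProdSubgroup (s := N))
          (fun x => Iff.rfl)).trans e2), Nat.card_prod, ha]
      have hle : Nat.card {x : G // (x : G ⧸ N) ^ n' = 1} ≤ n := by
        conv_rhs => rw [← hcount]
        exact Nat.card_le_card_of_injective (fun x => ⟨x.1, hmem x.1 x.2⟩)
          (fun x y h => Subtype.ext (congrArg (fun z : {x : G // x ^ n = 1} => z.1) h))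
      rw [hX] at hle
      have hpc : p ^ c ≤ p ^ a := Nat.pow_le_pow_right hp.pos hc
      have hTn : Nat.card T = n' := by
        refine le_antisymm (Nat.le_of_mul_le_mul_right (hle.trans ?_) (pow_pos hp.pos a)) hT0
        rw [hn', mul_comm]
        exact Nat.mul_le_mul_left _ hpc
      obtain ⟨H, hH⟩ := ih _ hlt (G ⧸ N) rfl inferInstance n' hn'q hTn
      refine ⟨H.comap (QuotientGroup.mk' N), ?_⟩
      refine Set.eq_of_subset_of_ncard_le (fun x hx => hmem x ?_) ?_ (Set.toFinite _)
      · have hx' : (x : G ⧸ N) ∈ (H : Set (G ⧸ N)) := hx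
        rwa [hH] at hx'
      · have hHc : Nat.card H = n' := by
          rw [← hTn]; exact Nat.card_congr (Equiv.subtypeEquivRight fun y => by rw [← SetLike.mem_coe, hH]; rfl)
        have h1 : Set.ncard {x : G | x ^ n = 1} = n := by rw [← Nat.card_coe_set_eq]; exact hcount
        rw [h1, ← Nat.card_coe_set_eq, SetLike.coe_sort_coe, hpre, hHc, hn', mul_comm]
        exact Nat.mul_le_mul_left _ hpc
    · have hcop : p.Coprime n := hp.coprime_iff_not_dvd.2 hpn
      obtain ⟨k, -, hk⟩ : ∃ k, True ∧ p * k ≡ 1 [MOD n] := by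
        rcases Nat.eq_or_lt_of_le hn0 with h1 | h1
        · exact ⟨0, trivial, by rw [← h1]; exact Nat.modEq_one⟩
        · obtain ⟨k, -, hk⟩ := Nat.exists_mul_mod_eq_one_of_coprime hcop h1
          exact ⟨k, trivial, by rw [Nat.ModEq, hk, Nat.one_mod_eq_one.2 (by omega)]⟩
      have hnq : n ∣ Nat.card (G ⧸ N) :=
        ((hcop.pow_left a).symm).dvd_of_dvd_mul_right (hcardq ▸ hn)
      let T := {y : G ⧸ N // y ^ n = 1}
      haveI : Nonempty T := ⟨⟨1, one_pow n⟩⟩
      let f : {x : G // x ^ n = 1} → T := fun x => ⟨(x.1 : G ⧸ N), by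
        rw [← QuotientGroup.mk_pow, x.2, QuotientGroup.mk_one]⟩
      have hsurj : Function.Surjective f := by
        rintro ⟨y, hy⟩
        induction y using QuotientGroup.induction_on with
        | _ x =>
          have hxN : x ^ n ∈ N := by rwa [← QuotientGroup.mk_pow, QuotientGroup.eq_one_iff] at hy
          refine ⟨⟨x ^ (p * k), ?_⟩, Subtype.ext ?_⟩
          · rw [← pow_mul, show p * k * n = n * p * k by ring, pow_mul, pow_mul, hpow _ hxN, one_pow]
          · show ((x ^ (p * k) : G) : G ⧸ N) = x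
            rw [QuotientGroup.mk_pow]
            conv_rhs => rw [← pow_one (x : G ⧸ N)]
            exact pow_eq_pow_iff_modEq.2 (hk.of_dvd (orderOf_dvd_of_pow_eq_one hy))
      have hTn : Nat.card T = n := le_antisymm (hcount ▸ Nat.card_le_card_of_surjective f hsurj)
        (Nat.le_of_dvd Nat.card_pos (CfsgLib.StructC.dvd_card_pow_eq_one n hnq))
      obtain ⟨H, hH⟩ := ih _ hlt (G ⧸ N) rfl inferInstance n hnq hTn
      have hHc : Nat.card H = n := by
        rw [← hTn]; exact Nat.card_congr (Equiv.subtypeEquivRight fun y => by rw [← SetLike.mem_coe, hH]; rfl)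
      set U := H.comap (QuotientGroup.mk' N)
      have hNU : N ≤ U := (QuotientGroup.ker_mk' N).ge.trans (Subgroup.ker_le_comap _ _)
      have hN' : Nat.card (N.subgroupOf U) = p ^ a := by
        rw [Nat.card_congr (Subgroup.subgroupOfEquivOfLe hNU).toEquiv, ha]
      have hidx : (N.subgroupOf U).index = n := by
        have h1 := (N.subgroupOf U).index_mul_card
        rw [hN', hpre, hHc] at h1
        exact Nat.eq_of_mul_eq_mul_right (pow_pos hp.pos a) h1
      obtain ⟨K, hK⟩ := Subgroup.exists_right_complement'_of_coprime (N := N.subgroupOf U)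
        (by rw [hN', hidx]; exact hcop.pow_left a)
      have hKc : Nat.card K = n := by rw [← hK.symm.index_eq_card, hidx]
      refine ⟨K.map U.subtype, Set.eq_of_subset_of_ncard_le ?_ ?_ (Set.toFinite _)⟩
      · rintro _ ⟨y, hy, rfl⟩
        show (U.subtype y) ^ n = 1
        rw [← map_pow, ← hKc]
        have := congrArg K.subtype (pow_card_eq_one' (x := (⟨y, hy⟩ : K)))
        rw [map_pow, map_one] at this
        rw [show y ^ Nat.card K = 1 from this, map_one]
      · rw [← Nat.card_coe_set_eq, ← Nat.card_coe_set_eq, SetLike.coe_sort_coe,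
          Subgroup.card_map_of_injective U.subtype_injective, hKc]
        exact hcount.le

/-- If `G` is a finite solvable group and `n` divides the order of `G` and exactly `n` elements `x` of `G` satisfy `x^n = 1`, then these elements form a normal subgroup. -/
theorem result {G : Type*} [Group G] [Finite G] [Group.IsSolvable G] (n : ℕ) (hn : n ∣ Nat.card G) (hcount : Nat.card {x : G // x ^ n = 1} = n) : ∃ H : Subgroup G, H.Normal ∧ (H : Set G) = {x : G | x ^ n = 1} := by
  obtain ⟨H, hH⟩ := exists_subgroup_aux _ G rfl inferInstance n hn hcount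
  refine ⟨H, ⟨fun x hx g => ?_⟩, hH⟩
  have hx' : x ∈ (H : Set G) := hx
  rw [← SetLike.mem_coe, hH]
  rw [hH, Set.mem_ofPred_eq] at hx'
  rw [Set.mem_ofPred_eq, conj_pow, hx']
  group

end Cfsg.Agent.S4213
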