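import Cfsg.Statements.S4216

set_option autoImplicit false
open Cfsg
open scoped Pointwise
set_option linter.style.haveILetI false

namespace Cfsg.Agent.S4216

/-- Grün's first Theorem: if `P` is a Sylow `p`-subgroup of the finite group `G`, then `P ∩ G'` is the subgroup generated by `P ∩ N_G(P)'` together with the subgroups `P ∩ z P' z⁻¹` for all `z ∈ G`, where `'` denotes the derived subgroup and `N_G(P)` the normalizer of `P`. -/
theorem result {G : Type*} [Group G] [Finite G] {p : ℕ} [Fact p.Prime] (P : Sylow p G) : (P : Subgroup G) ⊓ commutator G = ((P : Subgroup G) ⊓ ⁅Subgroup.normalizer ((P : Subgroup G) : Set G), Subgroup.normalizer ((P : Subgroup G) : Set G)⁆) ⊔ ⨆ z : G, (P : Subgroup G) ⊓ (⁅(P : Subgroup G), (P : Subgroup G)⁆).map (MulAut.conj z).toMonoidHom := by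
  classical
  set N := Subgroup.normalizer ((P : Subgroup G) : Set G) with hNdef
  set D : Subgroup G := ((P : Subgroup G) ⊓ ⁅N, N⁆) ⊔
    ⨆ z : G, (P : Subgroup G) ⊓
      (⁅(P : Subgroup G), (P : Subgroup G)⁆).map (MulAut.conj z).toMonoidHom with hD
  refine le_antisymm ?_ ?_
  swap
  · refine sup_le (inf_le_inf_left _ (Subgroup.commutator_mono le_top le_top)) (iSup_le fun z => ?_)
    refine inf_le_inf_left _ ?_
    rw [Subgroup.map_commutator, commutator_def]
    exact Subgroup.commutator_mono le_top le_top
  have hDP : ∀ a ∈ (P : Subgroup G), ∀ b ∈ (P : Subgroup G), a⁻¹ * b⁻¹ * a * b ∈ D := by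
    intro a ha b hb
    refine Subgroup.mem_sup_right (Subgroup.mem_iSup_of_mem 1 ⟨?_, ?_⟩)
    · exact Subgroup.mul_mem _ (Subgroup.mul_mem _ (Subgroup.mul_mem _ (Subgroup.inv_mem _ ha)
        (Subgroup.inv_mem _ hb)) ha) hb
    · exact ⟨a⁻¹ * b⁻¹ * a * b, by
        have h := Subgroup.commutator_mem_commutator (Subgroup.inv_mem _ ha) (Subgroup.inv_mem _ hb)
        simpa [commutatorElement_def] using h, by simp⟩
  haveI hDn : (D.subgroupOf (P : Subgroup G)).Normal := ⟨fun d hd a => by
    show (a : G) * (d : G) * (a : G)⁻¹ ∈ D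
    have h := hDP (d : G)⁻¹ (Subgroup.inv_mem _ d.2) (a : G)⁻¹ (Subgroup.inv_mem _ a.2)
    simp only [inv_inv] at h
    have e : (a : G) * (d : G) * (a : G)⁻¹ =
        ((d : G) * (a : G) * (d : G)⁻¹ * (a : G)⁻¹)⁻¹ * (d : G) := by group
    rw [e]
    exact D.mul_mem (D.inv_mem h) hd⟩
  have hcomm : ∀ a b : (P : Subgroup G) ⧸ D.subgroupOf (P : Subgroup G), a * b = b * a := by
    intro a b
    induction a using QuotientGroup.induction_on with
    | _ a =>
      induction b using QuotientGroup.induction_on with
      | _ b =>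
        rw [← QuotientGroup.mk_mul, ← QuotientGroup.mk_mul, eq_comm, QuotientGroup.eq,
          Subgroup.mem_subgroupOf]
        have h := hDP a a.2 b b.2
        simpa [mul_assoc] using h
  haveI : IsMulCommutative ((P : Subgroup G) ⧸ D.subgroupOf (P : Subgroup G)) := ⟨⟨hcomm⟩⟩
  open scoped IsMulCommutative in
  let φ : (P : Subgroup G) →* (P : Subgroup G) ⧸ D.subgroupOf (P : Subgroup G) := QuotientGroup.mk' _
  have hφ : ∀ w : (P : Subgroup G), φ w = 1 ↔ (w : G) ∈ D := fun w => QuotientGroup.eq_one_iff w
  have hG' : ∀ {x : G}, x ∈ commutator G → ∀ g, g⁻¹ * x * g ∈ commutator G := fun {x} hx g => by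
    simpa using (inferInstance : (commutator G).Normal).conj_mem x hx g⁻¹
  intro u hu
  induction hm : orderOf u using Nat.strong_induction_on generalizing u with
  | _ m ih =>
    subst hm
    obtain ⟨huP, huG⟩ := hu
    by_cases hu1 : u = 1
    · rw [hu1]; exact D.one_mem
    have hzs : ∀ (x : G ⧸ (P : Subgroup G)) (i : ℤ), u • x = x → u ^ i • x = x := fun x i hx =>
      MulAction.mem_stabilizer_iff.1
        (zpow_mem (show u ∈ MulAction.stabilizer G x from hx) i)
    have := Fintype.ofFinite (G ⧸ (P : Subgroup G))
    have hp := (Fact.out : p.Prime)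
    -- elements of the form `g⁻¹ u^k g` of smaller order
    have hsmall : ∀ (k : ℕ) (g : G), g⁻¹ * u ^ k * g ∈ (P : Subgroup G) → k ∣ orderOf u → 1 < k →
        g⁻¹ * u ^ k * g ∈ D := by
      intro k g hk hdvd h1
      refine ih _ ?_ ⟨hk, hG' ((commutator G).pow_mem huG k) g⟩ rfl
      have e : orderOf (g⁻¹ * u ^ k * g) = orderOf (u ^ k) := by
        have := MulEquiv.orderOf_eq (MulAut.conj g⁻¹) (u ^ k)
        simpa using this
      rw [e, orderOf_pow_of_dvd (by omega) hdvd]
      exact Nat.div_lt_self (orderOf_pos u) h1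
    have hfixP : ∀ x : G ⧸ (P : Subgroup G), u • x = x → x.out⁻¹ * u * x.out ∈ (P : Subgroup G) := by
      intro x hx
      have e : (QuotientGroup.mk x.out : G ⧸ (P : Subgroup G)) = QuotientGroup.mk (u * x.out) := by
        rw [QuotientGroup.out_eq']
        conv_lhs => rw [← hx, ← QuotientGroup.out_eq' x]
        rfl
      rw [QuotientGroup.eq] at e
      simpa [mul_assoc] using e
    open scoped IsMulCommutative in
    let f : G ⧸ (P : Subgroup G) → (P : Subgroup G) ⧸ D.subgroupOf (P : Subgroup G) := fun x =>
      if h : u • x = x then φ ⟨_, hfixP x h⟩ else 1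
    -- the transfer is the product over the fixed cosets
    open scoped IsMulCommutative in
    have htr : MonoidHom.transfer φ u =
        ∏ x ∈ Finset.univ.filter (fun x : G ⧸ (P : Subgroup G) => u • x = x), f x := by
      have := Fintype.ofFinite G
      rw [MonoidHom.transfer_eq_prod_quotient_orbitRel_zpowers_quot]
      have hper : ∀ x : G ⧸ (P : Subgroup G),
          Function.minimalPeriod (u • ·) x = 1 ↔ u • x = x := fun x =>
        Function.minimalPeriod_eq_one_iff_isFixedPt
      rw [← Finset.prod_filter_mul_prod_filter_not Finset.univ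
        (fun q : Quotient (MulAction.orbitRel (Subgroup.zpowers u) (G ⧸ (P : Subgroup G))) =>
          Function.minimalPeriod (u • ·) q.out = 1)]
      rw [Finset.prod_eq_one (s := Finset.univ.filter fun q :
          Quotient (MulAction.orbitRel (Subgroup.zpowers u) (G ⧸ (P : Subgroup G))) =>
          ¬ Function.minimalPeriod (u • ·) q.out = 1) (fun q hq => ?_), mul_one]
      · refine Finset.prod_bij' (fun q _ => q.out) (fun x _ => Quotient.mk'' x) ?_ ?_ ?_ ?_ ?_
        · intro q hq
          simp only [Finset.mem_filter, Finset.mem_univ, true_and] at hq ⊢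
          exact (hper _).1 hq
        · intro x hx
          simp only [Finset.mem_filter, Finset.mem_univ, true_and] at hx ⊢
          rw [hper]
          obtain ⟨⟨w, i, rfl⟩, hi⟩ := Quotient.exact (Quotient.out_eq' (Quotient.mk'' x :
            Quotient (MulAction.orbitRel (Subgroup.zpowers u) (G ⧸ (P : Subgroup G)))))
          rw [← hi]
          show u • (u ^ i • x) = u ^ i • x
          rw [smul_smul, ← zpow_one_add, add_comm, zpow_add_one, mul_smul, hx]
        · intro q _
          exact Quotient.out_eq' q
        · intro x hx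
          simp only [Finset.mem_filter, Finset.mem_univ, true_and] at hx
          obtain ⟨⟨w, i, rfl⟩, hi⟩ := Quotient.exact (Quotient.out_eq' (Quotient.mk'' x :
            Quotient (MulAction.orbitRel (Subgroup.zpowers u) (G ⧸ (P : Subgroup G)))))
          rw [← hi]
          show u ^ i • x = x
          exact hzs x i hx
        · intro q hq
          simp only [Finset.mem_filter, Finset.mem_univ, true_and] at hq
          simp only [f, dif_pos ((hper _).1 hq)]
          congr 1
          exact Subtype.ext (by simp [hq])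
      · simp only [Finset.mem_filter, Finset.mem_univ, true_and] at hq
        rw [hφ]
        refine hsmall _ _ (QuotientGroup.out_conj_pow_minimalPeriod_mem _ u q.out) ?_ ?_
        · apply Function.IsPeriodicPt.minimalPeriod_dvd
          show (u • ·)^[orderOf u] q.out = q.out
          simp [smul_iterate, pow_orderOf_eq_one]
        · have := Function.minimalPeriod_pos_of_mem_periodicPts (f := (u • ·)) (x := q.out)
            ⟨orderOf u, orderOf_pos u, by
              show (u • ·)^[orderOf u] q.out = q.out
              simp [smul_iterate, pow_orderOf_eq_one]⟩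
          omega
    -- group the fixed cosets by orbits of `P`
    let nfix : Finset (G ⧸ (P : Subgroup G)) :=
      Finset.univ.filter fun x => ∀ a : (P : Subgroup G), a • x = x
    have hP := P.isPGroup'
    open scoped IsMulCommutative in
    have hgroup : ∏ x ∈ Finset.univ.filter (fun x : G ⧸ (P : Subgroup G) => u • x = x), f x =
        φ ⟨u, huP⟩ ^ nfix.card := by
      have hsub : ∀ x ∈ nfix, u • x = x := fun x hx => (Finset.mem_filter.1 hx).2 ⟨u, huP⟩
      rw [← Finset.prod_filter_mul_prod_filter_not
        (Finset.univ.filter fun x : G ⧸ (P : Subgroup G) => u • x = x) (fun x => x ∈ nfix)]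
      have e1 : (Finset.univ.filter fun x : G ⧸ (P : Subgroup G) => u • x = x).filter
          (fun x => x ∈ nfix) = nfix := by
        ext x
        simp only [Finset.mem_filter, Finset.mem_univ, true_and]
        exact ⟨fun h => h.2, fun h => ⟨hsub x h, h⟩⟩
      rw [e1]
      have hA : ∏ x ∈ nfix, f x = φ ⟨u, huP⟩ ^ nfix.card := by
        rw [Finset.prod_eq_pow_card]
        intro x hx
        simp only [f, dif_pos (hsub x hx)]
        have hgN : x.out ∈ N := by
          have hxf := (Finset.mem_filter.1 hx).2
          have : x.out⁻¹ ∈ N := by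
            have hfw : ∀ a ∈ (P : Subgroup G), x.out⁻¹ * a * x.out ∈ (P : Subgroup G) := by
              intro a ha
              have e : (QuotientGroup.mk x.out : G ⧸ (P : Subgroup G)) =
                  QuotientGroup.mk (a * x.out) := by
                rw [QuotientGroup.out_eq']
                conv_lhs => rw [← hxf ⟨a, ha⟩, ← QuotientGroup.out_eq' x]
                rfl
              rw [QuotientGroup.eq] at e
              simpa [mul_assoc] using e
            have heq : (P : Subgroup G).map (MulAut.conj x.out⁻¹).toMonoidHom = P :=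
              Subgroup.eq_of_le_of_card_ge (by
                rintro _ ⟨a, ha, rfl⟩
                show x.out⁻¹ * a * x.out⁻¹⁻¹ ∈ (P : Subgroup G)
                rw [inv_inv]; exact hfw a ha)
                (le_of_eq (Subgroup.card_map_of_injective (MulAut.conj x.out⁻¹).injective).symm)
            rw [hNdef, Subgroup.mem_normalizer_iff]
            intro a
            refine ⟨fun ha => by simpa using hfw a ha, fun ha => ?_⟩
            obtain ⟨b, hb, hbe⟩ := (SetLike.ext_iff.1 heq _).2 ha
            have : b = a := (MulAut.conj x.out⁻¹).injective (hbe.trans (by simp))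
            exact this ▸ hb
          simpa using N.inv_mem this
        show φ _ = φ _
        rw [← mul_inv_eq_one, ← map_inv, ← map_mul, hφ]
        refine Subgroup.mem_sup_left ⟨Subgroup.mul_mem _ (hfixP x (hsub x hx)) (Subgroup.inv_mem _ huP), ?_⟩
        have h := Subgroup.commutator_mem_commutator (N.inv_mem hgN)
          (show u ∈ N by rw [hNdef]; exact Subgroup.le_normalizer huP)
        simpa [commutatorElement_def, mul_assoc] using h
      rw [hA]
      refine mul_eq_left.2 ?_
      rw [← Finset.prod_fiberwise _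
        (fun x => (Quotient.mk'' x : MulAction.orbitRel.Quotient (P : Subgroup G) (G ⧸ (P : Subgroup G))))]
      refine Finset.prod_eq_one fun O _ => ?_
      set S := ((Finset.univ.filter fun x : G ⧸ (P : Subgroup G) => u • x = x).filter
        (fun x => x ∉ nfix)).filter (fun x => (Quotient.mk'' x :
          MulAction.orbitRel.Quotient (P : Subgroup G) (G ⧸ (P : Subgroup G))) = O) with hS
      rcases S.eq_empty_or_nonempty with h0 | ⟨x₀, hx₀⟩
      · rw [h0, Finset.prod_empty]
      have hmemS : ∀ x, x ∈ S ↔ (u • x = x ∧ x ∉ nfix) ∧ (Quotient.mk'' x :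
          MulAction.orbitRel.Quotient (P : Subgroup G) (G ⧸ (P : Subgroup G))) = O := by
        intro x; simp [hS]
      obtain ⟨⟨hx₀u, hx₀n⟩, hx₀O⟩ := (hmemS x₀).1 hx₀
      have hconst : ∀ x ∈ S, f x = f x₀ := by
        intro x hx
        obtain ⟨⟨hxu, -⟩, hxO⟩ := (hmemS x).1 hx
        obtain ⟨a, ha⟩ := MulAction.mem_orbit_iff.1
          (MulAction.orbitRel_apply.1 (Quotient.exact (hxO.trans hx₀O.symm)))
        simp only [f, dif_pos hxu, dif_pos hx₀u]
        obtain ⟨c, hc⟩ := QuotientGroup.mk_out_eq_mul (P : Subgroup G) ((a : G) * x₀.out)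
        have hxout : x.out = (a : G) * x₀.out * c := by
          rw [← ha]
          conv_lhs => rw [← QuotientGroup.out_eq' x₀]
          exact hc
        -- compare the two values
        set g := x₀.out
        set v : (P : Subgroup G) := ⟨g⁻¹ * u * g, hfixP x₀ hx₀u⟩
        have hw : g⁻¹ * (a : G)⁻¹ * u * a * g ∈ (P : Subgroup G) := by
          have h := hfixP x hxu
          rw [hxout] at h
          have h2 := Subgroup.mul_mem _ (Subgroup.mul_mem _ c.2 h) (Subgroup.inv_mem _ c.2)
          simpa [mul_assoc] using h2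
        have e : (⟨_, hfixP x hxu⟩ : (P : Subgroup G)) = c⁻¹ * ⟨_, hw⟩ * c := by
          apply Subtype.ext
          show x.out⁻¹ * u * x.out = (c : G)⁻¹ * (g⁻¹ * (a : G)⁻¹ * u * a * g) * c
          rw [hxout]; group
        rw [e, map_mul, map_mul, map_inv, mul_right_comm, inv_mul_cancel, one_mul]
        rw [← mul_inv_eq_one, ← map_inv, ← map_mul, hφ]
        refine Subgroup.mem_sup_right (Subgroup.mem_iSup_of_mem g⁻¹ ⟨Subgroup.mul_mem _ hw
          (Subgroup.inv_mem _ v.2), ⟨(a : G)⁻¹ * u * a * u⁻¹, ?_, ?_⟩⟩)
        · have h := Subgroup.commutator_mem_commutator (Subgroup.inv_mem _ a.2) huP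
          simpa [commutatorElement_def] using h
        · show g⁻¹ * ((a : G)⁻¹ * u * a * u⁻¹) * g⁻¹⁻¹ = g⁻¹ * (a : G)⁻¹ * u * a * g * (g⁻¹ * u * g)⁻¹
          group
      rw [Finset.prod_eq_pow_card hconst]
      -- the number of fixed points in a nontrivial orbit is divisible by `p`
      let O' := MulAction.orbit (P : Subgroup G) x₀
      let U : Subgroup (P : Subgroup G) := Subgroup.zpowers ⟨u, huP⟩
      have hfixU : ∀ y : O', y ∈ MulAction.fixedPoints U O' ↔ u • (y : G ⧸ (P : Subgroup G)) = y := by
        intro y
        constructor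
        · intro h
          exact congrArg Subtype.val (h ⟨⟨u, huP⟩, Subgroup.mem_zpowers _⟩)
        · rintro h ⟨_, i, rfl⟩
          apply Subtype.ext
          show ((⟨u, huP⟩ : (P : Subgroup G)) ^ i : (P : Subgroup G)) • (y : G ⧸ (P : Subgroup G)) = y
          show (((⟨u, huP⟩ : (P : Subgroup G)) ^ i : (P : Subgroup G)) : G) • (y : G ⧸ (P : Subgroup G)) = y
          rw [SubgroupClass.coe_zpow]
          exact hzs _ i h
      have hScard : S.card = Nat.card (MulAction.fixedPoints U O') := by
        rw [← Nat.card_eq_finsetCard]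
        refine Nat.card_congr
          { toFun := fun x => ⟨⟨x.1, ?_⟩, ?_⟩
            invFun := fun y => ⟨y.1.1, ?_⟩
            left_inv := fun x => rfl
            right_inv := fun y => rfl }
        · exact MulAction.orbitRel_apply.1 (Quotient.exact (((hmemS _).1 x.2).2.trans hx₀O.symm))
        · exact (hfixU _).2 ((hmemS _).1 x.2).1.1
        · rw [hmemS]
          refine ⟨⟨(hfixU y.1).1 y.2, fun h => hx₀n ?_⟩, ?_⟩
          · obtain ⟨a, ha⟩ := y.1.2
            have hy := (Finset.mem_filter.1 h).2 a⁻¹
            rw [← ha, inv_smul_smul] at hy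
            refine Finset.mem_filter.2 ⟨Finset.mem_univ _, fun b => ?_⟩
            have hb := (Finset.mem_filter.1 h).2 b
            rw [← ha, ← hy] at hb
            exact hb
          · rw [← hx₀O]
            exact Quotient.sound' (MulAction.orbitRel_apply.2 y.1.2)
      have hdvd : p ∣ Nat.card O' := by
        obtain ⟨k, hk⟩ := hP.card_orbit x₀
        rcases Nat.eq_zero_or_pos k with rfl | hk0
        · exfalso
          rw [pow_zero] at hk
          apply hx₀n
          refine Finset.mem_filter.2 ⟨Finset.mem_univ _, fun a => ?_⟩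
          haveI : Subsingleton O' := (Nat.card_eq_one_iff_unique.1 hk).1
          exact congrArg Subtype.val (Subsingleton.elim
            (⟨a • x₀, MulAction.mem_orbit _ _⟩ : O') ⟨x₀, MulAction.mem_orbit_self _⟩)
        · rw [hk]; exact dvd_pow_self p hk0.ne'
      have hmod : Nat.card O' ≡ Nat.card (MulAction.fixedPoints U O') [MOD p] :=
        (hP.to_subgroup U).card_modEq_card_fixedPoints O'
      have hpS : p ∣ S.card := by
        rw [hScard]
        exact (Nat.ModEq.dvd_iff hmod dvd_rfl).1 hdvd
      obtain ⟨k, hk⟩ := hpS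
      rw [hk, pow_mul]
      have hfp : f x₀ ^ p = 1 := by
        simp only [f, dif_pos hx₀u]
        rw [← map_pow, hφ, SubgroupClass.coe_pow]
        show (x₀.out⁻¹ * u * x₀.out) ^ p ∈ D
        have e := conj_pow (a := x₀.out⁻¹) (b := u) (i := p)
        rw [inv_inv] at e
        rw [e]
        refine hsmall p _ (e ▸ Subgroup.pow_mem _ (hfixP x₀ hx₀u) p) ?_ hp.one_lt
        obtain ⟨j, hj⟩ := IsPGroup.iff_orderOf.1 hP ⟨u, huP⟩
        rw [Subgroup.orderOf_mk] at hj
        rcases Nat.eq_zero_or_pos j with rfl | hj0
        · rw [pow_zero, orderOf_eq_one_iff] at hj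
          exact absurd hj hu1
        · rw [hj]; exact dvd_pow_self p hj0.ne'
      rw [hfp, one_pow]
    open scoped IsMulCommutative in
    have hone : φ ⟨u, huP⟩ ^ nfix.card = 1 := by
      rw [← hgroup, ← htr]
      exact Abelianization.commutator_subset_ker _ huG
    have hn : ¬ p ∣ nfix.card := by
      have hmod : Nat.card (G ⧸ (P : Subgroup G)) ≡
          Nat.card (MulAction.fixedPoints (P : Subgroup G) (G ⧸ (P : Subgroup G))) [MOD p] :=
        hP.card_modEq_card_fixedPoints _
      have e : nfix.card = Nat.card (MulAction.fixedPoints (P : Subgroup G) (G ⧸ (P : Subgroup G))) := by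
        rw [← Nat.card_eq_finsetCard]
        exact Nat.card_congr (Equiv.subtypeEquivRight fun x => by simp [nfix, MulAction.mem_fixedPoints])
      rw [e]
      intro h
      have := (Nat.ModEq.dvd_iff hmod dvd_rfl).2 h
      rw [← Subgroup.index_eq_card] at this
      exact P.not_dvd_index this
    rw [← hφ ⟨u, huP⟩]
    obtain ⟨j, hj⟩ := (hP.to_quotient (D.subgroupOf (P : Subgroup G))) (φ ⟨u, huP⟩)
    have h1 : φ ⟨u, huP⟩ ^ Nat.gcd (p ^ j) nfix.card = 1 := pow_gcd_eq_one.2 ⟨hj, hone⟩
    rwa [((hp.coprime_iff_not_dvd.2 hn).pow_left j).gcd_eq_one, pow_one] at h1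

end Cfsg.Agent.S4216
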