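import Cfsg.Statements.S4218
import Cfsg.Agent.Lib.StructC.PSolvableQuot
import Cfsg.Agent.Lib.PLocal.Section
import Cfsg.Agent.Lib.StructC.BurnsideBasis
import Cfsg.Agent.Lib.Solvable.PCore

set_option autoImplicit false
open Cfsg
open scoped Pointwise
set_option linter.style.haveILetI false

namespace Cfsg.Agent.S4218

/-- Frattini subgroups correspond under isomorphisms. -/
theorem mem_frattini_equiv {A B : Type*} [Group A] [Group B] (e : A ≃* B) (a : A) :
    e a ∈ frattini B ↔ a ∈ frattini A := by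
  constructor
  · intro h
    have h1 := frattini_le_comap_frattini_of_surjective (φ := e.symm.toMonoidHom) e.symm.surjective h
    rwa [Subgroup.mem_comap, MulEquiv.coe_toMonoidHom, MulEquiv.symm_apply_apply] at h1
  · intro h
    exact frattini_le_comap_frattini_of_surjective (φ := e.toMonoidHom) e.surjective h

/-- Let `G` be a finite `p`-solvable group, `N₀ = O_{p'}(G)`, `P₁ = O_{p',p}(G)`, and let `F ≤ P₁` be the preimage of the Frattini subgroup of `P₁/N₀`. Then an element `g` of `G` induces the identity on `P₁/F` by conjugation (that is, `g x g⁻¹ x⁻¹ ∈ F` for all `x ∈ P₁`) if and only if `g ∈ P₁`: the group `G/P₁` acts faithfully on `P₁/F`. -/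
theorem result {G : Type*} [Group G] [Finite G] {p : ℕ} [Fact p.Prime] (hG : Cfsg.IsPSolvable p G) (g : G) : (∀ x ∈ Cfsg.pPrimePCore p G, g * x * g⁻¹ * x⁻¹ ∈ ((frattini (↥(Cfsg.pPrimePCore p G) ⧸ (Cfsg.pPrimeCore p G).subgroupOf (Cfsg.pPrimePCore p G))).comap (QuotientGroup.mk' ((Cfsg.pPrimeCore p G).subgroupOf (Cfsg.pPrimePCore p G)))).map (Cfsg.pPrimePCore p G).subtype) ↔ g ∈ Cfsg.pPrimePCore p G := by
  classical
  haveI := CfsgLib.Solvable.pPrimeCore_normal p G
  set N₀ := Cfsg.pPrimeCore p G with hN₀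
  set P₁ := Cfsg.pPrimePCore p G with hP₁
  set π := QuotientGroup.mk' N₀ with hπ
  set Pb := Cfsg.pCore p (G ⧸ N₀) with hPb
  haveI hPbn : Pb.Normal := CfsgLib.Solvable.pCore_normal p _
  have hPbp : IsPGroup p Pb := CfsgLib.Solvable.pCore_isPGroup p
  have hP₁mem : ∀ x : G, x ∈ P₁ ↔ π x ∈ Pb := fun x => Iff.rfl
  have hc : Subgroup.centralizer (Pb : Set (G ⧸ N₀)) ≤ Pb :=
    CfsgLib.Block.centralizer_pCore_le_of_isPSolvable (CfsgLib.StructC.isPSolvable_quotient N₀ hG)
      (CfsgLib.Solvable.pPrimeCore_quotient_eq_bot p)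
  -- restrict the projection
  let φ : P₁ →* Pb := (π.comp P₁.subtype).codRestrict Pb (fun x => (hP₁mem _).1 x.2)
  have hφ : Function.Surjective φ := by
    rintro ⟨y, hy⟩
    obtain ⟨x, rfl⟩ := QuotientGroup.mk'_surjective N₀ y
    exact ⟨⟨x, (hP₁mem x).2 hy⟩, rfl⟩
  have hker : φ.ker = N₀.subgroupOf P₁ := by
    ext x
    rw [MonoidHom.mem_ker, Subgroup.mem_subgroupOf, ← Subtype.coe_inj]
    exact QuotientGroup.eq_one_iff (x : G)
  let e : (P₁ ⧸ N₀.subgroupOf P₁) ≃* Pb :=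
    (QuotientGroup.quotientMulEquivOfEq hker.symm).trans (QuotientGroup.quotientKerEquivOfSurjective φ hφ)
  have he : ∀ x : P₁, e (x : P₁ ⧸ N₀.subgroupOf P₁) = φ x := fun x => rfl
  set F := ((frattini (↥P₁ ⧸ N₀.subgroupOf P₁)).comap (QuotientGroup.mk' (N₀.subgroupOf P₁))).map P₁.subtype
  have hF : ∀ z : G, z ∈ F ↔ z ∈ P₁ ∧ π z ∈ (frattini Pb).map Pb.subtype := by
    intro z
    constructor
    · rintro ⟨x, hx, rfl⟩
      refine ⟨x.2, φ x, ?_, rfl⟩
      rw [SetLike.mem_coe, ← he, mem_frattini_equiv]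
      exact hx
    · rintro ⟨hz, w, hw, hwz⟩
      refine ⟨⟨z, hz⟩, ?_, rfl⟩
      rw [SetLike.mem_coe, Subgroup.mem_comap, QuotientGroup.mk'_apply, ← mem_frattini_equiv e, he]
      have : φ ⟨z, hz⟩ = w := Subtype.ext hwz.symm
      rw [this]
      exact hw
  haveI : ((frattini Pb).map Pb.subtype).Normal := by
    haveI : (frattini Pb).Characteristic := inferInstance
    infer_instance
  constructor
  · intro h
    have hk : π g ∈ Cfsg.sectionKernel Pb ((frattini Pb).map Pb.subtype) := by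
      rw [← Subgroup.inv_mem_iff, CfsgLib.PLocal.mem_sectionKernel]
      intro k hk
      obtain ⟨x, rfl⟩ := QuotientGroup.mk'_surjective N₀ k
      have h1 := ((hF _).1 (h x ((hP₁mem x).2 hk))).2
      rw [map_mul, map_mul, map_mul, map_inv, map_inv] at h1
      rw [inv_inv]
      have hn : ((frattini Pb).map Pb.subtype).Normal := inferInstance
      have h2 := hn.conj_mem _ h1 (π x)⁻¹
      simpa [mul_assoc, hπ] using h2
    have hp' := CfsgLib.PLocal.sectionKernel_frattini_isPGroup hPbp hc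
    rw [hP₁mem]
    refine CfsgLib.Solvable.le_pCore ?_ hp' hk
    haveI : (Pb.map (QuotientGroup.mk' ((frattini Pb).map Pb.subtype))).Normal :=
      hPbn.map _ (QuotientGroup.mk'_surjective _)
    unfold Cfsg.sectionKernel
    infer_instance
  · intro hg x hx
    rw [hF]
    refine ⟨P₁.mul_mem (P₁.mul_mem (P₁.mul_mem hg hx) (P₁.inv_mem hg)) (P₁.inv_mem hx),
      φ ⟨g, hg⟩ * φ ⟨x, hx⟩ * (φ ⟨g, hg⟩)⁻¹ * (φ ⟨x, hx⟩)⁻¹, ?_, ?_⟩
    · have := CfsgLib.StructC.comm_mem_frattini hPbp (φ ⟨g, hg⟩)⁻¹ (φ ⟨x, hx⟩)⁻¹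
      simpa using this
    · simp [φ]

end Cfsg.Agent.S4218
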