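import Cfsg.Statements.S4219
import Cfsg.Agent.Lib.Solvable.Basic

set_option autoImplicit false
open Cfsg
open scoped Pointwise

namespace Cfsg.Agent.S4219

/-- Let a finite group `G` act `t`-fold transitively on a finite set, let `H` be the stabilizer of `t` distinct points and `P` a Sylow `p`-subgroup of `H`. Then the normalizer of `P` in `G` is `t`-fold transitive on the fixed points of `P`: any `t` distinct fixed points of `P` can be carried to any other `t` distinct fixed points of `P` by an element normalizing `P`. -/
theorem result {G : Type*} [Group G] [Finite G] {α : Type*} [Fintype α] [MulAction G α] {t : ℕ} (hG : MulAction.IsMultiplyPretransitive G α t) (x : Fin t ↪ α) {p : ℕ} [Fact p.Prime] (P : Sylow p (MulAction.stabilizer G x)) (a b : Fin t ↪ α) (ha : ∀ i, a i ∈ MulAction.fixedPoints ((P : Subgroup (MulAction.stabilizer G x)).map (MulAction.stabilizer G x).subtype) α) (hb : ∀ i, b i ∈ MulAction.fixedPoints ((P : Subgroup (MulAction.stabilizer G x)).map (MulAction.stabilizer G x).subtype) α) : ∃ g ∈ Subgroup.normalizer ((((P : Subgroup (MulAction.stabilizer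 G x)).map (MulAction.stabilizer G x).subtype) : Subgroup G) : Set G), g • a = b := by
  classical
  have hfac : Fact p.Prime := inferInstance
  set P' : Subgroup G := (P : Subgroup (MulAction.stabilizer G x)).map (MulAction.stabilizer G x).subtype with hP'
  obtain ⟨g, hg⟩ := hG.exists_smul_eq a b
  obtain ⟨g1, hg1⟩ := hG.exists_smul_eq x b
  set S := MulAction.stabilizer G b
  have hPb : P' ≤ S := fun z hz => by
    ext i; exact hb i ⟨z, hz⟩
  have hPa : MulAut.conj g • P' ≤ S := by
    intro z hz
    rw [Subgroup.mem_pointwise_smul_iff_inv_smul_mem] at hz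
    have hza : g⁻¹ * z * g ∈ MulAction.stabilizer G a := by
      ext i
      have := ha i ⟨_, hz⟩
      simpa [MulAut.smul_def, Subgroup.smul_def] using this
    rw [MulAction.mem_stabilizer_iff] at hza ⊢
    rw [← hg, ← inv_smul_eq_iff]
    simpa [mul_smul] using hza
  have hcS : Nat.card S = Nat.card (MulAction.stabilizer G x) := by
    rw [show S = (MulAction.stabilizer G x).map (MulAut.conj g1).toMonoidHom from
      (congrArg (MulAction.stabilizer G) hg1.symm).trans (MulAction.stabilizer_smul_eq_stabilizer_map_conj g1 x)]
    exact (Nat.card_congr ((MulAction.stabilizer G x).equivMapOfInjective _ (MulAut.conj g1).injective).toEquiv).symm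
  have hcP : Nat.card P' = p ^ (Nat.card S).factorization p := by
    rw [hcS, ← P.card_eq_multiplicity, hP']
    exact (Nat.card_congr ((P : Subgroup (MulAction.stabilizer G x)).equivMapOfInjective _
      (MulAction.stabilizer G x).subtype_injective).toEquiv).symm
  have hcP2 : Nat.card (MulAut.conj g • P' : Subgroup G) = p ^ (Nat.card S).factorization p := by
    rw [← hcP]; exact (Nat.card_congr (Subgroup.equivSMul _ P').toEquiv).symm
  let Q1 : Sylow p S := Sylow.ofCard (P'.subgroupOf S)
    ((Nat.card_congr (Subgroup.subgroupOfEquivOfLe hPb).toEquiv).trans hcP)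
  let Q2 : Sylow p S := Sylow.ofCard ((MulAut.conj g • P').subgroupOf S)
    ((Nat.card_congr (Subgroup.subgroupOfEquivOfLe hPa).toEquiv).trans hcP2)
  obtain ⟨s, hs⟩ := MulAction.exists_smul_eq S Q2 Q1
  have hs' := congrArg (fun Q : Sylow p S => (Q : Subgroup S).map S.subtype) hs
  simp only [Sylow.coe_subgroup_smul] at hs'
  refine ⟨(s : G) * g, ?_, ?_⟩
  · have e1 : ((Q1 : Subgroup S)).map S.subtype = P' := by
      simp [Q1, Subgroup.map_subgroupOf_eq_of_le hPb]
    have e2 : ((MulAut.conj s • (Q2 : Subgroup S))).map S.subtype = MulAut.conj ((s : G) * g) • P' := by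
      rw [CfsgLib.Solvable.conj_smul_subtype, map_mul, mul_smul]
      congr 1
      simp [Q2, Subgroup.map_subgroupOf_eq_of_le hPa]
    rw [← CfsgLib.Solvable.conj_smul_eq_self_iff, ← e2]
    exact hs'.trans e1
  · rw [mul_smul, hg]; exact s.2

end Cfsg.Agent.S4219
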