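import Cfsg.Statements.S4221
import Cfsg.Agent.Lib.Perm.HallFour
import Cfsg.Agent.Lib.Perm.InducedBase

set_option autoImplicit false
set_option linter.unnecessarySimpa false
open Cfsg

namespace Cfsg.Agent.S4221

/-- Let `G` be a `4`-fold transitive permutation group on a finite set of `n` points in which the pointwise stabilizer of some four distinct points has odd order. Then `n = 4` or `n = 5` with `G` the full symmetric group, or `n = 6` or `n = 7` with `G` the alternating group, or `n = 11` and `G` has order `7920`. -/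
theorem result {α : Type*} [Fintype α] [DecidableEq α] (G : Subgroup (Equiv.Perm α)) (hG : MulAction.IsMultiplyPretransitive G α 4) (x : Fin 4 ↪ α) (hodd : Odd (Nat.card (MulAction.stabilizer G x))) : ((Fintype.card α = 4 ∨ Fintype.card α = 5) ∧ G = ⊤) ∨ ((Fintype.card α = 6 ∨ Fintype.card α = 7) ∧ G = alternatingGroup α) ∨ (Fintype.card α = 11 ∧ Nat.card G = 7920) := by
  classical
  have hn4 : 4 ≤ Fintype.card α := by simpa using Fintype.card_le_of_embedding x
  have hcard : (MulAction.stabilizer G x).index = (Fintype.card α).descFactorial 4 := by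
    rw [@MulAction.index_stabilizer_of_transitive G _ _ _ x hG, Nat.card_eq_fintype_card,
      Fintype.card_embedding_eq, Fintype.card_fin]
  have hconj : ∀ g, g ∈ G → 4 ≤ CfsgLib.Perm.Induced.fixCard g → ∃ k : G, ∀ i : Fin 4,
      g ((k : Equiv.Perm α) (x i)) = (k : Equiv.Perm α) (x i) := by
    intro g _ hfix
    obtain ⟨S, hSs, hS⟩ := Finset.exists_subset_card_eq (n := 4)
      (s := CfsgLib.Perm.HallFour.FX g) hfix
    obtain ⟨k, hk⟩ := hG.exists_smul_eq x
      ((Finset.equivFinOfCardEq hS).symm.toEmbedding.trans (Function.Embedding.subtype _))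
    refine ⟨k, fun i => ?_⟩
    have h1 : (k : Equiv.Perm α) (x i) = ((Finset.equivFinOfCardEq hS).symm i : α) :=
      Function.Embedding.ext_iff.1 hk i
    rw [h1]
    exact CfsgLib.Perm.HallFour.mem_FX.1 (hSs ((Finset.equivFinOfCardEq hS).symm i).2)
  have hmem : ∀ (g : G) (k : G), (∀ i : Fin 4,
      (g : Equiv.Perm α) ((k : Equiv.Perm α) (x i)) = (k : Equiv.Perm α) (x i)) →
      k⁻¹ * g * k ∈ MulAction.stabilizer G x := by
    intro g k h
    rw [MulAction.mem_stabilizer_iff]
    refine Function.Embedding.ext fun i => ?_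
    show ((k⁻¹ * g * k : G) : Equiv.Perm α) (x i) = x i
    rw [Subgroup.coe_mul, Subgroup.coe_mul, Subgroup.coe_inv, Equiv.Perm.mul_apply,
      Equiv.Perm.mul_apply, h i, Equiv.Perm.inv_eq_iff_eq]
  have hno : CfsgLib.Perm.Induced.NoInv G 4 := by
    intro g hg hg2 hfix
    by_contra hg1
    obtain ⟨k, hk⟩ := hconj g hg hfix
    obtain ⟨s, es⟩ : ∃ s : MulAction.stabilizer G x, (s : G) = k⁻¹ * ⟨g, hg⟩ * k :=
      ⟨⟨_, hmem ⟨g, hg⟩ k hk⟩, rfl⟩
    have h2 : orderOf s = 2 := by
      refine orderOf_eq_prime (Subtype.ext ?_) fun e => hg1 ?_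
      · rw [SubmonoidClass.coe_pow, es, sq]
        calc k⁻¹ * ⟨g, hg⟩ * k * (k⁻¹ * ⟨g, hg⟩ * k) = k⁻¹ * (⟨g, hg⟩ * ⟨g, hg⟩) * k := by group
          _ = 1 := by
            rw [show (⟨g, hg⟩ : G) * ⟨g, hg⟩ = 1 from Subtype.ext hg2, mul_one, inv_mul_cancel]
      · have e' : k⁻¹ * ⟨g, hg⟩ * k = 1 := by rw [← es, e]; rfl
        have : (⟨g, hg⟩ : G) = 1 := by
          calc (⟨g, hg⟩ : G) = k * (k⁻¹ * ⟨g, hg⟩ * k) * k⁻¹ := by group
            _ = 1 := by rw [e', mul_one, mul_inv_cancel]
        exact congrArg Subtype.val this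
    have := hodd.of_dvd_nat (orderOf_dvd_natCard s)
    rw [h2] at this
    exact absurd this (by decide)
  rcases Nat.lt_or_ge (Fintype.card α) 8 with hn8 | hn8
  · obtain hn | hn | hn | hn : Fintype.card α = 4 ∨ Fintype.card α = 5 ∨ Fintype.card α = 6 ∨
      Fintype.card α = 7 := by omega
    · refine Or.inl ⟨Or.inl hn, Equiv.Perm.eq_top_of_isMultiplyPretransitive ?_⟩
      rw [Nat.card_eq_fintype_card, hn]
      exact MulAction.isMultiplyPretransitive_of_le (n := 4) (by norm_num)
        (by rw [Nat.card_eq_fintype_card, hn])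
    · refine Or.inl ⟨Or.inr hn, Equiv.Perm.eq_top_of_isMultiplyPretransitive ?_⟩
      rw [Nat.card_eq_fintype_card, hn]
      exact hG
    · refine Or.inr (Or.inl ⟨Or.inl hn, ?_⟩)
      have hle : alternatingGroup α ≤ G := _root_.IsMultiplyPretransitive.alternatingGroup_le α G (by
        rw [Nat.card_eq_fintype_card, hn]; exact hG)
      have hne : G ≠ ⊤ := by
        intro htop
        have hab : x 0 ≠ x 1 := x.injective.ne (by decide)
        refine hab ?_
        have h := hno (Equiv.swap (x 0) (x 1)) (htop ▸ trivial) (Equiv.swap_mul_self _ _) (by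
          refine le_trans ?_ (CfsgLib.Perm.Induced.card_le_fixCard
            (s := (Finset.univ.erase (x 0)).erase (x 1)) fun i hi => ?_)
          · rw [Finset.card_erase_of_mem (by simp [hab.symm]),
              Finset.card_erase_of_mem (Finset.mem_univ _), Finset.card_univ, hn]
          · simp only [Finset.mem_erase] at hi
            exact Equiv.swap_apply_of_ne_of_ne hi.2.1 hi.1)
        exact (by
          have := congrArg (fun p : Equiv.Perm α => p (x 1)) h
          simpa using this)
      have : Nontrivial α := Fintype.one_lt_card_iff_nontrivial.1 (by omega)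
      have h2 := Subgroup.index_dvd_of_le hle
      rw [alternatingGroup.index_eq_two] at h2
      rcases (Nat.dvd_prime Nat.prime_two).1 h2 with h | h
      · exact absurd (Subgroup.index_eq_one.1 h) hne
      · exact Equiv.Perm.eq_alternatingGroup_of_index_eq_two h
    · refine Or.inr (Or.inl ⟨Or.inr hn, ?_⟩)
      have hG7 := (MulAction.stabilizer G x).card_mul_index
      rw [hcard, hn, show (7 : ℕ).descFactorial 4 = 840 by decide] at hG7
      have hdvd := Subgroup.card_subgroup_dvd_card G
      rw [Nat.card_perm, Nat.card_eq_fintype_card (α := α), hn, show (7 : ℕ).factorial = 840 * 6 from rfl,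
        ← hG7, mul_comm (Nat.card _) 840] at hdvd
      have h6 : Nat.card (MulAction.stabilizer G x) ∣ 6 :=
        Nat.dvd_of_mul_dvd_mul_left (by norm_num) hdvd
      have hle := Nat.le_of_dvd (by norm_num) h6
      obtain h | h : Nat.card (MulAction.stabilizer G x) = 1 ∨
          Nat.card (MulAction.stabilizer G x) = 3 := by
        obtain ⟨c, hc⟩ := hodd
        have : c ≤ 2 := by omega
        interval_cases c
        · exact Or.inl (by omega)
        · exact Or.inr (by omega)
        · rw [hc] at h6; norm_num at h6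
      · exfalso
        refine CfsgLib.Perm.Induced.sharp_four_ne hG (fun g hg hfix => ?_) (Or.inl hn)
        obtain ⟨k, hk⟩ := hconj g hg hfix
        have hs := hmem ⟨g, hg⟩ k hk
        rw [Subgroup.card_eq_one.1 h, Subgroup.mem_bot] at hs
        have : (⟨g, hg⟩ : G) = 1 := by
          calc (⟨g, hg⟩ : G) = k * (k⁻¹ * ⟨g, hg⟩ * k) * k⁻¹ := by group
            _ = 1 := by rw [hs, mul_one, mul_inv_cancel]
        exact congrArg Subtype.val this
      · refine Equiv.Perm.eq_alternatingGroup_of_index_eq_two ?_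
        have := G.card_mul_index
        rw [← hG7, h, Nat.card_perm, Nat.card_eq_fintype_card (α := α), hn,
          show (7 : ℕ).factorial = 5040 from rfl] at this
        omega
  · refine Or.inr (Or.inr ?_)
    have hn11 : Fintype.card α = 11 := by
      rcases Nat.mod_two_eq_zero_or_one (Fintype.card α) with h | h
      · exact CfsgLib.Perm.HallFour.degree hG hno hn8 (f := 2) (Or.inl ⟨h, rfl⟩)
      · exact CfsgLib.Perm.HallFour.degree hG hno hn8 (f := 3) (Or.inr ⟨h, rfl⟩)
    refine ⟨hn11, ?_⟩
    rw [CfsgLib.Perm.Induced.card_of_triv hG hn4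
      (CfsgLib.Perm.HallFour.triv hG hno hn8 (f := 3) (Or.inr ⟨by omega, rfl⟩)), hn11]
    rfl

end Cfsg.Agent.S4221
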