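import Cfsg.Statements.S4227
import Cfsg.Agent.Lib.Solvable.HallHigman
import Cfsg.Agent.Lib.Char.Burnside
import Cfsg.Agent.Lib.PLocal.Section
import Cfsg.Agent.Lib.StructC.BurnsideBasis

set_option autoImplicit false
open Cfsg
open scoped Pointwise
set_option linter.style.haveILetI false

namespace Cfsg.Agent.S4227

variable {G : Type*} [Group G] [Finite G]

theorem pLengthLE_one_of (p : ℕ) [hp : Fact p.Prime]
    (h : ¬ p ∣ (Cfsg.pCore p (G ⧸ Cfsg.pPrimeCore p G)).index) : Cfsg.PLengthLE p 1 G := by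
  set N₀ := Cfsg.pPrimeCore p G with hN₀
  haveI := CfsgLib.Solvable.pPrimeCore_normal p G
  set U1 := Cfsg.upperPSeries p G 1 with hU1
  set U2 := Cfsg.upperPSeries p G 2 with hU2
  haveI := U1.2; haveI := U2.2
  have h1 : N₀ ≤ U1.1 := by
    intro x hx
    have e : U1.1 = (Cfsg.pPrimeCore p (G ⧸ (⊥ : Subgroup G))).comap (QuotientGroup.mk' ⊥) := rfl
    rw [e, Subgroup.mem_comap]
    refine CfsgLib.Solvable.le_pPrimeCore ((inferInstance : N₀.Normal).map (QuotientGroup.mk' ⊥) (QuotientGroup.mk'_surjective ⊥)) ?_ (Subgroup.mem_map_of_mem (QuotientGroup.mk' ⊥) hx)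
    exact (CfsgLib.Solvable.pPrimeCore_coprime p).coprime_dvd_left (Subgroup.card_map_dvd N₀ (QuotientGroup.mk' (⊥ : Subgroup G)))
  set P1 := (Cfsg.pCore p (G ⧸ N₀)).comap (QuotientGroup.mk' N₀) with hP1
  haveI : (Cfsg.pCore p (G ⧸ N₀)).Normal := CfsgLib.Solvable.pCore_normal p _
  have h2 : P1 ≤ U2.1 := by
    have e : U2.1 = (Cfsg.pCore p (G ⧸ U1.1)).comap (QuotientGroup.mk' U1.1) := rfl
    intro x hx
    rw [e, Subgroup.mem_comap]
    let f : G ⧸ N₀ →* G ⧸ U1.1 := QuotientGroup.map N₀ U1.1 (MonoidHom.id G) (by simpa using h1)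
    refine CfsgLib.Solvable.le_pCore ((inferInstance : (Cfsg.pCore p (G ⧸ N₀)).Normal).map f ?_) ((CfsgLib.Solvable.pCore_isPGroup p).map f) ⟨QuotientGroup.mk' N₀ x, hx, rfl⟩
    intro y
    obtain ⟨z, rfl⟩ := QuotientGroup.mk'_surjective U1.1 y
    exact ⟨z, rfl⟩
  have h3 : ¬ p ∣ U2.1.index := fun hd => h (by
    have := hd.trans (Subgroup.index_dvd_of_le h2)
    rwa [hP1, Subgroup.index_comap_of_surjective _ (QuotientGroup.mk'_surjective N₀)] at this)
  show (Cfsg.upperPSeries p G 3).1 = ⊤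
  have e : (Cfsg.upperPSeries p G 3).1 = (Cfsg.pPrimeCore p (G ⧸ U2.1)).comap (QuotientGroup.mk' U2.1) := rfl
  rw [e, top_le_iff.1 (CfsgLib.Solvable.le_pPrimeCore (p := p) (N := (⊤ : Subgroup (G ⧸ U2.1))) inferInstance ?_),
    Subgroup.comap_top]
  rw [Subgroup.card_top, ← Subgroup.index_eq_card]
  exact (hp.out.coprime_iff_not_dvd.2 h3).symm

theorem not_dvd_index_of_forall (p : ℕ) [Fact p.Prime] (Q : Subgroup G) [Q.Normal] (hQ : IsPGroup p Q)
    (h : ∀ t : G, (∃ k, orderOf t = p ^ k) → t ∈ Q) : ¬ p ∣ Q.index := by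
  intro hd
  obtain ⟨P⟩ : Nonempty (Sylow p G) := inferInstance
  have hle : (P : Subgroup G) ≤ Q := fun t ht => h t (by
    obtain ⟨k, hk⟩ := IsPGroup.iff_orderOf.1 P.isPGroup' ⟨t, ht⟩
    exact ⟨k, by rwa [Subgroup.orderOf_mk] at hk⟩)
  exact P.not_dvd_index (hd.trans (Subgroup.index_dvd_of_le hle))

theorem card_eq_of_exp_six (h : ∀ x : G, x ^ 6 = 1) :
    Nat.card G = 2 ^ (Nat.card G).factorization 2 * 3 ^ (Nat.card G).factorization 3 := by
  refine Nat.eq_of_factorization_eq Nat.card_pos.ne' (by positivity) fun q => ?_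
  rw [Nat.factorization_mul (by positivity) (by positivity), Nat.prime_two.factorization_pow,
    Nat.prime_three.factorization_pow, Finsupp.add_apply]
  by_cases hq2 : q = 2
  · simp [hq2]
  by_cases hq3 : q = 3
  · simp [hq3]
  rw [Finsupp.single_eq_of_ne hq2, Finsupp.single_eq_of_ne hq3, add_zero]
  by_contra hne
  have hq : q.Prime := Nat.prime_of_mem_primeFactors (Nat.support_factorization _ ▸ Finsupp.mem_support_iff.2 hne)
  haveI : Fact q.Prime := ⟨hq⟩
  obtain ⟨x, hx⟩ := exists_prime_orderOf_dvd_card' q (Nat.dvd_of_factorization_pos hne)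
  have h6 : q ∣ 2 * 3 := hx ▸ orderOf_dvd_of_pow_eq_one (h x)
  rcases hq.dvd_mul.1 h6 with h' | h'
  · exact hq2 ((Nat.prime_dvd_prime_iff_eq hq Nat.prime_two).1 h')
  · exact hq3 ((Nat.prime_dvd_prime_iff_eq hq Nat.prime_three).1 h')

theorem pow_prime_eq_one (h : ∀ x : G, x ^ 6 = 1) (p : ℕ) (hp : p = 2 ∨ p = 3) {t : G}
    (ht : ∃ k, orderOf t = p ^ k) : t ^ p = 1 := by
  obtain ⟨k, hk⟩ := ht
  have h6 : p ^ k ∣ 6 := hk ▸ orderOf_dvd_of_pow_eq_one (h t)
  refine orderOf_dvd_iff_pow_eq_one.1 (hk ▸ ?_)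
  rcases k with _ | _ | k
  · simp
  · simp
  · exfalso
    have : p ^ 2 ∣ 6 := (pow_dvd_pow p (by omega)).trans h6
    rcases hp with rfl | rfl <;> norm_num at this

theorem mem_core_two (h : ∀ x : G, x ^ 6 = 1) [Group.IsSolvable G] (hO : Cfsg.pPrimeCore 2 G = ⊥)
    (t : G) (ht : ∃ k, orderOf t = 2 ^ k) : t ∈ Cfsg.pCore 2 G := by
  haveI : Fact (Nat.Prime 2) := ⟨Nat.prime_two⟩
  refine CfsgLib.Solvable.centralizer_pCore_le 2 hO (Subgroup.mem_centralizer_iff.2 fun x hx => ?_)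
  have hQ := CfsgLib.Solvable.pCore_isPGroup (G := G) 2
  haveI := CfsgLib.Solvable.pCore_normal 2 G
  have hx2 : x ^ 2 = 1 := pow_prime_eq_one h 2 (Or.inl rfl) (by
    obtain ⟨k, hk⟩ := IsPGroup.iff_orderOf.1 hQ ⟨x, hx⟩
    exact ⟨k, by rwa [Subgroup.orderOf_mk] at hk⟩)
  have ht2 : t ^ 2 = 1 := pow_prime_eq_one h 2 (Or.inl rfl) ht
  have ht' : t⁻¹ = t := inv_eq_of_mul_eq_one_right (by rw [← pow_two, ht2])
  have hx' : x⁻¹ = x := inv_eq_of_mul_eq_one_right (by rw [← pow_two, hx2])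
  set y := (t * x) ^ 2 with hy
  have hyQ : y ∈ Cfsg.pCore 2 G := by
    rw [hy, show (t * x) ^ 2 = (t * x * t⁻¹) * x by rw [ht', pow_two, ← mul_assoc]]
    exact Subgroup.mul_mem _ ((inferInstance : (Cfsg.pCore 2 G).Normal).conj_mem x hx t) hx
  have hy2 : y ^ 2 = 1 := pow_prime_eq_one h 2 (Or.inl rfl) (by
    obtain ⟨k, hk⟩ := IsPGroup.iff_orderOf.1 hQ ⟨y, hyQ⟩
    exact ⟨k, by rwa [Subgroup.orderOf_mk] at hk⟩)
  have hy3 : y ^ 3 = 1 := by rw [hy, ← pow_mul]; exact h _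
  have hy1 : y = 1 := by rwa [pow_succ, hy2, one_mul] at hy3
  have hinv : (t * x)⁻¹ = t * x := inv_eq_of_mul_eq_one_right (by rw [← pow_two]; exact hy1)
  rwa [mul_inv_rev, ht', hx'] at hinv

theorem ring_identity {R : Type*} [Ring R] {a b c T : R} (h3 : (3 : R) = 0) (hab : a * b = c) (hbc : b * c = a)
    (hca : c * a = b) (haa : a * a = 1) (hac : a * c = b) (hTa : T * a = b * T) (hTb : T * b = c * T) (hTc : T * c = a * T)
    (e0 : 1 + T + T * T = 0) (ea : 1 + a * T + a * T * (a * T) = 0) (eb : 1 + b * T + b * T * (b * T) = 0)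
    (ec : 1 + c * T + c * T * (c * T) = 0) : a = 1 := by
  have fa : a * T * (a * T) = c * (T * T) := by
    rw [mul_assoc a T, ← mul_assoc T a T, hTa, mul_assoc b T T, ← mul_assoc a b, hab]
  have fb : b * T * (b * T) = a * (T * T) := by
    rw [mul_assoc b T, ← mul_assoc T b T, hTb, mul_assoc c T T, ← mul_assoc b c, hbc]
  have fc : c * T * (c * T) = b * (T * T) := by
    rw [mul_assoc c T, ← mul_assoc T c T, hTc, mul_assoc a T T, ← mul_assoc c a, hca]
  rw [fa] at ea; rw [fb] at eb; rw [fc] at ec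
  have hS : 1 + a + b + c = 4 := by
    have h1 : (1 + a + b + c) * (1 + T + T * T) = 0 := by rw [e0, mul_zero]
    have h2 : (1 + T + T * T) + (1 + a * T + c * (T * T)) + (1 + b * T + a * (T * T)) + (1 + c * T + b * (T * T)) = 0 := by
      rw [e0, ea, eb, ec]; simp
    have h4 : (4 : R) = 1 + 1 + 1 + 1 := by norm_num
    rw [h4, ← sub_eq_zero]
    calc 1 + a + b + c - (1 + 1 + 1 + 1)
        = (1 + a + b + c) * (1 + T + T * T) - ((1 + T + T * T) + (1 + a * T + c * (T * T)) + (1 + b * T + a * (T * T)) + (1 + c * T + b * (T * T))) := by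
          noncomm_ring
      _ = 0 := by rw [h1, h2, sub_zero]
  have habc : a + b + c = 0 := by
    have h4 : (4 : R) = 1 + 3 := by norm_num
    rw [h4, h3, add_zero] at hS
    have h5 : 1 + (a + b + c) = 1 + 0 := by rw [add_zero, ← add_assoc, ← add_assoc, hS]
    exact add_left_cancel h5
  have h6 : a * (a + b + c) = 0 := by rw [habc, mul_zero]
  rw [mul_add, mul_add, haa, hab, hac] at h6
  calc a = a + b + c - (1 + c + b) + 1 := by abel
    _ = 1 := by rw [habc, h6]; simp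

open scoped IsMulCommutative in
theorem mem_core_three (h : ∀ x : G, x ^ 6 = 1) [Group.IsSolvable G] (hO : Cfsg.pPrimeCore 3 G = ⊥)
    (t : G) (ht : ∃ k, orderOf t = 3 ^ k) : t ∈ Cfsg.pCore 3 G := by
  classical
  haveI : Fact (Nat.Prime 3) := ⟨Nat.prime_three⟩
  haveI : Fact (Nat.Prime 2) := ⟨Nat.prime_two⟩
  set Q := Cfsg.pCore 3 G with hQdef
  haveI hQn : Q.Normal := CfsgLib.Solvable.pCore_normal 3 G
  have hQ : IsPGroup 3 Q := CfsgLib.Solvable.pCore_isPGroup 3
  have hC := CfsgLib.Solvable.centralizer_pCore_le 3 hO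
  have ht3 : t ^ 3 = 1 := pow_prime_eq_one h 3 (Or.inr rfl) ht
  by_contra htQ
  set π := QuotientGroup.mk' Q
  set K := G ⧸ Q
  have hK6 : ∀ x : K, x ^ 6 = 1 := fun x => by
    obtain ⟨y, rfl⟩ := QuotientGroup.mk'_surjective Q x
    rw [← map_pow, h, map_one]
  -- the section `O_2(G/Q)` is moved by `t`
  have hKcore : Cfsg.pPrimeCore 2 K = ⊥ := by
    haveI := CfsgLib.Solvable.pPrimeCore_normal 2 K
    have h3 : IsPGroup 3 (Cfsg.pPrimeCore 2 K) := fun x => by
      refine ⟨1, ?_⟩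
      rw [pow_one]
      refine Subtype.ext ?_
      have hodd : (orderOf (x : K)).Coprime 2 := by
        rw [Subgroup.orderOf_coe]
        exact (CfsgLib.Solvable.pPrimeCore_coprime 2).coprime_dvd_left (orderOf_dvd_natCard x)
      have h6 := orderOf_dvd_of_pow_eq_one (hK6 (x : K))
      have : orderOf (x : K) ∣ 3 := hodd.dvd_of_dvd_mul_left (show orderOf (x : K) ∣ 2 * 3 from h6)
      rw [SubmonoidClass.coe_pow]
      exact orderOf_dvd_iff_pow_eq_one.1 this
    haveI : ((Cfsg.pPrimeCore 2 K).comap π).Normal := inferInstance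
    have h4 : IsPGroup 3 ((Cfsg.pPrimeCore 2 K).comap π) :=
      h3.comap_of_ker_isPGroup π (by rw [QuotientGroup.ker_mk']; exact hQ)
    have h5 : (Cfsg.pPrimeCore 2 K).comap π ≤ Q := CfsgLib.Solvable.le_pCore inferInstance h4
    rw [eq_bot_iff]
    intro x hx
    obtain ⟨y, rfl⟩ := QuotientGroup.mk'_surjective Q x
    rw [Subgroup.mem_bot, QuotientGroup.mk'_apply, QuotientGroup.eq_one_iff]
    exact h5 hx
  set E := Cfsg.pCore 2 K
  haveI : E.Normal := CfsgLib.Solvable.pCore_normal 2 K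
  have hE : IsPGroup 2 E := CfsgLib.Solvable.pCore_isPGroup 2
  have hE2 : ∀ x ∈ E, x * x = 1 := fun x hx => by
    rw [← pow_two]
    refine pow_prime_eq_one hK6 2 (Or.inl rfl) ?_
    obtain ⟨k, hk⟩ := IsPGroup.iff_orderOf.1 hE ⟨x, hx⟩
    exact ⟨k, by rwa [Subgroup.orderOf_mk] at hk⟩
  have hEc : ∀ x ∈ E, ∀ y ∈ E, x * y = y * x := by
    intro x hx y hy
    have h1 : (x * y)⁻¹ = x * y := inv_eq_of_mul_eq_one_right (hE2 _ (E.mul_mem hx hy))
    rw [mul_inv_rev, inv_eq_of_mul_eq_one_right (hE2 x hx), inv_eq_of_mul_eq_one_right (hE2 y hy)] at h1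
    exact h1.symm
  have htE : π t ∉ Subgroup.centralizer (E : Set K) := by
    intro hc
    have h1 := CfsgLib.Solvable.centralizer_pCore_le 2 hKcore hc
    have h2 := hE2 _ h1
    rw [← map_mul, QuotientGroup.mk'_apply, QuotientGroup.eq_one_iff] at h2
    apply htQ
    have : t = (t * t) * (t * t) := by
      calc t = t ^ 3 * t := by rw [ht3, one_mul]
        _ = _ := by simp only [pow_succ, pow_zero, one_mul, mul_assoc]
    rw [this]
    exact Q.mul_mem h2 h2
  obtain ⟨a₀, ha₀, hne⟩ : ∃ a₀ ∈ E, a₀ * π t ≠ π t * a₀ := by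
    by_contra hh
    push Not at hh
    exact htE (Subgroup.mem_centralizer_iff.2 hh)
  set T := π t with hT
  have hT3 : T * T * T = 1 := by
    rw [hT, ← map_mul, ← map_mul, show t * t * t = t ^ 3 by simp only [pow_succ, pow_zero, one_mul], ht3, map_one]
  have hconjE : ∀ x ∈ E, T * x * T⁻¹ ∈ E := fun x hx => (inferInstance : E.Normal).conj_mem x hx T
  set a₁ := T * a₀ * T⁻¹ with ha₁
  set a₂ := T * a₁ * T⁻¹ with ha₂
  have ha₁E : a₁ ∈ E := hconjE _ ha₀
  have ha₂E : a₂ ∈ E := hconjE _ ha₁E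
  have ha₃ : T * a₂ * T⁻¹ = a₀ := by
    rw [ha₂, ha₁]
    calc T * (T * (T * a₀ * T⁻¹) * T⁻¹) * T⁻¹ = (T * T * T) * a₀ * (T * T * T)⁻¹ := by group
      _ = a₀ := by rw [hT3]; simp
  set ea := a₀ * a₁ with hea
  set eb := a₁ * a₂ with heb
  set ec := a₂ * a₀ with hec
  have hsq : ∀ x ∈ E, ∀ y ∈ E, ∀ z : K, x * y * (y * z) = x * z := fun x _ y hy z => by
    rw [mul_assoc, ← mul_assoc y y z, hE2 y hy, one_mul]
  have c01 : ea * eb = ec := by rw [hea, heb, hsq a₀ ha₀ a₁ ha₁E, hEc a₀ ha₀ a₂ ha₂E, hec]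
  have c12 : eb * ec = ea := by rw [heb, hec, hsq a₁ ha₁E a₂ ha₂E, hEc a₁ ha₁E a₀ ha₀, hea]
  have c20 : ec * ea = eb := by rw [hec, hea, hsq a₂ ha₂E a₀ ha₀, hEc a₂ ha₂E a₁ ha₁E, heb]
  have heaE : ea ∈ E := E.mul_mem ha₀ ha₁E
  have hecE : ec ∈ E := E.mul_mem ha₂E ha₀
  have c02 : ea * ec = eb := by rw [hEc ea heaE ec hecE, c20]
  have c00 : ea * ea = 1 := hE2 _ heaE
  have r01 : T * ea = eb * T := by
    rw [hea, heb, ha₂, ha₁]; group
  have r12 : T * eb = ec * T := by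
    rw [heb, hec]
    calc T * (a₁ * a₂) = (T * a₁ * T⁻¹) * (T * a₂ * T⁻¹) * T := by group
      _ = a₂ * a₀ * T := by rw [ha₃, ← ha₂]
  have r20 : T * ec = ea * T := by
    rw [hec, hea]
    calc T * (a₂ * a₀) = (T * a₂ * T⁻¹) * (T * a₀ * T⁻¹) * T := by group
      _ = a₀ * a₁ * T := by rw [ha₃, ← ha₁]
  have hea1 : ea ≠ 1 := fun h1 => hne (by
    rw [hea] at h1
    have : a₁ = a₀ := by
      rw [← inv_eq_of_mul_eq_one_right (hE2 a₀ ha₀)]
      exact eq_inv_of_mul_eq_one_right h1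
    rw [ha₁, mul_inv_eq_iff_eq_mul] at this
    exact this.symm)
  -- the module `Q / Φ(Q)`
  set Φ := (frattini Q).map Q.subtype with hΦ
  haveI hΦn : Φ.Normal := by rw [hΦ]; infer_instance
  set σ := QuotientGroup.mk' Φ
  set V := Q.map σ with hV
  haveI : V.Normal := hQn.map σ (QuotientGroup.mk'_surjective Φ)
  haveI : IsMulCommutative V := ⟨⟨fun x y => by
    obtain ⟨x', hx', hx''⟩ := x.2
    obtain ⟨y', hy', hy''⟩ := y.2
    apply Subtype.ext
    show (x : G ⧸ Φ) * y = y * x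
    rw [← hx'', ← hy'', ← map_mul, ← map_mul]
    refine QuotientGroup.eq.2 ?_
    refine ⟨(⟨x', hx'⟩ * ⟨y', hy'⟩)⁻¹ * (⟨y', hy'⟩ * ⟨x', hx'⟩), ?_, by simp⟩
    have := CfsgLib.StructC.comm_mem_frattini hQ ⟨y', hy'⟩ ⟨x', hx'⟩
    rw [SetLike.mem_coe, mul_inv_rev]
    simpa only [mul_assoc] using this⟩⟩
  let act : G →* AddMonoid.End (Additive V) :=
    { toFun := fun g => MonoidHom.toAdditive (MulAut.conjNormal (σ g) : MulAut V).toMonoidHom
      map_one' := by
        refine AddMonoidHom.ext fun x => Additive.toMul.injective ?_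
        show (MulAut.conjNormal (σ 1) : MulAut V) x.toMul = x.toMul
        rw [map_one, map_one]; rfl
      map_mul' := fun g g' => by
        refine AddMonoidHom.ext fun x => Additive.toMul.injective ?_
        show (MulAut.conjNormal (σ (g * g')) : MulAut V) x.toMul =
          (MulAut.conjNormal (σ g) : MulAut V) ((MulAut.conjNormal (σ g') : MulAut V) x.toMul)
        rw [map_mul, map_mul]; rfl }
  have hact : ∀ (g : G) (v : V), Additive.toMul (act g (Additive.ofMul v)) = MulAut.conjNormal (σ g) v :=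
    fun g v => rfl
  have hQtriv : ∀ q ∈ Q, act q = 1 := by
    intro q hq
    refine AddMonoidHom.ext fun v => ?_
    apply Additive.toMul.injective
    show MulAut.conjNormal (σ q) v.toMul = v.toMul
    apply Subtype.ext
    rw [MulAut.conjNormal_apply]
    have hc := congrArg Subtype.val (mul_comm' (⟨σ q, Subgroup.mem_map_of_mem σ hq⟩ : V) v.toMul)
    simp only [Subgroup.coe_mul] at hc
    rw [hc, mul_inv_cancel_right]
  let R : K →* AddMonoid.End (Additive V) := QuotientGroup.lift Q act (fun q hq => hQtriv q hq)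
  have hR : ∀ g : G, R (π g) = act g := fun g => rfl
  -- quadratic relation
  have hquad : ∀ g : G, (π g) * (π g) * (π g) = 1 → 1 + R (π g) + R (π g) * R (π g) = 0 := by
    intro g hg
    refine AddMonoidHom.ext fun v => ?_
    obtain ⟨v, rfl⟩ : ∃ w : V, Additive.ofMul w = v := ⟨v.toMul, rfl⟩
    obtain ⟨w, hw, hwv⟩ := v.2
    apply Additive.toMul.injective
    apply Subtype.ext
    rw [hR]
    show (v : G ⧸ Φ) * (σ g * v * (σ g)⁻¹) * (σ g * (σ g * v * (σ g)⁻¹) * (σ g)⁻¹) = 1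
    have hone : ∀ z : G, π z * π z * π z = 1 → z ^ 3 = 1 := by
      intro z hz
      have hzQ : z ^ 3 ∈ Q := by
        rw [← QuotientGroup.eq_one_iff, QuotientGroup.mk_pow, pow_succ, pow_two]
        exact hz
      refine pow_prime_eq_one h 3 (Or.inr rfl) ?_
      obtain ⟨k, hk⟩ := hQ ⟨z ^ 3, hzQ⟩
      have : z ^ (3 ^ (k + 1)) = 1 := by
        rw [pow_succ', pow_mul]
        simpa using congrArg Subtype.val hk
      obtain ⟨j, -, hj⟩ := (Nat.dvd_prime_pow Nat.prime_three).1 (orderOf_dvd_of_pow_eq_one this)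
      exact ⟨j, hj⟩
    have hwg : π (w * g) = π g := by
      rw [map_mul, show π w = 1 from (QuotientGroup.eq_one_iff w).2 hw, one_mul]
    have h1 := hone (w * g) (by rw [hwg]; exact hg)
    have h2 := hone g hg
    rw [← hwv, ← map_mul, ← map_inv, ← map_mul, ← map_mul, ← map_mul, ← map_mul, ← map_mul,
      show w * (g * w * g⁻¹) * (g * (g * w * g⁻¹) * g⁻¹) = (w * g) ^ 3 * (g ^ 3)⁻¹ by simp [pow_succ, mul_assoc], h1, h2]
    simp
  obtain ⟨ga, hga⟩ := QuotientGroup.mk'_surjective Q ea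
  obtain ⟨gb, hgb⟩ := QuotientGroup.mk'_surjective Q eb
  obtain ⟨gc, hgc⟩ := QuotientGroup.mk'_surjective Q ec
  have h3 : (3 : AddMonoid.End (Additive V)) = 0 := by
    refine AddMonoidHom.ext fun v => ?_
    obtain ⟨v, rfl⟩ : ∃ w : V, Additive.ofMul w = v := ⟨v.toMul, rfl⟩
    obtain ⟨w, hw, hwv⟩ := v.2
    have h31 : (3 : AddMonoid.End (Additive V)) = 1 + 1 + 1 := by norm_num
    rw [h31]
    apply Additive.toMul.injective
    apply Subtype.ext
    show (v : G ⧸ Φ) * v * v = 1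
    rw [← hwv, ← map_mul, ← map_mul, show w * w * w = w ^ 3 by simp only [pow_succ, pow_zero, one_mul]]
    refine (QuotientGroup.eq_one_iff _).2 ⟨⟨w, hw⟩ ^ 3, CfsgLib.StructC.pow_mem_frattini hQ _, rfl⟩
  have hcube : ∀ x : K, ∀ y z, T * x = y * T → T * y = z * T → x * y * z = 1 →
      (x * T) * (x * T) * (x * T) = 1 := by
    intro x y z h1 h2 h123
    calc x * T * (x * T) * (x * T) = x * (T * x) * (T * x) * T := by group
      _ = x * y * (T * y) * T * T := by rw [h1]; group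
      _ = (x * y * z) * (T * T * T) := by rw [h2]; group
      _ = 1 := by rw [h123, hT3, one_mul]
  have q0 := hquad t hT3
  have qa := hquad (ga * t) (by rw [map_mul, hga]; exact hcube ea eb ec r01 r12 (by rw [c01, hE2 ec hecE]))
  have qb := hquad (gb * t) (by rw [map_mul, hgb]; exact hcube eb ec ea r12 r20 (by rw [c12, c00]))
  have qc := hquad (gc * t) (by rw [map_mul, hgc]; exact hcube ec ea eb r20 r01 (by rw [c20, hE2 eb (E.mul_mem ha₁E ha₂E)]))
  rw [map_mul π, hga, map_mul] at qa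
  rw [map_mul π, hgb, map_mul] at qb
  rw [map_mul π, hgc, map_mul] at qc
  have hfix : R ea = 1 := ring_identity h3 (by rw [← map_mul, c01]) (by rw [← map_mul, c12]) (by rw [← map_mul, c20])
    (by rw [← map_mul, c00, map_one]) (by rw [← map_mul, c02]) (by rw [← map_mul, ← map_mul, r01])
    (by rw [← map_mul, ← map_mul, r12]) (by rw [← map_mul, ← map_mul, r20]) q0 qa qb qc
  -- lift to an involution
  set g := ga ^ 3 with hg
  have hπg : π g = ea := by rw [hg, map_pow, hga, pow_succ, pow_two, c00, one_mul]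
  have hg2 : g ^ 2 = 1 := by rw [hg, ← pow_mul]; exact h ga
  have hgC : g ∈ Subgroup.centralizer (Q : Set G) := by
    refine CfsgLib.PLocal.centralizes_of_trivial_on_frattini_quotient hQ
      (by rw [Subgroup.normalizer_eq_top (H := Q)]; trivial)
      (((Nat.coprime_primes Nat.prime_two Nat.prime_three).2 (by norm_num)).coprime_dvd_left (orderOf_dvd_of_pow_eq_one hg2)) ?_
    intro k hk
    have h1 : Additive.toMul (act g (Additive.ofMul ⟨σ k, Subgroup.mem_map_of_mem σ hk⟩)) = ⟨σ k, Subgroup.mem_map_of_mem σ hk⟩ := by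
      rw [← hR, hπg, hfix]; rfl
    have h2 : σ g * σ k * (σ g)⁻¹ = σ k := congrArg Subtype.val h1
    rw [← map_inv, ← map_mul, ← map_mul] at h2
    have h3 := QuotientGroup.eq.1 h2
    have hgi : g⁻¹ = g := inv_eq_of_mul_eq_one_right (by rw [← pow_two, hg2])
    show k⁻¹ * g⁻¹ * k * g ∈ Φ
    have h4 := Φ.inv_mem h3
    rw [show ((g * k * g⁻¹)⁻¹ * k)⁻¹ = k⁻¹ * (g * k * g⁻¹) by group, hgi] at h4
    rw [hgi]
    simpa only [mul_assoc] using h4
  exact hea1 (by rw [← hπg]; exact (QuotientGroup.eq_one_iff g).2 (hC hgC))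

/-- A finite group in which every element has order dividing `6` has `2`-length at most `1` and `3`-length at most `1`. -/
theorem result {G : Type*} [Group G] [Finite G] (h : ∀ x : G, x ^ 6 = 1) : Cfsg.PLengthLE 2 1 G ∧ Cfsg.PLengthLE 3 1 G := by
  haveI : Fact (Nat.Prime 2) := ⟨Nat.prime_two⟩
  haveI : Fact (Nat.Prime 3) := ⟨Nat.prime_three⟩
  haveI := CfsgLib.Solvable.pPrimeCore_normal 2 G
  haveI := CfsgLib.Solvable.pPrimeCore_normal 3 G
  haveI hs : Group.IsSolvable G :=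
    CfsgLib.Char.burnside_pq 2 3 Nat.prime_two Nat.prime_three _ _ G (card_eq_of_exp_six h)
  have hq : ∀ (N : Subgroup G) [N.Normal], ∀ x : G ⧸ N, x ^ 6 = 1 := fun N _ x => by
    obtain ⟨y, rfl⟩ := QuotientGroup.mk'_surjective N x
    rw [← map_pow, h, map_one]
  refine ⟨pLengthLE_one_of 2 ?_, pLengthLE_one_of 3 ?_⟩
  · haveI := CfsgLib.Solvable.pCore_normal 2 (G ⧸ Cfsg.pPrimeCore 2 G)
    exact not_dvd_index_of_forall 2 _ (CfsgLib.Solvable.pCore_isPGroup 2) fun t ht =>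
      mem_core_two (hq _) (CfsgLib.Solvable.pPrimeCore_quotient_eq_bot 2) t ht
  · haveI := CfsgLib.Solvable.pCore_normal 3 (G ⧸ Cfsg.pPrimeCore 3 G)
    exact not_dvd_index_of_forall 3 _ (CfsgLib.Solvable.pCore_isPGroup 3) fun t ht =>
      mem_core_three (hq _) (CfsgLib.Solvable.pPrimeCore_quotient_eq_bot 3) t ht

end Cfsg.Agent.S4227
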