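import Cfsg.Statements.S4230

set_option autoImplicit false
open Cfsg
open scoped Pointwise

namespace Cfsg.Agent.S4230

/-- Let p be an odd prime, q a natural number not divisible by p, and e the multiplicative order of q modulo p. For a natural number f, p divides the value at q of the f-th cyclotomic polynomial if and only if f = e·p^j for some j ≥ 0. -/
theorem result (p q f : ℕ) (hp : p.Prime) (hp2 : p ≠ 2) (hpq : ¬ p ∣ q) :
    ((p : ℤ) ∣ (Polynomial.cyclotomic f ℤ).eval (q : ℤ)) ↔ ∃ j : ℕ, f = orderOf (q : ZMod p) * p ^ j := by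
  have : Fact p.Prime := ⟨hp⟩
  set e := orderOf (q : ZMod p)
  have hq0 : (q : ZMod p) ≠ 0 := fun h => hpq ((ZMod.natCast_eq_zero_iff _ _).mp h)
  have he : e ∣ p - 1 := orderOf_dvd_of_pow_eq_one (ZMod.pow_card_sub_one_eq_one hq0)
  have hepos : 0 < e := by
    have := hp.two_le
    exact Nat.pos_of_dvd_of_pos he (by omega)
  have hpe : ¬ p ∣ e := fun h => by
    have := Nat.le_of_dvd hepos h
    have := Nat.le_of_dvd (by have := hp.two_le; omega) he
    omega
  have hroot : ((p : ℤ) ∣ (Polynomial.cyclotomic f ℤ).eval (q : ℤ)) ↔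
      (Polynomial.cyclotomic f (ZMod p)).IsRoot (q : ZMod p) := by
    rw [← ZMod.intCast_zmod_eq_zero_iff_dvd, Polynomial.IsRoot.def,
      ← Polynomial.map_cyclotomic f (Int.castRingHom (ZMod p))]
    rw [show (q : ZMod p) = Int.castRingHom (ZMod p) (q : ℤ) by simp, Polynomial.eval_map_apply]
    simp
  rw [hroot]
  rcases Nat.eq_zero_or_pos f with rfl | hf
  · simp only [Polynomial.cyclotomic_zero, Polynomial.IsRoot.def, Polynomial.eval_one, one_ne_zero, false_iff]
    rintro ⟨j, hj⟩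
    exact (Nat.mul_pos hepos (pow_pos hp.pos j)).ne hj
  obtain ⟨k, m, hm, rfl⟩ := Nat.exists_eq_pow_mul_and_not_dvd hf.ne' p hp.ne_one
  have : NeZero (m : ZMod p) := ⟨fun h => hm ((ZMod.natCast_eq_zero_iff _ _).mp h)⟩
  rw [Polynomial.isRoot_cyclotomic_prime_pow_mul_iff_of_charP]
  constructor
  · intro h
    exact ⟨k, by rw [h.eq_orderOf]; ring⟩
  · rintro ⟨j, hj⟩
    have hme : m = e := by
      have hj' : p ^ k * m = p ^ j * e := by rw [hj]; ring
      have c1 : Nat.Coprime m (p ^ j) := ((Nat.Prime.coprime_iff_not_dvd hp).mpr hm).symm.pow_right j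
      have c2 : Nat.Coprime e (p ^ k) := ((Nat.Prime.coprime_iff_not_dvd hp).mpr hpe).symm.pow_right k
      exact Nat.dvd_antisymm (c1.dvd_of_dvd_mul_left (hj' ▸ dvd_mul_left m _))
        (c2.dvd_of_dvd_mul_left (hj'.symm ▸ dvd_mul_left e _))
    exact IsPrimitiveRoot.iff_orderOf.mpr hme.symm

end Cfsg.Agent.S4230
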