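import Cfsg.Statements.S4231
import Cfsg.Agent.S2119
import Cfsg.Agent.Lib.Perm.AutAltSix

set_option autoImplicit false
open Cfsg

namespace Cfsg.Agent.S4231

open CfsgLib.Perm.AutAltSix

/-- An automorphism fixing the class of three-cycles is induced by a permutation. -/
theorem mem_range_six {α : MulAut A6} {σ : A6} (hσ : (σ : Equiv.Perm (Fin 6)).IsThreeCycle)
    (hασ : ((α σ : A6) : Equiv.Perm (Fin 6)).IsThreeCycle) :
    α ∈ (MulAut.conjNormal : Equiv.Perm (Fin 6) →* MulAut A6).range := by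
  choose f hf using fun i => stab_map hσ hασ i
  have hinj : Function.Injective f := fun a b hab => by
    by_contra hne
    obtain ⟨g, hg, hga, hgb⟩ := stab_sep a b hne
    have h1 := (hf a ⟨g, Equiv.Perm.mem_alternatingGroup.2 hg⟩).1 hga
    rw [hab] at h1
    exact hgb ((hf b ⟨g, Equiv.Perm.mem_alternatingGroup.2 hg⟩).2 h1)
  have hbij := Finite.injective_iff_bijective.1 hinj
  refine ⟨Equiv.ofBijective f hbij, MulEquiv.ext fun x => Subtype.ext (Equiv.ext fun j => ?_)⟩
  obtain ⟨i, rfl⟩ := hbij.2 j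
  -- the images of the stabiliser of `i` and of `x i`
  have key : ((α x : A6) : Equiv.Perm (Fin 6)) (f i) = f ((x : Equiv.Perm (Fin 6)) i) := by
    by_contra hne
    obtain ⟨g, hg, hga, hgb⟩ := stab_sep _ _ (Ne.symm hne)
    set k : A6 := ⟨g, Equiv.Perm.mem_alternatingGroup.2 hg⟩
    have h1 := (hf ((x : Equiv.Perm (Fin 6)) i) (α.symm k)).2 (by rw [α.apply_symm_apply]; exact hga)
    have h2 : ((x⁻¹ * α.symm k * x : A6) : Equiv.Perm (Fin 6)) i = i := by
      rw [Subgroup.coe_mul, Subgroup.coe_mul, Subgroup.coe_inv, Equiv.Perm.mul_apply, Equiv.Perm.mul_apply, h1,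
        Equiv.Perm.inv_def, Equiv.symm_apply_apply]
    have h3 := (hf i _).1 h2
    rw [map_mul, map_mul, map_inv, α.apply_symm_apply, Subgroup.coe_mul, Subgroup.coe_mul, Subgroup.coe_inv,
      Equiv.Perm.mul_apply, Equiv.Perm.mul_apply, Equiv.Perm.inv_def, Equiv.symm_apply_eq] at h3
    exact hgb h3
  rw [MulAut.conjNormal_apply, key]
  simp [Equiv.Perm.mul_apply, Equiv.Perm.inv_def, Equiv.ofBijective_symm_apply_apply]

theorem card_aut_six : Nat.card (MulAut A6) ∣ 2 * Nat.factorial 6 := by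
  obtain ⟨x, hx⟩ : ∃ x : A6, (x : Equiv.Perm (Fin 6)).IsThreeCycle :=
    ⟨⟨cs, Equiv.Perm.mem_alternatingGroup.2 cs_cr_facts.2.2.2.2.2.2.2.2.1⟩,
      card_support_eq_three_iff.1 cs_cr_facts.1⟩
  obtain ⟨ψ, hψ⟩ := exists_outer
  set R := (MulAut.conjNormal : Equiv.Perm (Fin 6) →* MulAut A6).range
  have hidx : R.index ≤ 2 := by
    rw [Subgroup.index_eq_card]
    have hs : Function.Surjective (fun b : Bool => ((if b then (ψ⁻¹ : MulAut A6) else 1 : MulAut A6) : MulAut A6 ⧸ R)) := by
      rintro ⟨α⟩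
      by_cases h : ((α x : A6) : Equiv.Perm (Fin 6)).IsThreeCycle
      · refine ⟨false, Quotient.sound' (QuotientGroup.leftRel_apply.2 ?_)⟩
        rw [show ((if false then (ψ⁻¹ : MulAut A6) else 1) : MulAut A6)⁻¹ * α = α by simp]
        exact mem_range_six hx h
      · refine ⟨true, Quotient.sound' (QuotientGroup.leftRel_apply.2 ?_)⟩
        simp only [if_true, inv_inv]
        exact mem_range_six (α := ψ * α) hx (hψ (α x) ((α.orderOf_eq x).trans (by
          rw [← Subgroup.orderOf_coe, hx.orderOf])) h)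
    exact (Nat.card_le_card_of_surjective _ hs).trans (by simp [Nat.card_eq_fintype_card])
  rw [← R.card_mul_index, mul_comm 2]
  refine mul_dvd_mul ?_ ?_
  · have h := Subgroup.card_range_dvd (MulAut.conjNormal : Equiv.Perm (Fin 6) →* MulAut A6)
    rwa [Nat.card_perm, Nat.card_fin] at h
  · have h0 : R.index ≠ 0 := Subgroup.index_ne_zero_of_finite
    rcases (by omega : R.index = 1 ∨ R.index = 2) with h | h <;> rw [h] <;> norm_num

theorem card_aut (n : ℕ) (hn : 5 ≤ n) : Nat.card (MulAut ↥(alternatingGroup (Fin n))) ∣ 2 * n.factorial := by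
  by_cases h6 : n = 6
  · subst h6; exact card_aut_six
  · rw [← Nat.card_eq_of_bijective _ (Cfsg.Agent.S2119.result n (by omega) h6), Nat.card_perm, Nat.card_fin]
    exact dvd_mul_left _ _

theorem three_mul_le {n p : ℕ} (hp : p.Prime) (hp2 : p ≠ 2) (h : p ^ 3 ∣ 2 * n.factorial) : 3 * p ≤ n := by
  by_contra hlt
  push Not at hlt
  have h3 : 3 ≤ p := by have := hp.two_le; omega
  have hcop : (p ^ 3).Coprime 2 := ((Nat.coprime_primes hp Nat.prime_two).2 hp2).pow_left 3
  haveI := Fact.mk hp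
  have h1 := (padicValNat_dvd_iff_le (Nat.factorial_ne_zero n)).1 (hcop.dvd_of_dvd_mul_left h)
  have hlog : Nat.log p n < 2 := Nat.log_lt_of_lt_pow' (by norm_num) (by nlinarith)
  rw [padicValNat_factorial hlog] at h1
  simp only [Nat.Ico_succ_singleton, Finset.sum_singleton, pow_one] at h1
  have h2 : n / p < 3 := (Nat.div_lt_iff_lt_mul hp.pos).2 hlt
  omega

theorem pow_three_dvd {n : ℕ} (hn : 5 ≤ n) (G : Subgroup (MulAut (alternatingGroup (Fin n)))) {p : ℕ} [Fact p.Prime]
    (P : Sylow p G) (hP : ¬ IsMulCommutative (P : Subgroup G)) : p ^ 3 ∣ 2 * n.factorial := by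
  obtain ⟨k, hk⟩ := IsPGroup.iff_card.1 P.isPGroup'
  have h3 : 3 ≤ k := by
    by_contra hk3
    apply hP
    have : k = 0 ∨ k = 1 ∨ k = 2 := by omega
    rcases this with rfl | rfl | rfl
    · haveI : Subsingleton (P : Subgroup G) := (Nat.card_eq_one_iff_unique.1 (by simpa using hk)).1
      exact ⟨⟨fun a b => Subsingleton.elim _ _⟩⟩
    · haveI := isCyclic_of_prime_card (p := p) (by rw [hk, pow_one])
      infer_instance
    · exact IsPGroup.commGroupOfCardEqPrimeSq hk |>.mul_comm |> fun h => ⟨⟨h⟩⟩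
  exact ((pow_dvd_pow p h3).trans (hk ▸ Subgroup.card_subgroup_dvd_card _)).trans
    ((Subgroup.card_subgroup_dvd_card G).trans (card_aut n hn))

/-- Let n ≥ 5 and let G be a group of automorphisms of the alternating group of degree n containing all inner automorphisms. If p ≠ q are primes and G has no element of order pq, then every Sylow p-subgroup of G is abelian or every Sylow q-subgroup of G is abelian. -/
theorem result (n : ℕ) (hn : 5 ≤ n) (G : Subgroup (MulAut (alternatingGroup (Fin n))))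
    (hG : (MulAut.conj : alternatingGroup (Fin n) →* MulAut (alternatingGroup (Fin n))).range ≤ G)
    (p q : ℕ) [Fact p.Prime] [Fact q.Prime] (hpq : p ≠ q) (h : ∀ g : G, orderOf g ≠ p * q) :
    (∀ P : Sylow p G, IsMulCommutative (P : Subgroup G)) ∨ (∀ Q : Sylow q G, IsMulCommutative (Q : Subgroup G)) := by
  by_contra hcon
  simp only [not_or, not_forall] at hcon
  obtain ⟨⟨P, hP⟩, Q, hQ⟩ := hcon
  have hp : p.Prime := Fact.out
  have hq : q.Prime := Fact.out
  have hp3 := pow_three_dvd hn G P hP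
  have hq3 := pow_three_dvd hn G Q hQ
  -- an element with the cycle type `m`
  have key : ∀ m : Multiset ℕ, (∀ a ∈ m, 2 ≤ a) → m.sum ≤ n → Even (m.sum + m.card) → m.lcm = p * q → False := by
    intro m h2 hs he hl
    obtain ⟨g, hg⟩ := (Equiv.Perm.exists_with_cycleType_iff (Fin n)).2 ⟨by simpa using hs, h2⟩
    have hmem : g ∈ alternatingGroup (Fin n) := by
      rw [Equiv.Perm.mem_alternatingGroup, Equiv.Perm.sign_of_cycleType, hg, he.neg_one_pow]
    have hne6 : n ≠ 6 := by
      intro h6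
      rcases eq_or_ne p 2 with h' | h'
      · have := three_mul_le hq (fun e => hpq (h'.trans e.symm)) hq3
        have := hq.two_le
        omega
      · have := three_mul_le hp h' hp3
        have := hp.two_le
        omega
    have hinj : Function.Injective (MulAut.conj : alternatingGroup (Fin n) →* MulAut (alternatingGroup (Fin n))) := by
      intro a b hab
      refine Subtype.ext ((Cfsg.Agent.S2119.result n (by omega) hne6).1 (MulEquiv.ext fun x => Subtype.ext ?_))
      rw [MulAut.conjNormal_apply, MulAut.conjNormal_apply]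
      exact congrArg (fun f : MulAut (alternatingGroup (Fin n)) => ((f x : alternatingGroup (Fin n)) : Equiv.Perm (Fin n))) hab
    apply h ⟨MulAut.conj ⟨g, hmem⟩, hG ⟨_, rfl⟩⟩
    rw [← Subgroup.orderOf_coe, orderOf_injective _ hinj, ← Subgroup.orderOf_coe, ← Equiv.Perm.lcm_cycleType, hg, hl]
  rcases eq_or_ne p 2 with rfl | hp2
  · have h3 := three_mul_le hq (Ne.symm hpq) hq3
    have := hq.two_le
    refine key {q, 2, 2} ?_ ?_ ?_ ?_
    · simp only [Multiset.insert_eq_cons, Multiset.mem_cons, Multiset.mem_singleton]; rintro a (rfl | rfl | rfl) <;> omega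
    · simp; omega
    · obtain ⟨j, hj⟩ := hq.odd_of_ne_two (Ne.symm hpq)
      simp; exact ⟨j + 4, by omega⟩
    · simp only [Multiset.insert_eq_cons, Multiset.lcm_cons, Multiset.lcm_singleton, normalize_eq, lcm_same, lcm_eq_nat_lcm, Nat.lcm_self]
      rw [Nat.Coprime.lcm_eq_mul ((Nat.coprime_primes hq Nat.prime_two).2 (Ne.symm hpq)), mul_comm]
  rcases eq_or_ne q 2 with rfl | hq2
  · have h3 := three_mul_le hp hp2 hp3
    have := hp.two_le
    refine key {p, 2, 2} ?_ ?_ ?_ ?_
    · simp only [Multiset.insert_eq_cons, Multiset.mem_cons, Multiset.mem_singleton]; rintro a (rfl | rfl | rfl) <;> omega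
    · simp; omega
    · obtain ⟨j, hj⟩ := hp.odd_of_ne_two hp2
      simp; exact ⟨j + 4, by omega⟩
    · simp only [Multiset.insert_eq_cons, Multiset.lcm_cons, Multiset.lcm_singleton, normalize_eq, lcm_same, lcm_eq_nat_lcm, Nat.lcm_self]
      rw [Nat.Coprime.lcm_eq_mul ((Nat.coprime_primes hp Nat.prime_two).2 hp2)]
  have h3 := three_mul_le hp hp2 hp3
  have h4 := three_mul_le hq hq2 hq3
  refine key {p, q} ?_ ?_ ?_ ?_
  · simp only [Multiset.insert_eq_cons, Multiset.mem_cons, Multiset.mem_singleton]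
    have := hp.two_le
    have := hq.two_le
    rintro a (rfl | rfl) <;> omega
  · simp; omega
  · obtain ⟨i, hi⟩ := hp.odd_of_ne_two hp2
    obtain ⟨j, hj⟩ := hq.odd_of_ne_two hq2
    simp; exact ⟨i + j + 2, by omega⟩
  · simp only [Multiset.insert_eq_cons, Multiset.lcm_cons, Multiset.lcm_singleton, normalize_eq, lcm_eq_nat_lcm]
    rw [Nat.Coprime.lcm_eq_mul ((Nat.coprime_primes hp hq).2 hpq)]

end Cfsg.Agent.S4231
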