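import Cfsg.Statements.S4234
import Cfsg.Agent.Lib.Geom.PSLThirteen
-- import your own Cfsg.Agent.* helpers here

set_option autoImplicit false
open Cfsg CfsgLib.Geom

namespace Cfsg.Agent.S4234

/-- Let K be isomorphic to PSL(2, 13) or to SL(2, 13) and let S be a finite abelian group of order coprime to the order of K. Then in the direct product K × S every subgroup that is not normal has a normalizer that is a maximal subgroup. -/
theorem result {K S : Type*} [Group K] [CommGroup S] [Finite K] [Finite S]
    (hK : Nonempty (K ≃* Matrix.ProjectiveSpecialLinearGroup (Fin 2) (ZMod 13)) ∨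
      Nonempty (K ≃* Matrix.SpecialLinearGroup (Fin 2) (ZMod 13)))
    (hKS : (Nat.card K).Coprime (Nat.card S)) (H : Subgroup (K × S)) (hH : ¬ H.Normal) :
    IsCoatom (Subgroup.normalizer (H : Set (K × S))) := by
  have : Fact (Nat.Prime 13) := ⟨by norm_num⟩
  have hG := Thirteen.like_psl
  refine Thirteen.coatom_normalizer_prod hKS (fun H hH => ?_) H hH
  rcases hK with ⟨⟨e⟩⟩ | ⟨⟨e⟩⟩
  · refine Thirteen.coatom_normalizer_cover hG e.toMonoidHom e.surjective ?_ ?_ (fun z _ => Or.inr ?_) hH
    · rw [(MonoidHom.ker_eq_bot_iff _).2 e.injective]; exact bot_le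
    · rw [(MonoidHom.ker_eq_bot_iff _).2 e.injective, Subgroup.card_bot]; norm_num
    · exact (MonoidHom.ker_eq_bot_iff _).2 e.injective
  · have h2 : (2 : ZMod 13) ≠ 0 := CfsgLib.Classical.two_ne_zero_of_odd (by rw [ZMod.card]; decide)
    set π := (QuotientGroup.mk' (Subgroup.center (Matrix.SpecialLinearGroup (Fin 2) (ZMod 13)))).comp e.toMonoidHom
    have hker : ∀ z, z ∈ π.ker ↔ e z ∈ Subgroup.center (Matrix.SpecialLinearGroup (Fin 2) (ZMod 13)) := fun z => by
      rw [MonoidHom.mem_ker]; exact QuotientGroup.eq_one_iff (e z)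
    refine Thirteen.coatom_normalizer_cover hG π ((QuotientGroup.mk'_surjective _).comp e.surjective) ?_ ?_ ?_ hH
    · intro z hz
      rw [Subgroup.mem_center_iff]
      intro g
      exact e.injective (by rw [map_mul, map_mul]; exact Subgroup.mem_center_iff.1 ((hker z).1 hz) (e g))
    · have hc : Nat.card π.ker ≤ ({1, -1} : Set (Matrix.SpecialLinearGroup (Fin 2) (ZMod 13))).ncard := by
        rw [← Nat.card_coe_set_eq]
        exact Nat.card_le_card_of_injective (fun z => (⟨e z.1, (SL2Anti.mem_center_iff_sign h2).1 ((hker z.1).1 z.2)⟩ :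
          ({1, -1} : Set (Matrix.SpecialLinearGroup (Fin 2) (ZMod 13))))) fun a b h =>
          Subtype.ext (e.injective (congrArg Subtype.val h))
      exact hc.trans (le_of_le_of_eq le_rfl (Set.ncard_pair (SL2Anti.one_ne_neg_one h2)) |>.trans le_rfl)
    · intro z hz
      refine Or.inl ?_
      rw [← MonoidHom.mem_ker, hker, SL2Anti.mem_center_iff_sign h2]
      refine SL2Anti.eq_or_eq_neg_of_sq_one h2 ?_
      rw [← map_mul, ← sq, orderOf_dvd_iff_pow_eq_one.1 (dvd_of_eq hz), map_one]
end Cfsg.Agent.S4234
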