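import Cfsg.Statements.S4238
import Cfsg.Agent.Lib.Transfer.Frobenius
import Cfsg.Agent.Lib.Solvable.PCore
import Cfsg.Agent.Lib.Solvable.Basic
import Cfsg.Agent.Lib.PLocal.Section
import Cfsg.Agent.Lib.StructC.BurnsideBasis

set_option autoImplicit false
open Cfsg
open scoped Pointwise
set_option linter.style.haveILetI false

namespace Cfsg.Agent.S4238

universe u

/-- The section condition, in a form closed under sections. -/
def SecCond (p : ℕ) (G : Type u) [Group G] : Prop :=
  ∀ (K : Type u) [Group K] [Finite K] (H : Subgroup G) (f : H →* K), Function.Surjective f →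
    Cfsg.pPrimeCore p K = ⊥ → ∃ k : K, orderOf k = Monoid.exponent K

theorem SecCond.of_injective {p : ℕ} {G G' : Type u} [Group G] [Group G'] (φ : G' →* G)
    (hφ : Function.Injective φ) (h : SecCond p G) : SecCond p G' := fun K _ _ H f hf =>
  h K (H.map φ) (f.comp (H.equivMapOfInjective φ hφ).symm.toMonoidHom)
    (hf.comp (H.equivMapOfInjective φ hφ).symm.surjective)

theorem SecCond.of_surjective {p : ℕ} {G G' : Type u} [Group G] [Group G'] (φ : G →* G')
    (hφ : Function.Surjective φ) (h : SecCond p G) : SecCond p G' := fun K _ _ H f hf => by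
  refine h K (H.comap φ) (f.comp (φ.subgroupComap H)) (hf.comp ?_)
  rintro ⟨y, hy⟩
  obtain ⟨x, rfl⟩ := hφ y
  exact ⟨⟨x, hy⟩, rfl⟩

theorem hasNormalPComplement_aux {p : ℕ} [hp : Fact p.Prime] (n : ℕ) :
    ∀ (G : Type u) [Group G] [Finite G], Nat.card G = n → SecCond p G →
      Cfsg.HasNormalPComplement p G := by
  induction n using Nat.strong_induction_on with
  | _ n ih =>
    intro G _ _ hn hsec
    classical
    subst hn
    have hsub : ∀ H : Subgroup G, H ≠ ⊤ → Cfsg.HasNormalPComplement p H := fun H hH =>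
      ih _ (lt_of_le_of_ne (Subgroup.card_le_card_group H) fun e => hH (Subgroup.eq_top_of_card_eq _ e))
        H rfl (hsec.of_injective H.subtype H.subtype_injective)
    have hquot : ∀ (N : Subgroup G) [N.Normal], N ≠ ⊥ → Cfsg.HasNormalPComplement p (G ⧸ N) := by
      intro N _ hN
      refine ih _ ?_ _ rfl (hsec.of_surjective _ (QuotientGroup.mk'_surjective N))
      rw [Subgroup.card_eq_card_quotient_mul_card_subgroup N]
      exact lt_mul_of_one_lt_right Nat.card_pos (N.one_lt_card_iff_ne_bot.2 hN)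
    by_contra hnot
    rw [CfsgLib.Transfer.hasNormalPComplement_iff_frobenius] at hnot
    push Not at hnot
    obtain ⟨D, hD, g, hg, hgp, hgc⟩ := hnot
    have hdist : ¬ Cfsg.HasNormalPComplement p G := fun h' =>
      hgc (CfsgLib.Transfer.hasNormalPComplement_iff_frobenius.1 h' D hD g hg hgp)
    -- no normal `p'`-subgroup
    have hO : Cfsg.pPrimeCore p G = ⊥ := by
      by_contra hne
      haveI := CfsgLib.Solvable.pPrimeCore_normal p G
      obtain ⟨N, hN, hc, hq⟩ := CfsgLib.Transfer.hasNormalPComplement_iff_exists.1 (hquot _ hne)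
      haveI := hN
      apply hdist
      refine CfsgLib.Transfer.hasNormalPComplement_iff_exists.2
        ⟨N.comap (QuotientGroup.mk' _), inferInstance, ?_, ?_⟩
      · rw [CfsgLib.Solvable.card_comap_mk']
        exact hc.mul_left (CfsgLib.Solvable.pPrimeCore_coprime p)
      · refine hq.of_injective (QuotientGroup.map (N.comap (QuotientGroup.mk' (Cfsg.pPrimeCore p G))) N (QuotientGroup.mk' _) le_rfl) ?_
        rw [injective_iff_map_eq_one]
        intro x hx
        obtain ⟨y, rfl⟩ := QuotientGroup.mk'_surjective _ x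
        rw [QuotientGroup.mk'_apply, QuotientGroup.map_mk, QuotientGroup.eq_one_iff] at hx
        exact (QuotientGroup.eq_one_iff y).2 hx
    set L := D ⊔ Subgroup.zpowers g with hL
    have hLtop : L = ⊤ := by
      by_contra hne
      have h' := CfsgLib.Transfer.hasNormalPComplement_iff_frobenius.1 (hsub L hne) (D.subgroupOf L)
        hD.comap_subtype ⟨g, Subgroup.mem_sup_right (Subgroup.mem_zpowers g)⟩
        (by
          rw [← Subgroup.subgroupOf_normalizer_eq le_sup_left, Subgroup.mem_subgroupOf]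
          exact hg)
        (by rwa [Subgroup.orderOf_mk])
      rw [Subgroup.mem_centralizer_iff] at hgc h'
      push Not at hgc
      obtain ⟨d, hd, hdg⟩ := hgc
      exact hdg (congrArg Subtype.val (h' ⟨d, Subgroup.mem_sup_left hd⟩ hd))
    have hDn : D.Normal := Subgroup.normalizer_eq_top_iff.1 (eq_top_iff.2
      (hLtop ▸ sup_le Subgroup.le_normalizer (Subgroup.zpowers_le.2 hg)))
    haveI := hDn
    have hdecomp : ∀ z : G, ∃ d ∈ D, ∃ i : ℤ, z = d * g ^ i := by
      intro z
      have hz : z ∈ ((D ⊔ Subgroup.zpowers g : Subgroup G) : Set G) := by rw [← hL, hLtop]; trivial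
      rw [Subgroup.normal_mul] at hz
      obtain ⟨d, hd, w, hw, rfl⟩ := Set.mem_mul.1 hz
      obtain ⟨i, rfl⟩ := Subgroup.mem_zpowers_iff.1 hw
      exact ⟨d, hd, i, rfl⟩
    -- a normal subgroup of `D` modulo which `g` does not centralize `D`
    have hnoquot : ∀ (N : Subgroup G) [N.Normal], N ≠ ⊥ → ∀ d ∈ D, d * g * d⁻¹ * g⁻¹ ∈ N := by
      intro N _ hN d hd
      set π := QuotientGroup.mk' N
      have hgn : π g ∈ Subgroup.normalizer ((D.map π : Subgroup (G ⧸ N)) : Set (G ⧸ N)) := by
        rw [Subgroup.normalizer_eq_top_iff.2 (hDn.map π (QuotientGroup.mk'_surjective N))]; trivial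
      have h' := CfsgLib.Transfer.hasNormalPComplement_iff_frobenius.1 (hquot N hN) (D.map π) (hD.map π)
        (π g) hgn (hgp.coprime_dvd_left (orderOf_map_dvd π g))
      rw [Subgroup.mem_centralizer_iff] at h'
      have h2 := h' (π d) (Subgroup.mem_map_of_mem π hd)
      rw [← QuotientGroup.eq_one_iff (N := N)]
      show π (d * g * d⁻¹ * g⁻¹) = 1
      rw [map_mul, map_mul, map_mul, map_inv, map_inv, h2]
      group
    -- `D` is elementary abelian
    obtain ⟨d₀, hd₀, hd₀g⟩ : ∃ d ∈ D, d * g ≠ g * d := by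
      rw [Subgroup.mem_centralizer_iff] at hgc
      push Not at hgc
      exact hgc
    set Φ := (frattini D).map D.subtype with hΦ
    haveI : Φ.Normal := by rw [hΦ]; infer_instance
    have hgn : g ∈ Subgroup.normalizer (D : Set G) := hg
    have hΦ1 : Φ = ⊥ := by
      by_contra hne
      apply hgc
      refine CfsgLib.PLocal.centralizes_of_trivial_on_frattini_quotient hD hgn hgp fun k hk => ?_
      have h1 := hnoquot Φ hne k hk
      rw [show k⁻¹ * g⁻¹ * k * g = (g * k)⁻¹ * (k * g * k⁻¹ * g⁻¹) * (g * k) by group]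
      have := (inferInstance : Φ.Normal).conj_mem _ h1 (g * k)⁻¹
      rwa [inv_inv] at this
    have hDcomm : ∀ x ∈ D, ∀ y ∈ D, x * y = y * x := by
      intro x hx y hy
      have h1 := CfsgLib.StructC.comm_mem_frattini hD ⟨x, hx⟩ ⟨y, hy⟩
      have h2 : (frattini D) = ⊥ := by
        rwa [hΦ, Subgroup.map_eq_bot_iff_of_injective _ D.subtype_injective] at hΦ1
      rw [h2, Subgroup.mem_bot, Subtype.ext_iff] at h1
      simp only [Subgroup.coe_mul, InvMemClass.coe_inv, Subgroup.coe_one] at h1
      calc x * y = (y * x) * (x⁻¹ * y⁻¹ * x * y) := by group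
        _ = y * x := by rw [h1, mul_one]
    have hDpow : ∀ x ∈ D, x ^ p = 1 := by
      intro x hx
      have h1 := CfsgLib.StructC.pow_mem_frattini hD ⟨x, hx⟩
      have h2 : (frattini D) = ⊥ := by
        rwa [hΦ, Subgroup.map_eq_bot_iff_of_injective _ D.subtype_injective] at hΦ1
      rw [h2, Subgroup.mem_bot, Subtype.ext_iff] at h1
      simpa using h1
    -- orders
    set q := orderOf g
    have hqD : ∀ i : ℤ, g ^ i ∈ D → g ^ i = 1 := by
      intro i hi
      have h1 := hDpow _ hi
      have h2 : (g ^ i) ^ q = 1 := by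
        rw [← zpow_natCast (g ^ i), ← zpow_mul, mul_comm, zpow_mul, zpow_natCast, pow_orderOf_eq_one, one_zpow]
      have := pow_gcd_eq_one.2 ⟨h2, h1⟩
      rwa [hgp.gcd_eq_one, pow_one] at this
    -- an element of maximal order
    obtain ⟨k, hk⟩ := hsec G ⊤ (⊤ : Subgroup G).subtype (fun z => ⟨⟨z, trivial⟩, rfl⟩) hO
    have hpe : p ∣ orderOf k := by
      rw [hk]
      have : orderOf d₀ = p := orderOf_eq_prime (hDpow d₀ hd₀) (fun h1 => hd₀g (by rw [h1, one_mul, mul_one]))
      exact this ▸ Monoid.order_dvd_exponent d₀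
    have hqe : q ∣ orderOf k := hk ▸ Monoid.order_dvd_exponent g
    set x := k ^ (orderOf k / p) with hx
    set y := k ^ (orderOf k / q) with hy
    have hxo : orderOf x = p := orderOf_pow_orderOf_div (orderOf_pos k).ne' hpe
    have hyo : orderOf y = q := orderOf_pow_orderOf_div (orderOf_pos k).ne' hqe
    have hxy : Commute x y := (Commute.refl k).pow_pow _ _
    have hxD : x ∈ D := by
      obtain ⟨d, hd, i, hdi⟩ := hdecomp x
      have h1 : (QuotientGroup.mk' D) x = (QuotientGroup.mk' D) g ^ i := by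
        rw [hdi, map_mul, map_zpow, show QuotientGroup.mk' D d = 1 from (QuotientGroup.eq_one_iff d).2 hd, one_mul]
      have h2 : ((QuotientGroup.mk' D) x) ^ q = 1 := by
        rw [h1, ← zpow_natCast, ← zpow_mul, mul_comm, zpow_mul, zpow_natCast, ← map_pow, pow_orderOf_eq_one,
          map_one, one_zpow]
      have h3 : ((QuotientGroup.mk' D) x) ^ p = 1 := by rw [← map_pow, ← hxo, pow_orderOf_eq_one, map_one]
      have := pow_gcd_eq_one.2 ⟨h2, h3⟩
      rw [hgp.gcd_eq_one, pow_one] at this
      exact (QuotientGroup.eq_one_iff x).1 this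
    have hxg : Commute x g := by
      set C := Subgroup.centralizer ({x} : Set G)
      have hDC : D ≤ C := fun z hz => Subgroup.mem_centralizer_singleton_iff.2 (hDcomm z hz x hxD)
      have hyC : y ∈ C := Subgroup.mem_centralizer_singleton_iff.2 hxy.eq.symm
      have hcard : Nat.card G ∣ Nat.card D * q := by
        have h2 : (D.subgroupOf ⊤).index ∣ q := by
          show D.relIndex ⊤ ∣ orderOf g
          rw [← Nat.card_zpowers]
          rw [← hLtop, hL, sup_comm, Subgroup.relIndex_sup_right]
          exact Subgroup.relIndex_dvd_card _ _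
        rw [← D.card_mul_index]
        refine Nat.mul_dvd_mul_left _ ?_
        rw [← Subgroup.relIndex_top_right]
        exact h2
      have hcop : (Nat.card D).Coprime q := by
        obtain ⟨a, ha⟩ := IsPGroup.iff_card.1 hD
        rw [ha]; exact hgp.symm.pow_left a
      have : Nat.card G ∣ Nat.card C := hcard.trans (hcop.mul_dvd_of_dvd_of_dvd (Subgroup.card_dvd_of_le hDC)
        (hyo ▸ by rw [← Nat.card_zpowers]; exact Subgroup.card_dvd_of_le (Subgroup.zpowers_le.2 hyC)))
      have hCtop : C = ⊤ := Subgroup.eq_top_of_card_eq _ (Nat.dvd_antisymm C.card_subgroup_dvd_card this)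
      exact (Subgroup.mem_centralizer_singleton_iff.1 (hCtop ▸ Subgroup.mem_top g : g ∈ C)).symm
    -- the centre part of `D`
    have hxz : x ∈ Subgroup.center G := by
      rw [Subgroup.mem_center_iff]
      intro z
      obtain ⟨d, hd, i, rfl⟩ := hdecomp z
      exact ((show Commute d x from hDcomm d hd x hxD).mul_left (hxg.symm.zpow_left i)).eq
    set Z := Subgroup.zpowers x
    haveI : Z.Normal := ⟨fun z hz w => by
      obtain ⟨i, rfl⟩ := Subgroup.mem_zpowers_iff.1 hz
      rw [Subgroup.mem_center_iff.1 (zpow_mem hxz i) w, mul_inv_cancel_right]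
      exact Subgroup.mem_zpowers_iff.2 ⟨i, rfl⟩⟩
    have hZ1 : Z ≠ ⊥ := by
      rw [Ne, Subgroup.zpowers_eq_bot]
      intro h1
      rw [h1, orderOf_one] at hxo
      exact hp.out.one_lt.ne hxo
    obtain ⟨i, hi⟩ := Subgroup.mem_zpowers_iff.1 (hnoquot Z hZ1 d₀ hd₀)
    set w := d₀ * g * d₀⁻¹ * g⁻¹ with hw
    have hwz : w ∈ Subgroup.center G := hi ▸ zpow_mem hxz i
    have hwq : w ^ q = 1 := by
      have h1 : d₀ * g * d₀⁻¹ = w * g := by rw [hw]; group
      have h2 : d₀ * g ^ q * d₀⁻¹ = w ^ q * g ^ q := by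
        rw [← conj_pow, h1, ((show Commute w g from (Subgroup.mem_center_iff.1 hwz g).symm)).mul_pow]
      rw [pow_orderOf_eq_one, mul_one, mul_inv_cancel, mul_one] at h2
      exact h2.symm
    have hwp : w ^ p = 1 := by
      rw [← hi, ← zpow_natCast, ← zpow_mul, mul_comm, zpow_mul, zpow_natCast, ← hxo, pow_orderOf_eq_one, one_zpow]
    have hw1 := pow_gcd_eq_one.2 ⟨hwq, hwp⟩
    rw [hgp.gcd_eq_one, pow_one] at hw1
    apply hd₀g
    calc d₀ * g = w * (g * d₀) := by rw [hw]; group
      _ = g * d₀ := by rw [hw1, one_mul]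

/-- Let G be a finite group and p a prime. Then G has a normal p-complement if and only if every section K = H/N of G (N a normal subgroup of a subgroup H) whose largest normal subgroup of order prime to p is trivial contains an element whose order equals the exponent of K. -/
theorem result {G : Type*} [Group G] [Finite G] (p : ℕ) [Fact p.Prime] :
    Cfsg.HasNormalPComplement p G ↔
      ∀ (H : Subgroup G) (N : Subgroup H) [N.Normal], Cfsg.pPrimeCore p (H ⧸ N) = ⊥ →
        ∃ k : H ⧸ N, orderOf k = Monoid.exponent (H ⧸ N) := by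
  constructor
  · intro h H N _ hcore
    have hHN : Cfsg.HasNormalPComplement p (H ⧸ N) :=
      CfsgLib.Transfer.hasNormalPComplement_of_surjective (QuotientGroup.mk' N) (QuotientGroup.mk'_surjective N)
        (CfsgLib.Transfer.hasNormalPComplement_subgroup H h)
    obtain ⟨M, hM, hc, hq⟩ := CfsgLib.Transfer.hasNormalPComplement_iff_exists.1 hHN
    have hM1 : M = ⊥ := le_bot_iff.1 (hcore ▸ CfsgLib.Solvable.le_pPrimeCore hM hc)
    subst hM1
    have hK : IsPGroup p (H ⧸ N) := hq.of_equiv QuotientGroup.quotientBot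
    obtain ⟨a, ha⟩ := IsPGroup.iff_card.1 hK
    obtain ⟨b, -, hb⟩ := (Nat.dvd_prime_pow (Fact.out : p.Prime)).1 (ha ▸ Group.exponent_dvd_nat_card (G := H ⧸ N))
    obtain ⟨k, hk⟩ := (Fact.out : p.Prime).exists_orderOf_eq_pow_factorization_exponent (H ⧸ N)
    exact ⟨k, by rw [hk, hb, (Fact.out : p.Prime).factorization_pow, Finsupp.single_eq_same]⟩
  · intro h
    refine hasNormalPComplement_aux _ G rfl ?_
    intro K _ _ H f hf hcore
    set e := QuotientGroup.quotientKerEquivOfSurjective f hf
    obtain ⟨k, hk⟩ := h H f.ker (by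
      have h1 := CfsgLib.Solvable.map_pPrimeCore_equiv e p
      rw [hcore] at h1
      exact (Subgroup.map_eq_bot_iff_of_injective (f := e.toMonoidHom) _ e.injective).1 h1)
    exact ⟨e k, by rw [MulEquiv.orderOf_eq, hk, Monoid.exponent_eq_of_mulEquiv e]⟩

end Cfsg.Agent.S4238
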