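import Cfsg.Statements.S4242
import Mathlib
import Cfsg.Agent.Lib.Coprime.Sylow
import Cfsg.Agent.Lib.Transfer.Frobenius
import Cfsg.Agent.Lib.OddLocal.FittingHall
import Cfsg.Agent.Lib.StructC.SylowFibre

set_option autoImplicit false
open Cfsg
open scoped Pointwise
set_option linter.style.haveILetI false

namespace Cfsg.Agent.S4242

variable {G : Type*} [Group G] [Finite G]

theorem isNilpotent_of_le' {A B : Subgroup G} (hB : Group.IsNilpotent B) (h : A ≤ B) :
    Group.IsNilpotent A := by
  haveI := hB
  exact Group.nilpotent_of_mulEquiv (Subgroup.subgroupOfEquivOfLe h)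

theorem coatom_not_le {M D : Subgroup G} (hM : IsCoatom M) (h : ¬ D ≤ M) : M ⊔ D = ⊤ :=
  hM.lt_iff.1 (lt_of_le_of_ne le_sup_left fun e => h (le_sup_right.trans e.ge))

theorem forward_aux (p : ℕ) [Fact p.Prime] (hpG : p ∣ Nat.card G)
    (h : ∀ M : Subgroup G, IsCoatom M → p ∣ Nat.card M → Group.IsNilpotent M)
    (hn : ¬ Group.IsNilpotent G) (hm : ¬ Cfsg.IsMinimalNonNilpotent G) :
    ∃ Z K : Subgroup G, Z.Normal ∧ K.Normal ∧ Z ⊓ K = ⊥ ∧ Z ⊔ K = ⊤ ∧ Nat.card Z = p ∧
      Cfsg.IsMinimalNonNilpotent K ∧ ¬ p ∣ Nat.card K := by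
  classical
  have hp : p.Prime := Fact.out
  -- proper subgroups of order divisible by `p` are nilpotent
  have hsub : ∀ L : Subgroup G, L ≠ ⊤ → p ∣ Nat.card L → Group.IsNilpotent L := by
    intro L hL hd
    obtain h' | ⟨M, hM, hLM⟩ := eq_top_or_exists_le_coatom L
    · exact absurd h' hL
    · exact isNilpotent_of_le' (h M hM (hd.trans (Subgroup.card_dvd_of_le hLM))) hLM
  obtain ⟨M, hM, hMn⟩ : ∃ M : Subgroup G, IsCoatom M ∧ ¬ Group.IsNilpotent M := by
    by_contra hh
    push Not at hh
    refine hm ⟨hn, fun H hH => ?_⟩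
    obtain h' | ⟨M, hM, hLM⟩ := eq_top_or_exists_le_coatom H
    · exact absurd h' hH
    · exact isNilpotent_of_le' (hh M hM) hLM
  have hpM : ¬ p ∣ Nat.card M := fun hd => hMn (h M hM hd)
  have hcomm : ∀ (D L : Subgroup G), L ≠ ⊤ → p ∣ Nat.card L → D ≤ L → IsPGroup p D → ∀ x ∈ L,
      (orderOf x).Coprime p → ∀ d ∈ D, Commute x d := by
    intro D L hL hd hDL hD x hx hxp d hdd
    have hc := CfsgLib.OddLocal.commute_of_coprime_of_isNilpotent (hsub L hL hd) (x := ⟨x, hx⟩) (y := ⟨d, hDL hdd⟩) (by
      rw [Subgroup.orderOf_mk, Subgroup.orderOf_mk]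
      obtain ⟨k, hk⟩ := IsPGroup.iff_orderOf.1 hD ⟨d, hdd⟩
      rw [Subgroup.orderOf_mk] at hk
      rw [hk]
      exact hxp.pow_right k)
    exact congrArg Subtype.val hc.eq
  have hMx : ∀ x ∈ M, (orderOf x).Coprime p := by
    intro x hx
    rw [Nat.coprime_comm, hp.coprime_iff_not_dvd]
    exact fun hd => hpM (hd.trans (by rw [← Nat.card_zpowers]; exact Subgroup.card_dvd_of_le (Subgroup.zpowers_le.2 hx)))
  obtain ⟨P⟩ : Nonempty (Sylow p G) := inferInstance
  have hPne : (P : Subgroup G) ≠ ⊥ := P.ne_bot_of_dvd_card hpG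
  have hPnM : ¬ (P : Subgroup G) ≤ M := fun hle => hpM
    ((P.dvd_card_of_dvd_card hpG).trans (Subgroup.card_dvd_of_le hle))
  -- `P` is normal
  have hPn : (P : Subgroup G).Normal := by
    by_contra hPn
    -- no nontrivial normal `p`-subgroup
    have hnop : ∀ D : Subgroup G, D.Normal → IsPGroup p D → D = ⊥ := by
      intro D hDn hD
      by_contra hD1
      have hDM : ¬ D ≤ M := fun hle => hD1 (Subgroup.eq_bot_of_card_eq _ (by
        obtain ⟨k, hk⟩ := IsPGroup.iff_card.1 hD
        rcases Nat.eq_zero_or_pos k with h0 | h0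
        · rw [hk, h0, pow_zero]
        · exact absurd ((dvd_pow_self p h0.ne').trans (hk ▸ Subgroup.card_dvd_of_le hle)) hpM))
      haveI := hDn
      have htop := coatom_not_le hM hDM
      refine hPn ?_
      have hDP : D ≤ (P : Subgroup G) :=
        CfsgLib.StructC.le_sylow_of_sylow_le_normalizer hD P (le_top.trans (Subgroup.normalizer_eq_top (H := D)).ge)
      have hcard : Nat.card (P : Subgroup G) ∣ Nat.card D * Nat.card M := by
        have h1 : Nat.card (⊤ : Subgroup G) ∣ Nat.card D * Nat.card M := by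
          rw [← htop, ← Subgroup.relIndex_bot_left (M ⊔ D), ← Subgroup.relIndex_mul_relIndex ⊥ D (M ⊔ D) bot_le le_sup_right,
            Subgroup.relIndex_bot_left]
          refine Nat.mul_dvd_mul_left _ ?_
          rw [Subgroup.relIndex_sup_right]
          exact Subgroup.relIndex_dvd_card _ _
        rw [Subgroup.card_top] at h1
        exact (Subgroup.card_subgroup_dvd_card _).trans h1
      have hcop : (Nat.card (P : Subgroup G)).Coprime (Nat.card M) := by
        obtain ⟨k, hk⟩ := IsPGroup.iff_card.1 P.isPGroup'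
        rw [hk]
        exact (hp.coprime_iff_not_dvd.2 hpM).pow_left k
      have hPD : D = (P : Subgroup G) := Subgroup.eq_of_le_of_card_ge hDP
        (Nat.le_of_dvd Nat.card_pos (hcop.dvd_of_dvd_mul_right hcard))
      exact hPD ▸ hDn
    -- Frobenius: a normal complement, which is `M`
    have hcomp : Cfsg.HasNormalPComplement p G := by
      rw [CfsgLib.Transfer.hasNormalPComplement_iff_frobenius]
      intro D hD g hg hgp
      rcases eq_or_ne D ⊥ with rfl | hD1
      · simp [Subgroup.mem_centralizer_iff]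
      rw [Subgroup.mem_centralizer_iff]
      intro d hd
      have hd0 : p ∣ Nat.card (Subgroup.normalizer (D : Set G)) := by
        obtain ⟨k, hk⟩ := IsPGroup.iff_card.1 hD
        rcases Nat.eq_zero_or_pos k with h0 | h0
        · exact absurd (Subgroup.eq_bot_of_card_eq _ (by rw [hk, h0, pow_zero])) hD1
        · exact ((dvd_pow_self p h0.ne').trans hk.symm.dvd).trans (Subgroup.card_dvd_of_le Subgroup.le_normalizer)
      exact ((hcomm D _ (fun e => hD1 (hnop D (Subgroup.normalizer_eq_top_iff.1 e) hD)) hd0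
        Subgroup.le_normalizer hD g hg hgp d hd).eq).symm
    obtain ⟨Q, N, hNn, hNQ⟩ := hcomp
    have hMN : M ≤ N := by
      intro x hx
      have h1 : x ^ N.index ∈ N := Subgroup.pow_index_mem N x
      have h2 : (orderOf x).Coprime N.index := by
        rw [hNQ.symm.index_eq_card]
        obtain ⟨k, hk⟩ := IsPGroup.iff_card.1 Q.isPGroup'
        rw [hk]
        exact (hMx x hx).pow_right k
      obtain ⟨j, hj⟩ := exists_pow_eq_self_of_coprime h2.symm
      rw [← hj]
      exact pow_mem h1 j
    have hNM : M = N := by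
      rcases eq_or_lt_of_le hMN with h' | h'
      · exact h'
      · exfalso
        have hN1 : N.index = 1 := by rw [hM.lt_iff.1 h', Subgroup.index_top]
        rw [hNQ.symm.index_eq_card] at hN1
        have := Q.dvd_card_of_dvd_card hpG
        rw [hN1] at this
        exact hp.not_dvd_one this
    subst hNM
    -- `P` centralizes invariant Sylow subgroups of `M`
    have hcent : (M : Subgroup G) ≤ Subgroup.centralizer ((P : Subgroup G) : Set G) := by
      have hA : (P : Subgroup G) ≤ Subgroup.normalizer (M : Set G) :=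
        le_top.trans (Subgroup.normalizer_eq_top (H := M)).ge
      have hcop : (Nat.card (P : Subgroup G)).Coprime (Nat.card M) := by
        obtain ⟨k, hk⟩ := IsPGroup.iff_card.1 P.isPGroup'
        rw [hk]
        exact (hp.coprime_iff_not_dvd.2 hpM).pow_left k
      have hsol : Group.IsSolvable (P : Subgroup G) := by
        haveI := P.isPGroup'.isNilpotent
        infer_instance
      set C := Subgroup.centralizer ((P : Subgroup G) : Set G) ⊓ M
      suffices C = M by rw [← this]; exact inf_le_left
      refine Subgroup.eq_of_le_of_card_ge inf_le_right (Nat.le_of_dvd Nat.card_pos ?_)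
      rw [← Nat.factorization_le_iff_dvd Nat.card_pos.ne' Nat.card_pos.ne']
      intro q
      by_cases hq : q.Prime
      swap
      · simp [Nat.factorization_eq_zero_of_not_prime _ hq]
      haveI : Fact q.Prime := ⟨hq⟩
      obtain ⟨S, hS⟩ := CfsgLib.Coprime.exists_invariant_sylow hA hcop (Or.inl hsol) q
      set S' := (S : Subgroup M).map M.subtype
      have hSM : S' ≤ M := Subgroup.map_subtype_le _
      have hS'C : S' ≤ C := by
        refine le_inf (fun x hx => ?_) hSM
        rw [Subgroup.mem_centralizer_iff]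
        intro d hd
        by_cases htop : (P : Subgroup G) ⊔ S' = ⊤
        · exfalso
          apply hMn
          have hcardS : Nat.card M ≤ Nat.card S' := by
            have h2 : ((P : Subgroup G) : Set G) * (S' : Set G) = Set.univ := by
              rw [← Subgroup.coe_mul_of_left_le_normalizer_right _ _ hS, htop]; rfl
            have h3 : Nat.card G ≤ Nat.card (P : Subgroup G) * Nat.card S' := by
              rw [← Nat.card_univ (α := G), ← h2]
              exact Set.natCard_mul_le
            have h4 : Nat.card (P : Subgroup G) * Nat.card M ≤ Nat.card G := by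
              rw [← Nat.card_prod]
              refine Nat.card_le_card_of_injective (fun d => (d.1 : G) * d.2) (Subgroup.mul_injective_of_disjoint ?_)
              rw [disjoint_iff, Subgroup.eq_bot_iff_forall]
              intro y ⟨hyP, hyM⟩
              have := Subgroup.inf_eq_bot_of_coprime hcop
              exact Subgroup.mem_bot.1 (this ▸ (⟨hyP, hyM⟩ : y ∈ (P : Subgroup G) ⊓ M))
            exact Nat.le_of_mul_le_mul_left (h4.trans h3) Nat.card_pos
          have hM' : M = S' := (Subgroup.eq_of_le_of_card_ge hSM hcardS).symm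
          rw [hM']
          exact ((S.isPGroup'.map M.subtype)).isNilpotent
        · exact (hcomm _ _ htop ((P.dvd_card_of_dvd_card hpG).trans (Subgroup.card_dvd_of_le le_sup_left))
            le_sup_left P.isPGroup' x (Subgroup.mem_sup_right hx) (hMx x (hSM hx)) d hd).eq.symm
      have hfac : (Nat.card M).factorization q ≤ (Nat.card C).factorization q := by
        refine (hq.pow_dvd_iff_le_factorization Nat.card_pos.ne').1 ?_
        rw [← S.card_eq_multiplicity, ← Subgroup.card_map_of_injective M.subtype_injective]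
        exact Subgroup.card_dvd_of_le hS'C
      exact hfac
    apply hPn
    refine Subgroup.normalizer_eq_top_iff.1 ((eq_top_iff).2 ?_)
    rw [← coatom_not_le hM hPnM]
    exact sup_le (hcent.trans (Subgroup.centralizer_le_normalizer _)) Subgroup.le_normalizer
  -- `G = P × M`
  have htop := coatom_not_le hM hPnM
  have hdisj : (P : Subgroup G) ⊓ M = ⊥ := by
    refine (Subgroup.eq_bot_iff_forall _).2 fun x ⟨hxP, hxM⟩ => ?_
    obtain ⟨k, hk⟩ := IsPGroup.iff_orderOf.1 P.isPGroup' ⟨x, hxP⟩
    rw [Subgroup.orderOf_mk] at hk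
    rcases Nat.eq_zero_or_pos k with h0 | h0
    · rwa [h0, pow_zero, orderOf_eq_one_iff] at hk
    · exact absurd (hk ▸ dvd_pow_self p h0.ne') (fun h' => hp.coprime_iff_not_dvd.1 (hMx x hxM).symm h')
  have hproper : ∀ L : Subgroup G, L ≤ M → L ≠ M → (P : Subgroup G) ⊔ L ≠ ⊤ := by
    intro L hLM hLne e
    apply hLne (le_antisymm hLM fun x hx => ?_)
    have hxs : x ∈ (((P : Subgroup G) ⊔ L : Subgroup G) : Set G) := by rw [e]; trivial
    haveI := hPn
    rw [Subgroup.normal_mul] at hxs
    obtain ⟨u, hu, l, hl, rfl⟩ := Set.mem_mul.1 hxs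
    have hu1 : u ∈ (P : Subgroup G) ⊓ M := ⟨hu, by simpa using M.mul_mem hx (M.inv_mem (hLM hl))⟩
    rw [hdisj, Subgroup.mem_bot] at hu1
    rwa [hu1, one_mul]
  have hLd : ∀ L : Subgroup G, p ∣ Nat.card ((P : Subgroup G) ⊔ L : Subgroup G) := fun L =>
    (P.dvd_card_of_dvd_card hpG).trans (Subgroup.card_dvd_of_le le_sup_left)
  have hMmnn : Cfsg.IsMinimalNonNilpotent M := by
    refine ⟨hMn, fun H hH => ?_⟩
    have hle : H.map M.subtype ≤ M := Subgroup.map_subtype_le _
    have hne : H.map M.subtype ≠ M := by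
      intro e
      apply hH
      exact Subgroup.map_injective M.subtype_injective (by rw [e, ← MonoidHom.range_eq_map, Subgroup.range_subtype])
    haveI := isNilpotent_of_le' (hsub _ (hproper _ hle hne) (hLd _)) (le_sup_right : H.map M.subtype ≤ _)
    exact Group.nilpotent_of_mulEquiv (H.equivMapOfInjective M.subtype M.subtype_injective).symm
  have hcent : ∀ x ∈ M, ∀ d ∈ (P : Subgroup G), Commute x d := by
    intro x hx d hd
    refine hcomm _ _ (hproper (Subgroup.zpowers x) (Subgroup.zpowers_le.2 hx) ?_) (hLd _) le_sup_left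
      P.isPGroup' x (Subgroup.mem_sup_right (Subgroup.mem_zpowers x)) (hMx x hx) d hd
    intro e
    apply hMn
    rw [← e]
    letI := IsCyclic.commGroup (α := Subgroup.zpowers x)
    infer_instance
  have hMnorm : M.Normal := by
    refine Subgroup.normalizer_eq_top_iff.1 (eq_top_iff.2 ?_)
    rw [← htop]
    refine sup_le Subgroup.le_normalizer (le_trans (fun d hd => ?_) (Subgroup.centralizer_le_normalizer _))
    rw [Subgroup.mem_centralizer_iff]
    exact fun x hx => (hcent x hx d hd).eq
  have hcard : Nat.card (P : Subgroup G) = p := by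
    obtain ⟨z, hz⟩ := exists_prime_orderOf_dvd_card' (G := (P : Subgroup G)) p (P.dvd_card_of_dvd_card hpG)
    haveI := hMnorm
    set Z := Subgroup.zpowers (z : G)
    have hZP : Z ≤ (P : Subgroup G) := Subgroup.zpowers_le.2 z.2
    have hZM : ¬ Z ≤ M := fun hle => by
      have h1 : (z : G) ∈ (P : Subgroup G) ⊓ M := ⟨z.2, hle (Subgroup.mem_zpowers _)⟩
      rw [hdisj, Subgroup.mem_bot, OneMemClass.coe_eq_one] at h1
      rw [h1, orderOf_one] at hz
      exact hp.one_lt.ne hz
    have hPZ : (P : Subgroup G) ≤ Z := by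
      intro x hx
      have hxs : x ∈ ((Z ⊔ M : Subgroup G) : Set G) := by
        rw [sup_comm, coatom_not_le hM hZM]; trivial
      rw [Subgroup.mul_normal] at hxs
      obtain ⟨u, hu, l, hl, rfl⟩ := Set.mem_mul.1 hxs
      have h1 : l ∈ (P : Subgroup G) ⊓ M :=
        ⟨inv_mul_cancel_left u l ▸ (P : Subgroup G).mul_mem ((P : Subgroup G).inv_mem (hZP hu)) hx, hl⟩
      rw [hdisj, Subgroup.mem_bot] at h1
      rwa [h1, mul_one]
    rw [le_antisymm hPZ hZP, Nat.card_zpowers, Subgroup.orderOf_coe, hz]
  exact ⟨P, M, hPn, hMnorm, hdisj, by rw [sup_comm]; exact htop, hcard, hMmnn, hpM⟩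

/-- Let G be a finite group and p a prime dividing its order. Every maximal subgroup of G of order divisible by p is nilpotent if and only if G is nilpotent, or G is a minimal non-nilpotent group, or G is the internal direct product of a normal subgroup of order p and a normal minimal non-nilpotent subgroup of order prime to p. -/
theorem result {G : Type*} [Group G] [Finite G] (p : ℕ) (hp : p.Prime) (hpG : p ∣ Nat.card G) :
    (∀ M : Subgroup G, IsCoatom M → p ∣ Nat.card M → Group.IsNilpotent M) ↔
      (Group.IsNilpotent G ∨ Cfsg.IsMinimalNonNilpotent G ∨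
        ∃ Z K : Subgroup G, Z.Normal ∧ K.Normal ∧ Z ⊓ K = ⊥ ∧ Z ⊔ K = ⊤ ∧ Nat.card Z = p ∧
          Cfsg.IsMinimalNonNilpotent K ∧ ¬ p ∣ Nat.card K) := by
  haveI : Fact p.Prime := ⟨hp⟩
  constructor
  · intro h
    by_cases hn : Group.IsNilpotent G
    · exact Or.inl hn
    by_cases hm : Cfsg.IsMinimalNonNilpotent G
    · exact Or.inr (Or.inl hm)
    exact Or.inr (Or.inr (forward_aux p hpG h hn hm))
  · rintro (h | h | ⟨Z, K, hZn, hKn, hZK, htop, hZ, hK, hpK⟩) M hM hpM
    · haveI := h; infer_instance
    · exact h.2 M hM.1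
    · have := hZn
      have := hKn
      have hcomp : K.IsComplement' Z :=
        Subgroup.isComplement'_of_disjoint_and_mul_eq_univ (disjoint_iff.2 (by rw [inf_comm, hZK]))
          (by rw [← Subgroup.normal_mul, sup_comm, htop]; rfl)
      have hZM : Z ≤ M := by
        obtain ⟨z, hz⟩ := exists_prime_orderOf_dvd_card' (G := M) p hpM
        have hz' : (z : G) ^ p = 1 := by rw [← hz, ← Subgroup.orderOf_coe]; exact pow_orderOf_eq_one _
        have h1 : (z : G) ∈ Z := by
          have h2 : (z : G) ^ Z.index ∈ Z := Subgroup.pow_index_mem Z _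
          have h3 : (orderOf (z : G)).Coprime Z.index := by
            rw [hcomp.index_eq_card, Subgroup.orderOf_coe, hz]
            exact hp.coprime_iff_not_dvd.2 hpK
          obtain ⟨j, hj⟩ := exists_pow_eq_self_of_coprime h3.symm
          rw [← hj]
          exact pow_mem h2 j
        have h2 : Subgroup.zpowers (z : G) = Z := Subgroup.eq_of_le_of_card_ge (Subgroup.zpowers_le.2 h1)
          (by rw [Nat.card_zpowers, Subgroup.orderOf_coe, hz, hZ])
        exact h2 ▸ Subgroup.zpowers_le.2 z.2
      have hsplit : M = Z ⊔ (M ⊓ K) := by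
        refine le_antisymm (fun x hx => ?_) (sup_le hZM inf_le_left)
        have hxs : x ∈ ((Z ⊔ K : Subgroup G) : Set G) := by rw [htop]; trivial
        rw [Subgroup.normal_mul] at hxs
        obtain ⟨u, hu, k, hk, rfl⟩ := Set.mem_mul.1 hxs
        exact Subgroup.mul_mem_sup hu ⟨by simpa using M.mul_mem (M.inv_mem (hZM hu)) hx, hk⟩
      have hMK : (M ⊓ K).subgroupOf K ≠ ⊤ := by
        rw [Ne, Subgroup.subgroupOf_eq_top]
        intro hle
        exact hM.1 (eq_top_iff.2 (htop ▸ sup_le hZM (hle.trans inf_le_left)))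
      haveI h1 : Group.IsNilpotent (M ⊓ K : Subgroup G) := by
        haveI := hK.2 _ hMK
        exact Group.nilpotent_of_mulEquiv (Subgroup.subgroupOfEquivOfLe (inf_le_right : M ⊓ K ≤ K))
      haveI : IsCyclic Z := isCyclic_of_prime_card (p := p) hZ
      letI := IsCyclic.commGroup (α := Z)
      have hc : ∀ (u : Z) (k : (M ⊓ K : Subgroup G)), Commute (Z.subtype u) ((M ⊓ K).subtype k) := fun u k =>
        Subgroup.commute_of_normal_of_disjoint Z K hZn hKn (disjoint_iff.2 hZK) _ _ u.2 k.2.2
      let f : Z × (M ⊓ K : Subgroup G) →* G := MonoidHom.noncommCoprod Z.subtype (M ⊓ K).subtype hc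
      have hf : f.range = M := by
        rw [MonoidHom.noncommCoprod_range, Subgroup.range_subtype, Subgroup.range_subtype, ← hsplit]
      rw [← hf]
      exact Group.nilpotent_of_surjective f.rangeRestrict f.rangeRestrict_surjective

end Cfsg.Agent.S4242
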