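import Cfsg.Statements.S4244
import Cfsg.Agent.Lib.StructC.RelIndex

set_option autoImplicit false
open Cfsg
open scoped Pointwise

namespace Cfsg.Agent.S4244

/-- Let H be a subnormal subgroup of a finite group G. Then for every subgroup K of G the index of H ∩ K in H divides the index of K in G. -/
theorem result {G : Type*} [Group G] [Finite G] (H : Subgroup G) (hH : H.IsSubnormal) (K : Subgroup G) :
    (H ⊓ K).relIndex H ∣ K.index := by
  induction hH generalizing K with
  | top => simp [Subgroup.relIndex_top_right]
  | step H L hle _ hN ih =>
    have h1 : (K.subgroupOf L).relIndex (H.subgroupOf L) ∣ (K.subgroupOf L).index := by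
      have := hN
      exact CfsgLib.StructC.relIndex_dvd_index_right _ _
    rw [Subgroup.relIndex_subgroupOf hle] at h1
    rw [Subgroup.inf_relIndex_left]
    refine h1.trans ?_
    have := ih K
    rwa [Subgroup.inf_relIndex_left] at this

end Cfsg.Agent.S4244
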