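import Cfsg.Statements.S4245
import Cfsg.Agent.Lib.Char.Burnside

set_option autoImplicit false
open Cfsg

namespace Cfsg.Agent.S4245

variable {G : Type*} [Group G]

/-- A simple group with such a subgroup of prime power index is cyclic of prime order or trivial. -/
theorem simple_case {G : Type*} [Group G] [Finite G] [IsSimpleGroup G] {A : Subgroup G} {p s : ℕ}
    (hp : p.Prime) (hA : A.index = p ^ s) (B : Subgroup A) [B.Normal] (hB : IsCyclic B)
    (hAB : IsCyclic (A ⧸ B)) {r : ℕ} (hr : B.index = 2 ^ r) : Group.IsSolvable G := by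
  classical
  have : Fact (Nat.Prime 2) := ⟨Nat.prime_two⟩
  have hclass : ∀ g : G, g ≠ 1 → (Subgroup.centralizer ({g} : Set G)).index ∣ p ^ s →
      Group.IsSolvable G := by
    intro g hg hd
    obtain ⟨k, -, hk⟩ := (Nat.dvd_prime_pow hp).1 hd
    have hpr := CfsgLib.Char.burnside_class_prime_power p k hp g hg hk
    have := Fact.mk hpr
    have : IsCyclic G := isCyclic_of_prime_card rfl
    exact Group.isSolvable_of_comm fun a b => (IsCyclic.isMulCommutative (α := G)).is_comm.comm a b
  rcases eq_or_ne (2 ∣ Nat.card B) True with h2 | h2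
  · -- the involution of `B` is central in `A`
    have h2' : 2 ∣ Nat.card B := h2 ▸ trivial
    obtain ⟨z, hz⟩ := exists_prime_orderOf_dvd_card' 2 h2'
    have hz1 : ((z : A) : G) ≠ 1 := by
      intro e
      rw [show z = 1 from Subtype.ext (Subtype.ext e), orderOf_one] at hz
      exact absurd hz (by norm_num)
    refine hclass _ hz1 (hA ▸ Subgroup.index_dvd_of_le fun a ha => ?_)
    rw [Subgroup.mem_centralizer_singleton_iff]
    have hc : (⟨a, ha⟩ : A) * z * (⟨a, ha⟩ : A)⁻¹ ∈ B := Subgroup.Normal.conj_mem inferInstance _ z.2 _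
    have hu : (⟨_, hc⟩ : B) = z := by
      have := hB
      have : Fintype B := Fintype.ofFinite B
      have hcard := IsCyclic.card_orderOf_eq_totient (α := B) (d := 2)
        (Nat.card_eq_fintype_card (α := B) ▸ h2')
      rw [Nat.totient_two] at hcard
      refine Finset.card_le_one.1 hcard.le _ ?_ _ ?_
      · simp only [Finset.mem_filter, Finset.mem_univ, true_and]
        rw [← hz, Subgroup.orderOf_mk, ← Subgroup.orderOf_coe z, ← MulAut.conj_apply]
        exact (MulAut.conj (⟨a, ha⟩ : A)).orderOf_eq _
      · simp only [Finset.mem_filter, Finset.mem_univ, true_and]; exact hz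
    have h := congrArg (fun u : B => ((u : A) : G)) hu
    simp only [Subgroup.coe_mul, InvMemClass.coe_inv] at h
    exact mul_inv_eq_iff_eq_mul.1 h
  · have hBodd : ¬ 2 ∣ Nat.card B := fun h => h2 (eq_true h)
    by_cases hp2 : p = 2
    · subst hp2
      rcases eq_or_ne B ⊥ with hBb | hBb
      · -- a 2-group
        have hc : Nat.card G = 2 ^ (r + s) := by
          rw [← A.card_mul_index, hA, ← B.card_mul_index, hr, hBb, Subgroup.card_bot, one_mul, pow_add]
        have : Group.IsNilpotent G := (IsPGroup.of_card hc).isNilpotent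
        infer_instance
      · obtain ⟨⟨z, hz⟩, hz1⟩ := Subgroup.ne_bot_iff_exists_ne_one.1 hBb
        have hle : B.map A.subtype ≤ Subgroup.centralizer ({(z : G)} : Set G) := by
          rintro _ ⟨w, hw, rfl⟩
          rw [Subgroup.mem_centralizer_singleton_iff]
          have := hB
          have e : (⟨w, hw⟩ : B) * ⟨z, hz⟩ = ⟨z, hz⟩ * ⟨w, hw⟩ := (IsCyclic.isMulCommutative (α := B)).is_comm.comm _ _
          exact congrArg (fun u : B => ((u : A) : G)) e
        have hi : (B.map A.subtype).index = 2 ^ (r + s) := by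
          rw [Subgroup.index_map_subtype, hr, hA, pow_add]
        obtain ⟨k, -, hk⟩ := (Nat.dvd_prime_pow hp).1 (hi ▸ Subgroup.index_dvd_of_le hle)
        have hpr := CfsgLib.Char.burnside_class_prime_power 2 k hp (z : G)
          (fun e => hz1 (Subtype.ext (Subtype.ext e))) hk
        have := Fact.mk hpr
        have : IsCyclic G := isCyclic_of_prime_card rfl
        exact Group.isSolvable_of_comm fun a b => (IsCyclic.isMulCommutative (α := G)).is_comm.comm a b
    rcases Nat.eq_zero_or_pos r with rfl | hr0
    · -- `A = B` is cyclic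
      have hAtop : B = ⊤ := Subgroup.index_eq_one.1 (by rw [hr, pow_zero])
      rcases eq_or_ne A ⊥ with hA0 | hA0
      · have hc : Nat.card G = p ^ s := by
          rw [← A.card_mul_index, hA, hA0, Subgroup.card_bot, one_mul]
        have := Fact.mk hp
        have : Group.IsNilpotent G := (IsPGroup.of_card hc).isNilpotent
        infer_instance
      · obtain ⟨⟨z, hz⟩, hz1⟩ := Subgroup.ne_bot_iff_exists_ne_one.1 hA0
        refine hclass z (fun e => hz1 (Subtype.ext e)) (hA ▸ Subgroup.index_dvd_of_le fun a ha => ?_)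
        rw [Subgroup.mem_centralizer_singleton_iff]
        have := hB
        have e : (⟨⟨a, ha⟩, hAtop ▸ Subgroup.mem_top _⟩ : B) * ⟨⟨z, hz⟩, hAtop ▸ Subgroup.mem_top _⟩ =
            ⟨⟨z, hz⟩, hAtop ▸ Subgroup.mem_top _⟩ * ⟨⟨a, ha⟩, hAtop ▸ Subgroup.mem_top _⟩ :=
          (IsCyclic.isMulCommutative (α := B)).is_comm.comm _ _
        exact congrArg (fun u : B => ((u : A) : G)) e
    · -- cyclic Sylow 2-subgroup
      by_contra hnotsol
      obtain ⟨T⟩ : Nonempty (Sylow 2 G) := inferInstance
      obtain ⟨S⟩ : Nonempty (Sylow 2 A) := inferInstance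
      have hScyc : IsCyclic (S : Subgroup A) := by
        have := hAB
        refine isCyclic_of_injective ((QuotientGroup.mk' B).comp (S : Subgroup A).subtype) ?_
        rw [← MonoidHom.ker_eq_bot_iff, eq_bot_iff]
        intro x hx
        have hxB : (x : A) ∈ B := (QuotientGroup.eq_one_iff _).1 (MonoidHom.mem_ker.1 hx)
        obtain ⟨k, hk⟩ := S.isPGroup' x
        have h1 : orderOf (x : A) ∣ 2 ^ k := orderOf_dvd_of_pow_eq_one (congrArg Subtype.val hk)
        refine Subgroup.mem_bot.2 (Subtype.ext (orderOf_eq_one_iff.1 (Nat.eq_one_of_dvd_coprimes ?_ h1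
          (Subgroup.orderOf_dvd_natCard B hxB))))
        exact (Nat.prime_two.coprime_iff_not_dvd.2 hBodd).pow_left k
      have hcard : Nat.card (T : Subgroup G) = Nat.card (S : Subgroup A) := by
        rw [T.card_eq_multiplicity, S.card_eq_multiplicity, ← A.card_mul_index, hA,
          Nat.factorization_mul Nat.card_pos.ne' (pow_ne_zero _ hp.ne_zero), Finsupp.add_apply,
          hp.factorization_pow, Finsupp.single_eq_of_ne (Ne.symm hp2), add_zero]
      have hTcyc : IsCyclic (T : Subgroup G) := by
        obtain ⟨T', hT'⟩ := (S.isPGroup'.map A.subtype).exists_le_sylow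
        have e : (S : Subgroup A).map A.subtype = (T' : Subgroup G) := by
          refine Subgroup.eq_of_le_of_card_ge hT' (le_of_eq ?_)
          rw [Subgroup.card_map_of_injective A.subtype_injective, ← hcard, T.card_eq_multiplicity,
            T'.card_eq_multiplicity]
        have := hScyc
        have : IsCyclic (T' : Subgroup G) := e ▸ (MulEquiv.isCyclic
          ((S : Subgroup A).equivMapOfInjective A.subtype A.subtype_injective)).1 inferInstance
        exact (MulEquiv.isCyclic (T'.equiv T)).1 inferInstance
      have h2G : 2 ∣ Nat.card G := by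
        rw [← A.card_mul_index, ← B.card_mul_index, hr]
        exact ((dvd_pow_self 2 hr0.ne').mul_left _).mul_right _
      have := hTcyc
      have hmin : (Nat.card G).minFac = 2 := Nat.minFac_eq_two_iff _ |>.2 h2G
      have hle : Subgroup.normalizer ((T : Subgroup G) : Set G) ≤ Subgroup.centralizer ((T : Subgroup G) : Set G) :=
        IsCyclic.normalizer_le_centralizer hmin hTcyc
      have hcompl := MonoidHom.ker_transferSylow_isComplement' T hle
      rcases IsSimpleGroup.eq_bot_or_eq_top_of_normal _ (MonoidHom.normal_ker (MonoidHom.transferSylow T hle)) with h | h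
      · rw [h, Subgroup.isComplement'_bot_left] at hcompl
        have : IsPGroup 2 G := (IsPGroup.to_le T.isPGroup' hcompl.ge).of_equiv Subgroup.topEquiv
        have : Group.IsNilpotent G := this.isNilpotent
        exact hnotsol inferInstance
      · rw [h, Subgroup.isComplement'_top_left] at hcompl
        exact Sylow.ne_bot_of_dvd_card T h2G hcompl

/-- Let G be a finite group with a subgroup A of prime-power index. Suppose A has a normal cyclic subgroup B such that A/B is cyclic of order a power of 2. Then G is solvable. -/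
theorem result {G : Type*} [Group G] [Finite G] (A : Subgroup G) (p s : ℕ) (hp : p.Prime) (hA : A.index = p ^ s)
    (B : Subgroup A) [B.Normal] (hB : IsCyclic B) (hAB : IsCyclic (A ⧸ B)) (r : ℕ) (hr : Nat.card (A ⧸ B) = 2 ^ r) :
    Group.IsSolvable G := by
  suffices ∀ (n : ℕ) (G : Type _) [Group G] [Finite G], Nat.card G = n →
      ∀ (A : Subgroup G) (p s : ℕ), p.Prime → A.index = p ^ s → ∀ (B : Subgroup A) [B.Normal],
        IsCyclic B → IsCyclic (A ⧸ B) → ∀ r, B.index = 2 ^ r → Group.IsSolvable G by
    exact this _ G rfl A p s hp hA B hB hAB r (by rw [← hr, Subgroup.index_eq_card])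
  clear! p s r
  intro n
  induction n using Nat.strong_induction_on with
  | _ n ih =>
  intro G _ _ hn A p s hp hA B _ hB hAB r hr
  by_cases hsub : Subsingleton G
  · exact Group.isSolvable_of_comm fun a b => Subsingleton.elim _ _
  have hnt : Nontrivial G := not_subsingleton_iff_nontrivial.1 hsub
  by_cases hsimp : IsSimpleGroup G
  · exact simple_case hp hA B hB hAB hr
  obtain ⟨N, hN, hN0, hN1⟩ : ∃ N : Subgroup G, N.Normal ∧ N ≠ ⊥ ∧ N ≠ ⊤ := by
    by_contra hcon
    push Not at hcon
    exact hsimp { exists_pair_ne := hnt.exists_pair_ne,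
                  eq_bot_or_eq_top_of_normal := fun N hN => or_iff_not_imp_left.2 (hcon N hN) }
  have hNsol : Group.IsSolvable N := by
    set A' := A.subgroupOf N with hA'
    obtain ⟨k, -, hk⟩ : ∃ k ≤ s, A'.index = p ^ k := by
      refine (Nat.dvd_prime_pow hp).1 ?_
      rw [← hA]
      show A.relIndex N ∣ A.index
      rw [← Subgroup.inf_relIndex_right]
      have h1 := Subgroup.relIndex_mul_index (inf_le_right : A ⊓ N ≤ N)
      have h2 := Subgroup.relIndex_mul_index (inf_le_left : A ⊓ N ≤ A)
      rw [← h2, Subgroup.inf_relIndex_left] at h1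
      obtain ⟨c, hc⟩ := Subgroup.relIndex_dvd_index_of_normal N A
      refine ⟨c, Nat.eq_of_mul_eq_mul_left (Nat.pos_of_ne_zero (show (N.subgroupOf A).index ≠ 0 from Subgroup.index_ne_zero_of_finite)) ?_⟩
      show N.relIndex A * A.index = N.relIndex A * ((A ⊓ N).relIndex N * c)
      rw [← h1, hc]; ring
    let ι : A' →* A := (Subgroup.inclusion (le_refl A)).comp
      (MonoidHom.mk' (fun x => (⟨((x : N) : G), x.2⟩ : A)) fun x y => rfl)
    have hι : Function.Injective ι := fun x y h =>
      Subtype.ext (Subtype.ext (congrArg (fun u : A => (u : G)) h))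
    have hB' : IsCyclic (B.comap ι) := by
      have := hB
      exact isCyclic_of_injective (ι.subgroupComap B) fun x y h =>
        Subtype.ext (hι (congrArg Subtype.val h))
    have hAB' : IsCyclic (A' ⧸ B.comap ι) := by
      have := hAB
      exact isCyclic_of_injective (QuotientGroup.map (B.comap ι) B ι le_rfl) (by
        rw [← MonoidHom.ker_eq_bot_iff, QuotientGroup.ker_map, Subgroup.map_eq_bot_iff, QuotientGroup.ker_mk'])
    obtain ⟨j, -, hj⟩ : ∃ j ≤ r, (B.comap ι).index = 2 ^ j := by
      refine (Nat.dvd_prime_pow Nat.prime_two).1 ?_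
      rw [← hr, Subgroup.index_comap]
      exact Subgroup.relIndex_dvd_index_of_normal B _
    refine ih _ ?_ N rfl A' p k hp hk (B.comap ι) hB' hAB' j hj
    rw [← hn]
    exact lt_of_le_of_ne N.card_le_card_group fun e => hN1 (Subgroup.eq_top_of_card_eq N e)
  have hQsol : Group.IsSolvable (G ⧸ N) := by
    set π := QuotientGroup.mk' N
    obtain ⟨k, -, hk⟩ : ∃ k ≤ s, (A.map π).index = p ^ k := by
      refine (Nat.dvd_prime_pow hp).1 ?_
      rw [← hA]
      exact A.index_map_dvd (QuotientGroup.mk'_surjective N)
    let ψ : A →* A.map π := π.subgroupMap A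
    have hψ : Function.Surjective ψ := π.subgroupMap_surjective A
    have : (B.map ψ).Normal := Subgroup.Normal.map inferInstance ψ hψ
    have hB' : IsCyclic (B.map ψ) := by
      have := hB
      exact isCyclic_of_surjective (ψ.subgroupMap B) (ψ.subgroupMap_surjective B)
    have hAB' : IsCyclic (A.map π ⧸ B.map ψ) := by
      have := hAB
      exact isCyclic_of_surjective (QuotientGroup.map B (B.map ψ) ψ (Subgroup.le_comap_map ψ B))
        (QuotientGroup.map_surjective_of_surjective _ _ _ ((QuotientGroup.mk'_surjective _).comp hψ) _)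
    obtain ⟨j, -, hj⟩ : ∃ j ≤ r, (B.map ψ).index = 2 ^ j := by
      refine (Nat.dvd_prime_pow Nat.prime_two).1 ?_
      rw [← hr]
      exact B.index_map_dvd hψ
    refine ih _ ?_ (G ⧸ N) rfl (A.map π) p k hp hk (B.map ψ) hB' hAB' j hj
    rw [← hn, Subgroup.card_eq_card_quotient_mul_card_subgroup N]
    exact lt_mul_of_one_lt_right Nat.card_pos ((Subgroup.one_lt_card_iff_ne_bot N).2 hN0)
  exact (Group.isSolvable_iff_subgroup_quotient N).2 ⟨hNsol, hQsol⟩

end Cfsg.Agent.S4245
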