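import Cfsg.Statements.S4249
import Cfsg.Agent.Lib.StructC.HughesKegel

set_option autoImplicit false
open Cfsg

namespace Cfsg.Agent.S4249

/-- Let G be a finite group and p a prime such that G is not a p-group, and suppose the Hughes subgroup H_p(G), generated by all elements g with g^p ≠ 1, is a proper subgroup. Then H_p(G) is nilpotent and has index p in G. -/
theorem result {G : Type*} [Group G] [Finite G] (p : ℕ) (hp : p.Prime) (hG : ¬ IsPGroup p G)
    (hH : Subgroup.closure {g : G | g ^ p ≠ 1} ≠ ⊤) :
    Group.IsNilpotent (Subgroup.closure {g : G | g ^ p ≠ 1}) ∧ (Subgroup.closure {g : G | g ^ p ≠ 1}).index = p := by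
  have := Fact.mk hp
  set H := Subgroup.closure {g : G | g ^ p ≠ 1} with hdef
  have hn : H.Normal := by
    refine ⟨fun z hz g => ?_⟩
    have hle : H ≤ H.comap (MulAut.conj g).toMonoidHom := by
      refine (Subgroup.closure_le _).2 fun y hy => ?_
      refine Subgroup.subset_closure ?_
      simp only [Set.mem_setOf_eq, MulEquiv.coe_toMonoidHom] at hy ⊢
      rw [← map_pow]
      exact fun e => hy ((MulAut.conj g).map_eq_one_iff.1 e)
    simpa using hle hz
  have hout : ∀ x ∉ H, x ^ p = 1 := fun x hx =>
    by_contra fun e => hx (Subgroup.subset_closure e)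
  have hnp : ¬ IsPGroup p H := fun h => hG fun g => by
    by_cases hg : g ∈ H
    · obtain ⟨k, hk⟩ := h ⟨g, hg⟩
      exact ⟨k, congrArg Subtype.val hk⟩
    · exact ⟨1, by rw [pow_one]; exact hout g hg⟩
  have hidx := CfsgLib.StructC.Hughes.index_eq_of_outside_pow_eq_one H hH hout hnp
  exact ⟨CfsgLib.StructC.Hughes.isNilpotent_of_outside_pow_eq_one G H hidx hout, hidx⟩

end Cfsg.Agent.S4249
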