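import Cfsg.Statements.S4252
import Cfsg.Agent.Lib.Solvable.Basic

set_option autoImplicit false
open Cfsg
open scoped Pointwise

namespace Cfsg.Agent.S4252

/-- Let a finite group G act on a finite set Ω with more than one point, transitively but not regularly, so that no non-identity element of G fixes two distinct points. Then the stabilizer H of any point is a Frobenius complement in G (nontrivial, proper, meeting its other conjugates trivially), and the Frobenius kernel of G with respect to H (the identity together with the elements lying in no conjugate of H) is exactly the set consisting of the identity and the elements fixing no point. -/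
theorem result {G Ω : Type*} [Group G] [Finite G] [Fintype Ω] [MulAction G Ω] (hΩ : 1 < Fintype.card Ω)
    (htrans : ∀ α β : Ω, ∃ g : G, g • α = β) (hnreg : ∃ g : G, g ≠ 1 ∧ ∃ α : Ω, g • α = α)
    (hfix : ∀ g : G, g ≠ 1 → ∀ α β : Ω, g • α = α → g • β = β → α = β) (α : Ω) :
    Cfsg.IsFrobeniusComplement (MulAction.stabilizer G α) ∧
      Cfsg.frobeniusKernel (MulAction.stabilizer G α) = {g : G | g = 1 ∨ ∀ ω : Ω, g • ω ≠ ω} := by
  have hmem : ∀ (g x : G) (ω : Ω), x ∈ MulAut.conj g • MulAction.stabilizer G ω ↔ x • (g • ω) = g • ω := by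
    intro g x ω
    rw [CfsgLib.Solvable.mem_conj_smul, MulAction.mem_stabilizer_iff, mul_smul, mul_smul,
      inv_smul_eq_iff]
  constructor
  · refine ⟨?_, ?_, ?_⟩
    · obtain ⟨g, hg, β, hβ⟩ := hnreg
      obtain ⟨c, rfl⟩ := htrans α β
      intro h
      have : c⁻¹ * g * c ∈ MulAction.stabilizer G α := by
        rw [MulAction.mem_stabilizer_iff, mul_smul, mul_smul, hβ, inv_smul_smul]
      rw [h, Subgroup.mem_bot] at this
      exact hg (by rw [show g = c * (c⁻¹ * g * c) * c⁻¹ by group, this]; group)
    · intro h
      obtain ⟨β, hβ⟩ := Fintype.exists_ne_of_one_lt_card hΩ α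
      obtain ⟨c, hc⟩ := htrans α β
      exact hβ (hc.symm.trans (MulAction.mem_stabilizer_iff.mp (h ▸ Subgroup.mem_top c)))
    · intro g hg
      rw [eq_bot_iff]
      rintro x ⟨hx1, hx2⟩
      by_contra hne
      exact hg (MulAction.mem_stabilizer_iff.mpr
        (hfix x hne α (g • α) hx1 ((hmem g x α).mp hx2)).symm)
  · ext x
    refine or_congr_right ⟨fun h ω hω => ?_, fun h g hg => h _ ((hmem g x α).mp hg)⟩
    obtain ⟨g, rfl⟩ := htrans α ω
    exact h g ((hmem g x α).mpr hω)

end Cfsg.Agent.S4252
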