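import Cfsg.Statements.S4253
import Cfsg.Agent.Lib.Solvable.Basic

set_option autoImplicit false
open Cfsg
open scoped Pointwise

namespace Cfsg.Agent.S4253

/-- Let H be a Frobenius complement in a finite group G (a nontrivial proper subgroup meeting each conjugate gHg⁻¹ with g outside H trivially). Then in the action of G on the left cosets of H by left multiplication, no non-identity element of G fixes two distinct cosets. -/
theorem result {G : Type*} [Group G] [Finite G] (H : Subgroup G) (hH : Cfsg.IsFrobeniusComplement H)
    (g : G) (hg : g ≠ 1) (a b : G ⧸ H) (ha : g • a = a) (hb : g • b = b) : a = b := by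
  induction a using QuotientGroup.induction_on with
  | _ a =>
    induction b using QuotientGroup.induction_on with
    | _ b =>
      rw [MulAction.Quotient.smul_coe, QuotientGroup.eq] at ha hb
      rw [QuotientGroup.eq]
      by_contra hc
      have ha' : a⁻¹ * g * a ∈ H := by
        have := H.inv_mem ha; simpa [mul_assoc] using this
      have hb' : b⁻¹ * g * b ∈ H := by
        have := H.inv_mem hb; simpa [mul_assoc] using this
      have hmem : a⁻¹ * g * a ∈ H ⊓ MulAut.conj (a⁻¹ * b) • H := by
        refine ⟨ha', CfsgLib.Solvable.mem_conj_smul.mpr ?_⟩
        simpa [mul_assoc] using hb'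
      rw [hH.2.2 _ hc, Subgroup.mem_bot] at hmem
      exact hg (by rw [show g = a * (a⁻¹ * g * a) * a⁻¹ by group, hmem]; group)

end Cfsg.Agent.S4253
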