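import Cfsg.Statements.S4255
import Cfsg.Agent.Lib.StructC.ClassGraphDisconnected

set_option autoImplicit false
open Cfsg

namespace Cfsg.Agent.S4255

/-- Let G be a finite group. Call a prime a vertex if it divides some conjugacy class size of G, and two distinct vertices adjacent if their product divides some class size. Suppose this graph is disconnected: the vertices split into two nonempty parts with no vertex of one part adjacent to a vertex of the other. Then G/Z(G) is a Frobenius group with abelian Frobenius complement and with a Frobenius kernel all of whose elements commute. -/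
theorem result {G : Type*} [Group G] [Finite G] (S : Set ℕ) (hS : ∃ p ∈ S, (p.Prime ∧ ∃ g : G, p ∣ (Subgroup.centralizer ({g} : Set G)).index)) (hS' : ∃ q ∉ S, (q.Prime ∧ ∃ g : G, q ∣ (Subgroup.centralizer ({g} : Set G)).index))
    (hdisc : ∀ p q : ℕ, (p.Prime ∧ ∃ g : G, p ∣ (Subgroup.centralizer ({g} : Set G)).index) → (q.Prime ∧ ∃ g : G, q ∣ (Subgroup.centralizer ({g} : Set G)).index) → p ∈ S → q ∉ S → ¬ (∃ g : G, p * q ∣ (Subgroup.centralizer ({g} : Set G)).index)) :
    ∃ H : Subgroup (G ⧸ Subgroup.center G), Cfsg.IsFrobeniusComplement H ∧ IsMulCommutative H ∧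
      ∀ x ∈ Cfsg.frobeniusKernel H, ∀ y ∈ Cfsg.frobeniusKernel H, x * y = y * x := by
  obtain ⟨p, hpS, hp, x, hpx⟩ := hS
  obtain ⟨q, hqS, hq, y, hqy⟩ := hS'
  refine CfsgLib.StructC.ClassGraphDisconnected.frobenius_of_split S (fun g => ?_) ⟨x, p, hp, hpx, hpS⟩
    ⟨y, q, hq, hqy, hqS⟩
  by_contra hcon
  simp only [CfsgLib.StructC.ClassGraphDisconnected.Num, not_or, not_forall, Set.mem_compl_iff, not_not] at hcon
  obtain ⟨⟨a, ha, hag, haS⟩, b, hb, hbg, hbS⟩ := hcon
  exact hdisc b a ⟨hb, g, hbg⟩ ⟨ha, g, hag⟩ hbS haS ⟨g, Nat.Coprime.mul_dvd_of_dvd_of_dvd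
    ((Nat.coprime_primes hb ha).2 fun e => haS (e ▸ hbS)) hbg hag⟩

end Cfsg.Agent.S4255
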