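import Cfsg.Statements.S4257
import Cfsg.Agent.Lib.StructC.ClassGraphDiameter

set_option autoImplicit false
open Cfsg

namespace Cfsg.Agent.S4257

/-- Let G be a finite group. Call a prime a vertex if it divides some conjugacy class size of G, and two distinct vertices adjacent if their product divides some class size. If this graph is connected, then its diameter is at most 3: any two distinct vertices p and q are adjacent, or joined through one or two intermediate vertices. -/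
theorem result {G : Type*} [Group G] [Finite G]
    (hconn : ∀ S : Set ℕ, (∃ p ∈ S, (p.Prime ∧ ∃ g : G, p ∣ (Subgroup.centralizer ({g} : Set G)).index)) → (∃ q ∉ S, (q.Prime ∧ ∃ g : G, q ∣ (Subgroup.centralizer ({g} : Set G)).index)) →
      ∃ p q : ℕ, (p.Prime ∧ ∃ g : G, p ∣ (Subgroup.centralizer ({g} : Set G)).index) ∧ (q.Prime ∧ ∃ g : G, q ∣ (Subgroup.centralizer ({g} : Set G)).index) ∧ p ∈ S ∧ q ∉ S ∧ (∃ g : G, p * q ∣ (Subgroup.centralizer ({g} : Set G)).index))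
    (p q : ℕ) (hp : (p.Prime ∧ ∃ g : G, p ∣ (Subgroup.centralizer ({g} : Set G)).index)) (hq : (q.Prime ∧ ∃ g : G, q ∣ (Subgroup.centralizer ({g} : Set G)).index)) (hpq : p ≠ q) :
    (∃ g : G, p * q ∣ (Subgroup.centralizer ({g} : Set G)).index) ∨ (∃ r : ℕ, (r.Prime ∧ ∃ g : G, r ∣ (Subgroup.centralizer ({g} : Set G)).index) ∧ r ≠ p ∧ r ≠ q ∧ (∃ g : G, p * r ∣ (Subgroup.centralizer ({g} : Set G)).index) ∧ (∃ g : G, r * q ∣ (Subgroup.centralizer ({g} : Set G)).index)) ∨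
      (∃ r s : ℕ, (r.Prime ∧ ∃ g : G, r ∣ (Subgroup.centralizer ({g} : Set G)).index) ∧ (s.Prime ∧ ∃ g : G, s ∣ (Subgroup.centralizer ({g} : Set G)).index) ∧ r ≠ p ∧ s ≠ q ∧ r ≠ s ∧ r ≠ q ∧ s ≠ p ∧
        (∃ g : G, p * r ∣ (Subgroup.centralizer ({g} : Set G)).index) ∧ (∃ g : G, r * s ∣ (Subgroup.centralizer ({g} : Set G)).index) ∧ (∃ g : G, s * q ∣ (Subgroup.centralizer ({g} : Set G)).index)) := by
  classical
  by_contra hcon
  simp only [not_or, not_exists] at hcon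
  obtain ⟨hc1, hc2, hc3⟩ := hcon
  let adj : ℕ → ℕ → Prop := fun r s =>
    ∃ g : G, r ∣ (Subgroup.centralizer ({g} : Set G)).index ∧ s ∣ (Subgroup.centralizer ({g} : Set G)).index
  have hmul : ∀ {r s : ℕ}, r.Prime → s.Prime → r ≠ s → adj r s →
      ∃ g : G, r * s ∣ (Subgroup.centralizer ({g} : Set G)).index := fun {r s} hr hs hne h => by
    obtain ⟨g, h1, h2⟩ := h
    exact ⟨g, Nat.Coprime.mul_dvd_of_dvd_of_dvd ((Nat.coprime_primes hr hs).2 hne) h1 h2⟩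
  have hvert : ∀ {r s : ℕ}, r.Prime → adj r s →
      r.Prime ∧ ∃ g : G, r ∣ (Subgroup.centralizer ({g} : Set G)).index := fun hr h => ⟨hr, h.imp fun _ h => h.1⟩
  let U : Set ℕ := {r | r.Prime ∧ adj p r}
  let V : Set ℕ := {r | r.Prime ∧ adj r q}
  have hdis : ∀ r ∈ U, r ∉ V := by
    rintro r ⟨hr, hpr⟩ ⟨-, hrq⟩
    by_cases h1 : r = p
    · subst h1; exact not_exists.2 hc1 (hmul hr hq.1 hpq hrq)
    by_cases h2 : r = q
    · subst h2; exact not_exists.2 hc1 (hmul hp.1 hr hpq hpr)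
    exact hc2 r ⟨hvert hr hrq, h1, h2, hmul hp.1 hr (Ne.symm h1) hpr, hmul hr hq.1 h2 hrq⟩
  have hpU : p ∈ U := ⟨hp.1, hp.2.imp fun _ h => ⟨h, h⟩⟩
  have hqV : q ∈ V := ⟨hq.1, hq.2.imp fun _ h => ⟨h, h⟩⟩
  have hmix : ∀ g : G, ∀ r s : ℕ, r.Prime → s.Prime → r ∣ (Subgroup.centralizer ({g} : Set G)).index →
      s ∣ (Subgroup.centralizer ({g} : Set G)).index → r ∈ U → s ∉ V := by
    intro g r s hr hs hrg hsg hrU hsV
    have hrs : r ≠ s := fun e => hdis r hrU (e ▸ hsV)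
    by_cases h1 : r = p
    · exact hdis s ⟨hs, g, h1 ▸ hrg, hsg⟩ hsV
    by_cases h2 : s = q
    · exact hdis r hrU ⟨hr, g, hrg, h2 ▸ hsg⟩
    exact hc3 r s ⟨hvert hr ⟨g, hrg, hsg⟩, hvert hs ⟨g, hsg, hrg⟩, h1, h2, hrs,
      fun e => hdis r hrU (e ▸ hqV), fun e => hdis s (e ▸ hpU) hsV, hmul hp.1 hr (Ne.symm h1) hrU.2,
      hmul hr hs hrs ⟨g, hrg, hsg⟩, hmul hs hq.1 h2 hsV.2⟩
  obtain ⟨r, s, hr, hs, hrU, hsU, g, hg⟩ := hconn U ⟨p, hpU, hp⟩ ⟨q, fun h => hdis q h hqV, hq⟩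
  have hsg := (dvd_mul_left s r).trans hg
  rcases CfsgLib.StructC.ClassGraphDiameter.mem_union_of_far hp.1 hq.1 hdis hmix
    (fun x hx t ht htx => ⟨ht, x, hx, htx⟩) (fun x hx t ht htx => ⟨ht, x, htx, hx⟩) hp.2 hq.2 hs.1 hsg with h | h
  · exact hsU h
  · exact hmix g r s hr.1 hs.1 ((dvd_mul_right r s).trans hg) hsg hrU h

end Cfsg.Agent.S4257
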