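import Cfsg.Statements.S4260

set_option autoImplicit false
open Cfsg
open scoped Pointwise

namespace Cfsg.Agent.S4260

/-- Let H be a Hall subgroup of a finite group G (the order of H is coprime to its index) such that x^[G : H] lies in H for every x in G. Then H is normal in G. -/
theorem result {G : Type*} [Group G] [Finite G] (H : Subgroup G) (hHall : (Nat.card H).Coprime H.index)
    (hexp : ∀ x : G, x ^ H.index ∈ H) : H.Normal := by
  have key : ∀ x : G, x ∈ H ↔ (orderOf x).Coprime H.index := by
    intro x
    constructor
    · intro hx
      exact Nat.Coprime.coprime_dvd_left (Subgroup.orderOf_dvd_natCard _ hx) hHall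
    · intro hco
      obtain ⟨u, hu⟩ := exists_pow_eq_self_of_coprime hco.symm
      rw [← hu]
      exact H.pow_mem (hexp x) u
  refine ⟨fun x hx g => ?_⟩
  rw [key] at hx ⊢
  rwa [show orderOf (g * x * g⁻¹) = orderOf x from (MulAut.conj g).orderOf_eq x]

end Cfsg.Agent.S4260
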