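import Cfsg.Statements.S4261
import Cfsg.Agent.Lib.StructC.MaxIndex
import Cfsg.Agent.Lib.Transfer.Basic

set_option autoImplicit false
open Cfsg
open scoped Pointwise

namespace Cfsg.Agent.S4261

/-- Let M be a maximal subgroup of a finite solvable group G such that x^[G : M] lies in M for every x in G. Then M is normal in G. -/
theorem result {G : Type*} [Group G] [Finite G] (hG : Group.IsSolvable G) (M : Subgroup G) (hM : IsCoatom M)
    (hexp : ∀ x : G, x ^ M.index ∈ M) : M.Normal := by
  obtain ⟨p, k, hp, hk⟩ := CfsgLib.StructC.exists_prime_index_pow hM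
  have : Fact p.Prime := ⟨hp⟩
  have hle : Cfsg.pResidual p G ≤ M := by
    refine (Subgroup.closure_le _).mpr fun x hx => ?_
    have hco : (orderOf x).Coprime M.index := by rw [hk]; exact hx.pow_right k
    obtain ⟨u, hu⟩ := exists_pow_eq_self_of_coprime hco.symm
    rw [SetLike.mem_coe, ← hu]
    exact M.pow_mem (hexp x) u
  have hn := CfsgLib.Transfer.pResidual_normal (p := p) (G := G)
  set π := QuotientGroup.mk' (Cfsg.pResidual p G)
  have hP : IsPGroup p (G ⧸ Cfsg.pResidual p G) :=
    (CfsgLib.Transfer.pResidual_le_iff (N := Cfsg.pResidual p G)).mp le_rfl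
  have := hP.isNilpotent
  have hker : π.ker ≤ M := by rw [QuotientGroup.ker_mk']; exact hle
  have hMe : (M.map π).comap π = M := Subgroup.comap_map_eq_self hker
  rw [← hMe]
  have hco : IsCoatom (M.map π) := by
    refine ⟨fun h => hM.1 (by rw [← hMe, h, Subgroup.comap_top]), fun L hL => ?_⟩
    have hlt : M < L.comap π := by
      rw [← hMe]; exact (Subgroup.comap_lt_comap_of_surjective (QuotientGroup.mk'_surjective _)).mpr hL
    rw [← Subgroup.map_comap_eq_self_of_surjective (f := π) (QuotientGroup.mk'_surjective _) L,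
      hM.2 _ hlt, Subgroup.map_top_of_surjective _ (QuotientGroup.mk'_surjective _)]
  have := Subgroup.NormalizerCondition.normal_of_coatom _ (Group.normalizerCondition_of_isNilpotent (G := G ⧸ Cfsg.pResidual p G)) hco
  infer_instance

end Cfsg.Agent.S4261
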