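import Cfsg.Statements.S4262
import Cfsg.Agent.Lib.Complement.Thompson
import Cfsg.Agent.Lib.Transfer.Frobenius
import Cfsg.Agent.Lib.OddLocal.Stab
import Cfsg.Agent.Lib.OddLocal.FittingHall
import Cfsg.Agent.Lib.StructC.SylowFibre
import Cfsg.Agent.Lib.StructB.Misc
import Cfsg.Agent.Lib.PLocal.Thompson

set_option autoImplicit false
open Cfsg
open scoped Pointwise
set_option linter.style.haveILetI false

namespace Cfsg.Agent.S4262

variable {G : Type*} [Group G] [Finite G]

theorem mem_of_pow_coprime {M : Subgroup G} {g : G} {n : ℕ} (h : g ^ n ∈ M) (hcop : (orderOf g).Coprime n) :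
    g ∈ M := by
  obtain ⟨j, hj⟩ := exists_pow_eq_self_of_coprime hcop.symm
  rw [← hj]
  exact pow_mem h j

theorem centralizer_le_of_pow (x : G) (n : ℕ) :
    Subgroup.centralizer ({x} : Set G) ≤ Subgroup.centralizer ({x ^ n} : Set G) := fun y hy =>
  Subgroup.mem_centralizer_singleton_iff.2
    ((show Commute y x from Subgroup.mem_centralizer_singleton_iff.1 hy).pow_right n).eq

theorem centralizer_ne_top {g : G} (hg : g ∉ Subgroup.center G) :
    Subgroup.centralizer ({g} : Set G) ≠ ⊤ := fun e => hg (Subgroup.mem_center_iff.2 fun z =>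
  Subgroup.mem_centralizer_singleton_iff.1 (e ▸ Subgroup.mem_top z : z ∈ Subgroup.centralizer ({g} : Set G)))

theorem le_centralizer_pprime
    (h : ∀ g : G, g ∉ Subgroup.center G → IsCoatom (Subgroup.centralizer ({g} : Set G)))
    {p : ℕ} [hp : Fact p.Prime] {x y : G} (hx : x ∉ Subgroup.center G) (hxp : ∃ k, orderOf x = p ^ k)
    (hy : y ∈ Subgroup.centralizer ({x} : Set G)) (hyp : (orderOf y).Coprime p) :
    Subgroup.centralizer ({x} : Set G) ≤ Subgroup.centralizer ({y} : Set G) := by
  obtain ⟨k, hk⟩ := hxp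
  have hc : Commute x y := (show Commute y x from Subgroup.mem_centralizer_singleton_iff.1 hy).symm
  have hxy : (orderOf x).Coprime (orderOf y) := by rw [hk]; exact hyp.symm.pow_left k
  -- both factors are powers of the product
  obtain ⟨i, hi1, hi0⟩ := Nat.chineseRemainder hxy 1 0
  have e1 : (x * y) ^ i = x := by
    rw [hc.mul_pow, pow_eq_pow_iff_modEq.2 hi1, pow_eq_pow_iff_modEq.2 hi0, pow_one, pow_zero, mul_one]
  obtain ⟨j, hj0, hj1⟩ := Nat.chineseRemainder hxy 0 1
  have e2 : (x * y) ^ j = y := by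
    rw [hc.mul_pow, pow_eq_pow_iff_modEq.2 hj0, pow_eq_pow_iff_modEq.2 hj1, pow_one, pow_zero, one_mul]
  have hnc : x * y ∉ Subgroup.center G := fun hm => hx (e1 ▸ pow_mem hm i)
  have hle := centralizer_le_of_pow (x * y) i
  rw [e1] at hle
  have heq : Subgroup.centralizer ({x * y} : Set G) = Subgroup.centralizer ({x} : Set G) := by
    rcases eq_or_lt_of_le hle with e | e
    · exact e
    · exact absurd ((h _ hnc).lt_iff.1 e) (centralizer_ne_top hx)
  have := centralizer_le_of_pow (x * y) j
  rw [e2] at this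
  exact heq ▸ this

theorem isNilpotent_centralizer
    (h : ∀ g : G, g ∉ Subgroup.center G → IsCoatom (Subgroup.centralizer ({g} : Set G)))
    {p : ℕ} [hp : Fact p.Prime] {x : G} (hx : x ∉ Subgroup.center G) (hxp : ∃ k, orderOf x = p ^ k) :
    Group.IsNilpotent (Subgroup.centralizer ({x} : Set G)) := by
  set M := Subgroup.centralizer ({x} : Set G)
  refine Group.of_quotient_center_nilpotent ?_
  suffices IsPGroup p (M ⧸ Subgroup.center M) from this.isNilpotent
  intro q
  induction q using QuotientGroup.induction_on with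
  | _ u =>
    refine ⟨(orderOf u).factorization p, ?_⟩
    rw [← QuotientGroup.mk_pow, QuotientGroup.eq_one_iff, Subgroup.mem_center_iff]
    intro z
    apply Subtype.ext
    have hcop : (orderOf ((u : G) ^ p ^ (orderOf u).factorization p)).Coprime p := by
      rw [orderOf_pow_of_dvd (pow_ne_zero _ hp.out.ne_zero) (by rw [Subgroup.orderOf_coe]; exact Nat.ordProj_dvd _ _),
        Subgroup.orderOf_coe]
      exact (Nat.coprime_ordCompl hp.out (orderOf_pos u).ne').symm
    exact Subgroup.mem_centralizer_singleton_iff.1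
      (le_centralizer_pprime h hx hxp (M.pow_mem u.2 _) hcop z.2)

/-- The Sylow data attached to a noncentral `p`-element. -/
theorem exists_sylow_centralizer
    (h : ∀ g : G, g ∉ Subgroup.center G → IsCoatom (Subgroup.centralizer ({g} : Set G)))
    (hnn : ∀ g : G, g ∉ Subgroup.center G → ¬ (Subgroup.centralizer ({g} : Set G)).Normal)
    {p : ℕ} [hp : Fact p.Prime] {x : G} (hx : x ∉ Subgroup.center G) (hxp : ∃ k, orderOf x = p ^ k) :
    ∃ P : Sylow p G, (P : Subgroup G) ≤ Subgroup.centralizer ({x} : Set G) ∧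
      Subgroup.normalizer ((P : Subgroup G) : Set G) = Subgroup.centralizer ({x} : Set G) := by
  classical
  set M := Subgroup.centralizer ({x} : Set G) with hM
  haveI hMnil := isNilpotent_centralizer h hx hxp
  obtain ⟨S⟩ : Nonempty (Sylow p M) := inferInstance
  haveI hSn : (S : Subgroup M).Normal :=
    inferInstance
  set Q := (S : Subgroup M).map M.subtype with hQ
  have hQp : IsPGroup p Q := S.isPGroup'.map _
  have hQmem : ∀ u ∈ M, (∃ k, orderOf u = p ^ k) → u ∈ Q := by
    rintro u hu ⟨k, hk⟩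
    refine ⟨⟨u, hu⟩, ?_, rfl⟩
    have h1 : IsPGroup p (Subgroup.zpowers (⟨u, hu⟩ : M)) := IsPGroup.of_card (n := k) (by
      rw [Nat.card_zpowers, Subgroup.orderOf_mk, hk])
    exact (CfsgLib.StructC.le_sylow_of_le_normalizer h1 S (le_top.trans (Subgroup.normalizer_eq_top (H := (S : Subgroup M))).ge)) (Subgroup.mem_zpowers _)
  have hMN : M ≤ Subgroup.normalizer (Q : Set G) := by
    intro u hu
    rw [Subgroup.mem_normalizer_iff]
    intro z
    constructor
    · rintro ⟨w, hw, rfl⟩
      exact ⟨⟨u, hu⟩ * w * ⟨u, hu⟩⁻¹, hSn.conj_mem w hw _, rfl⟩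
    · rintro ⟨w, hw, e⟩
      refine ⟨⟨u, hu⟩⁻¹ * w * ⟨u, hu⟩, ?_, ?_⟩
      · have h' := hSn.conj_mem w hw (⟨u, hu⟩⁻¹)
        rw [inv_inv] at h'
        exact h'
      · simp only [map_mul, map_inv, Subgroup.coe_subtype] at e ⊢
        rw [e]; group
  have hNM : Subgroup.normalizer (Q : Set G) = M := by
    rcases eq_or_lt_of_le hMN with e | e
    · exact e.symm
    exfalso
    have hQn : Q.Normal := Subgroup.normalizer_eq_top_iff.1 ((h x hx).lt_iff.1 e)
    apply hnn x hx
    by_cases hab : ∀ u ∈ M, (orderOf u).Coprime p → u ∈ Subgroup.center G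
    · refine ⟨fun u hu g => ?_⟩
      have hcop : (p ^ (orderOf u).factorization p).Coprime (orderOf u / p ^ (orderOf u).factorization p) :=
        (Nat.coprime_ordCompl hp.out (orderOf_pos u).ne').pow_left _
      set a := p ^ (orderOf u).factorization p
      set b := orderOf u / p ^ (orderOf u).factorization p
      have hab' : a * b = orderOf u := Nat.ordProj_mul_ordCompl_eq_self _ _
      have hz : u ^ a ∈ Subgroup.center G := hab _ (M.pow_mem hu _) (by
        rw [orderOf_pow_of_dvd (pow_ne_zero _ hp.out.ne_zero) (Nat.ordProj_dvd _ _)]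
        exact (Nat.coprime_ordCompl hp.out (orderOf_pos u).ne').symm)
      have hq : u ^ b ∈ Q := by
        refine hQmem _ (M.pow_mem hu _) ⟨(orderOf u).factorization p, ?_⟩
        rw [orderOf_pow_of_dvd (Nat.div_pos (Nat.ordProj_le _ (orderOf_pos u).ne') (pow_pos hp.out.pos _)).ne'
          (Nat.ordCompl_dvd _ _)]
        exact Nat.div_eq_of_eq_mul_left (Nat.div_pos (Nat.ordProj_le _ (orderOf_pos u).ne') (pow_pos hp.out.pos _)) hab'.symm
      obtain ⟨s, t, hst⟩ := Int.isCoprime_iff_gcd_eq_one.2 (by rw [Int.gcd_natCast_natCast]; exact hcop)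
      have hu' : u = (u ^ a) ^ s * (u ^ b) ^ t := by
        rw [← zpow_natCast u a, ← zpow_natCast u b, ← zpow_mul, ← zpow_mul, ← zpow_add,
          mul_comm (a : ℤ), mul_comm (b : ℤ), hst, zpow_one]
      rw [show g * u * g⁻¹ = (u ^ a) ^ s * (g * ((u ^ b) ^ t) * g⁻¹) by
        conv_lhs => rw [hu', ← mul_assoc g, Subgroup.mem_center_iff.1 (zpow_mem hz s) g]
        group]
      exact M.mul_mem (zpow_mem (M.pow_mem hu a) s) (Subgroup.map_subtype_le _ (hQn.conj_mem _ (zpow_mem hq t) g))
    · push Not at hab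
      obtain ⟨y, hyM, hyp, hyc⟩ := hab
      haveI := hQn
      obtain ⟨q, k, hq, hk, z, hzy, hzc⟩ : ∃ q k, q.Prime ∧ 1 ≤ k ∧ ∃ z ∈ Subgroup.zpowers y, orderOf z = q ^ k ∧ z ∉ Subgroup.center G := by
        by_contra hh
        push Not at hh
        exact hyc (CfsgLib.StructB.mem_of_forall_primePow _ y fun z hz q k hq hk ho _ => hh q k hq hk z hz ho)
      have hqp : q ≠ p := by
        rintro rfl
        have hd : q ∣ orderOf y := (dvd_pow_self q (by omega)).trans (hzc.1 ▸ orderOf_dvd_of_mem_zpowers hzy)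
        exact hq.coprime_iff_not_dvd.1 hyp.symm hd
      haveI : Fact q.Prime := ⟨hq⟩
      have hzM : z ∈ M := Subgroup.zpowers_le.2 hyM hzy
      have hzcop : (orderOf z).Coprime p := by rw [hzc.1]; exact ((Nat.coprime_primes hq hp.out).2 hqp).pow_left k
      have hMz : Subgroup.centralizer ({z} : Set G) = M := by
        have h1 := le_centralizer_pprime h hx hxp hzM hzcop
        rcases eq_or_lt_of_le h1 with e | e
        · exact e.symm
        · exact absurd ((h x hx).lt_iff.1 e) (centralizer_ne_top hzc.2)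
      have hC : M ≤ Subgroup.centralizer (Q : Set G) := by
        intro u hu
        rw [Subgroup.mem_centralizer_iff]
        rintro _ ⟨w, hw, rfl⟩
        obtain ⟨i, hi⟩ := IsPGroup.iff_orderOf.1 S.isPGroup' ⟨w, hw⟩
        rw [Subgroup.orderOf_mk] at hi
        have hwc : ((orderOf (w : G))).Coprime q := by
          rw [Subgroup.orderOf_coe, hi]; exact ((Nat.coprime_primes hp.out hq).2 (Ne.symm hqp)).pow_left i
        have h1 := le_centralizer_pprime (p := q) h hzc.2 ⟨k, hzc.1⟩ (y := (w : G)) (hMz.symm ▸ w.2) hwc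
        exact (Subgroup.mem_centralizer_singleton_iff.1 (h1 (hMz.symm ▸ hu))).symm
      have hxQ : x ∈ Q := hQmem x (Subgroup.mem_centralizer_singleton_iff.2 rfl) hxp
      have hle : Subgroup.centralizer (Q : Set G) ≤ M := fun u hu =>
        Subgroup.mem_centralizer_singleton_iff.2 (Subgroup.mem_centralizer_iff.1 hu x hxQ).symm
      have heq : Subgroup.centralizer (Q : Set G) = M := le_antisymm hle hC
      show M.Normal
      rw [← heq]
      infer_instance
  obtain ⟨P, hP⟩ := hQp.exists_le_sylow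
  have hQP : Q = (P : Subgroup G) := by
    rcases eq_or_lt_of_le hP with e | e
    · exact e
    obtain ⟨u, huP, huN, huQ⟩ := CfsgLib.Transfer.exists_mem_normalizer_not_mem P.isPGroup' e
    obtain ⟨i, hi⟩ := IsPGroup.iff_orderOf.1 P.isPGroup' ⟨u, huP⟩
    rw [Subgroup.orderOf_mk] at hi
    exact absurd (hQmem u (hNM ▸ huN) ⟨i, hi⟩) huQ
  refine ⟨P, hQP ▸ Subgroup.map_subtype_le _, ?_⟩
  rw [← hQP]
  exact hNM

theorem hasNormalPComplement_of_isNilpotent {p : ℕ} [Fact p.Prime] (h : Group.IsNilpotent G) :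
    Cfsg.HasNormalPComplement p G := by
  rw [CfsgLib.Transfer.hasNormalPComplement_iff_frobenius]
  intro D hD g _ hg
  rw [Subgroup.mem_centralizer_iff]
  intro d hd
  refine (CfsgLib.OddLocal.commute_of_coprime_of_isNilpotent h ?_).eq
  obtain ⟨i, hi⟩ := IsPGroup.iff_orderOf.1 hD ⟨d, hd⟩
  rw [Subgroup.orderOf_mk] at hi
  rw [hi]
  exact hg.symm.pow_left i

theorem hasNormalPComplement_odd
    (h : ∀ g : G, g ∉ Subgroup.center G → IsCoatom (Subgroup.centralizer ({g} : Set G)))
    (hnn : ∀ g : G, g ∉ Subgroup.center G → ¬ (Subgroup.centralizer ({g} : Set G)).Normal)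
    {p : ℕ} [hp : Fact p.Prime] (hp2 : p ≠ 2) : Cfsg.HasNormalPComplement p G := by
  classical
  by_cases hall : ∀ x : G, (∃ k, orderOf x = p ^ k) → x ∈ Subgroup.center G
  · rw [CfsgLib.Transfer.hasNormalPComplement_iff_frobenius]
    intro D hD g _ _
    rw [Subgroup.mem_centralizer_iff]
    intro d hd
    obtain ⟨i, hi⟩ := IsPGroup.iff_orderOf.1 hD ⟨d, hd⟩
    rw [Subgroup.orderOf_mk] at hi
    exact (Subgroup.mem_center_iff.1 (hall d ⟨i, hi⟩) g).symm
  push Not at hall
  obtain ⟨x, hxp, hx⟩ := hall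
  obtain ⟨P, hPM, hNP⟩ := exists_sylow_centralizer h hnn hx hxp
  have hMnil := isNilpotent_centralizer h hx hxp
  -- `O_p(G)` is central
  have hcore : ∀ R : Subgroup G, R.Normal → IsPGroup p R → R ≤ Subgroup.center G := by
    intro R hRn hR r hr
    by_contra hrc
    haveI := hRn
    obtain ⟨i, hi⟩ := IsPGroup.iff_orderOf.1 hR ⟨r, hr⟩
    rw [Subgroup.orderOf_mk] at hi
    have hRS : ∀ S : Sylow p G, R ≤ (S : Subgroup G) := fun S =>
      CfsgLib.StructC.le_sylow_of_sylow_le_normalizer hR S
        (by rw [Subgroup.normalizer_eq_top (H := R)]; exact le_top)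
    obtain ⟨Pr, hPr, hNr⟩ := exists_sylow_centralizer h hnn hrc ⟨i, hi⟩
    have hall : ∀ S : Sylow p G, (S : Subgroup G) ≤ Subgroup.centralizer ({r} : Set G) := by
      intro S u hu
      obtain ⟨j, hj⟩ := IsPGroup.iff_orderOf.1 S.isPGroup' ⟨u, hu⟩
      rw [Subgroup.orderOf_mk] at hj
      rw [Subgroup.mem_centralizer_singleton_iff]
      by_cases huc : u ∈ Subgroup.center G
      · exact (Subgroup.mem_center_iff.1 huc r).symm
      obtain ⟨Pu, hPu, -⟩ := exists_sylow_centralizer h hnn huc ⟨j, hj⟩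
      exact (Subgroup.mem_centralizer_singleton_iff.1 (hPu (hRS Pu hr))).symm
    have hone : ∀ S : Sylow p G, S = Pr := by
      intro S
      have h1 : (S : Subgroup G) ≤ Subgroup.normalizer ((Pr : Subgroup G) : Set G) := hNr ▸ hall S
      exact Sylow.ext (S.is_maximal' Pr.isPGroup' (CfsgLib.StructC.le_sylow_of_le_normalizer S.isPGroup' Pr h1)).symm
    haveI : Subsingleton (Sylow p G) := ⟨fun a b => (hone a).trans (hone b).symm⟩
    have hn : (Pr : Subgroup G).Normal := Pr.normal_of_subsingleton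
    rw [Subgroup.normalizer_eq_top_iff.2 hn] at hNr
    exact centralizer_ne_top hrc hNr.symm
  refine CfsgLib.Complement.hasNormalPComplement_of_thompson hp2 P ?_ ?_
  · set J := Cfsg.thompsonSubgroupOf p (P : Subgroup G) with hJ
    have hNJ : Subgroup.centralizer ({x} : Set G) ≤ Subgroup.normalizer (J : Set G) :=
      hNP ▸ CfsgLib.PLocal.normalizer_le_normalizer_thompsonOf _
    rcases eq_or_lt_of_le hNJ with e | e
    · exact hasNormalPComplement_of_isNilpotent (e ▸ hMnil)
    have htop := (h x hx).lt_iff.1 e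
    have hJc : J ≤ Subgroup.center G := hcore J (Subgroup.normalizer_eq_top_iff.1 htop)
      (P.isPGroup'.to_le (CfsgLib.PLocal.thompsonOf_le _))
    refine CfsgLib.Transfer.hasNormalPComplement_subgroup _ ?_
    rw [CfsgLib.Transfer.hasNormalPComplement_iff_frobenius]
    intro D hD g hg hgp
    have hfix : ∀ w : G, (∃ S : Sylow p G, w ∈ (S : Subgroup G)) → w ^ p = 1 → w ∈ Subgroup.center G := by
      rintro w ⟨S, hw⟩ hwp
      obtain ⟨c, hc⟩ := MulAction.exists_smul_eq G S P
      have hwP : c * w * c⁻¹ ∈ (P : Subgroup G) := by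
        rw [← hc, Sylow.coe_subgroup_smul, Subgroup.mem_pointwise_smul_iff_inv_smul_mem, ← map_inv,
          MulAut.smul_def, MulAut.conj_apply]
        simpa [mul_assoc] using hw
      obtain ⟨A, hA⟩ := CfsgLib.PLocal.exists_maxElemIn p (P : Subgroup G)
      have hAc : A ≤ Subgroup.center G := (CfsgLib.PLocal.le_thompsonOf hA).trans hJc
      have hmem : c * w * c⁻¹ ∈ A := CfsgLib.PLocal.mem_maxElemIn_of_centralizes hA hwP
        (by rw [conj_pow, hwp, mul_one, mul_inv_cancel])
        (Subgroup.mem_centralizer_iff.2 fun a ha => (Subgroup.mem_center_iff.1 (hAc ha) _).symm)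
      have := (inferInstance : (Subgroup.center G).Normal).conj_mem _ (hAc hmem) c⁻¹
      simpa [mul_assoc] using this
    refine CfsgLib.OddLocal.le_centralizer_of_fixes_order_p hp2 hD (Subgroup.zpowers_le.2 hg) ?_ ?_ (Subgroup.mem_zpowers g)
    · rwa [Nat.card_zpowers]
    · intro w hw hwp a _
      obtain ⟨S, hS⟩ := hD.exists_le_sylow
      rw [Subgroup.mem_center_iff.1 (hfix w ⟨S, hS hw⟩ hwp) a, mul_inv_cancel_right]
  · have hxP : x ∈ (P : Subgroup G) ⊓ Subgroup.centralizer ((P : Subgroup G) : Set G) := by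
      refine ⟨?_, Subgroup.mem_centralizer_iff.2 fun u hu => Subgroup.mem_centralizer_singleton_iff.1 (hPM hu)⟩
      obtain ⟨k, hk⟩ := hxp
      refine CfsgLib.StructC.le_sylow_of_le_normalizer (IsPGroup.of_card (n := k) (by rw [Nat.card_zpowers, hk])) P ?_ (Subgroup.mem_zpowers x)
      rw [hNP, Subgroup.zpowers_le]
      exact Subgroup.mem_centralizer_singleton_iff.2 rfl
    refine hasNormalPComplement_of_isNilpotent ?_
    have hle : Subgroup.centralizer (((P : Subgroup G) ⊓ Subgroup.centralizer ((P : Subgroup G) : Set G) : Subgroup G) : Set G) ≤ Subgroup.centralizer ({x} : Set G) :=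
      Subgroup.centralizer_le (Set.singleton_subset_iff.2 hxP)
    haveI := hMnil
    exact Group.nilpotent_of_mulEquiv (Subgroup.subgroupOfEquivOfLe hle)

/-- Let G be a finite group in which the centralizer of every non-central element is a maximal subgroup of G. Then G is solvable. -/
theorem result {G : Type*} [Group G] [Finite G]
    (h : ∀ g : G, g ∉ Subgroup.center G → IsCoatom (Subgroup.centralizer ({g} : Set G))) :
    Group.IsSolvable G := by
  classical
  by_cases hex : ∃ g : G, g ∉ Subgroup.center G ∧ (Subgroup.centralizer ({g} : Set G)).Normal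
  · obtain ⟨g, hg, hn⟩ := hex
    haveI := hn
    set M := Subgroup.centralizer ({g} : Set G) with hM
    obtain ⟨p, k, hp, hk, z, hz, hzo, hzc⟩ : ∃ p k, p.Prime ∧ 1 ≤ k ∧ ∃ z ∈ Subgroup.zpowers g, orderOf z = p ^ k ∧ z ∉ Subgroup.center G := by
      by_contra hh
      push Not at hh
      exact hg (CfsgLib.StructB.mem_of_forall_primePow _ g fun z hz q k hq hk ho _ => hh q k hq hk z hz ho)
    haveI : Fact p.Prime := ⟨hp⟩
    have hle : M ≤ Subgroup.centralizer ({z} : Set G) := fun u hu => by
      obtain ⟨i, rfl⟩ := Subgroup.mem_zpowers_iff.1 hz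
      exact Subgroup.mem_centralizer_singleton_iff.2
        ((show Commute u g from Subgroup.mem_centralizer_singleton_iff.1 hu).zpow_right i).eq
    haveI hnil : Group.IsNilpotent M :=
      haveI := isNilpotent_centralizer h hzc ⟨k, hzo⟩
      Group.nilpotent_of_mulEquiv (Subgroup.subgroupOfEquivOfLe hle)
    have hq : IsCyclic (G ⧸ M) := by
      rcases subsingleton_or_nontrivial (G ⧸ M) with hs | hs
      · infer_instance
      obtain ⟨u, hu⟩ := exists_ne (1 : G ⧸ M)
      obtain ⟨v, rfl⟩ := QuotientGroup.mk'_surjective M u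
      refine ⟨QuotientGroup.mk' M v, fun w => ?_⟩
      obtain ⟨w, rfl⟩ := QuotientGroup.mk'_surjective M w
      have htop : M ⊔ Subgroup.zpowers v = ⊤ := by
        refine (h g hg).lt_iff.1 (lt_of_le_of_ne le_sup_left fun e => hu ?_)
        refine (QuotientGroup.eq_one_iff v).2 ?_
        show v ∈ M
        have e' : M = M ⊔ Subgroup.zpowers v := e
        rw [e']
        exact Subgroup.mem_sup_right (Subgroup.mem_zpowers v)
      have hw : w ∈ ((M ⊔ Subgroup.zpowers v : Subgroup G) : Set G) := by rw [htop]; trivial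
      rw [Subgroup.normal_mul] at hw
      obtain ⟨m, hm, t, ht, rfl⟩ := Set.mem_mul.1 hw
      obtain ⟨i, rfl⟩ := Subgroup.mem_zpowers_iff.1 ht
      refine ⟨i, ?_⟩
      show (QuotientGroup.mk' M v) ^ i = _
      rw [map_mul, map_zpow, show QuotientGroup.mk' M m = 1 from (QuotientGroup.eq_one_iff m).2 hm, one_mul]
    letI := IsCyclic.commGroup (α := G ⧸ M)
    exact Group.isSolvable_of_ker_le_range (M.subtype) (QuotientGroup.mk' M) (by simp)
  push Not at hex
  have hodd : ∀ p ∈ (Nat.card G).primeFactors.erase 2, ∃ n, ∀ m, n ≤ m → derivedSeries G m ≤ Cfsg.pResidual p G := by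
    intro p hp
    have hpp := Nat.prime_of_mem_primeFactors (Finset.mem_of_mem_erase hp)
    haveI : Fact p.Prime := ⟨hpp⟩
    haveI := CfsgLib.Transfer.pResidual_normal (G := G) (p := p)
    haveI : Group.IsNilpotent (G ⧸ Cfsg.pResidual p G) :=
      (CfsgLib.Transfer.isPGroup_quotient_of_pResidual_le le_rfl).isNilpotent
    obtain ⟨n, hn⟩ := (inferInstance : Group.IsSolvable (G ⧸ Cfsg.pResidual p G)).solvable
    refine ⟨n, fun m hm => (derivedSeries_antitone G hm).trans ?_⟩
    have := map_derivedSeries_le_derivedSeries (QuotientGroup.mk' (Cfsg.pResidual p G)) n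
    rw [hn, le_bot_iff, Subgroup.map_eq_bot_iff, QuotientGroup.ker_mk'] at this
    exact this
  choose f hf using hodd
  set N := ((Nat.card G).primeFactors.erase 2).attach.sup fun p => f p.1 p.2
  haveI : Fact (Nat.Prime 2) := ⟨Nat.prime_two⟩
  have h2 : IsPGroup 2 (derivedSeries G N) := by
    rw [IsPGroup.iff_card]
    refine ⟨_, Nat.eq_prime_pow_of_unique_prime_dvd Nat.card_pos.ne' fun {q} hq hqd => ?_⟩
    by_contra hq2
    haveI : Fact q.Prime := ⟨hq⟩
    have hmem : q ∈ (Nat.card G).primeFactors.erase 2 := Finset.mem_erase.2 ⟨hq2,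
      Nat.mem_primeFactors.2 ⟨hq, hqd.trans (Subgroup.card_subgroup_dvd_card _), Nat.card_pos.ne'⟩⟩
    have hle : derivedSeries G N ≤ Cfsg.pResidual q G :=
      hf q hmem N (Finset.le_sup (f := fun p => f p.1 p.2) (Finset.mem_attach _ ⟨q, hmem⟩))
    have hc := CfsgLib.Transfer.hasNormalPComplement_iff_coprime_pResidual.1 (hasNormalPComplement_odd h hex (p := q) hq2)
    exact hq.coprime_iff_not_dvd.1 hc.symm (hqd.trans (Subgroup.card_dvd_of_le hle))
  haveI := h2.isNilpotent
  have hq : Group.IsSolvable (G ⧸ derivedSeries G N) :=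
    ⟨⟨N, by
      rw [← map_derivedSeries_eq (f := QuotientGroup.mk' (derivedSeries G N)) (QuotientGroup.mk'_surjective _) N,
        Subgroup.map_eq_bot_iff, QuotientGroup.ker_mk']⟩⟩
  exact (Group.isSolvable_iff_subgroup_quotient (derivedSeries G N)).2 ⟨inferInstance, hq⟩

end Cfsg.Agent.S4262
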