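import Cfsg.Statements.S4263
import Cfsg.Agent.Lib.Amalgam.PCore
-- import your own Cfsg.Agent.* helpers here

set_option autoImplicit false
open Cfsg

namespace Cfsg.Agent.S4263


theorem pow_index_mem_of_pgroup_elt {G : Type*} [Group G] [Finite G] {p : ℕ} (hp : p.Prime) (y : G)
    {j : ℕ} (hy : orderOf y = p ^ j) (H : Subgroup G) {N : Subgroup G} (hN : IsPGroup p N) [N.Normal]
    (hyN : y ∈ N) : y ^ H.index ∈ H := by
  have hne : (H.subgroupOf N).index ≠ 0 := Subgroup.index_ne_zero_of_finite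
  have : Fact p.Prime := ⟨hp⟩
  obtain ⟨k, hk⟩ := hN.index (H.subgroupOf N)
  obtain ⟨n, hn0, hnle, hn⟩ := Subgroup.exists_pow_mem_of_index_ne_zero hne ⟨y, hyN⟩
  have hn' : y ^ n ∈ H := by simpa [Subgroup.mem_subgroupOf] using hn
  obtain ⟨i, _, hi⟩ := (Nat.dvd_prime_pow hp).mp (hy ▸ Nat.gcd_dvd_left (orderOf y) n)
  have hgcd : y ^ Nat.gcd (orderOf y) n ∈ H := by
    rw [← zpow_natCast, Nat.gcd_eq_gcd_ab, zpow_add, zpow_mul, zpow_mul]
    simp only [zpow_natCast, pow_orderOf_eq_one, one_zpow, one_mul]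
    exact Subgroup.zpow_mem _ hn' _
  have hd : Nat.gcd (orderOf y) n ∣ (H.subgroupOf N).index := by
    rw [hy, hi, hk]
    refine Nat.pow_dvd_pow p ?_
    have h1 : p ^ i ≤ p ^ k := by
      rw [← hi, ← hy, ← hk]; exact le_trans (Nat.gcd_le_right _ hn0) hnle
    exact (Nat.pow_le_pow_iff_right hp.one_lt).mp h1
  have hd2 : (H.subgroupOf N).index ∣ H.index := by
    show H.relIndex N ∣ H.index
    obtain ⟨c, hc⟩ := Subgroup.relIndex_dvd_index_of_normal N H
    have e1 : (H ⊓ N).relIndex H * H.index = (H ⊓ N).index := Subgroup.relIndex_mul_index inf_le_left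
    have e2 : (H ⊓ N).relIndex N * N.index = (H ⊓ N).index := Subgroup.relIndex_mul_index inf_le_right
    rw [Subgroup.inf_relIndex_left] at e1
    rw [Subgroup.inf_relIndex_right] at e2
    refine ⟨c, ?_⟩
    have hz : 0 < N.relIndex H := Nat.pos_of_ne_zero (fun h0 => Subgroup.index_ne_zero_of_finite (H := N) (by rw [hc, h0, zero_mul]))
    apply Nat.eq_of_mul_eq_mul_left hz
    rw [e1, ← e2, hc]; ring
  obtain ⟨c, hc⟩ := dvd_trans hd hd2
  rw [hc, pow_mul]
  exact H.pow_mem hgcd c


theorem coprime_of_two_primes {G : Type*} [Group G] [Finite G] {p q : ℕ} (hp : p.Prime) (hq : q.Prime)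
    (hpq : p ≠ q) {A B : Subgroup G} (hA : IsPGroup p A) (hB : IsPGroup q B) [A.Normal] [B.Normal]
    (x y : G) (hx : x ∈ A) (hy : y ∈ B) : Commute x y := by
  have : Fact p.Prime := ⟨hp⟩
  have : Fact q.Prime := ⟨hq⟩
  exact Subgroup.commute_of_normal_of_disjoint _ _ inferInstance inferInstance
    (IsPGroup.disjoint_of_ne p q hpq _ _ hA hB) x y hx hy

theorem fitting_le_sup {G : Type*} [Group G] [Finite G] :
    Cfsg.fittingSubgroup G ≤ ⨆ p : (Nat.card G).primeFactors, Cfsg.pCore (p : ℕ) G := by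
  refine sSup_le ?_
  rintro N ⟨hN, hnil⟩
  have : Group.IsNilpotent N := hnil
  -- every Sylow subgroup of `N` is characteristic, hence normal in `G`
  intro x hx
  let S : Subgroup G := ⨆ p : (Nat.card G).primeFactors, Cfsg.pCore (p : ℕ) G
  have key : (⊤ : Subgroup N) ≤ S.subgroupOf N := by
    rw [top_le_iff, ← Subgroup.index_eq_one]
    by_contra hne
    obtain ⟨q, hq, hqd⟩ := Nat.exists_prime_and_dvd hne
    have : Fact q.Prime := ⟨hq⟩
    let P : Sylow q N := default
    have hPn : (P : Subgroup N).Normal := Sylow.normal_of_normalizerCondition Group.normalizerCondition_of_isNilpotent P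
    have : (P : Subgroup N).Characteristic := P.characteristic_of_normal hPn
    have hPq : IsPGroup q ((P : Subgroup N).map N.subtype) := P.isPGroup'.map _
    have hqG : q ∈ (Nat.card G).primeFactors :=
      Nat.mem_primeFactors.mpr ⟨hq, hqd.trans ((Subgroup.index_dvd_card _).trans
        (Subgroup.card_subgroup_dvd_card N)), Nat.card_pos.ne'⟩
    have hPS : (P : Subgroup N) ≤ S.subgroupOf N := by
      intro y hy
      exact le_iSup (fun p : (Nat.card G).primeFactors => Cfsg.pCore (p : ℕ) G) ⟨q, hqG⟩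
        (CfsgLib.Amalgam.le_pCore (ConjAct.normal_of_characteristic_of_normal) hPq
          (Subgroup.mem_map_of_mem _ hy))
    exact P.not_dvd_index (hqd.trans (Subgroup.index_dvd_of_le hPS))
  exact key (Subgroup.mem_top (⟨x, hx⟩ : N))

theorem pow_index_mem_of_mem_sup {G : Type*} [Group G] [Finite G] (x : G)
    (hx : x ∈ ⨆ p : (Nat.card G).primeFactors, Cfsg.pCore (p : ℕ) G) (H : Subgroup G) :
    x ^ H.index ∈ H := by
  classical
  have hcomm : Pairwise fun i j : (Nat.card G).primeFactors =>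
      ∀ a b : G, a ∈ Cfsg.pCore (i : ℕ) G → b ∈ Cfsg.pCore (j : ℕ) G → Commute a b := by
    intro i j hij a b ha hb
    have : Fact (i : ℕ).Prime := ⟨Nat.prime_of_mem_primeFactors i.2⟩
    have : Fact (j : ℕ).Prime := ⟨Nat.prime_of_mem_primeFactors j.2⟩
    have := CfsgLib.Amalgam.normal_pCore (p := (i : ℕ)) (G := G)
    have := CfsgLib.Amalgam.normal_pCore (p := (j : ℕ)) (G := G)
    exact coprime_of_two_primes (Fact.out) (Fact.out) (fun h => hij (Subtype.ext h))
      CfsgLib.Amalgam.isPGroup_pCore CfsgLib.Amalgam.isPGroup_pCore a b ha hb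
  rw [← Subgroup.noncommPiCoprod_range (hcomm := hcomm)] at hx
  obtain ⟨f, rfl⟩ := hx
  rw [← map_pow, Subgroup.noncommPiCoprod_apply]
  apply Subgroup.noncommProd_mem
  intro i _
  have : Fact (i : ℕ).Prime := ⟨Nat.prime_of_mem_primeFactors i.2⟩
  have := CfsgLib.Amalgam.normal_pCore (p := (i : ℕ)) (G := G)
  have hP : IsPGroup (i : ℕ) (Cfsg.pCore (i : ℕ) G) := CfsgLib.Amalgam.isPGroup_pCore
  obtain ⟨j, hj⟩ := (IsPGroup.iff_orderOf.mp hP) (f i)
  rw [← Subgroup.orderOf_coe] at hj
  simpa using pow_index_mem_of_pgroup_elt (Fact.out) (f i : G) hj H hP (f i).2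

theorem mem_fitting_of_pow_index_mem {G : Type*} [Group G] [Finite G] (x : G)
    (h : ∀ H : Subgroup G, x ^ H.index ∈ H) : x ∈ Cfsg.fittingSubgroup G := by
  suffices hn : ∀ n : ℕ, ∀ y : G, orderOf y = n → (∀ H : Subgroup G, y ^ H.index ∈ H) →
      y ∈ Cfsg.fittingSubgroup G from hn _ x rfl h
  intro n
  induction n using Nat.recOnPosPrimePosCoprime with
  | prime_pow p k hp hk =>
    intro y hy hH
    have : Fact p.Prime := ⟨hp⟩
    have hN := CfsgLib.Amalgam.normal_pCore (p := p) (G := G)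
    have hP : IsPGroup p (Cfsg.pCore p G) := CfsgLib.Amalgam.isPGroup_pCore
    have hmem : y ∈ (⨅ P : Sylow p G, (P : Subgroup G)) := by
      rw [Subgroup.mem_iInf]
      intro P
      have hco : Nat.Coprime (orderOf y) (P : Subgroup G).index := by
        rw [hy]; exact Nat.Coprime.pow_left k ((hp.coprime_iff_not_dvd).mpr P.not_dvd_index)
      obtain ⟨u, hu⟩ := exists_pow_eq_self_of_coprime hco.symm
      rw [← hu]
      exact Subgroup.pow_mem _ (hH P) u
    have hle : (⨅ P : Sylow p G, (P : Subgroup G)) ≤ Cfsg.pCore p G := by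
      refine CfsgLib.Amalgam.le_pCore ?_ ((default : Sylow p G).isPGroup'.to_le (iInf_le _ _))
      refine ⟨fun z hz g => Subgroup.mem_iInf.mpr fun P => ?_⟩
      have hP' := (Subgroup.mem_iInf.mp hz) (g⁻¹ • P)
      rw [Sylow.coe_subgroup_smul, Subgroup.mem_pointwise_smul_iff_inv_smul_mem] at hP'
      simpa [MulAut.smul_def, mul_assoc] using hP'
    exact (le_sSup ⟨hN, hP.isNilpotent⟩ : Cfsg.pCore p G ≤ Cfsg.fittingSubgroup G) (hle hmem)
  | zero => intro y hy _; exact absurd hy (orderOf_pos y).ne'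
  | one => intro y hy _; rw [orderOf_eq_one_iff.mp hy]; exact one_mem _
  | coprime a b ha hb hab iha ihb =>
    intro y hy hH
    have hpow : ∀ c : ℕ, ∀ H : Subgroup G, (y ^ c) ^ H.index ∈ H := by
      intro c H; rw [← pow_mul, mul_comm, pow_mul]; exact H.pow_mem (hH H) c
    have h1 : y ^ b ∈ Cfsg.fittingSubgroup G := iha _ (by
      rw [orderOf_pow' _ (by omega), hy, Nat.gcd_mul_left_left, Nat.mul_div_cancel _ (by omega)]) (hpow b)
    have h2 : y ^ a ∈ Cfsg.fittingSubgroup G := ihb _ (by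
      rw [orderOf_pow' _ (by omega), hy, Nat.gcd_mul_right_left, Nat.mul_div_cancel_left _ (by omega)]) (hpow a)
    have hb' : y = (y ^ (a : ℤ)) ^ Nat.gcdA a b * (y ^ (b : ℤ)) ^ Nat.gcdB a b := by
      rw [← zpow_mul, ← zpow_mul, ← zpow_add, ← Nat.gcd_eq_gcd_ab, hab.gcd_eq_one, Nat.cast_one, zpow_one]
    rw [hb', zpow_natCast, zpow_natCast]
    exact mul_mem (zpow_mem h2 _) (zpow_mem h1 _)

/-- Let G be a finite group. An element x lies in the Fitting subgroup F(G) if and only if, for every subgroup H of G, the power x^[G : H] lies in H. -/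
theorem result {G : Type*} [Group G] [Finite G] (x : G) :
    x ∈ Cfsg.fittingSubgroup G ↔ ∀ H : Subgroup G, x ^ H.index ∈ H := by
  classical
  constructor
  · intro hx H
    exact pow_index_mem_of_mem_sup x (fitting_le_sup hx) H
  · exact mem_fitting_of_pow_index_mem x

end Cfsg.Agent.S4263
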