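import Cfsg.Statements.S4269
import Mathlib

set_option autoImplicit false
open Cfsg
open scoped Pointwise
set_option linter.style.haveILetI false

namespace Cfsg.Agent.S4269

open scoped commutatorElement

/-- Let G be a finite group, V an abelian normal subgroup and H a subgroup with HV = G. Then H is pronormal in G (H and gHg⁻¹ are conjugate inside the subgroup they generate, for every g) if and only if every H-invariant subgroup U of V satisfies U = N_U(H)·[H, U], that is, U is the join of U ∩ N_G(H) and the commutator subgroup [H, U]. -/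
theorem result {G : Type*} [Group G] [Finite G]
    (V : Subgroup G) [V.Normal] (hV : IsMulCommutative ↥V) (H : Subgroup G) (hHV : H ⊔ V = ⊤) :
    Cfsg.IsPronormal H ↔
      ∀ U : Subgroup G, U ≤ V → (∀ h ∈ H, U.map (MulAut.conj h).toMonoidHom = U) →
        U = (U ⊓ Subgroup.normalizer (H : Set G)) ⊔ ⁅H, U⁆ := by
  have hcomm : ∀ a ∈ V, ∀ b ∈ V, a * b = b * a := fun a ha b hb =>
    congrArg Subtype.val (hV.is_comm.comm (⟨a, ha⟩ : V) ⟨b, hb⟩)
  have hVn : V.Normal := inferInstance
  have hmem : ∀ {U : Subgroup G} (c x : G), x ∈ U.map (MulAut.conj c).toMonoidHom ↔ c⁻¹ * x * c ∈ U := by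
    intro U c x
    rw [Subgroup.mem_map_equiv, MulAut.conj_symm_apply]
  have hfix : ∀ h ∈ H, H.map (MulAut.conj h).toMonoidHom = H := by
    intro h hh
    ext x
    rw [hmem]
    constructor
    · intro hx
      have := H.mul_mem (H.mul_mem hh hx) (H.inv_mem hh)
      simpa [mul_assoc] using this
    · intro hx
      exact H.mul_mem (H.mul_mem (H.inv_mem hh) hx) hh
  have hcomp : ∀ (a b : G), H.map (MulAut.conj (a * b)).toMonoidHom =
      (H.map (MulAut.conj b).toMonoidHom).map (MulAut.conj a).toMonoidHom := by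
    intro a b
    ext x
    rw [hmem, hmem, hmem]
    rw [show (a * b)⁻¹ * x * (a * b) = b⁻¹ * (a⁻¹ * x * a) * b by group]
  constructor
  · intro hpro U hUV hUinv
    refine le_antisymm (fun u hu => ?_) (sup_le inf_le_left (Subgroup.commutator_le.2 fun h hh u hu => ?_))
    swap
    · rw [commutatorElement_def]
      have h1 : h * u * h⁻¹ ∈ U := by
        rw [← hUinv h hh, hmem]
        simpa [mul_assoc] using hu
      exact U.mul_mem h1 (U.inv_mem hu)
    set W := ⁅H, U⁆ with hW
    have hWU : W ≤ U := Subgroup.commutator_le.2 fun h hh u hu => by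
      rw [commutatorElement_def]
      have h1 : h * u * h⁻¹ ∈ U := by
        rw [← hUinv h hh, hmem]
        simpa [mul_assoc] using hu
      exact U.mul_mem h1 (U.inv_mem hu)
    have hHW : H ≤ Subgroup.normalizer (W : Set G) := Subgroup.normalizer_commutator_ge_left H U
    obtain ⟨x, hx, hxe⟩ := hpro u
    have hle : H ⊔ H.map (MulAut.conj u).toMonoidHom ≤ W ⊔ H := by
      refine sup_le le_sup_right fun y hy => ?_
      rw [hmem] at hy
      have h1 : ⁅(u⁻¹ * y * u)⁻¹, u⁆ ∈ W := Subgroup.commutator_mem_commutator (H.inv_mem hy) hu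
      have := Subgroup.mul_mem _ (Subgroup.mem_sup_right (S := W) hy) (Subgroup.mem_sup_left (T := H) h1)
      rw [commutatorElement_def] at this
      simpa [mul_assoc] using this
    have hxs : x ∈ ((W ⊔ H : Subgroup G) : Set G) := hle hx
    rw [Subgroup.coe_mul_of_right_le_normalizer_left _ _ hHW] at hxs
    obtain ⟨w, hw, h, hh, rfl⟩ := Set.mem_mul.1 hxs
    rw [hcomp, hfix h hh] at hxe
    have hn : w⁻¹ * u ∈ Subgroup.normalizer (H : Set G) := by
      rw [Subgroup.mem_normalizer_iff]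
      intro z
      have e : H.map (MulAut.conj (w⁻¹ * u)).toMonoidHom = H := by
        rw [hcomp, hxe, ← hcomp, inv_mul_cancel]
        simpa using hfix 1 H.one_mem
      constructor
      · intro hz
        rw [← e, hmem]
        simpa [mul_assoc] using hz
      · intro hz
        rw [← e, hmem] at hz
        simpa [mul_assoc] using hz
    have huu : u = (w⁻¹ * u) * w := by
      rw [mul_assoc, hcomm u (hUV hu) w (hUV (hWU hw)), inv_mul_cancel_left]
    rw [huu]
    exact Subgroup.mul_mem_sup ⟨U.mul_mem (U.inv_mem (hWU hw)) hu, hn⟩ hw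
  · intro hU g
    have hg : g ∈ ((H ⊔ V : Subgroup G) : Set G) := by rw [hHV]; trivial
    rw [Subgroup.mul_normal] at hg
    obtain ⟨h, hh, v₀, hv₀, rfl⟩ := Set.mem_mul.1 hg
    set v := h * v₀ * h⁻¹ with hv'
    have hv : v ∈ V := hVn.conj_mem v₀ hv₀ h
    have heq : H.map (MulAut.conj (h * v₀)).toMonoidHom = H.map (MulAut.conj v).toMonoidHom := by
      rw [show h * v₀ = v * h by rw [hv']; group, hcomp, hfix h hh]
    rw [heq]
    set J := H ⊔ H.map (MulAut.conj v).toMonoidHom with hJ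
    let U₀ : Subgroup G :=
      { carrier := {u | u ∈ V ∧ ∀ k ∈ H, k * u * k⁻¹ * u⁻¹ ∈ J}
        one_mem' := ⟨V.one_mem, fun k _ => by simp⟩
        mul_mem' := fun {a b} ha hb => ⟨V.mul_mem ha.1 hb.1, fun k hk => by
          have e := hcomm a⁻¹ (V.inv_mem ha.1) (k * b * k⁻¹ * b⁻¹)
            (V.mul_mem (hVn.conj_mem b hb.1 k) (V.inv_mem hb.1))
          have hab := hcomm a ha.1 b hb.1
          rw [show k * (a * b) * k⁻¹ * (a * b)⁻¹ = (k * a * k⁻¹) * ((k * b * k⁻¹ * b⁻¹) * a⁻¹) by group,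
            ← e, ← mul_assoc]
          exact J.mul_mem (ha.2 k hk) (hb.2 k hk)⟩
        inv_mem' := fun {a} ha => ⟨V.inv_mem ha.1, fun k hk => by
          have e := hcomm a⁻¹ (V.inv_mem ha.1) (k * a * k⁻¹) (hVn.conj_mem a ha.1 k)
          have := J.inv_mem (ha.2 k hk)
          rw [show (k * a * k⁻¹ * a⁻¹)⁻¹ = a * (k * a⁻¹ * k⁻¹) by group,
            hcomm a ha.1 (k * a⁻¹ * k⁻¹) (hVn.conj_mem _ (V.inv_mem ha.1) k)] at this
          simpa using this⟩ }
    have hinv : ∀ k ∈ H, ∀ u ∈ U₀, k * u * k⁻¹ ∈ U₀ := by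
      intro k hk u hu
      refine ⟨hVn.conj_mem u hu.1 k, fun l hl => ?_⟩
      rw [show l * (k * u * k⁻¹) * l⁻¹ * (k * u * k⁻¹)⁻¹ =
        ((l * k) * u * (l * k)⁻¹ * u⁻¹) * (k * u * k⁻¹ * u⁻¹)⁻¹ by group]
      exact J.mul_mem (hu.2 _ (H.mul_mem hl hk)) (J.inv_mem (hu.2 k hk))
    have hv0 : v ∈ U₀ := by
      refine ⟨hv, fun k hk => ?_⟩
      rw [show k * v * k⁻¹ * v⁻¹ = k * (v * k⁻¹ * v⁻¹) by group]
      refine J.mul_mem (Subgroup.mem_sup_left hk) (Subgroup.mem_sup_right ?_)
      rw [hmem]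
      simpa [mul_assoc] using H.inv_mem hk
    have hmapU : ∀ k ∈ H, U₀.map (MulAut.conj k).toMonoidHom = U₀ := by
      intro k hk
      ext y
      rw [hmem]
      refine ⟨fun hy => ?_, fun hy => by simpa using hinv k⁻¹ (H.inv_mem hk) y hy⟩
      have := hinv k hk _ hy
      simpa [mul_assoc] using this
    have hdec := hU U₀ (fun u hu => hu.1) hmapU
    have hWJ : ⁅H, U₀⁆ ≤ J := Subgroup.commutator_le.2 fun k hk u hu => by
      rw [commutatorElement_def]; exact hu.2 k hk
    have hWU : ⁅H, U₀⁆ ≤ U₀ := le_sup_right.trans hdec.ge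
    rw [hdec] at hv0
    have hs : v ∈ ((⁅H, U₀⁆ ⊔ (U₀ ⊓ Subgroup.normalizer (H : Set G)) : Subgroup G) : Set G) := by
      rw [sup_comm]; exact hv0
    rw [Subgroup.coe_mul_of_right_le_normalizer_left _ _ ?_] at hs
    · obtain ⟨w, hw, n, hn, hwn⟩ := Set.mem_mul.1 hs
      refine ⟨w, hWJ hw, ?_⟩
      rw [← hwn, hcomp]
      congr 1
      ext y
      rw [hmem]
      exact (Subgroup.mem_normalizer_iff''.1 hn.2 y).symm
    · refine le_trans ?_ (Subgroup.centralizer_le_normalizer _)
      intro y hy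
      rw [Subgroup.mem_centralizer_iff]
      exact fun z hz => hcomm z (hWU hz).1 y hy.1.1

end Cfsg.Agent.S4269
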