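import Cfsg.Statements.S4274
import Cfsg.Agent.Lib.ClassK.RowSieve
import Cfsg.Agent.Lib.Block.BrauerTuanTheorem
import Cfsg.Agent.S0205

set_option autoImplicit false
open Cfsg

namespace Cfsg.Agent.S4274

universe u

/-- An automorphism of order 19 of a set with fewer than 19 elements is trivial. -/
theorem fixes_of_small {X : Type u} [Finite X] (f : Equiv.Perm X) (hf : f ^ 19 = 1) (hX : Nat.card X < 19) :
    f = 1 := by
  classical
  haveI := Fintype.ofFinite X
  have h : orderOf f ∣ 19 := orderOf_dvd_of_pow_eq_one hf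
  rcases (Nat.dvd_prime (by norm_num)).1 h with h1 | h1
  · exact orderOf_eq_one_iff.1 h1
  · exfalso
    have h2 : 19 ∣ Nat.card (Equiv.Perm X) := h1 ▸ orderOf_dvd_natCard f
    rw [Nat.card_perm] at h2
    have h3 := (Nat.Prime.dvd_factorial (by norm_num)).1 h2
    omega

/-- A Sylow 19-subgroup centralizes a normal 19'-subgroup. -/
theorem centralizes {G : Type u} [Group G] [Finite G] [Fact (Nat.Prime 19)] (N : Subgroup G) [N.Normal]
    (h19N : ¬ 19 ∣ Nat.card N) (hd : Nat.card G ∣ 175560) (P : Sylow 19 G) :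
    N ≤ Subgroup.centralizer ((P : Subgroup G) : Set G) := by
  classical
  by_cases h19 : 19 ∣ Nat.card G
  swap
  · intro y _
    refine Subgroup.mem_centralizer_iff.2 fun x hx => ?_
    have : (P : Subgroup G) = ⊥ := by
      obtain ⟨k, hk⟩ := IsPGroup.iff_card.1 P.isPGroup'
      rcases k with - | k
      · exact Subgroup.card_eq_one.1 (by simpa using hk)
      · exact absurd ((dvd_pow_self 19 k.succ_ne_zero).trans (hk ▸ Subgroup.card_subgroup_dvd_card _)) h19
    rw [SetLike.mem_coe, this, Subgroup.mem_bot] at hx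
    rw [hx, one_mul, mul_one]
  obtain ⟨C, hC⟩ : ∃ C, C = N ⊓ Subgroup.centralizer ((P : Subgroup G) : Set G) := ⟨_, rfl⟩
  have hP19 : Nat.card P = 19 := CfsgLib.Transfer.card_sylow_eq_prime P h19
    (fun h => by have := h.trans hd; norm_num at this)
  suffices Nat.card N ∣ Nat.card C by
    have e : C = N := Subgroup.eq_of_le_of_card_ge (hC ▸ inf_le_left) (Nat.le_of_dvd Nat.card_pos this)
    exact e ▸ hC ▸ inf_le_right
  rw [Nat.dvd_iff_prime_pow_dvd_dvd]
  intro r k hr hk
  haveI : Fact r.Prime := ⟨hr⟩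
  obtain ⟨R⟩ := (inferInstance : Nonempty (Sylow r N))
  obtain ⟨M, hM⟩ : ∃ M, M = Subgroup.normalizer (((R : Subgroup N).map N.subtype : Subgroup G) : Set G) :=
    ⟨_, rfl⟩
  have hMtop : M ⊔ N = ⊤ := hM ▸ Sylow.normalizer_sup_eq_top R
  have hM19 : 19 ∣ Nat.card M := by
    have h1 : M.index ∣ Nat.card N := by
      have h2 := Subgroup.relIndex_sup_right (H := M) (K := N)
      rw [hMtop, Subgroup.relIndex_top_right] at h2
      have h3 := M.card_mul_index
      have h4 := Subgroup.card_eq_card_quotient_mul_card_subgroup N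
      have h5 : N.index ∣ Nat.card M := h2 ▸ Subgroup.relIndex_dvd_card N M
      obtain ⟨c, hc⟩ := h5
      refine ⟨c, Nat.eq_of_mul_eq_mul_left (Nat.pos_of_ne_zero N.index_ne_zero_of_finite) ?_⟩
      calc N.index * Nat.card N = Nat.card M * M.index := by rw [h3, h4]; rfl
        _ = N.index * (M.index * c) := by rw [hc]; ring
    rcases (Nat.Prime.dvd_mul (by norm_num : Nat.Prime 19)).1 (M.card_mul_index.symm ▸ h19) with h | h
    · exact h
    · exact absurd (h.trans h1) h19N
  obtain ⟨x, hx⟩ := exists_prime_orderOf_dvd_card' (G := M) 19 hM19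
  obtain ⟨T, hT⟩ := (IsPGroup.of_card (p := 19) (n := 1) (G := Subgroup.zpowers (x : G))
    (by rw [Nat.card_zpowers, Subgroup.orderOf_coe, hx, pow_one])).exists_le_sylow
  obtain ⟨g, hg⟩ := MulAction.exists_smul_eq G P T
  obtain ⟨R', hR'⟩ : ∃ R', R' = (((R : Subgroup N).map N.subtype).map (MulAut.conj g⁻¹).toMonoidHom) := ⟨_, rfl⟩
  have hR'N : R' ≤ N := by
    rw [hR']
    rintro _ ⟨_, ⟨a, _, rfl⟩, rfl⟩
    exact ‹N.Normal›.conj_mem _ a.2 g⁻¹
  have hR'card : Nat.card R' = r ^ (Nat.card N).factorization r := by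
    rw [hR', Subgroup.card_map_of_injective (MulAut.conj g⁻¹).injective,
      Subgroup.card_map_of_injective N.subtype_injective, R.card_eq_multiplicity]
  have hsmall : Nat.card R' < 19 := by
    rw [hR'card]
    obtain ⟨a, ha⟩ : ∃ a, a = (Nat.card N).factorization r := ⟨_, rfl⟩
    have h1 : r ^ a ∣ 175560 := ((ha ▸ Nat.ordProj_dvd _ r).trans (Subgroup.card_subgroup_dvd_card N)).trans hd
    rw [← ha]
    rcases Nat.eq_zero_or_pos a with h0 | h0
    · simp [h0]
    have hne : r ≠ 19 := fun e => h19N (e ▸ ((dvd_pow_self r h0.ne').trans (ha ▸ Nat.ordProj_dvd _ r)))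
    have h2 : r ∣ 2 ^ 3 * 3 * 5 * 7 * 11 * 19 := (dvd_pow_self r h0.ne').trans (h1.trans (by norm_num))
    simp only [hr.dvd_mul] at h2
    have h3 : r = 2 ∨ r = 3 ∨ r = 5 ∨ r = 7 ∨ r = 11 ∨ r = 19 := by
      rcases h2 with ((((h | h) | h) | h) | h) | h
      · exact Or.inl ((Nat.prime_dvd_prime_iff_eq hr (by norm_num)).1 (hr.dvd_of_dvd_pow h))
      all_goals
        have := (Nat.prime_dvd_prime_iff_eq hr (by norm_num)).1 h
        omega
    by_contra hlt
    push Not at hlt
    rcases h3 with rfl | rfl | rfl | rfl | rfl | rfl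
    all_goals first
      | exact hne rfl
      | (rcases Nat.lt_or_ge a 4 with h4 | h4
         · interval_cases a <;> revert hlt h1 <;> norm_num
         · exact absurd ((pow_dvd_pow _ h4).trans h1) (by norm_num))
  -- `P` fixes every element of `R'`
  have hnorm : (P : Subgroup G) ≤ Subgroup.normalizer (R' : Set G) := by
    intro y hy
    have hgy : g * y * g⁻¹ ∈ M := by
      have h1 : g * y * g⁻¹ ∈ (T : Subgroup G) := by
        rw [← hg, Sylow.coe_subgroup_smul]; exact ⟨y, hy, rfl⟩
      have hTe : Subgroup.zpowers (x : G) = (T : Subgroup G) := Subgroup.eq_of_le_of_card_ge hT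
        (by rw [Nat.card_zpowers, Subgroup.orderOf_coe, hx, CfsgLib.Transfer.card_sylow_eq_prime T h19
          (fun h => by have := h.trans hd; norm_num at this)])
      exact Subgroup.zpowers_le.2 x.2 (hTe ▸ h1)
    rw [hM] at hgy
    rw [Subgroup.mem_normalizer_iff] at hgy ⊢
    intro b
    have e : ∀ z, z ∈ R' ↔ g * z * g⁻¹ ∈ (R : Subgroup N).map N.subtype := by
      intro z
      rw [hR']
      constructor
      · rintro ⟨w, ⟨c, hc', rfl⟩, rfl⟩
        exact ⟨c, hc', by simp [mul_assoc]⟩
      · intro h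
        exact ⟨_, h, by simp [mul_assoc]⟩
    rw [e, e, hgy (g * b * g⁻¹), show g * (y * b * y⁻¹) * g⁻¹ = g * y * g⁻¹ * (g * b * g⁻¹) * (g * y * g⁻¹)⁻¹ by group]
  have hR'C : R' ≤ C := by
    rw [hC]
    refine le_inf hR'N fun b hb => Subgroup.mem_centralizer_iff.2 fun y hy => ?_
    let f : Equiv.Perm R' :=
      { toFun := fun z => ⟨y * z * y⁻¹, (Subgroup.mem_normalizer_iff.1 (hnorm hy) z).1 z.2⟩
        invFun := fun z => ⟨y⁻¹ * z * y, (Subgroup.mem_normalizer_iff.1 (hnorm hy) _).2 (by simp [mul_assoc])⟩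
        left_inv := fun z => Subtype.ext (by simp [mul_assoc])
        right_inv := fun z => Subtype.ext (by simp [mul_assoc]) }
    have hpow : ∀ (m : ℕ) (z : R'), (((f ^ m) z : R') : G) = y ^ m * z * (y ^ m)⁻¹ := by
      intro m
      induction m with
      | zero => intro z; simp
      | succ m ihm =>
        intro z
        rw [pow_succ', Equiv.Perm.mul_apply]
        show y * ((f ^ m) z : R') * y⁻¹ = _
        rw [ihm, pow_succ']
        group
    have hy19 : y ^ 19 = 1 := by
      have := pow_card_eq_one' (G := (P : Subgroup G)) (x := ⟨y, hy⟩)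
      rw [hP19] at this
      exact congrArg Subtype.val this
    have hf : f = 1 := fixes_of_small f (Equiv.ext fun z => Subtype.ext (by rw [hpow, hy19]; simp)) hsmall
    have h1 : y * b * y⁻¹ = b := congrArg Subtype.val (Equiv.congr_fun hf ⟨b, hb⟩)
    exact mul_inv_eq_iff_eq_mul.1 h1
  have h1 : r ^ k ∣ Nat.card R' := by
    rw [hR'card]
    exact pow_dvd_pow r ((hr.pow_dvd_iff_le_factorization Nat.card_pos.ne').1 hk)
  exact h1.trans (Subgroup.card_dvd_of_le hR'C)

set_option maxRecDepth 20000 in
/-- The sieve kills every possible order. -/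
theorem sieve : ∀ f ∈ (Nat.divisors 2310).erase 2310,
    CfsgLib.ClassK.RowSieve.rowPossible (76 * f)
      (if f = 105 then 5 else if f = 770 then 11 else 19) 420
      (fun _ _ => true) (fun _ => true) (fun _ => true) = false := by
  decide +kernel

/-- Below order 175560 a Sylow 19-subgroup is normal, unless the group is simple. -/
theorem normal_or_simple : ∀ (n : ℕ) (G : Type u) [Group G] [Finite G], Nat.card G = n → n ∣ 175560 →
    (IsSimpleGroup G ∧ n = 175560) ∨ ∀ P : Sylow 19 G, (P : Subgroup G).Normal := by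
  intro n
  induction n using Nat.strong_induction_on with
  | _ n ih =>
  intro G _ _ hn hd
  haveI : Fact (Nat.Prime 19) := ⟨by norm_num⟩
  refine or_iff_not_imp_right.2 fun hP => ?_
  push Not at hP
  obtain ⟨P, hP⟩ := hP
  have h19 : 19 ∣ Nat.card G := by
    by_contra h
    refine hP ?_
    have : (P : Subgroup G) = ⊥ := by
      obtain ⟨k, hk⟩ := IsPGroup.iff_card.1 P.isPGroup'
      rcases k with - | k
      · exact Subgroup.card_eq_one.1 (by simpa using hk)
      · exact absurd ((dvd_pow_self 19 k.succ_ne_zero).trans (hk ▸ Subgroup.card_subgroup_dvd_card _)) h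
    rw [this]
    infer_instance
  by_cases hN : ∃ N : Subgroup G, N.Normal ∧ N ≠ ⊥ ∧ N ≠ ⊤
  · exfalso
    obtain ⟨N, hNn, hNb, hNt⟩ := hN
    haveI := hNn
    have hcard := Subgroup.card_eq_card_quotient_mul_card_subgroup N
    have h1 : 1 < Nat.card N := (Subgroup.one_lt_card_iff_ne_bot N).2 hNb
    -- a proper subgroup containing `P` normalizes it
    have hsub : ∀ K : Subgroup G, (P : Subgroup G) ≤ K → K ≠ ⊤ → K.Normal → False := by
      intro K hPK hKt hKn
      haveI := hKn
      have hlt : Nat.card K < n := hn ▸ lt_of_le_of_ne (Subgroup.card_le_card_group K)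
        (fun e => hKt (Subgroup.eq_top_of_card_eq K e))
      rcases ih _ hlt K rfl ((hn ▸ Subgroup.card_subgroup_dvd_card K).trans hd) with ⟨_, e⟩ | h
      · have := Nat.le_of_dvd (by norm_num) hd
        omega
      · refine hP ?_
        haveI := h (P.subtype hPK)
        haveI : ((P.subtype hPK : Sylow 19 K) : Subgroup K).Characteristic :=
          Sylow.characteristic_of_normal _ (h (P.subtype hPK))
        have e : ((P.subtype hPK : Sylow 19 K) : Subgroup K).map K.subtype = (P : Subgroup G) := by
          rw [Sylow.coe_subtype, Subgroup.map_subgroupOf_eq_of_le hPK]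
        rw [← e]
        infer_instance
    by_cases h19N : 19 ∣ Nat.card N
    · have hP19 : Nat.card P = 19 := CfsgLib.Transfer.card_sylow_eq_prime P h19
        (fun h => by have := (h.trans (hn.symm ▸ hd)); norm_num at this)
      refine hsub N ?_ hNt hNn
      obtain ⟨Q⟩ := (inferInstance : Nonempty (Sylow 19 N))
      obtain ⟨x, hx⟩ := exists_prime_orderOf_dvd_card' (G := N) 19 h19N
      intro y hy
      have hQ : IsPGroup 19 (Subgroup.zpowers (x : G)) := IsPGroup.of_card (n := 1)
        (by rw [Nat.card_zpowers, Subgroup.orderOf_coe, hx, pow_one])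
      obtain ⟨T, hT⟩ := hQ.exists_le_sylow
      obtain ⟨g, hg⟩ := MulAction.exists_smul_eq G P T
      have hgy : g * y * g⁻¹ ∈ (T : Subgroup G) := by
        rw [← hg, Sylow.coe_subgroup_smul]
        exact ⟨y, hy, rfl⟩
      have hTe : Subgroup.zpowers (x : G) = (T : Subgroup G) := Subgroup.eq_of_le_of_card_ge hT
        (by rw [Nat.card_zpowers, Subgroup.orderOf_coe, hx, CfsgLib.Transfer.card_sylow_eq_prime T h19
          (fun h => by have := (h.trans (hn.symm ▸ hd)); norm_num at this)])
      rw [← hTe] at hgy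
      have := hNn.conj_mem _ (Subgroup.zpowers_le.2 x.2 hgy) g⁻¹
      simpa [mul_assoc] using this
    · -- the preimage of the Sylow subgroup of the quotient
      have hquot : Nat.card (G ⧸ N) < n := by
        rw [← hn, hcard]
        exact lt_mul_of_one_lt_right Nat.card_pos h1
      have hqd : Nat.card (G ⧸ N) ∣ 175560 := ((Dvd.intro _ hcard.symm).trans (hn ▸ hd))
      rcases ih _ hquot (G ⧸ N) rfl hqd with ⟨_, e⟩ | h
      · have := Nat.le_of_dvd (by norm_num) hd
        omega
      have hKn : ((P : Subgroup G) ⊔ N).Normal := by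
        haveI := h (P.mapSurjective (QuotientGroup.mk'_surjective N))
        have e : (P : Subgroup G) ⊔ N = ((P.mapSurjective (QuotientGroup.mk'_surjective N) :
            Subgroup (G ⧸ N))).comap (QuotientGroup.mk' N) := by
          rw [Sylow.coe_mapSurjective, Subgroup.comap_map_eq, QuotientGroup.ker_mk']
        rw [e]
        infer_instance
      by_cases hKt : (P : Subgroup G) ⊔ N = ⊤
      · -- `P` centralizes every Sylow subgroup of `N`
        refine hP ?_
        have hcop : (Nat.card P).Coprime (Nat.card N) := by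
          obtain ⟨k, hk⟩ := IsPGroup.iff_card.1 P.isPGroup'
          rw [hk]
          exact Nat.Coprime.pow_left k ((Nat.Prime.coprime_iff_not_dvd (by norm_num)).2 h19N)
        have hcent : N ≤ Subgroup.centralizer ((P : Subgroup G) : Set G) :=
          centralizes N h19N (hn ▸ hd) P
        rw [← Subgroup.normalizer_eq_top_iff, eq_top_iff, ← hKt]
        exact sup_le Subgroup.le_normalizer (hcent.trans (Subgroup.centralizer_le_normalizer _))
      · exact hsub _ le_sup_left hKt hKn
  · push Not at hN
    haveI : Nontrivial G := by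
      refine (Finite.one_lt_card_iff_nontrivial).1 ?_
      have := Nat.le_of_dvd Nat.card_pos h19
      omega
    haveI hs : IsSimpleGroup G := ⟨fun H hH => or_iff_not_imp_left.2 fun hb => hN H hH hb⟩
    refine ⟨hs, by_contra fun hne => ?_⟩
    by_cases hc : IsMulCommutative G
    · exact hP ⟨fun a ha g => by
        have := hc.is_comm.comm g a
        rw [this]; simpa using ha⟩
    have h2 : 2 ∣ Nat.card G := by
      by_contra h
      haveI : Group.IsSolvable G := Cfsg.Agent.S0205.result (G := G)
        (Nat.not_even_iff_odd.1 (fun he => h he.two_dvd))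
      exact hc (IsSimpleGroup.comm_iff_isSolvable.2 inferInstance |> fun h => ⟨⟨h⟩⟩)
    have h4 : 4 ∣ Nat.card G := CfsgLib.Block.BrauerTuan.four_dvd_of_two_dvd
      (fun h => hc (by haveI := h; exact IsCyclic.commutative)) h2
    obtain ⟨f, hf⟩ : 76 ∣ Nat.card G := (Nat.Coprime.mul_dvd_of_dvd_of_dvd (by norm_num : Nat.Coprime 4 19) h4 h19)
    have hf2 : f ∈ (Nat.divisors 2310).erase 2310 := by
      rw [Finset.mem_erase, Nat.mem_divisors]
      refine ⟨fun e => hne (by rw [← hn, hf, e]), ?_, by norm_num⟩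
      exact Nat.dvd_of_mul_dvd_mul_left (by norm_num : 0 < 76) (hf ▸ hn ▸ hd)
    have hdf : 76 * f ∣ 175560 := hf ▸ hn ▸ hd
    have hlt : 76 * f < 420 * 420 := lt_of_le_of_lt (Nat.le_of_dvd (by norm_num) hdf) (by norm_num)
    have hs := sieve f hf2
    split_ifs at hs with e1 e2
    · subst e1
      haveI : Fact (Nat.Prime 5) := ⟨by norm_num⟩
      exact CfsgLib.ClassK.RowSieve.false_of_rowPossible hc hf hlt (by norm_num) (by norm_num) hs
    · subst e2
      haveI : Fact (Nat.Prime 11) := ⟨by norm_num⟩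
      exact CfsgLib.ClassK.RowSieve.false_of_rowPossible hc hf hlt (by norm_num) (by norm_num) hs
    · exact CfsgLib.ClassK.RowSieve.false_of_rowPossible hc hf hlt (Dvd.dvd.mul_right (by norm_num) f)
        (fun h => by have := h.trans hdf; norm_num at this) hs

/-- A finite group of order 175560 = 2³·3·5·7·11·19 is either simple or has a normal Sylow 19-subgroup. -/
theorem result {G : Type*} [Group G] [Finite G] (hG : Nat.card G = 175560) : IsSimpleGroup G ∨ ∀ P : Sylow 19 G, (P : Subgroup G).Normal := by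
  rcases normal_or_simple _ G rfl hG.dvd with h | h
  · exact Or.inl h.1
  · exact Or.inr h

end Cfsg.Agent.S4274
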