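import Cfsg.Statements.S4275

set_option autoImplicit false
open Cfsg
open scoped Pointwise
set_option linter.style.haveILetI false

namespace Cfsg.Agent.S4275

/-- Let G be a transitive group of permutations of a finite set Ω, let o ∈ Ω, and let α be an automorphism of G. Then α is induced by conjugation by a permutation of Ω normalizing G if and only if the image under α of the stabilizer of o fixes some point of Ω. -/
theorem result {Ω : Type*} [Fintype Ω] (G : Subgroup (Equiv.Perm Ω)) (htr : MulAction.IsPretransitive G Ω) (o : Ω) (α : G ≃* G) : (∃ σ : Equiv.Perm Ω, σ ∈ Subgroup.normalizer (G : Set (Equiv.Perm Ω)) ∧ ∀ g : G, ((α g : G) : Equiv.Perm Ω) = σ * (g : Equiv.Perm Ω) * σ⁻¹) ↔ ∃ ω : Ω, ∀ g ∈ (MulAction.stabilizer G o).map α.toMonoidHom, g • ω = ω := by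
  constructor
  · rintro ⟨σ, -, hσ⟩
    refine ⟨σ o, ?_⟩
    rintro _ ⟨g, hg, rfl⟩
    show ((α g : G) : Equiv.Perm Ω) (σ o) = σ o
    rw [hσ g]
    have h : (g : Equiv.Perm Ω) o = o := hg
    simp [h]
  · rintro ⟨ω, hω⟩
    haveI : Finite G := inferInstance
    have hfix : ∀ g ∈ MulAction.stabilizer G o, α g • ω = ω := fun g hg =>
      hω _ ⟨g, hg, rfl⟩
    -- the image of the point stabilizer is the stabilizer of `ω`
    have heq : (MulAction.stabilizer G o).map α.toMonoidHom = MulAction.stabilizer G ω := by
      refine Subgroup.eq_of_le_of_card_ge (fun g hg => hω g hg) (le_of_eq ?_)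
      rw [Subgroup.card_map_of_injective (f := α.toMonoidHom) α.injective]
      have h1 := (MulAction.stabilizer G o).card_mul_index
      have h2 := (MulAction.stabilizer G ω).card_mul_index
      rw [MulAction.index_stabilizer_of_transitive] at h1 h2
      have hpos : 0 < Nat.card Ω := by
        haveI : Nonempty Ω := ⟨o⟩
        exact Nat.card_pos
      exact Nat.eq_of_mul_eq_mul_right hpos (h2.trans h1.symm)
    choose t ht using fun x => MulAction.exists_smul_eq G o x
    have hwd : ∀ g : G, α g • ω = α (t (g • o)) • ω := by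
      intro g
      have h : (t (g • o))⁻¹ * g ∈ MulAction.stabilizer G o := by
        rw [MulAction.mem_stabilizer_iff, mul_smul, inv_smul_eq_iff, ht]
      have := hfix _ h
      rw [map_mul, map_inv, mul_smul, inv_smul_eq_iff] at this
      exact this
    let f : Ω → Ω := fun x => α (t x) • ω
    have hinj : Function.Injective f := by
      intro x y h
      have h' : α ((t y)⁻¹ * t x) ∈ MulAction.stabilizer G ω := by
        rw [MulAction.mem_stabilizer_iff, map_mul, map_inv, mul_smul, inv_smul_eq_iff]
        exact h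
      rw [← heq] at h'
      obtain ⟨s, hs, hse⟩ := h'
      have hs' : ((t y)⁻¹ * t x) • o = o := by
        rw [← α.injective hse]; exact hs
      rw [mul_smul, inv_smul_eq_iff, ht, ht] at hs'
      exact hs'
    let σ : Equiv.Perm Ω := Equiv.ofBijective f ⟨hinj, (Finite.injective_iff_surjective.1 hinj)⟩
    have key : ∀ g : G, ((α g : G) : Equiv.Perm Ω) = σ * (g : Equiv.Perm Ω) * σ⁻¹ := by
      intro g
      rw [eq_mul_inv_iff_mul_eq]
      ext x
      show α g • (α (t x) • ω) = α (t (g • x)) • ω
      rw [← mul_smul, ← map_mul, hwd (g * t x), mul_smul, ht]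
    refine ⟨σ, ?_, key⟩
    rw [Subgroup.mem_normalizer_iff]
    intro g
    constructor
    · intro hg
      exact key ⟨g, hg⟩ ▸ (α ⟨g, hg⟩).2
    · intro hg
      have h := key (α.symm ⟨_, hg⟩)
      rw [MulEquiv.apply_symm_apply] at h
      have h' : g = ((α.symm ⟨_, hg⟩ : G) : Equiv.Perm Ω) :=
        mul_left_cancel (mul_right_cancel h)
      rw [h']; exact (α.symm ⟨_, hg⟩).2

end Cfsg.Agent.S4275
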