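import Cfsg.Statements.S4280
import Cfsg.Agent.Lib.Chev.F4InvolStab

set_option autoImplicit false
open Cfsg

namespace Cfsg.Agent.S4280

open CfsgLib.Chev in
/-- In the Chevalley group of type F₄ over a finite field of odd order q there are exactly two conjugacy classes of involutions; the centralizer of an involution in one class has order q¹⁶(q² − 1)(q⁴ − 1)(q⁶ − 1)(q⁸ − 1), and in the other class q¹⁰(q² − 1)²(q⁴ − 1)(q⁶ − 1). -/
theorem result {F : Type*} [Field F] [Fintype F] (hF : Odd (Fintype.card F)) : ∃ s t : ↥(Cfsg.Lie.chevF4.group F), orderOf s = 2 ∧ orderOf t = 2 ∧ ¬ IsConj s t ∧ (∀ u : ↥(Cfsg.Lie.chevF4.group F), orderOf u = 2 → IsConj u s ∨ IsConj u t) ∧ Nat.card (Subgroup.centralizer ({s} : Set ↥(Cfsg.Lie.chevF4.group F))) = Fintype.card F ^ 16 * (Fintype.card F ^ 2 - 1) * (Fintype.card F ^ 4 - 1) * (Fintype.card F ^ 6 - 1) * (Fintype.card F ^ 8 - 1) ∧ Nat.card (Subgroup.centralizer ({t}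 : Set ↥(Cfsg.Lie.chevF4.group F))) = Fintype.card F ^ 10 * (Fintype.card F ^ 2 - 1) ^ 2 * (Fintype.card F ^ 4 - 1) * (Fintype.card F ^ 6 - 1) := by
  have h33 : 33 < Cfsg.Lie.chevF4.nroots := by decide
  have h24 : 24 < Cfsg.Lie.chevF4.nroots := by decide
  let s : ↥(Cfsg.Lie.chevF4.group F) :=
    ⟨goodF4.hG 33 (-1 : Fˣ), goodF4.diagonal_le_group (goodF4.hG_mem h33 _)⟩
  let t : ↥(Cfsg.Lie.chevF4.group F) :=
    ⟨goodF4.hG 24 (-1 : Fˣ), goodF4.diagonal_le_group (goodF4.hG_mem h24 _)⟩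
  have hs := F4Invol.card_centralizer_S hF s rfl
  have ht := F4Invol.card_centralizer_T hF t rfl
  obtain ⟨q, hq⟩ : ∃ q, q = Fintype.card F := ⟨_, rfl⟩
  have hq2 : 2 ≤ q := hq ▸ Fintype.one_lt_card
  have hlt : Nat.card (Subgroup.centralizer ({t} : Set ↥(Cfsg.Lie.chevF4.group F))) <
      Nat.card (Subgroup.centralizer ({s} : Set ↥(Cfsg.Lie.chevF4.group F))) := by
    rw [hs, ht, ← hq]
    have h2 : 0 < q ^ 2 - 1 := Nat.sub_pos_of_lt (Nat.one_lt_pow (by norm_num) hq2)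
    have h4 : 0 < q ^ 4 - 1 := Nat.sub_pos_of_lt (Nat.one_lt_pow (by norm_num) hq2)
    have h6 : 0 < q ^ 6 - 1 := Nat.sub_pos_of_lt (Nat.one_lt_pow (by norm_num) hq2)
    have h8 : q ^ 2 - 1 ≤ q ^ 8 - 1 := Nat.sub_le_sub_right (Nat.pow_le_pow_right (by omega) (by norm_num)) 1
    have hp : q ^ 10 < q ^ 16 := Nat.pow_lt_pow_right hq2 (by norm_num)
    calc q ^ 10 * (q ^ 2 - 1) ^ 2 * (q ^ 4 - 1) * (q ^ 6 - 1)
        = q ^ 10 * ((q ^ 2 - 1) * (q ^ 4 - 1) * (q ^ 6 - 1) * (q ^ 2 - 1)) := by ring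
      _ < q ^ 16 * ((q ^ 2 - 1) * (q ^ 4 - 1) * (q ^ 6 - 1) * (q ^ 2 - 1)) :=
          Nat.mul_lt_mul_of_pos_right hp (by positivity)
      _ ≤ q ^ 16 * ((q ^ 2 - 1) * (q ^ 4 - 1) * (q ^ 6 - 1) * (q ^ 8 - 1)) := by gcongr
      _ = _ := by ring
  have hne1 : ∀ z : ↥(Cfsg.Lie.chevF4.group F),
      Nat.card (Subgroup.centralizer ({z} : Set ↥(Cfsg.Lie.chevF4.group F))) <
        Nat.card ↥(Cfsg.Lie.chevF4.group F) → z ≠ 1 := by
    rintro z hz rfl
    have e : Subgroup.centralizer ({1} : Set ↥(Cfsg.Lie.chevF4.group F)) = ⊤ :=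
      eq_top_iff.2 fun x _ => Subgroup.mem_centralizer_singleton_iff.2 (by simp)
    rw [e, Subgroup.card_top] at hz
    exact lt_irrefl _ hz
  have hord : ∀ (r : ℕ) (z : ↥(Cfsg.Lie.chevF4.group F)), (z : GL Cfsg.Lie.chevF4.Idx F) = goodF4.hG r (-1 : Fˣ) →
      z ≠ 1 → orderOf z = 2 := fun r z hz hz1 => by
    refine orderOf_eq_prime (Subtype.ext ?_) hz1
    show (z : GL Cfsg.Lie.chevF4.Idx F) ^ 2 = 1
    rw [hz, ← map_pow]
    simp
  have ht1 : t ≠ 1 := hne1 t (lt_of_lt_of_le hlt (Subgroup.card_le_card_group _))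
  have hs1 : s ≠ 1 := fun h => by
    have hle := Subgroup.card_le_card_group (Subgroup.centralizer ({s} : Set ↥(Cfsg.Lie.chevF4.group F)))
    have htop : Nat.card (Subgroup.centralizer ({s} : Set ↥(Cfsg.Lie.chevF4.group F))) =
        Nat.card ↥(Cfsg.Lie.chevF4.group F) := by
      rw [show Subgroup.centralizer ({s} : Set ↥(Cfsg.Lie.chevF4.group F)) = ⊤ from
        eq_top_iff.2 fun x _ => Subgroup.mem_centralizer_singleton_iff.2 (by rw [h, one_mul, mul_one]),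
        Subgroup.card_top]
    have hg := card_groupF4 F
    rw [one_mul, ← htop, hs, ← hq] at hg
    have h12 : q ^ 4 - 1 < q ^ 12 - 1 :=
      Nat.sub_lt_sub_right (Nat.one_le_pow _ _ (by omega)) (Nat.pow_lt_pow_right hq2 (by norm_num))
    have h2 : 0 < q ^ 2 - 1 := Nat.sub_pos_of_lt (Nat.one_lt_pow (by norm_num) hq2)
    have h6 : 0 < q ^ 6 - 1 := Nat.sub_pos_of_lt (Nat.one_lt_pow (by norm_num) hq2)
    have h8 : 0 < q ^ 8 - 1 := Nat.sub_pos_of_lt (Nat.one_lt_pow (by norm_num) hq2)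
    have hp : q ^ 16 ≤ q ^ 24 := Nat.pow_le_pow_right (by omega) (by norm_num)
    have : q ^ 16 * (q ^ 2 - 1) * (q ^ 4 - 1) * (q ^ 6 - 1) * (q ^ 8 - 1) <
        q ^ 24 * (q ^ 2 - 1) * (q ^ 6 - 1) * (q ^ 8 - 1) * (q ^ 12 - 1) :=
      calc q ^ 16 * (q ^ 2 - 1) * (q ^ 4 - 1) * (q ^ 6 - 1) * (q ^ 8 - 1)
          = q ^ 16 * (q ^ 2 - 1) * (q ^ 6 - 1) * (q ^ 8 - 1) * (q ^ 4 - 1) := by ring
        _ ≤ q ^ 24 * (q ^ 2 - 1) * (q ^ 6 - 1) * (q ^ 8 - 1) * (q ^ 4 - 1) := by gcongr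
        _ < _ := Nat.mul_lt_mul_of_pos_left h12 (by positivity)
    omega
  refine ⟨s, t, hord 33 s rfl hs1, hord 24 t rfl ht1, fun h => ?_, fun u hu => ?_, hs, ht⟩
  · obtain ⟨c, hc⟩ := isConj_iff.1 h
    refine hlt.ne' ?_
    have e : Subgroup.centralizer ({t} : Set ↥(Cfsg.Lie.chevF4.group F)) =
        (Subgroup.centralizer ({s} : Set ↥(Cfsg.Lie.chevF4.group F))).map (MulAut.conj c).toMonoidHom := by
      ext x
      rw [Subgroup.mem_map_equiv, Subgroup.mem_centralizer_singleton_iff, Subgroup.mem_centralizer_singleton_iff,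
        MulAut.conj_symm_apply, ← hc]
      constructor
      · intro hx
        calc c⁻¹ * x * c * s = c⁻¹ * (x * (c * s * c⁻¹)) * c := by group
          _ = c⁻¹ * ((c * s * c⁻¹) * x) * c := by rw [hx]
          _ = s * (c⁻¹ * x * c) := by group
      · intro hx
        calc x * (c * s * c⁻¹) = c * (c⁻¹ * x * c * s) * c⁻¹ := by group
          _ = c * (s * (c⁻¹ * x * c)) * c⁻¹ := by rw [hx]
          _ = c * s * c⁻¹ * x := by group
    rw [e]
    exact Nat.card_congr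
      ((Subgroup.centralizer ({s} : Set ↥(Cfsg.Lie.chevF4.group F))).equivMapOfInjective _
        (MulAut.conj c).injective).toEquiv
  · have hu2 : (u : GL Cfsg.Lie.chevF4.Idx F) * u = 1 := by
      have h := pow_orderOf_eq_one u
      rw [hu, sq] at h
      exact congrArg Subtype.val h
    have hu1 : (u : GL Cfsg.Lie.chevF4.Idx F) ≠ 1 := fun h => by
      rw [show u = 1 from Subtype.ext h, orderOf_one] at hu
      exact absurd hu (by norm_num)
    rcases F4Invol.invol_class hF u.2 hu2 hu1 with ⟨z, hz, he⟩ | ⟨z, hz, he⟩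
    · exact Or.inl (isConj_iff.2 ⟨⟨z, hz⟩, Subtype.ext he⟩)
    · exact Or.inr (isConj_iff.2 ⟨⟨z, hz⟩, Subtype.ext he⟩)

end Cfsg.Agent.S4280
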