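import Cfsg.Statements.S4281
import Cfsg.Agent.Lib.Chev.E8InvolStab

set_option autoImplicit false
open scoped BigOperators
open Cfsg

namespace Cfsg.Agent.S4281

open CfsgLib.Chev in
/-- In the Chevalley group of type E₈ over a finite field of odd order q there are exactly two conjugacy classes of involutions; the centralizer of an involution in one class has order q⁵⁶(q⁸ − 1)·∏_{i=1}^{7}(q^{2i} − 1), and in the other class q⁶⁴(q² − 1)²(q⁶ − 1)(q⁸ − 1)(q¹⁰ − 1)(q¹² − 1)(q¹⁴ − 1)(q¹⁸ − 1). -/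
theorem result {F : Type*} [Field F] [Fintype F] (hF : Odd (Fintype.card F)) : ∃ s t : ↥(Cfsg.Lie.chevE8.group F), orderOf s = 2 ∧ orderOf t = 2 ∧ ¬ IsConj s t ∧ (∀ u : ↥(Cfsg.Lie.chevE8.group F), orderOf u = 2 → IsConj u s ∨ IsConj u t) ∧ Nat.card (Subgroup.centralizer ({s} : Set ↥(Cfsg.Lie.chevE8.group F))) = Fintype.card F ^ 56 * (Fintype.card F ^ 8 - 1) * ∏ i ∈ Finset.Icc 1 7, (Fintype.card F ^ (2 * i) - 1) ∧ Nat.card (Subgroup.centralizer ({t} : Set ↥(Cfsg.Lie.chevE8.group F))) = Fintype.card F ^ 64 * (Fintype.card F ^ 2 - 1) ^ 2 * (Fintype.card F ^ 6 - 1) * (Fintype.card F ^ 8 - 1) * (Fintype.card F ^ 10 - 1) * (Fintype.card F ^ 12 - 1) * (Fintype.card F ^ 14 - 1) * (Fintype.card F ^ 18 - 1) := by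
  let s : ↥(Cfsg.Lie.chevE8.group F) :=
    ⟨E8Invol.stabDataS.tau, goodE8.diagonal_le_group (InvolTorusList.tauOf_mem goodE8 _)⟩
  let t : ↥(Cfsg.Lie.chevE8.group F) :=
    ⟨E8Invol.stabDataT.tau, goodE8.diagonal_le_group (InvolTorusList.tauOf_mem goodE8 _)⟩
  have hs := E8Invol.card_centralizer_S hF s rfl
  have ht := E8Invol.card_centralizer_T hF t rfl
  have h2 := E8Invol.two_ne (F := F) hF
  have hone : ∀ d : E8Invol.StabData, (E8Invol.clsOf d.roots [] ≠ List.replicate 8 false) →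
      E8Invol.StabOK d → (d.tau : GL Cfsg.Lie.chevE8.Idx F) ≠ 1 := by
    intro d hne hd h
    apply hne
    have h1 : InvolTorusList.tauOf (F := F) goodE8 d.rs = InvolTorusList.tauOf goodE8 [] := h
    rw [InvolTorusList.tauOf_eq_iff goodE8 h2 E8Invol.injTor] at h1
    refine List.ext_getElem (by simp [E8Invol.clsOf]) fun j hj hj' => ?_
    simp only [List.getElem_replicate, E8Invol.clsOf, List.getElem_map, List.getElem_range, decide_eq_false_iff_not]
    have hj8 : j < 8 := by simpa using hj'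
    have h3 := h1 ⟨j, hj8⟩
    rw [E8Invol.coSum_eq hd] at h3
    simp only [InvolTorusList.coSum, List.map_nil, List.sum_nil, Int.zero_emod] at h3
    have happ : ∀ a, E8Invol.app [] a = a := fun _ => rfl
    simp only [happ]
    omega
  have hord : ∀ z : ↥(Cfsg.Lie.chevE8.group F), (z : GL Cfsg.Lie.chevE8.Idx F) * z = 1 →
      (z : GL Cfsg.Lie.chevE8.Idx F) ≠ 1 → orderOf z = 2 := fun z hz hz1 => by
    refine orderOf_eq_prime (Subtype.ext ?_) fun h => hz1 (congrArg Subtype.val h)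
    show (z : GL Cfsg.Lie.chevE8.Idx F) ^ 2 = 1
    rw [sq, hz]
  refine ⟨s, t, hord s (InvolTorusList.tauOf_sq goodE8 _) (hone _ (by decide +kernel) E8Invol.stabOK_S),
    hord t (InvolTorusList.tauOf_sq goodE8 _) (hone _ (by decide +kernel) E8Invol.stabOK_T), fun h => ?_,
    fun u hu => ?_, hs, ht⟩
  · obtain ⟨c, hc⟩ := isConj_iff.1 h
    have e : Subgroup.centralizer ({t} : Set ↥(Cfsg.Lie.chevE8.group F)) =
        (Subgroup.centralizer ({s} : Set ↥(Cfsg.Lie.chevE8.group F))).map (MulAut.conj c).toMonoidHom := by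
      ext x
      rw [Subgroup.mem_map_equiv, Subgroup.mem_centralizer_singleton_iff, Subgroup.mem_centralizer_singleton_iff,
        MulAut.conj_symm_apply, ← hc]
      constructor
      · intro hx
        calc c⁻¹ * x * c * s = c⁻¹ * (x * (c * s * c⁻¹)) * c := by group
          _ = c⁻¹ * ((c * s * c⁻¹) * x) * c := by rw [hx]
          _ = s * (c⁻¹ * x * c) := by group
      · intro hx
        calc x * (c * s * c⁻¹) = c * (c⁻¹ * x * c * s) * c⁻¹ := by group
          _ = c * (s * (c⁻¹ * x * c)) * c⁻¹ := by rw [hx]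
          _ = c * s * c⁻¹ * x := by group
    have hcard : Nat.card (Subgroup.centralizer ({s} : Set ↥(Cfsg.Lie.chevE8.group F))) =
        Nat.card (Subgroup.centralizer ({t} : Set ↥(Cfsg.Lie.chevE8.group F))) := by
      rw [e]
      exact Nat.card_congr
        ((Subgroup.centralizer ({s} : Set ↥(Cfsg.Lie.chevE8.group F))).equivMapOfInjective _
          (MulAut.conj c).injective).toEquiv
    rw [hs, ht] at hcard
    have hq : 2 ≤ Fintype.card F := Fintype.one_lt_card
    -- the first order is prime to `q` after dividing by `q ^ 56`, the second is a multiple of `q ^ 64`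
    have hpos : ∀ k, 1 ≤ k → 0 < Fintype.card F ^ k - 1 := fun k hk =>
      Nat.sub_pos_of_lt (Nat.one_lt_pow (by omega) hq)
    have hcop : ∀ k, 1 ≤ k → Nat.Coprime (Fintype.card F ^ 8) (Fintype.card F ^ k - 1) := fun k hk => by
      refine Nat.Coprime.pow_left 8 (Nat.coprime_of_dvd' fun p hp h1 h3 => ?_)
      have h4 : p ∣ Fintype.card F ^ k := h1.trans (dvd_pow_self _ (by omega))
      have h5 := Nat.dvd_sub h4 h3
      have h6 : 1 ≤ Fintype.card F ^ k := Nat.one_le_pow _ _ (by omega)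
      rwa [show Fintype.card F ^ k - (Fintype.card F ^ k - 1) = 1 by omega] at h5
    have hdvd : Fintype.card F ^ 8 ∣ (Fintype.card F ^ 8 - 1) * ∏ i ∈ Finset.Icc 1 7, (Fintype.card F ^ (2 * i) - 1) := by
      refine ⟨(Fintype.card F ^ 2 - 1) ^ 2 * (Fintype.card F ^ 6 - 1) * (Fintype.card F ^ 8 - 1) *
        (Fintype.card F ^ 10 - 1) * (Fintype.card F ^ 12 - 1) * (Fintype.card F ^ 14 - 1) *
        (Fintype.card F ^ 18 - 1), Nat.eq_of_mul_eq_mul_left (show 0 < Fintype.card F ^ 56 by positivity) ?_⟩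
      rw [← mul_assoc, hcard]
      ring
    have hco : Nat.Coprime (Fintype.card F ^ 8)
        ((Fintype.card F ^ 8 - 1) * ∏ i ∈ Finset.Icc 1 7, (Fintype.card F ^ (2 * i) - 1)) :=
      Nat.Coprime.mul_right (hcop 8 (by norm_num))
        (Nat.Coprime.prod_right fun i hi => hcop _ (by rw [Finset.mem_Icc] at hi; omega))
    have h1 := Nat.Coprime.eq_one_of_dvd hco hdvd
    have : 2 ≤ Fintype.card F ^ 8 := le_trans hq (Nat.le_self_pow (by norm_num) _)
    omega
  · have hu2 : (u : GL Cfsg.Lie.chevE8.Idx F) * u = 1 := by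
      have h := pow_orderOf_eq_one u
      rw [hu, sq] at h
      exact congrArg Subtype.val h
    have hu1 : (u : GL Cfsg.Lie.chevE8.Idx F) ≠ 1 := fun h => by
      rw [show u = 1 from Subtype.ext h, orderOf_one] at hu
      exact absurd hu (by norm_num)
    obtain ⟨h, hh, hhsq, hg⟩ := E8Invol.invol_to_torus hF u.2 hu2
    have hh1 : h ≠ 1 := fun e => hu1 (by
      obtain ⟨z, -, hz⟩ := hg
      rw [e, conj_eq_one_iff] at hz
      exact hz)
    rcases E8Invol.torus_class hF hh hhsq hh1 with hc | hc <;> obtain ⟨z, hz, he⟩ := hg.trans hc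
    · exact Or.inl (isConj_iff.2 ⟨⟨z, hz⟩, Subtype.ext he⟩)
    · exact Or.inr (isConj_iff.2 ⟨⟨z, hz⟩, Subtype.ext he⟩)

end Cfsg.Agent.S4281
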