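import Cfsg.Statements.S4282
import Cfsg.Agent.Lib.HallHigman.CriticalIrred

set_option autoImplicit false
open Cfsg

namespace Cfsg.Agent.S4282

/-- A critical case behind the Hall–Higman theorem. Let p ≠ q be primes and G a finite group generated by a normal q-subgroup Q and a cyclic p-subgroup generated by x, such that the centralizer of every non-identity element of that cyclic subgroup is its product with the centre of G. Let K be an algebraically closed field of characteristic p and ρ a faithful representation of G on a nonzero finite-dimensional K-space whose restriction to Q is irreducible. If s is the least exponent with (ρ(x) − 1)^s = 0, then |⟨x⟩| − 1 ≤ s ≤ |⟨x⟩|; and if s = |⟨x⟩| − 1 then |⟨x⟩| − 1 is a power of q and Q is non-abelian. -/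
theorem result {G : Type*} [Group G] [Finite G] (p q : ℕ) [Fact p.Prime] [Fact q.Prime] (hpq : p ≠ q) (Q : Subgroup G) [Q.Normal] (hQ : IsPGroup q Q) (x : G) (hx : IsPGroup p (Subgroup.zpowers x)) (hgen : Q ⊔ Subgroup.zpowers x = ⊤) (hC : ∀ y ∈ Subgroup.zpowers x, y ≠ 1 → Subgroup.centralizer ({y} : Set G) = Subgroup.zpowers x ⊔ Subgroup.center G) {K : Type*} [Field K] [IsAlgClosed K] [CharP K p] {V : Type*} [AddCommGroup V] [Module K V] [FiniteDimensional K V] [Nontrivial V] (ρ : Representation K G V) (hfaith : Function.Injective ρ) (hirr : ∀ W : Submodule K V, (∀ g ∈ Q, Submodule.map (ρ g) W ≤ W) → W = ⊥ ∨ W = ⊤) (s : ℕ) (hs : (ρ x - 1) ^ s = 0) (hmin : ∀ k < s, (ρ x - 1) ^ k ≠ 0) : Nat.card (Subgroup.zpowers x) - 1 ≤ s ∧ s ≤ Nat.card (Subgroup.zpowers x) ∧ (s = Nat.card (Subgroup.zpowers x) - 1 → (∃ b : ℕ, Nat.card (Subgroup.zpowers x) - 1 = q ^ b) ∧ ¬ IsMulCommutative Q) := by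
  classical
  have hp : p.Prime := Fact.out
  obtain ⟨n, hn⟩ := IsPGroup.iff_card.1 hx
  have hord : orderOf x = p ^ n := (Nat.card_zpowers x) ▸ hn
  rw [hn]
  have hsP : s ≤ p ^ n := by
    by_contra hlt
    refine hmin _ (not_le.1 hlt) ?_
    have h1 := congrArg (Polynomial.aeval (ρ x))
      (sub_pow_char_pow (p := p) (n := n) (Polynomial.X : Polynomial K) 1)
    simp only [map_pow, map_sub, Polynomial.aeval_X, map_one, one_pow] at h1
    rw [h1, ← map_pow, ← hord, pow_orderOf_eq_one, map_one, sub_self]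
  have hds : CfsgLib.HallHigman.deg (ρ x) = s := by
    have hdl : CfsgLib.HallHigman.deg (ρ x) ≤ s := by
      have := CfsgLib.HallHigman.deg_le_of_aeval_eq_zero (x := ρ x)
        (pow_ne_zero s (Polynomial.X_sub_C_ne_zero (1 : K))) (by simpa using hs)
      rwa [Polynomial.natDegree_pow, Polynomial.natDegree_X_sub_C, mul_one] at this
    obtain ⟨i, hi, hassoc⟩ := (dvd_prime_pow (Polynomial.prime_X_sub_C (1 : K)) s).1
      (minpoly.dvd K (ρ x) (p := (Polynomial.X - Polynomial.C (1 : K)) ^ s) (by simpa using hs))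
    have heq := Polynomial.eq_of_monic_of_associated (minpoly.monic (Algebra.IsIntegral.isIntegral (ρ x)))
      ((Polynomial.monic_X_sub_C 1).pow i) hassoc
    refine le_antisymm hdl (le_of_not_gt fun hlt => hmin i ?_ ?_)
    · have : CfsgLib.HallHigman.deg (ρ x) = i := by
        rw [CfsgLib.HallHigman.deg, heq, Polynomial.natDegree_pow, Polynomial.natDegree_X_sub_C, mul_one]
      omega
    · have := minpoly.aeval K (ρ x)
      rw [heq] at this
      simpa using this
  rcases Nat.eq_zero_or_pos n with rfl | hn0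
  · refine ⟨by simp, hsP, fun h => ?_⟩
    rw [pow_zero, Nat.sub_self] at h
    subst h
    exact absurd hs (by simp)
  have hP1 : 1 ≤ p ^ n := Nat.one_le_pow _ _ hp.pos
  rcases CfsgLib.HallHigman.deg_of_critical_irreducible ρ hfaith hpq hQ hn0 hord hC
    (fun W hW => hirr W fun g hg => Submodule.map_le_iff_le_comap.2 fun w hw => hW g hg w hw) with h | ⟨b, hb, hPb, hd, g, hg, g', hg', hne⟩
  · rw [hds] at h
    exact ⟨by omega, hsP, fun he => by omega⟩
  · rw [hds] at hd
    refine ⟨by omega, hsP, fun _ => ⟨⟨b, by omega⟩, fun hc => hne ?_⟩⟩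
    exact congrArg Subtype.val (hc.is_comm.comm (⟨g, hg⟩ : Q) ⟨g', hg'⟩)

end Cfsg.Agent.S4282
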