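import Cfsg.Statements.S4283
import Cfsg.Agent.Lib.StructC.FrobComplement

set_option autoImplicit false
open Cfsg
open scoped Pointwise
set_option linter.style.haveILetI false

namespace Cfsg.Agent.S4283

/-- Let G be a finite group with centre Z and let K, H be abelian subgroups of G containing Z such that G/Z is a Frobenius group with complement H/Z and kernel K/Z. Then the conjugacy class sizes of G are exactly 1, [G : K] and [G : H], and these two indices are coprime. (This is the converse half of the characterization of finite groups whose conjugacy class sizes are exactly 1, m and n with m and n coprime.) -/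
theorem result {G : Type*} [Group G] [Finite G] (K H : Subgroup G) (hZK : Subgroup.center G ≤ K) (hZH : Subgroup.center G ≤ H) (hK : IsMulCommutative K) (hH : IsMulCommutative H) (hFrob : Cfsg.IsFrobeniusComplement (H.map (QuotientGroup.mk' (Subgroup.center G)))) (hker : Cfsg.frobeniusKernel (H.map (QuotientGroup.mk' (Subgroup.center G))) = (K.map (QuotientGroup.mk' (Subgroup.center G)) : Set (G ⧸ Subgroup.center G))) : Set.range (fun x : G => (Subgroup.centralizer ({x} : Set G)).index) = ({1, K.index, H.index} : Set ℕ) ∧ K.index.Coprime H.index := by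
  classical
  have := Fintype.ofFinite G
  set Z := Subgroup.center G with hZ
  set π := QuotientGroup.mk' Z with hπ
  set Hb := H.map π with hHb
  obtain ⟨N, hN, hn, hc⟩ := CfsgLib.StructC.frobenius_kernel_theorem hFrob
  have hNK : N = K.map π := SetLike.ext' (hN.trans hker)
  have memK : ∀ x, π x ∈ K.map π → x ∈ K := fun x hx => by
    have : x ∈ (K.map π).comap π := hx
    rwa [Subgroup.comap_map_eq_self (by rw [QuotientGroup.ker_mk']; exact hZK)] at this
  have memH : ∀ x, π x ∈ Hb → x ∈ H := fun x hx => by
    have : x ∈ (H.map π).comap π := hx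
    rwa [Subgroup.comap_map_eq_self (by rw [QuotientGroup.ker_mk']; exact hZH)] at this
  have hπ1 : ∀ x, π x = 1 ↔ x ∈ Z := fun x => QuotientGroup.eq_one_iff x
  have hCcomm : ∀ (C : Subgroup G), IsMulCommutative C → ∀ x ∈ C,
      C ≤ Subgroup.centralizer ({x} : Set G) := by
    intro C hC x hx y hy
    rw [Subgroup.mem_centralizer_singleton_iff]
    exact congrArg Subtype.val (hC.is_comm.comm (⟨y, hy⟩ : C) ⟨x, hx⟩)
  have hCH : ∀ x ∈ H, x ∉ Z → Subgroup.centralizer ({x} : Set G) = H := by
    intro x hx hxZ
    refine le_antisymm (fun y hy => memH y ?_) (hCcomm H hH x hx)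
    rw [Subgroup.mem_centralizer_singleton_iff] at hy
    have hx1 : π x ∈ Hb := Subgroup.mem_map_of_mem _ hx
    refine CfsgLib.StructC.frob_conj_mem hFrob hx1 ?_ fun h => hxZ ((hπ1 x).1 h)
    rw [← map_inv, ← map_mul, ← map_mul, mul_assoc, ← hy, inv_mul_cancel_left]
    exact hx1
  have hCK : ∀ x ∈ K, x ∉ Z → Subgroup.centralizer ({x} : Set G) = K := by
    intro x hx hxZ
    refine le_antisymm (fun y hy => ?_) (hCcomm K hK x hx)
    rw [Subgroup.mem_centralizer_singleton_iff] at hy
    by_contra hyK
    have hyk : π y ∉ Cfsg.frobeniusKernel Hb := by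
      rw [hker]; exact fun h => hyK (memK y h)
    rw [CfsgLib.StructC.frob_mem_kernel_iff] at hyk
    push Not at hyk
    obtain ⟨hy1, g, hg⟩ := hyk
    have hxN : g⁻¹ * π x * g ∈ N := by
      have : π x ∈ N := hNK ▸ Subgroup.mem_map_of_mem _ hx
      simpa using hn.conj_mem _ this g⁻¹
    have hc' : π y * π x = π x * π y := by rw [← map_mul, ← map_mul, hy]
    have h1 := CfsgLib.StructC.frob_commute_eq_one hFrob hN hg hxN
      (fun e => hy1 (by
        calc π y = g * (g⁻¹ * π y * g) * g⁻¹ := by group
          _ = 1 := by rw [e]; group))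
      (by
        calc g⁻¹ * π y * g * (g⁻¹ * π x * g) = g⁻¹ * (π y * π x) * g := by group
          _ = g⁻¹ * π x * g * (g⁻¹ * π y * g) := by rw [hc']; group)
    apply hxZ
    rw [← hπ1]
    calc π x = g * (g⁻¹ * π x * g) * g⁻¹ := by group
      _ = 1 := by rw [h1]; group
  refine ⟨?_, ?_⟩
  · ext n
    simp only [Set.mem_range, Set.mem_insert_iff, Set.mem_singleton_iff]
    constructor
    · rintro ⟨x, rfl⟩
      by_cases hxZ : x ∈ Z
      · left
        rw [Subgroup.index_eq_one, eq_top_iff]
        intro y _
        rw [Subgroup.mem_centralizer_singleton_iff]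
        exact Subgroup.mem_center_iff.1 hxZ y
      by_cases hxK : x ∈ K
      · right; left; rw [hCK x hxK hxZ]
      right; right
      have hxk : π x ∉ Cfsg.frobeniusKernel Hb := by
        rw [hker]; exact fun h => hxK (memK x h)
      rw [CfsgLib.StructC.frob_mem_kernel_iff] at hxk
      push Not at hxk
      obtain ⟨-, g, hg⟩ := hxk
      obtain ⟨g, rfl⟩ := QuotientGroup.mk'_surjective Z g
      have hh : g⁻¹ * x * g ∈ H := memH _ (by rw [map_mul, map_mul, map_inv]; exact hg)
      have hhZ : g⁻¹ * x * g ∉ Z := fun h => hxZ (by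
        have := (inferInstance : Z.Normal).conj_mem _ h g
        simpa [mul_assoc] using this)
      rw [← hCH _ hh hhZ]
      have he : Subgroup.centralizer ({g⁻¹ * x * g} : Set G) =
          (Subgroup.centralizer ({x} : Set G)).map (MulAut.conj g⁻¹).toMonoidHom := by
        ext y
        rw [Subgroup.mem_map_equiv, Subgroup.mem_centralizer_singleton_iff,
          Subgroup.mem_centralizer_singleton_iff]
        simp only [MulAut.conj_symm_apply, inv_inv]
        constructor
        · intro h
          calc g * y * g⁻¹ * x = g * (y * (g⁻¹ * x * g)) * g⁻¹ := by group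
            _ = x * (g * y * g⁻¹) := by rw [h]; group
        · intro h
          calc y * (g⁻¹ * x * g) = g⁻¹ * (g * y * g⁻¹ * x) * g := by group
            _ = g⁻¹ * x * g * y := by rw [h]; group
      rw [he]; exact (Subgroup.index_map_equiv (Subgroup.centralizer ({x} : Set G)) (MulAut.conj g⁻¹)).symm
    · rintro (rfl | rfl | rfl)
      · exact ⟨1, by simp [Subgroup.index_eq_one, Subgroup.centralizer_eq_top_iff_subset]⟩
      · obtain ⟨x, hx, hxZ⟩ : ∃ x ∈ K, x ∉ Z := by
          by_contra h
          push Not at h
          have hbot : N = ⊥ := by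
            rw [hNK, eq_bot_iff]
            rintro _ ⟨x, hx, rfl⟩
            exact Subgroup.mem_bot.2 ((hπ1 x).2 (h x hx))
          rw [hbot] at hc
          exact hFrob.2.1 (Subgroup.isComplement'_bot_left.1 hc)
        exact ⟨x, by rw [hCK x hx hxZ]⟩
      · obtain ⟨x, hx, hxZ⟩ : ∃ x ∈ H, x ∉ Z := by
          by_contra h
          push Not at h
          refine hFrob.1 ?_
          rw [eq_bot_iff]
          rintro _ ⟨x, hx, rfl⟩
          exact Subgroup.mem_bot.2 ((hπ1 x).2 (h x hx))
        exact ⟨x, by rw [hCH x hx hxZ]⟩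
  · have e1 : K.index = Nat.card Hb := by
      rw [← Subgroup.index_map_eq K (f := π) (QuotientGroup.mk'_surjective Z)
        (by rw [QuotientGroup.ker_mk']; exact hZK), ← hNK, hc.symm.index_eq_card]
    have e2 : H.index = Nat.card N := by
      rw [← Subgroup.index_map_eq H (f := π) (QuotientGroup.mk'_surjective Z)
        (by rw [QuotientGroup.ker_mk']; exact hZH), hc.index_eq_card]
    rw [e1, e2]
    haveI := hn
    exact CfsgLib.StructC.frob_coprime hFrob hN

end Cfsg.Agent.S4283
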