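import Cfsg.Statements.S4291
import Cfsg.Agent.Lib.Perm.IcoSolvable

set_option autoImplicit false
open Cfsg

namespace Cfsg.Agent.S4291

open CfsgLib.Perm.Ico

/-- The big quotients. -/
def Big {G : Type*} [Group G] (N : Subgroup G) : Prop :=
  (∃ f : G →* alternatingGroup (Fin 4), Function.Surjective f ∧ f.ker = N) ∨
    (∃ f : G →* Equiv.Perm (Fin 4), Function.Surjective f ∧ f.ker = N) ∨
    (∃ f : G →* alternatingGroup (Fin 5), Function.Surjective f ∧ f.ker = N) ∨
    (∃ f : G →* Equiv.Perm (Fin 5), Function.Surjective f ∧ f.ker = N)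

universe u

theorem four_invols : orderOf (DihedralGroup.r 1 : DihedralGroup 2) = 2 ∧
    orderOf (DihedralGroup.sr 0 : DihedralGroup 2) = 2 := by
  have : Fact (Nat.Prime 2) := ⟨Nat.prime_two⟩
  exact ⟨orderOf_eq_prime (by decide +kernel) (by decide +kernel),
    orderOf_eq_prime (by decide +kernel) (by decide +kernel)⟩

theorem four_commute : (DihedralGroup.r 1 : DihedralGroup 2) * DihedralGroup.sr 0 =
    DihedralGroup.sr 0 * DihedralGroup.r 1 ∧
    (DihedralGroup.r 1 : DihedralGroup 2) ≠ DihedralGroup.sr 0 := by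
  decide +kernel

theorem not_zgroup_four : ¬ IsZGroup (DihedralGroup 2) := fun _ =>
  four_commute.2 (invol_eq_of_zgroup four_invols.1 four_invols.2 four_commute.1)

theorem big_elim {G : Type u} [Group G] {N : Subgroup G} {P : Prop} (h : Big N)
    (k : ∀ (L : Type) (_ : Group L) (_ : Finite L) (_ : Nontrivial L) (f : G →* L),
      Function.Surjective f → f.ker = N → NoZNormal L → 3 ∣ Nat.card L → P) : P := by
  have h4 : 3 ∣ Nat.card (alternatingGroup (Fin 4)) := by
    rw [nat_card_alternatingGroup, Nat.card_fin]; decide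
  have h5 : 3 ∣ Nat.card (alternatingGroup (Fin 5)) := by
    rw [nat_card_alternatingGroup, Nat.card_fin]; decide
  rcases h with ⟨f, hf, hk⟩ | ⟨f, hf, hk⟩ | ⟨f, hf, hk⟩ | ⟨f, hf, hk⟩
  · exact k _ inferInstance inferInstance
      (Finite.one_lt_card_iff_nontrivial.1 (Nat.le_of_dvd Nat.card_pos h4 |>.trans' (by norm_num)))
      f hf hk noZNormal_altFour h4
  · exact k _ inferInstance inferInstance inferInstance f hf hk noZNormal_permFour
      (h4.trans (Subgroup.card_subgroup_dvd_card _))
  · exact k _ inferInstance inferInstance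
      (Finite.one_lt_card_iff_nontrivial.1 (Nat.le_of_dvd Nat.card_pos h5 |>.trans' (by norm_num)))
      f hf hk noZNormal_altFive h5
  · exact k _ inferInstance inferInstance inferInstance f hf hk noZNormal_permFive
      (h5.trans (Subgroup.card_subgroup_dvd_card _))

/-- Let G be a finite group that occurs as a Frobenius complement. Then G has exactly one normal subgroup N such that every Sylow subgroup of N is cyclic and the quotient of G by N is trivial or isomorphic to one of the following five groups: the Klein four-group, the alternating group of degree 4, the symmetric group of degree 4, the alternating group of degree 5, the symmetric group of degree 5. (The quotient is described by a surjective homomorphism with kernel N; the Klein four-group is written as the dihedral group of order 4.) -/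
theorem result {G : Type*} [Group G] [Finite G]
    (hFC : (∃ (L : Type) (_ : Group L) (_ : Finite L) (H : Subgroup L), Cfsg.IsFrobeniusComplement H ∧ Nonempty (G ≃* H))) :
    ∃! N : Subgroup G, N.Normal ∧ (∀ (p : ℕ) [Fact p.Prime] (P : Sylow p N), IsCyclic P) ∧
      (N = ⊤ ∨
        (∃ f : G →* DihedralGroup 2, Function.Surjective f ∧ f.ker = N) ∨
        (∃ f : G →* alternatingGroup (Fin 4), Function.Surjective f ∧ f.ker = N) ∨
        (∃ f : G →* Equiv.Perm (Fin 4), Function.Surjective f ∧ f.ker = N) ∨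
        (∃ f : G →* alternatingGroup (Fin 5), Function.Surjective f ∧ f.ker = N) ∨
        (∃ f : G →* Equiv.Perm (Fin 5), Function.Surjective f ∧ f.ker = N)) := by
  classical
  obtain ⟨d, f, hd, hf⟩ := exists_fpf_complex hFC
  have : Nonempty (Fin d) := ⟨⟨0, hd⟩⟩
  have : Fact (Nat.Prime 2) := ⟨Nat.prime_two⟩
  have hO : IsZGroup (Cfsg.pPrimeCore 2 G) :=
    isZGroup_of_odd hf (CfsgLib.Solvable.pPrimeCore_coprime 2)
  have toZ : ∀ N : Subgroup G, (∀ (p : ℕ) [Fact p.Prime] (P : Sylow p N), IsCyclic P) → IsZGroup N :=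
    fun N h => ⟨fun p hp P => @h p ⟨hp⟩ P⟩
  have hd2 := not_zgroup_four
  have htop : IsZGroup (⊤ : Subgroup G) → IsZGroup G := fun h =>
    IsZGroup.of_surjective (f := (Subgroup.topEquiv : (⊤ : Subgroup G) ≃* G).toMonoidHom)
      Subgroup.topEquiv.surjective
  have split : ∀ N : Subgroup G, (N = ⊤ ∨
      (∃ f : G →* DihedralGroup 2, Function.Surjective f ∧ f.ker = N) ∨
      (∃ f : G →* alternatingGroup (Fin 4), Function.Surjective f ∧ f.ker = N) ∨
      (∃ f : G →* Equiv.Perm (Fin 4), Function.Surjective f ∧ f.ker = N) ∨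
      (∃ f : G →* alternatingGroup (Fin 5), Function.Surjective f ∧ f.ker = N) ∨
      (∃ f : G →* Equiv.Perm (Fin 5), Function.Surjective f ∧ f.ker = N)) →
      N = ⊤ ∨ (∃ f : G →* DihedralGroup 2, Function.Surjective f ∧ f.ker = N) ∨ Big N := by
    intro N h
    exact h
  by_cases hZ : IsZGroup G
  · refine ⟨⊤, ⟨inferInstance, fun p hp P => ?_, Or.inl rfl⟩, ?_⟩
    · have : IsZGroup (⊤ : Subgroup G) :=
        IsZGroup.of_injective (f := (⊤ : Subgroup G).subtype) (Subgroup.subtype_injective _)
      exact this.isZGroup p hp.out P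
    · rintro N ⟨-, -, hq⟩
      rcases split N hq with h | ⟨φ, hφ, -⟩ | h
      · exact h
      · exact absurd (IsZGroup.of_surjective (f := φ) hφ) hd2
      · exact big_elim h fun L _ _ _ φ hφ _ hL _ =>
          absurd (IsZGroup.of_surjective (f := φ) hφ) (not_zgroup_of_noZNormal hL)
  by_cases hnil : TwoNilp G
  · obtain ⟨N, hNn, hNz, hN, huniq⟩ := exists_quotient_twoNilp hf hZ hnil
    refine ⟨N, ⟨hNn, fun p hp P => hNz.isZGroup p hp.out P, Or.inr (Or.inl hN)⟩, ?_⟩
    rintro N' ⟨-, hz', hq⟩
    rcases split N' hq with rfl | h | h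
    · exact absurd (htop (toZ _ hz')) hZ
    · exact huniq N' h
    · exact big_elim h fun L _ _ _ φ hφ _ hL h3 => absurd hnil (twoNilp_of_big φ hφ hL h3 hO)
  · obtain ⟨N, hNn, hNz, hbig⟩ : ∃ N : Subgroup G, N.Normal ∧ IsZGroup N ∧ Big N := by
      by_cases hs : Group.IsSolvable G
      · obtain ⟨N, h1, h2, h3⟩ := exists_quotient_solvable hf hs hnil
        exact ⟨N, h1, h2, h3.elim Or.inl (fun h => Or.inr (Or.inl h))⟩
      · obtain ⟨N, h1, h2, h3⟩ := exists_quotient_nonsolvable hf hs
        exact ⟨N, h1, h2, h3.elim (fun h => Or.inr (Or.inr (Or.inl h))) (fun h => Or.inr (Or.inr (Or.inr h)))⟩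
    refine ⟨N, ⟨hNn, fun p hp P => hNz.isZGroup p hp.out P, Or.inr (Or.inr hbig)⟩, ?_⟩
    rintro N' ⟨hn', hz', hq⟩
    rcases split N' hq with rfl | ⟨φ, hφ, hk⟩ | h
    · exact absurd (htop (toZ _ hz')) hZ
    · have := toZ _ hz'
      refine absurd (twoNilp_of_zgroup_index (N := N') (j := 2) ?_) hnil
      rw [← hk, Subgroup.index_ker, MonoidHom.range_eq_top.2 hφ, Subgroup.card_top, DihedralGroup.nat_card]
      norm_num
    · exact big_elim h fun L _ _ _ φ hφ hk hL _ => big_elim hbig fun L' _ _ _ ψ hψ hk' hL' _ =>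
        kernel_unique (toZ _ hz') hNz φ ψ hφ hψ hk hk' hL hL'

end Cfsg.Agent.S4291
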