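import Cfsg.Statements.S4293
import Cfsg.Agent.Lib.StructC.FrobSemi

set_option autoImplicit false
open Cfsg
open scoped Pointwise
set_option linter.style.haveILetI false

namespace Cfsg.Agent.S4293

/-- A nontrivial finite subgroup of the multiplicative group of a division ring occurs as a Frobenius complement of some finite Frobenius group. -/
theorem result {D : Type*} [DivisionRing D] (H : Subgroup Dˣ) [Finite H] (hH : H ≠ ⊥) :
    ∃ (L : Type) (_ : Group L) (_ : Finite L) (C : Subgroup L), Cfsg.IsFrobeniusComplement C ∧ Nonempty (H ≃* C) := by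
  classical
  have := Fintype.ofFinite H
  haveI : Nontrivial H := (Subgroup.nontrivial_iff_ne_bot H).2 hH
  let S : Set D := Set.range (fun h : H => ((h : Dˣ) : D))
  let Λ : AddSubgroup D := AddSubgroup.closure S
  have hmem : ∀ (h : H) (v : D), v ∈ Λ → ((h : Dˣ) : D) * v ∈ Λ := by
    intro h v hv
    induction hv using AddSubgroup.closure_induction with
    | mem x hx =>
      obtain ⟨k, rfl⟩ := hx
      exact AddSubgroup.subset_closure ⟨h * k, by simp⟩
    | zero => simp [Λ.zero_mem]
    | add x y _ _ hx hy => rw [mul_add]; exact Λ.add_mem hx hy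
    | neg x _ hx => rw [mul_neg]; exact Λ.neg_mem hx
  have hone : (1 : D) ∈ Λ := AddSubgroup.subset_closure ⟨1, by simp⟩
  haveI : AddGroup.FG Λ := (AddGroup.fg_iff_addSubgroup_fg Λ).2
    ⟨(Set.finite_range _).toFinset, by rw [Set.Finite.coe_toFinset]⟩
  obtain ⟨ℓ, hℓ, hnot, hℓm⟩ : ∃ ℓ : ℕ, ℓ.Prime ∧ (∀ w ∈ Λ, (ℓ : D) * w ≠ 1) ∧
      ∀ h : H, h ≠ 1 → ¬ ℓ ∣ orderOf h := by
    obtain ⟨c, hc⟩ := CharP.exists D
    rcases CharP.char_is_prime_or_zero D c with hp | rfl
    · haveI := Fact.mk hp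
      refine ⟨c, hp, fun w _ => by simp, fun h _ hd => ?_⟩
      obtain ⟨m, hm⟩ := hd
      have hx : (((h ^ m : H) : Dˣ) : D) ^ c = 1 := by
        rw [← Units.val_pow_eq_pow_val, ← SubgroupClass.coe_pow, ← pow_mul, mul_comm, ← hm,
          pow_orderOf_eq_one]
        simp
      set x : D := (((h ^ m : H) : Dˣ) : D)
      have h0 : (x - 1) ^ c = 0 := by
        rw [sub_pow_char_of_commute (p := c) (h := Commute.one_right x), one_pow, hx, sub_self]
      have hx1 : x = 1 := sub_eq_zero.1 (pow_eq_zero_iff hp.ne_zero |>.1 h0)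
      have hm1 : h ^ m = 1 := Subtype.ext (Units.ext (by rw [OneMemClass.coe_one, Units.val_one]; exact hx1))
      have hm0 : 0 < m := Nat.pos_of_ne_zero fun e => by
        have := orderOf_pos h; rw [e] at hm; omega
      have := Nat.le_of_dvd hm0 (orderOf_dvd_of_pow_eq_one hm1)
      have := hp.two_le
      nlinarith
    · haveI := CharP.charP_to_charZero D
      obtain ⟨ℓ, hlt, hℓ⟩ := Nat.exists_infinite_primes (Nat.card H + 1)
      refine ⟨ℓ, hℓ, ?_, fun h _ hd => ?_⟩
      · intro w hw hw1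
        haveI : Module.Finite ℤ Λ := Module.Finite.iff_addGroup_fg.2 inferInstance
        haveI : IsAddTorsionFree Λ :=
          Function.Injective.isAddTorsionFree Λ.subtype Subtype.val_injective
        have b := Module.Free.chooseBasis ℤ Λ
        haveI : Nontrivial Λ := ⟨⟨⟨1, hone⟩, 0, fun e => one_ne_zero (congrArg Subtype.val e)⟩⟩
        obtain ⟨i⟩ := b.index_nonempty
        have hdiv : ∀ v ∈ Λ, ∃ u ∈ Λ, (ℓ : D) * u = v := by
          intro v hv
          induction hv using AddSubgroup.closure_induction with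
          | mem x hx =>
            obtain ⟨k, rfl⟩ := hx
            refine ⟨((k : Dˣ) : D) * w, hmem k w hw, ?_⟩
            rw [← mul_assoc, (Nat.cast_commute ℓ ((k : Dˣ) : D)).eq, mul_assoc, hw1, mul_one]
          | zero => exact ⟨0, Λ.zero_mem, mul_zero _⟩
          | add x y _ _ hx hy =>
            obtain ⟨u, hu, rfl⟩ := hx
            obtain ⟨u', hu', rfl⟩ := hy
            exact ⟨u + u', Λ.add_mem hu hu', mul_add _ _ _⟩
          | neg x _ hx =>
            obtain ⟨u, hu, rfl⟩ := hx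
            exact ⟨-u, Λ.neg_mem hu, mul_neg _ _⟩
        obtain ⟨u, hu, huv⟩ := hdiv _ (b i).2
        have hsm : (ℓ : ℤ) • (⟨u, hu⟩ : Λ) = b i := Subtype.ext (by simp [huv])
        have h1 := congrArg (fun z => b.repr z i) hsm
        simp only [map_smul, Finsupp.smul_apply, smul_eq_mul, Module.Basis.repr_self,
          Finsupp.single_eq_same] at h1
        have := Int.eq_one_of_mul_eq_one_right (Int.natCast_nonneg ℓ) h1
        have := hℓ.two_le
        omega
      · have := Nat.le_of_dvd (orderOf_pos h) hd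
        have := Nat.le_of_dvd Nat.card_pos (orderOf_dvd_natCard h)
        omega
  let M : AddSubgroup Λ := (nsmulAddMonoidHom ℓ : Λ →+ Λ).range
  let mh : H → Λ →+ Λ := fun h =>
    ((AddMonoidHom.mulLeft ((h : Dˣ) : D)).comp Λ.subtype).codRestrict Λ (fun v => hmem h v v.2)
  have mh_apply : ∀ (h : H) (v : Λ), ((mh h v : Λ) : D) = ((h : Dˣ) : D) * (v : D) := fun _ _ => rfl
  have hM : ∀ h, M ≤ M.comap (mh h) := by
    rintro h _ ⟨u, rfl⟩
    exact ⟨mh h u, by simp [map_nsmul]⟩
  haveI : Finite (Λ ⧸ M) := by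
    haveI : AddGroup.FG (Λ ⧸ M) := QuotientAddGroup.fg M
    refine AddCommGroup.finite_of_fg_torsion _ ?_
    intro x
    obtain ⟨v, rfl⟩ := QuotientAddGroup.mk_surjective x
    rw [isOfFinAddOrder_iff_nsmul_eq_zero]
    exact ⟨ℓ, hℓ.pos, by rw [← QuotientAddGroup.mk_nsmul, QuotientAddGroup.eq_zero_iff]; exact ⟨v, rfl⟩⟩
  haveI : Nontrivial (Λ ⧸ M) := by
    refine ⟨⟨(⟨1, hone⟩ : Λ), 0, ?_⟩⟩
    rw [Ne, QuotientAddGroup.eq_zero_iff]
    rintro ⟨u, hu⟩
    have := congrArg Subtype.val hu
    simp only [nsmulAddMonoidHom_apply, AddSubgroupClass.coe_nsmul, nsmul_eq_mul] at this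
    exact hnot u u.2 this
  suffices h : ∃ (L : Type) (_ : Group L) (_ : Finite L) (C : Subgroup L),
      Cfsg.IsFrobeniusComplement C ∧ Nonempty (H ≃* C) ∧
        Nat.card (Cfsg.frobeniusKernel C) = Nat.card (Λ ⧸ M) by
    obtain ⟨L, hG, hfin, C, hC, he, -⟩ := h
    exact ⟨L, hG, hfin, C, hC, he⟩
  refine CfsgLib.StructC.exists_frobenius_of_fpf_add
    (H := H) (V := Λ ⧸ M) (fun h => QuotientAddGroup.map M M (mh h) (hM h)) ?_ ?_ ?_ ?_
  · intro v
    obtain ⟨v, rfl⟩ := QuotientAddGroup.mk_surjective v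
    rw [QuotientAddGroup.map_mk]
    congr 1
    exact Subtype.ext (by simp [mh_apply])
  · intro a c v
    obtain ⟨v, rfl⟩ := QuotientAddGroup.mk_surjective v
    simp only [QuotientAddGroup.map_mk]
    congr 1
    exact Subtype.ext (by simp [mh_apply, mul_assoc])
  · intro a v w
    exact map_add _ v w
  · intro h hh v hv
    obtain ⟨v, rfl⟩ := QuotientAddGroup.mk_surjective v
    have hpow : ∀ i : ℕ, ((mh (h ^ i) v : Λ) : Λ ⧸ M) = (v : Λ ⧸ M) := by
      intro i
      induction i with
      | zero => congr 1; exact Subtype.ext (by simp [mh_apply])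
      | succ i ih =>
        have e : mh (h ^ (i + 1)) v = mh h (mh (h ^ i) v) :=
          Subtype.ext (by simp [mh_apply, pow_succ', mul_assoc])
        rw [e, ← QuotientAddGroup.map_mk M M (mh h) (hM h), ih, hv]
    set m := orderOf h
    set x : D := ((h : Dˣ) : D)
    have hsum : ∑ i ∈ Finset.range m, x ^ i = 0 := by
      have h1 : (x - 1) * ∑ i ∈ Finset.range m, x ^ i = 0 := by
        rw [mul_geom_sum, ← Units.val_pow_eq_pow_val, ← SubgroupClass.coe_pow, pow_orderOf_eq_one]
        simp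
      rcases mul_eq_zero.1 h1 with h2 | h2
      · exact absurd (Subtype.ext (Units.ext (by simpa [x] using sub_eq_zero.1 h2))) hh
      · exact h2
    have h0 : ∑ i ∈ Finset.range m, mh (h ^ i) v = 0 := Subtype.ext (by
      simp only [AddSubgroup.val_finsetSum, ZeroMemClass.coe_zero]
      simp only [mh_apply, SubgroupClass.coe_pow, Units.val_pow_eq_pow_val, ← Finset.sum_mul]
      rw [hsum, zero_mul])
    have hmv : m • (v : Λ ⧸ M) = 0 := by
      have := congrArg (QuotientAddGroup.mk' M) h0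
      simp only [map_sum, QuotientAddGroup.mk'_apply, hpow, map_zero, Finset.sum_const,
        Finset.card_range] at this
      exact this
    have hlv : ℓ • (v : Λ ⧸ M) = 0 := by
      rw [← QuotientAddGroup.mk_nsmul, QuotientAddGroup.eq_zero_iff]; exact ⟨v, rfl⟩
    have hg : Nat.gcd ℓ m = 1 := (hℓ.coprime_iff_not_dvd).2 (hℓm h hh)
    have := addOrderOf_dvd_of_nsmul_eq_zero hmv
    have h2 := addOrderOf_dvd_of_nsmul_eq_zero hlv
    exact AddMonoid.addOrderOf_eq_one_iff.1 (Nat.dvd_one.1 (hg ▸ Nat.dvd_gcd h2 this))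

end Cfsg.Agent.S4293
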