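import Cfsg.Statements.S4295
import Cfsg.Agent.Lib.StructC.FrobComplement
import Cfsg.Agent.Lib.StructC.FrobSemi

set_option autoImplicit false
open Cfsg
open scoped Pointwise
set_option linter.style.haveILetI false

namespace Cfsg.Agent.S4295

/-- For a natural number m the following are equivalent: (a) some finite group has a Frobenius complement isomorphic to the quaternion group of order 8 whose Frobenius kernel (the identity together with the elements lying in no conjugate of the complement) has exactly m elements; (b) m is an odd perfect square greater than 1. -/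
theorem result (m : ℕ) :
    (∃ (L : Type) (_ : Group L) (_ : Finite L) (H : Subgroup L), Cfsg.IsFrobeniusComplement H ∧
        Nonempty (H ≃* QuaternionGroup 2) ∧ Nat.card (Cfsg.frobeniusKernel H) = m) ↔
    (Odd m ∧ IsSquare m ∧ 1 < m) := by
  constructor
  · rintro ⟨L, _, _, H, hH, ⟨e⟩, hm⟩
    have h3 : (QuaternionGroup.a 1 : QuaternionGroup 2) * QuaternionGroup.a 1 =
        QuaternionGroup.xa 0 * QuaternionGroup.xa 0 := by decide
    have h5 : (QuaternionGroup.a 1 : QuaternionGroup 2) * QuaternionGroup.xa 0 =
        (QuaternionGroup.a 1 * QuaternionGroup.a 1) *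
          (QuaternionGroup.xa 0 * QuaternionGroup.a 1) := by decide
    have h4 : orderOf (e.symm (QuaternionGroup.a 1)) = 4 := by
      rw [MulEquiv.orderOf_eq, QuaternionGroup.orderOf_a_one]
    obtain ⟨ho, hs⟩ := CfsgLib.StructC.frob_kernel_odd_square hH
      (a := e.symm (QuaternionGroup.a 1)) (b := e.symm (QuaternionGroup.xa 0))
      (by rw [← map_mul, ← map_mul, h3]) h4 (by simp only [← map_mul]; rw [← h5])
    rw [hm] at ho hs
    refine ⟨ho, hs, ?_⟩
    -- the kernel is not trivial
    obtain ⟨N, hN, -, hc⟩ := CfsgLib.StructC.frobenius_kernel_theorem hH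
    rw [← hm, ← hN]
    show 1 < Nat.card N
    refine Finite.one_lt_card_iff_nontrivial.2 ((Subgroup.nontrivial_iff_ne_bot N).2 fun h => ?_)
    rw [h] at hc
    exact hH.2.1 (Subgroup.isComplement'_bot_left.1 hc)
  · rintro ⟨ho, ⟨k, rfl⟩, h1⟩
    have hk : Odd k := Nat.Odd.of_mul_left ho
    have hk1 : 1 < k := by
      rcases k with _ | _ | k <;> simp_all
    haveI : NeZero k := ⟨by omega⟩
    haveI : Fact (1 < k) := ⟨hk1⟩
    obtain ⟨u, v, huv⟩ := CfsgLib.StructC.exists_two_sq_modEq_neg_one hk
    have he : (u : ZMod k) ^ 2 + (v : ZMod k) ^ 2 + 1 = 0 := by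
      have := (ZMod.natCast_eq_zero_iff _ _).2 huv
      push_cast at this
      exact this
    have h2 : ∀ z : ZMod k, z + z = 0 → z = 0 := by
      intro z hz
      have hu : IsUnit ((2 : ℕ) : ZMod k) := (ZMod.isUnit_iff_coprime 2 k).2 (Nat.coprime_two_left.2 hk)
      exact hu.mul_right_eq_zero.1 (by rw [Nat.cast_ofNat, two_mul, hz])
    set a : ZMod k := (u : ZMod k)
    set b : ZMod k := (v : ZMod k)
    let M : ZMod (2 * 2) → ZMod k × ZMod k → ZMod k × ZMod k := fun i w =>
      if i = 0 then w else if i = 1 then (a * w.1 + b * w.2, b * w.1 - a * w.2)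
      else if i = 2 then (-w.1, -w.2) else (-(a * w.1 + b * w.2), -(b * w.1 - a * w.2))
    let act : QuaternionGroup 2 → ZMod k × ZMod k → ZMod k × ZMod k := fun q w => match q with
      | QuaternionGroup.a i => M i w
      | QuaternionGroup.xa i => (-(M i w).2, (M i w).1)
    have M0 : ∀ w, M 0 w = w := fun w => rfl
    have M1 : ∀ w, M 1 w = (a * w.1 + b * w.2, b * w.1 - a * w.2) := fun w => rfl
    have M2 : ∀ w, M 2 w = (-w.1, -w.2) := fun w => rfl
    have M3 : ∀ w, M 3 w = (-(a * w.1 + b * w.2), -(b * w.1 - a * w.2)) := fun w => rfl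
    have hcases : ∀ i : ZMod (2 * 2), i = 0 ∨ i = 1 ∨ i = 2 ∨ i = 3 := by decide
    have Madd : ∀ i j w, M (i + j) w = M i (M j w) := by
      intro i j w
      rcases hcases i with rfl | rfl | rfl | rfl <;> rcases hcases j with rfl | rfl | rfl | rfl <;>
        first
        | rw [M0, zero_add]
        | rw [M0, add_zero]
        | (rw [show (1 : ZMod (2 * 2)) + 1 = 2 from rfl]; simp only [M1, M2];
           ext <;> linear_combination -w.1 * he + 0 * he)
        | skip
      all_goals simp only [show (1 : ZMod (2 * 2)) + 2 = 3 from rfl,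
        show (1 : ZMod (2 * 2)) + 3 = 0 from rfl, show (1 : ZMod (2 * 2)) + 1 = 2 from rfl,
        show (2 : ZMod (2 * 2)) + 1 = 3 from rfl, show (2 : ZMod (2 * 2)) + 2 = 0 from rfl,
        show (2 : ZMod (2 * 2)) + 3 = 1 from rfl, show (3 : ZMod (2 * 2)) + 1 = 0 from rfl,
        show (3 : ZMod (2 * 2)) + 2 = 1 from rfl, show (3 : ZMod (2 * 2)) + 3 = 2 from rfl,
        M0, M1, M2, M3]
      all_goals ext <;> first
        | ring1
        | linear_combination -w.1 * he
        | linear_combination -w.2 * he
        | linear_combination w.1 * he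
        | linear_combination w.2 * he
    -- conjugating `M i` by the rotation
    have MR : ∀ i w, M i (-(w : ZMod k × ZMod k).2, w.1) = (-(M (-i) w).2, (M (-i) w).1) := by
      intro i w
      rcases hcases i with rfl | rfl | rfl | rfl <;>
        simp only [show -(1 : ZMod (2 * 2)) = 3 from rfl, show -(2 : ZMod (2 * 2)) = 2 from rfl,
          show -(3 : ZMod (2 * 2)) = 1 from rfl, neg_zero, M0, M1, M2, M3] <;>
        ext <;> ring
    have Mneg : ∀ i w, M i (-(w : ZMod k × ZMod k).1, -w.2) = (-(M i w).1, -(M i w).2) := by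
      intro i w
      rcases hcases i with rfl | rfl | rfl | rfl <;> simp only [M0, M1, M2, M3] <;> ext <;> ring
    suffices h : ∃ (L : Type) (_ : Group L) (_ : Finite L) (C : Subgroup L),
        Cfsg.IsFrobeniusComplement C ∧ Nonempty (QuaternionGroup 2 ≃* C) ∧
          Nat.card (Cfsg.frobeniusKernel C) = Nat.card (ZMod k × ZMod k) by
      obtain ⟨L, hG, hf, C, hC, ⟨e⟩, hc⟩ := h
      exact ⟨L, hG, hf, C, hC, ⟨e.symm⟩, by rw [hc, Nat.card_prod, Nat.card_zmod]⟩
    refine CfsgLib.StructC.exists_frobenius_of_fpf_add act ?_ ?_ ?_ ?_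
    · exact M0
    · rintro (i | i) (j | j) w
      · exact Madd i j w
      · show (-(M (j - i) w).2, (M (j - i) w).1) = M i (-(M j w).2, (M j w).1)
        rw [MR, ← Madd, sub_eq_neg_add]
      · show (-(M (i + j) w).2, (M (i + j) w).1) = (-(M i (M j w)).2, (M i (M j w)).1)
        rw [Madd]
      · show M ((2 : ℕ) + j - i) w =
          (-(M i (-(M j w).2, (M j w).1)).2, (M i (-(M j w).2, (M j w).1)).1)
        rw [MR, ← Madd, show ((2 : ℕ) : ZMod (2 * 2)) + j - i = 2 + (-i + j) by push_cast; ring,
          Madd, M2]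
    · rintro (i | i) w w' <;> rcases hcases i with rfl | rfl | rfl | rfl <;>
        simp only [act, M0, M1, M2, M3, Prod.fst_add, Prod.snd_add] <;> ext <;>
        simp <;> ring
    · have hsq : ∀ q : QuaternionGroup 2, q ≠ 1 →
          q = QuaternionGroup.a 2 ∨ q * q = QuaternionGroup.a 2 := by decide
      intro q hq w hw
      have hneg : act (QuaternionGroup.a 2) w = w := by
        rcases hsq q hq with h | h
        · rw [← h]; exact hw
        · rw [← h]
          rcases q with i | i
          · show M (i + i) w = w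
            rw [Madd, show M i w = w from hw]; exact hw
          · have hw' : (-(M i w).2, (M i w).1) = w := hw
            show M ((2 : ℕ) + i - i) w = w
            rw [show ((2 : ℕ) : ZMod (2 * 2)) + i - i = 2 by push_cast; ring]
            have h' := MR i (M i w)
            rw [← Madd, neg_add_cancel, M0, hw'] at h'
            rw [M2]
            conv_rhs => rw [← hw', h']
      have h' : (-w.1, -w.2) = w := hneg
      exact Prod.ext (h2 _ (by nth_rewrite 2 [← congrArg Prod.fst h']; exact add_neg_cancel _))
        (h2 _ (by nth_rewrite 2 [← congrArg Prod.snd h']; exact add_neg_cancel _))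

end Cfsg.Agent.S4295
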