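import Cfsg.Statements.S4296
import Cfsg.Agent.Lib.StructC.FrobComplement
import Cfsg.Agent.Lib.StructC.FrobSemi

set_option autoImplicit false
open Cfsg
open scoped Pointwise
set_option linter.style.haveILetI false

namespace Cfsg.Agent.S4296

/-- Let H be a Frobenius complement in a finite group, and suppose some Sylow subgroup of H is not cyclic. Then the number of elements of the Frobenius kernel (the identity together with the elements lying in no conjugate of H) is an odd perfect square. -/
theorem result {L : Type*} [Group L] [Finite L] (H : Subgroup L) (hF : Cfsg.IsFrobeniusComplement H)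
    (hZ : ∃ (p : ℕ) (_ : Fact p.Prime) (P : Sylow p H), ¬ IsCyclic P) :
    Odd (Nat.card (Cfsg.frobeniusKernel H)) ∧ IsSquare (Nat.card (Cfsg.frobeniusKernel H)) := by
  obtain ⟨p, hp, P, hP⟩ := hZ
  rcases CfsgLib.StructC.frob_sylow_structure hF P with h | h
  · exact absurd h hP
  · obtain ⟨-, a, b, h3, h4, h5⟩ := h
    exact CfsgLib.StructC.frob_kernel_odd_square hF h3 h4 h5

end Cfsg.Agent.S4296
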