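import Cfsg.Statements.S4297
import Cfsg.Agent.Lib.StructC.FrobSemi
import Mathlib.NumberTheory.PrimesCongruentOne

set_option autoImplicit false
open Cfsg
open scoped Pointwise
set_option linter.style.haveILetI false

namespace Cfsg.Agent.S4297

/-- For every n ≥ 2 the dicyclic group of order 4n (generated by an element a of order 2n and an element x with x² = aⁿ and x a x⁻¹ = a⁻¹) occurs as a Frobenius complement of some finite Frobenius group. -/
theorem result (n : ℕ) (hn : 2 ≤ n) :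
    ∃ (L : Type) (_ : Group L) (_ : Finite L) (H : Subgroup L), Cfsg.IsFrobeniusComplement H ∧ Nonempty (H ≃* QuaternionGroup n) := by
  classical
  haveI : NeZero n := ⟨by omega⟩
  haveI : NeZero (2 * n) := ⟨by omega⟩
  obtain ⟨ℓ, hℓ, hlt, hmod⟩ := Nat.exists_prime_gt_modEq_one (k := 2 * n) 2 (NeZero.ne _)
  haveI := Fact.mk hℓ
  have hd : 2 * n ∣ Nat.card (ZMod ℓ)ˣ := by
    rw [Nat.card_eq_fintype_card, ZMod.card_units]
    exact (Nat.modEq_iff_dvd' hℓ.one_le).1 hmod.symm
  obtain ⟨g, hg⟩ := IsCyclic.exists_ofOrder_eq_natCard (α := (ZMod ℓ)ˣ)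
  set ζ : ZMod ℓ := ((g ^ (Nat.card (ZMod ℓ)ˣ / (2 * n)) : (ZMod ℓ)ˣ) : ZMod ℓ)
  have hζ : orderOf ζ = 2 * n := by
    rw [orderOf_units, ← hg]
    exact orderOf_pow_orderOf_div (by rw [hg]; exact Nat.card_pos.ne') (hg ▸ hd)
  have hζ1 : ζ ^ (2 * n) = 1 := hζ ▸ pow_orderOf_eq_one ζ
  let c : ZMod (2 * n) → ZMod ℓ := fun i => ζ ^ i.val
  have cadd : ∀ i j, c (i + j) = c i * c j := by
    intro i j
    simp only [c]
    rw [← pow_add, ← pow_mod_orderOf ζ (i.val + j.val), hζ, ZMod.val_add]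
  have c0 : c 0 = 1 := by simp [c]
  have cinj : ∀ i, c i = 1 → i = 0 := by
    intro i hi
    have := orderOf_dvd_of_pow_eq_one (hi : ζ ^ i.val = 1)
    rw [hζ] at this
    exact (ZMod.val_eq_zero i).1 (Nat.eq_zero_of_dvd_of_lt this i.val_lt)
  have cn : c (n : ZMod (2 * n)) = -1 := by
    have hv : (n : ZMod (2 * n)).val = n := by
      rw [ZMod.val_natCast, Nat.mod_eq_of_lt]; omega
    simp only [c, hv]
    have h2 : (ζ ^ n) * (ζ ^ n) = 1 := by rw [← pow_add, ← two_mul, hζ1]
    rcases mul_self_eq_one_iff.1 h2 with h | h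
    · exfalso
      have := Nat.le_of_dvd (by omega) (orderOf_dvd_of_pow_eq_one h)
      omega
    · exact h
  let act : QuaternionGroup n → ZMod ℓ × ZMod ℓ → ZMod ℓ × ZMod ℓ := fun q v => match q with
    | QuaternionGroup.a i => (c i * v.1, c (-i) * v.2)
    | QuaternionGroup.xa i => (-(c (-i) * v.2), c i * v.1)
  have h2ne : (2 : ZMod ℓ) ≠ 0 := by
    intro h
    have h' : ((2 : ℕ) : ZMod ℓ) = 0 := by exact_mod_cast h
    rw [ZMod.natCast_eq_zero_iff] at h'
    have := Nat.le_of_dvd two_pos h'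
    omega
  suffices h : ∃ (L : Type) (_ : Group L) (_ : Finite L) (C : Subgroup L),
      Cfsg.IsFrobeniusComplement C ∧ Nonempty (QuaternionGroup n ≃* C) ∧
        Nat.card (Cfsg.frobeniusKernel C) = Nat.card (ZMod ℓ × ZMod ℓ) by
    obtain ⟨L, hG, hf, K, hK, ⟨e⟩, -⟩ := h
    exact ⟨L, hG, hf, K, hK, ⟨e.symm⟩⟩
  refine CfsgLib.StructC.exists_frobenius_of_fpf_add act ?_ ?_ ?_ ?_
  · intro v
    show (c 0 * v.1, c (-0) * v.2) = v
    simp [c0]

  · have hcc : ∀ i, c (-i) * c i = 1 := fun i => by rw [← cadd, neg_add_cancel, c0]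
    have cn' : c (-(n : ZMod (2 * n))) = -1 := by
      have := hcc (n : ZMod (2 * n))
      rw [cn] at this
      linear_combination -this
    rintro (i | i) (j | j) v
    · simp [act, cadd, mul_assoc, mul_comm, mul_left_comm]
    · simp [act, sub_eq_add_neg, neg_add, cadd, mul_assoc, mul_comm, mul_left_comm]
    · simp [act, cadd, mul_assoc, mul_comm, mul_left_comm]
    · simp [act, sub_eq_add_neg, neg_add, cadd, cn, cn', mul_assoc, mul_comm, mul_left_comm]
  · rintro (i | i) v w <;> simp [act, mul_add, add_comm]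
  · rintro (i | i) hne ⟨p, q⟩ hv
    · have hi : i ≠ 0 := by rintro rfl; exact hne rfl
      simp only [act, Prod.mk.injEq] at hv
      obtain ⟨h1, h2⟩ := hv
      have e1 : c i ≠ 1 := fun h => hi (cinj i h)
      have e2 : c (-i) ≠ 1 := fun h => hi (neg_eq_zero.1 (cinj _ h))
      have hp : (c i - 1) * p = 0 := by linear_combination h1
      have hq : (c (-i) - 1) * q = 0 := by linear_combination h2
      rw [(mul_eq_zero.1 hp).resolve_left (sub_ne_zero.2 e1),
        (mul_eq_zero.1 hq).resolve_left (sub_ne_zero.2 e2)]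
      rfl
    · simp only [act, Prod.mk.injEq] at hv
      obtain ⟨h1, h2⟩ := hv
      have hcc : c (-i) * c i = 1 := by rw [← cadd, neg_add_cancel, c0]
      have hp : 2 * p = 0 := by linear_combination c (-i) * h2 - h1 - p * hcc
      have hp0 : p = 0 := (mul_eq_zero.1 hp).resolve_left h2ne
      subst hp0
      simp at h2
      rw [← h2]; rfl

end Cfsg.Agent.S4297
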