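import Cfsg.Statements.S4298
import Cfsg.Agent.Lib.StructC.FrobSemi
import Mathlib.LinearAlgebra.Matrix.SpecialLinearGroup
import Mathlib.Data.ZMod.Basic

set_option autoImplicit false
open Cfsg
open scoped Pointwise
set_option linter.style.haveILetI false

namespace Cfsg.Agent.S4298

/-- A two-dimensional representation of `SL(2, 3)` over the field with five elements. -/
def tbl : List (ZMod 5 × ZMod 5 × ZMod 5 × ZMod 5) :=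
  [(0, 0, 0, 0), (0, 0, 0, 0), (0, 0, 0, 0), (0, 0, 0, 0), (0, 0, 0, 0), (0, 0, 0, 0), (0, 0, 0, 0), (0, 0, 0, 0), (0, 0, 0, 0), (0, 0, 0, 0), (0, 0, 0, 0), (0, 0, 0, 0), (0, 0, 0, 0), (0, 0, 0, 0), (0, 0, 0, 0), (3, 0, 1, 2), (2, 2, 1, 4), (0, 3, 3, 4), (0, 0, 0, 0), (0, 0, 0, 0), (0, 0, 0, 0), (2, 0, 4, 3), (0, 2, 2, 1), (3, 3, 4, 1), (0, 0, 0, 0), (0, 0, 0, 0), (0, 0, 0, 0), (0, 0, 0, 0), (1, 0, 0, 1), (0, 0, 0, 0), (0, 0, 0, 0), (2, 1, 3, 2), (0, 0, 0, 0), (0, 0, 0, 0), (2, 4, 2, 2), (0, 0, 0, 0), (0, 0, 0, 0), (0, 1, 4, 4), (0, 0, 0, 0), (0, 0, 0, 0), (0, 0, 0, 0), (4, 1, 3, 1), (1, 3, 3, 0), (0, 0, 0, 0), (0, 0, 0, 0), (0, 0, 0, 0), (4, 4, 1, 0), (0, 0, 0, 0), (4, 3, 4, 2), (0, 0, 0, 0), (0, 0, 0, 0), (0, 0, 0, 0), (0, 0, 0, 0), (2, 3, 0, 3), (0, 0, 0, 0), (0, 0, 0, 0), (4, 0, 0, 4), (0, 0, 0, 0), (0, 0, 0, 0), (3, 1, 3, 3), (0, 0, 0,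 0), (0, 0, 0, 0), (3, 4, 2, 3), (0, 0, 0, 0), (0, 0, 0, 0), (1, 1, 4, 0), (0, 0, 0, 0), (3, 2, 0, 2), (0, 0, 0, 0), (1, 2, 1, 3), (0, 0, 0, 0), (0, 0, 0, 0), (0, 0, 0, 0), (0, 0, 0, 0), (0, 4, 1, 1), (4, 2, 2, 0), (0, 0, 0, 0), (0, 0, 0, 0), (0, 0, 0, 0), (1, 4, 2, 4), (0, 0, 0, 0)]

def rho (a b c d : ZMod 3) : ZMod 5 × ZMod 5 × ZMod 5 × ZMod 5 :=
  tbl.getD (27 * a.val + 9 * b.val + 3 * c.val + d.val) (0, 0, 0, 0)

def mul5 (x y : ZMod 5 × ZMod 5 × ZMod 5 × ZMod 5) : ZMod 5 × ZMod 5 × ZMod 5 × ZMod 5 :=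
  (x.1 * y.1 + x.2.1 * y.2.2.1, x.1 * y.2.1 + x.2.1 * y.2.2.2,
    x.2.2.1 * y.1 + x.2.2.2 * y.2.2.1, x.2.2.1 * y.2.1 + x.2.2.2 * y.2.2.2)

def app (x : ZMod 5 × ZMod 5 × ZMod 5 × ZMod 5) (v : ZMod 5 × ZMod 5) : ZMod 5 × ZMod 5 :=
  (x.1 * v.1 + x.2.1 * v.2, x.2.2.1 * v.1 + x.2.2.2 * v.2)

theorem rho_one : rho 1 0 0 1 = (1, 0, 0, 1) := by decide

theorem rho_mul : ∀ a b c d : ZMod 3, a * d - b * c = 1 → ∀ a' b' c' d' : ZMod 3,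
    a' * d' - b' * c' = 1 →
    rho (a * a' + b * c') (a * b' + b * d') (c * a' + d * c') (c * b' + d * d') =
      mul5 (rho a b c d) (rho a' b' c' d') := by decide +kernel

theorem rho_fpf : ∀ a b c d : ZMod 3, a * d - b * c = 1 → ¬(a = 1 ∧ b = 0 ∧ c = 0 ∧ d = 1) →
    ∀ v w : ZMod 5, (rho a b c d).1 * v + (rho a b c d).2.1 * w = v →
      (rho a b c d).2.2.1 * v + (rho a b c d).2.2.2 * w = w → v = 0 ∧ w = 0 := by decide +kernel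

/-- The group SL(2,3) of order 24 (the binary tetrahedral group) occurs as a Frobenius complement of some finite Frobenius group. -/
theorem result :
    ∃ (L : Type) (_ : Group L) (_ : Finite L) (H : Subgroup L), Cfsg.IsFrobeniusComplement H ∧ Nonempty (H ≃* Matrix.SpecialLinearGroup (Fin 2) (ZMod 3)) := by
  let act : Matrix.SpecialLinearGroup (Fin 2) (ZMod 3) → ZMod 5 × ZMod 5 → ZMod 5 × ZMod 5 :=
    fun M v => app (rho ((M : Matrix (Fin 2) (Fin 2) (ZMod 3)) 0 0)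
      ((M : Matrix (Fin 2) (Fin 2) (ZMod 3)) 0 1) ((M : Matrix (Fin 2) (Fin 2) (ZMod 3)) 1 0)
      ((M : Matrix (Fin 2) (Fin 2) (ZMod 3)) 1 1)) v
  have hdet : ∀ M : Matrix.SpecialLinearGroup (Fin 2) (ZMod 3),
      (M : Matrix (Fin 2) (Fin 2) (ZMod 3)) 0 0 * (M : Matrix (Fin 2) (Fin 2) (ZMod 3)) 1 1 -
      (M : Matrix (Fin 2) (Fin 2) (ZMod 3)) 0 1 * (M : Matrix (Fin 2) (Fin 2) (ZMod 3)) 1 0 = 1 :=
    fun M => by rw [← Matrix.det_fin_two]; exact M.det_coe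
  haveI : Nontrivial (Matrix.SpecialLinearGroup (Fin 2) (ZMod 3)) := by
    refine ⟨⟨⟨!![1, 1; 0, 1], by simp [Matrix.det_fin_two]⟩, 1, fun h => ?_⟩⟩
    have := congrArg (fun M => ((M : Matrix.SpecialLinearGroup (Fin 2) (ZMod 3)) :
      Matrix (Fin 2) (Fin 2) (ZMod 3)) 0 1) h
    simp at this
  suffices h : ∃ (L : Type) (_ : Group L) (_ : Finite L) (C : Subgroup L),
      Cfsg.IsFrobeniusComplement C ∧ Nonempty (Matrix.SpecialLinearGroup (Fin 2) (ZMod 3) ≃* C) ∧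
        Nat.card (Cfsg.frobeniusKernel C) = Nat.card (ZMod 5 × ZMod 5) by
    obtain ⟨L, hG, hf, K, hK, ⟨e⟩, -⟩ := h
    exact ⟨L, hG, hf, K, hK, ⟨e.symm⟩⟩
  haveI : Fact (1 < 5) := ⟨by norm_num⟩
  refine CfsgLib.StructC.exists_frobenius_of_fpf_add act ?_ ?_ ?_ ?_
  · intro v
    simp [act, rho_one, app]
  · intro M N v
    simp only [act, Matrix.SpecialLinearGroup.coe_mul, Matrix.mul_apply, Fin.sum_univ_two]
    rw [rho_mul _ _ _ _ (hdet M) _ _ _ _ (hdet N)]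
    simp only [app, mul5]
    ext <;> simp <;> ring
  · intro M v w
    simp only [act, app]
    ext <;> simp <;> ring
  · intro M hM v hv
    have hv1 := congrArg Prod.fst hv
    have hv2 := congrArg Prod.snd hv
    have := rho_fpf _ _ _ _ (hdet M) (fun h => hM (by
      obtain ⟨h1, h2, h3, h4⟩ := h
      ext i j
      fin_cases i <;> fin_cases j <;> simp [h1, h2, h3, h4])) v.1 v.2 hv1 hv2
    exact Prod.ext this.1 this.2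

end Cfsg.Agent.S4298
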