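import Cfsg.Statements.S4299
import Cfsg.Agent.S4293
import Mathlib.RingTheory.RootsOfUnity.AlgebraicallyClosed
import Mathlib.Analysis.Complex.Polynomial.Basic

set_option autoImplicit false
open Cfsg
open scoped Pointwise
set_option linter.style.haveILetI false

namespace Cfsg.Agent.S4299

/-- Every nontrivial finite cyclic group occurs as a Frobenius complement of some finite Frobenius group. -/
theorem result {C : Type*} [Group C] [Finite C] [IsCyclic C] [Nontrivial C] :
    ∃ (L : Type) (_ : Group L) (_ : Finite L) (H : Subgroup L), Cfsg.IsFrobeniusComplement H ∧ Nonempty (C ≃* H) := by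
  classical
  have := Fintype.ofFinite C
  have hn : Nat.card C ≠ 0 := Nat.card_pos.ne'
  haveI : NeZero (Nat.card C) := ⟨hn⟩
  haveI : HasEnoughRootsOfUnity ℂ (Nat.card C) := inferInstance
  obtain ⟨L, hG, hf, K, hK, ⟨e⟩⟩ := Cfsg.Agent.S4293.result (rootsOfUnity (Nat.card C) ℂ) (by
    intro h
    have := HasEnoughRootsOfUnity.natCard_rootsOfUnity ℂ (Nat.card C)
    rw [h, Subgroup.card_bot] at this
    exact absurd this.symm (Finite.one_lt_card).ne')
  refine ⟨L, hG, hf, K, hK, ⟨(mulEquivOfCyclicCardEq ?_).trans e⟩⟩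
  exact (HasEnoughRootsOfUnity.natCard_rootsOfUnity ℂ (Nat.card C)).symm

end Cfsg.Agent.S4299
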