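import Cfsg.Statements.S4300

set_option autoImplicit false
open Cfsg
open scoped Pointwise
set_option linter.style.haveILetI false

namespace Cfsg.Agent.S4300

/-- Let G act faithfully and primitively on a set X, and suppose the stabilizer of some point is a simple group. Then either G is simple, or G has a normal subgroup, neither trivial nor the whole group, that acts regularly on X (transitively with trivial point stabilizers). -/
theorem result {G : Type*} [Group G] {X : Type*} [MulAction G X] [FaithfulSMul G X]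
    (hprim : MulAction.IsPreprimitive G X) (x : X) (hsimple : IsSimpleGroup (MulAction.stabilizer G x)) :
    IsSimpleGroup G ∨ ∃ N : Subgroup G, N.Normal ∧ N ≠ ⊥ ∧ N ≠ ⊤ ∧
      MulAction.IsPretransitive N X ∧ ∀ y : X, MulAction.stabilizer N y = ⊥ := by
  by_cases hG : IsSimpleGroup G
  · exact Or.inl hG
  right
  haveI : Nontrivial G := by
    obtain ⟨a, b, hab⟩ := hsimple.toNontrivial
    exact ⟨(a : G), b, fun h => hab (Subtype.ext h)⟩
  obtain ⟨N, hN, h1, h2⟩ : ∃ N : Subgroup G, N.Normal ∧ N ≠ ⊥ ∧ N ≠ ⊤ := by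
    by_contra hc
    push Not at hc
    exact hG ⟨fun N hN => (eq_or_ne N ⊥).imp_right (hc N hN)⟩
  haveI := hN
  haveI := hprim
  have hnfix : MulAction.fixedPoints N X ≠ Set.univ := by
    intro h
    apply h1
    rw [Subgroup.eq_bot_iff_forall]
    intro n hn
    refine eq_of_smul_eq_smul fun y : X => ?_
    have hy : y ∈ MulAction.fixedPoints N X := h ▸ Set.mem_univ y
    rw [one_smul]
    exact hy ⟨n, hn⟩
  have htr : MulAction.IsPretransitive N X := MulAction.IsQuasiPreprimitive.isPretransitive_of_normal hnfix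
  refine ⟨N, hN, h1, h2, htr, ?_⟩
  have hS : (N.subgroupOf (MulAction.stabilizer G x)) = ⊥ := by
    refine (hsimple.eq_bot_or_eq_top_of_normal _ inferInstance).resolve_right fun h => h2 ?_
    rw [Subgroup.subgroupOf_eq_top] at h
    rw [eq_top_iff]
    intro g _
    obtain ⟨n, hn⟩ := MulAction.exists_smul_eq N x (g • x)
    have hn' : (n : G) • x = g • x := hn
    have hm : (n : G)⁻¹ * g ∈ N := h (by
      rw [MulAction.mem_stabilizer_iff, mul_smul, ← hn', inv_smul_smul])
    have := N.mul_mem n.2 hm
    rwa [mul_inv_cancel_left] at this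
  intro y
  rw [Subgroup.eq_bot_iff_forall]
  intro m hm
  obtain ⟨n, hn⟩ := MulAction.exists_smul_eq N x y
  have hmem : (((n⁻¹ * m * n : N) : G)) ∈ MulAction.stabilizer G x := by
    show (n⁻¹ * m * n) • x = x
    rw [mul_smul, hn, mul_smul, MulAction.mem_stabilizer_iff.1 hm, ← hn, inv_smul_smul]
  have h0 : (⟨_, hmem⟩ : MulAction.stabilizer G x) ∈ N.subgroupOf (MulAction.stabilizer G x) :=
    (n⁻¹ * m * n).2
  rw [hS, Subgroup.mem_bot] at h0
  have h3 : n⁻¹ * m * n = 1 := Subtype.ext (by simpa using congrArg Subtype.val h0)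
  have h4 := congrArg (fun z : N => n * z * n⁻¹) h3
  simpa [mul_assoc] using h4

end Cfsg.Agent.S4300
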