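import Cfsg.Statements.S4301

set_option autoImplicit false
open Cfsg
open scoped Pointwise
set_option linter.style.haveILetI false

namespace Cfsg.Agent.S4301

/-- One-point extension of a multiply transitive group. Let X be a set and G a group of permutations of Option X (the set X with one extra point ∗ = none) all of whose elements fix ∗, such that G is k-transitive on the points of X for some k ≥ 2, X having at least k points. Suppose a permutation h of Option X and an element g of G satisfy: h interchanges ∗ with a point x of X and fixes a point y of X; g interchanges x and y; (g h)³ and h² lie in G; and for every f in G fixing x, the product h f h lies in G and fixes x. Then an element of the group generated by G and h fixes ∗ exactly when it lies in G, and that group acts (k+1)-transitively on Option X. -/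
theorem result {X : Type*} (G : Subgroup (Equiv.Perm (Option X))) (hfix : ∀ f ∈ G, f none = none)
    (k : ℕ) (hk : 2 ≤ k) (hkX : Nonempty (Fin k ↪ X))
    (htrans : ∀ a b : Fin k ↪ X, ∃ f ∈ G, ∀ i, f (some (a i)) = some (b i))
    (h g : Equiv.Perm (Option X)) (hg : g ∈ G) (x y : X)
    (h1 : h none = some x) (h2 : h (some x) = none) (h3 : h (some y) = some y)
    (h4 : g (some x) = some y) (h5 : g (some y) = some x)
    (h6 : (g * h) ^ 3 ∈ G) (h7 : h ^ 2 ∈ G)
    (h8 : ∀ f ∈ G, f (some x) = some x → h * f * h ∈ G ∧ (h * f * h) (some x) = some x) :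
    (∀ f ∈ Subgroup.closure ((G : Set (Equiv.Perm (Option X))) ∪ {h}), f none = none ↔ f ∈ G) ∧
      MulAction.IsMultiplyPretransitive (Subgroup.closure ((G : Set (Equiv.Perm (Option X))) ∪ {h})) (Option X) (k + 1) := by
  classical
  set Gbar := Subgroup.closure ((G : Set (Equiv.Perm (Option X))) ∪ {h}) with hGbar
  have hGle : G ≤ Gbar := fun f hf => Subgroup.subset_closure (Or.inl hf)
  have hhmem : h ∈ Gbar := Subgroup.subset_closure (Or.inr rfl)
  -- two-transitivity consequences
  obtain ⟨e⟩ := hkX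
  have hext : ∀ p q : X, p ≠ q → ∃ a : Fin k ↪ X, a ⟨0, by omega⟩ = p ∧ a ⟨1, by omega⟩ = q := by
    intro p q hpq
    let e1 := e.trans (Equiv.swap (e ⟨0, by omega⟩) p).toEmbedding
    refine ⟨e1.trans (Equiv.swap (e1 ⟨1, by omega⟩) q).toEmbedding, ?_, by simp⟩
    have h0 : e1 ⟨0, by omega⟩ = p := by simp [e1]
    show Equiv.swap (e1 ⟨1, _⟩) q (e1 ⟨0, _⟩) = p
    rw [h0, Equiv.swap_apply_of_ne_of_ne (fun h => ?_) hpq]
    rw [← h0] at h
    exact absurd (Fin.mk.inj_iff.1 (e1.injective h)) (by omega)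
  have h2t : ∀ p q p' q' : X, p ≠ q → p' ≠ q' →
      ∃ f ∈ G, f (some p) = some p' ∧ f (some q) = some q' := by
    intro p q p' q' hpq hpq'
    obtain ⟨a, ha0, ha1⟩ := hext p q hpq
    obtain ⟨b, hb0, hb1⟩ := hext p' q' hpq'
    obtain ⟨f, hf, hfab⟩ := htrans a b
    exact ⟨f, hf, by rw [← ha0, ← hb0, hfab], by rw [← ha1, ← hb1, hfab]⟩
  have hxy : x ≠ y := by
    intro e'
    rw [← e'] at h3
    rw [h2] at h3
    exact absurd h3 (by simp)
  have hinv2 : (h ^ 2)⁻¹ ∈ G := G.inv_mem h7
  have hconj : ∀ u ∈ G, u (some x) = some x → h * u * h⁻¹ ∈ G ∧ h⁻¹ * u * h ∈ G := by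
    intro u hu hux
    obtain ⟨ha, -⟩ := h8 u hu hux
    constructor
    · have := G.mul_mem ha hinv2
      have e' : h * u * h * (h ^ 2)⁻¹ = h * u * h⁻¹ := by rw [pow_two]; group
      rwa [e'] at this
    · have := G.mul_mem hinv2 ha
      have e' : (h ^ 2)⁻¹ * (h * u * h) = h⁻¹ * u * h := by rw [pow_two]; group
      rwa [e'] at this
  let W : Set (Equiv.Perm (Option X)) := {f | f ∈ G ∨ ∃ a ∈ G, ∃ b ∈ G, f = a * h * b}
  have hgen : ∀ f ∈ G, h * f * h ∈ W := by
    intro f hf
    by_cases hfx : f (some x) = some x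
    · exact Or.inl (h8 f hf hfx).1
    obtain ⟨z, hz⟩ : ∃ z, f (some x) = some z := by
      rcases hv : f (some x) with _ | z
      · exact absurd (f.injective (hv.trans (hfix f hf).symm)) (by simp)
      · exact ⟨z, rfl⟩
    have hzx : z ≠ x := fun e' => hfx (by rw [hz, e'])
    obtain ⟨u, hu, hux, huy⟩ := h2t x y x z hxy (Ne.symm hzx)
    set v := g⁻¹ * u⁻¹ * f with hv
    have hvG : v ∈ G := G.mul_mem (G.mul_mem (G.inv_mem hg) (G.inv_mem hu)) hf
    have hvx : v (some x) = some x := by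
      show g⁻¹ (u⁻¹ (f (some x))) = some x
      rw [hz, Equiv.Perm.inv_eq_iff_eq, Equiv.Perm.inv_eq_iff_eq, h4, huy]
    obtain ⟨hA, -⟩ := hconj u hu hux
    obtain ⟨-, hB⟩ := hconj v hvG hvx
    refine Or.inr ⟨h * u * h⁻¹ * (g⁻¹ * (g * h) ^ 3 * (h ^ 2)⁻¹), ?_, g⁻¹ * (h⁻¹ * v * h), ?_, ?_⟩
    · exact G.mul_mem hA (G.mul_mem (G.mul_mem (G.inv_mem hg) h6) hinv2)
    · exact G.mul_mem (G.inv_mem hg) hB
    · rw [hv]; simp only [pow_succ, pow_zero, one_mul]; group
  have hWmul : ∀ p ∈ W, ∀ q ∈ W, p * q ∈ W := by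
    rintro p (hp | ⟨a, ha, b, hb, rfl⟩) q (hq | ⟨c, hc, d, hd, rfl⟩)
    · exact Or.inl (G.mul_mem hp hq)
    · exact Or.inr ⟨p * c, G.mul_mem hp hc, d, hd, by group⟩
    · exact Or.inr ⟨a, ha, b * q, G.mul_mem hb hq, by group⟩
    · have e' : a * h * b * (c * h * d) = a * (h * (b * c) * h) * d := by group
      rw [e']
      rcases hgen _ (G.mul_mem hb hc) with h' | ⟨a', ha', b', hb', h'⟩
      · exact Or.inl (G.mul_mem (G.mul_mem ha h') hd)
      · exact Or.inr ⟨a * a', G.mul_mem ha ha', b' * d, G.mul_mem hb' hd, by rw [h']; group⟩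
  have hW : ∀ f ∈ Gbar, f ∈ W := by
    intro f hf
    induction hf using Subgroup.closure_induction with
    | mem p hp =>
      rcases hp with hp | rfl
      · exact Or.inl hp
      · exact Or.inr ⟨1, G.one_mem, 1, G.one_mem, by group⟩
    | one => exact Or.inl G.one_mem
    | mul p q _ _ hp hq => exact hWmul p hp q hq
    | inv p _ hp =>
      rcases hp with hp | ⟨a, ha, b, hb, rfl⟩
      · exact Or.inl (G.inv_mem hp)
      · exact Or.inr ⟨b⁻¹ * (h ^ 2)⁻¹, G.mul_mem (G.inv_mem hb) hinv2, a⁻¹, G.inv_mem ha, by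
          rw [pow_two]; group⟩
  refine ⟨fun f hf => ⟨fun hn => ?_, hfix f⟩, ?_⟩
  · rcases hW f hf with h' | ⟨a, ha, b, hb, rfl⟩
    · exact h'
    · exfalso
      have hb' : b none = none := hfix b hb
      have hn' : a (some x) = none := by simpa [hb', h1] using hn
      exact absurd (a.injective (hn'.trans (hfix a ha).symm)) (by simp)
  · -- multiple transitivity
    have hmove : ∀ o : Option X, ∃ f ∈ Gbar, f o = none := by
      intro o
      rcases o with _ | z
      · exact ⟨1, Gbar.one_mem, rfl⟩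
      · by_cases hzx : z = x
        · exact ⟨h, hhmem, hzx ▸ h2⟩
        · obtain ⟨f, hf, hf1, -⟩ := h2t z x x y hzx hxy
          exact ⟨h * f, Gbar.mul_mem hhmem (hGle hf), by simp [hf1, h2]⟩
    have hstd : ∀ a : Fin (k + 1) ↪ Option X, ∃ f ∈ Gbar, f (a 0) = none ∧
        ∀ i, f (a (Fin.succ i)) = some (e i) := by
      intro a
      obtain ⟨f1, hf1, hf10⟩ := hmove (a 0)
      have hsome : ∀ i : Fin k, ∃ z, f1 (a (Fin.succ i)) = some z := by
        intro i
        rcases hv : f1 (a (Fin.succ i)) with _ | z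
        · exact absurd (a.injective (f1.injective (hv.trans hf10.symm))) (Fin.succ_ne_zero i)
        · exact ⟨z, rfl⟩
      choose c hc using hsome
      have hcinj : Function.Injective c := fun i j hij =>
        Fin.succ_injective _ (a.injective (f1.injective (by rw [hc, hc, hij])))
      obtain ⟨f2, hf2, hf2c⟩ := htrans ⟨c, hcinj⟩ e
      refine ⟨f2 * f1, Gbar.mul_mem (hGle hf2) hf1, ?_, fun i => ?_⟩
      · simp [hf10, hfix f2 hf2]
      · simp only [Equiv.Perm.mul_apply, hc]
        exact hf2c i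
    refine ⟨fun a b => ?_⟩
    obtain ⟨fa, hfa, ha0, ha1⟩ := hstd a
    obtain ⟨fb, hfb, hb0, hb1⟩ := hstd b
    refine ⟨⟨fb⁻¹ * fa, Gbar.mul_mem (Gbar.inv_mem hfb) hfa⟩, ?_⟩
    ext1 i
    show (fb⁻¹ * fa) (a i) = b i
    rw [Equiv.Perm.mul_apply, Equiv.Perm.inv_eq_iff_eq]
    refine Fin.cases ?_ (fun j => ?_) i
    · rw [ha0, hb0]
    · rw [ha1, hb1]

end Cfsg.Agent.S4301
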