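import Cfsg.Statements.S4302
import Cfsg.Agent.Lib.StructC.FittingTwoThompson
import Cfsg.Agent.Lib.Complement.TwoTools
import Cfsg.Agent.Lib.Solvable.HallHigman
import Cfsg.Agent.Lib.PLocal.Sylow

set_option autoImplicit false
open Cfsg

namespace Cfsg.Agent.S4302

open Subgroup

/-- A normal subgroup that is a 2-group modulo the core of `C(Z(T))` lies in that core. -/
theorem le_core_of_two {X : Type*} [Group X] [Finite X] (T : Sylow 2 X) {N : Subgroup X} [N.Normal]
    (h : ∀ x ∈ N, ∃ k : ℕ, x ^ 2 ^ k ∈
      (centralizer (((T : Subgroup X) ⊓ centralizer ((T : Subgroup X) : Set X) : Subgroup X) : Set X)).normalCore)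
    (hC : (centralizer (((T : Subgroup X) ⊓ centralizer ((T : Subgroup X) : Set X) : Subgroup X) : Set X)).normalCore ≤ N) :
    N ≤ (centralizer (((T : Subgroup X) ⊓ centralizer ((T : Subgroup X) : Set X) : Subgroup X) : Set X)).normalCore := by
  haveI : Fact (Nat.Prime 2) := ⟨Nat.prime_two⟩
  set Z := (T : Subgroup X) ⊓ centralizer ((T : Subgroup X) : Set X)
  set C := (centralizer (Z : Set X)).normalCore with hCdef
  refine Subgroup.normal_le_normalCore.2 ?_
  set K := C ⊔ ((T : Subgroup X) ⊓ N) with hK
  have hKZ : K ≤ centralizer (Z : Set X) :=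
    sup_le (normalCore_le _) (inf_le_left.trans (le_centralizer_iff.1 inf_le_right))
  have h1 : ¬ 2 ∣ K.relIndex N := fun hd => CfsgLib.PLocal.sylow_inf_normal_not_dvd T N
    (hd.trans (relIndex_dvd_of_le_left N le_sup_right))
  have hP : IsPGroup 2 (↥N ⧸ C.subgroupOf N) := by
    intro q
    induction q using QuotientGroup.induction_on with
    | H x =>
      obtain ⟨k, hk⟩ := h x x.2
      refine ⟨k, ?_⟩
      rw [← QuotientGroup.mk_pow, QuotientGroup.eq_one_iff, mem_subgroupOf, SubmonoidClass.coe_pow]
      exact hk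
  obtain ⟨m, hm⟩ := IsPGroup.iff_card.1 hP
  have h2 : K.relIndex N ∣ 2 ^ m := hm ▸ relIndex_dvd_of_le_left N (le_sup_left : C ≤ K)
  obtain ⟨j, -, hj⟩ := (Nat.dvd_prime_pow Nat.prime_two).1 h2
  rcases j with _ | j
  · exact (relIndex_eq_one.1 (hj.trans (pow_zero 2))).trans hKZ
  · exact absurd (hj ▸ dvd_pow_self 2 (Nat.succ_ne_zero j)) h1

/-- Let `X` be a finite solvable group whose Fitting subgroup is a 2-group (equivalently `F(X) = O₂(X)`), `T` a Sylow 2-subgroup of `X`, `J(T)` the subgroup generated by the abelian subgroups of `T` of largest order, `C` the largest normal subgroup of `X` centralizing the centre `Z(T)`, and `Y` the normal closure of `J(T)` in `X`. Then `X = C · Y · N_X(J(T))`, and either `Y ≤ C`, or `CY/C` is isomorphic to a direct product of at least one copy of the symmetric group of degree 3. -/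
theorem result {X : Type*} [Group X] [Finite X]
    [Group.IsSolvable X] (hF : Cfsg.fittingSubgroup X = Cfsg.pCore 2 X) (T : Sylow 2 X) :
    ((Subgroup.centralizer (((T : Subgroup X) ⊓ Subgroup.centralizer ((T : Subgroup X) : Set X) : Subgroup X) : Set X)).normalCore
        ⊔ Subgroup.normalClosure (Cfsg.thompsonSubgroupAOf (T : Subgroup X) : Set X)
        ⊔ Subgroup.normalizer (Cfsg.thompsonSubgroupAOf (T : Subgroup X) : Set X) = ⊤) ∧
    (Subgroup.normalClosure (Cfsg.thompsonSubgroupAOf (T : Subgroup X) : Set X)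
        ≤ (Subgroup.centralizer (((T : Subgroup X) ⊓ Subgroup.centralizer ((T : Subgroup X) : Set X) : Subgroup X) : Set X)).normalCore
      ∨ ∃ n : ℕ, 1 ≤ n ∧
        Nonempty (↥(Subgroup.normalClosure (Cfsg.thompsonSubgroupAOf (T : Subgroup X) : Set X)) ⧸
            ((Subgroup.centralizer (((T : Subgroup X) ⊓ Subgroup.centralizer ((T : Subgroup X) : Set X) : Subgroup X) : Set X)).normalCore).subgroupOf
              (Subgroup.normalClosure (Cfsg.thompsonSubgroupAOf (T : Subgroup X) : Set X))
          ≃* (Fin n → Equiv.Perm (Fin 3)))) := by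
  haveI : Fact (Nat.Prime 2) := ⟨Nat.prime_two⟩
  set Z := (T : Subgroup X) ⊓ centralizer ((T : Subgroup X) : Set X) with hZ
  set C := (centralizer (Z : Set X)).normalCore with hC
  set J := Cfsg.thompsonSubgroupAOf (T : Subgroup X) with hJ
  set Y := normalClosure (J : Set X) with hY
  refine ⟨?_, ?_⟩
  · set P := (T : Subgroup X) ⊓ (C ⊔ Y) with hP
    have hJP : J ≤ P := le_inf (CfsgLib.Complement.thompsonAOf_le _) (le_normalClosure.trans le_sup_right)
    have hnd : ¬ 2 ∣ (P.subgroupOf (C ⊔ Y)).index := CfsgLib.PLocal.sylow_inf_normal_not_dvd T _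
    have hp2 : IsPGroup 2 (P.subgroupOf (C ⊔ Y)) :=
      (T.2.to_le inf_le_left).of_equiv (subgroupOfEquivOfLe (inf_le_right : P ≤ C ⊔ Y)).symm
    have h1 := Sylow.normalizer_sup_eq_top (hp2.toSylow hnd)
    rw [IsPGroup.toSylow_coe, subgroupOf_map_subtype, inf_of_le_left (inf_le_right : P ≤ C ⊔ Y)] at h1
    refine top_le_iff.1 (h1.ge.trans (sup_le ?_ le_sup_left))
    refine le_trans ?_ le_sup_right
    have h2 := CfsgLib.Complement.normalizer_le_normalizer_thompsonAOf P
    rwa [CfsgLib.Complement.thompsonAOf_eq_of_le hJP inf_le_left] at h2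
  · have hOT : Cfsg.pCore 2 X ≤ T := CfsgLib.Solvable.pCore_le_sylow T
    have hcent : centralizer (Cfsg.pCore 2 X : Set X) ≤ Cfsg.pCore 2 X := by
      rw [← hF]; exact CfsgLib.Solvable.centralizer_fittingSubgroup_le
    set O := Cfsg.pCore 2 X ⊓ centralizer (Cfsg.pCore 2 X : Set X) with hO
    haveI : (Cfsg.pCore 2 X).Normal := CfsgLib.Solvable.pCore_normal 2 X
    haveI : O.Normal := inferInstanceAs (Cfsg.pCore 2 X ⊓ centralizer (Cfsg.pCore 2 X : Set X)).Normal
    set W := normalClosure (Z : Set X) with hW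
    have hWO : W ≤ O := normalClosure_le_normal (show Z ≤ O from
      le_inf ((inf_le_right.trans (centralizer_le hOT)).trans hcent)
        (inf_le_right.trans (centralizer_le hOT)))
    have hWc : W ≤ centralizer (W : Set X) :=
      hWO.trans ((inf_le_right : O ≤ _).trans (centralizer_le (hWO.trans inf_le_left)))
    have hW2 : IsPGroup 2 W := (CfsgLib.Comp.isPGroup_pCore 2 X).to_le (hWO.trans inf_le_left)
    set V := Cfsg.omegaOne 2 W with hV
    haveI : V.Normal := by
      refine ⟨fun x hx g => ?_⟩
      have h1 : V.map (MulAut.conj g).toMonoidHom ≤ V := by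
        rw [hV, Cfsg.omegaOne, MonoidHom.map_closure, closure_le]
        rintro _ ⟨y, ⟨hy, hy2⟩, rfl⟩
        refine subset_closure ⟨normalClosure_normal.conj_mem y hy g, ?_⟩
        rw [← map_pow, hy2, map_one]
      exact h1 ⟨x, hx, rfl⟩
    have hCW : C ≤ centralizer (W : Set X) :=
      le_centralizer_iff.1 (normalClosure_le_normal (le_centralizer_iff.1 (normalCore_le _) :
        Z ≤ centralizer (C : Set X)))
    have hCV : C ≤ centralizer (V : Set X) :=
      hCW.trans (centralizer_le (CfsgLib.PLocal.omegaOne_le 2 W))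
    have hVC : centralizer (V : Set X) ≤ C := by
      refine le_core_of_two T (fun x hx => ?_) hCV
      refine ⟨(orderOf x).factorization 2, ?_⟩
      set y := x ^ 2 ^ (orderOf x).factorization 2 with hy
      have hyo : (orderOf y).Coprime 2 := by
        rw [hy, orderOf_pow_of_dvd (by positivity) (Nat.ordProj_dvd _ _)]
        exact (Nat.coprime_ordCompl Nat.prime_two (orderOf_pos x).ne').symm
      have h1 := CfsgLib.Complement.mem_centralizer_of_fixes_omega hWc hW2 (x := y)
        (by rw [normalizer_eq_top_iff.2 normalClosure_normal]; trivial) hyo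
        (fun w hw hw2 => mem_centralizer_iff.1 (pow_mem hx _) w (subset_closure ⟨hw, hw2⟩))
      exact (Subgroup.normal_le_normalCore (H := centralizer (Z : Set X))).2
        (centralizer_le le_normalClosure) h1
    have hVe : Cfsg.IsElementaryAbelian 2 V := CfsgLib.PLocal.omegaOne_elemAb hWc
    have hcore : Cfsg.pCore 2 (X ⧸ centralizer (V : Set X)) = ⊥ := by
      haveI := CfsgLib.Solvable.pCore_normal 2 (X ⧸ centralizer (V : Set X))
      set N := (Cfsg.pCore 2 (X ⧸ centralizer (V : Set X))).comap
        (QuotientGroup.mk' (centralizer (V : Set X))) with hN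
      have h1 : N ≤ C := by
        refine le_core_of_two T (fun x hx => ?_) fun x hx => ?_
        · obtain ⟨k, hk⟩ := CfsgLib.Comp.isPGroup_pCore 2 (X ⧸ centralizer (V : Set X)) ⟨_, hx⟩
          refine ⟨k, hVC ?_⟩
          have := congrArg Subtype.val hk
          rw [SubmonoidClass.coe_pow, OneMemClass.coe_one, ← map_pow, QuotientGroup.mk'_apply,
            QuotientGroup.eq_one_iff] at this
          exact this
        · rw [hN, mem_comap, QuotientGroup.mk'_apply, (QuotientGroup.eq_one_iff x).2 (hCV hx)]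
          exact one_mem _
      rw [Subgroup.eq_bot_iff_forall]
      intro q hq
      obtain ⟨x, rfl⟩ := QuotientGroup.mk'_surjective _ q
      exact (QuotientGroup.eq_one_iff x).2 (hCV (h1 hq))
    have heq : centralizer (V : Set X) = C := le_antisymm hVC hCV
    have hYJ : Y = sSup {A : Subgroup X | CfsgLib.StructC.ThompsonS3.Big A} :=
      CfsgLib.StructC.ThompsonS3.normalClosure_thompsonAOf T
    have hq := CfsgLib.StructC.ThompsonS3.quotient_structure hVe hcore
    rw [← hYJ] at hq
    rcases hq with hq | ⟨n, hn, ⟨e⟩⟩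
    · exact Or.inl (hq.trans hVC)
    · exact Or.inr ⟨n, hn, ⟨(QuotientGroup.quotientMulEquivOfEq (by rw [heq])).trans e⟩⟩

end Cfsg.Agent.S4302
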