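import Cfsg.Statements.S4305
import Cfsg.Agent.Lib.FixedFree.AbelianFitting
import Cfsg.Agent.Lib.FixedFree.DerivedThree

set_option autoImplicit false
open Cfsg

namespace Cfsg.Agent.S4305

/-- Let the symmetric group of degree 3 act by automorphisms on a finite solvable group `G` of order prime to 6, so that only the identity of `G` is fixed by all of it. Then the derived subgroup of `G` is nilpotent. -/
theorem result {G : Type*} [Group G] [Finite G] [Group.IsSolvable G]
    [MulDistribMulAction (Equiv.Perm (Fin 3)) G] (hcop : (Nat.card G).Coprime 6)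
    (hfpf : ∀ g : G, (∀ a : Equiv.Perm (Fin 3), a • g = g) → g = 1) :
    Group.IsNilpotent ↥(commutator G) := by
  classical
  let S := Equiv.Perm (Fin 3)
  let φ := MulDistribMulAction.toMulAut S G
  have hA : Nat.card S = 2 * 3 := by rw [Nat.card_perm, Nat.card_fin]; rfl
  have hact := CfsgLib.FixedFree.fpfAction_of_fpf φ inferInstance (hA ▸ hcop.symm) hfpf
  have := hact.normal
  have hcard := CfsgLib.FixedFree.card_inA φ
  have hsub : ∀ B ≤ CfsgLib.FixedFree.inA φ, B ≠ ⊥ → B ≠ CfsgLib.FixedFree.inA φ →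
      (Nat.card B).Prime := fun B hB hBb hBA =>
    CfsgLib.FixedFree.prime_of_dvd_mul_primes Nat.prime_two Nat.prime_three
      (hA ▸ hcard ▸ Subgroup.card_dvd_of_le hB) (fun e => hBb (Subgroup.card_eq_one.1 e))
      fun e => hBA (Subgroup.eq_of_le_of_card_ge hB (by rw [hcard, hA, e]))
  refine CfsgLib.FixedFree.isNilpotent_commutator_of_mem φ
    (hact.commutator_mem_fitting (hact.isNilpotent_quotient hsub) fun p r hp hr hpr R hR hRr hAR => ?_)
  have := Fact.mk hp
  have := Fact.mk hr
  refine hact.commute_core_derived hsub hpr hR hRr hAR fun hrG {G'} _ _ {V'} _ _ _ _ ρ A' R' f hf hc => ?_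
  have hr6 : r.Coprime 6 := (CfsgLib.FixedFree.card_inG φ ▸ hcop).coprime_dvd_left hrG
  let g : S →* G' := f.comp (SemidirectProduct.inr : S →* _).rangeRestrict
  have hg : g.range = A' := by
    rw [MonoidHom.range_comp, MonoidHom.range_eq_top.2 (MonoidHom.rangeRestrict_surjective _),
      ← MonoidHom.range_eq_map, hf]
  refine hc.commute_of_six ?_ ?_ (CfsgLib.FixedFree.natCast_ne_zero_of_coprime _ hp
    ((Nat.coprime_primes hr hp).2 hpr.symm)) ?_ ?_
  · rintro rfl; norm_num at hr6
  · rintro rfl; norm_num at hr6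
  · rw [← hg, show (6 : ℕ) = Nat.card S from hA.symm]
    exact Subgroup.card_range_dvd g
  · intro h6 a ha ha2 ha1 b hb hb3 hb1
    have hinj : Function.Injective g := by
      refine MonoidHom.ker_eq_bot_iff g |>.1 (Subgroup.card_eq_one.1 ?_)
      have h1 := g.ker.index_mul_card
      rw [Subgroup.index_ker, hg, h6, hA] at h1
      omega
    rw [← hg] at ha hb
    obtain ⟨a, rfl⟩ := ha
    obtain ⟨b, rfl⟩ := hb
    rw [← map_mul, ← map_one g] at ha2
    rw [← map_pow, ← map_one g] at hb3
    have ha2' := hinj ha2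
    have hb3' := hinj hb3
    have key : ∀ a b : Equiv.Perm (Fin 3), a * a = 1 → a ≠ 1 → b ^ 3 = 1 → b ≠ 1 → a * b * a⁻¹ = b⁻¹ := by
      decide
    rw [← map_inv, ← map_mul, ← map_mul, ← map_inv,
      key a b ha2' (fun e => ha1 (e ▸ map_one g)) hb3' (fun e => hb1 (e ▸ map_one g))]

end Cfsg.Agent.S4305
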