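import Cfsg.Statements.S4316
import Cfsg.Agent.Lib.StructC.FixDerivedFinal

set_option autoImplicit false
universe u
open Cfsg

namespace Cfsg.Agent.S4316

/-- There is a function `f` of two natural-number arguments with the following property. Let `q` be a prime and `A` an elementary abelian group of order `q³` acting by automorphisms on a finite group `G` of order prime to `q`, and suppose that for every non-identity `a ∈ A` the derived subgroup of the fixed-point subgroup `C_G(a)` has order at most `m`. Then the derived subgroup of `G` has order at most `f(q, m)`. -/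
theorem result :
    ∃ f : ℕ → ℕ → ℕ, ∀ (q m : ℕ) (A G : Type u) [Group A] [Finite A] [Group G] [Finite G] [MulDistribMulAction A G],
      q.Prime → Nat.card A = q ^ 3 → (∀ a b : A, a * b = b * a) → (∀ a : A, a ^ q = 1) → ¬ q ∣ Nat.card G →
      (∀ a : A, a ≠ 1 → Nat.card ↥(commutator ↥(FixedPoints.subgroup (Subgroup.zpowers a) G)) ≤ m) →
      Nat.card ↥(commutator G) ≤ f q m := by
  refine ⟨fun q m => CfsgLib.StructC.FixDerived.derivedBound q m, ?_⟩
  intro q m A G _ _ _ _ _ hq hcard hcomm hexp hcop h
  let φ : A →* MulAut G := MulDistribMulAction.toMulAut A G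
  let X := G ⋊[φ] A
  have : Finite X := Finite.of_equiv _ SemidirectProduct.equivProd.symm
  let G₀ : Subgroup X := (SemidirectProduct.inl : G →* X).range
  let A₀ : Subgroup X := (SemidirectProduct.inr : A →* X).range
  have hconj : ∀ (a : A) (g : G), (SemidirectProduct.inr a : X) * SemidirectProduct.inl g *
      (SemidirectProduct.inr a)⁻¹ = SemidirectProduct.inl (a • g) := fun a g => by
    rw [← map_inv, ← SemidirectProduct.inl_aut]; rfl
  have hcent : ∀ a : A, G₀ ⊓ Subgroup.centralizer ({SemidirectProduct.inr a} : Set X) =
      (FixedPoints.subgroup (Subgroup.zpowers a) G).map SemidirectProduct.inl := by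
    intro a
    ext x
    constructor
    · rintro ⟨⟨g, rfl⟩, hg⟩
      refine ⟨g, fun b => ?_, rfl⟩
      have hag : a • g = g := by
        refine SemidirectProduct.inl_injective (φ := φ) ?_
        rw [← hconj, ← Subgroup.mem_centralizer_singleton_iff.1 hg, mul_inv_cancel_right]
      have hle : Subgroup.zpowers a ≤ MulAction.stabilizer A g := Subgroup.zpowers_le.2 hag
      exact hle b.2
    · rintro ⟨g, hg, rfl⟩
      refine ⟨⟨g, rfl⟩, Subgroup.mem_centralizer_singleton_iff.2 ?_⟩
      have := hconj a g
      rw [show a • g = g from hg ⟨a, Subgroup.mem_zpowers a⟩, mul_inv_eq_iff_eq_mul] at this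
      exact this.symm
  have hact : CfsgLib.StructC.FixDerived.Act q m A₀ G₀ := by
    refine ⟨hq, ?_, ?_, ?_, ?_, ?_, ?_⟩
    · refine ⟨⟨?_⟩⟩
      rintro ⟨_, a, rfl⟩ ⟨_, b, rfl⟩
      exact Subtype.ext (show (SemidirectProduct.inr a : X) * SemidirectProduct.inr b
          = SemidirectProduct.inr b * SemidirectProduct.inr a by
        rw [← map_mul, hcomm, map_mul])
    · rintro _ ⟨a, rfl⟩
      rw [← map_pow, hexp, map_one]
    · exact (Nat.card_congr (MonoidHom.ofInjective
        (SemidirectProduct.inr_injective (φ := φ))).toEquiv).symm.trans hcard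
    · have hn : G₀.Normal := by
        show (SemidirectProduct.inl : G →* X).range.Normal
        rw [SemidirectProduct.range_inl_eq_ker_rightHom]
        infer_instance
      rw [Subgroup.normalizer_eq_top]
      exact le_top
    · rw [← Nat.card_congr (MonoidHom.ofInjective (SemidirectProduct.inl_injective (φ := φ))).toEquiv]
      exact hcop
    · rintro _ ⟨a, rfl⟩ ha1
      rw [hcent, ← Subgroup.map_commutator,
        Subgroup.card_map_of_injective SemidirectProduct.inl_injective,
        ← Subgroup.map_subtype_commutator,
        Subgroup.card_map_of_injective (Subgroup.subtype_injective _)]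
      exact h a fun e => ha1 (by rw [e, map_one])
  have hb := hact.card_derived_le
  have hG : ⁅G₀, G₀⁆ = (commutator G).map SemidirectProduct.inl := by
    rw [commutator_def, Subgroup.map_commutator, ← MonoidHom.range_eq_map]
  rw [hG, Subgroup.card_map_of_injective SemidirectProduct.inl_injective] at hb
  exact hb

end Cfsg.Agent.S4316
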