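import Cfsg.Statements.S4321
import Cfsg.Agent.Lib.Invol.SingularClassGraph

set_option autoImplicit false
open Cfsg

namespace Cfsg.Agent.S4321

open CfsgLib.Invol.SingularClass

/-- Let `G` be a finite group and `p` a prime not dividing the order of the centre of `G`. Consider the primes dividing the size of some conjugacy class of a `p`-singular element (an element of order divisible by `p`), two of them adjacent when their product divides such a class size. Then any two distinct such primes are joined by a path with at most 3 edges (the graph is connected of diameter at most 3). -/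
theorem result {G : Type*} [Group G] [Finite G] (p : ℕ) [Fact p.Prime]
    (hZ : ¬ p ∣ Nat.card ↥(Subgroup.center G)) (r s : ℕ) (hr : (r.Prime ∧ ∃ x : G, p ∣ orderOf x ∧ r ∣ (Subgroup.centralizer ({x} : Set G)).index)) (hs : (s.Prime ∧ ∃ x : G, p ∣ orderOf x ∧ s ∣ (Subgroup.centralizer ({x} : Set G)).index)) (hrs : r ≠ s) :
    (∃ x : G, p ∣ orderOf x ∧ r * s ∣ (Subgroup.centralizer ({x} : Set G)).index) ∨ (∃ t : ℕ, (t.Prime ∧ ∃ x : G, p ∣ orderOf x ∧ t ∣ (Subgroup.centralizer ({x} : Set G)).index) ∧ t ≠ r ∧ t ≠ s ∧ (∃ x : G, p ∣ orderOf x ∧ r * t ∣ (Subgroup.centralizer ({x} : Set G)).index) ∧ (∃ x : G, p ∣ orderOf x ∧ t * s ∣ (Subgroup.centralizer ({x} : Set G)).index)) ∨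
      (∃ t u : ℕ, (t.Prime ∧ ∃ x : G, p ∣ orderOf x ∧ t ∣ (Subgroup.centralizer ({x} : Set G)).index) ∧ (u.Prime ∧ ∃ x : G, p ∣ orderOf x ∧ u ∣ (Subgroup.centralizer ({x} : Set G)).index) ∧ t ≠ r ∧ u ≠ s ∧ t ≠ u ∧ (∃ x : G, p ∣ orderOf x ∧ r * t ∣ (Subgroup.centralizer ({x} : Set G)).index) ∧ (∃ x : G, p ∣ orderOf x ∧ t * u ∣ (Subgroup.centralizer ({x} : Set G)).index) ∧ (∃ x : G, p ∣ orderOf x ∧ u * s ∣ (Subgroup.centralizer ({x} : Set G)).index)) := by
  obtain ⟨a, b, ha, hb, hra, hab, hbs⟩ := exists_walk hZ hr hs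
  rcases eq_or_ne a r with rfl | har
  · rcases eq_or_ne b a with rfl | hba
    · exact Or.inl (hbs.resolve_left hrs)
    · rcases eq_or_ne b s with rfl | hbs'
      · exact Or.inl (hab.resolve_left hrs)
      · exact Or.inr (Or.inl ⟨b, hb, hba, hbs', hab.resolve_left hba.symm, hbs.resolve_left hbs'⟩)
  · have hra' := hra.resolve_left har.symm
    rcases eq_or_ne a s with rfl | has
    · exact Or.inl hra'
    · rcases eq_or_ne b a with rfl | hba
      · exact Or.inr (Or.inl ⟨b, hb, har, has, hra', hbs.resolve_left has⟩)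
      · rcases eq_or_ne b s with rfl | hbs'
        · exact Or.inr (Or.inl ⟨a, ha, har, has, hra', hab.resolve_left hba.symm⟩)
        · exact Or.inr (Or.inr ⟨a, b, ha, hb, har, hbs', hba.symm, hra',
            hab.resolve_left hba.symm, hbs.resolve_left hbs'⟩)

end Cfsg.Agent.S4321
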