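import Cfsg.Statements.S4323
import Cfsg.Agent.Lib.Invol.AbelianFix.Final

set_option autoImplicit false
open Cfsg

namespace Cfsg.Agent.S4323

/-- Let `q` be a prime and `A` a non-cyclic group of order `q²` acting by automorphisms on a finite group `G` of order prime to `q`, such that the fixed-point subgroup `C_G(a)` is abelian for every non-identity `a ∈ A`. Then `G` is solvable. -/
theorem result {A G : Type*} [Group A] [Finite A]
    [Group G] [Finite G] [MulDistribMulAction A G] (q : ℕ) (hq : q.Prime) (hA : Nat.card A = q ^ 2) (hnc : ¬ IsCyclic A)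
    (hcop : ¬ q ∣ Nat.card G) (h : ∀ a : A, a ≠ 1 → IsMulCommutative ↥(FixedPoints.subgroup (Subgroup.zpowers a) G)) :
    Group.IsSolvable G := by
  classical
  have := Fact.mk hq
  have hpow : ∀ a : A, a ^ q = 1 := by
    intro a
    obtain ⟨i, hi, hi'⟩ := (Nat.dvd_prime_pow hq).1 (hA ▸ orderOf_dvd_natCard a)
    refine orderOf_dvd_iff_pow_eq_one.1 ?_
    interval_cases i
    · rw [hi', pow_zero]; exact one_dvd q
    · rw [hi', pow_one]
    · exact absurd (isCyclic_of_orderOf_eq_card a (hi'.trans hA.symm)) hnc
  have hcomm : ∀ a b : A, a * b = b * a := fun a b => by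
    have := IsPGroup.isMulCommutative_of_card_eq_prime_sq hA
    exact mul_comm' a b
  let φ : A →* MulAut G := MulDistribMulAction.toMulAut A G
  let X := G ⋊[φ] A
  have : Finite X := Finite.of_equiv _ SemidirectProduct.equivProd.symm
  let G₀ : Subgroup X := (SemidirectProduct.inl : G →* X).range
  let A₀ : Subgroup X := (SemidirectProduct.inr : A →* X).range
  have hfix : ∀ (a : A) (g : G), Commute (SemidirectProduct.inr a : X) (SemidirectProduct.inl g) →
      a • g = g := by
    intro a g hc
    have h1 : (SemidirectProduct.inl (φ a g) : X) = SemidirectProduct.inl g := by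
      rw [SemidirectProduct.inl_aut, map_inv, hc.eq, mul_inv_cancel_right]
    exact SemidirectProduct.inl_injective h1
  have hact : CfsgLib.Invol.AbelianFix.Act0 q A₀ G₀ := by
    refine ⟨hq, ?_, ?_, ?_, ?_, ?_, ?_⟩
    · exact (Nat.card_congr (MonoidHom.ofInjective (SemidirectProduct.inr_injective (φ := φ))).toEquiv).symm.trans hA
    · refine ⟨⟨?_⟩⟩
      rintro ⟨_, a, rfl⟩ ⟨_, b, rfl⟩
      exact Subtype.ext (show (SemidirectProduct.inr a : X) * SemidirectProduct.inr b
          = SemidirectProduct.inr b * SemidirectProduct.inr a by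
        rw [← map_mul, hcomm, map_mul])
    · rintro _ ⟨a, rfl⟩
      rw [← map_pow, hpow, map_one]
    · have hn : G₀.Normal := by
        show (SemidirectProduct.inl : G →* X).range.Normal
        rw [SemidirectProduct.range_inl_eq_ker_rightHom]
        infer_instance
      rw [Subgroup.normalizer_eq_top]
      exact le_top
    · rw [← Nat.card_congr (MonoidHom.ofInjective (SemidirectProduct.inl_injective (φ := φ))).toEquiv]
      exact hcop
    · rintro _ ⟨a, rfl⟩ ha1 _ ⟨g, rfl⟩ _ ⟨k, rfl⟩ hg hk
      have ha : a ≠ 1 := fun e => ha1 (by rw [e, map_one])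
      have hmem : ∀ x : G, a • x = x → x ∈ FixedPoints.subgroup (Subgroup.zpowers a) G := by
        intro x hx b
        have hle : Subgroup.zpowers a ≤ MulAction.stabilizer A x := Subgroup.zpowers_le.2 hx
        exact hle b.2
      have hc := (h a ha).is_comm.comm ⟨g, hmem g (hfix a g hg)⟩ ⟨k, hmem k (hfix a k hk)⟩
      have hgk : Commute g k := congrArg Subtype.val hc
      exact hgk.map SemidirectProduct.inl
  have hsol := CfsgLib.Invol.AbelianFix.isSolvable hact
  exact Group.isSolvable_of_isSolvable_injective
    (f := (MonoidHom.ofInjective (SemidirectProduct.inl_injective (φ := φ))).toMonoidHom)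
    (MonoidHom.ofInjective (SemidirectProduct.inl_injective (φ := φ))).injective

end Cfsg.Agent.S4323
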