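import Cfsg.Statements.S4325
import Cfsg.Agent.Lib.StructC.SwapGraph

set_option autoImplicit false
open Cfsg
open scoped Pointwise

namespace Cfsg.Agent.S4325

/-- Let r be a prime and m a natural number with m + 1 < r, and let π be a set of primes containing every prime below r but not r itself. Then in the symmetric group of degree r any m transpositions generate a π-subgroup, while O_π of the symmetric group is trivial. (So no bound on the number of conjugates that works for all π exists in the π-radical analogue of the Baer–Suzuki Theorem.) -/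
theorem result (r m : ℕ) (hr : r.Prime)
    (hm : m + 1 < r) (π : Set ℕ) (hπ : ∀ q : ℕ, q.Prime → q < r → q ∈ π) (hrπ : r ∉ π)
    (t : Fin m → Equiv.Perm (Fin r)) (ht : ∀ i, (t i).IsSwap) :
    Cfsg.IsPiSubgroup π (Subgroup.closure (Set.range t)) ∧ Cfsg.piCore π (Equiv.Perm (Fin r)) = ⊥ := by
  have : Fact r.Prime := ⟨hr⟩
  constructor
  · intro q hq hqd
    by_contra hqπ
    have hqr : q ≤ r := by
      have h1 := hqd.trans (Subgroup.card_subgroup_dvd_card _)
      rw [Nat.card_perm, Nat.card_fin] at h1
      exact hq.dvd_factorial.mp h1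
    have hqr' : q = r := le_antisymm hqr (not_lt.mp fun h => hqπ (hπ q hq h))
    subst hqr'
    obtain ⟨g, hg⟩ := exists_prime_orderOf_dvd_card' q hqd
    rw [← Subgroup.orderOf_coe] at hg
    set σ : Equiv.Perm (Fin q) := ↑g
    have hcyc : σ.IsCycle := Equiv.Perm.isCycle_of_prime_order' (hg.symm ▸ hq)
      (by rw [hg, Fintype.card_fin]; have := hq.pos; omega)
    have hsupp : σ.support = Finset.univ := by
      apply Finset.eq_univ_of_card
      rw [← hcyc.orderOf, hg, Fintype.card_fin]
    obtain ⟨c, hc, hcard⟩ := CfsgLib.StructC.exists_colouring t ht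
    have hconst : ∀ x y, c x = c y := by
      intro x y
      obtain ⟨i, hi⟩ := hcyc.exists_zpow_eq (Equiv.Perm.mem_support.mp (hsupp ▸ Finset.mem_univ x))
        (Equiv.Perm.mem_support.mp (hsupp ▸ Finset.mem_univ y))
      rw [← hi]
      exact (hc _ (Subgroup.zpow_mem _ g.2 i) x).symm
    have : (Finset.univ.image c).card ≤ 1 := by
      rw [Finset.card_le_one]
      intro a ha b hb
      obtain ⟨x, -, rfl⟩ := Finset.mem_image.mp ha
      obtain ⟨y, -, rfl⟩ := Finset.mem_image.mp hb
      exact hconst x y
    rw [Fintype.card_fin] at hcard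
    omega
  · rw [eq_bot_iff]
    refine sSup_le ?_
    rintro N ⟨hN, hNπ⟩
    intro z hz
    rw [Subgroup.mem_bot]
    by_contra hz1
    obtain ⟨a, ha⟩ : ∃ a, z a ≠ a := by
      by_contra hall
      push Not at hall
      exact hz1 (Equiv.ext hall)
    have htrans : ∀ b : Fin r, ∃ n ∈ N, n a = b := by
      intro b
      rcases eq_or_ne b a with rfl | hb
      · exact ⟨1, N.one_mem, rfl⟩
      · refine ⟨Equiv.swap (z a) b * z * (Equiv.swap (z a) b)⁻¹, hN.conj_mem z hz _, ?_⟩
        simp [Equiv.swap_apply_of_ne_of_ne (Ne.symm ha) hb.symm]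
    have : MulAction.IsPretransitive N (Fin r) := ⟨fun b b' => by
      obtain ⟨n, hn, rfl⟩ := htrans b
      obtain ⟨n', hn', rfl⟩ := htrans b'
      exact ⟨⟨n' * n⁻¹, N.mul_mem hn' (N.inv_mem hn)⟩, by simp [Subgroup.smul_def]⟩⟩
    refine hrπ (hNπ r hr ?_)
    have := Subgroup.index_dvd_card (MulAction.stabilizer N a)
    rwa [MulAction.index_stabilizer_of_transitive, Nat.card_fin] at this

end Cfsg.Agent.S4325
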