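import Cfsg.Statements.S4326

set_option autoImplicit false
open Pointwise
open Cfsg
open scoped Pointwise

namespace Cfsg.Agent.S4326

/-- Let G be a finite group, p a prime, x an automorphism of G of p-power order and M the subgroup of fixed points of x. Suppose that p divides the index of M and that either M is self-normalizing or M has trivial center. Then some conjugate of M is mapped onto itself by x but is not fixed elementwise by x. -/
theorem result {G : Type*} [Group G] [Finite G]
    (p : ℕ) [Fact p.Prime] (x : MulAut G) (hx : ∃ k : ℕ, orderOf x = p ^ k) (M : Subgroup G)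
    (hM : ∀ g : G, g ∈ M ↔ x g = g) (hp : p ∣ M.index)
    (hself : Subgroup.normalizer (M : Set G) = M ∨ Subgroup.center M = ⊥) :
    ∃ g : G, (∀ y ∈ MulAut.conj g • M, x y ∈ MulAut.conj g • M) ∧ ∃ y ∈ MulAut.conj g • M, x y ≠ y := by
  obtain ⟨k, hk⟩ := hx
  classical
  have hxM : ∀ g ∈ M, x g = g := fun g hg => (hM g).mp hg
  have hMx : ∀ g, x g ∈ M → g ∈ M := fun g hg => by
    have := x.injective (hxM _ hg)
    rwa [this] at hg
  let σ : Equiv.Perm (G ⧸ M) := Equiv.ofBijective
    (Quotient.map' (fun g => x g) (fun a b h => by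
      rw [QuotientGroup.leftRel_apply] at h ⊢
      rwa [← map_inv, ← map_mul, hxM _ h]))
    (Finite.injective_iff_bijective.mp (fun a b h => by
      induction a using QuotientGroup.induction_on with
      | _ a =>
        induction b using QuotientGroup.induction_on with
        | _ b =>
          have h' : (x a)⁻¹ * x b ∈ M := QuotientGroup.eq.mp h
          rw [← map_inv, ← map_mul] at h'
          exact QuotientGroup.eq.mpr (hMx _ h')))
  have hσ : ∀ g : G, σ g = ((x g : G) : G ⧸ M) := fun g => rfl
  have hpow : ∀ (n : ℕ) (g : G), (σ ^ n) g = (((x ^ n) g : G) : G ⧸ M) := by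
    intro n
    induction n with
    | zero => intro g; rfl
    | succ n ih => intro g; rw [pow_succ, pow_succ, Equiv.Perm.mul_apply, hσ, ih]; rfl
  have := Fintype.ofFinite (G ⧸ M)
  have hfix : σ ^ p ^ k = 1 := by
    refine Equiv.ext fun q => ?_
    induction q using QuotientGroup.induction_on with
    | _ g => rw [hpow, ← hk, pow_orderOf_eq_one]; rfl
  have hdvd : p ∣ Fintype.card (G ⧸ M) := by
    rwa [← Nat.card_eq_fintype_card, ← Subgroup.index_eq_card]
  obtain ⟨q, hq, hqne⟩ := Equiv.Perm.exists_fixed_point_of_prime' hdvd hfix (a := ((1 : G) : G ⧸ M))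
    (by rw [hσ, map_one])
  obtain ⟨g, rfl⟩ := QuotientGroup.mk_surjective q
  rw [hσ, QuotientGroup.eq] at hq
  set m := (x g)⁻¹ * g
  have hxg : x g = g * m⁻¹ := by simp [m]
  have hgM : g ∉ M := fun h => hqne (QuotientGroup.eq.mpr (by simpa using h))
  have hmem : ∀ y, y ∈ MulAut.conj g • M ↔ g⁻¹ * y * g ∈ M := fun y => by
    rw [Subgroup.mem_pointwise_smul_iff_inv_smul_mem]; simp [MulAut.smul_def]
  refine ⟨g, fun y hy => ?_, ?_⟩
  · rw [hmem] at hy ⊢
    have e := hxM _ hy
    rw [map_mul, map_mul, map_inv, hxg] at e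
    rw [show g⁻¹ * x y * g = m⁻¹ * (g⁻¹ * y * g) * m by rw [← e]; group]
    exact M.mul_mem (M.mul_mem (M.inv_mem hq) hy) hq
  · by_contra hc
    push Not at hc
    have hconj : ∀ z ∈ M, x (g * z * g⁻¹) = g * z * g⁻¹ := fun z hz => hc _ ((hmem _).mpr (by simpa [mul_assoc] using hz))
    rcases hself with hs | hs
    · refine hgM (hs ▸ Subgroup.mem_normalizer_fintype ?_)
      intro z hz
      exact (hM _).mpr (hconj z hz)
    · have hm : (⟨m, hq⟩ : M) ∈ Subgroup.center M := by
        rw [Subgroup.mem_center_iff]
        rintro ⟨z, hz⟩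
        apply Subtype.ext
        have e := hconj z hz
        rw [map_mul, map_mul, map_inv, hxM z hz, hxg] at e
        have e' : m⁻¹ * z * m = z := by
          calc m⁻¹ * z * m = g⁻¹ * (g * m⁻¹ * z * (g * m⁻¹)⁻¹) * g := by group
            _ = z := by rw [e]; group
        show z * m = m * z
        nth_rewrite 2 [← e']
        group
      rw [hs, Subgroup.mem_bot] at hm
      have hm1 : m = 1 := congrArg Subtype.val hm
      rw [hm1, inv_one, mul_one] at hxg
      exact hgM ((hM g).mpr hxg)

end Cfsg.Agent.S4326
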