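import Cfsg.Statements.S4331
import Mathlib
import Cfsg.Agent.Lib.Solvable.PCore

set_option autoImplicit false
open Cfsg
open scoped Pointwise
set_option linter.style.haveILetI false

namespace Cfsg.Agent.S4331

open Matrix

theorem isSubnormal_of_nilpotent {H : Type*} [Group H] [Finite H] [Group.IsNilpotent H] (K : Subgroup H) :
    K.IsSubnormal := by
  obtain ⟨n, hn⟩ : ∃ n, K.index = n := ⟨_, rfl⟩
  induction n using Nat.strong_induction_on generalizing K with
  | _ n ih =>
    by_cases hK : K = ⊤
    · rw [hK]; exact Subgroup.IsSubnormal.top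
    · have hlt : K < Subgroup.normalizer (K : Set H) :=
        normalizerCondition_of_isNilpotent K (lt_top_iff_ne_top.2 hK)
      exact Subgroup.IsSubnormal.step K _ hlt.le
        (ih _ (hn ▸ Subgroup.index_strictAnti hlt) _ rfl) Subgroup.normal_in_normalizer

theorem isSubnormal_subgroupOf_of_isPGroup {G : Type*} [Group G] [Finite G] {p : ℕ} [Fact p.Prime]
    (A B : Subgroup G) (hB : IsPGroup p B) : (A.subgroupOf B).IsSubnormal := by
  have := hB.isNilpotent
  exact isSubnormal_of_nilpotent _

abbrev Vec := Fin 2 → ZMod 3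
abbrev GL2 := GeneralLinearGroup (Fin 2) (ZMod 3)
abbrev Mat := Matrix (Fin 2) (Fin 2) (ZMod 3)

def J : Mat := !![1, 2; 1, 1]
def S : Mat := !![1, 0; 0, 2]

def L : List Mat := ((List.range 8).map fun k => J ^ k) ++ ((List.range 8).map fun k => J ^ k * S)

def aff : GL2 →* MulAut (Multiplicative Vec) where
  toFun g :=
    { toFun := fun v => Multiplicative.ofAdd ((g : Mat) *ᵥ v.toAdd)
      invFun := fun v => Multiplicative.ofAdd (((g⁻¹ : GL2) : Mat) *ᵥ v.toAdd)
      left_inv := fun v => by
        simp only
        rw [toAdd_ofAdd, mulVec_mulVec, ← Units.val_mul, inv_mul_cancel, Units.val_one, one_mulVec, ofAdd_toAdd]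
      right_inv := fun v => by
        simp only
        rw [toAdd_ofAdd, mulVec_mulVec, ← Units.val_mul, mul_inv_cancel, Units.val_one, one_mulVec, ofAdd_toAdd]
      map_mul' := fun v w => by rw [toAdd_mul, mulVec_add, ofAdd_add] }
  map_one' := by
    refine MulEquiv.ext fun v => ?_
    show Multiplicative.ofAdd (((1 : GL2) : Mat) *ᵥ v.toAdd) = v
    rw [Units.val_one, one_mulVec, ofAdd_toAdd]
  map_mul' g h := by
    refine MulEquiv.ext fun v => ?_
    show Multiplicative.ofAdd (((g * h : GL2) : Mat) *ᵥ v.toAdd) =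
      Multiplicative.ofAdd ((g : Mat) *ᵥ (Multiplicative.ofAdd ((h : Mat) *ᵥ v.toAdd)).toAdd)
    rw [toAdd_ofAdd, mulVec_mulVec, Units.val_mul]

def Q : Subgroup GL2 where
  carrier := {g | (g : Mat) ∈ L}
  one_mem' := by show ((1 : GL2) : Mat) ∈ L; rw [Units.val_one]; decide +kernel
  mul_mem' := by
    intro g h hg hh
    show ((g * h : GL2) : Mat) ∈ L
    rw [Units.val_mul]
    exact (by decide +kernel : ∀ M ∈ L, ∀ N ∈ L, M * N ∈ L) _ hg _ hh
  inv_mem' := by
    intro g hg
    obtain ⟨N, hN, hgN⟩ := (by decide +kernel : ∀ M ∈ L, ∃ N ∈ L, M * N = 1) _ hg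
    show ((g⁻¹ : GL2) : Mat) ∈ L
    rw [show ((g⁻¹ : GL2) : Mat) = N from Units.inv_eq_of_mul_eq_one_right hgN]
    exact hN

abbrev G0 := Multiplicative Vec ⋊[aff.comp Q.subtype] Q

theorem exists_unit {M : Mat} (h : M ∈ L) : ∃ q : Q, ((q : GL2) : Mat) = M := by
  obtain ⟨N, hN, hMN⟩ := (by decide +kernel : ∀ M ∈ L, ∃ N ∈ L, M * N = 1 ∧ N * M = 1) _ h
  exact ⟨⟨⟨M, N, hMN.1, hMN.2⟩, h⟩, rfl⟩

theorem pow_eight (q : Q) : q ^ 8 = 1 := by
  apply Subtype.ext
  apply Units.ext
  rw [SubmonoidClass.coe_pow, Units.val_pow_eq_pow_val]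
  exact (by decide +kernel : ∀ M ∈ L, M ^ 8 = 1) _ q.2

def s : Q := ⟨⟨S, S, by decide +kernel, by decide +kernel⟩, by show S ∈ L; decide +kernel⟩

instance : Finite G0 := Finite.of_equiv _ SemidirectProduct.equivProd.symm

theorem coe_act (q : Q) (v : Multiplicative Vec) :
    ((aff.comp Q.subtype) q v).toAdd = ((q : GL2) : Mat) *ᵥ v.toAdd := rfl

/-- There is a finite solvable group G with a subgroup A of order 2 such that every conjugacy class of G contains an element g for which A is subnormal in the subgroup generated by A and g, and yet A is not contained in O_2(G). (So the corresponding criteria for odd primes fail at the prime 2, even for solvable groups.) -/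
theorem result :
    ∃ (G : Type) (_ : Group G) (_ : Finite G) (A : Subgroup G), Group.IsSolvable G ∧ Nat.card A = 2 ∧
      (∀ c : G, ∃ g : G, IsConj c g ∧ (A.subgroupOf (A ⊔ Subgroup.zpowers g)).IsSubnormal) ∧
      ¬ A ≤ Cfsg.pCore 2 G := by
  classical
  have : Fact (Nat.Prime 2) := ⟨Nat.prime_two⟩
  refine ⟨G0, inferInstance, inferInstance,
    Subgroup.zpowers (SemidirectProduct.inr s), ?_, ?_, ?_, ?_⟩
  · have h2 : IsPGroup 2 Q := fun q => ⟨3, by rw [show (2 : ℕ) ^ 3 = 8 from rfl]; exact pow_eight q⟩
    have := h2.isNilpotent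
    exact solvable_of_ker_le_range (SemidirectProduct.inl : Multiplicative Vec →* G0)
      (SemidirectProduct.rightHom : G0 →* Q) SemidirectProduct.range_inl_eq_ker_rightHom.ge
  · rw [Nat.card_zpowers]
    refine orderOf_eq_prime ?_ ?_
    · rw [← map_pow, ← (SemidirectProduct.inr : Q →* G0).map_one]
      congr 1
      apply Subtype.ext; apply Units.ext
      show ((s : GL2) ^ 2 : GL2).val = 1
      rw [Units.val_pow_eq_pow_val]
      show S ^ 2 = 1
      decide +kernel
    · intro h
      have := congrArg (fun q : Q => ((q : GL2) : Mat))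
        (SemidirectProduct.inr_injective (h.trans SemidirectProduct.inr.map_one.symm))
      revert this
      show S = (1 : Mat) → False
      decide +kernel
  · have hQ2 : IsPGroup 2 (SemidirectProduct.inr : Q →* G0).range :=
      fun x => ⟨3, by
        obtain ⟨q, hq⟩ := x.2
        apply Subtype.ext
        rw [SubmonoidClass.coe_pow, ← hq, show (2 : ℕ) ^ 3 = 8 from rfl, ← map_pow, pow_eight, map_one]; rfl⟩
    -- a representative either inside the complement, or commuting with the involution
    have hrep : ∀ c : G0, ∃ g : G0, IsConj c g ∧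
        (g ∈ (SemidirectProduct.inr : Q →* G0).range ∨ Commute (SemidirectProduct.inr s) g) := by
      intro c
      -- conjugating by a translation
      have hx : ∀ (x w : Multiplicative Vec) (q : Q),
          IsConj (⟨w, q⟩ : G0) ⟨x * w * ((aff.comp Q.subtype) q x)⁻¹, q⟩ := fun x w q =>
        isConj_iff.2 ⟨SemidirectProduct.inl x, by ext <;> simp [mul_assoc]⟩
      have hy : ∀ (r q : Q) (w : Multiplicative Vec),
          IsConj (⟨w, q⟩ : G0) ⟨(aff.comp Q.subtype) r w, r * q * r⁻¹⟩ := fun r q w =>
        isConj_iff.2 ⟨SemidirectProduct.inr r, by ext <;> simp⟩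
      obtain ⟨w, q⟩ := c
      by_cases hfix : ∀ v : Vec, ((q : GL2) : Mat) *ᵥ v = v → v = 0
      · have hsurj : Function.Surjective fun v : Vec => v - ((q : GL2) : Mat) *ᵥ v := by
          rw [← Finite.injective_iff_surjective]
          intro a b hab
          have := hfix (a - b) (by
            rw [mulVec_sub]
            simp only at hab
            rw [sub_eq_sub_iff_sub_eq_sub] at hab
            exact hab.symm)
          exact sub_eq_zero.1 this
        obtain ⟨v, hv⟩ := hsurj (-w.toAdd)
        refine ⟨_, hx (Multiplicative.ofAdd v) w q, Or.inl ⟨q, ?_⟩⟩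
        ext1
        · apply Multiplicative.toAdd.injective
          simp only [SemidirectProduct.left_inr, toAdd_one, toAdd_mul, toAdd_inv, coe_act, toAdd_ofAdd]
          simp only at hv
          rw [show v + w.toAdd + -(((q : GL2) : Mat) *ᵥ v) = (v - ((q : GL2) : Mat) *ᵥ v) + w.toAdd by abel,
            hv, neg_add_cancel]
        · rfl
      · have hdata : ∀ M ∈ L, (∃ v : Vec, M *ᵥ v = v ∧ v ≠ 0) → M = 1 ∨ ∃ N ∈ L, N * M = S * N := by
          decide +kernel
        push Not at hfix
        rcases hdata _ q.2 hfix with hq | ⟨N, hN, hNq⟩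
        · have hq1 : q = 1 := Subtype.ext (Units.ext hq)
          subst hq1
          by_cases hw : w.toAdd = 0
          · exact ⟨_, IsConj.refl _, Or.inl ⟨1, by
              ext1
              · exact (Multiplicative.toAdd.injective (hw.trans toAdd_one.symm)).symm ▸ rfl
              · rfl⟩⟩
          · have htr : ∀ v : Vec, v ≠ 0 → ∃ M ∈ L, M *ᵥ v = ![1, 0] := by decide +kernel
            obtain ⟨M, hM, hMv⟩ := htr _ hw
            obtain ⟨r, rfl⟩ := exists_unit hM
            refine ⟨_, hy r 1 w, Or.inr ?_⟩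
            have h0 : ((aff.comp Q.subtype) r w).toAdd = ![1, 0] := by rw [coe_act, hMv]
            have hS : S *ᵥ (![1, 0] : Vec) = ![1, 0] := by decide +kernel
            ext1
            · apply Multiplicative.toAdd.injective
              simp only [SemidirectProduct.mul_left, SemidirectProduct.left_inr, SemidirectProduct.right_inr,
                toAdd_mul, toAdd_one, zero_add, coe_act, mul_one, mul_inv_cancel, map_one]
              simp only [coe_act] at h0
              rw [h0]
              show S *ᵥ (![1, 0] : Vec) = _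
              rw [hS]
            · simp
        · obtain ⟨r, rfl⟩ := exists_unit hN
          have hrq : r * q * r⁻¹ = s := by
            rw [mul_inv_eq_iff_eq_mul]
            exact Subtype.ext (Units.ext hNq)
          have h1 := hy r q w
          rw [hrq] at h1
          refine ⟨_, h1.trans (hx ((aff.comp Q.subtype) r w) _ s), Or.inr ?_⟩
          generalize (aff.comp Q.subtype) r w = u
          have hS : ∀ v : Vec, S *ᵥ (v + v + -(S *ᵥ v)) = v + v + -(S *ᵥ v) := by decide +kernel
          ext1
          · apply Multiplicative.toAdd.injective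
            simp only [SemidirectProduct.mul_left, SemidirectProduct.left_inr, SemidirectProduct.right_inr,
              toAdd_mul, toAdd_inv, toAdd_one, zero_add, coe_act, map_one, mulVec_zero, add_zero]
            exact hS u.toAdd
          · rfl
    intro c
    obtain ⟨g, hg, h⟩ := hrep c
    refine ⟨g, hg, ?_⟩
    rcases h with h | h
    · exact isSubnormal_subgroupOf_of_isPGroup (p := 2) _ _ (hQ2.to_le
        (sup_le (Subgroup.zpowers_le.2 ⟨s, rfl⟩) (Subgroup.zpowers_le.2 h)))
    · refine Subgroup.Normal.isSubnormal ?_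
      rw [Subgroup.normal_subgroupOf_iff_le_normalizer le_sup_left]
      refine sup_le Subgroup.le_normalizer ((Subgroup.zpowers_le.2 ?_).trans
        (Subgroup.centralizer_le_normalizer _))
      rw [Subgroup.mem_centralizer_iff]
      intro x hx
      obtain ⟨k, rfl⟩ := Subgroup.mem_zpowers_iff.1 hx
      exact (h.zpow_left k).eq
  · intro hle
    have hP : IsPGroup 2 (Cfsg.pCore 2 G0) := CfsgLib.Solvable.pCore_isPGroup 2
    have hN : (Cfsg.pCore 2 G0).Normal := CfsgLib.Solvable.pCore_normal 2 G0
    set a : G0 := SemidirectProduct.inr s with ha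
    have haO : a ∈ Cfsg.pCore 2 G0 := hle (Subgroup.mem_zpowers _)
    set n : G0 := SemidirectProduct.inl (Multiplicative.ofAdd (![0, 1] : Vec)) with hn
    have hc : a * n * a⁻¹ * n⁻¹ ∈ Cfsg.pCore 2 G0 := by
      rw [show a * n * a⁻¹ * n⁻¹ = a * (n * a⁻¹ * n⁻¹) by group]
      exact mul_mem haO (hN.conj_mem _ (inv_mem haO) n)
    obtain ⟨k, hk⟩ := hP ⟨_, hc⟩
    have hval : a * n * a⁻¹ * n⁻¹ = SemidirectProduct.inl (Multiplicative.ofAdd (![0, 1] : Vec)) := by
      rw [ha, hn, ← map_inv SemidirectProduct.inr s, ← SemidirectProduct.inl_aut, ← map_inv, ← map_mul]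
      congr 1
      apply Multiplicative.toAdd.injective
      rw [toAdd_mul, toAdd_inv, coe_act, toAdd_ofAdd]
      show S *ᵥ (![0, 1] : Vec) + -![0, 1] = ![0, 1]
      decide +kernel
    have hk' : (SemidirectProduct.inl (Multiplicative.ofAdd (![0, 1] : Vec)) : G0) ^ (2 ^ k) = 1 := by
      have := congrArg (Subgroup.subtype (Cfsg.pCore 2 G0)) hk
      rw [map_pow, map_one] at this
      rwa [← hval]
    have h1 : (Multiplicative.ofAdd (![0, 1] : Vec)) ^ (2 ^ k) = 1 :=
      SemidirectProduct.inl_injective (by rw [map_pow, hk', map_one])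
    have h3 : (Multiplicative.ofAdd (![0, 1] : Vec)) ^ 3 = 1 := by decide +kernel
    have h4 := pow_gcd_eq_one.2 ⟨h1, h3⟩
    rw [Nat.Coprime.gcd_eq_one (Nat.Coprime.pow_left _ (by decide)), pow_one] at h4
    revert h4
    decide +kernel

end Cfsg.Agent.S4331
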