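import Cfsg.Statements.S4332
import Mathlib
import Cfsg.Agent.Lib.Solvable.PCore

set_option autoImplicit false
open Pointwise
open Cfsg
open scoped Pointwise
set_option linter.style.haveILetI false

namespace Cfsg.Agent.S4332

open Equiv Equiv.Perm

theorem exists_three_cycle_commute (g : Perm (Fin 8)) :
    ∃ τ : Perm (Fin 8), τ.IsThreeCycle ∧ Commute (g * τ * g⁻¹) τ := by
  classical
  by_cases hf : 3 ≤ (g.supportᶜ).card
  · obtain ⟨T, hT, hTc⟩ := Finset.exists_subset_card_eq hf
    obtain ⟨a, b, c, hab, hac, hbc, rfl⟩ := Finset.card_eq_three.1 hTc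
    refine ⟨swap a b * swap a c, isThreeCycle_swap_mul_swap_same hab hac hbc, ?_⟩
    have hfix : ∀ x ∈ ({a, b, c} : Finset (Fin 8)), g x = x := fun x hx => by
      simpa [Finset.mem_compl] using hT hx
    have : g * (swap a b * swap a c) * g⁻¹ = swap a b * swap a c := by
      rw [show g * (swap a b * swap a c) * g⁻¹ = (g * swap a b * g⁻¹) * (g * swap a c * g⁻¹) by group,
        ← swap_apply_apply, ← swap_apply_apply, hfix a (by simp), hfix b (by simp), hfix c (by simp)]
    rw [this]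
  by_cases h3 : ∃ t, g (g (g t)) = t ∧ g t ≠ t
  · obtain ⟨t, ht, hne⟩ := h3
    have hmem : g.cycleOf t ∈ g.cycleFactorsFinset :=
      cycleOf_mem_cycleFactorsFinset_iff.2 (mem_support.2 hne)
    have hcom : g * g.cycleOf t * g⁻¹ = g.cycleOf t := by
      rw [mul_inv_eq_iff_eq_mul]
      exact (self_mem_cycle_factors_commute hmem).eq.symm
    refine ⟨g.cycleOf t, ?_, ?_⟩
    · have hcyc := isCycle_cycleOf g hne
      have hpow : g.cycleOf t ^ 3 = 1 := by
        refine (hcyc.pow_eq_one_iff' (x := t) ?_).2 ?_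
        · rw [cycleOf_apply_self]; exact hne
        · rw [cycleOf_pow_apply_self]
          simpa [pow_succ] using ht
      have : Fact (Nat.Prime 3) := ⟨Nat.prime_three⟩
      have hord := orderOf_eq_prime hpow hcyc.ne_one
      rw [← card_support_eq_three_iff, ← hcyc.orderOf, hord]
    · rw [hcom]
  have hm : 6 ≤ g.support.card := by
    rw [Finset.card_compl, Fintype.card_fin] at hf
    omega
  push Not at h3
  obtain ⟨t1, ht1⟩ := Finset.card_pos.1 (by omega : 0 < g.support.card)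
  rw [mem_support] at ht1
  have key : ∃ t2 : Fin 8, g t2 ≠ t2 ∧ t2 ≠ t1 ∧ t2 ≠ g t1 ∧ g t2 ≠ t1 ∧
      ∃ U : Finset (Fin 8), U.card ≤ 5 ∧ g⁻¹ t1 ∈ U ∧ t1 ∈ U ∧ g t1 ∈ U ∧ g⁻¹ t2 ∈ U ∧ t2 ∈ U ∧ g t2 ∈ U := by
    by_cases h2 : g (g t1) = t1
    · have hlt : ({t1, g t1} : Finset (Fin 8)).card < g.support.card :=
        lt_of_le_of_lt Finset.card_le_two (by omega)
      obtain ⟨t2, ht2, hn⟩ := Finset.exists_mem_notMem_of_card_lt_card hlt
      simp only [Finset.mem_insert, Finset.mem_singleton, not_or] at hn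
      rw [mem_support] at ht2
      refine ⟨t2, ht2, hn.1, hn.2, fun h => hn.2 ?_, {t1, g t1, g⁻¹ t2, t2, g t2}, Finset.card_le_five, ?_⟩
      · exact g.injective (h.trans h2.symm)
      · have : g⁻¹ t1 = g t1 := by
          rw [Perm.inv_def, Equiv.symm_apply_eq]
          exact h2.symm
        simp [this]
    · refine ⟨g (g t1), ?_, h2, ?_, ?_, {g⁻¹ t1, t1, g t1, g (g t1), g (g (g t1))}, Finset.card_le_five, ?_⟩
      · intro h; exact ht1 (g.injective (g.injective h))
      · intro h; exact ht1 (g.injective h)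
      · intro h; exact ht1 (h3 t1 h)
      · simp
  obtain ⟨t2, ht2, h21, h2g, hg2, U, hU, u1, u2, u3, u4, u5, u6⟩ := key
  obtain ⟨t3, ht3, hn⟩ := Finset.exists_mem_notMem_of_card_lt_card (by omega : U.card < g.support.card)
  rw [mem_support] at ht3
  have e : ∀ x, x ∈ U → t3 ≠ x := fun x hx h => hn (h ▸ hx)
  refine ⟨swap t1 t2 * swap t1 t3, isThreeCycle_swap_mul_swap_same (Ne.symm h21) (e t1 u2).symm (e t2 u5).symm, ?_⟩
  apply Disjoint.commute
  rw [disjoint_iff_disjoint_support, support_conj]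
  have hsub : (swap t1 t2 * swap t1 t3).support ⊆ {t1, t2, t3} := by
    refine (support_mul_le _ _).trans ?_
    intro x hx
    simp only [Finset.sup_eq_union, Finset.mem_union, mem_support, swap_apply_def] at hx
    simp only [Finset.mem_insert, Finset.mem_singleton]
    split_ifs at hx <;> simp_all
  rw [Finset.disjoint_left]
  intro x hx hx'
  obtain ⟨y, hy, rfl⟩ := Finset.mem_map.1 hx
  have hy' := hsub hy
  have hx'' := hsub hx'
  simp only [Finset.mem_insert, Finset.mem_singleton, Equiv.coe_toEmbedding] at hy' hx''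
  rcases hy' with rfl | rfl | rfl <;> rcases hx'' with h | h | h
  · exact ht1 h
  · exact h2g h.symm
  · exact e _ u3 h.symm
  · exact hg2 h
  · exact ht2 h
  · exact e _ u6 h.symm
  · exact e (g⁻¹ t1) u1 (by rw [Perm.inv_def, eq_comm, Equiv.symm_apply_eq]; exact h.symm)
  · exact e (g⁻¹ t2) u4 (by rw [Perm.inv_def, eq_comm, Equiv.symm_apply_eq]; exact h.symm)
  · exact ht3 h

/-- In the symmetric group of degree 8, let A be the subgroup generated by a 3-cycle. Then every conjugacy class contains an element g for which A is subnormal in the subgroup generated by A and its conjugate by g, although O_3 of the symmetric group of degree 8 is trivial. -/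
theorem result
    (σ : Equiv.Perm (Fin 8)) (hσ : σ.IsThreeCycle) :
    (∀ c : Equiv.Perm (Fin 8), ∃ g : Equiv.Perm (Fin 8), IsConj c g ∧
      ((Subgroup.zpowers σ).subgroupOf (Subgroup.zpowers σ ⊔ MulAut.conj g • Subgroup.zpowers σ)).IsSubnormal) ∧
    Cfsg.pCore 3 (Equiv.Perm (Fin 8)) = ⊥ := by
  refine ⟨fun c => ?_, ?_⟩
  · obtain ⟨τ, hτ, hcom⟩ := exists_three_cycle_commute c
    obtain ⟨r, hr⟩ := isConj_iff.1 ((isConj_iff_cycleType_eq (σ := τ) (τ := σ)).2 (by rw [hτ.cycleType, hσ.cycleType]))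
    refine ⟨r * c * r⁻¹, isConj_iff.2 ⟨r, rfl⟩, Subgroup.Normal.isSubnormal ?_⟩
    have h : Commute ((r * c * r⁻¹) * σ * (r * c * r⁻¹)⁻¹) σ := by
      have := hcom.map (MulAut.conj r).toMonoidHom
      simp only [MulEquiv.coe_toMonoidHom, MulAut.conj_apply] at this
      rw [← hr]
      rw [show (r * c * r⁻¹) * (r * τ * r⁻¹) * (r * c * r⁻¹)⁻¹ = r * (c * τ * c⁻¹) * r⁻¹ by group]
      exact this
    rw [Subgroup.normal_subgroupOf_iff_le_normalizer le_sup_left]
    refine sup_le Subgroup.le_normalizer (le_trans ?_ (Subgroup.centralizer_le_normalizer _))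
    intro x hx
    rw [Subgroup.mem_pointwise_smul_iff_inv_smul_mem, MulAut.smul_def, ← map_inv, MulAut.conj_apply, inv_inv,
      Subgroup.mem_zpowers_iff] at hx
    obtain ⟨k, hk⟩ := hx
    rw [Subgroup.mem_centralizer_iff]
    intro y hy
    obtain ⟨l, rfl⟩ := Subgroup.mem_zpowers_iff.1 hy
    have hx' : x = ((r * c * r⁻¹) * σ * (r * c * r⁻¹)⁻¹) ^ k := by
      rw [conj_zpow, hk]; group
    rw [hx']
    exact ((h.zpow_left k).zpow_right l).symm.eq
  · by_contra hne
    have hP : IsPGroup 3 (Cfsg.pCore 3 (Equiv.Perm (Fin 8))) := CfsgLib.Solvable.pCore_isPGroup 3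
    have := CfsgLib.Solvable.pCore_normal 3 (Equiv.Perm (Fin 8))
    have hle : alternatingGroup (Fin 8) ≤ Cfsg.pCore 3 (Equiv.Perm (Fin 8)) :=
      Equiv.Perm.alternatingGroup_le_of_normal (by simp) ((Subgroup.nontrivial_iff_ne_bot _).2 hne)
    have hmem : Equiv.swap (0 : Fin 8) 1 * Equiv.swap 2 3 ∈ alternatingGroup (Fin 8) := by
      rw [Equiv.Perm.mem_alternatingGroup]; decide +kernel
    obtain ⟨k, hk⟩ := hP ⟨_, hle hmem⟩
    have hk' : (Equiv.swap (0 : Fin 8) 1 * Equiv.swap 2 3) ^ (3 ^ k) = 1 := by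
      simpa [Subtype.ext_iff] using hk
    have h2 : (Equiv.swap (0 : Fin 8) 1 * Equiv.swap 2 3) ^ 2 = 1 := by decide +kernel
    have h4 := pow_gcd_eq_one.2 ⟨hk', h2⟩
    rw [Nat.Coprime.gcd_eq_one (Nat.Coprime.pow_left _ (by decide)), pow_one] at h4
    revert h4
    decide +kernel

end Cfsg.Agent.S4332
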