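import Cfsg.Statements.S4334
import Cfsg.Agent.Lib.StructC.SplitHall
open scoped Pointwise

set_option autoImplicit false
open Cfsg

namespace Cfsg.Agent.S4334

/-- Let σ and τ be disjoint sets of primes with union π. Suppose a finite group G has a Hall π-subgroup H which is the direct product of a nilpotent σ-subgroup and a τ-subgroup (two elementwise-commuting subgroups generating H), and that the maximal τ-subgroups of G are pairwise conjugate. Then the maximal π-subgroups of G are pairwise conjugate. -/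
theorem result {G : Type*} [Group G] [Finite G]
    (σ τ π : Set ℕ) (hπ : π = σ ∪ τ) (hd : Disjoint σ τ) (H Hs Ht : Subgroup G) (hH : Cfsg.IsPiHall π H)
    (hs : Cfsg.IsPiSubgroup σ Hs) (ht : Cfsg.IsPiSubgroup τ Ht) (hsn : Group.IsNilpotent Hs)
    (hjoin : Hs ⊔ Ht = H) (hcomm : ∀ a ∈ Hs, ∀ b ∈ Ht, a * b = b * a) (hD : Cfsg.IsDPiGroup τ G) :
    Cfsg.IsDPiGroup π G := by
  have hHall : (Nat.card H).Coprime H.index :=
    Nat.coprime_of_dvd fun r hr h1 h2 => hH.2 r hr (hH.1 r hr h1) h2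
  have hsH : Hs ≤ H := hjoin ▸ le_sup_left
  have htH : Ht ≤ H := hjoin ▸ le_sup_right
  -- the Hall property of both factors
  have hcop : (Nat.card Hs).Coprime (Nat.card Ht) :=
    Nat.coprime_of_dvd fun r hr h1 h2 => Set.disjoint_left.1 hd (hs r hr h1) (ht r hr h2)
  have hnorm : Ht ≤ Subgroup.normalizer (Hs : Set G) := fun b hb =>
    Subgroup.centralizer_le_normalizer _ (Subgroup.mem_centralizer_iff.2 fun a ha => hcomm a ha b hb)
  have hcard : Nat.card H = Nat.card Hs * Nat.card Ht := by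
    have hd' : Disjoint Hs Ht := disjoint_iff.2 (Subgroup.inf_eq_bot_of_coprime hcop)
    rw [← hjoin, ← Nat.card_prod]
    refine (Nat.card_congr (Equiv.ofBijective
      (fun q : Hs × Ht => (⟨q.1 * q.2, mul_mem (Subgroup.mem_sup_left q.1.2) (Subgroup.mem_sup_right q.2.2)⟩ :
        (Hs ⊔ Ht : Subgroup G))) ⟨?_, ?_⟩)).symm
    · intro q₁ q₂ e
      exact Subgroup.mul_injective_of_disjoint hd' (congrArg Subtype.val e)
    · rintro ⟨z, hz⟩
      rw [← SetLike.mem_coe, Subgroup.coe_mul_of_right_le_normalizer_left _ _ hnorm] at hz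
      obtain ⟨a, ha, b, hb, rfl⟩ := hz
      exact ⟨(⟨a, ha⟩, ⟨b, hb⟩), rfl⟩
  have hidx : ∀ r : ℕ, r.Prime → r ∈ σ → r ∣ Nat.card H → r ∣ Nat.card Hs := fun r hr hrσ hrH => by
    rw [hcard] at hrH
    exact (hr.dvd_mul.1 hrH).resolve_right fun h => Set.disjoint_left.1 hd hrσ (ht r hr h)
  have hsHall : (Nat.card Hs).Coprime Hs.index := by
    refine Nat.coprime_of_dvd fun r hr h1 h2 => ?_
    rw [← Subgroup.relIndex_mul_index hsH] at h2
    rcases hr.dvd_mul.1 h2 with h | h
    · have hrel : Hs.relIndex H = Nat.card Ht := by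
        have e := (Hs.subgroupOf H).index_mul_card
        rw [Nat.card_congr (Subgroup.subgroupOfEquivOfLe hsH).toEquiv, hcard, mul_comm] at e
        exact Nat.eq_of_mul_eq_mul_left Nat.card_pos e
      rw [hrel] at h
      exact Set.disjoint_left.1 hd (hs r hr h1) (ht r hr h)
    · exact hH.2 r hr (hH.1 r hr (h1.trans (Subgroup.card_dvd_of_le hsH))) h
  have hc : ∀ s ∈ σ, s.Prime → s ∣ Nat.card H → CfsgLib.StructC.SplitHall.Central H s := by
    intro s hsσ hsp hsd
    have := Fact.mk hsp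
    obtain ⟨Q, hQ, hQc⟩ := CfsgLib.Solvable.exists_sylow_le_centralized Hs hsHall (hidx s hsp hsσ hsd)
    refine CfsgLib.StructC.SplitHall.central_of_one Q (hQ.trans hsH) fun z hz hzs => ?_
    rw [← hjoin, ← SetLike.mem_coe, Subgroup.coe_mul_of_right_le_normalizer_left _ _ hnorm] at hz
    obtain ⟨a, ha, b, hb, rfl⟩ := hz
    rw [SetLike.mem_coe] at ha hb
    refine mul_mem (hQc a ha ?_) (Subgroup.mem_centralizer_iff.2 fun q hq => hcomm q (hQ hq) b hb)
    have hab : (orderOf a).Coprime (orderOf b) :=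
      (hcop.coprime_dvd_left (Subgroup.orderOf_dvd_natCard _ ha)).coprime_dvd_right
        (Subgroup.orderOf_dvd_natCard _ hb)
    rw [(show Commute a b from hcomm a ha b hb).orderOf_mul_eq_mul_orderOf_of_coprime hab] at hzs
    exact Nat.Coprime.coprime_mul_right hzs
  -- every `τ`-subgroup is conjugate into `Ht`
  have hmax : ∀ L : Subgroup G, Cfsg.IsPiSubgroup τ L → ∃ M, L ≤ M ∧ Maximal (Cfsg.IsPiSubgroup τ) M :=
    fun L hL => Finite.exists_le_maximal hL
  have hτ : ∀ K : Subgroup G, (∀ r : ℕ, r.Prime → r ∣ Nat.card K → r ∣ Nat.card H ∧ r ∉ σ) →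
      ∃ x : G, K ≤ MulAut.conj x • H := by
    intro K hK
    have hKτ : Cfsg.IsPiSubgroup τ K := fun r hr hrK => by
      have h := hH.1 r hr (hK r hr hrK).1
      rw [hπ] at h
      exact h.resolve_left (hK r hr hrK).2
    obtain ⟨M₁, hKM, hM₁⟩ := hmax K hKτ
    obtain ⟨M₂, htM, hM₂⟩ := hmax Ht ht
    have hM₂H : M₂ = Ht := by
      refine (Subgroup.eq_of_le_of_card_ge htM (Nat.le_of_dvd Nat.card_pos ?_)).symm
      have h1 : Nat.card M₂ ∣ Nat.card Hs * Nat.card Ht * H.index := by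
        rw [← hcard, Subgroup.card_mul_index]; exact Subgroup.card_subgroup_dvd_card M₂
      refine (Nat.Coprime.dvd_of_dvd_mul_left ?_ (Nat.Coprime.dvd_of_dvd_mul_right ?_ h1))
      · exact Nat.coprime_of_dvd fun r hr h2 h3 => Set.disjoint_left.1 hd (hs r hr h3) (hM₂.1 r hr h2)
      · exact Nat.coprime_of_dvd fun r hr h2 h3 => hH.2 r hr (hπ ▸ Or.inr (hM₂.1 r hr h2)) h3
    obtain ⟨g, hg⟩ := hD M₂ M₁ hM₂ hM₁
    refine ⟨g, hKM.trans (hg.le.trans ?_)⟩
    rw [hM₂H, ← CfsgLib.Solvable.conj_smul_eq_map]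
    exact CfsgLib.Solvable.conj_smul_mono g htH
  intro A B hA hB
  have key : ∀ A : Subgroup G, Maximal (Cfsg.IsPiSubgroup π) A → ∃ x : G, A = MulAut.conj x • H := by
    intro A hA
    obtain ⟨x, hx⟩ := CfsgLib.StructC.SplitHall.exists_conj_le hHall σ hc hτ _ A rfl fun r hr hrA => by
      have h := hA.1 r hr hrA
      by_contra hn
      refine hH.2 r hr h ?_
      have h' := hrA.trans (Subgroup.card_subgroup_dvd_card A)
      rw [← H.card_mul_index] at h'
      exact (hr.dvd_mul.1 h').resolve_left hn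
    refine ⟨x, le_antisymm hx (hA.2 ?_ hx)⟩
    intro r hr hrH
    rw [CfsgLib.Solvable.card_conj_smul] at hrH
    exact hH.1 r hr hrH
  obtain ⟨x, rfl⟩ := key A hA
  obtain ⟨y, rfl⟩ := key B hB
  refine ⟨y * x⁻¹, ?_⟩
  rw [← CfsgLib.Solvable.conj_smul_eq_map, CfsgLib.Solvable.conj_smul_conj_smul, inv_mul_cancel_right]

end Cfsg.Agent.S4334
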