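import Cfsg.Statements.S4337
import Cfsg.Agent.Lib.StructC.SwapGraph
import Cfsg.Agent.Lib.Char.Burnside

set_option autoImplicit false
open Cfsg
open scoped Pointwise

namespace Cfsg.Agent.S4337

/-- In a finite symmetric group, any three transpositions generate a solvable subgroup. -/
theorem result (n : ℕ) (a b c : Equiv.Perm (Fin n))
    (ha : a.IsSwap) (hb : b.IsSwap) (hc : c.IsSwap) :
    Group.IsSolvable (Subgroup.closure ({a, b, c} : Set (Equiv.Perm (Fin n)))) := by
  classical
  have ht : ∀ i : Fin 3, (![a, b, c] i).IsSwap := fun i => by fin_cases i <;> assumption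
  obtain ⟨col, hcol, hcard⟩ := CfsgLib.StructC.exists_colouring ![a, b, c] ht
  have hrange : Set.range ![a, b, c] = ({a, b, c} : Set (Equiv.Perm (Fin n))) := by
    ext z
    simp only [Set.mem_range, Fin.exists_fin_succ, Set.mem_insert_iff, Set.mem_singleton_iff]
    simp [eq_comm]
  rw [hrange] at hcol
  set K := Subgroup.closure ({a, b, c} : Set (Equiv.Perm (Fin n)))
  -- restriction to each colour class
  have hres : ∀ (y : Fin n) (g : K) (x : Fin n), col x = y ↔ col ((g : Equiv.Perm (Fin n)) x) = y :=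
    fun y g x => by rw [hcol _ g.2 x]
  let φ : (y : Fin n) → K →* Equiv.Perm {x : Fin n // col x = y} := fun y =>
    { toFun := fun g => (g : Equiv.Perm (Fin n)).subtypePerm (fun x => (hres y g x).symm)
      map_one' := by ext x; rfl
      map_mul' := fun g g' => by ext x; rfl }
  have hsol : ∀ y, Group.IsSolvable (Equiv.Perm {x : Fin n // col x = y}) := by
    intro y
    have hle : Fintype.card {x : Fin n // col x = y} ≤ 4 := by
      rw [Fintype.card_subtype]; exact CfsgLib.StructC.card_fibre_le hcard y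
    have hd : Nat.card (Equiv.Perm {x : Fin n // col x = y}) ∣ 2 ^ 3 * 3 ^ 1 := by
      rw [Nat.card_perm, Nat.card_eq_fintype_card]
      exact (Nat.factorial_dvd_factorial hle).trans (dvd_of_eq rfl)
    obtain ⟨u, v, hu, hv, he⟩ := exists_dvd_and_dvd_of_dvd_mul hd
    obtain ⟨i, -, rfl⟩ := (Nat.dvd_prime_pow Nat.prime_two).mp hu
    obtain ⟨j, -, rfl⟩ := (Nat.dvd_prime_pow Nat.prime_three).mp hv
    exact CfsgLib.Char.burnside_pq 2 3 Nat.prime_two Nat.prime_three i j _ he
  choose k hk using fun y => (hsol y).solvable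
  refine ⟨⟨Finset.univ.sup k, eq_bot_iff.mpr fun g hg => ?_⟩⟩
  rw [Subgroup.mem_bot]
  refine Subtype.ext (Equiv.ext fun x => ?_)
  have h1 : φ (col x) g ∈ derivedSeries _ (Finset.univ.sup k) :=
    map_derivedSeries_le_derivedSeries (φ (col x)) _ (Subgroup.mem_map_of_mem _ hg)
  have h2 := derivedSeries_antitone _ (Finset.le_sup (f := k) (Finset.mem_univ (col x))) h1
  rw [hk, Subgroup.mem_bot] at h2
  exact congrArg Subtype.val (Equiv.congr_fun h2 ⟨x, rfl⟩)

end Cfsg.Agent.S4337
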