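import Cfsg.Statements.S4344
import Cfsg.Agent.Lib.Solvable.Basic

set_option autoImplicit false
open Cfsg
open scoped Pointwise

namespace Cfsg.Agent.S4344

/-- Let S be a finite non-abelian simple group, M a maximal subgroup of S and C a cyclic normal subgroup of M. If a Sylow p-subgroup P of S (for a prime p dividing the order of S) is contained in C, then the number of Sylow p-subgroups of S equals the index of M. -/
theorem result {S : Type*} [Group S] [Finite S]
    [IsSimpleGroup S] (hS : ¬ IsMulCommutative S) (p : ℕ) [Fact p.Prime] (hp : p ∣ Nat.card S)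
    (M : Subgroup S) (hM : IsCoatom M) (C : Subgroup S) (hCM : C ≤ M) (hCn : (C.subgroupOf M).Normal)
    (hC : IsCyclic C) (P : Sylow p S) (hP : (P : Subgroup S) ≤ C) :
    Nat.card (Sylow p S) = M.index := by
  have : Fact p.Prime := inferInstance
  rw [Sylow.card_eq_index_normalizer P]
  congr 1
  have hPne : (P : Subgroup S) ≠ ⊥ := P.ne_bot_of_dvd_card hp
  have hle : M ≤ Subgroup.normalizer ((P : Subgroup S) : Set S) := by
    intro m hm
    rw [← CfsgLib.Solvable.conj_smul_eq_self_iff]
    have hCm : MulAut.conj m • C = C := CfsgLib.Solvable.conj_smul_eq_self_iff.mpr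
      ((Subgroup.normal_subgroupOf_iff_le_normalizer hCM).mp hCn hm)
    have hle : MulAut.conj m • (P : Subgroup S) ≤ C := hCm ▸ CfsgLib.Solvable.conj_smul_mono m hP
    have hCN : C ≤ Subgroup.normalizer ((P : Subgroup S) : Set S) := by
      intro c hc
      refine Subgroup.mem_normalizer_iff.mpr fun z => ?_
      have hcomm : ∀ a ∈ C, a * c = c * a := fun a ha =>
        congrArg Subtype.val ((IsCyclic.isMulCommutative (α := C)).is_comm.comm ⟨a, ha⟩ ⟨c, hc⟩)
      constructor
      · intro hz; rwa [← hcomm z (hP hz), mul_inv_cancel_right]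
      · intro hz
        have := hcomm _ (hP hz)
        rw [inv_mul_cancel_right] at this
        have e : c * z * c⁻¹ * c = c * (c * z * c⁻¹) := hcomm _ (hP hz)
        rw [inv_mul_cancel_right] at e
        rw [mul_left_cancel e]; exact hz
    have h1 : MulAut.conj m • (P : Subgroup S) ≤ (P : Subgroup S) := by
      have hpg : IsPGroup p (MulAut.conj m • (P : Subgroup S) : Subgroup S) :=
        P.isPGroup'.of_equiv (Subgroup.equivSMul _ _)
      exact inf_eq_left.mp ((hpg.inf_normalizer_sylow P).symm.trans (inf_eq_left.mpr (hle.trans hCN)))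
    exact Subgroup.eq_of_le_of_card_ge h1 (CfsgLib.Solvable.card_conj_smul m _).ge
  refine ((hM.le_iff.mp hle).resolve_left ?_)
  intro htop
  have hn : (P : Subgroup S).Normal := Subgroup.normalizer_eq_top_iff.mp htop
  rcases hn.eq_bot_or_eq_top with h | h
  · exact hPne h
  · have hcm : IsMulCommutative S := by
      have hC' : C = ⊤ := top_le_iff.mp (h ▸ hP)
      exact absurd (top_le_iff.mp (hC' ▸ hCM)) hM.1
    exact hS hcm

end Cfsg.Agent.S4344
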