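import Cfsg.Statements.S4345
import Cfsg.Agent.Lib.StructC.SylowFibre
import Cfsg.Agent.Lib.Solvable.MinNormal

set_option autoImplicit false
open Cfsg
open scoped Pointwise
set_option linter.style.haveILetI false

namespace Cfsg.Agent.S4345

theorem aux_prime_power_part (n : ℕ) : ∀ (G : Type*) [Group G] [Finite G], Nat.card G = n →
    Group.IsSolvable G → ∀ (p ℓ : ℕ) [Fact p.Prime], ℓ.Prime →
    ℓ ^ (Nat.card (Sylow p G)).factorization ℓ ≡ 1 [MOD p] := by
  induction n using Nat.strong_induction_on with
  | _ n ih =>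
    intro G _ _ hcard hG p ℓ hp hℓ
    rcases subsingleton_or_nontrivial G with hs | hnt
    · have hle := Sylow.card_dvd_index (p := p) (G := G) default
      have h1 : Nat.card (Sylow p G) = 1 := by
        have : ((default : Sylow p G) : Subgroup G) = ⊤ := Subsingleton.elim _ _
        rw [this, Subgroup.index_top] at hle
        exact Nat.dvd_one.1 hle
      simp [h1, Nat.ModEq.refl]
    obtain ⟨K, hKn, hK1, hKmin⟩ := CfsgLib.Solvable.exists_minimal_normal (G := G)
    have := hKn
    have := hG
    obtain ⟨q, hq, hKq, -, -⟩ := CfsgLib.Solvable.exists_isPGroup_of_minimal_normal hK1 hKmin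
    let P : Sylow p G := default
    rw [CfsgLib.StructC.card_sylow_eq_mul_quotient K P]
    have hlt : Nat.card (G ⧸ K) < n := by
      have h1 := Subgroup.card_eq_card_quotient_mul_card_subgroup K
      have h2 : 1 < Nat.card K := K.one_lt_card_iff_ne_bot.2 hK1
      have h3 : 0 < Nat.card (G ⧸ K) := Nat.card_pos
      rw [← hcard, h1]
      exact lt_mul_of_one_lt_right h3 h2
    have IH := ih _ hlt (G ⧸ K) rfl inferInstance p ℓ hℓ
    rw [Nat.factorization_mul Nat.card_pos.ne' Nat.card_pos.ne', Finsupp.add_apply, pow_add]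
    refine (IH.mul ?_).trans (by rw [mul_one])
    set L := (P : Subgroup G) ⊔ K
    let PL : Sylow p L := P.subtype le_sup_left
    have hdvd : Nat.card (Sylow p L) ∣ Nat.card K := by
      have h1 : Nat.card L ∣ Nat.card (P : Subgroup G) * Nat.card K := by
        rw [← Subgroup.relIndex_bot_left L, ← Subgroup.relIndex_mul_relIndex ⊥ K L bot_le le_sup_right,
          Subgroup.relIndex_bot_left, mul_comm]
        refine Nat.mul_dvd_mul_right ?_ _
        rw [Subgroup.relIndex_sup_right]
        exact Subgroup.relIndex_dvd_card _ _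
      have h2 : Nat.Coprime (Nat.card (Sylow p L)) (Nat.card (P : Subgroup G)) := by
        obtain ⟨a, ha⟩ := IsPGroup.iff_card.1 P.isPGroup'
        rw [ha]
        exact ((hp.out.coprime_iff_not_dvd.2 (not_dvd_card_sylow p L)).symm).pow_right _
      exact h2.dvd_of_dvd_mul_left
        ((PL.card_dvd_index.trans (Subgroup.index_dvd_card _)).trans h1)
    have : Fact q.Prime := ⟨hq⟩
    obtain ⟨j, hj⟩ := IsPGroup.iff_card.1 hKq
    rw [hj] at hdvd
    obtain ⟨i, -, hi⟩ := (Nat.dvd_prime_pow hq).1 hdvd
    rw [hi]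
    rcases eq_or_ne ℓ q with rfl | hne
    · rw [hℓ.factorization_pow, Finsupp.single_eq_same, ← hi]
      exact card_sylow_modEq_one p L
    · rw [hq.factorization_pow, Finsupp.single_eq_of_ne hne, pow_zero]

/-- Let G be a finite solvable group and p, ℓ primes. Then the largest power of ℓ dividing the number of Sylow p-subgroups of G is congruent to 1 modulo p. -/
theorem result {G : Type*} [Group G] [Finite G]
    (hG : Group.IsSolvable G) (p ℓ : ℕ) [Fact p.Prime] (hℓ : ℓ.Prime) :
    ℓ ^ (Nat.card (Sylow p G)).factorization ℓ ≡ 1 [MOD p] := by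
  exact aux_prime_power_part _ G rfl hG p ℓ hℓ

end Cfsg.Agent.S4345
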