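import Cfsg.Statements.S4347

set_option autoImplicit false
open Cfsg

namespace Cfsg.Agent.S4347

/-- Let G be a finite group and p a prime. Say a Sylow p-subgroup Q is redundant when every element of p-power order lies in some Sylow p-subgroup other than Q. Then G has no redundant Sylow p-subgroup if and only if some element of p-power order lies in exactly one Sylow p-subgroup. -/
theorem result {G : Type*} [Group G] [Finite G]
    (p : ℕ) [Fact p.Prime] :
    (¬ ∃ Q : Sylow p G, ∀ x : G, (∃ k : ℕ, orderOf x = p ^ k) → ∃ P : Sylow p G, P ≠ Q ∧ x ∈ P) ↔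
      ∃ x : G, (∃ k : ℕ, orderOf x = p ^ k) ∧ ∃! P : Sylow p G, x ∈ P := by
  constructor
  · intro h
    by_contra hc
    push Not at hc
    refine h ⟨default, fun x hx => ?_⟩
    by_contra hno
    push Not at hno
    obtain ⟨k, hk⟩ := hx
    obtain ⟨Q, hQ⟩ := IsPGroup.exists_le_sylow (IsPGroup.of_card (p := p) (n := k)
      (by rw [Nat.card_zpowers, hk] : Nat.card (Subgroup.zpowers x) = p ^ k))
    have hxQ : x ∈ Q := hQ (Subgroup.mem_zpowers x)
    refine hc x ⟨k, hk⟩ ⟨Q, hxQ, fun R hR => ?_⟩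
    by_cases hR' : R = default
    · by_contra hne
      exact hno Q (fun h' => hne (hR'.trans h'.symm)) hxQ
    · exact absurd hR (hno R hR')
  · rintro ⟨x, hx, P, hP, huniq⟩ ⟨Q, hQ⟩
    obtain ⟨R, hRQ, hR⟩ := hQ x hx
    obtain ⟨g, hg⟩ := MulAction.exists_smul_eq G P Q
    -- the conjugate of `x` lies only in `Q`
    have hmem : ∀ (S : Sylow p G) (z : G), MulAut.conj g z ∈ g • S ↔ z ∈ S := by
      intro S z
      show MulAut.conj g z ∈ ((g • S : Sylow p G) : Subgroup G) ↔ _
      rw [Sylow.coe_subgroup_smul, Subgroup.mem_pointwise_smul_iff_inv_smul_mem]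
      simp [MulAut.smul_def, mul_assoc]
      exact Iff.rfl
    obtain ⟨k, hk⟩ := hx
    obtain ⟨S, hSQ, hS⟩ := hQ (MulAut.conj g x) ⟨k, by rw [MulEquiv.orderOf_eq, hk]⟩
    have hS' : x ∈ g⁻¹ • S := (hmem _ x).mp (by rwa [smul_inv_smul])
    exact hSQ (by rw [← hg, ← huniq _ hS', smul_inv_smul])

end Cfsg.Agent.S4347
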