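import Cfsg.Statements.S4348
import Cfsg.Agent.Lib.Solvable.PCore

set_option autoImplicit false
open Cfsg
open scoped Pointwise

namespace Cfsg.Agent.S4348

/-- Let G be a finite group, p a prime and P a Sylow p-subgroup of G, and let O_p(G) be the largest normal p-subgroup of G. If P/O_p(G) is cyclic, then some element of p-power order of G lies in exactly one Sylow p-subgroup. -/
theorem result {G : Type*} [Group G] [Finite G]
    (p : ℕ) [Fact p.Prime] (P : Sylow p G)
    [hn : ((Cfsg.pCore p G).subgroupOf (P : Subgroup G)).Normal]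
    (hc : IsCyclic ((P : Subgroup G) ⧸ (Cfsg.pCore p G).subgroupOf (P : Subgroup G))) :
    ∃ x : G, (∃ k : ℕ, orderOf x = p ^ k) ∧ ∃! Q : Sylow p G, x ∈ Q := by
  obtain ⟨x, hx⟩ := hc.exists_generator
  induction x using QuotientGroup.induction_on with
  | _ x =>
    obtain ⟨k, hk⟩ := IsPGroup.iff_orderOf.mp P.isPGroup' x
    rw [← Subgroup.orderOf_coe] at hk
    refine ⟨x, ⟨k, hk⟩, P, x.2, fun Q hQ => ?_⟩
    have hle : (P : Subgroup G) ≤ (Q : Subgroup G) := by
      intro y hy
      obtain ⟨n, hn⟩ := Subgroup.mem_zpowers_iff.mp (hx (QuotientGroup.mk (⟨y, hy⟩ : (P : Subgroup G))))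
      rw [← QuotientGroup.mk_zpow, QuotientGroup.eq] at hn
      have h1 : ((x : G) ^ n)⁻¹ * y ∈ Cfsg.pCore p G := by simpa [Subgroup.mem_subgroupOf] using hn
      have h2 := CfsgLib.Solvable.pCore_le_sylow Q h1
      have h3 := (Q : Subgroup G).mul_mem ((Q : Subgroup G).zpow_mem hQ n) h2
      simpa using h3
    exact (Sylow.ext (P.is_maximal' Q.isPGroup' hle)).symm ▸ rfl

end Cfsg.Agent.S4348
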