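import Cfsg.Statements.S4354
import Cfsg.Agent.Lib.StructC.SylowFibre

set_option autoImplicit false
open Cfsg

namespace Cfsg.Agent.S4354

open scoped Pointwise

variable {G : Type*} [Group G] [Finite G] {p : ℕ} [Fact p.Prime]

/-- A `p`-element centralised by a Sylow `p`-subgroup lies in it. -/
theorem mem_sylow_of_centralizes {x : G} (hx : ∃ k, orderOf x = p ^ k) (R : Sylow p G)
    (h : (R : Subgroup G) ≤ Subgroup.centralizer ({x} : Set G)) : x ∈ (R : Subgroup G) := by
  obtain ⟨k, hk⟩ := hx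
  refine CfsgLib.StructC.le_sylow_of_sylow_le_normalizer (R := Subgroup.zpowers x)
    (IsPGroup.of_card (n := k) (by rw [Nat.card_zpowers, hk])) R ?_ (Subgroup.mem_zpowers x)
  refine h.trans (le_trans ?_ (Subgroup.centralizer_le_normalizer (s := (Subgroup.zpowers x : Set G))))
  rw [← Subgroup.centralizer_closure, ← Subgroup.zpowers_eq_closure]

/-- A centraliser of index prime to `p` contains a Sylow `p`-subgroup. -/
theorem exists_sylow_le {C : Subgroup G} (hC : ¬ p ∣ C.index) : ∃ R : Sylow p G, (R : Subgroup G) ≤ C := by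
  obtain ⟨S⟩ : Nonempty (Sylow p C) := inferInstance
  have hp' : IsPGroup p ((S : Subgroup C).map C.subtype) := S.isPGroup'.map _
  obtain ⟨R, hR⟩ := hp'.exists_le_sylow
  refine ⟨R, ?_⟩
  have hdvd : Nat.card (R : Subgroup G) ∣ Nat.card ((S : Subgroup C).map C.subtype) := by
    rw [Subgroup.card_map_of_injective C.subtype_injective]
    obtain ⟨k, hk⟩ := R.isPGroup'.exists_card_eq
    have h1 : p ^ k ∣ Nat.card C := by
      have h2 : p ^ k ∣ Nat.card C * C.index := by
        rw [C.card_mul_index, ← hk]; exact Subgroup.card_subgroup_dvd_card _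
      exact (((Fact.out : p.Prime).coprime_iff_not_dvd.2 hC).pow_left k).dvd_of_dvd_mul_right h2
    rw [hk]
    exact S.pow_dvd_card_of_pow_dvd_card h1
  rw [← Subgroup.eq_of_le_of_card_ge hR (Nat.le_of_dvd Nat.card_pos hdvd)]
  exact Subgroup.map_subtype_le _

variable (p) in
/-- All `p`-elements have class size prime to `p`. -/
def Central (G : Type*) [Group G] : Prop :=
  ∀ x : G, (∃ k : ℕ, orderOf x = p ^ k) → ¬ p ∣ (Subgroup.centralizer ({x} : Set G)).index

theorem central_normal (h : Central p G) (N : Subgroup G) [N.Normal] : Central p N := by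
  intro x hx
  obtain ⟨R, hR⟩ := exists_sylow_le (h (x : G) (by rwa [Subgroup.orderOf_coe]))
  intro hd
  refine (CfsgLib.StructC.infSylow N R).not_dvd_index (hd.trans (Subgroup.index_dvd_of_le ?_))
  rw [CfsgLib.StructC.coe_infSylow]
  intro z hz
  exact Subgroup.mem_centralizer_singleton_iff.2
    (Subtype.ext (Subgroup.mem_centralizer_singleton_iff.1 (hR (Subgroup.mem_subgroupOf.1 hz))))

theorem central_quotient (h : Central p G) (N : Subgroup G) [N.Normal] : Central p (G ⧸ N) := by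
  intro x hx
  obtain ⟨k, hk⟩ := hx
  have hzp : IsPGroup p (Subgroup.zpowers x) := IsPGroup.of_card (n := k) (by rw [Nat.card_zpowers, hk])
  obtain ⟨Q, hQ⟩ := hzp.exists_le_sylow
  obtain ⟨R, hR⟩ := Sylow.mapSurjective_surjective (QuotientGroup.mk'_surjective N) p Q
  have hxR : x ∈ (R : Subgroup G).map (QuotientGroup.mk' N) := by
    rw [← Sylow.coe_mapSurjective (QuotientGroup.mk'_surjective N), hR]
    exact hQ (Subgroup.mem_zpowers x)
  obtain ⟨y, hy, rfl⟩ := hxR
  obtain ⟨j, hj⟩ := R.isPGroup' ⟨y, hy⟩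
  obtain ⟨i, -, hi⟩ := (Nat.dvd_prime_pow Fact.out).1
    (orderOf_dvd_of_pow_eq_one (congrArg Subtype.val hj))
  obtain ⟨T, hT⟩ := exists_sylow_le (h y ⟨i, hi⟩)
  intro hd
  refine (T.mapSurjective (QuotientGroup.mk'_surjective N)).not_dvd_index
    (hd.trans (Subgroup.index_dvd_of_le ?_))
  rw [Sylow.coe_mapSurjective]
  rintro _ ⟨z, hz, rfl⟩
  rw [Subgroup.mem_centralizer_singleton_iff, ← map_mul, ← map_mul,
    Subgroup.mem_centralizer_singleton_iff.1 (hT hz)]

/-- Let G be a finite group and p a prime such that the Sylow p-subgroups of G are non-abelian while every element of p-power order has conjugacy class size prime to p, and suppose no nontrivial proper normal subgroup N of G has this property and no quotient G/N by such an N has it. Then G is simple. -/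
theorem result {G : Type*} [Group G] [Finite G]
    (p : ℕ) [Fact p.Prime] (h : ((∃ P : Sylow p G, ¬ IsMulCommutative P) ∧ ∀ x : G, (∃ k : ℕ, orderOf x = p ^ k) → ¬ p ∣ (Subgroup.centralizer ({x} : Set G)).index))
    (hmin : ∀ (N : Subgroup G) [N.Normal], N ≠ ⊥ → N ≠ ⊤ →
      ¬ ((∃ P : Sylow p N, ¬ IsMulCommutative P) ∧ ∀ x : N, (∃ k : ℕ, orderOf x = p ^ k) → ¬ p ∣ (Subgroup.centralizer ({x} : Set N)).index) ∧
      ¬ ((∃ P : Sylow p (G ⧸ N), ¬ IsMulCommutative P) ∧ ∀ x : (G ⧸ N), (∃ k : ℕ, orderOf x = p ^ k) → ¬ p ∣ (Subgroup.centralizer ({x} : Set (G ⧸ N))).index)) :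
    IsSimpleGroup G := by
  obtain ⟨⟨P₀, hP₀⟩, hc⟩ := h
  have hcen : Central p G := hc
  have hsmall : ∀ (N : Subgroup G) [N.Normal], N ≠ ⊥ → N ≠ ⊤ →
      (∀ P : Sylow p N, IsMulCommutative P) ∧ (∀ P : Sylow p (G ⧸ N), IsMulCommutative P) :=
    fun N _ h0 h1 => ⟨fun P => by_contra fun hP => (hmin N h0 h1).1 ⟨⟨P, hP⟩, central_normal hcen N⟩,
      fun P => by_contra fun hP => (hmin N h0 h1).2 ⟨⟨P, hP⟩, central_quotient hcen N⟩⟩
  have hnt : Nontrivial G := by
    by_contra hn
    have := not_nontrivial_iff_subsingleton.1 hn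
    exact hP₀ ⟨⟨fun a b => Subsingleton.elim _ _⟩⟩
  -- `G` is generated by its `p`-elements
  have hgen : ∀ (M : Subgroup G) [M.Normal], (∀ P : Sylow p G, (P : Subgroup G) ≤ M) → M = ⊤ := by
    intro M _ hM
    by_contra hM1
    have hM0 : M ≠ ⊥ := fun e => hP₀ ⟨⟨fun a b => Subtype.ext (by
      have ha : (a : G) = 1 := Subgroup.mem_bot.1 (e ▸ hM P₀ a.2)
      have hb : (b : G) = 1 := Subgroup.mem_bot.1 (e ▸ hM P₀ b.2)
      rw [Subgroup.coe_mul, Subgroup.coe_mul, ha, hb])⟩⟩
    have := (hsmall M hM0 hM1).1 (P₀.subtype (hM P₀))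
    refine hP₀ ⟨⟨fun a b => ?_⟩⟩
    have ha : (⟨(a : G), hM P₀ a.2⟩ : M) ∈ ((P₀.subtype (hM P₀) : Sylow p M) : Subgroup M) := by
      rw [Sylow.coe_subtype]; exact a.2
    have hb : (⟨(b : G), hM P₀ b.2⟩ : M) ∈ ((P₀.subtype (hM P₀) : Sylow p M) : Subgroup M) := by
      rw [Sylow.coe_subtype]; exact b.2
    have e : (⟨(a : G), hM P₀ a.2⟩ : M) * ⟨(b : G), hM P₀ b.2⟩ = ⟨(b : G), hM P₀ b.2⟩ * ⟨(a : G), hM P₀ a.2⟩ :=
      congrArg Subtype.val (mul_comm' (⟨_, ha⟩ : ((P₀.subtype (hM P₀) : Sylow p M) : Subgroup M)) ⟨_, hb⟩)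
    exact Subtype.ext (congrArg Subtype.val e : _)
  refine { exists_pair_ne := hnt.exists_pair_ne, eq_bot_or_eq_top_of_normal := fun N hN => ?_ }
  by_contra hcon
  push Not at hcon
  obtain ⟨hN0, hN1⟩ := hcon
  obtain ⟨hNab, hQab⟩ := hsmall N hN0 hN1
  set π := QuotientGroup.mk' N
  have hπ := QuotientGroup.mk'_surjective N
  -- the centraliser of a Sylow subgroup of `N` covers `G ⧸ N`
  set D := (P₀ : Subgroup G) ⊓ N with hD
  set C := Subgroup.centralizer (D : Set G) with hC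
  have hDsyl : ((CfsgLib.StructC.infSylow N P₀ : Sylow p N) : Subgroup N).map N.subtype = D := by
    rw [CfsgLib.StructC.coe_infSylow, Subgroup.subgroupOf_map_subtype]
  have hfr : Subgroup.normalizer (D : Set G) ⊔ N = ⊤ :=
    hDsyl ▸ Sylow.normalizer_sup_eq_top (CfsgLib.StructC.infSylow N P₀)
  have hCN : C ⊔ N = ⊤ := by
    have : (C ⊔ N).Normal := by
      refine Subgroup.normalizer_eq_top_iff.1 (top_le_iff.1 (hfr ▸ sup_le ?_ ?_))
      · intro g hg
        refine Subgroup.normalizer_inf_normalizer_le_normalizer_sup C N ⟨?_, ?_⟩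
        · refine Subgroup.mem_normalizer_iff.2 fun z => ?_
          rw [hC]
          simp only [Subgroup.mem_centralizer_iff, SetLike.mem_coe]
          constructor
          · intro hz t ht
            have h' := hz (g⁻¹ * t * g) ((Subgroup.mem_normalizer_iff''.1 hg t).1 ht)
            calc t * (g * z * g⁻¹) = g * (g⁻¹ * t * g * z) * g⁻¹ := by group
              _ = g * (z * (g⁻¹ * t * g)) * g⁻¹ := by rw [h']
              _ = g * z * g⁻¹ * t := by group
          · intro hz t ht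
            have h' := hz (g * t * g⁻¹) ((Subgroup.mem_normalizer_iff.1 hg t).1 ht)
            calc t * z = g⁻¹ * (g * t * g⁻¹ * (g * z * g⁻¹)) * g := by group
              _ = g⁻¹ * (g * z * g⁻¹ * (g * t * g⁻¹)) * g := by rw [h']
              _ = z * t := by group
        · rw [Subgroup.normalizer_eq_top]; exact Subgroup.mem_top g
      · exact le_sup_right.trans Subgroup.le_normalizer
    refine hgen _ fun P x hx => ?_
    obtain ⟨j, hj⟩ := P.isPGroup' ⟨x, hx⟩
    obtain ⟨i, -, hi⟩ := (Nat.dvd_prime_pow Fact.out).1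
      (orderOf_dvd_of_pow_eq_one (congrArg Subtype.val hj))
    obtain ⟨R, hR⟩ := exists_sylow_le (hc x ⟨i, hi⟩)
    obtain ⟨g, hg⟩ := MulAction.exists_smul_eq G R P₀
    have hgx : g * x * g⁻¹ ∈ C := by
      rw [hC, Subgroup.mem_centralizer_iff]
      intro d hd
      have hd' : g⁻¹ * d * g ∈ (R : Subgroup G) := by
        have h' : d ∈ ((g • R : Sylow p G) : Subgroup G) := hg.symm ▸ hd.1
        rw [Sylow.coe_subgroup_smul, Subgroup.mem_pointwise_smul_iff_inv_smul_mem] at h'
        simpa [MulAut.smul_def] using h'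
      have h' := Subgroup.mem_centralizer_singleton_iff.1 (hR hd')
      calc d * (g * x * g⁻¹) = g * (g⁻¹ * d * g * x) * g⁻¹ := by group
        _ = g * (x * (g⁻¹ * d * g)) * g⁻¹ := by rw [h']
        _ = g * x * g⁻¹ * d := by group
    have := this.conj_mem _ ((le_sup_left : C ≤ C ⊔ N) hgx) g⁻¹
    simpa [mul_assoc] using this
  -- a Sylow subgroup of `G` inside `C`
  have hDab : IsMulCommutative D := by
    have := hNab (CfsgLib.StructC.infSylow N P₀)
    refine ⟨⟨fun a b => ?_⟩⟩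
    have ha : (⟨(a : G), a.2.2⟩ : N) ∈ ((CfsgLib.StructC.infSylow N P₀ : Sylow p N) : Subgroup N) := by
      rw [CfsgLib.StructC.coe_infSylow, Subgroup.mem_subgroupOf]; exact a.2.1
    have hb : (⟨(b : G), b.2.2⟩ : N) ∈ ((CfsgLib.StructC.infSylow N P₀ : Sylow p N) : Subgroup N) := by
      rw [CfsgLib.StructC.coe_infSylow, Subgroup.mem_subgroupOf]; exact b.2.1
    have e : (⟨(a : G), a.2.2⟩ : N) * ⟨(b : G), b.2.2⟩ = ⟨(b : G), b.2.2⟩ * ⟨(a : G), a.2.2⟩ :=
      congrArg Subtype.val (mul_comm' (⟨_, ha⟩ :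
        ((CfsgLib.StructC.infSylow N P₀ : Sylow p N) : Subgroup N)) ⟨_, hb⟩)
    exact Subtype.ext (congrArg Subtype.val e : _)
  have hDC : D ≤ C := Subgroup.le_centralizer D
  obtain ⟨P, hPC⟩ : ∃ P : Sylow p G, (P : Subgroup G) ≤ C := by
    refine exists_sylow_le fun hd => ?_
    have h1 : C.index * N.index = (C ⊓ N).relIndex N * N.index := by
      rw [Subgroup.relIndex_mul_index (inf_le_right : C ⊓ N ≤ N),
        ← Subgroup.relIndex_mul_index (inf_le_left : C ⊓ N ≤ C), Subgroup.inf_relIndex_left,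
        ← Subgroup.relIndex_sup_right, hCN, Subgroup.relIndex_top_right, mul_comm]
    have h2 : p ∣ D.relIndex N :=
      (Nat.eq_of_mul_eq_mul_right (Nat.pos_of_ne_zero Subgroup.index_ne_zero_of_finite) h1 ▸ hd).trans
        (Subgroup.relIndex_dvd_of_le_left N (le_inf hDC inf_le_right))
    refine (CfsgLib.StructC.infSylow N P₀).not_dvd_index ?_
    rw [CfsgLib.StructC.coe_infSylow]
    rw [hD, Subgroup.inf_relIndex_right] at h2
    exact h2
  have hDP : D ≤ (P : Subgroup G) := CfsgLib.StructC.le_sylow_of_sylow_le_normalizer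
    (P₀.isPGroup'.to_le inf_le_left) P (hPC.trans (Subgroup.centralizer_le_normalizer _))
  have hPN : ∀ d ∈ (P : Subgroup G), d ∈ N → d ∈ D := by
    intro d hd hdN
    have : (P : Subgroup G) ⊓ N = D := by
      symm
      refine Subgroup.eq_of_le_of_card_ge (le_inf hDP inf_le_right) (le_of_eq ?_)
      have e : ∀ Q : Sylow p G, Nat.card ((Q : Subgroup G) ⊓ N : Subgroup G) =
          Nat.card ((CfsgLib.StructC.infSylow N Q : Sylow p N) : Subgroup N) := fun Q => by
        rw [CfsgLib.StructC.coe_infSylow, ← Subgroup.card_map_of_injective N.subtype_injective,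
          Subgroup.subgroupOf_map_subtype]
      rw [e P, hD, e P₀, Sylow.card_eq_multiplicity, Sylow.card_eq_multiplicity]
    exact this ▸ ⟨hd, hdN⟩
  -- every element of `P` is central in `P`
  have key : ∀ x ∈ (P : Subgroup G), ∀ y ∈ (P : Subgroup G), x * y = y * x := by
    intro x hx
    obtain ⟨j, hj⟩ := P.isPGroup' ⟨x, hx⟩
    obtain ⟨i, -, hi⟩ := (Nat.dvd_prime_pow Fact.out).1
      (orderOf_dvd_of_pow_eq_one (congrArg Subtype.val hj))
    obtain ⟨R, hR⟩ := exists_sylow_le (hc x ⟨i, hi⟩)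
    obtain ⟨g, hg⟩ := MulAction.exists_smul_eq G R P
    set z := g * x * g⁻¹ with hz
    have hzcen : (P : Subgroup G) ≤ Subgroup.centralizer ({z} : Set G) := by
      intro d hd
      have hd' : g⁻¹ * d * g ∈ (R : Subgroup G) := by
        have h' : d ∈ ((g • R : Sylow p G) : Subgroup G) := hg.symm ▸ hd
        rw [Sylow.coe_subgroup_smul, Subgroup.mem_pointwise_smul_iff_inv_smul_mem] at h'
        simpa [MulAut.smul_def] using h'
      have h' := Subgroup.mem_centralizer_singleton_iff.1 (hR hd')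
      rw [Subgroup.mem_centralizer_singleton_iff]
      calc d * (g * x * g⁻¹) = g * (g⁻¹ * d * g * x) * g⁻¹ := by group
        _ = g * (x * (g⁻¹ * d * g)) * g⁻¹ := by rw [h']
        _ = g * x * g⁻¹ * d := by group
    have hzP : z ∈ (P : Subgroup G) := mem_sylow_of_centralizes ⟨i, by
      rw [hz, ← hi, ← MulAut.conj_apply]; exact (MulAut.conj g).orderOf_eq x⟩ P hzcen
    -- Burnside in the quotient
    let Pb := P.mapSurjective hπ
    have hPb : ((Pb : Sylow p (G ⧸ N)) : Subgroup (G ⧸ N)) = (P : Subgroup G).map π :=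
      Sylow.coe_mapSurjective hπ P
    have := hQab Pb
    have hgmem : g ∈ (C : Set G) * N := by
      rw [← Subgroup.mul_normal C N, hCN]; exact Subgroup.mem_top g
    obtain ⟨c, hcC, n, hn, rfl⟩ := hgmem
    have hzbar : π z = π c * π x * (π c)⁻¹ := by
      have hn1 : π n = 1 := (QuotientGroup.eq_one_iff n).2 hn
      rw [hz, map_mul, map_mul, map_inv, map_mul, hn1, mul_one]
    have hmemP : ∀ u ∈ (P : Subgroup G), π u ∈ (Pb : Subgroup (G ⧸ N)) := fun u hu =>
      hPb ▸ Subgroup.mem_map_of_mem π hu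
    obtain ⟨m, hm, hmeq⟩ := Sylow.conj_eq_normalizer_conj_of_mem Pb (π x) (π c)⁻¹ (hmemP x hx) (by
      rw [inv_inv, ← hzbar]; exact hmemP z hzP)
    rw [inv_inv, ← hzbar] at hmeq
    obtain ⟨c₂, hc₂, hc₂m⟩ : ∃ c₂ ∈ C, π c₂ = m⁻¹ := by
      obtain ⟨w, hw⟩ := hπ m⁻¹
      have hw' : w ∈ (C : Set G) * N := by
        rw [← Subgroup.mul_normal C N, hCN]; exact Subgroup.mem_top w
      obtain ⟨c', hc', n', hn', rfl⟩ := hw'
      exact ⟨c', hc', by rw [← hw, map_mul, (MonoidHom.mem_ker.1 (by rwa [QuotientGroup.ker_mk']) : (QuotientGroup.mk' N) n' = 1), mul_one]⟩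
    set T := ((P : Subgroup G) ⊔ N) ⊓ C with hT
    have hPT : (P : Subgroup G) ≤ T := le_inf le_sup_left hPC
    have hmapT : ∀ t ∈ T, π t ∈ (Pb : Subgroup (G ⧸ N)) := by
      intro t ht
      have h' : π t ∈ ((P : Subgroup G) ⊔ N).map π := Subgroup.mem_map_of_mem π ht.1
      rw [Subgroup.map_sup, (Subgroup.map_eq_bot_iff N).2 (by rw [QuotientGroup.ker_mk']),
        sup_bot_eq, ← hPb] at h'
      exact h'
    have hQT : (((c₂ • P : Sylow p G)) : Subgroup G) ≤ T := by
      intro u hu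
      rw [Sylow.coe_subgroup_smul, Subgroup.mem_pointwise_smul_iff_inv_smul_mem] at hu
      have hu' : c₂⁻¹ * u * c₂ ∈ (P : Subgroup G) := by simpa [MulAut.smul_def] using hu
      refine ⟨?_, ?_⟩
      · have h1 : π u ∈ (Pb : Subgroup (G ⧸ N)) := by
          have h2 := (Subgroup.mem_normalizer_iff.1 (inv_mem hm) _).1 (hmemP _ hu')
          rw [← hc₂m] at h2
          simpa [mul_assoc] using h2
        rw [hPb, ← Subgroup.mem_comap, Subgroup.comap_map_eq, QuotientGroup.ker_mk'] at h1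
        exact h1
      · have := C.mul_mem (C.mul_mem hc₂ (hPC hu')) (C.inv_mem hc₂)
        simpa [mul_assoc] using this
    obtain ⟨u, hu⟩ := MulAction.exists_smul_eq T (P.subtype hPT) ((c₂ • P).subtype hQT)
    rw [Sylow.smul_subtype] at hu
    have hu' : (u : G) • P = c₂ • P := Sylow.subtype_injective hu
    have hnorm : (u : G)⁻¹ * c₂ ∈ Subgroup.normalizer ((P : Subgroup G) : Set G) :=
      Sylow.smul_eq_iff_mem_normalizer.1 (by rw [mul_smul, ← hu', inv_smul_smul])
    set w := (u : G)⁻¹ * c₂ * x * ((u : G)⁻¹ * c₂)⁻¹ with hw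
    have hwP : w ∈ (P : Subgroup G) := (Subgroup.mem_normalizer_iff.1 hnorm x).1 hx
    have hwz : π w = π z := by
      have hcomm : (π u)⁻¹ * π z = π z * (π u)⁻¹ := congrArg Subtype.val (mul_comm'
        (⟨(π u)⁻¹, inv_mem (hmapT u u.2)⟩ : (Pb : Subgroup (G ⧸ N))) ⟨π z, hmemP z hzP⟩)
      rw [hw]
      simp only [map_mul, map_inv, mul_inv_rev, inv_inv, hc₂m]
      calc (π u)⁻¹ * m⁻¹ * π x * (m * π u) = (π u)⁻¹ * (m⁻¹ * π x * m) * π u := by group
        _ = π z := by rw [← hmeq, hcomm]; group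
    have hd : z⁻¹ * w ∈ D := hPN _ (mul_mem (inv_mem hzP) hwP) (by
      rw [← QuotientGroup.eq_one_iff]
      show π (z⁻¹ * w) = 1
      rw [map_mul, map_inv, hwz, inv_mul_cancel])
    have hwcen : ∀ y ∈ (P : Subgroup G), w * y = y * w := by
      intro y hy
      have h1 : (z⁻¹ * w) * y = y * (z⁻¹ * w) :=
        Subgroup.mem_centralizer_iff.1 (hPC hy) _ hd
      have h2 : y * z = z * y := Subgroup.mem_centralizer_singleton_iff.1 (hzcen hy)
      calc w * y = z * (z⁻¹ * w * y) := by group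
        _ = z * y * (z⁻¹ * w) := by rw [h1]; group
        _ = y * w := by rw [← h2]; group
    intro y hy
    set h0 := (u : G)⁻¹ * c₂
    have h' := hwcen (h0 * y * h0⁻¹) ((Subgroup.mem_normalizer_iff.1 hnorm y).1 hy)
    rw [hw] at h'
    calc x * y = h0⁻¹ * (h0 * x * h0⁻¹ * (h0 * y * h0⁻¹)) * h0 := by group
      _ = h0⁻¹ * (h0 * y * h0⁻¹ * (h0 * x * h0⁻¹)) * h0 := by rw [h']
      _ = y * x := by group
  refine hP₀ ⟨⟨fun a b => (P₀.equiv P).injective ?_⟩⟩
  rw [map_mul, map_mul]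
  exact Subtype.ext (key _ (P₀.equiv P a).2 _ (P₀.equiv P b).2)

end Cfsg.Agent.S4354
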