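import Cfsg.Statements.S4355
import Cfsg.Agent.Lib.OddClassTwo.Basic

set_option autoImplicit false
open Cfsg

namespace Cfsg.Agent.S4355

/-- If every element of 2-power order of a finite group has a conjugacy class of odd size, then the Sylow 2-subgroups of the group are abelian. -/
theorem result {G : Type*} [Group G] [Finite G]
    (h : ∀ x : G, (∃ k : ℕ, orderOf x = 2 ^ k) → ¬ 2 ∣ (Subgroup.centralizer ({x} : Set G)).index) (P : Sylow 2 G) :
    IsMulCommutative P := by
  classical
  refine CfsgLib.OddClassTwo.sylow_commutative (fun x hx => ?_) P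
  set C := Subgroup.centralizer ({x} : Set G) with hC
  obtain ⟨T⟩ : Nonempty (Sylow 2 C) := Sylow.nonempty
  have hT : IsPGroup 2 ↥((T : Subgroup C).map C.subtype) := T.isPGroup'.map _
  obtain ⟨Q, hTQ⟩ := hT.exists_le_sylow
  refine ⟨Q, ?_⟩
  have hcard : Nat.card ((T : Subgroup C).map C.subtype) = Nat.card (Q : Subgroup G) := by
    rw [Subgroup.card_map_of_injective C.subtype_injective, T.card_eq_multiplicity,
      Q.card_eq_multiplicity]
    have hmul := C.card_mul_index
    have hi : C.index ≠ 0 := Subgroup.index_ne_zero_of_finite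
    rw [← hmul, Nat.factorization_mul Nat.card_pos.ne' hi, Finsupp.add_apply,
      Nat.factorization_eq_zero_of_not_dvd (h x hx), add_zero]
  rw [← Subgroup.eq_of_le_of_card_ge hTQ hcard.ge]
  exact Subgroup.map_subtype_le _

end Cfsg.Agent.S4355
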