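import Cfsg.Statements.S4359
import Cfsg.Agent.Lib.ClassK.IsoChain
-- import your own Cfsg.Agent.* helpers here

set_option autoImplicit false
open Pointwise
open Cfsg

namespace Cfsg.Agent.S4359

/-- Let P be a subgroup of a finite group G and g an element such that P ∩ g⁻¹Pg is a normal subgroup of prime index p in g⁻¹Pg. Let n ≥ 1 and let K be the subgroup generated by P and its conjugates g⁻ⁱPgⁱ for i ≤ n. Suppose that g normalizes no non-identity normal subgroup of P and that P meets the center of K trivially. Then the order of P is pᵗ for some t with 1 ≤ t ≤ 3n and t ≠ 3n - 1. -/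
theorem result {G : Type*} [Group G] [Finite G]
    (P : Subgroup G) (g : G) (p : ℕ) (hp : p.Prime)
    (hN : ((P ⊓ MulAut.conj g⁻¹ • P).subgroupOf (MulAut.conj g⁻¹ • P)).Normal)
    (hidx : (P ⊓ MulAut.conj g⁻¹ • P).relIndex (MulAut.conj g⁻¹ • P) = p)
    (n : ℕ) (hn : 1 ≤ n) (K : Subgroup G) (hK : K = ⨆ i ∈ Finset.range (n + 1), MulAut.conj (g ^ i)⁻¹ • P)
    (h1 : ∀ Q : Subgroup G, Q ≤ P → (Q.subgroupOf P).Normal → MulAut.conj g • Q = Q → Q = ⊥)
    (h2 : P ⊓ (Subgroup.center K).map K.subtype = ⊥) :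
    ∃ t : ℕ, Nat.card P = p ^ t ∧ 1 ≤ t ∧ t ≤ 3 * n ∧ t ≠ 3 * n - 1 := by
  set c : MulAut G := MulAut.conj g⁻¹ with hc
  have himg : ∀ (φ : MulAut G) (H : Subgroup G), φ • H = CfsgLib.ClassK.IsoSub.img φ H :=
    fun _ _ => rfl
  obtain ⟨t, hch⟩ := CfsgLib.ClassK.IsoSub.exists_chain c P hp hN hidx (fun Q hQP hQn hQc => by
    refine h1 Q hQP ⟨fun q hq a => hQn a a.2 q hq⟩ ?_
    have hcQ : c • Q = Q := (himg c Q).trans hQc
    calc MulAut.conj g • Q = MulAut.conj g • (c • Q) := by rw [hcQ]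
      _ = Q := by rw [← mul_smul, hc, ← map_mul, mul_inv_cancel, map_one, one_smul])
  obtain ⟨x, hx⟩ := hch.exists_gens
  refine ⟨t, by simpa [CfsgLib.ClassK.IsoSub.ch] using hch.card 0 (Nat.zero_le t), hch.pos,
    CfsgLib.ClassK.IsoSub.bound c P hx hn fun v hvP hv => ?_⟩
  have hci : ∀ i : ℕ, MulAut.conj (g ^ i)⁻¹ = c ^ (i : ℤ) := fun i => by
    rw [zpow_natCast, hc, ← map_pow, inv_pow]
  have hPK : P ≤ K := by
    rw [hK]
    refine le_trans ?_ (le_biSup (fun i => MulAut.conj (g ^ i)⁻¹ • P)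
      (Finset.mem_range.2 (Nat.succ_pos n)))
    rw [pow_zero, inv_one, map_one, one_smul]
  have hKc : K ≤ Subgroup.centralizer ({v} : Set G) := by
    rw [hK]
    refine iSup₂_le fun i hi => ?_
    rw [hci, himg, ← hx.top, CfsgLib.ClassK.IsoSub.W_shift x]
    refine CfsgLib.ClassK.IsoSub.W_le x fun j h1 h2 => ?_
    rw [Finset.mem_range] at hi
    exact Subgroup.mem_centralizer_singleton_iff.2 (hv j (by omega) (by omega)).eq.symm
  have hvZ : v ∈ P ⊓ (Subgroup.center K).map K.subtype :=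
    ⟨hvP, ⟨v, hPK hvP⟩, Subgroup.mem_center_iff.2 fun k => Subtype.ext
      (Subgroup.mem_centralizer_singleton_iff.1 (hKc k.2)), rfl⟩
  rwa [h2, Subgroup.mem_bot] at hvZ

end Cfsg.Agent.S4359
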