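import Cfsg.Statements.S4363
import Cfsg.Agent.Lib.CoprimeHeight.Main
import Cfsg.Agent.Lib.FixedFree.Semidirect

set_option autoImplicit false
open Cfsg CfsgLib.FixedFree

namespace Cfsg.Agent.S4363

/-- Let G be a finite solvable group and σ an automorphism of G of prime order r not dividing the order of G, with fixed-point subgroup C. Then the Fitting height of G exceeds that of C by at most 2: if C has a chain of normal subgroups 1 = C₀ ≤ ⋯ ≤ Cₙ = C with nilpotent factors, then G has such a chain of length n + 2. -/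
theorem result {G : Type*} [Group G] [Finite G]
    (hG : Group.IsSolvable G) (σ : MulAut G) (r : ℕ) (hr : r.Prime) (hσ : orderOf σ = r) (hcop : ¬ r ∣ Nat.card G)
    (C : Subgroup G) (hC : ∀ g : G, g ∈ C ↔ σ g = g) (n : ℕ) (hn : (∃ F : Fin (n + 1) → Subgroup ↥C, F 0 = ⊥ ∧ F (Fin.last n) = ⊤ ∧ Monotone F ∧ (∀ i, (F i).Normal) ∧ ∀ i : Fin n, ∃ k : ℕ, (F i.succ).lowerCentralSeries k ≤ F i.castSucc)) :
    (∃ F : Fin ((n + 2) + 1) → Subgroup G, F 0 = ⊥ ∧ F (Fin.last (n + 2)) = ⊤ ∧ Monotone F ∧ (∀ i, (F i).Normal) ∧ ∀ i : Fin (n + 2), ∃ k : ℕ, (F i.succ).lowerCentralSeries k ≤ F i.castSucc) := by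
  let φ : Subgroup.zpowers σ →* MulAut G := (Subgroup.zpowers σ).subtype
  have : Finite (MulAut G) := Finite.of_injective (fun e : MulAut G => (e : G → G))
    DFunLike.coe_injective
  let s : Subgroup.zpowers σ := ⟨σ, Subgroup.mem_zpowers σ⟩
  set a : G ⋊[φ] Subgroup.zpowers σ := SemidirectProduct.inr s
  have ha : orderOf a = r := by
    rw [orderOf_injective _ SemidirectProduct.inr_injective s, Subgroup.orderOf_mk, hσ]
  have : (inG φ).Normal := by
    show (SemidirectProduct.inl : G →* G ⋊[φ] Subgroup.zpowers σ).range.Normal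
    rw [SemidirectProduct.range_inl_eq_ker_rightHom]
    infer_instance
  have hfix : ∀ g : G, a * SemidirectProduct.inl g = SemidirectProduct.inl g * a ↔ σ g = g := by
    intro g
    have h1 : (SemidirectProduct.inl (σ g) : G ⋊[φ] Subgroup.zpowers σ)
        = a * SemidirectProduct.inl g * a⁻¹ := by
      rw [show σ g = φ s g from rfl, SemidirectProduct.inl_aut, map_inv]
    refine ⟨fun e => SemidirectProduct.inl_injective (φ := φ) ?_, fun e => ?_⟩
    · rw [h1, e, mul_inv_cancel_right]
    · rw [e] at h1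
      exact (eq_mul_inv_iff_mul_eq.1 h1).symm
  let f : C →* ↥(inG φ ⊓ Subgroup.centralizer (Subgroup.zpowers a : Set (G ⋊[φ] Subgroup.zpowers σ))) :=
    (((SemidirectProduct.inl : G →* G ⋊[φ] Subgroup.zpowers σ).comp C.subtype).codRestrict _
      fun g => Subgroup.mem_inf.2 ⟨⟨g, rfl⟩, Subgroup.mem_centralizer_iff.2 fun b hb => by
        obtain ⟨i, rfl⟩ := Subgroup.mem_zpowers_iff.1 hb
        exact ((show Commute a _ from (hfix g).2 ((hC g).1 g.2)).zpow_left i).eq⟩)
  have hf : Function.Surjective f := by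
    rintro ⟨x, hx⟩
    obtain ⟨⟨g, rfl⟩, hxc⟩ := Subgroup.mem_inf.1 hx
    exact ⟨⟨g, (hC g).2 ((hfix g).1 (Subgroup.mem_centralizer_iff.1 hxc a (Subgroup.mem_zpowers a)))⟩,
      rfl⟩
  have hser : HasNilpotentSeries (↥(inG φ)) (n + 2) := by
    refine CfsgLib.CoprimeHeight.hasNilpotentSeries_of_centralizer (a := a) ?_ (ha.symm ▸ hr) ?_
      (CfsgLib.FittingHeight.hasNilpotentSeries_of_surjective f hf hn)
    · exact Group.isSolvable_of_surjective
        (f := (SemidirectProduct.inl : G →* G ⋊[φ] Subgroup.zpowers σ).rangeRestrict)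
        (MonoidHom.rangeRestrict_surjective _)
    · rw [Nat.card_zpowers, ha, card_inG, hr.coprime_iff_not_dvd]
      exact hcop
  exact CfsgLib.FittingHeight.hasNilpotentSeries_of_surjective
    (MonoidHom.ofInjective (SemidirectProduct.inl_injective (φ := φ))).symm.toMonoidHom
    (MulEquiv.surjective _) hser

end Cfsg.Agent.S4363
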