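import Cfsg.Statements.S4364
import Cfsg.Agent.Lib.StructB.Kazarin
import Cfsg.Agent.Lib.StructC.ClassCoprime
import Cfsg.Agent.Lib.Solvable.PCore
import Cfsg.Agent.Lib.Solvable.Fitting
import Cfsg.Agent.Lib.Solvable.HallHigman

set_option autoImplicit false
open Cfsg

namespace Cfsg.Agent.S4364

open CfsgLib.StructC.ClassCoprime

/-- In a group without normal `p`-subgroups, the conjugates of an element with `p`-power class commute. -/
theorem commute_conj_aux {Q : Type*} [Group Q] [Finite Q] {p : ℕ} [Fact p.Prime] (hQ : Cfsg.pCore p Q = ⊥)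
    {M : Subgroup Q} [M.Normal] [Group.IsSolvable M] {y z : Q} (hy : y ∈ M) (hz : z ∈ M)
    (hyc : ∃ a : ℕ, cs y = p ^ a) (hzc : ∃ a : ℕ, cs z = p ^ a) : y * z = z * y := by
  haveI := CfsgLib.Solvable.fittingSubgroup_characteristic M
  obtain ⟨F, hF⟩ : ∃ F, F = (Cfsg.fittingSubgroup M).map M.subtype := ⟨_, rfl⟩
  haveI hFn : F.Normal := hF ▸ CfsgLib.Solvable.map_subtype_normal (Cfsg.fittingSubgroup M)
  have hnil : Group.IsNilpotent F := by
    haveI := CfsgLib.Solvable.fittingSubgroup_isNilpotent (G := M)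
    exact hF ▸ (Group.isNilpotent_congr
      ((Cfsg.fittingSubgroup M).equivMapOfInjective M.subtype M.subtype_injective)).1 inferInstance
  have hcop : (Nat.card F).Coprime p := by
    rw [Nat.coprime_comm, (Fact.out : p.Prime).coprime_iff_not_dvd]
    intro hd
    let P : Sylow p F := Classical.arbitrary _
    haveI hPn : (P : Subgroup F).Normal := inferInstance
    haveI hPc : (P : Subgroup F).Characteristic := P.characteristic_of_normal hPn
    have h1 : (P : Subgroup F).map F.subtype ≤ Cfsg.pCore p Q :=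
      CfsgLib.Solvable.le_pCore (CfsgLib.Solvable.map_subtype_normal (P : Subgroup F)) (P.isPGroup'.map _)
    rw [hQ, le_bot_iff, Subgroup.map_eq_bot_iff_of_injective _ F.subtype_injective] at h1
    exact P.ne_bot_of_dvd_card hd h1
  have key : ∀ w ∈ M, (∃ a : ℕ, cs w = p ^ a) → F ≤ Subgroup.centralizer ({w} : Set Q) ∧ w ∈ F := by
    rintro w hw ⟨a, ha⟩
    have h1 : F ≤ Subgroup.centralizer ({w} : Set Q) := le_cent_of_coprime (by rw [ha]; exact hcop.pow_right a)
    refine ⟨h1, hF ▸ ⟨⟨w, hw⟩, CfsgLib.Solvable.centralizer_fittingSubgroup_le ?_, rfl⟩⟩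
    refine Subgroup.mem_centralizer_iff.2 fun u hu => Subtype.ext ?_
    exact mem_cent.1 (h1 (hF ▸ ⟨u, hu, rfl⟩ : (u : Q) ∈ F))
  exact mem_cent.1 ((key z hz hzc).1 (key y hy hyc).2)

/-- Let G be a finite group, p a prime and x an element whose conjugacy class has p-power size. Then for any two conjugates y and z of x, the commutator y z y⁻¹ z⁻¹ lies in O_p(G), the largest normal p-subgroup of G. -/
theorem result {G : Type*} [Group G] [Finite G] (p : ℕ) [Fact p.Prime]
    (x : G) (hx : ∃ a : ℕ, (Subgroup.centralizer ({x} : Set G)).index = p ^ a) (g h : G) :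
    (g * x * g⁻¹) * (h * x * h⁻¹) * (g * x * g⁻¹)⁻¹ * (h * x * h⁻¹)⁻¹ ∈ Cfsg.pCore p G := by
  obtain ⟨a, ha⟩ := hx
  haveI := CfsgLib.Solvable.pCore_normal p G
  let π : G →* G ⧸ Cfsg.pCore p G := QuotientGroup.mk' _
  have hπ : Function.Surjective π := QuotientGroup.mk'_surjective _
  let N : Subgroup G := Subgroup.normalClosure ({x} : Set G)
  haveI hNs : Group.IsSolvable N :=
    CfsgLib.StructB.Kazarin.isSolvable_normalClosure Fact.out a _ G rfl x (dvd_of_eq ha)
  haveI : (N.map π).Normal := Subgroup.normalClosure_normal.map π hπ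
  haveI : Group.IsSolvable (N.map π) := Group.isSolvable_of_surjective (π.subgroupMap_surjective N)
  have hmem : ∀ c : G, c * x * c⁻¹ ∈ N := fun c =>
    Subgroup.normalClosure_normal.conj_mem x (Subgroup.subset_normalClosure (Set.mem_singleton x)) c
  have hcs : ∀ c : G, ∃ b : ℕ, cs (π (c * x * c⁻¹)) = p ^ b := by
    intro c
    have h1 : (Subgroup.centralizer ({c * x * c⁻¹} : Set G)).map π ≤
        Subgroup.centralizer ({π (c * x * c⁻¹)} : Set (G ⧸ Cfsg.pCore p G)) := by
      rintro _ ⟨u, hu, rfl⟩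
      rw [mem_cent, ← map_mul, ← map_mul, mem_cent.1 hu]
    have h2 : cs (π (c * x * c⁻¹)) ∣ p ^ a := by
      refine (Subgroup.index_dvd_of_le h1).trans ((Subgroup.index_map_dvd _ hπ).trans (dvd_of_eq ?_))
      have e : cs (c * x * c⁻¹) = cs x := by
        rw [← ncard_cl, ← ncard_cl]
        congr 1
        ext u
        constructor
        · rintro ⟨d, rfl⟩; exact ⟨d * c, by group⟩
        · rintro ⟨d, rfl⟩; exact ⟨d * c⁻¹, by group⟩
      exact e.trans ha
    obtain ⟨b, -, hb⟩ := (Nat.dvd_prime_pow Fact.out).1 h2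
    exact ⟨b, hb⟩
  have hc := commute_conj_aux (CfsgLib.Solvable.pCore_quotient_eq_bot p) (M := N.map π)
    (Subgroup.mem_map_of_mem π (hmem g)) (Subgroup.mem_map_of_mem π (hmem h)) (hcs g) (hcs h)
  rw [← QuotientGroup.eq_one_iff]
  show π _ = 1
  rw [map_mul, map_mul, map_mul, map_inv, map_inv, hc, mul_inv_cancel_right, mul_inv_cancel]

end Cfsg.Agent.S4364
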