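import Cfsg.Statements.S4370
import Cfsg.Agent.Lib.StructC.UniqueInvol
import Cfsg.Agent.Lib.OddLocal.FittingHall

set_option autoImplicit false
open Cfsg
open scoped Pointwise
set_option linter.style.haveILetI false

namespace Cfsg.Agent.S4370

/-- Let G be a finite non-abelian nilpotent group. Then the centralizer of every non-central element of G is cyclic if and only if G is isomorphic to the direct product of a generalized quaternion group and a cyclic group of odd order. -/
theorem result {G : Type*} [Group G] [Finite G] (hG : Group.IsNilpotent G)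
    (hna : ¬ IsMulCommutative G) :
    (∀ x : G, x ∉ Subgroup.center G → IsCyclic (Subgroup.centralizer ({x} : Set G))) ↔
      ∃ (k m : ℕ), 1 ≤ k ∧ Odd m ∧ Nonempty (G ≃* QuaternionGroup (2 ^ k) × Multiplicative (ZMod m)) := by
  classical
  constructor
  · intro hC
    have hcop : ∀ x y : G, (orderOf x).Coprime (orderOf y) → Commute x y := fun x y h =>
      CfsgLib.OddLocal.commute_of_coprime_of_isNilpotent hG h
    have hnormal : ∀ (q : ℕ) [Fact q.Prime] (P : Sylow q G), (P : Subgroup G).Normal := fun q _ P =>
      by
        have h03 : ∀ (p : ℕ) (_ : Fact p.Prime) (P : Sylow p G), (P : Subgroup G).Normal :=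
          ((Group.isNilpotent_of_finite_tfae (G := G)).out 0 3 (by rfl) (by rfl)).mp hG
        exact h03 q inferInstance P
    have hpq : ∀ (q : ℕ) [Fact q.Prime] (P : Sylow q G) (x : G), x ∈ (P : Subgroup G) → ∀ y : G,
        ¬ q ∣ orderOf y → Commute x y := by
      intro q _ P x hx y hy
      refine hcop x y ?_
      obtain ⟨k, hk⟩ := IsPGroup.iff_orderOf.1 P.isPGroup' ⟨x, hx⟩
      rw [Subgroup.orderOf_mk] at hk
      rw [hk]
      exact ((Fact.out : q.Prime).coprime_iff_not_dvd.2 hy).pow_left k
    -- some Sylow subgroup is nonabelian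
    obtain ⟨q, hq, P, x0, y0, hx0, hy0, hxy⟩ : ∃ (q : ℕ) (_ : Fact q.Prime) (P : Sylow q G) (x y : G),
        x ∈ (P : Subgroup G) ∧ y ∈ (P : Subgroup G) ∧ x * y ≠ y * x := by
      by_contra hab
      push Not at hab
      apply hna
      obtain ⟨φ⟩ := ((Group.isNilpotent_of_finite_tfae (G := G)).out 0 4).1 hG
      refine ⟨⟨fun a b => ?_⟩⟩
      apply φ.symm.injective
      funext p P
      rw [map_mul, map_mul]
      haveI : Fact (Nat.Prime (p : ℕ)) := ⟨Nat.prime_of_mem_primeFactors p.2⟩
      exact Subtype.ext (hab p inferInstance P _ _ (φ.symm a p P).2 (φ.symm b p P).2)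
    have hu : ∀ a b : (P : Subgroup G), orderOf a = q → orderOf b = q → Commute a b →
        b ∈ Subgroup.zpowers a := by
      intro a b ha hb hab
      have key : ∀ w : G, w ∉ Subgroup.center G → (a : G) ∈ Subgroup.centralizer ({w} : Set G) →
          (b : G) ∈ Subgroup.centralizer ({w} : Set G) → b ∈ Subgroup.zpowers a := by
        intro w hw haw hbw
        set C := Subgroup.centralizer ({w} : Set G)
        haveI : IsCyclic C := hC w hw
        letI : CommGroup C := IsCyclic.commGroup
        have hker : ∀ z : C, orderOf (z : G) = q → z ∈ (powMonoidHom (α := C) q).ker := fun z hz => by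
          rw [MonoidHom.mem_ker, powMonoidHom_apply]
          exact orderOf_dvd_iff_pow_eq_one.1 (by rw [← Subgroup.orderOf_coe, hz])
        have ha' : orderOf ((⟨a, haw⟩ : C) : G) = q := by simp only [Subgroup.orderOf_coe, ha]
        have hb' : orderOf ((⟨b, hbw⟩ : C) : G) = q := by simp only [Subgroup.orderOf_coe, hb]
        have heq : Subgroup.zpowers (⟨a, haw⟩ : C) = (powMonoidHom (α := C) q).ker := by
          refine Subgroup.eq_of_le_of_card_ge (Subgroup.zpowers_le.2 (hker _ ha')) ?_
          rw [IsCyclic.card_powMonoidHom_ker]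
          refine (Nat.le_of_dvd (Nat.Prime.pos Fact.out) (Nat.gcd_dvd_right _ _)).trans ?_
          exact le_of_eq (ha'.symm.trans ((Subgroup.orderOf_coe (⟨a, haw⟩ : C)).trans
            (Nat.card_zpowers (⟨a, haw⟩ : C)).symm))
        obtain ⟨n, hn⟩ := (heq.symm ▸ hker _ hb' : (⟨b, hbw⟩ : C) ∈ Subgroup.zpowers ⟨a, haw⟩)
        exact ⟨n, Subtype.ext (by simpa using congrArg Subtype.val hn)⟩
      by_cases hac : (a : G) ∈ Subgroup.center G
      · by_cases hbc : (b : G) ∈ Subgroup.center G
        · refine key x0 (fun h => hxy (Subgroup.mem_center_iff.1 h y0).symm) ?_ ?_ <;>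
            rw [Subgroup.mem_centralizer_singleton_iff]
          · exact (Subgroup.mem_center_iff.1 hac x0).symm
          · exact (Subgroup.mem_center_iff.1 hbc x0).symm
        · refine key b hbc ?_ ?_ <;> rw [Subgroup.mem_centralizer_singleton_iff]
          exact congrArg Subtype.val hab.eq
      · refine key a hac ?_ ?_ <;> rw [Subgroup.mem_centralizer_singleton_iff]
        exact congrArg Subtype.val hab.eq.symm
    obtain ⟨hq2, -⟩ : q = 2 ∧ True := by
      rcases CfsgLib.StructC.isCyclic_or_quat_pair P.isPGroup' hu with h | h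
      · letI : CommGroup (P : Subgroup G) := IsCyclic.commGroup
        exact absurd (congrArg Subtype.val (mul_comm (⟨x0, hx0⟩ : (P : Subgroup G)) ⟨y0, hy0⟩)) hxy
      · exact ⟨h.1, trivial⟩
    subst hq2
    rcases CfsgLib.StructC.isCyclic_or_quaternion P.isPGroup' hu with h | ⟨k, hk, ⟨e⟩⟩
    · letI : CommGroup (P : Subgroup G) := IsCyclic.commGroup
      exact absurd (congrArg Subtype.val (mul_comm (⟨x0, hx0⟩ : (P : Subgroup G)) ⟨y0, hy0⟩)) hxy
    haveI := hnormal 2 P
    have hPco : (Nat.card (P : Subgroup G)).Coprime (P : Subgroup G).index := by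
      obtain ⟨j, hj⟩ := P.isPGroup'.exists_card_eq
      rw [hj]
      exact ((Nat.prime_two.coprime_iff_not_dvd).2 P.not_dvd_index).pow_left j
    obtain ⟨K, hK⟩ := Subgroup.exists_right_complement'_of_coprime hPco
    have hKodd : ¬ 2 ∣ Nat.card K := by rw [← hK.symm.index_eq_card]; exact P.not_dvd_index
    have hKy : ∀ y ∈ K, ¬ 2 ∣ orderOf y := fun y hy h =>
      hKodd (h.trans (Subgroup.orderOf_dvd_natCard K hy))
    have hKC : K ≤ Subgroup.centralizer ({x0} : Set G) := by
      intro y hy
      rw [Subgroup.mem_centralizer_singleton_iff]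
      exact (hpq 2 P x0 hx0 y (hKy y hy)).eq.symm
    haveI := hC x0 (fun h => hxy (Subgroup.mem_center_iff.1 h y0).symm)
    haveI hKc : IsCyclic K := by
      have := isCyclic_of_injective (Subgroup.inclusion hKC) (Subgroup.inclusion_injective hKC)
      exact this
    let f : ↥(P : Subgroup G) × ↥K →* G :=
      MonoidHom.noncommCoprod (P : Subgroup G).subtype K.subtype (fun x y =>
        hpq 2 P x x.2 y (hKy y y.2))
    have hf : Function.Bijective f := hK
    refine ⟨k, Nat.card K, hk, Nat.odd_iff.2 (Nat.two_dvd_ne_zero.1 hKodd), ⟨?_⟩⟩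
    exact (MulEquiv.ofBijective f hf).symm.trans (e.prodCongr (zmodCyclicMulEquiv hKc).symm)
  · rintro ⟨k, m, hk, hm, ⟨e⟩⟩ x hx
    haveI : NeZero (2 ^ k) := ⟨by positivity⟩
    haveI : NeZero m := ⟨fun h => by rw [h] at hm; simp at hm⟩
    set g := e x with hgdef
    -- the centralizer inside the product
    suffices hcyc : IsCyclic (Subgroup.centralizer ({g} : Set (QuaternionGroup (2 ^ k) × Multiplicative (ZMod m)))) by
      have heq : (Subgroup.centralizer ({x} : Set G)).map e.toMonoidHom =
          Subgroup.centralizer ({g} : Set _) := by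
        ext y
        rw [Subgroup.mem_map_equiv, Subgroup.mem_centralizer_singleton_iff,
          Subgroup.mem_centralizer_singleton_iff, ← e.injective.eq_iff, map_mul, map_mul,
          MulEquiv.apply_symm_apply]
      have e2 := (Subgroup.equivMapOfInjective (Subgroup.centralizer ({x} : Set G)) e.toMonoidHom
        e.injective).trans (MulEquiv.subgroupCongr heq)
      exact e2.isCyclic.2 hcyc
    set u := g.1 with hu'
    have hu : u ∉ Subgroup.center (QuaternionGroup (2 ^ k)) := by
      intro h
      apply hx
      rw [Subgroup.mem_center_iff]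
      intro y
      apply e.injective
      rw [map_mul, map_mul]
      exact Prod.ext (Subgroup.mem_center_iff.1 h _) (mul_comm _ _)
    -- involutions of the quaternion group
    have hsq : ∀ w : QuaternionGroup (2 ^ k), w * w = 1 →
        w = 1 ∨ w = QuaternionGroup.a ((2 ^ k : ℕ) : ZMod (2 * 2 ^ k)) := by
      have hlt : (2 ^ k : ℕ) < 2 * 2 ^ k := by
        have : 0 < 2 ^ k := by positivity
        omega
      rintro (i | i) h
      · have h' : i + i = 0 := by
          rw [QuaternionGroup.a_mul_a, QuaternionGroup.one_def, QuaternionGroup.a.injEq] at h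
          exact h
        have hdvd : 2 * 2 ^ k ∣ i.val + i.val := by
          rw [← ZMod.natCast_eq_zero_iff, Nat.cast_add, ZMod.natCast_val, ZMod.cast_id', id, h']
        obtain ⟨c, hc⟩ := hdvd
        have hlt' := i.val_lt
        rcases c with _ | _ | c
        · left
          have : i.val = 0 := by omega
          rw [ZMod.val_eq_zero] at this
          subst this; rfl
        · right
          have : i.val = 2 ^ k := by omega
          exact congrArg _ ((ZMod.natCast_zmod_val i).symm.trans (congrArg Nat.cast this))
        · exfalso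
          have : 2 * 2 ^ k * (c + 1 + 1) ≥ 2 * 2 ^ k * 2 := Nat.mul_le_mul_left _ (by omega)
          omega
      · exfalso
        have h4 := QuaternionGroup.orderOf_xa (n := 2 ^ k) i
        have := orderOf_dvd_of_pow_eq_one (show (QuaternionGroup.xa i) ^ 2 = 1 by rw [pow_two, h])
        rw [h4] at this
        norm_num at this
    have hcen : ∀ (n : ℕ), 1 ≤ n → ∀ w : QuaternionGroup (2 ^ n),
        (∀ y, w * y = y * w) → w * w = 1 := by
      intro n hn w hw
      rcases w with i | i
      · have h1 := hw (QuaternionGroup.xa 0)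
        simp only [QuaternionGroup.a_mul_xa, QuaternionGroup.xa_mul_a, zero_sub, zero_add,
          QuaternionGroup.xa.injEq] at h1
        rw [QuaternionGroup.a_mul_a, QuaternionGroup.one_def]
        congr 1
        linear_combination -h1
      · exfalso
        have h1 := hw (QuaternionGroup.a 1)
        simp only [QuaternionGroup.xa_mul_a, QuaternionGroup.a_mul_xa,
          QuaternionGroup.xa.injEq] at h1
        have h2 : ((2 : ℕ) : ZMod (2 * 2 ^ n)) = 0 := by push_cast; linear_combination h1
        rw [ZMod.natCast_eq_zero_iff] at h2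
        have := Nat.le_of_dvd two_pos h2
        have : 2 ^ 1 ≤ 2 ^ n := Nat.pow_le_pow_right two_pos hn
        omega
    set C := Subgroup.centralizer ({u} : Set (QuaternionGroup (2 ^ k))) with hC
    have hp2 : IsPGroup 2 (QuaternionGroup (2 ^ k)) := IsPGroup.of_card (n := k + 2) (by
      rw [Nat.card_eq_fintype_card, QuaternionGroup.card]; ring)
    haveI : Fact (Nat.Prime 2) := ⟨Nat.prime_two⟩
    haveI hCcyc : IsCyclic C := by
      have hinv : ∀ a : C, orderOf a = 2 →
          (a : QuaternionGroup (2 ^ k)) = QuaternionGroup.a ((2 ^ k : ℕ) : ZMod (2 * 2 ^ k)) := by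
        intro a ha
        have h2 : (a : QuaternionGroup (2 ^ k)) * a = 1 := by
          have := pow_orderOf_eq_one a
          rw [ha, pow_two] at this
          exact congrArg Subtype.val this
        refine (hsq _ h2).resolve_left fun h => ?_
        have : a = 1 := Subtype.ext h
        rw [this, orderOf_one] at ha
        omega
      rcases CfsgLib.StructC.isCyclic_or_quaternion (hp2.to_subgroup C)
        (fun a b ha hb _ => by
          have : a = b := Subtype.ext ((hinv a ha).trans (hinv b hb).symm)
          exact this ▸ Subgroup.mem_zpowers a) with h | ⟨n, hn, ⟨f⟩⟩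
      · exact h
      · exfalso
        have huC : u ∈ C := by rw [hC, Subgroup.mem_centralizer_singleton_iff]
        have h1 : f ⟨u, huC⟩ * f ⟨u, huC⟩ = 1 := by
          refine hcen n hn _ fun y => ?_
          obtain ⟨y, rfl⟩ := f.surjective y
          rw [← map_mul, ← map_mul]
          congr 1
          apply Subtype.ext
          have h := y.2
          exact (Subgroup.mem_centralizer_singleton_iff.1 h).symm
        rw [← map_mul, MulEquiv.map_eq_one_iff] at h1
        apply hu
        rw [Subgroup.mem_center_iff]
        intro y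
        rcases hsq u (congrArg Subtype.val h1) with h | h
        · rw [h, mul_one, one_mul]
        · rw [h]
          have hneg : -((2 ^ k : ℕ) : ZMod (2 * 2 ^ k)) = ((2 ^ k : ℕ) : ZMod (2 * 2 ^ k)) := by
            rw [neg_eq_iff_add_eq_zero, ← two_mul]
            exact_mod_cast ZMod.natCast_self (2 * 2 ^ k)
          rcases y with i | i
          · rw [QuaternionGroup.a_mul_a, QuaternionGroup.a_mul_a, add_comm]
          · rw [QuaternionGroup.a_mul_xa, QuaternionGroup.xa_mul_a, sub_eq_add_neg, hneg]
    have hcard : (Nat.card C).Coprime (Nat.card (Multiplicative (ZMod m))) := by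
      obtain ⟨j, hj⟩ := (hp2.to_subgroup C).exists_card_eq
      rw [hj, Nat.card_congr Multiplicative.toAdd, Nat.card_zmod]
      exact (Nat.coprime_two_left.2 hm).pow_left j
    haveI : IsCyclic (C × Multiplicative (ZMod m)) :=
      Group.isCyclic_prod_iff.2 ⟨hCcyc, inferInstance, hcard⟩
    have hfst : ∀ y : Subgroup.centralizer ({g} : Set (QuaternionGroup (2 ^ k) × Multiplicative (ZMod m))),
        (y : QuaternionGroup (2 ^ k) × Multiplicative (ZMod m)).1 ∈ C := fun y => by
      rw [hC, Subgroup.mem_centralizer_singleton_iff]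
      exact congrArg Prod.fst (Subgroup.mem_centralizer_singleton_iff.1 y.2)
    let i : Subgroup.centralizer ({g} : Set (QuaternionGroup (2 ^ k) × Multiplicative (ZMod m))) →*
        C × Multiplicative (ZMod m) :=
      { toFun := fun y => (⟨y.1.1, hfst y⟩, y.1.2)
        map_one' := rfl
        map_mul' := fun _ _ => rfl }
    refine isCyclic_of_injective i fun a b h => Subtype.ext ?_
    exact Prod.ext (congrArg (fun z : C × Multiplicative (ZMod m) => (z.1 : QuaternionGroup (2 ^ k))) h)
      (congrArg (fun z : C × Multiplicative (ZMod m) => z.2) h)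

end Cfsg.Agent.S4370
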