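import Cfsg.Statements.S4376
import Cfsg.Agent.Lib.StructC.OrderTypeData
import Cfsg.Agent.Lib.StructC.OrderTypeL27

set_option autoImplicit false
open Cfsg

namespace Cfsg.Agent.S4376

open CfsgLib.StructC.OrderType

theorem key_eq : ∀ d ∈ Nat.divisors 168, (posList.map fun p => p.1.val d ^ p.2).prod =
    L27.val d ^ 6 * (negList.map fun p => p.1.val d ^ p.2).prod := by decide +kernel

/-- There are finite groups G and H having the same number of elements of each order (the same order type) with G solvable and H not solvable. -/
theorem result :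
    ∃ (G : Type) (_ : Group G) (_ : Finite G) (H : Type) (_ : Group H) (_ : Finite H),
      Group.IsSolvable G ∧ ¬ Group.IsSolvable H ∧ ∀ n : ℕ, Nat.card {g : G // orderOf g = n} = Nat.card {h : H // orderOf h = n} := by
  refine ⟨listGroup posList, inferInstance, inferInstance, (Fin 6 → L27.K) × listGroup negList,
    inferInstance, inferInstance, solvable_listGroup _, fun h => L27.not_solvable ?_, ?_⟩
  · exact Group.isSolvable_of_surjective
      (f := (Pi.evalMonoidHom (fun _ : Fin 6 => L27.K) 0).comp
        (MonoidHom.fst (Fin 6 → L27.K) (listGroup negList)))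
      fun k => ⟨(fun _ => k, 1), rfl⟩
  · intro n
    refine orderCount_eq_of_powCard (fun m => ?_) n
    have hH : ∀ x : (Fin 6 → L27.K) × listGroup negList, x ^ 168 = 1 := fun x =>
      Prod.ext (funext fun i => L27.pow168 _) (pow168_listGroup _ _)
    rw [powCard_gcd _ (pow168_listGroup posList) m, powCard_gcd _ hH m, powCard_prod, powCard_fun,
      powCard_listGroup, powCard_listGroup, L27.powCard_eq]
    exact key_eq _ (Nat.mem_divisors.2 ⟨Nat.gcd_dvd_right _ _, by decide⟩)

end Cfsg.Agent.S4376
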