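import Cfsg.Statements.S4377

set_option autoImplicit false
open Cfsg

namespace Cfsg.Agent.S4377

/-- Two finite groups have the same number of elements of each order if and only if, for every n, they have the same number of elements g with gⁿ = 1. -/
theorem result {G H : Type*} [Group G] [Finite G] [Group H] [Finite H] :
    (∀ n : ℕ, Nat.card {g : G // orderOf g = n} = Nat.card {h : H // orderOf h = n}) ↔
      ∀ n : ℕ, Nat.card {g : G // g ^ n = 1} = Nat.card {h : H // h ^ n = 1} := by
  have hsum : ∀ (K : Type _) [Group K] [Finite K], ∀ n : ℕ, 0 < n →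
      Nat.card {g : K // g ^ n = 1} = ∑ d ∈ n.divisors, Nat.card {g : K // orderOf g = d} := by
    intro K _ _ n hn
    classical
    have := Fintype.ofFinite K
    simp only [Nat.card_eq_fintype_card, Fintype.card_subtype]
    rw [sum_card_orderOf_eq_card_pow_eq_one hn.ne']
  have hsum' : ∀ (K : Type _) [Group K] [Finite K], ∀ n : ℕ, 0 < n →
      Nat.card {g : K // g ^ n = 1} = ∑ d ∈ n.divisors, Nat.card {g : K // orderOf g = d} := by
    intro K _ _ n hn
    classical
    have := Fintype.ofFinite K
    simp only [Nat.card_eq_fintype_card, Fintype.card_subtype]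
    rw [sum_card_orderOf_eq_card_pow_eq_one hn.ne']
  have hz : ∀ (K : Type _) [Group K] [Finite K], Nat.card {g : K // orderOf g = 0} = 0 := by
    intro K _ _
    have : IsEmpty {g : K // orderOf g = 0} := ⟨fun g => (orderOf_pos g.1).ne' g.2⟩
    exact Nat.card_of_isEmpty
  constructor
  · intro h n
    rcases Nat.eq_zero_or_pos n with rfl | hn
    · have hGH : Nat.card G = Nat.card H := by
        classical
        let N := Nat.card G * Nat.card H
        have hN : 0 < N := Nat.mul_pos Nat.card_pos Nat.card_pos
        have e1 : Nat.card {g : G // g ^ N = 1} = Nat.card G :=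
          Nat.card_congr (Equiv.subtypeUnivEquiv fun g => by simp only [N]; rw [pow_mul, pow_card_eq_one', one_pow])
        have e2 : Nat.card {g : H // g ^ N = 1} = Nat.card H :=
          Nat.card_congr (Equiv.subtypeUnivEquiv fun g => by simp only [N]; rw [mul_comm, pow_mul, pow_card_eq_one', one_pow])
        rw [← e1, ← e2, hsum G N hN, hsum' H N hN]
        exact Finset.sum_congr rfl fun d _ => h d
      rw [Nat.card_congr (Equiv.subtypeUnivEquiv fun g : G => pow_zero g),
        Nat.card_congr (Equiv.subtypeUnivEquiv fun g : H => pow_zero g), hGH]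
    · rw [hsum G n hn, hsum' H n hn]
      exact Finset.sum_congr rfl fun d _ => h d
  · intro h n
    induction n using Nat.strong_induction_on with
    | _ n ih =>
      rcases Nat.eq_zero_or_pos n with rfl | hn
      · rw [hz]
        have : IsEmpty {g : H // orderOf g = 0} := ⟨fun g => (orderOf_pos g.1).ne' g.2⟩
        exact Nat.card_of_isEmpty.symm
      · have e := h n
        rw [hsum G n hn, hsum' H n hn, ← Nat.insert_self_properDivisors hn.ne',
          Finset.sum_insert Nat.self_notMem_properDivisors,
          Finset.sum_insert Nat.self_notMem_properDivisors,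
          Finset.sum_congr rfl (fun d hd => ih d (Nat.mem_properDivisors.mp hd).2)] at e
        omega

end Cfsg.Agent.S4377
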