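import Cfsg.Statements.S4378
import Cfsg.Agent.Lib.Invol.MaxPNilpotentPrimeIndex

set_option autoImplicit false
open Cfsg

namespace Cfsg.Agent.S4378

/-- Let G be a finite solvable group in which every maximal subgroup either has a normal 2-complement or has prime index. Then G has a chain of normal subgroups 1 ≤ A ≤ B ≤ C ≤ G in which A and C/B have odd order and B/A and G/C are 2-groups (so the 2-length of G is at most 2). -/
theorem result {G : Type*} [Group G] [Finite G]
    (hG : Group.IsSolvable G)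
    (hmax : ∀ M : Subgroup G, IsCoatom M → (∃ K : Subgroup ↥M, K.Normal ∧ ¬ 2 ∣ Nat.card K ∧ ∃ k : ℕ, K.index = 2 ^ k) ∨ (M.index).Prime) :
    ∃ A B C : Subgroup G, A.Normal ∧ B.Normal ∧ C.Normal ∧ A ≤ B ∧ B ≤ C ∧ Odd (Nat.card A) ∧
      (∃ k : ℕ, A.relIndex B = 2 ^ k) ∧ Odd (B.relIndex C) ∧ ∃ k : ℕ, C.index = 2 ^ k := by
  haveI : Fact (Nat.Prime 2) := ⟨Nat.prime_two⟩
  obtain ⟨k, hk⟩ := CfsgLib.PLength.isPSolvable_of_isSolvable (p := 2) _ G le_rfl hG
  obtain ⟨-, h⟩ := CfsgLib.Invol.twoStep_of_max hk.isPSolvable hmax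
  set R := Cfsg.pResidual 2 G
  haveI : R.Normal := CfsgLib.Transfer.pResidual_normal
  have hlen := CfsgLib.PLength.pLengthLE_iff.2 (h rfl)
  let U : ℕ → Subgroup R := fun i => (Cfsg.upperPSeries 2 R i).1
  haveI hc : ∀ i, (U i).Characteristic := fun i => CfsgLib.PLength.upperPSeries_characteristic i
  have hrel : ∀ i j, ((U i).map R.subtype).relIndex ((U j).map R.subtype) = (U i).relIndex (U j) :=
    fun i j => Subgroup.relIndex_map_map_of_injective _ _ R.subtype_injective
  have hst := fun i => CfsgLib.PLength.upperPSeries_step (p := 2) (G := R) i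
  have h3 : U 3 = ⊤ := hlen
  refine ⟨(U 1).map R.subtype, (U 2).map R.subtype, R, inferInstance, inferInstance, inferInstance,
    Subgroup.map_mono (CfsgLib.PLength.upperPSeries_monotone (by omega)), Subgroup.map_subtype_le _,
    ?_, ?_, ?_, CfsgLib.Transfer.pResidual_index_eq_pow⟩
  · have h0 := (CfsgLib.PLength.stepType_even_iff Nat.prime_two Even.zero).1 (hst 0)
    have hbot : (Cfsg.upperPSeries 2 R 0).1 = ⊥ := by rw [Cfsg.upperPSeries]
    rw [hbot, Subgroup.relIndex_bot_left] at h0
    rw [Subgroup.card_map_of_injective R.subtype_injective]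
    exact Nat.coprime_two_right.1 h0
  · rw [hrel]
    exact (CfsgLib.PLength.stepType_odd_iff Nat.prime_two odd_one Subgroup.index_ne_zero_of_finite).1 (hst 1)
  · have hR : R = (U 3).map R.subtype := by
      rw [h3, ← MonoidHom.range_eq_map, Subgroup.range_subtype]
    conv => arg 1; arg 2; rw [hR]
    rw [hrel]
    exact Nat.coprime_two_right.1
      ((CfsgLib.PLength.stepType_even_iff Nat.prime_two even_two).1 (hst 2))

end Cfsg.Agent.S4378
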