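import Cfsg.Statements.S4379
import Cfsg.Agent.Lib.Invol.MaxPNilpotentPrimeIndex

set_option autoImplicit false
open Cfsg

namespace Cfsg.Agent.S4379

/-- Let p be an odd prime and G a finite p-solvable group in which every maximal subgroup either has a normal p-complement or has prime index. Then G has a chain of normal subgroups 1 ≤ A ≤ B ≤ C ≤ D ≤ G in which A, C/B and G/D have order prime to p and B/A and D/C are p-groups (so the p-length of G is at most 2). -/
theorem result {G : Type*} [Group G] [Finite G]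
    (p : ℕ) [Fact p.Prime] (hp : p ≠ 2) (hG : Cfsg.IsPSolvable p G)
    (hmax : ∀ M : Subgroup G, IsCoatom M → (∃ K : Subgroup ↥M, K.Normal ∧ ¬ p ∣ Nat.card K ∧ ∃ k : ℕ, K.index = p ^ k) ∨ (M.index).Prime) :
    ∃ A B C D : Subgroup G, A.Normal ∧ B.Normal ∧ C.Normal ∧ D.Normal ∧ A ≤ B ∧ B ≤ C ∧ C ≤ D ∧ ¬ p ∣ Nat.card A ∧
      (∃ k : ℕ, A.relIndex B = p ^ k) ∧ ¬ p ∣ B.relIndex C ∧ (∃ k : ℕ, C.relIndex D = p ^ k) ∧ ¬ p ∣ D.index := by
  obtain ⟨⟨H, hH⟩, -⟩ := CfsgLib.Invol.twoStep_of_max hG hmax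
  have hpp : p.Prime := Fact.out
  have even_step : ∀ i, Even i → ¬ p ∣ (H i).relIndex (H (i + 1)) := fun i hi =>
    hpp.coprime_iff_not_dvd.1 ((CfsgLib.PLength.stepType_even_iff hpp hi).1 (hH.step i)).symm
  have odd_step : ∀ i, Odd i → ∃ k : ℕ, (H i).relIndex (H (i + 1)) = p ^ k := fun i hi =>
    (CfsgLib.PLength.stepType_odd_iff hpp hi Subgroup.index_ne_zero_of_finite).1 (hH.step i)
  refine ⟨H 1, H 2, H 3, H 4, hH.normal _, hH.normal _, hH.normal _, hH.normal _, hH.mono (by omega),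
    hH.mono (by omega), hH.mono (by omega), ?_, odd_step 1 odd_one, even_step 2 even_two,
    odd_step 3 ⟨1, rfl⟩, ?_⟩
  · have := even_step 0 Even.zero
    rwa [hH.zero, Subgroup.relIndex_bot_left] at this
  · have := even_step 4 ⟨2, rfl⟩
    rwa [show H (4 + 1) = ⊤ from hH.last, Subgroup.relIndex_top_right] at this

end Cfsg.Agent.S4379
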