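import Cfsg.Statements.S4381
import Cfsg.Agent.Lib.Coprime.Sylow
import Cfsg.Agent.Lib.Solvable.PGroupBasics
import Cfsg.Agent.Lib.StructC.BurnsideBasis

set_option autoImplicit false
open Pointwise
open Cfsg
open scoped Pointwise
set_option linter.style.haveILetI false

namespace Cfsg.Agent.S4381

variable {A G : Type*} [Group A] [Finite A] [Group G] [Finite G] [MulDistribMulAction A G]

open scoped IsMulCommutative

/-- Invariant Sylow subgroup for an external coprime action. -/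
theorem exists_invariant_sylow' (hcop : (Nat.card A).Coprime (Nat.card G))
    (hsol : Group.IsSolvable A ∨ Group.IsSolvable G) (p : ℕ) [Fact p.Prime] :
    ∃ S : Subgroup G, (∀ a : A, ∀ x ∈ S, a • x ∈ S) ∧ Nat.card S = p ^ (Nat.card G).factorization p := by
  let X := G ⋊[MulDistribMulAction.toMulAut A G] A
  haveI : Finite X := Finite.of_equiv _ SemidirectProduct.equivProd.symm
  set GX := (SemidirectProduct.inl : G →* X).range
  set AX := (SemidirectProduct.inr : A →* X).range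
  have hAG : AX ≤ Subgroup.normalizer (GX : Set X) := by
    haveI : GX.Normal := by
      show (SemidirectProduct.inl : G →* X).range.Normal
      rw [SemidirectProduct.range_inl_eq_ker_rightHom]
      infer_instance
    rw [Subgroup.normalizer_eq_top (H := GX)]
    exact le_top
  have hcG : Nat.card GX = Nat.card G := (Nat.card_congr (MonoidHom.ofInjective SemidirectProduct.inl_injective).toEquiv).symm
  have hcA : Nat.card AX = Nat.card A := (Nat.card_congr (MonoidHom.ofInjective SemidirectProduct.inr_injective).toEquiv).symm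
  obtain ⟨P, hP⟩ := CfsgLib.Coprime.exists_invariant_sylow hAG (by rw [hcA, hcG]; exact hcop)
    (by
      rcases hsol with h | h
      · haveI := h
        exact Or.inl (Group.isSolvable_of_surjective (f := (SemidirectProduct.inr : A →* X).rangeRestrict)
          (MonoidHom.rangeRestrict_surjective _))
      · haveI := h
        exact Or.inr (Group.isSolvable_of_surjective (f := (SemidirectProduct.inl : G →* X).rangeRestrict)
          (MonoidHom.rangeRestrict_surjective _))) p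
  set PX := (P : Subgroup GX).map GX.subtype
  refine ⟨PX.comap (SemidirectProduct.inl : G →* X), fun a x hx => ?_, ?_⟩
  · rw [Subgroup.mem_comap] at hx ⊢
    have h1 := (Subgroup.mem_normalizer_iff.1 (hP (⟨a, rfl⟩ : SemidirectProduct.inr a ∈ AX)) _).1 hx
    rw [← map_inv, ← SemidirectProduct.inl_aut] at h1
    exact h1
  · rw [Nat.card_congr ((PX.comap (SemidirectProduct.inl : G →* X)).equivMapOfInjective (SemidirectProduct.inl : G →* X) SemidirectProduct.inl_injective).toEquiv,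
      Subgroup.map_comap_eq_self (Subgroup.map_subtype_le _), Subgroup.card_map_of_injective GX.subtype_injective,
      P.card_eq_multiplicity, hcG]

theorem smul_frattini (a : A) {x : G} (hx : x ∈ frattini G) : a • x ∈ frattini G := by
  have h := (Subgroup.characteristic_iff_map_eq.1 (inferInstance : (frattini G).Characteristic))
    (MulDistribMulAction.toMulEquiv G a)
  rw [← h]
  exact ⟨x, hx, rfl⟩

theorem frattini_le_of_maximal {M : Subgroup G} (hM : M ≠ ⊤ ∧ (∀ a : A, ∀ x ∈ M, a • x ∈ M) ∧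
    ∀ L : Subgroup G, M < L → (∀ a : A, ∀ x ∈ L, a • x ∈ L) → L = ⊤) : frattini G ≤ M := by
  by_contra hle
  have hlt : M < M ⊔ frattini G := lt_of_le_of_ne le_sup_left fun e => hle (le_sup_right.trans e.ge)
  have htop := hM.2.2 _ hlt fun a x hx => by
    have hx' : x ∈ ((M ⊔ frattini G : Subgroup G) : Set G) := hx
    rw [Subgroup.mul_normal] at hx'
    obtain ⟨u, hu, v, hv, rfl⟩ := Set.mem_mul.1 hx'
    rw [smul_mul']
    exact Subgroup.mul_mem_sup (hM.2.1 a u hu) (smul_frattini a hv)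
  exact hM.1 (frattini_nongenerating htop)

theorem exists_maximal_invariant {L : Subgroup G} (hL : L ≠ ⊤) (hLA : ∀ a : A, ∀ x ∈ L, a • x ∈ L) :
    ∃ M : Subgroup G, L ≤ M ∧ (M ≠ ⊤ ∧ (∀ a : A, ∀ x ∈ M, a • x ∈ M) ∧
      ∀ K : Subgroup G, M < K → (∀ a : A, ∀ x ∈ K, a • x ∈ K) → K = ⊤) := by
  obtain ⟨M, ⟨hLM, hMt, hMA⟩, hmax⟩ :=
    (Set.toFinite {M : Subgroup G | L ≤ M ∧ M ≠ ⊤ ∧ ∀ a : A, ∀ x ∈ M, a • x ∈ M}).exists_maximal ⟨L, le_rfl, hL, hLA⟩
  refine ⟨M, hLM, hMt, hMA, fun K hK hKA => ?_⟩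
  by_contra hKt
  exact hK.not_ge (hmax ⟨hLM.trans hK.le, hKt, hKA⟩ hK.le)

theorem exists_invariant_complement (hcop : (Nat.card A).Coprime (Nat.card G)) {p : ℕ} [hp : Fact p.Prime]
    (hG : IsPGroup p G) {L : Subgroup G} (hL : frattini G ≤ L) (hLA : ∀ a : A, ∀ x ∈ L, a • x ∈ L) :
    ∃ K : Subgroup G, (∀ a : A, ∀ x ∈ K, a • x ∈ K) ∧ L ⊔ K = ⊤ ∧ L ⊓ K ≤ frattini G := by
  classical
  haveI := Fintype.ofFinite A
  set σ := QuotientGroup.mk' (frattini G)
  haveI : IsMulCommutative (G ⧸ frattini G) := ⟨⟨fun x y => by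
    obtain ⟨x, rfl⟩ := QuotientGroup.mk'_surjective _ x
    obtain ⟨y, rfl⟩ := QuotientGroup.mk'_surjective _ y
    rw [← map_mul, ← map_mul]
    refine QuotientGroup.eq.2 ?_
    have := CfsgLib.StructC.comm_mem_frattini hG y x
    rw [mul_inv_rev]
    simpa only [mul_assoc] using this⟩⟩
  have hpow : ∀ x : G ⧸ frattini G, x ^ p = 1 := fun x => by
    obtain ⟨x, rfl⟩ := QuotientGroup.mk'_surjective _ x
    rw [← map_pow]
    exact (QuotientGroup.eq_one_iff _).2 (CfsgLib.StructC.pow_mem_frattini hG x)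
  obtain ⟨B, hB⟩ := CfsgLib.Solvable.exists_isCompl_of_pow_eq_one hpow (L.map σ)
  have hdec : ∀ v : G ⧸ frattini G, ∃ l ∈ L.map σ, ∃ b ∈ B, v = l * b := by
    intro v
    have hv : v ∈ ((L.map σ ⊔ B : Subgroup _) : Set (G ⧸ frattini G)) := by rw [hB.sup_eq_top]; trivial
    rw [Subgroup.normal_mul] at hv
    obtain ⟨l, hl, b, hb, rfl⟩ := Set.mem_mul.1 hv
    exact ⟨l, hl, b, hb, rfl⟩
  choose πL hπL bB hbB hv using hdec
  have huniq : ∀ v l, l ∈ L.map σ → l⁻¹ * v ∈ B → πL v = l := by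
    intro v l hl hb
    have h1 : l⁻¹ * πL v ∈ L.map σ ⊓ B := by
      refine Subgroup.mem_inf.2 ⟨(L.map σ).mul_mem ((L.map σ).inv_mem hl) (hπL v), ?_⟩
      have h' : (πL v)⁻¹ * v ∈ B := by rw [inv_mul_eq_iff_eq_mul.2 (hv v)]; exact hbB v
      have := mul_mem hb (inv_mem h')
      simpa [mul_assoc] using this
    rw [hB.inf_eq_bot, Subgroup.mem_bot, inv_mul_eq_one] at h1
    exact h1.symm
  let π : (G ⧸ frattini G) →* (G ⧸ frattini G) :=
    MonoidHom.mk' πL fun v w => huniq _ _ (mul_mem (hπL v) (hπL w)) (by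
      have e : (πL v * πL w)⁻¹ * (v * w) = ((πL v)⁻¹ * v) * ((πL w)⁻¹ * w) := by
        rw [mul_inv_rev, mul_comm' (πL w)⁻¹]
        simp only [mul_assoc]
        congr 1
        rw [← mul_assoc, mul_comm' _ v, mul_assoc]
      rw [e, inv_mul_eq_iff_eq_mul.2 (hv v), inv_mul_eq_iff_eq_mul.2 (hv w)]
      exact mul_mem (hbB v) (hbB w))
  let φ : A → ((G ⧸ frattini G) →* (G ⧸ frattini G)) := fun a =>
    QuotientGroup.map _ _ (MulDistribMulAction.toMonoidHom G a) (fun x hx => smul_frattini a hx)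
  have hφ : ∀ (a : A) (x : G), φ a (σ x) = σ (a • x) := fun a x => rfl
  let f : G →* (G ⧸ frattini G) :=
    MonoidHom.mk' (fun x => ∏ a : A, φ a (π (σ (a⁻¹ • x)))) fun x y => by
      rw [← Finset.prod_mul_distrib]
      exact Finset.prod_congr rfl fun a _ => by rw [smul_mul', map_mul, map_mul, map_mul]
  have hf : ∀ x, f x = ∏ a : A, φ a (π (σ (a⁻¹ • x))) := fun x => rfl
  have hφm : ∀ (a b : A) (v : G ⧸ frattini G), φ (a * b) v = φ a (φ b v) := by
    intro a b v
    obtain ⟨x, rfl⟩ := QuotientGroup.mk'_surjective _ v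
    rw [hφ, hφ, hφ, mul_smul]
  have hfa : ∀ (b : A) (x : G), f (b • x) = φ b (f x) := by
    intro b x
    rw [hf, hf, map_prod]
    refine (Fintype.prod_equiv (Equiv.mulLeft b) _ _ fun a => ?_).symm
    rw [Equiv.coe_mulLeft, mul_inv_rev, mul_smul, inv_smul_smul, hφm]
  have hfL : ∀ l ∈ L, f l = σ l ^ Nat.card A := by
    intro l hl
    rw [hf, Nat.card_eq_fintype_card, ← Finset.card_univ, ← Finset.prod_const]
    refine Finset.prod_congr rfl fun a _ => ?_
    rw [show π (σ (a⁻¹ • l)) = σ (a⁻¹ • l) from huniq _ _ (Subgroup.mem_map_of_mem σ (hLA a⁻¹ l hl))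
      (by rw [inv_mul_cancel]; exact one_mem B), hφ, smul_inv_smul]
  have hrange : ∀ x, f x ∈ L.map σ := fun x => Subgroup.prod_mem _ fun a _ => by
    obtain ⟨l, hl, he⟩ := hπL (σ (a⁻¹ • x))
    show φ a (πL (σ (a⁻¹ • x))) ∈ _
    rw [← he, hφ]
    exact Subgroup.mem_map_of_mem σ (hLA a l hl)
  have hAp : (Nat.card A).Coprime p ∨ frattini G = ⊤ := by
    rcases subsingleton_or_nontrivial G with h | h
    · exact Or.inr (Subsingleton.elim _ _)
    · obtain ⟨n, hn, hG'⟩ := hG.nontrivial_iff_card.1 h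
      rw [hG'] at hcop
      exact Or.inl ((Nat.coprime_pow_right_iff hn _ _).1 hcop)
  refine ⟨f.ker, fun a x hx => ?_, ?_, ?_⟩
  · rw [MonoidHom.mem_ker] at hx ⊢
    rw [hfa, hx, map_one]
  · rcases hAp with hAp | hAp
    swap
    · rw [hAp] at hL
      exact eq_top_iff.2 (hL.trans le_sup_left)
    rw [eq_top_iff]
    intro x _
    obtain ⟨k, hk⟩ : ∃ k, Nat.card A * k ≡ 1 [MOD p] := by
      obtain ⟨y, -, hy⟩ := Nat.exists_mul_mod_eq_one_of_coprime hAp hp.out.one_lt
      exact ⟨y, by rw [Nat.ModEq, hy, Nat.one_mod_eq_one.2 hp.out.one_lt.ne']⟩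
    obtain ⟨l, hl, hle⟩ := hrange x
    have hlx : (l ^ k)⁻¹ * x ∈ f.ker := by
      rw [MonoidHom.mem_ker, map_mul, map_inv, map_pow, hfL l hl, hle, ← pow_mul,
        pow_eq_pow_iff_modEq.2 (hk.of_dvd (orderOf_dvd_of_pow_eq_one (hpow (f x)))), pow_one, inv_mul_cancel]
    have := Subgroup.mul_mem_sup (pow_mem hl k) hlx
    rwa [mul_inv_cancel_left] at this
  · rintro x ⟨hxL, hxK⟩
    rcases hAp with hAp | hAp
    swap
    · rw [hAp]; trivial
    replace hxK : f x = 1 := hxK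
    rw [hfL x hxL] at hxK
    rw [← QuotientGroup.eq_one_iff (N := frattini G)]
    have := pow_gcd_eq_one.2 ⟨hxK, hpow (σ x)⟩
    rwa [hAp.gcd_eq_one, pow_one] at this

/-- Let the finite group A act by automorphisms on the finite group G with the orders of A and G coprime, and assume that A or G is solvable. Call a proper A-invariant subgroup of G maximal A-invariant when no A-invariant subgroup lies strictly between it and G. Then all maximal A-invariant subgroups of G are conjugate under elements of the fixed-point subgroup C_G(A) if and only if G is a p-group for some prime p and A leaves invariant no subgroup strictly between the Frattini subgroup of G and G. In that case, if G is nontrivial, the Frattini subgroup is the only maximal A-invariant subgroup (a trivial G has none). -/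
theorem result {A G : Type*} [Group A] [Finite A]
    [Group G] [Finite G] [MulDistribMulAction A G] (hcop : (Nat.card A).Coprime (Nat.card G)) (hsol : Group.IsSolvable A ∨ Group.IsSolvable G) :
    ((∀ M N : Subgroup G, (M ≠ ⊤ ∧ (∀ a : A, ∀ x ∈ M, a • x ∈ M) ∧ ∀ L : Subgroup G, M < L → (∀ a : A, ∀ x ∈ L, a • x ∈ L) → L = ⊤) → (N ≠ ⊤ ∧ (∀ a : A, ∀ x ∈ N, a • x ∈ N) ∧ ∀ L : Subgroup G, N < L → (∀ a : A, ∀ x ∈ L, a • x ∈ L) → L = ⊤) →
        ∃ c : G, (∀ a : A, a • c = c) ∧ N = MulAut.conj c • M) ↔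
      ((∃ p : ℕ, p.Prime ∧ IsPGroup p G) ∧ ∀ L : Subgroup G, frattini G < L → (∀ a : A, ∀ x ∈ L, a • x ∈ L) → L = ⊤)) ∧
    (((∃ p : ℕ, p.Prime ∧ IsPGroup p G) ∧ ∀ L : Subgroup G, frattini G < L → (∀ a : A, ∀ x ∈ L, a • x ∈ L) → L = ⊤) →
      ∀ M : Subgroup G, (M ≠ ⊤ ∧ (∀ a : A, ∀ x ∈ M, a • x ∈ M) ∧ ∀ L : Subgroup G, M < L → (∀ a : A, ∀ x ∈ L, a • x ∈ L) → L = ⊤) ↔ (M = frattini G ∧ M ≠ ⊤)) := by
  classical
  have back : ((∃ p : ℕ, p.Prime ∧ IsPGroup p G) ∧ ∀ L : Subgroup G, frattini G < L → (∀ a : A, ∀ x ∈ L, a • x ∈ L) → L = ⊤) →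
      ∀ M : Subgroup G, (M ≠ ⊤ ∧ (∀ a : A, ∀ x ∈ M, a • x ∈ M) ∧ ∀ L : Subgroup G, M < L → (∀ a : A, ∀ x ∈ L, a • x ∈ L) → L = ⊤) ↔ (M = frattini G ∧ M ≠ ⊤) := by
    intro h M
    constructor
    · intro hM
      refine ⟨le_antisymm ?_ (frattini_le_of_maximal hM), hM.1⟩
      by_contra hle
      exact hM.1 (h.2 M (lt_of_le_of_ne (frattini_le_of_maximal hM) fun e => hle e.ge) hM.2.1)
    · rintro ⟨rfl, hM⟩
      exact ⟨hM, fun a x hx => smul_frattini a hx, h.2⟩
  refine ⟨⟨fun h => ?_, fun h M N hM hN => ?_⟩, back⟩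
  swap
  · obtain ⟨rfl, -⟩ := (back h M).1 hM
    obtain ⟨rfl, -⟩ := (back h N).1 hN
    exact ⟨1, fun a => smul_one a, by rw [map_one, one_smul]⟩
  rcases subsingleton_or_nontrivial G with hs | hnt
  · exact ⟨⟨2, Nat.prime_two, fun g => ⟨0, Subsingleton.elim _ _⟩⟩, fun L _ _ => Subsingleton.elim _ _⟩
  have hcardM : ∀ M N : Subgroup G, (∃ c : G, (∀ a : A, a • c = c) ∧ N = MulAut.conj c • M) →
      Nat.card N = Nat.card M := by
    rintro M N ⟨c, -, rfl⟩
    exact Nat.card_congr (Subgroup.equivSMul (MulAut.conj c) M).symm.toEquiv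
  obtain ⟨p, hp, hpd⟩ := Nat.exists_prime_and_dvd (Finite.one_lt_card_iff_nontrivial.2 hnt).ne'
  haveI : Fact p.Prime := ⟨hp⟩
  have hpG : IsPGroup p G := by
    rw [IsPGroup.iff_card]
    refine ⟨_, Nat.eq_prime_pow_of_unique_prime_dvd Nat.card_pos.ne' fun {q} hq hqd => ?_⟩
    by_contra hqp
    haveI : Fact q.Prime := ⟨hq⟩
    -- all invariant Sylow subgroups lie in maximal invariant subgroups of equal order
    have hex : ∀ r : ℕ, r.Prime → ∃ M : Subgroup G, (M ≠ ⊤ ∧ (∀ a : A, ∀ x ∈ M, a • x ∈ M) ∧ ∀ L : Subgroup G, M < L → (∀ a : A, ∀ x ∈ L, a • x ∈ L) → L = ⊤) ∧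
        r ^ (Nat.card G).factorization r ∣ Nat.card M := by
      intro r hr
      haveI : Fact r.Prime := ⟨hr⟩
      obtain ⟨S, hSA, hS⟩ := exists_invariant_sylow' hcop hsol r
      have hSt : S ≠ ⊤ := by
        intro e
        rw [e, Subgroup.card_top] at hS
        have h1 := (Nat.prime_dvd_prime_iff_eq hp hr).1 (hp.dvd_of_dvd_pow (hS ▸ hpd))
        have h2 := (Nat.prime_dvd_prime_iff_eq hq hr).1 (hq.dvd_of_dvd_pow (hS ▸ hqd))
        exact hqp (h2.trans h1.symm)
      obtain ⟨M, hSM, hM⟩ := exists_maximal_invariant hSt hSA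
      exact ⟨M, hM, hS ▸ Subgroup.card_dvd_of_le hSM⟩
    obtain ⟨M₀, hM₀, -⟩ := hex p hp
    have hdvd : Nat.card G ∣ Nat.card M₀ := by
      rw [← Nat.factorization_le_iff_dvd Nat.card_pos.ne' Nat.card_pos.ne']
      intro r
      by_cases hr : r.Prime
      · obtain ⟨M, hM, hd⟩ := hex r hr
        rw [hcardM M M₀ (h M M₀ hM hM₀)]
        exact (hr.pow_dvd_iff_le_factorization Nat.card_pos.ne').1 hd
      · simp [Nat.factorization_eq_zero_of_not_prime _ hr]
    exact hM₀.1 (Subgroup.eq_top_of_card_eq _ (Nat.dvd_antisymm M₀.card_subgroup_dvd_card hdvd))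
  refine ⟨⟨p, hp, hpG⟩, fun L hL hLA => ?_⟩
  by_contra hLt
  obtain ⟨K, hKA, hLK, hinf⟩ := exists_invariant_complement hcop hpG hL.le hLA
  have hKt : K ≠ ⊤ := fun e => hL.not_ge (by rw [e, inf_top_eq] at hinf; exact hinf)
  obtain ⟨M, hLM, hM⟩ := exists_maximal_invariant hLt hLA
  obtain ⟨N, hKN, hN⟩ := exists_maximal_invariant hKt hKA
  obtain ⟨c, -, hc⟩ := h M N hM hN
  have hMn : M.Normal := by
    have hΦ : frattini G ≤ M := frattini_le_of_maximal hM
    refine ⟨fun x hx g => ?_⟩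
    have h1 := hΦ (CfsgLib.StructC.comm_mem_frattini hpG x⁻¹ g⁻¹)
    rw [inv_inv, inv_inv] at h1
    rw [show g * x * g⁻¹ = (x * g * x⁻¹ * g⁻¹)⁻¹ * x by group]
    exact M.mul_mem (M.inv_mem h1) hx
  have hNM : N = M := by
    haveI := hMn
    rw [hc]; exact Subgroup.Normal.conj_smul_eq_self c M
  exact hM.1 (top_le_iff.1 (hLK ▸ sup_le hLM (hNM ▸ hKN)))

end Cfsg.Agent.S4381
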