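import Cfsg.Statements.S4387
import Cfsg.Agent.Lib.StructC.Basic

set_option autoImplicit false
open Pointwise
open Cfsg

namespace Cfsg.Agent.S4387

/-- Let G be a non-trivial finite group in which any two maximal subgroups are conjugate. Then G is cyclic of prime-power order. -/
theorem result {G : Type*} [Group G] [Finite G] [Nontrivial G]
    (h : ∀ M N : Subgroup G, IsCoatom M → IsCoatom N → ∃ g : G, N = MulAut.conj g • M) :
    IsCyclic G ∧ IsPrimePow (Nat.card G) := by
  have hsub : ∀ H : Subgroup G, H ≠ ⊤ → ∃ M, IsCoatom M ∧ H ≤ M := fun H hH =>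
    (eq_top_or_exists_le_coatom H).resolve_left hH
  obtain ⟨M, hM, -⟩ := hsub ⊥ bot_ne_top
  obtain ⟨g, hg⟩ := CfsgLib.StructC.exists_notMem_conj hM.1
  have hgtop : Subgroup.zpowers g = ⊤ := by
    by_contra hne
    obtain ⟨N, hN, hle⟩ := hsub _ hne
    obtain ⟨x, rfl⟩ := h M N hM hN
    exact hg x (hle (Subgroup.mem_zpowers g))
  have hcyc : IsCyclic G := CfsgLib.StructC.isCyclic_of_zpowers_eq_top hgtop
  refine ⟨hcyc, ?_⟩
  have hMeq : ∀ N : Subgroup G, IsCoatom N → N = M := fun N hN => by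
    obtain ⟨x, rfl⟩ := h M N hM hN
    ext y
    rw [Subgroup.mem_pointwise_smul_iff_inv_smul_mem]
    have e : x⁻¹ * y * x = y := by rw [mul_assoc, (IsCyclic.isMulCommutative (α := G)).is_comm.comm y x, inv_mul_cancel_left]
    simp [MulAut.smul_def, e]
  obtain ⟨p, hp, hpM⟩ := Nat.exists_prime_and_dvd (fun he => hM.1 (Subgroup.index_eq_one.mp he))
  rw [isPrimePow_iff_unique_prime_dvd]
  refine ⟨p, ⟨hp, hpM.trans M.index_dvd_card⟩, fun q ⟨hq, hqd⟩ => ?_⟩
  by_contra hne
  have : Fact q.Prime := ⟨hq⟩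
  -- a Sylow q-subgroup is not contained in a subgroup of index divisible by q
  let Q : Sylow q G := default
  have : Fact p.Prime := ⟨hp⟩
  let P : Sylow p G := default
  have hQle : (Q : Subgroup G) ≤ M := by
    by_cases ht : (Q : Subgroup G) = ⊤
    · exfalso
      obtain ⟨n, hn⟩ := IsPGroup.iff_card.mp Q.isPGroup'
      rw [ht, Subgroup.card_top] at hn
      exact hne ((Nat.prime_dvd_prime_iff_eq hp hq).mp
        (hp.dvd_of_dvd_pow (hn ▸ hpM.trans M.index_dvd_card))).symm
    · obtain ⟨N, hN, hle⟩ := hsub _ ht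
      exact hMeq N hN ▸ hle
  have hPle : (P : Subgroup G) ≤ M := by
    by_cases ht : (P : Subgroup G) = ⊤
    · exfalso
      obtain ⟨n, hn⟩ := IsPGroup.iff_card.mp P.isPGroup'
      rw [ht, Subgroup.card_top] at hn
      exact hne ((Nat.prime_dvd_prime_iff_eq hq hp).mp (hq.dvd_of_dvd_pow (hn ▸ hqd)))
    · obtain ⟨N, hN, hle⟩ := hsub _ ht
      exact hMeq N hN ▸ hle
  exact P.not_dvd_index (hpM.trans (Subgroup.index_dvd_of_le hPle))

end Cfsg.Agent.S4387
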