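import Cfsg.Statements.S4396
import Cfsg.Agent.Lib.StructC.FrobeniusFreeMain
open CfsgLib.StructC.FrobeniusFree
open scoped Pointwise

set_option autoImplicit false
open Cfsg

namespace Cfsg.Agent.S4396

/-- Let the finite group A act faithfully and linearly on a finite-dimensional vector space V over a field k, and suppose A is a Frobenius group with nilpotent kernel F (every Frobenius kernel is nilpotent) and complement H such that F fixes no nonzero vector. Then V is free as a module for H: there is a subspace W with V the direct sum of the translates hW, h ∈ H. (No assumption on the characteristic of k.) -/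
theorem result {k V A : Type*} [Field k] [AddCommGroup V] [Module k V] [FiniteDimensional k V] [Group A] [Finite A] [DecidableEq A]
    (ρ : Representation k A V) (hρ : Function.Injective ρ)
    (Fk Hc : Subgroup A) [Fk.Normal] (hHc : Cfsg.IsFrobeniusComplement Hc) (hker : Cfsg.frobeniusKernel Hc = (Fk : Set A)) (hnil : Group.IsNilpotent ↥Fk)
    (hCF : ∀ v : V, (∀ f ∈ Fk, ρ f v = v) → v = 0) :
    ∃ W : Submodule k V, DirectSum.IsInternal (fun h : ↥Hc => W.map (ρ (h : A))) := by
  classical
  haveI : Fintype ↥Hc := Fintype.ofFinite _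
  let σ : A →* (V ≃ₗ[k] V) :=
    (LinearMap.GeneralLinearGroup.generalLinearEquiv k V).toMonoidHom.comp ρ.toHomUnits
  have hσ : ∀ a v, σ a v = ρ a v := fun a v => rfl
  have hfpf : ∀ h ∈ Hc, h ≠ 1 → ∀ f ∈ Fk, h * f * h⁻¹ = f → f = 1 := by
    intro h hh hne f hf hcomm
    by_contra hf1
    have hf' : f ∈ Cfsg.frobeniusKernel Hc := by rw [hker]; exact hf
    have hfH : f ∉ Hc := fun hm => by
      rcases hf' with h1 | h1
      · exact hf1 h1
      · exact h1 1 (by rw [map_one, one_smul]; exact hm)
    have hmem : h ∈ Hc ⊓ (MulAut.conj f • Hc) := by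
      refine ⟨hh, Subgroup.mem_pointwise_smul_iff_inv_smul_mem.2 ?_⟩
      show (MulAut.conj f)⁻¹ h ∈ Hc
      rw [MulAut.conj_inv_apply, show f⁻¹ * h * f = h by
        rw [mul_assoc, inv_mul_eq_iff_eq_mul]; exact mul_inv_eq_iff_eq_mul.1 hcomm]
      exact hh
    rw [hHc.2.2 f hfH, Subgroup.mem_bot] at hmem
    exact hne hmem
  obtain ⟨n, e, he⟩ := free_frobenius (Nat.card A) A le_rfl V σ Fk Hc hnil hfpf
    (fun v hv => hCF v fun f hf => hv f hf)
  have he' : ∀ (g : ↥Hc) v j x, e (ρ (g : A) v) j x = e v j (g⁻¹ * x) := fun g v => he g v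
  let U : Submodule k V :=
    { carrier := {v | ∀ j, ∀ x : ↥Hc, x ≠ 1 → e v j x = 0}
      add_mem' := fun {a b} ha hb j x hx => by rw [map_add]; simp [ha j x hx, hb j x hx]
      zero_mem' := fun j x _ => by rw [map_zero]; rfl
      smul_mem' := fun c {a} ha j x hx => by rw [map_smul]; simp [ha j x hx] }
  have hmem : ∀ (h : ↥Hc) v, v ∈ U.map (ρ (h : A)) ↔ ∀ j x, x ≠ h → e v j x = 0 := by
    intro h v
    constructor
    · rintro ⟨w, hw, rfl⟩ j x hx
      rw [he']
      exact hw j _ fun e' => hx (inv_mul_eq_one.1 e').symm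
    · intro hv
      refine ⟨ρ ((h⁻¹ : ↥Hc) : A) v, fun j x hx => ?_, ?_⟩
      · rw [he', inv_inv]
        exact hv j _ fun e' => hx (by simpa using e')
      · rw [← Module.End.mul_apply, ← map_mul]
        simp
  refine ⟨U, DirectSum.isInternal_submodule_iff_iSupIndep_and_iSup_eq_top _ |>.2 ⟨fun h => ?_, ?_⟩⟩
  · rw [Submodule.disjoint_def]
    intro v hv hv'
    have hle : (⨆ (g : ↥Hc) (_ : g ≠ h), U.map (ρ (g : A))) ≤
        { carrier := {v | ∀ j, e v j h = 0}
          add_mem' := fun {a b} ha hb j => by rw [map_add]; simp [ha j, hb j]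
          zero_mem' := fun j => by rw [map_zero]; rfl
          smul_mem' := fun c {a} ha j => by rw [map_smul]; simp [ha j] } := by
      refine iSup₂_le fun g hg w hw j => ?_
      exact (hmem g w).1 hw j h (Ne.symm hg)
    refine e.injective ?_
    rw [map_zero]
    funext j x
    by_cases hx : x = h
    · subst hx; exact hle hv' j
    · exact (hmem h v).1 hv j x hx
  · rw [eq_top_iff]
    intro v _
    have hv : v = ∑ h : ↥Hc, e.symm (fun j x => if x = h then e v j h else 0) := by
      refine e.injective ?_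
      rw [map_sum]
      funext j x
      simp [Finset.sum_apply]
    rw [hv]
    refine Submodule.sum_mem _ fun h _ => Submodule.mem_iSup_of_mem h ((hmem h _).2 fun j x hx => ?_)
    rw [LinearEquiv.apply_symm_apply]
    simp [hx]

end Cfsg.Agent.S4396
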