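import Cfsg.Statements.S4398
import Cfsg.Agent.Lib.Invol.RankTwoSections
import Cfsg.Agent.Lib.Invol.TwoGroups

set_option autoImplicit false
open Cfsg

namespace Cfsg.Agent.S4398

open Subgroup in
theorem maximal_class {S : Type*} [Group S] [Finite S] (h2 : IsPGroup 2 S) (hm : Cfsg.IsMetacyclic S)
    (H : Subgroup S) (h8 : Nat.card H = 8) (hna : ¬ IsMulCommutative H) :
    ((∃ k : ℕ, Nonempty (S ≃* DihedralGroup (2 ^ (k + 2)))) ∨
      (∃ k : ℕ, Nat.card S = 2 ^ (k + 4) ∧ ∃ a b : S, orderOf a = 2 ^ (k + 3) ∧ orderOf b = 2 ∧ b * a * b⁻¹ = a ^ (2 ^ (k + 2) - 1)) ∨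
      (∃ k : ℕ, Nonempty (S ≃* QuaternionGroup (2 ^ (k + 1))))) := by
  classical
  haveI : Fact (Nat.Prime 2) := ⟨Nat.prime_two⟩
  obtain ⟨A, hAn, hAc, hQc⟩ := hm
  obtain ⟨qa, hqa⟩ := isCyclic_iff_exists_zpowers_eq_top.1 hAc
  set a : S := (qa : S)
  have hAa : ∀ x ∈ A, ∃ i : ℤ, x = a ^ i := fun x hx => by
    obtain ⟨i, hi⟩ : (⟨x, hx⟩ : A) ∈ zpowers qa := hqa ▸ mem_top _
    exact ⟨i, (congrArg Subtype.val hi).symm⟩
  have hAeq : zpowers a = A := le_antisymm (zpowers_le.2 qa.2) fun x hx => by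
    obtain ⟨i, rfl⟩ := hAa x hx; exact zpow_mem (mem_zpowers a) i
  let f : H →* S ⧸ A := (QuotientGroup.mk' A).comp H.subtype
  have hker : f.ker = A.subgroupOf H := by
    ext x; exact QuotientGroup.eq_one_iff _
  have hle4 : Nat.card f.ker ≤ 4 → Nat.card f.ker = 4 := fun hle => by
    obtain ⟨n, hn⟩ := IsPGroup.iff_card.1 ((h2.to_subgroup H).to_subgroup f.ker)
    by_contra hne
    have hle2 : Nat.card f.ker ≤ 2 := by
      rw [hn] at hle hne ⊢
      have hn2 : n ≤ 2 := (Nat.pow_le_pow_iff_right (by norm_num : 1 < 2)).1 hle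
      interval_cases n <;> omega
    have hcen : f.ker ≤ center H := by
      intro x hx
      rw [mem_center_iff]
      intro g
      by_cases hx1 : x = 1
      · simp [hx1]
      · have hy : g * x * g⁻¹ ∈ f.ker := Normal.conj_mem inferInstance x hx g
        by_contra hne'
        have h3 : ({(1 : H), x, g * x * g⁻¹} : Finset H).card = 3 := Finset.card_eq_three.2
          ⟨1, x, g * x * g⁻¹, fun e => hx1 e.symm, fun e => hx1 (conj_eq_one_iff.1 e.symm),
            fun e => hne' (mul_inv_eq_iff_eq_mul.1 e.symm), rfl⟩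
        haveI := Fintype.ofFinite f.ker
        have : ({(1 : H), x, g * x * g⁻¹} : Finset H).card ≤ Nat.card f.ker := by
          rw [Nat.card_eq_fintype_card, ← Finset.card_univ,
            ← Finset.card_map (Function.Embedding.subtype (fun u => u ∈ f.ker))]
          refine Finset.card_le_card fun u hu => ?_
          simp only [Finset.mem_map, Finset.mem_univ, true_and]
          refine ⟨⟨u, ?_⟩, rfl⟩
          simp only [Finset.mem_insert, Finset.mem_singleton] at hu
          rcases hu with rfl | rfl | rfl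
          exacts [one_mem _, hx, hy]
        omega
    exact hna ⟨⟨commutative_of_cyclic_center_quotient f hcen⟩⟩
  have h4 : Nat.card f.ker = 4 := by
    refine hle4 ?_
    have hd : Nat.card f.ker ∣ 8 := h8 ▸ card_subgroup_dvd_card f.ker
    have hne8 : Nat.card f.ker ≠ 8 := fun e => hna ⟨⟨fun x y => by
      have htop : f.ker = ⊤ := eq_top_of_card_eq _ (e.trans h8.symm)
      have hx : (x : S) ∈ A := mem_subgroupOf.1 (hker ▸ htop ▸ mem_top x)
      have hy : (y : S) ∈ A := mem_subgroupOf.1 (hker ▸ htop ▸ mem_top y)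
      obtain ⟨i, hi⟩ := hAa _ hx
      obtain ⟨j, hj⟩ := hAa _ hy
      exact Subtype.ext (by rw [coe_mul, coe_mul, hi, hj, ← zpow_add, ← zpow_add, add_comm])⟩⟩
    have := Nat.le_of_dvd (by norm_num) hd
    by_contra hlt
    push Not at hlt
    have h58 : Nat.card f.ker = 5 ∨ Nat.card f.ker = 6 ∨ Nat.card f.ker = 7 := by omega
    rcases h58 with e | e | e <;> rw [e] at hd <;> norm_num at hd
  -- `w` of order four, inverted by `h`
  haveI : IsCyclic f.ker := by
    let ι : f.ker →* A := MonoidHom.mk' (fun x => (⟨((x : H) : S), mem_subgroupOf.1 (hker ▸ x.2)⟩ : A))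
      fun x y => rfl
    exact isCyclic_of_injective ι fun x y e => Subtype.ext (Subtype.ext (congrArg (fun t : A => (t : S)) e))
  obtain ⟨wk, hwk⟩ := IsCyclic.exists_generator (α := f.ker)
  set w : S := ((wk : H) : S)
  have hw : orderOf w = 4 := by
    rw [show orderOf w = orderOf wk from (orderOf_coe (wk : H)).trans (orderOf_coe wk),
      orderOf_eq_card_of_forall_mem_zpowers hwk, h4]
  obtain ⟨hh, -, hhk⟩ := CfsgLib.Invol.exists_notMem_of_card_lt (H := f.ker) (K := ⊤)
    (by rw [card_top, h4, h8]; norm_num)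
  set h : S := (hh : S)
  have hhA : h ∉ A := fun e => hhk (hker ▸ mem_subgroupOf.2 e)
  have hwA : w ∈ A := mem_subgroupOf.1 (hker ▸ wk.2)
  have hconj : ∀ g : S, g * w * g⁻¹ = w ∨ g * w * g⁻¹ = w⁻¹ := by
    intro g
    obtain ⟨i, hi⟩ := hAa _ hwA
    obtain ⟨r, hr⟩ := hAa _ (hAn.conj_mem a qa.2 g)
    have e : g * w * g⁻¹ = w ^ r := by rw [hi, ← conj_zpow, hr, ← zpow_mul, ← zpow_mul, mul_comm]
    have hr4 : r % 4 = 1 ∨ r % 4 = 3 := by
      by_contra hc
      have h5 : (g * w * g⁻¹) ^ 2 = 1 := by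
        rw [e, ← zpow_natCast, ← zpow_mul, ← orderOf_dvd_iff_zpow_eq_one, hw]
        push_cast
        omega
      rw [conj_pow, conj_eq_one_iff] at h5
      have := orderOf_dvd_of_pow_eq_one h5
      rw [hw] at this
      norm_num at this
    rcases hr4 with h5 | h5
    · left
      rw [e, ← zpow_mod_orderOf, hw]
      push_cast
      rw [h5, zpow_one]
    · right
      rw [e, ← zpow_mod_orderOf, hw]
      push_cast
      rw [h5, eq_inv_iff_mul_eq_one, ← zpow_add_one, show (3 : ℤ) + 1 = (4 : ℕ) by norm_num, zpow_natCast,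
        ← hw, pow_orderOf_eq_one]
  have hinv : h * w * h⁻¹ = w⁻¹ := by
    refine (hconj h).resolve_left fun e => hna ⟨⟨?_⟩⟩
    have hle : H ≤ (closure ({w, h} : Set S)) := by
      have hlt : (f.ker).map H.subtype < closure ({w, h} : Set S) := by
        refine lt_of_le_of_ne ?_ fun e' => ?_
        · rintro _ ⟨x, hx, rfl⟩
          obtain ⟨i, hi⟩ := hwk ⟨x, hx⟩
          rw [show H.subtype x = w ^ i from (congrArg (fun t : f.ker => ((t : H) : S)) hi).symm]
          exact Subgroup.zpow_mem _ (Subgroup.subset_closure (Set.mem_insert w {h})) i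
        · have : h ∈ (f.ker).map H.subtype :=
            e'.symm ▸ Subgroup.subset_closure (Set.mem_insert_of_mem w (Set.mem_singleton h))
          obtain ⟨x, hx, hxe⟩ := this
          exact hhk (Subtype.ext hxe ▸ hx)
      have h5 := CfsgLib.Invol.two_mul_card_le hlt
      rw [card_map_of_injective H.subtype_injective, h4] at h5
      have hcl : closure ({w, h} : Set S) ≤ H := (closure_le _).2 (by
        rintro x (rfl | rfl)
        exacts [(wk : H).2, hh.2])
      exact (eq_of_le_of_card_ge hcl (by omega)).ge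
    have hc : IsMulCommutative (closure ({w, h} : Set S)) := isMulCommutative_closure (by
      have e' : h * w = w * h := mul_inv_eq_iff_eq_mul.1 e
      rintro p (rfl | rfl) q (rfl | rfl)
      exacts [rfl, e'.symm, e', rfl])
    exact fun x y => Subtype.ext (congrArg Subtype.val (hc.is_comm.comm ⟨x, hle x.2⟩ ⟨y, hle y.2⟩) :)
  -- the cyclic subgroup has index two
  have hhh : h * h ∈ A := by
    have : (hh * hh : H) ∈ f.ker := by
      have hidx : (f.ker).index = 2 := by
        have := card_mul_index f.ker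
        rw [h4, h8] at this; omega
      exact mul_self_mem_of_index_two hidx hh
    exact mem_subgroupOf.1 (hker ▸ this)
  have hAcomm : ∀ x ∈ A, ∀ y ∈ A, Commute x y := fun x hx y hy => by
    obtain ⟨i, rfl⟩ := hAa x hx
    obtain ⟨j, rfl⟩ := hAa y hy
    exact (Commute.refl a).zpow_zpow i j
  have hwinv : w⁻¹ ≠ w := fun e => by
    have : w ^ 2 = 1 := by rw [pow_two]; exact mul_eq_one_iff_eq_inv.2 e.symm
    have := Nat.le_of_dvd (by norm_num) (orderOf_dvd_of_pow_eq_one this)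
    omega
  have hsup : ∀ g : S, g ∈ A ∨ h⁻¹ * g ∈ A := by
    obtain ⟨q, hq⟩ := isCyclic_iff_exists_zpowers_eq_top.1 hQc
    obtain ⟨g0, rfl⟩ := QuotientGroup.mk'_surjective A q
    obtain ⟨i, hi⟩ : QuotientGroup.mk' A h ∈ zpowers (QuotientGroup.mk' A g0) := hq ▸ mem_top _
    simp only at hi
    have hg0 : g0 * w * g0⁻¹ = w⁻¹ ∧ Odd i := by
      have hmem : (g0 ^ i)⁻¹ * h ∈ A := by
        rw [← map_zpow] at hi; exact QuotientGroup.eq.1 hi
      have e : g0 ^ i * w * (g0 ^ i)⁻¹ = w⁻¹ := by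
        rw [← hinv, show h = g0 ^ i * ((g0 ^ i)⁻¹ * h) by group]
        generalize (g0 ^ i)⁻¹ * h = t at hmem
        rw [show g0 ^ i * t * w * (g0 ^ i * t)⁻¹ = g0 ^ i * (t * w * t⁻¹) * (g0 ^ i)⁻¹ by group,
          (hAcomm t hmem w hwA).eq, mul_inv_cancel_right]
      have hsq : (g0 * g0) * w * (g0 * g0)⁻¹ = w := by
        rw [show g0 * g0 * w * (g0 * g0)⁻¹ = g0 * (g0 * w * g0⁻¹) * g0⁻¹ by group]
        rcases hconj g0 with e' | e'
        · rw [e', e']
        · rw [e', show g0 * w⁻¹ * g0⁻¹ = (g0 * w * g0⁻¹)⁻¹ by group, e', inv_inv]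
      have heven : ∀ l : ℤ, g0 ^ (2 * l) * w * (g0 ^ (2 * l))⁻¹ = w := fun l => by
        have hc : Commute (g0 * g0) w := mul_inv_eq_iff_eq_mul.1 hsq
        rw [zpow_mul, zpow_two, (hc.zpow_left l).eq, mul_inv_cancel_right]
      rcases Int.even_or_odd' i with ⟨l, rfl | rfl⟩
      · rw [heven] at e; exact absurd e.symm hwinv
      · refine ⟨?_, ⟨l, rfl⟩⟩
        rw [← e, zpow_add, zpow_one,
          show g0 ^ (2 * l) * g0 * w * (g0 ^ (2 * l) * g0)⁻¹ = g0 ^ (2 * l) * (g0 * w * g0⁻¹) * (g0 ^ (2 * l))⁻¹ by group]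
        rcases hconj g0 with e' | e' <;> rw [e']
        · rw [heven]
        · rw [show g0 ^ (2 * l) * w⁻¹ * (g0 ^ (2 * l))⁻¹ = (g0 ^ (2 * l) * w * (g0 ^ (2 * l))⁻¹)⁻¹ by group, heven]
    set q := QuotientGroup.mk' A g0 with hqdef
    -- `q ^ i` has order at most two and `i` is odd
    have hq2 : q * q = 1 := by
      have h2i : (q * q) ^ i = 1 := by
        rw [(Commute.refl q).mul_zpow, hi, ← map_mul]
        exact (QuotientGroup.eq_one_iff _).2 hhh
      refine CfsgLib.Invol.eq_one_of_two_odd (h2.to_quotient A) (n := i.natAbs) ?_ ?_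
      · exact fun hd => Nat.not_even_iff_odd.2 (Int.natAbs_odd.2 hg0.2) (even_iff_two_dvd.2 hd)
      · rw [← zpow_natCast, Int.natCast_natAbs]
        rcases abs_choice i with h' | h' <;> rw [h']
        · exact h2i
        · rw [zpow_neg, h2i, inv_one]
    intro g
    obtain ⟨j, hj⟩ : QuotientGroup.mk' A g ∈ zpowers q := hq ▸ mem_top _
    simp only at hj
    have hpow : ∀ j : ℤ, q ^ (2 * j) = 1 := fun j => by rw [zpow_mul, zpow_two, hq2, one_zpow]
    rcases Int.even_or_odd' j with ⟨l, rfl | rfl⟩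
    · left
      rw [hpow] at hj
      exact (QuotientGroup.eq_one_iff g).1 hj.symm
    · right
      rw [zpow_add, hpow, one_mul, zpow_one] at hj
      obtain ⟨l', hl'⟩ := hg0.2
      rw [hl', zpow_add, hpow, one_mul, zpow_one] at hi
      exact QuotientGroup.eq.1 (hi.symm.trans hj)
  obtain ⟨N, hN⟩ := IsPGroup.iff_orderOf.1 h2 a
  obtain ⟨iw, hiw⟩ := hAa _ hwA
  have hN2 : 2 ≤ N := by
    have h4' : orderOf w ∣ orderOf a := by
      rw [hiw]; exact orderOf_dvd_of_pow_eq_one (by rw [← zpow_natCast, zpow_comm, zpow_natCast, pow_orderOf_eq_one, one_zpow])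
    rw [hw, hN, show (4 : ℕ) = 2 ^ 2 by norm_num] at h4'
    exact (Nat.pow_dvd_pow_iff_le_right (by norm_num : 1 < 2)).1 h4'
  obtain ⟨M, rfl⟩ : ∃ M, N = M + 2 := ⟨N - 2, by omega⟩
  have hzero : ∀ j : ℤ, a ^ j = 1 ↔ (2 : ℤ) ^ (M + 2) ∣ j := fun j => by
    rw [← orderOf_dvd_iff_zpow_eq_one, hN]; push_cast; rfl
  obtain ⟨r, hr⟩ := hAa _ (hAn.conj_mem a qa.2 h)
  -- `r ≡ 3 mod 4` and `r ^ 2 ≡ 1`
  have hr2 : (2 : ℤ) ^ (M + 2) ∣ (r - 1) * (r + 1) := by
    have e : a = a ^ (r * r) := by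
      rw [zpow_mul, ← hr, conj_zpow, ← hr,
        show h * (h * a * h⁻¹) * h⁻¹ = (h * h) * a * (h * h)⁻¹ by group,
        (hAcomm _ hhh a qa.2).eq, mul_inv_cancel_right]
    have h5 : a ^ (r * r - 1) = 1 := by rw [zpow_sub, zpow_one, ← e, mul_inv_cancel]
    have := (hzero _).1 h5
    rwa [show (r - 1) * (r + 1) = r * r - 1 by ring]
  have hr4 : r % 4 = 3 := by
    have e : w ^ r = w⁻¹ := by
      rw [hiw, ← zpow_mul, mul_comm, zpow_mul, ← hr, conj_zpow, ← hiw, hinv]
    rw [eq_inv_iff_mul_eq_one, ← zpow_add_one, ← orderOf_dvd_iff_zpow_eq_one, hw] at e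
    push_cast at e
    omega
  have hhalf : (2 : ℤ) ^ (M + 1) ∣ r + 1 := by
    obtain ⟨t, ht⟩ : ∃ t, r - 1 = 2 * (2 * t + 1) := ⟨r / 4, by omega⟩
    rw [ht, pow_succ', mul_assoc] at hr2
    have h5 := (mul_dvd_mul_iff_left (by norm_num : (2 : ℤ) ≠ 0)).1 hr2
    refine IsCoprime.dvd_of_dvd_mul_left ?_ h5
    exact IsCoprime.pow_left ⟨-t, 1, by ring⟩
  obtain ⟨c, hc⟩ := hhalf
  set z := a ^ ((2 : ℤ) ^ (M + 1)) with hz
  have hzz : z * z = 1 := by rw [hz, ← zpow_add, hzero]; exact ⟨1, by ring⟩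
  have hz1 : z ≠ 1 := by
    rw [hz, Ne, hzero]
    intro hd
    have := Int.le_of_dvd (by positivity) hd
    rw [pow_succ 2 (M + 1)] at this
    have : (0 : ℤ) < 2 ^ (M + 1) := by positivity
    omega
  have hgenmem : ∀ g : S, g ∈ closure ({a, h} : Set S) := fun g => by
    have ha' : a ∈ closure ({a, h} : Set S) := Subgroup.subset_closure (Set.mem_insert a {h})
    have hh' : h ∈ closure ({a, h} : Set S) := Subgroup.subset_closure (Set.mem_insert_of_mem a (Set.mem_singleton h))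
    rcases hsup g with hg | hg
    · obtain ⟨j, rfl⟩ := hAa g hg; exact Subgroup.zpow_mem _ ha' j
    · obtain ⟨j, hj⟩ := hAa _ hg
      rw [show g = h * a ^ j by rw [← hj, mul_inv_cancel_left]]
      exact mul_mem hh' (Subgroup.zpow_mem _ ha' j)
  have hcard : Nat.card S = 2 ^ (M + 3) := by
    have hi : A.index = 2 := by
      refine index_eq_two_iff.2 ⟨h, fun b => ?_⟩
      rcases hsup b with hb | hb
      · exact Or.inr ⟨hb, fun hbh => hhA (by simpa using mul_mem (inv_mem hb) hbh)⟩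
      · refine Or.inl ⟨?_, fun hb' => hhA ?_⟩
        · have : b * h = h * (h⁻¹ * b) * h := by group
          rw [this]
          have := mul_mem (hAn.conj_mem _ hb h) hhh
          convert this using 1; group
        · have := mul_mem hb' (inv_mem hb)
          simpa using this
    rw [← card_mul_index A, hi, ← hAeq, Nat.card_zpowers, hN]; ring
  have hhhz : h * h = 1 ∨ h * h = z := by
    obtain ⟨j, hj⟩ := hAa _ hhh
    have e : a ^ (j * (r - 1)) = 1 := by
      rw [mul_sub, mul_one, zpow_sub, mul_comm j r, zpow_mul, ← hr, conj_zpow, ← hj]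
      group
    rw [hzero] at e
    obtain ⟨t, ht⟩ : ∃ t, r - 1 = 2 * (2 * t + 1) := ⟨r / 4, by omega⟩
    rw [ht, pow_succ', show j * (2 * (2 * t + 1)) = 2 * (j * (2 * t + 1)) by ring] at e
    have h5 := IsCoprime.dvd_of_dvd_mul_right (IsCoprime.pow_left ⟨-t, 1, by ring⟩)
      ((mul_dvd_mul_iff_left (by norm_num : (2 : ℤ) ≠ 0)).1 e)
    obtain ⟨u, hu⟩ := h5
    rw [hj, hu, zpow_mul, ← hz]
    rcases Int.even_or_odd' u with ⟨l, rfl | rfl⟩
    · exact Or.inl (by rw [zpow_mul, zpow_two, hzz, one_zpow])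
    · exact Or.inr (by rw [zpow_add, zpow_mul, zpow_two, hzz, one_zpow, one_mul, zpow_one])
  have htop : closure ({a, h} : Set S) = ⊤ := eq_top_iff.2 fun g _ => hgenmem g
  have hnot : h ∉ zpowers a := hAeq ▸ hhA
  have ho : h ≠ 1 := fun e => hhA (e ▸ one_mem A)
  rcases Int.even_or_odd' c with ⟨d, rfl | rfl⟩
  · -- inversion
    have hinva : h * a * h⁻¹ = a⁻¹ := by
      rw [hr, eq_inv_iff_mul_eq_one, ← zpow_add_one, hc, hzero]
      exact ⟨d, by ring⟩
    rcases hhhz with e | e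
    · left
      have : NeZero (2 ^ (M + 2)) := ⟨by positivity⟩
      obtain ⟨φ⟩ := CfsgLib.Invol.exists_mulEquiv_dihedral hN
        (orderOf_eq_prime (by rw [pow_two]; exact e) ho) hinva hnot
      exact ⟨M, ⟨((topEquiv (G := S)).symm.trans (MulEquiv.subgroupCongr htop.symm)).trans φ⟩⟩
    · right; right
      have : NeZero (2 ^ (M + 1)) := ⟨by positivity⟩
      obtain ⟨φ⟩ := CfsgLib.Invol.exists_mulEquiv_quaternion (n := 2 ^ (M + 1)) (r := a) (q := h)
        (by rw [hN]; ring) (by rw [e, hz, ← zpow_natCast]; push_cast; rfl) hinva hnot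
      exact ⟨M, ⟨((topEquiv (G := S)).symm.trans (MulEquiv.subgroupCongr htop.symm)).trans φ⟩⟩
  · -- semidihedral
    have hM : 1 ≤ M := by
      by_contra hM0
      rw [show M = 0 by omega] at hc
      omega
    obtain ⟨k, rfl⟩ : ∃ k, M = k + 1 := ⟨M - 1, by omega⟩
    have hexp : h * a * h⁻¹ = a ^ (2 ^ (k + 2) - 1) := by
      rw [hr, ← zpow_natCast, ← mul_inv_eq_one, ← zpow_sub, hzero,
        Nat.cast_sub (Nat.one_le_pow _ _ (by norm_num))]
      push_cast
      exact ⟨d, by rw [show r = 2 ^ (k + 1 + 1) * (2 * d + 1) - 1 by omega]; ring⟩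
    right; left
    refine ⟨k, hcard, ?_⟩
    rcases hhhz with e | e
    · exact ⟨a, h, hN, orderOf_eq_prime (by rw [pow_two]; exact e) ho, hexp⟩
    · refine ⟨a, h * a, hN, orderOf_eq_prime ?_ ?_, ?_⟩
      · rw [pow_two, show h * a * (h * a) = (h * a * h⁻¹) * (h * h) * a by group, e, hr, hz, ← zpow_add,
          ← zpow_add_one, hzero, show r = 2 ^ (k + 1 + 1) * (2 * d + 1) - 1 by omega]
        exact ⟨d + 1, by ring⟩
      · exact fun e' => hhA ((eq_inv_of_mul_eq_one_left e') ▸ inv_mem qa.2)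
      · rw [show h * a * a * (h * a)⁻¹ = h * a * h⁻¹ by group, hexp]

/-- Let S be a finite 2-group of sectional 2-rank at most 2 that contains a subgroup isomorphic to the dihedral group of order 8 or to the quaternion group of order 8. Then S is dihedral of order at least 8, semidihedral of order at least 16 (order 2^(k+4) with an element a of order 2^(k+3) and an involution b with b a b⁻¹ = a^(2^(k+2)−1)), or generalized quaternion of order at least 8. -/
theorem result {S : Type*} [Group S] [Finite S] (h2 : IsPGroup 2 S) (hr : Cfsg.SectionalPRankLE 2 2 S)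
    (hsub : ∃ H : Subgroup S, Nonempty (↥H ≃* DihedralGroup 4) ∨ Nonempty (↥H ≃* QuaternionGroup 2)) :
    ((∃ k : ℕ, Nonempty (S ≃* DihedralGroup (2 ^ (k + 2)))) ∨
      (∃ k : ℕ, Nat.card S = 2 ^ (k + 4) ∧ ∃ a b : S, orderOf a = 2 ^ (k + 3) ∧ orderOf b = 2 ∧ b * a * b⁻¹ = a ^ (2 ^ (k + 2) - 1)) ∨
      (∃ k : ℕ, Nonempty (S ≃* QuaternionGroup (2 ^ (k + 1))))) := by
  have hm := CfsgLib.Invol.isMetacyclic_of_sectional _ rfl h2 hr
  obtain ⟨H, hH⟩ := hsub
  have key : Nat.card H = 8 ∧ ¬ IsMulCommutative H := by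
    rcases hH with ⟨⟨e⟩⟩ | ⟨⟨e⟩⟩
    · refine ⟨by rw [Nat.card_congr e.toEquiv, DihedralGroup.nat_card], fun hc => ?_⟩
      have := hc.is_comm.comm (e.symm (DihedralGroup.r 1)) (e.symm (DihedralGroup.sr 0))
      rw [← map_mul, ← map_mul] at this
      exact absurd (e.symm.injective this) (by decide)
    · refine ⟨by rw [Nat.card_congr e.toEquiv, Nat.card_eq_fintype_card, QuaternionGroup.card], fun hc => ?_⟩
      have := hc.is_comm.comm (e.symm (QuaternionGroup.a 1)) (e.symm (QuaternionGroup.xa 0))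
      rw [← map_mul, ← map_mul] at this
      exact absurd (e.symm.injective this) (by decide)
  exact maximal_class h2 hm H key.1 key.2

end Cfsg.Agent.S4398
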