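import Cfsg.Statements.S4399
import Cfsg.Agent.Lib.Solvable.Nilpotent
import Cfsg.Agent.Lib.Invol.TwoGroups
import Mathlib

set_option autoImplicit false
open Cfsg
open scoped Pointwise
set_option linter.style.haveILetI false

namespace Cfsg.Agent.S4399

open scoped commutatorElement

theorem commutator_le_of_generators {S : Type*} [Group S] (N : Subgroup S) [N.Normal] (X : Set S)
    (hX : Subgroup.closure X = ⊤) (h : ∀ a ∈ X, ∀ b ∈ X, a * b * a⁻¹ * b⁻¹ ∈ N) :
    commutator S ≤ N := by
  have hg : Subgroup.closure ((QuotientGroup.mk' N) '' X) = ⊤ := by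
    rw [← MonoidHom.map_closure, hX,
      Subgroup.map_top_of_surjective _ (QuotientGroup.mk'_surjective N)]
  have hc := Subgroup.isMulCommutative_closure (k := (QuotientGroup.mk' N) '' X) (by
    rintro _ ⟨a, ha, rfl⟩ _ ⟨b, hb, rfl⟩
    have h1 : QuotientGroup.mk' N (a * b * a⁻¹ * b⁻¹) = 1 :=
      (QuotientGroup.eq_one_iff _).2 (h a ha b hb)
    rw [map_mul, map_mul, map_mul, map_inv, map_inv, mul_inv_eq_one, mul_inv_eq_iff_eq_mul] at h1
    exact h1)
  rw [commutator_eq_closure, Subgroup.closure_le]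
  rintro _ ⟨a, b, rfl⟩
  have ha : QuotientGroup.mk' N a ∈ Subgroup.closure ((QuotientGroup.mk' N) '' X) :=
    hg ▸ Subgroup.mem_top _
  have hb : QuotientGroup.mk' N b ∈ Subgroup.closure ((QuotientGroup.mk' N) '' X) :=
    hg ▸ Subgroup.mem_top _
  have hab : QuotientGroup.mk' N a * QuotientGroup.mk' N b =
      QuotientGroup.mk' N b * QuotientGroup.mk' N a :=
    congrArg Subtype.val (hc.is_comm.comm (⟨_, ha⟩ : Subgroup.closure _) ⟨_, hb⟩)
  rw [SetLike.mem_coe, ← QuotientGroup.eq_one_iff]
  show QuotientGroup.mk' N ⁅a, b⁆ = 1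
  rw [commutatorElement_def, map_mul, map_mul, map_mul, map_inv, map_inv, hab]
  group

theorem mem_normalizer_of_conj_mem {S : Type*} [Group S] [Finite S] {C : Subgroup S} {g : S}
    (h : ∀ y ∈ C, g * y * g⁻¹ ∈ C) : g ∈ Subgroup.normalizer (C : Set S) := by
  have heq : C.map (MulAut.conj g).toMonoidHom = C :=
    Subgroup.eq_of_le_of_card_ge (by rintro _ ⟨a, ha, rfl⟩; exact h a ha)
      (le_of_eq (Subgroup.card_map_of_injective (MulAut.conj g).injective).symm)
  rw [Subgroup.mem_normalizer_iff]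
  intro a
  refine ⟨h a, fun ha => ?_⟩
  obtain ⟨b, hb, hbe⟩ := (SetLike.ext_iff.1 heq _).2 ha
  have : b = a := (MulAut.conj g).injective hbe
  exact this ▸ hb

universe u


theorem exists_cyclic_index_two : ∀ (N : ℕ) (S : Type u) [Group S] [Finite S], Nat.card S = N →
    IsPGroup 2 S → (commutator S).index = 4 → (∀ x : S, x ^ 2 ∈ commutator S) →
    Nat.card S = 4 ∨ ∃ r : S, orderOf r * 2 = Nat.card S := by
  intro N
  induction N using Nat.strong_induction_on with
  | _ N ih =>
    intro S _ _ hN hS hidx hexp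
    haveI : Fact (Nat.Prime 2) := ⟨Nat.prime_two⟩
    by_cases h4 : Nat.card S = 4
    · exact Or.inl h4
    right
    haveI := hS.isNilpotent
    have hne : commutator S ≠ ⊥ := fun h => h4 (by rw [← hidx, h, Subgroup.index_bot])
    have hne' := CfsgLib.Solvable.normal_inf_center_ne_bot (commutator S) hne
    obtain ⟨z, hzo⟩ : ∃ z : ↥(commutator S ⊓ Subgroup.center S), orderOf z = 2 := by
      refine exists_prime_orderOf_dvd_card' 2 ?_
      obtain ⟨j, hj⟩ := (hS.to_subgroup (commutator S ⊓ Subgroup.center S)).exists_card_eq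
      rcases Nat.eq_zero_or_pos j with rfl | hj0
      · exact absurd (Subgroup.eq_bot_of_card_eq _ hj) hne'
      · rw [hj]; exact dvd_pow_self 2 hj0.ne'
    obtain ⟨z, hzm⟩ := z
    rw [Subgroup.orderOf_mk] at hzo
    obtain ⟨hzc, hzZ⟩ := hzm
    set Z := Subgroup.zpowers z with hZ
    haveI : Z.Normal := ⟨fun a ha g => by
      have hac : a ∈ Subgroup.center S := Subgroup.zpowers_le.2 hzZ ha
      rwa [Subgroup.mem_center_iff.1 hac g, mul_inv_cancel_right]⟩
    have hmap : commutator (S ⧸ Z) = (commutator S).map (QuotientGroup.mk' Z) := by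
      rw [commutator_def, commutator_def, Subgroup.map_commutator,
        Subgroup.map_top_of_surjective _ (QuotientGroup.mk'_surjective Z)]
    have hidx' : (commutator (S ⧸ Z)).index = 4 := by
      rw [hmap, Subgroup.index_map_eq _ (QuotientGroup.mk'_surjective Z)
        (by rw [QuotientGroup.ker_mk']; exact Subgroup.zpowers_le.2 hzc), hidx]
    have hexp' : ∀ x : S ⧸ Z, x ^ 2 ∈ commutator (S ⧸ Z) := by
      intro x
      obtain ⟨a, rfl⟩ := QuotientGroup.mk'_surjective Z x
      rw [hmap, ← map_pow]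
      exact Subgroup.mem_map_of_mem _ (hexp a)
    have hcard : Nat.card (S ⧸ Z) * 2 = Nat.card S := by
      rw [← hzo, ← Nat.card_zpowers z, ← Subgroup.index_eq_card, Subgroup.index_mul_card]
    have hpos : 0 < Nat.card (S ⧸ Z) := Nat.card_pos
    have hih := ih _ (by omega) (S ⧸ Z) rfl (hS.to_quotient Z) hidx' hexp'
    by_cases hQ4 : Nat.card (S ⧸ Z) = 4
    swap
    obtain ⟨rb, hrb⟩ := hih.resolve_left hQ4
    rotate_left
    · -- order eight: some element has order four
      by_contra hno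
      push Not at hno
      have hinv : ∀ x : S, x * x = 1 := by
        intro x
        obtain ⟨j, hj⟩ := IsPGroup.iff_orderOf.1 hS x
        have hle : j ≤ 3 := (Nat.pow_dvd_pow_iff_le_right (by norm_num)).1
          (show 2 ^ j ∣ 2 ^ 3 by
            rw [← hj, show (2 : ℕ) ^ 3 = Nat.card S by omega]; exact orderOf_dvd_natCard x)
        rcases j with _ | _ | _ | _ | j
        · rw [pow_zero, orderOf_eq_one_iff] at hj; simp [hj]
        · rw [← pow_two, show (2 : ℕ) = 2 ^ (0 + 1) from rfl, ← hj, pow_orderOf_eq_one]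
        · exact absurd (by rw [hj]; omega : orderOf x * 2 = Nat.card S) (hno x)
        · exfalso
          have hgen : IsCyclic S := isCyclic_of_orderOf_eq_card x (by rw [hj]; omega)
          haveI := IsCyclic.isMulCommutative (α := S)
          apply hne
          rw [eq_bot_iff, commutator_eq_closure, Subgroup.closure_le]
          rintro _ ⟨a, b, rfl⟩
          rw [SetLike.mem_coe, Subgroup.mem_bot, commutatorElement_def, mul_comm' a b]
          group
        · omega
      apply hne
      rw [eq_bot_iff, commutator_eq_closure, Subgroup.closure_le]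
      rintro _ ⟨a, b, rfl⟩
      have hi : ∀ x : S, x⁻¹ = x := fun x => inv_eq_of_mul_eq_one_right (hinv x)
      rw [SetLike.mem_coe, Subgroup.mem_bot, commutatorElement_def, hi a, hi b, mul_assoc]
      exact hinv (a * b)
    obtain ⟨r, rfl⟩ := QuotientGroup.mk'_surjective Z rb
    by_cases hzr : z ∈ Subgroup.zpowers r
    · refine ⟨r, ?_⟩
      have hZr : Z ≤ Subgroup.zpowers r := Subgroup.zpowers_le.2 hzr
      have e : Nat.card ((Subgroup.zpowers r).map (QuotientGroup.mk' Z)) * 2 = orderOf r := by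
        have h2 := CfsgLib.Solvable.card_map_mk'_mul Z (Subgroup.zpowers r)
        rw [inf_eq_right.2 hZr, Nat.card_zpowers, hzo, Nat.card_zpowers] at h2
        exact h2
      rw [MonoidHom.map_zpowers, Nat.card_zpowers] at e
      rw [← hcard, ← hrb, ← e]
    exfalso
    have hz2 : z * z = 1 := by rw [← pow_two, ← hzo, pow_orderOf_eq_one]
    -- the element `r` has the same order in the quotient
    have hor : orderOf (QuotientGroup.mk' Z r) = orderOf r := by
      refine Nat.dvd_antisymm (orderOf_map_dvd _ r) (orderOf_dvd_of_pow_eq_one ?_)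
      have h1 : r ^ orderOf (QuotientGroup.mk' Z r) ∈ Z := by
        rw [← QuotientGroup.eq_one_iff]
        show QuotientGroup.mk' Z (r ^ orderOf (QuotientGroup.mk' Z r)) = 1
        rw [map_pow, pow_orderOf_eq_one]
      obtain ⟨i, hi⟩ := Subgroup.mem_zpowers_iff.1 h1
      rcases Int.even_or_odd i with ⟨j, rfl⟩ | ⟨j, rfl⟩
      · rw [← hi, ← two_mul, zpow_mul, zpow_two, hz2, one_zpow]
      · exfalso
        apply hzr
        have h2 : z ^ (2 * j + 1) = z := by rw [zpow_add, zpow_mul, zpow_two, hz2, one_zpow, one_mul, zpow_one]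
        rw [← h2, hi]
        exact Subgroup.pow_mem _ (Subgroup.mem_zpowers r) _
    rw [hor] at hrb
    set M := Subgroup.zpowers r ⊔ Z with hM
    have hMcard : Nat.card M = orderOf r * 2 := by
      have h2 := CfsgLib.Solvable.card_map_mk'_mul Z M
      rw [inf_eq_right.2 (le_sup_right : Z ≤ M), Nat.card_zpowers, hzo] at h2
      rw [← h2, hM, Subgroup.map_sup, (Subgroup.map_eq_bot_iff Z).2 (QuotientGroup.ker_mk' Z).ge,
        sup_bot_eq, MonoidHom.map_zpowers, Nat.card_zpowers, hor]
    have hMi : M.index = 2 := by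
      have h2 := M.index_mul_card
      rw [hMcard, ← hcard, ← hrb, mul_comm] at h2
      have hr0 := orderOf_pos r
      exact Nat.eq_of_mul_eq_mul_left (by omega : 0 < orderOf r * 2) (by rw [h2])
    haveI hMn : M.Normal := Subgroup.normal_of_index_eq_two hMi
    obtain ⟨b, hb⟩ : ∃ b, b ∉ M := by
      by_contra h
      push Not at h
      rw [(eq_top_iff.2 fun x _ => h x : M = ⊤), Subgroup.index_top] at hMi
      omega
    have hrM : r ∈ M := Subgroup.mem_sup_left (Subgroup.mem_zpowers r)
    have hzcomm : ∀ g, g * z = z * g := fun g => Subgroup.mem_center_iff.1 hzZ g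
    haveI : Z.Normal := inferInstance
    obtain ⟨_, ⟨s, rfl⟩, _, ⟨ε, rfl⟩, hconj⟩ :=
      Subgroup.mem_sup_of_normal_right.1 (hMn.conj_mem r hrM b)
    dsimp only at hconj
    have hcrz : Commute r z := hzcomm r
    set c := r ^ (s - 1) * z ^ ε with hc
    have hcM : ∀ g ∈ M, g * c = c * g := by
      intro g hg
      have hle : M ≤ Subgroup.centralizer ({c} : Set S) := by
        refine sup_le (Subgroup.zpowers_le.2 ?_) (Subgroup.zpowers_le.2 ?_) <;>
          rw [Subgroup.mem_centralizer_singleton_iff]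
        · exact (((Commute.refl r).zpow_right _).mul_right (hcrz.zpow_right _)).eq
        · exact (hzcomm c).symm
      exact Subgroup.mem_centralizer_singleton_iff.1 (hle hg)
    have hbc : b * c * b⁻¹ = c ^ s := by
      have hpz : ∀ i : ℤ, b * z ^ i * b⁻¹ = z ^ i := fun i => by
        rw [((show Commute b z from hzcomm b).zpow_right i).eq, mul_inv_cancel_right]
      calc b * c * b⁻¹ = (b * r * b⁻¹) ^ (s - 1) * (b * z ^ ε * b⁻¹) := by
            rw [conj_zpow, hc]; group
        _ = (r ^ s * z ^ ε) ^ (s - 1) * z ^ ε := by rw [← hconj, hpz]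
        _ = c ^ s := by
            rw [hc, (hcrz.zpow_zpow _ _).mul_zpow, (hcrz.zpow_zpow _ _).mul_zpow, ← zpow_mul,
              ← zpow_mul, ← zpow_mul, mul_assoc, ← zpow_add]
            rw [show s * (s - 1) = (s - 1) * s by ring, show ε * (s - 1) + ε = ε * s by ring, zpow_mul z ε s]
    haveI hCn : (Subgroup.zpowers c).Normal := by
      rw [← Subgroup.normalizer_eq_top_iff, eq_top_iff]
      have htop : M ⊔ Subgroup.zpowers b = ⊤ := by
        apply Subgroup.eq_top_of_card_eq
        have hlt : M < M ⊔ Subgroup.zpowers b := lt_of_le_of_ne le_sup_left fun h =>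
          hb (h ▸ Subgroup.mem_sup_right (Subgroup.mem_zpowers b))
        obtain ⟨d, hd⟩ := Subgroup.card_dvd_of_le (hlt.le)
        have h2 := (M ⊔ Subgroup.zpowers b).card_subgroup_dvd_card
        have h3 := M.index_mul_card
        rw [hMi] at h3
        have hMpos : 0 < Nat.card M := Nat.card_pos
        have hd1 : d ≠ 1 := fun h => hlt.ne (Subgroup.eq_of_le_of_card_ge hlt.le (by rw [hd, h, mul_one]))
        rw [hd, ← h3, mul_comm 2] at h2
        have h4 := Nat.le_of_dvd two_pos (Nat.dvd_of_mul_dvd_mul_left hMpos h2)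
        have hd0 : d ≠ 0 := fun h => by rw [h, mul_zero] at hd; exact Nat.card_pos.ne' hd
        rw [hd, ← h3, show d = 2 by omega, mul_comm]
      rw [← htop]
      refine sup_le (fun g hg => ?_) (Subgroup.zpowers_le.2 ?_)
      · apply Subgroup.centralizer_le_normalizer
        rw [Subgroup.mem_centralizer_iff]
        intro y hy
        obtain ⟨i, rfl⟩ := Subgroup.mem_zpowers_iff.1 hy
        exact (Commute.zpow_left (show Commute c g from (hcM g hg).symm) i).eq
      · apply mem_normalizer_of_conj_mem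
        intro y hy
        obtain ⟨i, rfl⟩ := Subgroup.mem_zpowers_iff.1 hy
        rw [← conj_zpow, hbc, ← zpow_mul]
        exact Subgroup.zpow_mem _ (Subgroup.mem_zpowers c) _
    have hS' : commutator S ≤ Subgroup.zpowers c := by
      refine commutator_le_of_generators _ ({r, z, b} : Set S) ?_ ?_
      · rw [eq_top_iff]
        intro g _
        have hMle : M ≤ Subgroup.closure ({r, z, b} : Set S) :=
          sup_le (Subgroup.zpowers_le.2 (Subgroup.subset_closure (by simp)))
            (Subgroup.zpowers_le.2 (Subgroup.subset_closure (by simp)))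
        have hbm : b ∈ Subgroup.closure ({r, z, b} : Set S) := Subgroup.subset_closure (by simp)
        by_cases hg : g ∈ M
        · exact hMle hg
        · have h' := (Subgroup.mul_mem_iff_of_index_two hMi).2 (iff_of_false hg hb)
          have := Subgroup.mul_mem _ (hMle h') (Subgroup.inv_mem _ hbm)
          rwa [mul_inv_cancel_right] at this
      · have hbr : b * r * b⁻¹ * r⁻¹ = c := by
          rw [← hconj, hc, mul_assoc, ← (hcrz.inv_left.zpow_right ε).eq, ← mul_assoc, zpow_sub_one]
        have key : ∀ g : S, g * z * g⁻¹ * z⁻¹ = 1 := fun g => by rw [hzcomm g]; group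
        have key' : ∀ g : S, z * g * z⁻¹ * g⁻¹ = 1 := fun g => by rw [← hzcomm g]; group
        intro x hx y hy
        simp only [Set.mem_insert_iff, Set.mem_singleton_iff] at hx hy
        rcases hx with rfl | rfl | rfl <;> rcases hy with rfl | rfl | rfl <;>
          first
          | (rw [mul_inv_cancel_right, mul_inv_cancel]; exact Subgroup.one_mem _)
          | (rw [key]; exact Subgroup.one_mem _)
          | (rw [key']; exact Subgroup.one_mem _)
          | (rw [hbr]; exact Subgroup.mem_zpowers c)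
          | (rw [← inv_inv (_ * _ * _ * _), show (x * y * x⁻¹ * y⁻¹)⁻¹ = c by rw [← hbr]; group]
             exact Subgroup.inv_mem _ (Subgroup.mem_zpowers c))
    obtain ⟨i, hi⟩ := Subgroup.mem_zpowers_iff.1 (hS' hzc)
    rw [hc, (hcrz.zpow_zpow _ _).mul_zpow, ← zpow_mul, ← zpow_mul] at hi
    have hr1 : r ^ ((s - 1) * i) = z ^ (1 - ε * i) := by
      rw [zpow_sub, zpow_one]; exact eq_mul_inv_of_mul_eq hi
    have heven : ∀ j : ℤ, Even j → z ^ j = 1 := fun j hj => by
      obtain ⟨e, rfl⟩ := hj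
      rw [← two_mul, zpow_mul, zpow_two, hz2, one_zpow]
    have hodd : ¬ Odd (1 - ε * i) := by
      intro h
      apply hzr
      obtain ⟨e, he⟩ := h
      have h2 : z ^ (1 - ε * i) = z := by
        rw [he, zpow_add_one, heven _ ⟨e, by ring⟩, one_mul]
      rw [← h2, ← hr1]
      exact Subgroup.zpow_mem _ (Subgroup.mem_zpowers r) _
    rw [Int.not_odd_iff_even] at hodd
    rw [heven _ hodd] at hr1
    have hiodd : Odd i := by
      rcases Int.even_or_odd i with h | h
      · exfalso
        obtain ⟨e, he⟩ := hodd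
        obtain ⟨f, rfl⟩ := h
        have : (2 : ℤ) * (e + ε * f) = 1 := by linarith
        omega
      · exact h
    have hrs : r ^ (s - 1) = 1 := by
      obtain ⟨j, hj⟩ := IsPGroup.iff_orderOf.1 hS r
      rw [← orderOf_dvd_iff_zpow_eq_one, hj] at hr1 ⊢
      obtain ⟨e, he⟩ := hiodd
      have hco : IsCoprime (((2 ^ j : ℕ) : ℤ)) i := by
        push_cast; rw [he]; exact IsCoprime.pow_left ⟨-e, 1, by ring⟩
      exact hco.dvd_of_dvd_mul_right hr1
    have hle : Nat.card (commutator S) ≤ 2 := by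
      refine (Subgroup.card_le_of_le hS').trans ?_
      rw [Nat.card_zpowers, hc, hrs, one_mul]
      exact Nat.le_of_dvd two_pos (orderOf_dvd_of_pow_eq_one (by
        rw [← zpow_natCast, ← zpow_mul]; exact heven _ ⟨ε, by push_cast; ring⟩))
    have h8 := (commutator S).index_mul_card
    rw [hidx] at h8
    obtain ⟨j, hj⟩ := hS.exists_card_eq
    have hSne4 := h4
    have hcl : 4 * Nat.card (commutator S) = 2 ^ j := by omega
    have hpos2 : 0 < Nat.card (commutator S) := Nat.card_pos
    obtain ⟨k, hk⟩ := (hS.to_quotient Z).exists_card_eq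
    have hk3 : 3 ≤ k := by
      by_contra hlt
      have h4le : Nat.card (commutator (S ⧸ Z)) * 4 = Nat.card (S ⧸ Z) := by
        rw [← hidx']; exact Subgroup.card_mul_index _
      have : 0 < Nat.card (commutator (S ⧸ Z)) := Nat.card_pos
      interval_cases k <;> omega
    have : 2 ^ 3 ≤ 2 ^ k := Nat.pow_le_pow_right two_pos hk3
    omega

/-- Let S be a finite 2-group whose commutator quotient S/[S,S] is a Klein four-group (order 4 and exponent 2). Then S itself has order 4, or S is dihedral of order at least 8, semidihedral of order at least 16 (order 2^(k+4) with an element a of order 2^(k+3) and an involution b with b a b⁻¹ = a^(2^(k+2)−1)), or generalized quaternion of order at least 8. -/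
theorem result {S : Type*} [Group S] [Finite S] (h2 : IsPGroup 2 S) (hab : Nat.card (Abelianization S) = 4)
    (hexp : ∀ x : Abelianization S, x ^ 2 = 1) :
    Nat.card S = 4 ∨
    ((∃ k : ℕ, Nonempty (S ≃* DihedralGroup (2 ^ (k + 2)))) ∨
      (∃ k : ℕ, Nat.card S = 2 ^ (k + 4) ∧ ∃ a b : S, orderOf a = 2 ^ (k + 3) ∧ orderOf b = 2 ∧ b * a * b⁻¹ = a ^ (2 ^ (k + 2) - 1)) ∨
      (∃ k : ℕ, Nonempty (S ≃* QuaternionGroup (2 ^ (k + 1))))) := by
  classical
  haveI : Fact (Nat.Prime 2) := ⟨Nat.prime_two⟩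
  have hidx : (commutator S).index = 4 := by rw [Subgroup.index_eq_card]; exact hab
  have hexp2 : ∀ x : S, x ^ 2 ∈ commutator S := by
    intro x
    rw [← QuotientGroup.eq_one_iff, QuotientGroup.mk_pow]
    exact hexp (Abelianization.of x)
  by_cases h4 : Nat.card S = 4
  · exact Or.inl h4
  right
  obtain ⟨r, hr⟩ := (exists_cyclic_index_two _ S rfl h2 hidx hexp2).resolve_left h4
  obtain ⟨m, hm⟩ := IsPGroup.iff_orderOf.1 h2 r
  set A := Subgroup.zpowers r with hA
  have hrA : r ∈ A := Subgroup.mem_zpowers r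
  have hAi : A.index = 2 := by
    have h := A.index_mul_card
    rw [Nat.card_zpowers, ← hr, mul_comm (orderOf r)] at h
    exact Nat.eq_of_mul_eq_mul_right (orderOf_pos r) h
  haveI hAn : A.Normal := Subgroup.normal_of_index_eq_two hAi
  have hm2 : 2 ≤ m := by
    by_contra hlt
    have h := (commutator S).card_mul_index
    rw [hidx, ← hr, hm] at h
    have h0 : 0 < Nat.card (commutator S) := Nat.card_pos
    interval_cases m <;> omega
  obtain ⟨l, rfl⟩ := Nat.exists_eq_add_of_le' hm2
  obtain ⟨b, hb⟩ : ∃ b, b ∉ A := by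
    by_contra h
    push Not at h
    rw [(eq_top_iff.2 fun x _ => h x : A = ⊤), Subgroup.index_top] at hAi
    omega
  have hb2 : b * b ∈ A := (Subgroup.mul_mem_iff_of_index_two hAi).2 Iff.rfl
  obtain ⟨j, hj⟩ := Subgroup.mem_zpowers_iff.1 hb2
  obtain ⟨s, hs⟩ := Subgroup.mem_zpowers_iff.1 (hAn.conj_mem r hrA b)
  have hgen : ∀ y : S, y ∉ A → Subgroup.closure ({r, y} : Set S) = ⊤ := by
    intro y hy
    rw [eq_top_iff]
    intro g _
    have hle : A ≤ Subgroup.closure ({r, y} : Set S) :=
      Subgroup.zpowers_le.2 (Subgroup.subset_closure (by simp))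
    by_cases hg : g ∈ A
    · exact hle hg
    · have h := hle ((Subgroup.mul_mem_iff_of_index_two hAi).2 (iff_of_false hg hy))
      have h' := Subgroup.mul_mem _ h (Subgroup.inv_mem _
        (Subgroup.subset_closure (by simp : y ∈ ({r, y} : Set S))))
      rwa [mul_inv_cancel_right] at h'
  have hpowc : ∀ i : ℤ, b * r ^ i * b⁻¹ = r ^ (s * i) := fun i => by
    rw [zpow_mul, hs]; exact (conj_zpow ..).symm
  set N : ℤ := 2 ^ (l + 2) with hN
  have hmod : ∀ i : ℤ, r ^ i = 1 ↔ N ∣ i := fun i => by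
    rw [← orderOf_dvd_iff_zpow_eq_one, hm, hN]; push_cast; rfl
  have hN4 : N = 4 * 2 ^ l := by rw [hN]; ring
  have hs2 : N ∣ s * s - 1 := by
    rw [← hmod, zpow_sub, zpow_mul, zpow_one]
    have h1 : (r ^ s) ^ s = r := by
      rw [← zpow_mul, ← hpowc, hs,
        show b * (b * r * b⁻¹) * b⁻¹ = (b * b) * r * (b * b)⁻¹ by group, ← hj]
      group
    rw [h1, mul_inv_cancel]
  have hjs : N ∣ j * (s - 1) := by
    rw [← hmod, mul_sub, mul_one, zpow_sub, mul_inv_eq_one, mul_comm j s, ← hpowc, hj]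
    group
  -- the derived subgroup
  set c := r ^ (s - 1) with hc
  haveI hCn : (Subgroup.zpowers c).Normal := by
    rw [← Subgroup.normalizer_eq_top_iff, eq_top_iff, ← hgen b hb, Subgroup.closure_le]
    rintro g (rfl | rfl)
    · apply mem_normalizer_of_conj_mem
      intro y hy
      obtain ⟨i, rfl⟩ := Subgroup.mem_zpowers_iff.1 hy
      rw [hc, ← zpow_mul, show g * g ^ ((s - 1) * i) * g⁻¹ = g ^ ((s - 1) * i) by group, zpow_mul]
      exact Subgroup.zpow_mem _ (Subgroup.mem_zpowers _) _
    · apply mem_normalizer_of_conj_mem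
      intro y hy
      obtain ⟨i, rfl⟩ := Subgroup.mem_zpowers_iff.1 hy
      rw [hc, ← zpow_mul, hpowc, show s * ((s - 1) * i) = (s - 1) * (s * i) by ring, zpow_mul]
      exact Subgroup.zpow_mem _ (Subgroup.mem_zpowers _) _
  have hS' : commutator S ≤ Subgroup.zpowers c := by
    refine commutator_le_of_generators _ ({r, b} : Set S) (hgen b hb) ?_
    have h1 : b * r * b⁻¹ * r⁻¹ = c := by rw [← hs, hc, zpow_sub_one]
    intro x hx y hy
    rcases hx with rfl | rfl <;> rcases hy with rfl | rfl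
    · rw [mul_inv_cancel_right, mul_inv_cancel]; exact Subgroup.one_mem _
    · rw [show x * y * x⁻¹ * y⁻¹ = (y * x * y⁻¹ * x⁻¹)⁻¹ by group, h1]
      exact Subgroup.inv_mem _ (Subgroup.mem_zpowers c)
    · rw [h1]; exact Subgroup.mem_zpowers c
    · rw [mul_inv_cancel_right, mul_inv_cancel]; exact Subgroup.one_mem _
  have hS'card : Nat.card (commutator S) = 2 ^ (l + 1) := by
    have h := (commutator S).card_mul_index
    rw [hidx, ← hr, hm] at h
    rw [pow_succ, pow_succ] at h
    rw [pow_succ]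
    omega
  have hs4 : ¬ (4 : ℤ) ∣ s - 1 := by
    rintro ⟨e, he⟩
    have h1 : c ^ (2 ^ l : ℕ) = 1 := by
      rw [hc, ← zpow_natCast, ← zpow_mul, hmod, he, hN4]
      exact ⟨e, by push_cast; ring⟩
    have h2 := Subgroup.card_le_of_le hS'
    rw [hS'card, Nat.card_zpowers] at h2
    have h3 := Nat.le_of_dvd (by positivity) (orderOf_dvd_of_pow_eq_one h1)
    rw [pow_succ] at h2
    have : 0 < 2 ^ l := by positivity
    omega
  obtain ⟨u, hu⟩ : ∃ u : ℤ, s = 4 * u + 3 := by
    obtain ⟨e, he⟩ := hs2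
    rw [hN4] at he
    rcases Int.even_or_odd s with ⟨t, rfl⟩ | ⟨t, rfl⟩
    · exfalso
      have : (2 : ℤ) * (2 * t * t - 2 * 2 ^ l * e) = 1 := by linarith
      omega
    · rcases Int.even_or_odd t with ⟨u, rfl⟩ | ⟨u, rfl⟩
      · exact absurd ⟨u, by ring⟩ hs4
      · exact ⟨u, by ring⟩
  subst hu
  have hcop : IsCoprime ((2 : ℤ) ^ (l + 1)) (2 * u + 1) :=
    IsCoprime.pow_left ⟨-u, 1, by ring⟩
  have hu1 : (2 : ℤ) ^ (l + 1) ∣ 4 * u + 3 + 1 := by
    refine hcop.dvd_of_dvd_mul_left ?_
    obtain ⟨e, he⟩ := hs2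
    rw [hN4] at he
    exact ⟨e, by rw [pow_succ]; linarith⟩
  have hj1 : (2 : ℤ) ^ (l + 1) ∣ j := by
    refine hcop.dvd_of_dvd_mul_right ?_
    obtain ⟨e, he⟩ := hjs
    rw [hN4] at he
    exact ⟨e, by rw [pow_succ]; linarith⟩
  obtain ⟨v, hv⟩ := hu1
  obtain ⟨d, hd⟩ := hj1
  have hrnot : ∀ i : ℤ, r ^ i * b ∉ A := fun i h => hb (by
    have h' := A.mul_mem (A.inv_mem (A.zpow_mem hrA i)) h
    rwa [inv_mul_cancel_left] at h')
  have hsquare : ∀ i : ℤ, (r ^ i * b) * (r ^ i * b) = r ^ (i * (4 * u + 3 + 1) + j) := by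
    intro i
    rw [show r ^ i * b * (r ^ i * b) = r ^ i * (b * r ^ i * b⁻¹) * (b * b) by group, hpowc, ← hj,
      ← zpow_add, ← zpow_add]
    congr 1; ring
  have hconjg : ∀ i : ℤ, (r ^ i * b) * r * (r ^ i * b)⁻¹ = r ^ (4 * u + 3) := by
    intro i
    rw [hs, show r ^ i * b * r * (r ^ i * b)⁻¹ = r ^ i * (b * r * b⁻¹) * (r ^ i)⁻¹ by group, ← hs]
    group
  rcases Int.even_or_odd v with ⟨v', rfl⟩ | ⟨v', rfl⟩
  · -- inversion
    have hinv : ∀ i : ℤ, (r ^ i * b) * r * (r ^ i * b)⁻¹ = r⁻¹ := fun i => by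
      rw [hconjg, eq_inv_iff_mul_eq_one, ← zpow_add_one, hmod, hN4, hv]
      exact ⟨v', by rw [pow_succ]; ring⟩
    rcases Int.even_or_odd d with ⟨d', rfl⟩ | ⟨d', rfl⟩
    · left
      refine ⟨l, ?_⟩
      have hy2 : orderOf b = 2 := by
        refine orderOf_eq_prime ?_ fun h => hb (h ▸ A.one_mem)
        rw [pow_two, ← hj, hmod, hd, hN4]
        exact ⟨d', by rw [pow_succ]; ring⟩
      haveI : NeZero (2 ^ (l + 2)) := ⟨by positivity⟩
      obtain ⟨e⟩ := CfsgLib.Invol.exists_mulEquiv_dihedral hm hy2 (by simpa using hinv 0) hb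
      exact ⟨(Subgroup.topEquiv.symm.trans (MulEquiv.subgroupCongr (hgen b hb).symm)).trans e⟩
    · right; right
      refine ⟨l, ?_⟩
      haveI : NeZero (2 ^ (l + 1)) := ⟨by positivity⟩
      have hbb : b * b = r ^ (2 ^ (l + 1) : ℕ) := by
        rw [← hj, ← zpow_natCast, ← mul_inv_eq_one, ← zpow_sub, hmod, hd, hN4]
        exact ⟨d', by push_cast; rw [pow_succ]; ring⟩
      obtain ⟨e⟩ := CfsgLib.Invol.exists_mulEquiv_quaternion (n := 2 ^ (l + 1))
        (by rw [hm, pow_succ']) hbb (by simpa using hinv 0) hb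
      exact ⟨(Subgroup.topEquiv.symm.trans (MulEquiv.subgroupCongr (hgen b hb).symm)).trans e⟩
  · -- semidihedral
    obtain ⟨k, rfl⟩ : ∃ k, l = k + 1 := by
      refine ⟨l - 1, ?_⟩
      rcases l with _ | l
      · exfalso; rw [zero_add, pow_one] at hv; omega
      · omega
    right; left
    obtain ⟨i, hi⟩ : ∃ i : ℤ, N ∣ i * (4 * u + 3 + 1) + j := by
      rcases Int.even_or_odd d with ⟨d', rfl⟩ | ⟨d', rfl⟩
      · exact ⟨0, d', by rw [hd, hN4, pow_succ _ (k + 1)]; ring⟩
      · exact ⟨1, v' + d' + 1, by rw [hd, hv, hN4, pow_succ _ (k + 1)]; ring⟩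
    refine ⟨k, by rw [← hr, hm]; ring, r, r ^ i * b, by rw [hm], ?_, ?_⟩
    · refine orderOf_eq_prime ?_ fun h => hrnot i (h ▸ A.one_mem)
      rw [pow_two, hsquare, hmod]; exact hi
    · rw [hconjg, ← zpow_natCast, ← mul_inv_eq_one, ← zpow_sub, hmod, Nat.cast_sub Nat.one_le_two_pow,
        hN4, show (4 * u + 3) = (4 * u + 3 + 1) - 1 by ring, hv]
      push_cast
      exact ⟨v', by rw [pow_succ _ (k + 1)]; ring⟩

end Cfsg.Agent.S4399
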