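import Cfsg.Statements.S4400
import Cfsg.Agent.Lib.StructC.SectionalFour

set_option autoImplicit false
open Cfsg

namespace Cfsg.Agent.S4400

/-- Let S be a finite 2-group of sectional 2-rank at most 4, and let P and Q be normal non-abelian subgroups of S whose centres have order 2 and are different. Then P and Q commute elementwise and intersect trivially, and PQ contains its own centralizer in S. -/
theorem result {S : Type*} [Group S] [Finite S] (h2 : IsPGroup 2 S) (hr : Cfsg.SectionalPRankLE 2 4 S)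
    (P Q : Subgroup S) [P.Normal] [Q.Normal] (hP : ¬ IsMulCommutative ↥P) (hQ : ¬ IsMulCommutative ↥Q)
    (hZP : Nat.card ↥(Subgroup.center ↥P) = 2) (hZQ : Nat.card ↥(Subgroup.center ↥Q) = 2)
    (hne : (Subgroup.center ↥P).map P.subtype ≠ (Subgroup.center ↥Q).map Q.subtype) :
    ⁅P, Q⁆ = ⊥ ∧ P ⊓ Q = ⊥ ∧ Subgroup.centralizer ((P ⊔ Q : Subgroup S) : Set S) ≤ P ⊔ Q := by
  obtain ⟨z, hzc, hzm⟩ := CfsgLib.StructC.SectionalFour.exists_cent P hZP
  obtain ⟨z', hzc', hzm'⟩ := CfsgLib.StructC.SectionalFour.exists_cent Q hZQ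
  obtain ⟨hdis, hcom⟩ := CfsgLib.StructC.SectionalFour.disjoint_of_normalize h2 hzc hzc'
    (fun e => hne (by rw [hzm, hzm', e]))
    (Subgroup.normalizer_eq_top Q ▸ le_top) (Subgroup.normalizer_eq_top P ▸ le_top)
  refine ⟨?_, ?_, fun c hc => ?_⟩
  · rw [Subgroup.commutator_eq_bot_iff_le_centralizer]
    exact fun p hp => Subgroup.mem_centralizer_iff.2 fun q hq => (hcom p hp q hq).symm.eq
  · exact eq_bot_iff.2 fun x hx => Subgroup.mem_bot.2 (hdis x hx.1 hx.2)
  · obtain ⟨a, b, ha, hb, rfl⟩ := CfsgLib.StructC.SectionalFour.centralizer_le h2 hr hzc hzc' hP hQ hdis hcom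
      (c := c) (fun p hp => Subgroup.mem_centralizer_iff.1 hc p (Subgroup.mem_sup_left hp))
      (fun q hq => Subgroup.mem_centralizer_iff.1 hc q (Subgroup.mem_sup_right hq))
    refine Subgroup.mul_mem_sup ?_ ?_
    · rcases ha with rfl | rfl
      exacts [one_mem _, hzc.mem]
    · rcases hb with rfl | rfl
      exacts [one_mem _, hzc'.mem]

end Cfsg.Agent.S4400
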