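import Cfsg.Statements.S4402
import Cfsg.Agent.Lib.SRank.WreathQuot

set_option autoImplicit false
open Cfsg

namespace Cfsg.Agent.S4402

open CfsgLib.Amalgam.DihWr CfsgLib.SRank

/-- Let S be a finite 2-group of sectional 2-rank at most 4 and P a proper subgroup isomorphic to the wreath product of the dihedral group of order 8 by a group of order 2 (equivalently, to a Sylow 2-subgroup of the symmetric group of degree 8; order 128). Then Z(S) = Z(P) has order 2, P has index 2 in its normalizer N_S(P), N_S(P)/Z(S) is again isomorphic to that wreath product, and every elementary abelian subgroup V of order 16 that is normal in P satisfies N_S(V) = P. -/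
theorem result {S : Type*} [Group S] [Finite S] (h2 : IsPGroup 2 S) (hr : Cfsg.SectionalPRankLE 2 4 S)
    (P : Subgroup S) (hPlt : P ≠ ⊤) (hP : ∃ T : Sylow 2 (Equiv.Perm (Fin 8)), Nonempty (↥P ≃* ↥(T : Subgroup (Equiv.Perm (Fin 8))))) :
    Subgroup.center S = (Subgroup.center ↥P).map P.subtype ∧ Nat.card ↥(Subgroup.center S) = 2 ∧
    P.relIndex (Subgroup.normalizer (P : Set S)) = 2 ∧
    (∃ (_ : ((Subgroup.center S).subgroupOf (Subgroup.normalizer (P : Set S))).Normal) (T : Sylow 2 (Equiv.Perm (Fin 8))),
      Nonempty (↥(Subgroup.normalizer (P : Set S)) ⧸ (Subgroup.center S).subgroupOf (Subgroup.normalizer (P : Set S)) ≃*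
        ↥(T : Subgroup (Equiv.Perm (Fin 8))))) ∧
    ∀ V : Subgroup S, V ≤ P → (∀ g ∈ P, ∀ v ∈ V, g * v * g⁻¹ ∈ V) → Cfsg.IsElementaryAbelian 2 V → Nat.card ↥V = 16 →
      Subgroup.normalizer (V : Set S) = P := by
  classical
  obtain ⟨T, ⟨eT⟩⟩ := hP
  obtain ⟨eW⟩ := WreathModel.sylow_perm_eight T
  let f : DW →* S := P.subtype.comp (eW.trans eT.symm).toMonoidHom
  have hrange : f.range = P := by
    show (P.subtype.comp (eW.trans eT.symm).toMonoidHom).range = P
    rw [MonoidHom.range_comp, MonoidHom.range_eq_top.2 (eW.trans eT.symm).surjective, ← MonoidHom.range_eq_map,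
      Subgroup.range_subtype]
  have hf : WreathNorm.Setup f := ⟨Subtype.val_injective.comp (eW.trans eT.symm).injective, h2, hr⟩
  clear_value f
  subst hrange
  refine ⟨by rw [hf.center_eq.1, hf.center_range], hf.center_eq.2, hf.relIndex_normalizer hPlt, ?_, ?_⟩
  · haveI hn : ((Subgroup.center S).subgroupOf (Subgroup.normalizer (f.range : Set S))).Normal :=
      Subgroup.Normal.subgroupOf inferInstance _
    exact ⟨hn, hf.exists_quot_iso hPlt⟩
  · intro V hV hn hE h16
    exact hf.normalizer_four hV hn (fun a ha => by rw [← pow_two]; exact hE.2 a ha) h16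

end Cfsg.Agent.S4402
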