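import Cfsg.Statements.S4404
import Cfsg.Agent.Lib.StructC.SmallCommutatorElement
import Cfsg.Agent.Lib.OddLocal.NormalRankThree
import Cfsg.Agent.Lib.Solvable.Hall
import Cfsg.Agent.S1450

set_option autoImplicit false
open Cfsg

namespace Cfsg.Agent.S4404

open Subgroup CfsgLib.StructC.SmallComm
open scoped Pointwise commutatorElement

variable {S : Type*} [Group S] [Finite S]

/-- An elementary abelian group of order at least `r³` normalising a small `U ⊇ W`. -/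
theorem finish_small {M : Subgroup S} [M.Normal] (hM : Cfsg.IsElementaryAbelian 2 M) {r : ℕ} (hr : r.Prime)
    {W U : Subgroup S} (hWU : W ≤ U) (hUM : U ≤ M) {n : ℕ} (hn : Nat.card U = 2 ^ n)
    (hgl : ¬ r ^ 2 ∣ ∏ i : Fin n, (2 ^ n - 2 ^ (i : ℕ))) {F : Subgroup S}
    (hF : Cfsg.IsElementaryAbelian r F) (hF3 : r ^ 3 ≤ Nat.card F)
    (hFU : F ≤ normalizer (U : Set S)) :
    ∃ F' : Subgroup S, Cfsg.IsElementaryAbelian r F' ∧ Nat.card F' = r ^ 3 ∧
      ¬ IsCyclic ↥(F' ⊓ centralizer (W : Set S)) := by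
  haveI := Fact.mk hr
  let θ : F →* MulAut U := U.normalizerMonoidHom.comp (inclusion hFU)
  have hFr : IsPGroup r F := fun x => ⟨1, Subtype.ext (by simpa using hF.2 x x.2)⟩
  obtain ⟨j, hj⟩ := IsPGroup.iff_card.1 (hFr.of_surjective θ.rangeRestrict θ.rangeRestrict_surjective)
  have hdvd : Nat.card θ.range ∣ ∏ i : Fin n, (2 ^ n - 2 ^ (i : ℕ)) :=
    (card_subgroup_dvd_card _).trans (card_mulAut_dvd
      (fun a b => Subtype.ext (comm_M hM (hUM a.2) (hUM b.2)))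
      (fun a => Subtype.ext (by simpa using hM.2 a (hUM a.2))) hn)
  have hj1 : j ≤ 1 := by
    by_contra h
    exact hgl ((pow_dvd_pow r (by omega : 2 ≤ j)).trans (hj ▸ hdvd))
  set K := θ.ker.map F.subtype with hK
  have hKF : K ≤ F := map_subtype_le _
  have hKC : K ≤ centralizer (W : Set S) := by
    rintro _ ⟨g, hg, rfl⟩
    exact mem_centralizer_iff.2 fun w hw =>
      (mul_inv_eq_iff_eq_mul.1 (congrArg Subtype.val
        (DFunLike.congr_fun (MonoidHom.mem_ker.1 hg) (⟨w, hWU hw⟩ : U)))).symm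
  have hK2 : r ^ 2 ≤ Nat.card K := by
    have h := card_mul_index θ.ker
    rw [index_ker, hj, ← card_map_of_injective (f := F.subtype) F.subtype_injective, ← hK] at h
    refine Nat.le_of_mul_le_mul_right (le_trans ?_ (h.ge.trans (Nat.mul_le_mul_left _
      (Nat.pow_le_pow_right hr.pos hj1)))) (pow_pos hr.pos 1)
    rw [← pow_add]
    exact hF3
  have hKd : r ^ 2 ∣ Nat.card θ.ker := by
    obtain ⟨i, hi⟩ := (hFr.to_subgroup θ.ker).exists_card_eq
    rw [hK, card_map_of_injective F.subtype_injective, hi] at hK2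
    rw [hi]
    exact pow_dvd_pow r ((Nat.pow_le_pow_iff_right hr.one_lt).1 hK2)
  obtain ⟨K₂, hK₂⟩ := Sylow.exists_subgroup_card_pow_prime r hKd
  have hF3d : r ^ 3 ∣ Nat.card F := by
    obtain ⟨i, hi⟩ := hFr.exists_card_eq
    rw [hi] at hF3 ⊢
    exact pow_dvd_pow r ((Nat.pow_le_pow_iff_right hr.one_lt).1 hF3)
  obtain ⟨F₃, hF₃, hle⟩ := Sylow.exists_subgroup_card_pow_prime_le r hF3d (K₂.map θ.ker.subtype)
    (by rw [card_map_of_injective θ.ker.subtype_injective, hK₂]) (by norm_num)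
  refine ⟨F₃.map F.subtype, ⟨?_, ?_⟩, by rw [card_map_of_injective F.subtype_injective, hF₃], fun hc => ?_⟩
  · refine ⟨⟨fun a b => Subtype.ext ?_⟩⟩
    have := congrArg Subtype.val (hF.1.is_comm.comm
      (⟨a, map_subtype_le _ a.2⟩ : F) ⟨b, map_subtype_le _ b.2⟩)
    exact this
  · exact fun a ha => hF.2 a (map_subtype_le _ ha)
  · set T := (K₂.map θ.ker.subtype).map F.subtype with hT
    have hTle : T ≤ F₃.map F.subtype ⊓ centralizer (W : Set S) :=
      le_inf (map_mono hle) ((map_mono (map_subtype_le _)).trans hKC)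
    have hTc : IsCyclic T := isCyclic_of_injective (inclusion hTle) (inclusion_injective hTle)
    have hTcard : Nat.card T = r ^ 2 := by
      rw [hT, card_map_of_injective F.subtype_injective, card_map_of_injective θ.ker.subtype_injective, hK₂]
    obtain ⟨g, hg⟩ := hTc.exists_generator
    have h1 : orderOf g = r ^ 2 := by rw [orderOf_eq_card_of_forall_mem_zpowers hg, hTcard]
    have h2 : orderOf g ∣ r := orderOf_dvd_of_pow_eq_one (Subtype.ext (by
      simpa using hF.2 (g : S) (map_subtype_le _ g.2)))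
    have := Nat.le_of_dvd hr.pos (h1 ▸ h2)
    nlinarith [hr.two_le]

theorem five_cube : ∀ z : ZMod 5, z ^ 3 = 1 → z = 1 := by decide

theorem gl_three_three {n : ℕ} (hn : n ≤ 4) : ¬ 3 ^ 3 ∣ ∏ i : Fin n, (2 ^ n - 2 ^ (i : ℕ)) := by
  interval_cases n <;> norm_num [Fin.prod_univ_succ]

theorem gl_seven_three {n : ℕ} (hn : n ≤ 6) : ¬ 7 ^ 3 ∣ ∏ i : Fin n, (2 ^ n - 2 ^ (i : ℕ)) := by
  interval_cases n <;> norm_num [Fin.prod_univ_succ]

theorem gl_five_seven {n p : ℕ} (hn : n ≤ 4) (hp : p.Prime) (h2 : p ≠ 2) (h3 : p ≠ 3)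
    (h : p ∣ ∏ i : Fin n, (2 ^ n - 2 ^ (i : ℕ))) : (p = 5 ∨ p = 7) ∧ ¬ p ^ 2 ∣ ∏ i : Fin n, (2 ^ n - 2 ^ (i : ℕ)) := by
  have h4 : p ∣ 2 ^ 6 * 3 ^ 2 * 5 * 7 := by
    refine h.trans ?_
    interval_cases n <;> norm_num [Fin.prod_univ_succ]
  have hp' : p = 5 ∨ p = 7 := by
    rcases (Nat.Prime.dvd_mul hp).1 h4 with h5 | h5
    · rcases (Nat.Prime.dvd_mul hp).1 h5 with h6 | h6
      · rcases (Nat.Prime.dvd_mul hp).1 h6 with h7 | h7
        · exact absurd ((Nat.prime_dvd_prime_iff_eq hp Nat.prime_two).1 (hp.dvd_of_dvd_pow h7)) h2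
        · exact absurd ((Nat.prime_dvd_prime_iff_eq hp Nat.prime_three).1 (hp.dvd_of_dvd_pow h7)) h3
      · exact Or.inl ((Nat.prime_dvd_prime_iff_eq hp (by norm_num)).1 h6)
    · exact Or.inr ((Nat.prime_dvd_prime_iff_eq hp (by norm_num)).1 h5)
  refine ⟨hp', ?_⟩
  rcases hp' with rfl | rfl <;> interval_cases n <;> norm_num [Fin.prod_univ_succ]

/-- Let S be a finite solvable group and M a normal elementary abelian 2-subgroup of S. Suppose S contains an elementary abelian subgroup of order p³ for some odd prime p, and a cyclic 3-subgroup Q such that the cubes of the elements of Q centralize M and the commutator subgroup [Q, M] has order 4 (a four-group inside M). Then S contains an elementary abelian subgroup F of order r³, for some odd prime r, whose centralizer of [Q, M] in F — the subgroup C_F([Q, M]) — is not cyclic. -/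
theorem result {S : Type*} [Group S] [Finite S]
    [Group.IsSolvable S] (M : Subgroup S) [M.Normal] (hM : Cfsg.IsElementaryAbelian 2 M)
    (p : ℕ) (hp : p.Prime) (hp2 : p ≠ 2) (E : Subgroup S) (hE : Cfsg.IsElementaryAbelian p E) (hE3 : Nat.card ↥E = p ^ 3)
    (Q : Subgroup S) (hQc : IsCyclic ↥Q) (hQ3 : IsPGroup 3 ↥Q)
    (hQ1 : ∀ x ∈ Q, x ^ 3 ∈ Subgroup.centralizer (M : Set S)) (hQM : Nat.card ↥⁅Q, M⁆ = 4) :
    ∃ (r : ℕ) (F : Subgroup S), r.Prime ∧ r ≠ 2 ∧ Cfsg.IsElementaryAbelian r F ∧ Nat.card ↥F = r ^ 3 ∧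
      ¬ IsCyclic ↥(F ⊓ Subgroup.centralizer ((⁅Q, M⁆ : Subgroup S) : Set S)) := by
  haveI : Fact (Nat.Prime 3) := ⟨Nat.prime_three⟩
  haveI : Fact p.Prime := ⟨hp⟩
  classical
  obtain ⟨⟨q, hqQ⟩, hgen⟩ := hQc.exists_generator
  have hQz : Subgroup.zpowers q = Q := by
    refine le_antisymm (zpowers_le.2 hqQ) fun x hx => ?_
    obtain ⟨i, hi⟩ := mem_zpowers_iff.1 (hgen ⟨x, hx⟩)
    exact mem_zpowers_iff.2 ⟨i, congrArg Subtype.val hi⟩
  have hqodd : Odd (orderOf q) := odd_orderOf_of_pGroup (ℓ := 3) (by norm_num) hQ3 hqQ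
  have hq3 : q ^ 3 ∈ Subgroup.centralizer (M : Set S) := hQ1 q hqQ
  set W := ⁅Q, M⁆ with hW
  have hWc : W = cm M q := by rw [hW, ← hQz, commutator_zpowers hM]
  have hW4 : Nat.card ↥(cm M q) = 2 ^ 2 := by rw [← hWc, hQM]; norm_num
  have hqM : q ∉ Subgroup.centralizer (M : Set S) := fun h => by
    rw [(mem_centralizer_iff_cm hM).1 h, Subgroup.card_bot] at hW4
    norm_num at hW4
  have hirr : ∀ Y : Subgroup S, Y ≤ cm M q → q ∈ normalizer (Y : Set S) → Y = ⊥ ∨ Y = cm M q := by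
    intro Y hY hqY
    have h1 := card_modEq hM (ℓ := 3) hqodd hq3 hY hqY
    have h2 : Nat.card Y ∣ 2 ^ 2 := hW4 ▸ card_dvd_of_le hY
    obtain ⟨i, hi, hYi⟩ := (Nat.dvd_prime_pow Nat.prime_two).1 h2
    interval_cases i
    · exact Or.inl (card_eq_one.1 hYi)
    · rw [hYi] at h1; exact absurd h1 (by decide)
    · exact Or.inr (eq_of_le_of_card_ge hY (by rw [hW4, hYi]))
  have hgl2 : ∀ r : ℕ, r.Prime → r ≠ 2 → ¬ r ^ 2 ∣ ∏ i : Fin 2, (2 ^ 2 - 2 ^ (i : ℕ)) := by
    intro r hr hr2 h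
    have h6 : r ^ 2 ∣ 6 := by simpa [Fin.prod_univ_succ] using h
    have := Nat.le_of_dvd (by norm_num) h6
    have := hr.two_le
    nlinarith [show 3 ≤ r by omega]
  have finishW : ∀ r : ℕ, r.Prime → r ≠ 2 → ∀ F : Subgroup S, Cfsg.IsElementaryAbelian r F →
      r ^ 3 ≤ Nat.card F → F ≤ normalizer ((cm M q : Subgroup S) : Set S) →
      ∃ (r : ℕ) (F : Subgroup S), r.Prime ∧ r ≠ 2 ∧ Cfsg.IsElementaryAbelian r F ∧
        Nat.card ↥F = r ^ 3 ∧ ¬ IsCyclic ↥(F ⊓ centralizer ((W : Subgroup S) : Set S)) := by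
    intro r hr hr2 F hF hF3 hFN
    obtain ⟨F', h1, h2, h3⟩ := finish_small hM hr (hWc ▸ le_rfl : W ≤ cm M q) (cm_le q) hW4
      (hgl2 r hr hr2) hF hF3 hFN
    exact ⟨r, F', hr, hr2, h1, h2, h3⟩
  by_cases hr3 : Cfsg.PRankLE 3 2 S
  swap
  · -- a 3-group of rank three containing `Q`
    rw [Cfsg.PRankLE] at hr3
    push Not at hr3
    obtain ⟨A, hAc, hAe, hA9⟩ := hr3
    have hA3 : IsPGroup 3 A := fun x => ⟨1, Subtype.ext (by simpa using hAe x x.2)⟩
    obtain ⟨R, hQR⟩ := hQ3.exists_le_sylow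
    obtain ⟨R', hAR'⟩ := hA3.exists_le_sylow
    obtain ⟨g, hg⟩ := MulAction.exists_smul_eq S R' R
    have hBR : A.map (MulAut.conj g).toMonoidHom ≤ R := by
      rw [← hg]; exact map_mono hAR'
    set B := (A.map (MulAut.conj g).toMonoidHom).subgroupOf (R : Subgroup S) with hB
    have hBc : IsMulCommutative B := by
      refine ⟨⟨fun a b => Subtype.ext (Subtype.ext ?_)⟩⟩
      obtain ⟨x, hx, hxa⟩ := a.2
      obtain ⟨y, hy, hyb⟩ := b.2
      show ((a : ↥(R : Subgroup S)) : S) * (b : ↥(R : Subgroup S)) = (b : ↥(R : Subgroup S)) * (a : ↥(R : Subgroup S))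
      have e : x * y = y * x := congrArg Subtype.val (hAc.is_comm.comm (⟨x, hx⟩ : A) ⟨y, hy⟩)
      calc _ = (MulAut.conj g).toMonoidHom (x * y) := by rw [map_mul, hxa, hyb]; rfl
        _ = (MulAut.conj g).toMonoidHom (y * x) := by rw [e]
        _ = _ := by rw [map_mul, hxa, hyb]; rfl
    have hBe : ∀ a ∈ B, a ^ 3 = 1 := by
      intro a ha
      obtain ⟨x, hx, hxa⟩ := ha
      refine Subtype.ext ?_
      show (a : S) ^ 3 = 1
      have hxa' : (MulAut.conj g).toMonoidHom x = (a : S) := hxa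
      rw [← hxa', ← map_pow, hAe x hx, map_one]
    have hB3 : 3 ^ 3 ≤ Nat.card B := by
      obtain ⟨i, hi⟩ := hA3.exists_card_eq
      rw [hB, Nat.card_congr (subgroupOfEquivOfLe hBR).toEquiv,
        card_map_of_injective (f := (MulAut.conj g).toMonoidHom) (MulAut.conj g).injective, hi]
      rw [hi] at hA9
      have := (Nat.pow_lt_pow_iff_right (by norm_num : 1 < 3)).1 hA9
      exact Nat.pow_le_pow_right (by norm_num) (by omega)
    obtain ⟨F₀, hF₀n, hF₀, hF₀3⟩ :=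
      CfsgLib.OddLocal.exists_normal_elementary_three (p := 3) (by norm_num) R.2 hBc hBe hB3
    set F := F₀.map (R : Subgroup S).subtype with hFdef
    have hFR : F ≤ R := map_subtype_le _
    have hF : Cfsg.IsElementaryAbelian 3 F := by
      refine ⟨⟨⟨fun a b => Subtype.ext ?_⟩⟩, ?_⟩
      · obtain ⟨x, hx, hxa⟩ := a.2
        obtain ⟨y, hy, hyb⟩ := b.2
        show (a : S) * b = b * a
        rw [← hxa, ← hyb, ← map_mul, ← map_mul]
        exact congrArg _ (congrArg Subtype.val (hF₀.1.is_comm.comm (⟨x, hx⟩ : F₀) ⟨y, hy⟩))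
      · rintro _ ⟨x, hx, rfl⟩
        rw [← map_pow, hF₀.2 x hx, map_one]
    have hqF : q ∈ normalizer (F : Set S) := by
      rw [CfsgLib.Coprime.mem_normalizer_iff_map_conj]
      refine eq_of_le_of_card_ge ?_ (CfsgLib.Coprime.card_map_conj _ _).ge
      rintro _ ⟨_, ⟨x, hx, rfl⟩, rfl⟩
      exact ⟨⟨q, hQR hqQ⟩ * x * ⟨q, hQR hqQ⟩⁻¹, hF₀n.conj_mem x hx _, rfl⟩
    refine finishW 3 Nat.prime_three (by norm_num) F hF
      (by rw [hFdef, card_map_of_injective (R : Subgroup S).subtype_injective]; exact hF₀3) ?_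
    refine le_normalizer_cm hM hqodd hqM hirr hF.1 hqF
      (fun f hf => odd_orderOf_of_pGroup (ℓ := 3) (by norm_num) R.2 (hFR hf)) fun f hf => ?_
    refine commutator_mem_of_small hM (ℓ := 3) (by norm_num) (k := 2) (fun n hn => gl_three_three hn) R.2
      (mul_mem (mul_mem (hFR hf) (hQR hqQ)) (inv_mem (hFR hf))) (hQR hqQ) ?_ hW4.le
    rw [← cm_conj, CfsgLib.Coprime.card_map_conj, hW4]
  -- the 3-rank is at most two
  have hp3 : p ≠ 3 := by
    rintro rfl
    have := hr3 E hE.1 hE.2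
    rw [hE3] at this
    norm_num at this
  have hpG : p ∣ Nat.card S := dvd_trans (dvd_pow_self p (by norm_num : (3:ℕ) ≠ 0))
    (hE3 ▸ card_subgroup_dvd_card E)
  set c := Nat.card S with hc
  have hc0 : c ≠ 0 := Nat.card_pos.ne'
  set m := 3 ^ c.factorization 3 * p ^ c.factorization p with hm
  have hcop3p : Nat.Coprime (3 ^ c.factorization 3) (p ^ c.factorization p) :=
    ((Nat.coprime_primes Nat.prime_three hp).2 (Ne.symm hp3)).pow _ _
  have hmd : m ∣ c := hcop3p.mul_dvd_of_dvd_of_dvd (Nat.ordProj_dvd c 3) (Nat.ordProj_dvd c p)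
  obtain ⟨k, hk⟩ := hmd
  have hk0 : k ≠ 0 := by rintro rfl; simp at hk; exact hc0 hk
  have hndvd : ∀ r : ℕ, r.Prime → r ^ c.factorization r ∣ m → ¬ r ∣ k := by
    intro r hr hrm hd
    have : r ^ (c.factorization r + 1) ∣ c := by
      rw [pow_succ]; exact (mul_dvd_mul hrm hd).trans hk.symm.dvd
    exact Nat.pow_succ_factorization_not_dvd hc0 hr this
  have h3k := hndvd 3 Nat.prime_three (dvd_mul_right _ _)
  have hpk := hndvd p hp (dvd_mul_left _ _)
  have hmk : m.Coprime k := Nat.Coprime.mul_left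
    ((Nat.prime_three.coprime_iff_not_dvd.2 h3k).pow_left _)
    ((hp.coprime_iff_not_dvd.2 hpk).pow_left _)
  obtain ⟨i3, hi3⟩ := hQ3.exists_card_eq
  obtain ⟨H, hH, hQH⟩ := CfsgLib.Solvable.exists_hall_ge hk hmk (K := Q)
    (hi3 ▸ (Nat.prime_three.coprime_iff_not_dvd.2 h3k).pow_left i3)
  obtain ⟨g, hg⟩ := CfsgLib.Solvable.exists_conj_le_hall hk hmk hH (K := E)
    (hE3 ▸ (hp.coprime_iff_not_dvd.2 hpk).pow_left 3)
  have hHodd : Odd (Nat.card H) := by
    rw [hH, hm]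
    exact (Odd.pow (by decide)).mul ((hp.odd_of_ne_two hp2).pow)
  have h3H : 3 ∣ Nat.card H := by
    obtain ⟨_ | i, hi⟩ := hQ3.exists_card_eq
    · exact absurd (by
        have hq1 : q = 1 := mem_bot.1 ((card_eq_one.1 (by rw [hi, pow_zero])).le hqQ)
        rw [hq1]; exact one_mem _) hqM
    · exact (hi ▸ dvd_pow_self 3 (Nat.succ_ne_zero i)).trans (card_dvd_of_le hQH)
  have hrH : Cfsg.PRankLE 3 2 H := fun A hAc hAe => by
    rw [← card_map_of_injective (f := H.subtype) H.subtype_injective]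
    refine hr3 _ ⟨⟨fun a b => Subtype.ext ?_⟩⟩ ?_
    · obtain ⟨x, hx, hxa⟩ := a.2
      obtain ⟨y, hy, hyb⟩ := b.2
      show (a : S) * b = b * a
      rw [← hxa, ← hyb, ← map_mul, ← map_mul]
      exact congrArg _ (congrArg Subtype.val (hAc.is_comm.comm (⟨x, hx⟩ : A) ⟨y, hy⟩))
    · rintro _ ⟨x, hx, rfl⟩
      rw [← map_pow, hAe x hx, map_one]
  haveI : Group.IsSolvable H := inferInstance
  obtain ⟨P₃, N, hNn, hNc⟩ := (Cfsg.Agent.S1450.result hHodd 3 h3H hrH).2.1 (Or.inl rfl)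
  set R := N.map H.subtype with hRdef
  have hNp : IsPGroup p N := by
    have h1 := hNc.card_mul
    obtain ⟨j, hj⟩ := P₃.2.exists_card_eq
    rw [hH, hj] at h1
    have h3N : ¬ 3 ∣ Nat.card N := by
      intro hd
      have hj' : j = c.factorization 3 := by
        have := P₃.card_eq_multiplicity
        rw [hj, hH, hm, Nat.factorization_mul (by positivity) (pow_ne_zero _ hp.ne_zero),
          Finsupp.add_apply, Nat.prime_three.factorization_pow, hp.factorization_pow,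
          Finsupp.single_eq_same, Finsupp.single_eq_of_ne (Ne.symm hp3), add_zero] at this
        exact Nat.pow_right_injective (by norm_num) this
      rw [hj', hm, mul_comm] at h1
      have h2 := Nat.eq_of_mul_eq_mul_left (pow_pos (by norm_num : 0 < 3) _) h1
      rw [h2] at hd
      exact hp3 ((Nat.prime_dvd_prime_iff_eq Nat.prime_three hp).1 (Nat.prime_three.dvd_of_dvd_pow hd)).symm
    have h2 : Nat.card N ∣ p ^ c.factorization p :=
      ((Nat.prime_three.coprime_iff_not_dvd.2 h3N).symm.pow_right _).dvd_of_dvd_mul_left (Dvd.intro _ h1)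
    obtain ⟨e, -, he⟩ := (Nat.dvd_prime_pow hp).1 h2
    exact IsPGroup.of_card he
  have hRp : IsPGroup p R := hNp.map _
  have hqR : q ∈ normalizer (R : Set S) := by
    rw [CfsgLib.Coprime.mem_normalizer_iff_map_conj]
    refine eq_of_le_of_card_ge ?_ (CfsgLib.Coprime.card_map_conj _ _).ge
    rintro _ ⟨_, ⟨x, hx, rfl⟩, rfl⟩
    exact ⟨⟨q, hQH hqQ⟩ * x * ⟨q, hQH hqQ⟩⁻¹, hNn.conj_mem x hx _, rfl⟩
  set E' := E.map (MulAut.conj g).toMonoidHom with hE'
  have hE'H : E' ≤ H := hg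
  have hE'p : IsPGroup p E' := IsPGroup.map (fun x : E => ⟨1, Subtype.ext (by simpa using hE.2 x x.2)⟩) _
  have hE'R : E' ≤ R := by
    intro x hx
    refine ⟨⟨x, hE'H hx⟩, ?_, rfl⟩
    haveI := hNn
    obtain ⟨i, hi⟩ := hE'p ⟨x, hx⟩
    obtain ⟨j, hj⟩ := P₃.2.exists_card_eq
    have hcard : Nat.card (H ⧸ N) = 3 ^ j := by
      rw [← index_eq_card, hNc.symm.index_eq_card, hj]
    have h1 : orderOf (QuotientGroup.mk' N ⟨x, hE'H hx⟩) ∣ 3 ^ j := hcard ▸ orderOf_dvd_natCard _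
    have h2 : orderOf (QuotientGroup.mk' N ⟨x, hE'H hx⟩) ∣ p ^ i := orderOf_dvd_of_pow_eq_one (by
      rw [← map_pow, show (⟨x, hE'H hx⟩ : H) ^ p ^ i = 1 from
        Subtype.ext (by have := congrArg Subtype.val hi; exact this), map_one])
    exact (QuotientGroup.eq_one_iff _).1 (orderOf_eq_one_iff.1 (Nat.eq_one_of_dvd_coprimes
      (((Nat.coprime_primes Nat.prime_three hp).2 (Ne.symm hp3)).pow j i) h1 h2))
  have hE'el : Cfsg.IsElementaryAbelian p E' := by
    refine ⟨⟨⟨fun a b => Subtype.ext ?_⟩⟩, ?_⟩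
    · obtain ⟨x, hx, hxa⟩ := a.2
      obtain ⟨y, hy, hyb⟩ := b.2
      show (a : S) * b = b * a
      rw [← hxa, ← hyb, ← map_mul, ← map_mul]
      exact congrArg _ (congrArg Subtype.val (hE.1.is_comm.comm (⟨x, hx⟩ : E) ⟨y, hy⟩))
    · rintro _ ⟨x, hx, rfl⟩
      rw [← map_pow, hE.2 x hx, map_one]
  have hE'3 : p ^ 3 ≤ Nat.card E' := by
    rw [hE', card_map_of_injective (f := (MulAut.conj g).toMonoidHom) (MulAut.conj g).injective, hE3]
  by_cases hcen : ∀ t ∈ R, ⁅t, q⁆ ∈ Subgroup.centralizer (M : Set S)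
  · exact finishW p hp hp2 E' hE'el hE'3 fun t ht => mem_normalizer_cm hM (hcen t (hE'R ht))
  push Not at hcen
  obtain ⟨t, htR, htq⟩ := hcen
  set q' := t * q * t⁻¹ with hq'
  set V := cm M q ⊔ cm M q' with hV
  have hVM : V ≤ M := sup_le (cm_le q) (cm_le q')
  obtain ⟨n, hn⟩ := exists_card_pow hM hVM
  have hq'4 : Nat.card ↥(cm M q') = 2 ^ 2 := by
    rw [hq', ← cm_conj, CfsgLib.Coprime.card_map_conj, hW4]
  have hn4 : n ≤ 4 := by
    refine (Nat.pow_le_pow_iff_right (by norm_num : 1 < 2)).1 ?_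
    rw [← hn]
    exact (card_sup_le hM (cm_le q) (cm_le q')).trans (by rw [hW4, hq'4]; norm_num)
  have hqV : q ∈ normalizer (V : Set S) := mem_normalizer_of_cm_le hM le_sup_left hVM
  -- the subgroup of `H` acting on `V`
  let K : Subgroup S :=
    { carrier := {x | x ∈ H ∧ cm M x ≤ V}
      one_mem' := ⟨one_mem _, by rw [(mem_centralizer_iff_cm hM).1 (one_mem _)]; exact bot_le⟩
      mul_mem' := fun {a b} ha hb => ⟨mul_mem ha.1 hb.1,
        cm_mul_le hM ha.2 hb.2 (mem_normalizer_of_cm_le hM ha.2 hVM)⟩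
      inv_mem' := fun {a} ha => ⟨inv_mem ha.1, (closure_le _).2 (by
        rintro _ ⟨x, hx, rfl⟩
        have e : ⁅x, a⁻¹⁆ = (a⁻¹ * ⁅x, a⁆ * a)⁻¹ := by simp only [commutatorElement_def]; group
        rw [SetLike.mem_coe, e]
        exact inv_mem ((mem_normalizer_iff''.1 (mem_normalizer_of_cm_le hM ha.2 hVM) _).1
          (ha.2 (commutator_mem_cm a hx))))⟩ }
  have hRH : R ≤ H := map_subtype_le _
  have hqK : q ∈ K := ⟨hQH hqQ, le_sup_left⟩
  have hq'K : q' ∈ K := ⟨mul_mem (mul_mem (hRH htR) (hQH hqQ)) (inv_mem (hRH htR)), le_sup_right⟩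
  have hKodd : ∀ x ∈ K, Odd (orderOf x) := fun x hx =>
    hHodd.of_dvd_nat (Subgroup.orderOf_mk x hx.1 ▸ orderOf_dvd_natCard (⟨x, hx.1⟩ : H))
  obtain ⟨θ, hker, -, hdvd⟩ := exists_action hM (K := K) hVM (fun x hx => hx.2) hKodd hn
  set y := ⁅t, q⁆ with hy
  have hy' : y = q' * q⁻¹ := by rw [hy, hq', commutatorElement_def]
  have hyK : y ∈ K := hy' ▸ mul_mem hq'K (inv_mem hqK)
  have hyR : y ∈ R := by
    rw [hy, commutatorElement_def, mul_assoc t, mul_assoc t]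
    exact mul_mem htR ((mem_normalizer_iff.1 hqR _).1 (inv_mem htR))
  set Y := ((R ⊓ K).subgroupOf K).map θ with hY
  have hyY : θ ⟨y, hyK⟩ ∈ Y := mem_map_of_mem θ (mem_inf.2 ⟨hyR, hyK⟩ : y ∈ R ⊓ K)
  have hθy : θ ⟨y, hyK⟩ ≠ 1 := fun h => htq (hker _ h)
  have hYp : IsPGroup p Y := ((hRp.to_le inf_le_left).of_equiv
    (subgroupOfEquivOfLe (inf_le_right : R ⊓ K ≤ K)).symm).map _
  have hYd : Nat.card Y ∣ ∏ i : Fin n, (2 ^ n - 2 ^ (i : ℕ)) :=
    (card_dvd_of_le (map_le_range θ _)).trans hdvd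
  obtain ⟨j, hj⟩ := hYp.exists_card_eq
  have hj0 : j ≠ 0 := by
    rintro rfl
    rw [pow_zero] at hj
    exact hθy (mem_bot.1 ((card_eq_one.1 hj).le hyY))
  obtain ⟨hp57, hpsq⟩ := gl_five_seven hn4 hp hp2 hp3
    ((dvd_pow_self p hj0).trans (hj ▸ hYd))
  have hj1 : j = 1 := by
    by_contra h
    exact hpsq ((pow_dvd_pow p (by omega : 2 ≤ j)).trans (hj ▸ hYd))
  subst hj1
  rw [pow_one] at hj
  have hoy : orderOf (θ ⟨y, hyK⟩) = p := by
    have h : orderOf (θ ⟨y, hyK⟩) ∣ p :=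
      hj ▸ (orderOf_mk (θ ⟨y, hyK⟩) hyY ▸ orderOf_dvd_natCard (⟨_, hyY⟩ : Y))
    rcases (Nat.dvd_prime hp).1 h with h | h
    · exact absurd (orderOf_eq_one_iff.1 h) hθy
    · exact h
  have hYz : Y = Subgroup.zpowers (θ ⟨y, hyK⟩) :=
    (eq_of_le_of_card_ge (zpowers_le.2 hyY) (by rw [Nat.card_zpowers, hoy, hj])).symm
  have hqy : ⟨q, hqK⟩ * ⟨y, hyK⟩ * (⟨q, hqK⟩ : K)⁻¹ ∈ (R ⊓ K).subgroupOf K :=
    mem_inf.2 ⟨(mem_normalizer_iff.1 hqR y).1 hyR, mul_mem (mul_mem hqK hyK) (inv_mem hqK)⟩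
  obtain ⟨i, hi⟩ := (isOfFinOrder_of_finite (θ ⟨y, hyK⟩)).mem_powers_iff_mem_zpowers.2
    (by rw [← hYz]; exact mem_map_of_mem θ hqy)
  -- `θ q` does not centralise `θ y`
  obtain ⟨e3, he3⟩ := hQ3 ⟨q, hqQ⟩
  have hq3e : θ ⟨q, hqK⟩ ^ 3 ^ e3 = 1 := by
    rw [← map_pow, show (⟨q, hqK⟩ : K) ^ 3 ^ e3 = 1 from
      Subtype.ext (congrArg Subtype.val he3 :), map_one]
  have hncomm : ¬ Commute (θ ⟨q, hqK⟩) (θ ⟨y, hyK⟩) := by
    intro hc'
    have h1 : θ ⟨q', hq'K⟩ ^ 3 ^ e3 = 1 := by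
      rw [← map_pow, show (⟨q', hq'K⟩ : K) ^ 3 ^ e3 = 1 from Subtype.ext (by
        show (t * q * t⁻¹) ^ 3 ^ e3 = 1
        rw [conj_pow, show q ^ 3 ^ e3 = 1 from congrArg Subtype.val he3]; group), map_one]
    rw [show (⟨q', hq'K⟩ : K) = ⟨y, hyK⟩ * ⟨q, hqK⟩ from Subtype.ext (by
      show q' = y * q; rw [hy', inv_mul_cancel_right]), map_mul, hc'.symm.mul_pow, hq3e, mul_one] at h1
    refine hθy (orderOf_eq_one_iff.1 (Nat.eq_one_of_dvd_coprimes
      (((Nat.coprime_primes Nat.prime_three hp).2 (Ne.symm hp3)).pow_left e3)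
      (orderOf_dvd_of_pow_eq_one h1) hoy.dvd))
  have hp7 : p = 7 := by
    refine hp57.resolve_left fun hp5 => hncomm ?_
    subst hp5
    set a := θ ⟨q, hqK⟩ with ha
    set b := θ ⟨y, hyK⟩ with hb
    have hab : a * b * a⁻¹ = b ^ i := by
      have : θ ⟨q, hqK⟩ * θ ⟨y, hyK⟩ * (θ ⟨q, hqK⟩)⁻¹ = b ^ i := by
        rw [← map_inv, ← map_mul, ← map_mul]; exact hi.symm
      exact this
    have hit : ∀ u : ℕ, a ^ u * b * (a ^ u)⁻¹ = b ^ (i ^ u) := by
      intro u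
      induction u with
      | zero => simp
      | succ u ih =>
        calc a ^ (u + 1) * b * (a ^ (u + 1))⁻¹ = a * (a ^ u * b * (a ^ u)⁻¹) * a⁻¹ := by
              rw [pow_succ']; group
          _ = b ^ (i ^ (u + 1)) := by rw [ih, ← conj_pow, hab, ← pow_mul, ← pow_succ']
    have h1 := hit (3 ^ e3)
    rw [hq3e, one_mul, inv_one, mul_one] at h1
    have h2 : i ^ 3 ^ e3 ≡ 1 [MOD 5] :=
      hoy ▸ (pow_eq_pow_iff_modEq (x := b)).1 (by rw [pow_one]; exact h1.symm)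
    have hz := five_cube
    have key : ∀ u : ℕ, ∀ z : ZMod 5, z ^ 3 ^ u = 1 → z = 1 := by
      intro u
      induction u with
      | zero => intro z h; simpa using h
      | succ u ih => intro z h; exact hz z (ih (z ^ 3) (by rw [← pow_mul, ← pow_succ']; exact h))
    have h3 : (i : ZMod 5) = 1 := key e3 _ (by
      have := (ZMod.natCast_eq_natCast_iff (i ^ 3 ^ e3) 1 5).2 h2
      simpa using this)
    have h4 : b ^ i = b := by
      conv_rhs => rw [← pow_one b]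
      refine pow_eq_pow_iff_modEq.2 ?_
      rw [hoy]
      exact (ZMod.natCast_eq_natCast_iff i 1 5).1 (by simpa using h3)
    rw [h4] at hab
    exact mul_inv_eq_iff_eq_mul.1 hab
  subst hp7
  set U := cm M y with hU
  have hUV : U ≤ V := hyK.2
  have hy7 : y ^ 7 ∈ Subgroup.centralizer (M : Set S) :=
    hker (⟨y, hyK⟩ ^ 7) (by rw [map_pow, ← hoy, pow_orderOf_eq_one])
  have hyodd : Odd (orderOf y) := hKodd y hyK
  have hyU : y ∈ normalizer (U : Set S) := mem_normalizer_cm_self hM y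
  have hUmod := card_modEq hM (ℓ := 7) hyodd hy7 (le_refl U) hyU
  have hU8 : Nat.card U = 2 ^ 3 := by
    obtain ⟨u, hu⟩ := exists_card_pow hM (cm_le (M := M) y)
    have hu4 : u ≤ n := (Nat.pow_le_pow_iff_right (by norm_num : 1 < 2)).1
      (hu ▸ hn ▸ card_le_of_le hUV)
    have hu0 : u ≠ 0 := by
      rintro rfl
      rw [pow_zero] at hu
      exact htq ((mem_centralizer_iff_cm hM).2 (card_eq_one.1 hu))
    rw [hu] at hUmod
    have : u ≤ 4 := hu4.trans hn4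
    interval_cases u
    · omega
    · exact absurd hUmod (by decide)
    · exact absurd hUmod (by decide)
    · exact hu
    · exact absurd hUmod (by decide)
  have hUirr : ∀ Z : Subgroup S, Z ≤ U → y ∈ normalizer (Z : Set S) → Z = ⊥ ∨ Z = U := by
    intro Z hZ hyZ
    have h1 := card_modEq hM (ℓ := 7) hyodd hy7 hZ hyZ
    obtain ⟨u, hu, hZu⟩ := (Nat.dvd_prime_pow Nat.prime_two).1 (hU8 ▸ card_dvd_of_le hZ)
    interval_cases u
    · exact Or.inl (card_eq_one.1 hZu)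
    · rw [hZu] at h1; exact absurd h1 (by decide)
    · rw [hZu] at h1; exact absurd h1 (by decide)
    · exact Or.inr (eq_of_le_of_card_ge hZ (by rw [hU8, hZu]))
  -- `[M, q] ≤ [M, y]`
  have hqU : q ∈ normalizer (U : Set S) := by
    rw [CfsgLib.Coprime.mem_normalizer_iff_map_conj]
    refine eq_of_le_of_card_ge ?_ (CfsgLib.Coprime.card_map_conj _ _).ge
    rw [hU, cm_conj]
    have hc2 : q * y * q⁻¹ * (y ^ i)⁻¹ ∈ Subgroup.centralizer (M : Set S) :=
      hker (⟨q, hqK⟩ * ⟨y, hyK⟩ * ⟨q, hqK⟩⁻¹ * (⟨y, hyK⟩ ^ i)⁻¹) (by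
        rw [map_mul, map_inv, map_pow, ← hi, mul_inv_cancel])
    rw [show q * y * q⁻¹ = (q * y * q⁻¹ * (y ^ i)⁻¹) * y ^ i by group,
      cm_mul_right_centralizer hM hc2]
    clear hc2 hi
    induction i with
    | zero => rw [pow_zero, (mem_centralizer_iff_cm hM).1 (one_mem _)]; exact bot_le
    | succ u ih => rw [pow_succ']; exact cm_mul_le hM le_rfl ih hyU
  have hWU : cm M q ≤ U := by
    have hN : q ∈ normalizer ((cm M q ⊓ U : Subgroup S) : Set S) := by
      rw [CfsgLib.Coprime.mem_normalizer_iff_map_conj, Subgroup.map_inf _ _ _ (MulAut.conj q).injective,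
        CfsgLib.Coprime.map_conj_of_mem_normalizer hqU,
        CfsgLib.Coprime.map_conj_of_mem_normalizer (mem_normalizer_cm_self hM q)]
    rcases hirr _ inf_le_left hN with h | h
    · exfalso
      have hn' : cm M q ⊔ U ≤ V := sup_le le_sup_left hUV
      have h1 := CfsgLib.PLocal.card_mul_le_card_sup_mul_inf (cm M q) U
      rw [h, Subgroup.card_bot, mul_one, hW4, hU8] at h1
      have h2 := h1.trans (card_le_of_le hn')
      rw [hn] at h2
      have := (Nat.pow_le_pow_iff_right (by norm_num : 1 < 2)).1 ((pow_add 2 2 3).le.trans h2)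
      omega
    · exact inf_eq_left.1 h
  -- a normal elementary abelian subgroup of `R`
  set B := E'.subgroupOf R with hB
  have hBc : IsMulCommutative B := by
    refine ⟨⟨fun a b => Subtype.ext (Subtype.ext ?_)⟩⟩
    have := congrArg Subtype.val (hE'el.1.is_comm.comm (⟨_, a.2⟩ : E') ⟨_, b.2⟩)
    exact this
  have hBe : ∀ a ∈ B, a ^ 7 = 1 := fun a ha => Subtype.ext (hE'el.2 (a : S) ha)
  have hB3 : 7 ^ 3 ≤ Nat.card B := by
    rw [hB, Nat.card_congr (subgroupOfEquivOfLe hE'R).toEquiv]; exact hE'3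
  obtain ⟨F₀, hF₀n, hF₀, hF₀3⟩ :=
    CfsgLib.OddLocal.exists_normal_elementary_three (p := 7) (by norm_num) hRp hBc hBe hB3
  set F := F₀.map R.subtype with hFdef
  have hFR : F ≤ R := map_subtype_le _
  have hF : Cfsg.IsElementaryAbelian 7 F := by
    refine ⟨⟨⟨fun a b => Subtype.ext ?_⟩⟩, ?_⟩
    · obtain ⟨x, hx, hxa⟩ := a.2
      obtain ⟨z, hz, hzb⟩ := b.2
      show (a : S) * b = b * a
      rw [← hxa, ← hzb, ← map_mul, ← map_mul]
      exact congrArg _ (congrArg Subtype.val (hF₀.1.is_comm.comm (⟨x, hx⟩ : F₀) ⟨z, hz⟩))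
    · rintro _ ⟨x, hx, rfl⟩
      rw [← map_pow, hF₀.2 x hx, map_one]
  have hyF : y ∈ normalizer (F : Set S) := by
    rw [CfsgLib.Coprime.mem_normalizer_iff_map_conj]
    refine eq_of_le_of_card_ge ?_ (CfsgLib.Coprime.card_map_conj _ _).ge
    rintro _ ⟨_, ⟨x, hx, rfl⟩, rfl⟩
    exact ⟨⟨y, hyR⟩ * x * ⟨y, hyR⟩⁻¹, hF₀n.conj_mem x hx _, rfl⟩
  have hFN : F ≤ normalizer (U : Set S) := by
    refine le_normalizer_cm hM hyodd htq hUirr hF.1 hyF
      (fun f hf => odd_orderOf_of_pGroup (ℓ := 7) (by norm_num) hRp (hFR hf)) fun f hf => ?_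
    refine commutator_mem_of_small hM (ℓ := 7) (by norm_num) (k := 3) (fun n hn => gl_seven_three hn) hRp
      (mul_mem (mul_mem (hFR hf) hyR) (inv_mem (hFR hf))) hyR ?_ hU8.le
    rw [← cm_conj, CfsgLib.Coprime.card_map_conj]
    exact hU8.le
  obtain ⟨F', h1, h2, h3⟩ := finish_small hM hp (hWc.le.trans hWU) (cm_le y) hU8
    (by norm_num [Fin.prod_univ_succ]) hF
    (by rw [hFdef, card_map_of_injective R.subtype_injective]; exact hF₀3) hFN
  exact ⟨7, F', hp, by norm_num, h1, h2, h3⟩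

end Cfsg.Agent.S4404
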