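import Cfsg.Statements.S4405
import Cfsg.Agent.Lib.Invol.ExtraspecialMinus
import Cfsg.Agent.Lib.Solvable.PCore

set_option autoImplicit false
open Cfsg

namespace Cfsg.Agent.S4405

open Subgroup
open scoped commutatorElement

theorem no_ten : ∀ x : Equiv.Perm (Fin 5), x ^ 10 = 1 → x ^ 2 = 1 ∨ x ^ 5 = 1 := by decide +kernel

theorem dihedral_fix : ∀ τ : Equiv.Perm (Fin 5), τ * τ = 1 → τ ≠ 1 → ∀ σ : Equiv.Perm (Fin 5), σ ^ 5 = 1 → σ ≠ 1 →
    (τ * σ) * (τ * σ) = 1 → ∃ a, τ a = a ∧ ∀ b, τ b = b → b = a := by decide +kernel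

theorem perm_facts (R : Subgroup (Equiv.Perm (Fin 5))) (hR : Nat.card R = 10) (τ : Equiv.Perm (Fin 5))
    (hτ : τ ∈ R) (hτ2 : τ * τ = 1) (hτ1 : τ ≠ 1) : ∃ a, τ a = a ∧ ∀ b, τ b = b → b = a := by
  haveI : Fact (Nat.Prime 5) := ⟨by norm_num⟩
  obtain ⟨σ, hσ⟩ := exists_prime_orderOf_dvd_card' (G := R) 5 (by rw [hR]; norm_num)
  have hidx : (zpowers σ).index = 2 := by
    have := card_mul_index (zpowers σ)
    rw [Nat.card_zpowers, hσ, hR] at this
    omega
  set t : R := ⟨τ, hτ⟩
  have ht2 : t * t = 1 := Subtype.ext hτ2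
  have htn : t ∉ zpowers σ := fun h => by
    have h5 : orderOf t ∣ 5 := (orderOf_dvd_of_mem_zpowers h).trans (dvd_of_eq hσ)
    have h2 : orderOf t ∣ 2 := orderOf_dvd_of_pow_eq_one (by rw [pow_two]; exact ht2)
    have h1 : orderOf t = 1 := Nat.eq_one_of_dvd_coprimes (by norm_num) h5 h2
    exact hτ1 (congrArg Subtype.val (orderOf_eq_one_iff.1 h1))
  have hx10 : ((t * σ : R) : Equiv.Perm (Fin 5)) ^ 10 = 1 := by
    rw [← coe_pow, ← hR, pow_card_eq_one', coe_one]
  have hx : ((t * σ : R) : Equiv.Perm (Fin 5)) ^ 2 = 1 := by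
    refine (no_ten _ hx10).resolve_right fun h => htn ?_
    have hx5 : (t * σ) ^ 5 = 1 := Subtype.ext (by rw [coe_pow]; exact h)
    have hmem : t * σ ∈ zpowers σ := by
      have hsq := mul_self_mem_of_index_two hidx (t * σ)
      have e : t * σ = ((t * σ) * (t * σ)) ^ 3 := by
        calc t * σ = (t * σ) ^ 5 * (t * σ) := by rw [hx5, one_mul]
          _ = _ := by rw [← pow_two, ← pow_mul, ← pow_succ]
      rw [e]; exact pow_mem hsq 3
    have := mul_mem hmem (inv_mem (mem_zpowers σ))
    rwa [mul_inv_cancel_right] at this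
  refine dihedral_fix τ hτ2 hτ1 (σ : Equiv.Perm (Fin 5)) ?_ ?_ (by rw [pow_two] at hx; exact hx)
  · have h := pow_orderOf_eq_one σ
    rw [hσ] at h
    exact congrArg Subtype.val h
  · intro e
    rw [show σ = 1 from Subtype.ext e, orderOf_one] at hσ
    omega

/-- Let G be a finite group of order 320 = 64·5 whose largest normal 2-subgroup H = O₂(G) equals the Fitting subgroup F(G) and is extraspecial of order 32 containing no elementary abelian subgroup of order 8 (so H is the central product of a quaternion group and a dihedral group of order 8). If T is an involution of G outside H whose centralizer in H contains an elementary abelian subgroup of order 4, then C_H(T) itself is elementary abelian of order 4. -/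
theorem result {G : Type*} [Group G] [Finite G]
    (hG : Nat.card G = 320) (hHF : Cfsg.pCore 2 G = Cfsg.fittingSubgroup G)
    (hex : Cfsg.IsExtraspecial 2 ↥(Cfsg.pCore 2 G)) (h32 : Nat.card ↥(Cfsg.pCore 2 G) = 32)
    (hminus : ∀ A : Subgroup G, A ≤ Cfsg.pCore 2 G → Cfsg.IsElementaryAbelian 2 A → Nat.card ↥A ≤ 4)
    (T : G) (hT : orderOf T = 2) (hTH : T ∉ Cfsg.pCore 2 G)
    (V : Subgroup G) (hV : V ≤ Cfsg.pCore 2 G ⊓ Subgroup.centralizer ({T} : Set G)) (hV4 : Nat.card ↥V = 4) (hVe : Cfsg.IsElementaryAbelian 2 V) :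
    Nat.card ↥(Cfsg.pCore 2 G ⊓ Subgroup.centralizer ({T} : Set G)) = 4 ∧
      Cfsg.IsElementaryAbelian 2 (Cfsg.pCore 2 G ⊓ Subgroup.centralizer ({T} : Set G)) := by
  classical
  open CfsgLib.Invol.EsMinus in
  haveI : Fact (Nat.Prime 2) := ⟨Nat.prime_two⟩
  haveI : Fact (Nat.Prime 5) := ⟨by norm_num⟩
  set H := Cfsg.pCore 2 G with hH
  haveI hHn : H.Normal := Cfsg.pCore_normal 2 G
  have hminus' : ∀ A : Subgroup H, Cfsg.IsElementaryAbelian 2 A → Nat.card A ≤ 4 := by
    intro A hA
    rw [← card_map_of_injective H.subtype_injective]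
    haveI := hA.1
    refine hminus _ (map_subtype_le A) ⟨inferInstance, ?_⟩
    rintro _ ⟨a, ha, rfl⟩
    rw [← map_pow, hA.2 a ha, map_one]
  obtain ⟨z, f, Act, hz1, hzz, hzc, hcen, hcom, hzφ, hf2, hfc, hfa, hact, hker, hsurj, -, -⟩ :=
    exists_points hex h32 hminus'
  -- the centraliser of `H`
  set C := centralizer (H : Set G) with hC
  haveI hCn : C.Normal := Subgroup.normal_centralizer
  have hCH : C ≤ H := by
    have hcard : Nat.card (H ⊓ C : Subgroup G) = 2 := by
      have e : (H ⊓ C : Subgroup G) = (center H).map H.subtype := by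
        ext x
        constructor
        · rintro ⟨hx, hx'⟩
          exact ⟨⟨x, hx⟩, mem_center_iff.2 fun g => Subtype.ext (mem_centralizer_iff.1 hx' g g.2), rfl⟩
        · rintro ⟨y, hy, rfl⟩
          exact ⟨y.2, mem_centralizer_iff.2 fun g hg => congrArg Subtype.val (mem_center_iff.1 hy ⟨g, hg⟩)⟩
      rw [e, card_map_of_injective H.subtype_injective, hex.2]
    haveI : (H.subgroupOf C).Normal := inferInstance
    have hidx : (H.subgroupOf C).index ∣ 10 := by
      have h1 : H.relIndex C ∣ H.index := Subgroup.relIndex_dvd_index_of_normal H C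
      have h2 := card_mul_index H
      rw [h32, hG] at h2
      rw [show H.index = 10 by omega] at h1
      exact h1
    have hcardC : Nat.card C = 2 * (H.subgroupOf C).index := by
      rw [← card_mul_index (H.subgroupOf C), ← hcard, ← inf_subgroupOf_right H C,
        Nat.card_congr (subgroupOfEquivOfLe (inf_le_right : H ⊓ C ≤ C)).toEquiv]
    by_cases h5 : 5 ∣ (H.subgroupOf C).index
    · exfalso
      obtain ⟨P⟩ : Nonempty (Sylow 5 C) := inferInstance
      have hle := Nat.le_of_dvd (by norm_num) hidx
      have hPc : Nat.card P = 5 ∧ (P : Subgroup C).index ∣ 4 := by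
        have hm := card_mul_index (P : Subgroup C)
        have hnd := P.not_dvd_index
        have h5' : 5 ∣ Nat.card P := P.dvd_card_of_dvd_card (by rw [hcardC]; exact dvd_mul_of_dvd_right h5 2)
        obtain ⟨n, hn⟩ := IsPGroup.iff_card.1 P.2
        have hi : (H.subgroupOf C).index = 5 ∨ (H.subgroupOf C).index = 10 := by
          have := Nat.pos_of_dvd_of_pos hidx (by norm_num)
          omega
        rw [hn] at hm h5'
        have hn1 : n = 1 := by
          rcases n with _ | _ | n
          · norm_num at h5'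
          · rfl
          · exfalso
            have : 25 ∣ Nat.card C := ⟨5 ^ n * (P : Subgroup C).index, by rw [← hm]; ring⟩
            rw [hcardC] at this
            rcases hi with e | e <;> rw [e] at this <;> norm_num at this
        subst hn1
        refine ⟨by rw [hn]; norm_num, ?_⟩
        rw [hcardC] at hm
        rcases hi with e | e <;> rw [e] at hm
        · exact ⟨2, by omega⟩
        · exact ⟨1, by omega⟩
      have hn5 : Nat.card (Sylow 5 C) = 1 := by
        have h1 := card_sylow_modEq_one 5 C
        have h2 := (P.card_dvd_index).trans hPc.2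
        have hpos : 0 < Nat.card (Sylow 5 C) := Nat.card_pos
        have := Nat.le_of_dvd (by norm_num) h2
        unfold Nat.ModEq at h1
        omega
      haveI : Subsingleton (Sylow 5 C) := (Nat.card_eq_one_iff_unique.1 hn5).1
      haveI hPchar : (P : Subgroup C).Characteristic := Sylow.characteristic_of_subsingleton P
      haveI hPn : ((P : Subgroup C).map C.subtype).Normal := ConjAct.normal_of_characteristic_of_normal
      haveI : Group.IsNilpotent ((P : Subgroup C).map C.subtype) := (P.2.map C.subtype).isNilpotent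
      have hle' := CfsgLib.Solvable.le_fittingSubgroup hPn inferInstance
      rw [← hHF] at hle'
      have h5d := card_dvd_of_le hle'
      rw [card_map_of_injective C.subtype_injective, hPc.1, h32] at h5d
      norm_num at h5d
    · have hle := Nat.le_of_dvd (by norm_num) hidx
      have hi : (H.subgroupOf C).index = 1 ∨ (H.subgroupOf C).index = 2 := by
        interval_cases h : (H.subgroupOf C).index <;> omega
      refine CfsgLib.Solvable.le_pCore hCn ?_
      rcases hi with e | e <;> rw [e] at hcardC
      · exact IsPGroup.of_card (n := 1) (by rw [hcardC]; norm_num)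
      · exact IsPGroup.of_card (n := 2) (by rw [hcardC]; norm_num)
  -- the action of `G` on the five points
  let c : G →* MulAut H := MulAut.conjNormal
  let ψ := Act.comp c
  have hψker : ψ.ker = H := by
    ext g
    constructor
    · intro hg
      have h1 : c g ∈ (MulAut.conj : H →* MulAut H).range := by rw [hker]; exact hg
      obtain ⟨h, hh⟩ := h1
      have h2 : (h : G)⁻¹ * g ∈ C := by
        rw [mem_centralizer_iff]
        intro x hx
        have := congrArg Subtype.val (DFunLike.congr_fun hh ⟨x, hx⟩)
        simp only [MulAut.conj_apply, c, MulAut.conjNormal_apply, coe_mul, coe_inv] at this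
        calc x * ((h : G)⁻¹ * g) = (h : G)⁻¹ * ((h : G) * x * (h : G)⁻¹) * g := by group
          _ = _ := by rw [this]; group
      have := mul_mem h.2 (hCH h2)
      rwa [mul_inv_cancel_left] at this
    · intro hg
      rw [MonoidHom.mem_ker]
      show Act (c g) = 1
      rw [← MonoidHom.mem_ker, ← hker]
      exact ⟨⟨g, hg⟩, MulEquiv.ext fun x => Subtype.ext rfl⟩
  have hrange : Nat.card ψ.range = 10 := by
    rw [← index_ker, hψker]
    have h2 := card_mul_index H
    rw [h32, hG] at h2
    omega
  have hT2 : T * T = 1 := by rw [← pow_two, ← hT, pow_orderOf_eq_one]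
  obtain ⟨a, ha, hauniq⟩ := perm_facts ψ.range hrange (ψ T) ⟨T, rfl⟩ (by rw [← map_mul, hT2, map_one])
    (fun e => hTH (hψker ▸ MonoidHom.mem_ker.2 e))
  set φ := c T with hφ
  have hφ2 : ∀ x, φ (φ x) = x := fun x => by
    show (c T * c T) x = x
    rw [← map_mul, hT2, map_one, MulAut.one_apply]
  -- the fixed elements
  have key : ∀ x : H, φ x = x → x = 1 ∨ x = z ∨ x = f a ∨ x = f a * z := by
    intro x hx
    by_cases hx1 : x = 1
    · exact Or.inl hx1
    by_cases hxz : x = z
    · exact Or.inr (Or.inl hxz)
    have hsq : x * x = 1 ∨ x * x = z := hcen _ (by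
      rw [← hex.1.2.1, ← pow_two]; exact CfsgLib.Transfer.pow_mem_frattini hex.1.1 x)
    have hfz : ∀ i, f i * z ≠ 1 ∧ f i ≠ 1 ∧ f i ≠ z := by
      intro i
      obtain ⟨j, hj⟩ : ∃ j, i ≠ j := ⟨i + 1, by fin_cases i <;> decide⟩
      have hk := hfc i j hj
      refine ⟨fun e => hz1 ?_, fun e => hz1 ?_, fun e => hz1 ?_⟩
      · rw [← hk, eq_inv_of_mul_eq_one_left e, inv_eq_of_mul_eq_one_right hzz]
        exact commutatorElement_eq_one_iff_commute.2 (hzc _)
      · rw [← hk, e, commutatorElement_one_left]
      · rw [← hk, e]; exact commutatorElement_eq_one_iff_commute.2 (hzc _)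
    have hfix : ∀ i, (φ (f i) = f i ∨ φ (f i) = f i * z) → i = a := fun i hi => by
      refine hauniq i ?_
      show Act φ i = i
      by_contra hne
      rcases hact φ i with e | e <;> rcases hi with e' | e'
      · exact hz1 (by rw [← hfc _ _ hne, ← e, e']; exact self_comm hzc hzz hz1 hcom _)
      · exact hz1 (by rw [← hfc _ _ hne, ← e, e', comm_mul_left hzc hzz hz1 hcom,
          self_comm hzc hzz hz1 hcom, one_mul]; exact commutatorElement_eq_one_iff_commute.2 (hzc _))
      · refine hz1 ?_
        have e2 : f (Act φ i) = f i * z := by rw [← e', e, mul_assoc, hzz, mul_one]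
        rw [← hfc _ _ hne, e2, comm_mul_left hzc hzz hz1 hcom, self_comm hzc hzz hz1 hcom, one_mul]
        exact commutatorElement_eq_one_iff_commute.2 (hzc _)
      · exact hz1 (by rw [← hfc _ _ hne, mul_right_cancel (e.symm.trans e')]; exact self_comm hzc hzz hz1 hcom _)
    rcases hsq with hsq | hsq
    · obtain ⟨i, e | e⟩ := hfa x hsq hx1 hxz
      · subst e; exact Or.inr (Or.inr (Or.inl (by rw [hfix i (Or.inl hx)])))
      · subst e
        rw [map_mul, hzφ] at hx
        exact Or.inr (Or.inr (Or.inr (by rw [hfix i (Or.inl (mul_right_cancel hx))])))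
    exfalso
    -- an element of order four is a product of two points
    have hbase : IsFrame z fun i : Fin 4 => f i.castSucc :=
      ⟨fun i => hf2 _, fun i j h => hfc _ _ fun e => h (Fin.castSucc_injective _ e)⟩
    obtain ⟨i, hi⟩ : ∃ i, ⁅x, f i⁆ = z := by
      by_contra hno
      push Not at hno
      have hall : x ∈ center H := by
        rw [mem_center_iff]
        intro g
        have hle : closure ({z, f (0 : Fin 4).castSucc, f (1 : Fin 4).castSucc, f (2 : Fin 4).castSucc,
            f (3 : Fin 4).castSucc} : Set H) ≤ centralizer ({x} : Set H) := by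
          rw [closure_le]
          intro y hy
          refine mem_centralizer_singleton_iff.2 ?_
          have hk : ∀ i, f i * x = x * f i := fun i =>
            (commutatorElement_eq_one_iff_mul_comm.1 ((hcom x (f i)).resolve_right (hno i))).symm
          rcases hy with rfl | rfl | rfl | rfl | rfl
          exacts [(hzc x).eq, hk _, hk _, hk _, hk _]
        exact mem_centralizer_singleton_iff.1 (hle (frame_closure hzc hzz hz1 hcom h32 hbase ▸ mem_top g))
      rcases hcen x hall with e | e
      exacts [hx1 e, hxz e]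
    have hy2 : (x * f i) * (x * f i) = 1 := by
      rw [sq_mul hzc hzz hz1 hcom, hsq, hf2, comm_symm hzc hzz hz1 hcom, hi, mul_one, hzz]
    have hy1 : x * f i ≠ 1 := fun e => hxz (by
      rw [eq_inv_of_mul_eq_one_left e, inv_eq_of_mul_eq_one_right (hf2 i)] at hsq
      exact absurd ((hf2 i).symm.trans hsq).symm hz1)
    have hyz : x * f i ≠ z := fun e => hz1 (by
      have e' : x = z * f i := by rw [← e, mul_assoc, hf2, mul_one]
      rw [← hi, e', comm_mul_left hzc hzz hz1 hcom, self_comm hzc hzz hz1 hcom, mul_one]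
      exact commutatorElement_eq_one_iff_commute.2 (hzc _))
    obtain ⟨j, hj⟩ := hfa _ hy2 hy1 hyz
    have hx' : x = f j * f i ∨ x = f j * f i * z := by
      rcases hj with e | e
      · exact Or.inl (by rw [← e, mul_assoc, hf2, mul_one])
      · refine Or.inr ?_
        rw [mul_assoc, ← (hzc (f i)).eq, ← mul_assoc, ← e, mul_assoc, hf2, mul_one]
    have hij : j ≠ i := by
      rintro rfl
      rcases hx' with e | e <;> rw [hf2] at e
      · exact hx1 e
      · rw [one_mul] at e; exact hxz e
    -- the commutator pattern is invariant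
    have hpat : ∀ k, ⁅x, f (Act φ k)⁆ = ⁅x, f k⁆ := by
      intro k
      have h1 := congrArg φ (rfl : ⁅x, f k⁆ = ⁅x, f k⁆)
      rw [map_commutatorElement, hx] at h1
      have h2 : φ ⁅x, f k⁆ = ⁅x, f k⁆ := by
        rcases hcom x (f k) with e | e <;> rw [e]
        exacts [map_one φ, hzφ φ]
      rw [← h2, map_commutatorElement, hx]
      rcases hact φ k with e | e <;> rw [e]
      rw [comm_mul_right hzc hzz hz1 hcom, show ⁅x, z⁆ = 1 from
        commutatorElement_eq_one_iff_commute.2 (hzc x).symm, mul_one]
    have hval : ∀ k, ⁅x, f k⁆ = z → k = i ∨ k = j := by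
      intro k hk
      by_contra hne
      push Not at hne
      refine hz1 (hk.symm.trans ?_)
      have base : ⁅f j * f i, f k⁆ = 1 := by
        rw [comm_mul_left hzc hzz hz1 hcom, hfc j k hne.2.symm, hfc i k hne.1.symm, hzz]
      rcases hx' with e | e <;> rw [e]
      · exact base
      · rw [comm_mul_left hzc hzz hz1 hcom, base, one_mul]
        exact commutatorElement_eq_one_iff_commute.2 (hzc _)
    have hjv : ⁅x, f j⁆ = z := by
      have base : ⁅f j * f i, f j⁆ = z := by
        rw [comm_mul_left hzc hzz hz1 hcom, self_comm hzc hzz hz1 hcom, hfc i j hij.symm, one_mul]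
      rcases hx' with e | e <;> rw [e]
      · exact base
      · rw [comm_mul_left hzc hzz hz1 hcom, base, show ⁅z, f j⁆ = 1 from
          commutatorElement_eq_one_iff_commute.2 (hzc _), mul_one]
    have hτi := hval _ ((hpat i).trans hi)
    have hτj := hval _ ((hpat j).trans hjv)
    have hswap : Act φ i = j ∧ Act φ j = i := by
      rcases hτi with e1 | e1 <;> rcases hτj with e2 | e2
      · exact absurd ((Act φ).injective (e1.trans e2.symm)) hij.symm
      · exact absurd ((hauniq i e1).trans (hauniq j e2).symm) hij.symm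
      · exact ⟨e1, e2⟩
      · exact absurd ((Act φ).injective (e1.trans e2.symm)) hij.symm
    have hprod : φ (f j * f i) = f i * f j := by
      rcases hact φ i with e | e <;> rw [hswap.1] at e
      · have e' : φ (f j) = f i := by rw [← e, hφ2]
        rw [map_mul, e, e']
      · have h := congrArg φ e
        rw [hφ2, map_mul, hzφ] at h
        have e' : φ (f j) = f i * z := by rw [h, mul_assoc, hzz, mul_one]
        rw [map_mul, e, e', mul_assoc, ← mul_assoc z, (hzc (f j)).eq, mul_assoc (f j), hzz, mul_one]
    have hne : f i * f j ≠ f j * f i := fun e => hz1 (by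
      rw [← hfc i j hij.symm]; exact commutatorElement_eq_one_iff_mul_comm.2 e)
    rcases hx' with e | e <;> rw [e] at hx
    · exact hne (hprod.symm.trans hx)
    · rw [map_mul, hprod, hzφ] at hx
      exact hne (mul_right_cancel hx)
  set X := H ⊓ centralizer ({T} : Set G) with hX
  have hXle : Nat.card X ≤ 4 := by
    let g : X → Fin 4 := fun x =>
      if (⟨x.1, x.2.1⟩ : H) = 1 then 0 else if (⟨x.1, x.2.1⟩ : H) = z then 1
      else if (⟨x.1, x.2.1⟩ : H) = f a then 2 else 3
    refine (Nat.card_le_card_of_injective g ?_).trans_eq (Nat.card_fin 4)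
    intro x y hxy
    have hfix : ∀ w : X, φ ⟨w.1, w.2.1⟩ = (⟨w.1, w.2.1⟩ : H) := fun w => Subtype.ext (by
      show T * (w : G) * T⁻¹ = w
      rw [← mem_centralizer_singleton_iff.1 w.2.2, mul_inv_cancel_right])
    have hval : ∀ w : X, (⟨w.1, w.2.1⟩ : H) = ![1, z, f a, f a * z] (g w) := fun w => by
      simp only [g]
      split_ifs with e1 e2 e3
      · exact e1
      · exact e2
      · exact e3
      · exact (((key _ (hfix w)).resolve_left e1).resolve_left e2).resolve_left e3
    exact Subtype.ext (congrArg (fun h : H => (h : G)) ((hval x).trans ((congrArg _ hxy).trans (hval y).symm)))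
  have hVX : V = X := eq_of_le_of_card_ge hV (by rw [hV4]; exact hXle)
  exact hVX ▸ ⟨hV4, hVe⟩

end Cfsg.Agent.S4405
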