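import Cfsg.Statements.S4406

set_option autoImplicit false
open Cfsg
open scoped Pointwise
set_option linter.style.haveILetI false

namespace Cfsg.Agent.S4406

set_option quotPrecheck false in
local notation "A₄" => ↥(alternatingGroup (Fin 4))

theorem card_A : Fintype.card A₄ = 12 := by decide +kernel

theorem four_of' : ∀ x : A₄, x ^ 4 = 1 → x * x = 1 := by decide +kernel

theorem four_of {x : A₄} : x ^ 4 = 1 → x * x = 1 := four_of' x

theorem nine_of' : ∀ x : A₄, x ^ 9 = 1 → x * x * x = 1 := by decide +kernel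

theorem nine_of {x : A₄} : x ^ 9 = 1 → x * x * x = 1 := nine_of' x

theorem card_invol : Fintype.card {a : A₄ // a * a = 1} = 4 := by decide +kernel

theorem exists_invol : ∃ v : A₄, v * v = 1 ∧ v ≠ 1 := by decide +kernel

theorem orbit3' : ∀ s : A₄, s * s * s = 1 → s ≠ 1 → ∀ v : A₄, v * v = 1 → v ≠ 1 →
    ∀ w : A₄, w * w = 1 → w = 1 ∨ w = v ∨ w = s * v * s⁻¹ ∨ w = s * s * v * (s * s)⁻¹ := by
  decide +kernel

theorem orbit3 {s : A₄} (h : s * s * s = 1) (h0 : s ≠ 1) {v : A₄} (hv : v * v = 1) (hv1 : v ≠ 1)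
    {w : A₄} (hw : w * w = 1) : w = 1 ∨ w = v ∨ w = s * v * s⁻¹ ∨ w = s * s * v * (s * s)⁻¹ :=
  orbit3' s h h0 v hv hv1 w hw

set_option synthInstance.maxSize 1000 in
theorem moves' : ∀ s : A₄, s * s * s = 1 → s ≠ 1 → ∀ v : A₄, v * v = 1 → v ≠ 1 →
    s * v * s⁻¹ ≠ v ∧ s * (s * v * s⁻¹) * s⁻¹ ≠ v ∧
      s * (s * v * s⁻¹) * s⁻¹ ≠ s * v * s⁻¹ := by
  decide +kernel

theorem moves {s : A₄} (h : s * s * s = 1) (h0 : s ≠ 1) {v : A₄} (hv : v * v = 1) (hv1 : v ≠ 1) :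
    s * v * s⁻¹ ≠ v ∧ s * (s * v * s⁻¹) * s⁻¹ ≠ v ∧
      s * (s * v * s⁻¹) * s⁻¹ ≠ s * v * s⁻¹ :=
  moves' s h h0 v hv hv1

/-- In the direct product P = A₄ × A₄, let X be the Sylow 2-subgroup, X₁ and X₂ its intersections with the two direct factors, Q a Sylow 3-subgroup and Q₁, Q₂ its intersections with the two factors. Then every subgroup B of X of order 4 either meets X₁ or X₂ nontrivially, or is normalized by one of the two subgroups of Q of order 3 other than Q₁ and Q₂. -/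
theorem result
    (X : Sylow 2 (↥(alternatingGroup (Fin 4)) × ↥(alternatingGroup (Fin 4))))
    (Q : Sylow 3 (↥(alternatingGroup (Fin 4)) × ↥(alternatingGroup (Fin 4))))
    (B : Subgroup (↥(alternatingGroup (Fin 4)) × ↥(alternatingGroup (Fin 4)))) (hBX : B ≤ (X : Subgroup _)) (hB4 : Nat.card ↥B = 4) :
    B ⊓ ((X : Subgroup _) ⊓ Subgroup.prod ⊤ ⊥) ≠ ⊥ ∨ B ⊓ ((X : Subgroup _) ⊓ Subgroup.prod ⊥ ⊤) ≠ ⊥ ∨
      ∃ R : Subgroup (↥(alternatingGroup (Fin 4)) × ↥(alternatingGroup (Fin 4))), R ≤ (Q : Subgroup _) ∧ Nat.card ↥R = 3 ∧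
        R ≠ (Q : Subgroup _) ⊓ Subgroup.prod ⊤ ⊥ ∧ R ≠ (Q : Subgroup _) ⊓ Subgroup.prod ⊥ ⊤ ∧ R ≤ Subgroup.normalizer (B : Set _) := by
  classical
  by_cases hcase : B ⊓ ((X : Subgroup _) ⊓ Subgroup.prod ⊤ ⊥) ≠ ⊥
  · exact Or.inl hcase
  by_cases hcase2 : B ⊓ ((X : Subgroup _) ⊓ Subgroup.prod ⊥ ⊤) ≠ ⊥
  · exact Or.inr (Or.inl hcase2)
  rw [not_not, Subgroup.eq_bot_iff_forall] at hcase hcase2
  right; right
  have hB1 : ∀ z ∈ B, z.2 = 1 → z = 1 := fun z hz h2 =>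
    hcase z ⟨hz, hBX hz, Subgroup.mem_top _, Subgroup.mem_bot.2 h2⟩
  have hB2 : ∀ z ∈ B, z.1 = 1 → z = 1 := fun z hz h1 =>
    hcase2 z ⟨hz, hBX hz, Subgroup.mem_bot.2 h1, Subgroup.mem_top _⟩
  have hBinv : ∀ z ∈ B, z.1 * z.1 = 1 ∧ z.2 * z.2 = 1 := by
    intro z hz
    have h4 : z ^ 4 = 1 := by
      have h' := pow_card_eq_one' (x := (⟨z, hz⟩ : B))
      rw [hB4] at h'
      exact congrArg Subtype.val h'
    exact ⟨four_of (congrArg Prod.fst h4), four_of (congrArg Prod.snd h4)⟩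
  -- `B` is the graph of a bijection between the two four-groups
  have hbij : Function.Bijective
      (fun z : B => (⟨z.1.1, (hBinv _ z.2).1⟩ : {a : A₄ // a * a = 1})) := by
    rw [Fintype.bijective_iff_injective_and_card]
    refine ⟨fun z w h => ?_, ?_⟩
    · have h' : z.1.1 = w.1.1 := congrArg Subtype.val h
      have h0 := hB2 (z.1 * w.1⁻¹) (B.mul_mem z.2 (B.inv_mem w.2)) (by simp [h'])
      exact Subtype.ext (mul_inv_eq_one.1 h0)
    · rw [← Nat.card_eq_fintype_card, hB4, card_invol]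
  have hph : ∀ a : A₄, a * a = 1 → ∃ b : A₄, (a, b) ∈ B := by
    intro a ha
    obtain ⟨z, hz⟩ := hbij.2 ⟨a, ha⟩
    have h' : z.1.1 = a := congrArg Subtype.val hz
    exact ⟨z.1.2, h' ▸ z.2⟩
  have hfun : ∀ a b b' : A₄, (a, b) ∈ B → (a, b') ∈ B → b = b' := by
    intro a b b' h h'
    have h0 := hB2 _ (B.mul_mem h (B.inv_mem h')) (by simp)
    exact mul_inv_eq_one.1 (congrArg Prod.snd h0)
  have hinj : ∀ a a' b : A₄, (a, b) ∈ B → (a', b) ∈ B → a = a' := by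
    intro a a' b h h'
    have h0 := hB1 _ (B.mul_mem h (B.inv_mem h')) (by simp)
    exact mul_inv_eq_one.1 (congrArg Prod.fst h0)
  -- generators of `Q`
  have hQ9 : Nat.card (Q : Subgroup (A₄ × A₄)) = 9 := by
    rw [Sylow.card_eq_multiplicity, Nat.card_prod, Nat.card_eq_fintype_card, card_A,
      show (12 * 12 : ℕ) = 16 * 3 ^ 2 by norm_num, Nat.factorization_mul (by norm_num) (by norm_num),
      Finsupp.add_apply, Nat.factorization_eq_zero_of_not_dvd (by norm_num : ¬ 3 ∣ 16),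
      Nat.prime_three.factorization_pow, Finsupp.single_eq_same, zero_add]
    norm_num
  have hker : ∀ f : A₄ × A₄ →* A₄, ∃ z ∈ (Q : Subgroup (A₄ × A₄)), z ≠ 1 ∧ f z = 1 := by
    intro f
    by_contra hc
    push Not at hc
    have hinj' : Function.Injective (fun z : (Q : Subgroup (A₄ × A₄)) => f z.1) := by
      intro z w h
      have h' : f z.1 = f w.1 := h
      by_contra hne
      exact hc (z.1 * w.1⁻¹) ((Q : Subgroup (A₄ × A₄)).mul_mem z.2 (Subgroup.inv_mem _ w.2))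
        (fun e => hne (Subtype.ext (mul_inv_eq_one.1 e))) (by rw [map_mul, map_inv, h', mul_inv_cancel])
    have hle : Nat.card (Q : Subgroup (A₄ × A₄)) ≤ Nat.card {a : A₄ // a ^ 9 = 1} :=
      Nat.card_le_card_of_injective (fun z => (⟨f z.1, by
        have h' := pow_card_eq_one' (x := z)
        rw [hQ9] at h'
        rw [← map_pow, show (z.1 : A₄ × A₄) ^ 9 = 1 from congrArg Subtype.val h', map_one]⟩ :
          {a : A₄ // a ^ 9 = 1})) fun z w h => hinj' (congrArg Subtype.val h)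
    have hdvd : ∀ (H : Subgroup A₄), IsPGroup 3 H → Nat.card H ≤ 3 := by
      intro H hH
      obtain ⟨m, hm⟩ := hH.exists_card_eq
      have hd : 3 ^ m ∣ 12 := by
        rw [← hm, ← card_A, ← Nat.card_eq_fintype_card]
        exact H.card_subgroup_dvd_card
      rcases m with _ | _ | m
      · rw [hm]; norm_num
      · rw [hm]; norm_num
      · exfalso
        have : (3 : ℕ) ^ 2 ∣ 12 := (pow_dvd_pow 3 (by omega)).trans hd
        norm_num at this
    have h1 := hdvd ((Q : Subgroup (A₄ × A₄)).map f) (Q.isPGroup'.map f)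
    have h2 : Nat.card ((Q : Subgroup (A₄ × A₄)).map f) = 9 := by
      rw [← hQ9]
      refine (Nat.card_congr (Equiv.ofBijective (fun z => ⟨f z.1, z.1, z.2, rfl⟩) ⟨?_, ?_⟩)).symm
      · exact fun z w h => hinj' (congrArg Subtype.val h)
      · rintro ⟨_, z, hz, rfl⟩; exact ⟨⟨z, hz⟩, rfl⟩
    omega
  obtain ⟨⟨s, s2⟩, hsQ, hs1, hs2⟩ := hker (MonoidHom.snd A₄ A₄)
  obtain ⟨⟨t1, t⟩, htQ, ht1, ht2⟩ := hker (MonoidHom.fst A₄ A₄)
  obtain rfl : s2 = 1 := hs2
  obtain rfl : t1 = 1 := ht2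
  have hs0 : s ≠ 1 := fun e => hs1 (by rw [e]; rfl)
  have ht0 : t ≠ 1 := fun e => ht1 (by rw [e]; rfl)
  have hnine : ∀ z ∈ (Q : Subgroup (A₄ × A₄)), z ^ 9 = 1 := by
    intro z hz
    have h' := pow_card_eq_one' (x := (⟨z, hz⟩ : (Q : Subgroup (A₄ × A₄))))
    rw [hQ9] at h'
    exact congrArg Subtype.val h'
  have hs3 : s * s * s = 1 := nine_of (congrArg Prod.fst (hnine _ hsQ))
  have ht3 : t * t * t = 1 := nine_of (congrArg Prod.snd (hnine _ htQ))
  obtain ⟨v, hv, hv1⟩ := exists_invol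
  obtain ⟨v', hv'⟩ := hph v hv
  have hv'2 : v' * v' = 1 := (hBinv _ hv').2
  have hv'1 : v' ≠ 1 := fun e => hv1 (hinj v 1 1 (e ▸ hv') B.one_mem)
  have hcv : (s * v * s⁻¹) * (s * v * s⁻¹) = 1 := by
    calc _ = s * (v * v) * s⁻¹ := by group
      _ = 1 := by rw [hv]; group
  obtain ⟨w, hw⟩ := hph _ hcv
  have hw1 : w ≠ 1 := fun e => by
    have h0 := hinj _ 1 1 (e ▸ hw) B.one_mem
    exact hv1 (conj_eq_one_iff.1 h0)
  have hwv : w ≠ v' := fun e =>
    (moves hs3 hs0 hv hv1).1 (hinj _ _ _ (e ▸ hw) hv')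
  -- choose the generator
  obtain ⟨r, hr3, hr0, hrQ, hrw⟩ : ∃ r : A₄, r * r * r = 1 ∧ r ≠ 1 ∧ (s, r) ∈ (Q : Subgroup (A₄ × A₄)) ∧
      w = r * v' * r⁻¹ := by
    have hst : (s, t) ∈ (Q : Subgroup (A₄ × A₄)) := by
      have := (Q : Subgroup (A₄ × A₄)).mul_mem hsQ htQ
      simpa using this
    have hstt : (s, t * t) ∈ (Q : Subgroup (A₄ × A₄)) := by
      have := (Q : Subgroup (A₄ × A₄)).mul_mem hst htQ
      simpa using this
    have hww : w * w = 1 := (hBinv _ hw).2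
    rcases orbit3 ht3 ht0 hv'2 hv'1 hww with e | e | e | e
    · exact absurd e hw1
    · exact absurd e hwv
    · exact ⟨t, ht3, ht0, hst, e⟩
    · refine ⟨t * t, ?_, ?_, hstt, e⟩
      · calc _ = (t * t * t) * (t * t * t) := by group
          _ = 1 := by rw [ht3, one_mul]
      · intro h
        exact ht0 (by rw [← ht3, h, one_mul])
  have hcc : (s * (s * v * s⁻¹) * s⁻¹) * (s * (s * v * s⁻¹) * s⁻¹) = 1 := by
    calc _ = s * ((s * v * s⁻¹) * (s * v * s⁻¹)) * s⁻¹ := by group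
      _ = 1 := by rw [hcv]; group
  obtain ⟨w2, hw2⟩ := hph _ hcc
  have hw2e : w2 = r * w * r⁻¹ := by
    have hww : w2 * w2 = 1 := (hBinv _ hw2).2
    rcases orbit3 hr3 hr0 hv'2 hv'1 hww with e | e | e | e
    · subst e
      have h0 := hinj _ 1 1 hw2 B.one_mem
      exact absurd (conj_eq_one_iff.1 (conj_eq_one_iff.1 h0)) hv1
    · subst e
      exact absurd (hinj _ _ _ hw2 hv') (moves hs3 hs0 hv hv1).2.1
    · rw [← hrw] at e; subst e
      exact absurd (hinj _ _ _ hw2 hw) (moves hs3 hs0 hv hv1).2.2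
    · rw [e, hrw]; group
  have hconj : ∀ z ∈ B, (s, r) * z * (s, r)⁻¹ ∈ B := by
    rintro ⟨a, b⟩ hz
    show (s * a * s⁻¹, r * b * r⁻¹) ∈ B
    have haa : a * a = 1 := (hBinv _ hz).1
    rcases orbit3 hs3 hs0 hv hv1 haa with rfl | rfl | rfl | rfl
    · obtain rfl : b = 1 := hfun _ _ _ hz B.one_mem
      simp only [mul_one, mul_inv_cancel]
      exact B.one_mem
    · rw [hfun _ _ _ hz hv', ← hrw]; exact hw
    · rw [hfun _ _ _ hz hw, ← hw2e]; exact hw2
    · have hz' : (s * (s * v * s⁻¹) * s⁻¹, b) ∈ B := by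
        rw [show s * (s * v * s⁻¹) * s⁻¹ = s * s * v * (s * s)⁻¹ by group]
        exact hz
      rw [hfun _ _ _ hz' hw2, hw2e, hrw]
      have e1 : s * (s * s * v * (s * s)⁻¹) * s⁻¹ = v := by
        calc _ = (s * s * s) * v * (s * s * s)⁻¹ := by group
          _ = v := by rw [hs3]; group
      have e2 : r * (r * (r * v' * r⁻¹) * r⁻¹) * r⁻¹ = v' := by
        calc _ = (r * r * r) * v' * (r * r * r)⁻¹ := by group
          _ = v' := by rw [hr3]; group
      rw [e1, e2]; exact hv'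
  have hord : orderOf ((s, r) : A₄ × A₄) = 3 := by
    haveI : Fact (Nat.Prime 3) := ⟨Nat.prime_three⟩
    refine orderOf_eq_prime ?_ fun e => hs0 (congrArg Prod.fst e)
    rw [pow_succ, pow_two]
    exact Prod.ext hs3 hr3
  refine ⟨Subgroup.zpowers (s, r), Subgroup.zpowers_le.2 hrQ, by rw [Nat.card_zpowers, hord],
    fun e => hr0 ?_, fun e => hs0 ?_, Subgroup.zpowers_le.2 ?_⟩
  · exact Subgroup.mem_bot.1 (e ▸ Subgroup.mem_zpowers (s, r)).2.2
  · exact Subgroup.mem_bot.1 (e ▸ Subgroup.mem_zpowers (s, r)).2.1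
  · rw [Subgroup.mem_normalizer_iff]
    intro z
    refine ⟨hconj z, fun hz => ?_⟩
    have h' := hconj _ (hconj _ hz)
    have h3 : ((s, r) : A₄ × A₄) * ((s, r) * ((s, r) * z * (s, r)⁻¹) * (s, r)⁻¹) * (s, r)⁻¹ =
        (s, r) ^ 3 * z * ((s, r) ^ 3)⁻¹ := by
      simp only [pow_succ, pow_zero, one_mul]; group
    rw [h3, ← hord, pow_orderOf_eq_one] at h'
    simpa using h'

end Cfsg.Agent.S4406
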