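import Cfsg.Statements.S4409
import Cfsg.Agent.Lib.StructC.SmallEightMain
import Cfsg.Agent.Lib.Solvable.Hall
import Cfsg.Agent.Lib.Solvable.HallHigman
open CfsgLib.StructC.SmallEight
open scoped commutatorElement

set_option autoImplicit false
open Cfsg

namespace Cfsg.Agent.S4409

/-- Let S be a finite solvable group with O_{2'}(S) = 1 that contains a non-cyclic abelian subgroup of order 8, while no proper subgroup of S of 2-power index contains one. Then a Sylow 2-subgroup X of S is normal in S, and one of the following holds: X is abelian; X is extraspecial of order at least 32; X has a generalized quaternion subgroup X₀ of index 2 with X = X₀·C_X(X₀); or X is special with centre of order 4. -/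
theorem result {S : Type*} [Group S] [Finite S]
    [Group.IsSolvable S] (hO : Cfsg.pPrimeCore 2 S = ⊥)
    (h8 : ∃ A : Subgroup S, IsMulCommutative ↥A ∧ ¬ IsCyclic ↥A ∧ Nat.card ↥A = 8)
    (hmin : ∀ R : Subgroup S, R ≠ ⊤ → (∃ k : ℕ, R.index = 2 ^ k) →
      ¬ ∃ A : Subgroup S, A ≤ R ∧ IsMulCommutative ↥A ∧ ¬ IsCyclic ↥A ∧ Nat.card ↥A = 8)
    (X : Sylow 2 S) :
    (X : Subgroup S).Normal ∧
      (IsMulCommutative ↥X ∨
        (Cfsg.IsExtraspecial 2 ↥X ∧ 32 ≤ Nat.card ↥X) ∨
        (∃ (X₀ : Subgroup S) (k : ℕ), X₀ ≤ (X : Subgroup S) ∧ X₀.relIndex (X : Subgroup S) = 2 ∧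
          Nonempty (↥X₀ ≃* QuaternionGroup (2 ^ (k + 1))) ∧ X₀ ⊔ ((X : Subgroup S) ⊓ Subgroup.centralizer (X₀ : Set S)) = (X : Subgroup S)) ∨
        (Cfsg.IsSpecial 2 ↥X ∧ Nat.card ↥(Subgroup.center ↥X) = 4)) := by
  classical
  haveI : Fact (Nat.Prime 2) := ⟨Nat.prime_two⟩
  obtain ⟨Y, hYdef⟩ : ∃ Y, Y = Cfsg.pCore 2 S := ⟨_, rfl⟩
  have hYC : Subgroup.centralizer (Y : Set S) ≤ Y := hYdef ▸ CfsgLib.Solvable.centralizer_pCore_le 2 hO
  haveI hYN : Y.Normal := hYdef ▸ CfsgLib.Solvable.pCore_normal 2 S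
  have hYP : IsPGroup 2 Y := hYdef ▸ CfsgLib.Solvable.pCore_isPGroup 2
  -- a Hall subgroup of odd order
  have hd : Nat.card (X : Subgroup S) * (X : Subgroup S).index = Nat.card S := (X : Subgroup S).card_mul_index
  have hodd : Odd (X : Subgroup S).index := by
    rw [← Nat.not_even_iff_odd, even_iff_two_dvd]
    exact X.not_dvd_index
  obtain ⟨a, ha⟩ := IsPGroup.iff_card.1 X.isPGroup'
  have hcop : ((X : Subgroup S).index).Coprime (Nat.card (X : Subgroup S)) := by
    rw [ha]; exact Nat.Coprime.pow_right a hodd.coprime_two_right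
  obtain ⟨K, hK⟩ := CfsgLib.Solvable.exists_hall (G := S) (m := (X : Subgroup S).index)
    (n := Nat.card (X : Subgroup S)) (by rw [mul_comm]; exact hd.symm) hcop
  have hKodd : Odd (Nat.card K) := hK ▸ hodd
  have hKindex : K.index = 2 ^ a := by
    have h := K.card_mul_index
    rw [← hd, mul_comm (Nat.card (X : Subgroup S)), hK, ha] at h
    exact Nat.eq_of_mul_eq_mul_left hodd.pos h
  -- the minimality
  have hover : ∀ R : Subgroup S, R ≠ ⊤ → K ≤ R → ¬ Has8 R := by
    intro R hR hKR
    have h1 : R.index ∣ 2 ^ a := hKindex ▸ Subgroup.index_dvd_of_le hKR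
    obtain ⟨i, -, hi⟩ := (Nat.dvd_prime_pow Nat.prime_two).1 h1
    exact hmin R hR ⟨i, hi⟩
  have hkey : ∀ R : Subgroup S, IsPGroup 2 R → Inv K R → R ⊔ K = ⊤ →
      R.Normal ∧ ∀ T : Subgroup S, IsPGroup 2 T → T ≤ R := by
    intro R hR hKR htop
    have hN : R.Normal := by
      refine Subgroup.normalizer_eq_top_iff.1 (eq_top_iff.2 ?_)
      rw [← htop]
      exact sup_le Subgroup.le_normalizer hKR.le_normalizer
    refine ⟨hN, fun T hT t ht => ?_⟩
    haveI := hN
    have hmap : K.map (QuotientGroup.mk' R) = ⊤ := by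
      rw [eq_top_iff, ← Subgroup.map_top_of_surjective _ (QuotientGroup.mk'_surjective R), ← htop,
        Subgroup.map_sup, sup_le_iff]
      refine ⟨fun x hx => ?_, le_rfl⟩
      obtain ⟨r, hr, rfl⟩ := hx
      rw [QuotientGroup.mk'_apply, (QuotientGroup.eq_one_iff r).2 hr]
      exact one_mem _
    have h1 : Nat.card (S ⧸ R) ∣ Nat.card K := by
      rw [← Subgroup.card_top (G := S ⧸ R), ← hmap]
      exact Subgroup.card_map_dvd _ _
    obtain ⟨m, hm⟩ := hT ⟨t, ht⟩
    have h2 : (QuotientGroup.mk' R t) ^ 2 ^ m = 1 := by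
      rw [← map_pow, show t ^ 2 ^ m = 1 from congrArg Subtype.val hm, map_one]
    have h3 : (QuotientGroup.mk' R t) ^ Nat.card K = 1 :=
      orderOf_dvd_iff_pow_eq_one.1 ((orderOf_dvd_natCard _).trans h1)
    have h4 : orderOf (QuotientGroup.mk' R t) = 1 := Nat.dvd_one.1
      ((Nat.Coprime.pow_right m hKodd.coprime_two_right).gcd_eq_one ▸
        Nat.dvd_gcd (orderOf_dvd_of_pow_eq_one h3) (orderOf_dvd_of_pow_eq_one h2))
    exact (QuotientGroup.eq_one_iff t).1 (orderOf_eq_one_iff.1 h4)
  obtain ⟨A, hAc, hAn, hA8⟩ := h8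
  have hA2 : IsPGroup 2 A := IsPGroup.of_card (n := 3) hA8
  have hKY : Inv K Y := fun k _ y hy => hYN.conj_mem y hy k
  have hcentK : ∀ R : Subgroup S, Y ≤ R → ¬ Moved K R → K = ⊥ := by
    intro R hYR hnm
    have h : K ≤ Y := fun k hk => hYC (Subgroup.mem_centralizer_iff.2 fun y hy => by
      have : k * y * k⁻¹ = y := by by_contra h; exact hnm ⟨k, hk, y, hYR hy, h⟩
      exact (mul_inv_eq_iff_eq_mul.1 this).symm)
    obtain ⟨i, hi⟩ := IsPGroup.iff_card.1 (hYP.to_le h)
    rcases Nat.eq_zero_or_pos i with e | e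
    · exact Subgroup.card_eq_one.1 (by rw [hi, e, pow_zero])
    · exfalso
      exact Nat.not_odd_iff_even.2 (by rw [hi]; exact (Nat.even_pow.2 ⟨even_two, by omega⟩)) hKodd
  have hXnormal : (X : Subgroup S).Normal := by
    have hYX : Y ≤ (X : Subgroup S) := hYdef ▸ CfsgLib.Solvable.pCore_le_sylow X
    by_cases hYK : Y ⊔ K = ⊤
    · rwa [le_antisymm ((hkey Y hYP hKY hYK).2 _ X.isPGroup') hYX]
    by_cases hm : Moved K Y
    swap
    · have hb := hcentK Y le_rfl hm
      rw [hb, Subgroup.card_bot] at hK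
      rw [Subgroup.index_eq_one.1 hK.symm]
      infer_instance
    exfalso
    have hsmall : ∀ R : Subgroup S, R ≤ Y → ¬ Has8 R := fun R hR h =>
      hover _ hYK le_sup_right (h.mono (hR.trans le_sup_left))
    obtain ⟨X0, hAX0⟩ := hA2.exists_le_sylow
    have hYX0 : Y ≤ (X0 : Subgroup S) := hYdef ▸ CfsgLib.Solvable.pCore_le_sylow X0
    have hXY : Inv (X0 : Subgroup S) Y := fun g _ y hy => hYN.conj_mem y hy g
    have hAcomm : ∀ x ∈ A, ∀ y ∈ A, x * y = y * x := fun x hx y hy => comm_of hAc hx hy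
    rcases classify hKodd _ Y le_rfl hYP hKY hm (fun R hR _ _ => hsmall R hR) with hV | ⟨z, hQ⟩ | h
    · -- four group
      obtain ⟨u₀, hu₀, h01, -⟩ := exists_ne (U := Y) (by rw [hV.2]; norm_num) 1 1
      obtain ⟨u, hu, hu1, hc⟩ := exists_fix_mod X0.isPGroup' hYX0 hXY ⊥ hu₀ (fun h => h01 (Subgroup.mem_bot.1 h))
      rw [Subgroup.mem_bot] at hu1
      obtain ⟨v, hv, hv1, hvu⟩ := exists_ne (U := Y) (by rw [hV.2]; norm_num) 1 u
      have hau : ∀ x ∈ A, x * u = u * x := fun x hx =>
        (commutatorElement_eq_one_iff_mul_comm.1 (Subgroup.mem_bot.1 (hc x (hAX0 hx)))).symm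
      have hin : ∀ x ∈ A, x * v = v * x → x ∈ Y := fun x hx h => hYC (Subgroup.mem_centralizer_iff.2 fun y hy => by
        rcases hV.cases hu hv hu1 hv1 (Ne.symm hvu) hy with e | e | e | e <;> rw [e]
        · rw [one_mul, mul_one]
        · exact (hau x hx).symm
        · exact h.symm
        · exact ((Commute.mul_right (show Commute x u from hau x hx) h).eq).symm)
      have hswap : ∀ x ∈ A, x ∉ Y → x * v * x⁻¹ = u * v := by
        intro x hx hxY
        rcases hV.cases hu hv hu1 hv1 (Ne.symm hvu) (hYN.conj_mem v hv x) with e | e | e | e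
        · exact absurd (conj_eq_one_iff.1 e) hv1
        · exact absurd (mul_left_cancel (mul_right_cancel (e.trans (mul_inv_eq_iff_eq_mul.2 (hau x hx)).symm))) hvu
        · exact absurd (hin x hx (mul_inv_eq_iff_eq_mul.1 e)) hxY
        · exact e
      obtain ⟨x, hxA, hxY⟩ : ∃ x ∈ A, x ∉ Y := by
        by_contra h
        push Not at h
        have := Subgroup.card_le_of_le (show A ≤ Y from h)
        rw [hA8, hV.2] at this
        omega
      have hcoset : ∀ w ∈ A, w ∈ Y ∨ x⁻¹ * w ∈ Y := by
        intro w hw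
        by_cases hwY : w ∈ Y
        · exact Or.inl hwY
        refine Or.inr (hin _ (mul_mem (inv_mem hxA) hw) (mul_inv_eq_iff_eq_mul.1 ?_))
        calc x⁻¹ * w * v * (x⁻¹ * w)⁻¹ = x⁻¹ * (w * v * w⁻¹) * x := by group
          _ = v := by rw [hswap w hw hwY, ← hswap x hxA hxY]; group
      -- the eight elements cover `Y`
      have hYA : v ∈ A := by
        by_contra hvA
        let f : A → {y : Y // (y : S) ≠ v} ⊕ {y : Y // (y : S) ≠ v} := fun w =>
          if h : (w : S) ∈ Y then Sum.inl ⟨⟨w, h⟩, fun e => hvA ((show (w : S) = v from e) ▸ w.2)⟩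
          else Sum.inr ⟨⟨x⁻¹ * w, (hcoset w w.2).resolve_left h⟩, fun e => hvA (by
            have e' : x⁻¹ * (w : S) = v := e
            rw [← e']; exact mul_mem (inv_mem hxA) w.2)⟩
        have hf : Function.Injective f := by
          intro p q hpq
          simp only [f] at hpq
          by_cases h1 : (p : S) ∈ Y <;> by_cases h2 : (q : S) ∈ Y <;> simp [h1, h2] at hpq
          · exact hpq
          · exact hpq
        have hle := Nat.card_le_card_of_injective f hf
        rw [hA8, Nat.card_sum] at hle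
        haveI : Fintype Y := Fintype.ofFinite _
        have hlt : Fintype.card {y : Y // (y : S) ≠ v} < Fintype.card Y :=
          Fintype.card_subtype_lt (p := fun y : Y => (y : S) ≠ v) (x := ⟨v, hv⟩) (fun h => h rfl)
        have h4 := hV.2
        rw [Nat.card_eq_fintype_card] at h4
        rw [Nat.card_eq_fintype_card] at hle
        omega
      exact hxY (hin x hxA (hAcomm x hxA v hYA))
    · -- quaternion
      have hconjz : ∀ g : S, g * z * g⁻¹ = z := fun g => hQ.conj_z (fun y hy => hYN.conj_mem y hy g)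
      have hzcomm : ∀ g : S, g * z = z * g := fun g => mul_inv_eq_iff_eq_mul.1 (hconjz g)
      have hz2 := hQ.2.2.2.1
      obtain ⟨u₀, hu₀, h01, h0z⟩ := exists_ne (U := Y) (by rw [hQ.1]; norm_num) 1 z
      have hzm : ∀ g ∈ Subgroup.zpowers z, g = 1 ∨ g = z := by
        rintro _ ⟨i, rfl⟩
        rcases Int.even_or_odd i with ⟨j, rfl⟩ | ⟨j, rfl⟩
        · left; show z ^ (j + j) = 1; rw [zpow_add, ← Commute.mul_zpow (Commute.refl z), hz2, one_zpow]
        · right
          show z ^ (2 * j + 1) = z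
          rw [zpow_add, zpow_mul, zpow_two, hz2, one_zpow, one_mul, zpow_one]
      obtain ⟨u, hu, huZ, hc⟩ := exists_fix_mod X0.isPGroup' hYX0 hXY (Subgroup.zpowers z) hu₀
        (fun h => (hzm u₀ h).elim h01 h0z)
      have hu1 : u ≠ 1 := fun e => huZ (e ▸ one_mem _)
      have huz : u ≠ z := fun e => huZ (e ▸ Subgroup.mem_zpowers z)
      obtain ⟨k, hk, hk1, hk2⟩ := hQ.two hKodd hKY hm hu hu1 huz
      obtain ⟨v, hvdef⟩ : ∃ v, v = k * u * k⁻¹ := ⟨_, rfl⟩
      rw [← hvdef] at hk1 hk2
      have hv : v ∈ Y := hvdef ▸ hYN.conj_mem u hu k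
      have hv1 : v ≠ 1 := fun e => hu1 (conj_eq_one_iff.1 (hvdef.symm.trans e))
      have hvz : v ≠ z := fun e => huz (mul_left_cancel (mul_right_cancel ((hvdef.symm.trans e).trans (hconjz k).symm)))
      have fl1 : v * u * v⁻¹ = u * z := hQ.flip hu hv hu1 huz hv1 hvz hk1 hk2
      have huv : u ≠ v * z := fun e => hk2 (by rw [e, mul_assoc, hz2, mul_one])
      have fl2 : u * v * u⁻¹ = v * z := hQ.flip hv hu hv1 hvz hu1 huz (Ne.symm hk1) huv
      have hux : ∀ x ∈ A, x * u * x⁻¹ = u ∨ x * u * x⁻¹ = u * z := by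
        intro x hx
        have e : x * u * x⁻¹ = ⁅u, x⁆⁻¹ * u := by rw [commutatorElement_def]; group
        rcases hzm _ (hc x (hAX0 hx)) with h | h
        · left; rw [e, h, inv_one, one_mul]
        · right; rw [e, h, inv_eq_of_mul_eq_one_left hz2, hzcomm u]
      -- preserving both pairs means lying in `Y`
      have hin : ∀ x, (x * u * x⁻¹ = u ∨ x * u * x⁻¹ = u * z) → (x * v * x⁻¹ = v ∨ x * v * x⁻¹ = v * z) →
          x ∈ Y := by
        intro x h1 h2
        have step : ∀ x (a b : S), b ∈ Y → b * a * b⁻¹ = a * z → (x * a * x⁻¹ = a ∨ x * a * x⁻¹ = a * z) →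
            ∃ w ∈ Y, (w = 1 ∨ w = b) ∧ w⁻¹ * x * a * (w⁻¹ * x)⁻¹ = a := by
          intro x a b hb hba h
          rcases h with h | h
          · exact ⟨1, one_mem Y, Or.inl rfl, by rw [inv_one, one_mul, h]⟩
          · refine ⟨b, hb, Or.inr rfl, ?_⟩
            calc b⁻¹ * x * a * (b⁻¹ * x)⁻¹ = b⁻¹ * (x * a * x⁻¹) * b := by group
              _ = a := by rw [h, ← hba]; group
        obtain ⟨w₁, hw₁, hw₁', e1⟩ := step x u v hv fl1 h1
        have h2' : w₁⁻¹ * x * v * (w₁⁻¹ * x)⁻¹ = v ∨ w₁⁻¹ * x * v * (w₁⁻¹ * x)⁻¹ = v * z := by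
          rcases hw₁' with e | e <;> rw [e]
          · rwa [inv_one, one_mul]
          · rw [show v⁻¹ * x * v * (v⁻¹ * x)⁻¹ = v⁻¹ * (x * v * x⁻¹) * v by group]
            rcases h2 with h | h <;> rw [h]
            · left; group
            · right; rw [← mul_assoc, inv_mul_cancel, one_mul, hzcomm v]
        obtain ⟨w₂, hw₂, hw₂', e2⟩ := step _ v u hu fl2 h2'
        have e1' : w₂⁻¹ * (w₁⁻¹ * x) * u = u * (w₂⁻¹ * (w₁⁻¹ * x)) := by
          have e1c : Commute (w₁⁻¹ * x) u := mul_inv_eq_iff_eq_mul.1 e1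
          rcases hw₂' with e | e <;> rw [e]
          · rw [inv_one, one_mul]; exact e1c
          · exact (Commute.mul_left (Commute.inv_left (Commute.refl u)) e1c).eq
        have hyY : w₂⁻¹ * (w₁⁻¹ * x) ∈ Y := hYC (Subgroup.mem_centralizer_iff.2 fun y hy =>
          (hQ.centralizes hu hv hu1 huz hv1 hvz hk1 hk2 e1' (mul_inv_eq_iff_eq_mul.1 e2) y hy).symm)
        rw [show x = w₁ * w₂ * (w₂⁻¹ * (w₁⁻¹ * x)) by group]
        exact mul_mem (mul_mem hw₁ hw₂) hyY
      -- the third pair
      have hthird : ∀ x ∈ A, x ∉ Y → x * v * x⁻¹ = u * v ∨ x * v * x⁻¹ = u * v * z := by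
        intro x hx hxY
        have hxv := hYN.conj_mem v hv x
        have n1 : x * v * x⁻¹ ≠ 1 := fun e => hv1 (conj_eq_one_iff.1 e)
        have n2 : x * v * x⁻¹ ≠ z := fun e => hvz (mul_left_cancel (mul_right_cancel (e.trans (hconjz x).symm)))
        have n34 : x * v * x⁻¹ ≠ u ∧ x * v * x⁻¹ ≠ u * z := by
          have hxu := hux x⁻¹ (inv_mem hx)
          rw [inv_inv] at hxu
          constructor <;> intro e
          · have : v = x⁻¹ * u * x := by rw [← e]; group
            rcases hxu with h | h <;> rw [h] at this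
            exacts [hk1 this, hk2 this]
          · have : v = x⁻¹ * u * x * z := by
              rw [mul_assoc (x⁻¹ * u), hzcomm x, ← mul_assoc, mul_assoc x⁻¹ u z, ← e]; group
            rcases hxu with h | h <;> rw [h] at this
            · exact hk2 this
            · rw [mul_assoc, hz2, mul_one] at this; exact hk1 this
        by_contra hne
        push Not at hne
        refine hxY (hin x (hux x hx) ?_)
        by_contra h5
        push Not at h5
        obtain ⟨t, ht⟩ : ∃ t, t = x * v * x⁻¹ := ⟨_, rfl⟩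
        rw [← ht] at hxv n1 n2 n34 hne h5
        -- `u⁻¹ t` commutes with `v`, or `t` does
        have hfu := hQ.flip hu hxv hu1 huz n1 n2 n34.1 n34.2
        have hfv := hQ.flip hv hxv hv1 hvz n1 n2 h5.1 h5.2
        have huvY := mul_mem hu hv
        have g1 : u * v ≠ 1 := fun e => by
          have hui : u⁻¹ = u * z := inv_eq_of_mul_eq_one_right
            (by rw [← mul_assoc, hQ.2.2.2.2.2 u hu hu1 huz, hz2])
          exact hk2 ((eq_inv_of_mul_eq_one_right e).trans hui)
        have g2 : u * v ≠ z := fun e => hk1 (mul_left_cancel (e.trans (hQ.2.2.2.2.2 u hu hu1 huz).symm))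
        have hfuv := hQ.flip huvY hxv g1 g2 n1 n2 hne.1 hne.2
        rw [show t * (u * v) * t⁻¹ = (t * u * t⁻¹) * (t * v * t⁻¹) by group, hfu, hfv,
          show u * z * (v * z) = u * (z * v) * z by group, ← hzcomm v,
          show u * (v * z) * z = u * v * (z * z) by group, hz2, mul_one] at hfuv
        exact hQ.2.2.1 (mul_eq_left.1 hfuv.symm)
      have hYnc : ¬ A ≤ Y := fun hle => by
        have hAY : A = Y := Subgroup.eq_of_le_of_card_ge hle (by rw [hA8, hQ.1])
        have h := hAcomm u (hAY ▸ hu) v (hAY ▸ hv)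
        rw [h, mul_inv_cancel_right] at fl2
        exact hQ.2.2.1 (mul_eq_left.1 fl2.symm)
      obtain ⟨x, hxA, hxY⟩ : ∃ x ∈ A, x ∉ Y := SetLike.not_le_iff_exists.1 hYnc
      have hcoset : ∀ w ∈ A, w ∈ Y ∨ x⁻¹ * w ∈ Y := by
        intro w hw
        by_cases hwY : w ∈ Y
        · exact Or.inl hwY
        refine Or.inr (hin _ (hux _ (mul_mem (inv_mem hxA) hw)) ?_)
        rw [show x⁻¹ * w * v * (x⁻¹ * w)⁻¹ = x⁻¹ * (w * v * w⁻¹) * x by group]
        have hx' : x⁻¹ * (u * v) * x = v ∨ x⁻¹ * (u * v) * x = v * z := by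
          rcases hthird x hxA hxY with h | h
          · left; rw [← h]; group
          · right
            have : u * v = x * v * x⁻¹ * z := by rw [h, mul_assoc (u * v), hz2, mul_one]
            rw [this, show x⁻¹ * (x * v * x⁻¹ * z) * x = v * (x⁻¹ * z * x) by group,
              show x⁻¹ * z * x = z by rw [mul_assoc, ← hzcomm x, inv_mul_cancel_left]]
        rcases hthird w hw hwY with h | h <;> rw [h]
        · exact hx'
        · rw [show x⁻¹ * (u * v * z) * x = x⁻¹ * (u * v) * (z * x) by group, ← hzcomm x, ← mul_assoc]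
          rcases hx' with h' | h' <;> rw [h']
          · exact Or.inr rfl
          · left; rw [mul_assoc, hz2, mul_one]
      -- an element `b` of `A ∩ Y` outside `⟨z⟩`
      obtain ⟨b, hbA, hbY, hb1, hbz⟩ : ∃ b ∈ A, b ∈ Y ∧ b ≠ 1 ∧ b ≠ z := by
        by_contra h
        push Not at h
        have hL : ({1, z, x, x * z} : Finset S).card ≤ 4 := Finset.card_le_four
        have hle : Nat.card A ≤ Nat.card ({1, z, x, x * z} : Finset S) := Nat.card_le_card_of_injective
          (fun y : A => (⟨(y : S), by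
            simp only [Finset.mem_insert, Finset.mem_singleton]
            rcases hcoset y y.2 with hy | hy
            · have := h y y.2 hy; tauto
            · have := h _ (mul_mem (inv_mem hxA) y.2) hy
              by_cases e : x⁻¹ * (y : S) = 1
              · exact Or.inr (Or.inr (Or.inl (inv_mul_eq_one.1 e).symm))
              · exact Or.inr (Or.inr (Or.inr (inv_mul_eq_iff_eq_mul.1 (this e))))⟩ : ({1, z, x, x * z} : Finset S)))
          (fun a' b' e => Subtype.ext (congrArg (fun q : ({1, z, x, x * z} : Finset S) => (q : S)) e))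
        rw [Nat.card_eq_finsetCard, hA8] at hle
        omega
      -- it lies in the pair of `u`
      have hb : b = u ∨ b = u * z := by
        by_contra h
        push Not at h
        refine hxY (hin x (hux x hxA) ?_)
        have hxb : x * b * x⁻¹ = b := mul_inv_eq_iff_eq_mul.2 (hAcomm x hxA b hbA)
        rcases hthird x hxA hxY with hxv | hxv
        all_goals
          by_cases e1 : b = v
          · left; rw [← e1]; exact hxb
          by_cases e2 : b = v * z
          · left
            have e3 : v = b * z := by rw [e2, mul_assoc, hz2, mul_one]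
            rw [e3, show x * (b * z) * x⁻¹ = (x * b * x⁻¹) * (x * z * x⁻¹) by group, hxb, hconjz]
          exfalso
          obtain ⟨w, hw, hwb⟩ : ∃ w, (w = u ∨ w = u * z) ∧ x * u * x⁻¹ = w := ⟨_, hux x hxA, rfl⟩
          have hfu := hQ.flip hu hbY hu1 huz hb1 hbz h.1 h.2
          have hfv := hQ.flip hv hbY hv1 hvz hb1 hbz e1 e2
          have key : x * (b * v * b⁻¹) * x⁻¹ = b * (x * v * x⁻¹) * b⁻¹ := by
            calc x * (b * v * b⁻¹) * x⁻¹ = (x * b * x⁻¹) * (x * v * x⁻¹) * (x * b * x⁻¹)⁻¹ := by group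
              _ = _ := by rw [hxb]
          rw [hfv, show x * (v * z) * x⁻¹ = (x * v * x⁻¹) * (x * z * x⁻¹) by group, hconjz, hxv] at key
          have hbz' : b * z * b⁻¹ = z := hconjz b
          simp only [show ∀ p q : S, b * (p * q) * b⁻¹ = (b * p * b⁻¹) * (b * q * b⁻¹) from fun p q => by group,
            hfu, hfv, hbz'] at key
          have huv' : u * z * (v * z) = u * v := by
            rw [show u * z * (v * z) = u * (z * v) * z by group, ← hzcomm v,
              show u * (v * z) * z = u * v * (z * z) by group, hz2, mul_one]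
          rw [huv'] at key
          first
          | exact hQ.2.2.1 (mul_eq_left.1 key)
          | (rw [mul_assoc, hz2, mul_one] at key; exact hQ.2.2.1 (mul_eq_left.1 key.symm))
      have hxu : x * u = u * x := by
        have hxb := hAcomm x hxA b hbA
        rcases hb with e | e <;> rw [e] at hxb
        · exact hxb
        · rw [← mul_assoc, mul_assoc u, ← hzcomm x, ← mul_assoc] at hxb
          exact mul_right_cancel hxb
      have hx2 : x * x = 1 ∨ x * x = z := by
        have hxxA := mul_mem hxA hxA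
        have hxxY : x * x ∈ Y := by
          rcases hcoset _ hxxA with h | h
          · exact h
          · exact absurd (by rwa [← mul_assoc, inv_mul_cancel, one_mul] at h) hxY
        by_contra h
        push Not at h
        refine hAn ⟨?_⟩
        have h4 : (x * x) * (x * x) = z := hQ.2.2.2.2.2 _ hxxY h.1 h.2
        have hord : orderOf x = 2 ^ (2 + 1) := orderOf_eq_prime_pow
          (by rw [show (2 : ℕ) ^ 2 = 2 * 2 by norm_num, pow_mul, pow_two, pow_two, h4]; exact hQ.2.2.1)
          (by rw [show (2 : ℕ) ^ (2 + 1) = 2 * 2 * 2 by norm_num, pow_mul, pow_mul]; simp only [pow_two]; rw [h4, hz2])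
        have htop : ∀ y : A, y ∈ Subgroup.zpowers (⟨x, hxA⟩ : A) := by
          intro y
          have : Subgroup.zpowers (⟨x, hxA⟩ : A) = ⊤ := Subgroup.eq_top_of_card_eq _ (by
            rw [Nat.card_zpowers, ← Subgroup.orderOf_coe]
            show orderOf x = _
            rw [hord, hA8]; norm_num)
          rw [this]; trivial
        exact ⟨⟨x, hxA⟩, htop⟩
      -- `x²` centralises `v`, but flips it
      have hxxv : x * x * v * (x * x)⁻¹ = v * z := by
        rw [show x * x * v * (x * x)⁻¹ = x * (x * v * x⁻¹) * x⁻¹ by group]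
        have hxu' : x * u * x⁻¹ = u := mul_inv_eq_iff_eq_mul.2 hxu
        rcases hthird x hxA hxY with h | h
        · rw [h, show x * (u * v) * x⁻¹ = (x * u * x⁻¹) * (x * v * x⁻¹) by group, hxu', h, ← mul_assoc,
            hQ.2.2.2.2.2 u hu hu1 huz, hzcomm v]
        · rw [h, show x * (u * v * z) * x⁻¹ = (x * u * x⁻¹) * (x * v * x⁻¹) * (x * z * x⁻¹) by group, hxu', h,
            hconjz, show u * (u * v * z) * z = (u * u) * v * (z * z) by group, hz2, mul_one,
            hQ.2.2.2.2.2 u hu hu1 huz, hzcomm v]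
      rcases hx2 with h | h <;> rw [h] at hxxv
      · rw [one_mul, inv_one, mul_one] at hxxv
        exact hQ.2.2.1 (mul_eq_left.1 hxxv.symm)
      · rw [← hzcomm v, mul_inv_cancel_right] at hxxv
        exact hQ.2.2.1 (mul_eq_left.1 hxxv.symm)
    · exact hsmall Y le_rfl h.1
  refine ⟨hXnormal, ?_⟩
  haveI := hXnormal
  have hXK : Inv K (X : Subgroup S) := fun k _ x hx => hXnormal.conj_mem x hx k
  have hAX : A ≤ (X : Subgroup S) := by
    obtain ⟨Q, hQ⟩ := hA2.exists_le_sylow
    haveI : Subsingleton (Sylow 2 S) := by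
      have := Sylow.unique_of_normal X hXnormal
      infer_instance
    rwa [Subsingleton.elim Q X] at hQ
  by_cases hm : Moved K (X : Subgroup S)
  swap
  · left
    have hb := hcentK _ (hYdef ▸ CfsgLib.Solvable.pCore_le_sylow X) hm
    have hAtop : A = ⊤ := by
      by_contra h
      exact hover A h (hb ▸ bot_le) ⟨A, le_rfl, hAc, hAn, hA8⟩
    exact isMulCommutative_of fun x _ y _ => comm_of hAc (hAtop ▸ trivial) (hAtop ▸ trivial)
  have hsm : ∀ R : Subgroup S, R ≤ (X : Subgroup S) → Inv K R → R ≠ (X : Subgroup S) → ¬ Has8 R := by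
    intro R hR hKR hne h
    by_cases htop : R ⊔ K = ⊤
    · exact hne (le_antisymm hR ((hkey R (X.isPGroup'.to_le hR) hKR htop).2 _ X.isPGroup'))
    · exact hover _ htop le_sup_right (h.mono le_sup_left)
  rcases classify hKodd _ _ le_rfl X.isPGroup' hXK hm hsm with hV | ⟨z, hQ⟩ | ⟨-, hgood⟩
  · have := Subgroup.card_le_of_le hAX
    rw [hA8, hV.2] at this
    omega
  · left
    show IsMulCommutative ↥(X : Subgroup S)
    rw [← Subgroup.eq_of_le_of_card_ge hAX (by rw [hA8, hQ.1])]
    exact hAc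
  rcases hgood with h | h | ⟨U, hUX, hidx, ⟨z, hQ⟩, hsup⟩ | h
  · exact Or.inl h
  · exact Or.inr (Or.inl h)
  · refine Or.inr (Or.inr (Or.inl ⟨U, 0, hUX, hidx, ?_, hsup⟩))
    have hU2 : IsPGroup 2 U := IsPGroup.of_card (n := 3) hQ.1
    rcases CfsgLib.StructC.isCyclic_or_quaternion hU2 (fun p q hp hq _ => by
      rw [orderOf_eq_prime_iff] at hp hq
      have e1 : (p : S) = z := hQ.eq_z p.2 (fun e => hp.2 (Subtype.ext e))
        (by have := congrArg Subtype.val hp.1; rwa [Subgroup.coe_pow, pow_two] at this)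
      have e2 : (q : S) = z := hQ.eq_z q.2 (fun e => hq.2 (Subtype.ext e))
        (by have := congrArg Subtype.val hq.1; rwa [Subgroup.coe_pow, pow_two] at this)
      rw [show q = p from Subtype.ext (e2.trans e1.symm)]
      exact Subgroup.mem_zpowers p) with hcyc | ⟨m, hm1, hm2⟩
    · exfalso
      obtain ⟨u, hu, hu1, huz⟩ := exists_ne (U := U) (by rw [hQ.1]; norm_num) 1 z
      obtain ⟨v, hv, hvu⟩ : ∃ v ∈ U, v ∉ Subgroup.closure ({u, z} : Set S) := by
        by_contra h
        push Not at h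
        have hle : U ≤ Subgroup.closure ({u, z} : Set S) := h
        haveI := hcyc
        obtain ⟨⟨g, hg⟩, hgen⟩ := IsCyclic.exists_generator (α := U)
        have h8' : orderOf g = 8 := by
          have := orderOf_eq_card_of_forall_mem_zpowers hgen
          rw [hQ.1, ← Subgroup.orderOf_coe] at this
          exact this
        rcases hQ.sq_cases hg with e | e
        · have := orderOf_dvd_of_pow_eq_one (show g ^ 2 = 1 by rw [pow_two, e])
          rw [h8'] at this; norm_num at this
        · have := orderOf_dvd_of_pow_eq_one (show g ^ 4 = 1 by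
            rw [show 4 = 2 * 2 by norm_num, pow_mul, pow_two g, e, pow_two, hQ.2.2.2.1])
          rw [h8'] at this; norm_num at this
      have hm' : ∀ w ∈ ({u, z} : Set S), w ∈ Subgroup.closure ({u, z} : Set S) := fun w hw =>
        Subgroup.subset_closure hw
      have hf := hQ.flip hu hv hu1 huz (fun e => hvu (e ▸ one_mem _)) (fun e => hvu (e ▸ hm' z (by simp)))
        (fun e => hvu (e ▸ hm' u (by simp))) (fun e => hvu (e ▸ mul_mem (hm' u (by simp)) (hm' z (by simp))))
      haveI := hcyc
      letI := IsCyclic.commGroup (α := U)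
      have hc : (⟨v, hv⟩ : U) * ⟨u, hu⟩ = ⟨u, hu⟩ * ⟨v, hv⟩ := mul_comm _ _
      have hc' : v * u = u * v := congrArg Subtype.val hc
      rw [hc', mul_inv_cancel_right] at hf
      exact hQ.2.2.1 (mul_eq_left.1 hf.symm)
    · obtain ⟨e⟩ := hm2
      have h := Nat.card_congr e.toEquiv
      haveI : NeZero (2 ^ m) := ⟨pow_ne_zero m two_ne_zero⟩
      rw [hQ.1, Nat.card_eq_fintype_card, QuaternionGroup.card] at h
      have hm' : m = 1 := by
        rcases m with _ | _ | m
        · omega
        · rfl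
        · exfalso
          have : 4 ≤ 2 ^ (m + 1 + 1) := by
            calc (4 : ℕ) = 2 ^ 2 := by norm_num
              _ ≤ _ := Nat.pow_le_pow_right two_pos (by omega)
          omega
      subst hm'
      exact ⟨e⟩
  · exact Or.inr (Or.inr (Or.inr h))

end Cfsg.Agent.S4409
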