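import Cfsg.Statements.S4414
import Cfsg.Agent.Lib.StructC.FixedSpaceBound

set_option autoImplicit false
open Cfsg

namespace Cfsg.Agent.S4414

/-- Let S be a finite solvable group whose order is divisible only by the primes 2, p, q (p, q distinct odd primes), with a Sylow system S₂, S_p, S_q (pairwise permutable Sylow subgroups) such that: S_p is a minimal normal subgroup of S of order p or p²; S_q has order q and [S_p, S_q] = S_p; and O₂(S) = 1. Let E be an irreducible module for S over the field with two elements on which S_p acts faithfully, and E₀ the subspace of fixed points of S₂. Then either E₀ has at least 8 elements, or E₀ has exactly 4 elements and S_q does not leave E₀ invariant. -/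
theorem result {S : Type*} [Group S] [Finite S]
    [Group.IsSolvable S] (p q : ℕ) (hp : p.Prime) (hq : q.Prime) (hp2 : p ≠ 2) (hq2 : q ≠ 2) (hpq : p ≠ q)
    (hπ : ∀ r : ℕ, r.Prime → r ∣ Nat.card S → r = 2 ∨ r = p ∨ r = q)
    (S₂ : Sylow 2 S) (Sp : Sylow p S) (Sq : Sylow q S)
    (h2q : Nat.card ↥((S₂ : Subgroup S) ⊔ (Sq : Subgroup S)) = Nat.card ↥S₂ * Nat.card ↥Sq)
    (h2p : Nat.card ↥((S₂ : Subgroup S) ⊔ (Sp : Subgroup S)) = Nat.card ↥S₂ * Nat.card ↥Sp)
    (hpq' : Nat.card ↥((Sp : Subgroup S) ⊔ (Sq : Subgroup S)) = Nat.card ↥Sp * Nat.card ↥Sq)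
    (hSpN : (Sp : Subgroup S).Normal) (hSpmin : ∀ N : Subgroup S, N.Normal → N ≤ (Sp : Subgroup S) → N = ⊥ ∨ N = (Sp : Subgroup S))
    (hSpcard : Nat.card ↥Sp = p ∨ Nat.card ↥Sp = p ^ 2)
    (hSq : Nat.card ↥Sq = q) (hcomm : ⁅(Sp : Subgroup S), (Sq : Subgroup S)⁆ = (Sp : Subgroup S))
    (hO2 : Cfsg.pCore 2 S = ⊥)
    {E : Type*} [AddCommGroup E] [Module (ZMod 2) E] [Finite E] (ρ : Representation (ZMod 2) S E) (hE : Nontrivial E)
    (hirr : ∀ N : Submodule (ZMod 2) E, (∀ s : S, ∀ m ∈ N, ρ s m ∈ N) → N = ⊥ ∨ N = ⊤)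
    (hfaith : ∀ x ∈ (Sp : Subgroup S), ρ x = 1 → x = 1) :
    8 ≤ Nat.card {v : E // ∀ s ∈ (S₂ : Subgroup S), ρ s v = v} ∨
      (Nat.card {v : E // ∀ s ∈ (S₂ : Subgroup S), ρ s v = v} = 4 ∧
        ∃ x ∈ (Sq : Subgroup S), ∃ v : E, (∀ s ∈ (S₂ : Subgroup S), ρ s v = v) ∧ ¬ ∀ s ∈ (S₂ : Subgroup S), ρ s (ρ x v) = ρ x v) := by
  classical
  replace hSpcard : Nat.card (Sp : Subgroup S) = p ∨ Nat.card (Sp : Subgroup S) = p ^ 2 := hSpcard
  replace hSq : Nat.card (Sq : Subgroup S) = q := hSq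
  haveI : Fact p.Prime := ⟨hp⟩
  haveI : Fact q.Prime := ⟨hq⟩
  haveI := hSpN
  haveI := hE
  have hA : ∀ a ∈ (Sp : Subgroup S), ∀ b ∈ (Sp : Subgroup S), a * b = b * a := by
    intro a ha b hb
    rcases hSpcard with h | h
    · haveI : IsCyclic (Sp : Subgroup S) := isCyclic_of_prime_card h
      exact congrArg Subtype.val
        (IsCyclic.commGroup.mul_comm (⟨a, ha⟩ : (Sp : Subgroup S)) ⟨b, hb⟩)
    · haveI := IsPGroup.isMulCommutative_of_card_eq_prime_sq h
      exact congrArg Subtype.val (mul_comm' (⟨a, ha⟩ : (Sp : Subgroup S)) ⟨b, hb⟩)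
  have hne : (Sp : Subgroup S) ≠ ⊥ := fun e => by
    have := hp.two_le
    rcases hSpcard with h | h <;> rw [e, Subgroup.card_bot] at h
    · omega
    · nlinarith
  have hodd : Odd (Nat.card (Sp : Subgroup S)) := by
    have := hp.odd_of_ne_two hp2
    rcases hSpcard with h | h <;> rw [h]
    · exact this
    · exact this.pow
  obtain ⟨⟨x, hxS⟩, hxo⟩ := exists_prime_orderOf_dvd_card' (G := (Sq : Subgroup S)) q (by rw [hSq])
  rw [Subgroup.orderOf_mk] at hxo
  have hzp : ∀ b ∈ (Sq : Subgroup S), ∃ n : ℕ, x ^ n = b := by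
    intro b hb
    have h := Subgroup.eq_of_le_of_card_ge (Subgroup.zpowers_le.2 hxS)
      (by rw [hSq, Nat.card_zpowers, hxo])
    exact mem_powers_iff_mem_zpowers.2 (h.symm ▸ hb)
  let c : (Sp : Subgroup S) →* S :=
    { toFun := fun a => (a : S)⁻¹ * (x * a * x⁻¹)
      map_one' := by simp
      map_mul' := fun a b => by
        have h := hA (b : S)⁻¹ (inv_mem b.2) ((a : S)⁻¹ * (x * a * x⁻¹))
          (mul_mem (inv_mem a.2) (hSpN.conj_mem _ a.2 x))
        calc ((a * b : (Sp : Subgroup S)) : S)⁻¹ * (x * ((a * b : (Sp : Subgroup S)) : S) * x⁻¹)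
            = ((b : S)⁻¹ * ((a : S)⁻¹ * (x * a * x⁻¹))) * (x * b * x⁻¹) := by
              simp only [Subgroup.coe_mul]; group
          _ = _ := by rw [h]; group }
  have hkey : ∀ n : ℕ, ∀ a : (Sp : Subgroup S), (a : S)⁻¹ * (x ^ n * a * (x ^ n)⁻¹) ∈ c.range := by
    intro n
    induction n with
    | zero => intro a; simp
    | succ n ih =>
      intro a
      have h1 : (a : S)⁻¹ * (x * a * x⁻¹) ∈ c.range := ⟨a, rfl⟩
      have h2 := ih ⟨x * a * x⁻¹, hSpN.conj_mem _ a.2 x⟩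
      convert mul_mem h1 h2 using 1
      rw [pow_succ]
      group
  have hsurj : ∀ b ∈ (Sp : Subgroup S), ∃ a ∈ (Sp : Subgroup S), a⁻¹ * (x * a * x⁻¹) = b := by
    intro b hb
    have hle : ⁅(Sp : Subgroup S), (Sq : Subgroup S)⁆ ≤ c.range := Subgroup.commutator_le.2 fun a ha y hy => by
      obtain ⟨n, rfl⟩ := hzp y hy
      rw [commutatorElement_def]
      have := inv_mem (hkey n ⟨a⁻¹, inv_mem ha⟩)
      have h := hA a ha (x ^ n * a⁻¹ * (x ^ n)⁻¹) (hSpN.conj_mem _ (inv_mem ha) _)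
      convert inv_mem this using 1
      simp only [inv_inv]
      rw [show a * x ^ n * a⁻¹ * (x ^ n)⁻¹ = a * (x ^ n * a⁻¹ * (x ^ n)⁻¹) by group]
    obtain ⟨a, ha⟩ := hle (hcomm.symm ▸ hb)
    exact ⟨a, a.2, ha⟩
  have hfree : ∀ v : E, (∀ a ∈ (Sp : Subgroup S), ρ a v = v) → v = 0 := by
    let N := CfsgLib.StructC.FixedBound.fix ρ ((Sp : Subgroup S) : Set S)
    rcases hirr N (fun s m hm => (CfsgLib.StructC.FixedBound.mem_fix ρ).2 fun a ha => by
        have h1 := (CfsgLib.StructC.FixedBound.mem_fix ρ).1 hm _ (hSpN.conj_mem a ha s⁻¹)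
        rw [← Module.End.mul_apply, ← map_mul,
          show a * s = s * (s⁻¹ * a * s⁻¹⁻¹) by group, map_mul, Module.End.mul_apply, h1])
      with h | h
    · intro v hv
      exact (Submodule.eq_bot_iff _).1 h v ((CfsgLib.StructC.FixedBound.mem_fix ρ).2 hv)
    · exfalso
      refine hne ((Subgroup.eq_bot_iff_forall _).2 fun a ha => hfaith a ha (LinearMap.ext fun v => ?_))
      exact (CfsgLib.StructC.FixedBound.mem_fix ρ).1
        (h ▸ Submodule.mem_top : v ∈ N) a ha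
  have hset : Nat.card {v : E // ∀ s ∈ (S₂ : Subgroup S), ρ s v = v}
      = Nat.card (CfsgLib.StructC.FixedBound.fix ρ ((S₂ : Subgroup S) : Set S)) :=
    Nat.card_congr (Equiv.subtypeEquivRight fun v =>
      (CfsgLib.StructC.FixedBound.mem_fix ρ).symm)
  rw [hset]
  rcases CfsgLib.StructC.FixedBound.main (Sp : Subgroup S) ρ hA hodd hfree hq hq2 hxo hsurj S₂.2
    with h | ⟨h, v, hv, hxv⟩
  · exact Or.inl h
  · exact Or.inr ⟨h, x, hxS, v, (CfsgLib.StructC.FixedBound.mem_fix ρ).1 hv,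
      fun hh => hxv ((CfsgLib.StructC.FixedBound.mem_fix ρ).2 hh)⟩

end Cfsg.Agent.S4414
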