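import Cfsg.Statements.S4416
import Cfsg.Agent.Lib.StructC.ExtraspecialCount

set_option autoImplicit false
open Cfsg

namespace Cfsg.Agent.S4416

/-- Classification of extraspecial 2-groups in intrinsic form. An extraspecial 2-group has order 2^(2m+1) for some m ≥ 1, and the number of its elements squaring to the identity is either 2^(2m) + 2^m or 2^(2m) − 2^m; two extraspecial 2-groups of the same order with the same number of such elements are isomorphic. (The two cases are the central products of m dihedral groups of order 8, and of m − 1 dihedral groups with one quaternion group.) -/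
theorem result (E : Type*) [Group E] [Finite E] (hE : Cfsg.IsExtraspecial 2 E) :
    (∃ m : ℕ, 1 ≤ m ∧ Nat.card E = 2 ^ (2 * m + 1) ∧
      (Nat.card {x : E // x ^ 2 = 1} = 2 ^ (2 * m) + 2 ^ m ∨ Nat.card {x : E // x ^ 2 = 1} = 2 ^ (2 * m) - 2 ^ m)) ∧
    ∀ (E' : Type*) [Group E'] [Finite E'], Cfsg.IsExtraspecial 2 E' → Nat.card E' = Nat.card E →
      Nat.card {x : E' // x ^ 2 = 1} = Nat.card {x : E // x ^ 2 = 1} → Nonempty (E ≃* E') := by
  have : Fact (Nat.Prime 2) := ⟨Nat.prime_two⟩
  refine ⟨?_, fun E' _ _ hE' hc hi => ?_⟩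
  · obtain ⟨m, hm, hI⟩ := CfsgLib.StructC.EsCount.invCount_formula hE _ ⊤
      CfsgLib.Transfer.isEsGood_top rfl
    rw [CfsgLib.StructC.EsCount.invCount_top] at hI
    rw [Subgroup.card_top] at hm
    obtain ⟨m', hm', hm''⟩ := CfsgLib.Transfer.extraspecial_card hE
    have e : 2 * m' + 1 = 2 * m + 1 := Nat.pow_right_injective (le_refl 2) (hm''.symm.trans hm)
    refine ⟨m, by omega, hm, ?_⟩
    have hle : 2 ^ m ≤ 2 ^ (2 * m) := Nat.pow_le_pow_right (by norm_num) (by omega)
    rcases hI with hI | hI
    · left; exact_mod_cast hI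
    · right; zify [hle]; exact hI
  · obtain ⟨e⟩ := CfsgLib.StructC.EsCount.iso_of_invCount hE hE' _ ⊤ ⊤
      CfsgLib.Transfer.isEsGood_top CfsgLib.Transfer.isEsGood_top rfl
      (by rw [Subgroup.card_top, Subgroup.card_top, hc])
      (by rw [CfsgLib.StructC.EsCount.invCount_top, CfsgLib.StructC.EsCount.invCount_top, hi])
    exact ⟨(Subgroup.topEquiv.symm.trans e).trans Subgroup.topEquiv⟩

end Cfsg.Agent.S4416
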