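import Cfsg.Statements.S4417
import Cfsg.Agent.Lib.StructC.PGroupLinearDerived

set_option autoImplicit false
open Cfsg

namespace Cfsg.Agent.S4417

/-- Let F be a field with q elements, p a prime not dividing q, and e the multiplicative order of q modulo p; assume e ≤ n. Then every p-subgroup of GL_n(F) has derived length at most ⌊log₂(n/e)⌋ + 1: that term of its derived series is trivial (n/e is the integer quotient). -/
theorem result {F : Type*} [Field F] [Fintype F] (q : ℕ) (hF : Fintype.card F = q) (p : ℕ) [Fact p.Prime] (hpq : ¬ p ∣ q) (n e : ℕ) (he : e = orderOf (q : ZMod p)) (hen : e ≤ n) (P : Subgroup (GL (Fin n) F)) (hP : IsPGroup p P) : derivedSeries ↥P (Nat.log 2 (n / e) + 1) = ⊥ := by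
  classical
  have hpF : (p : F) ≠ 0 := fun h0 => by
    obtain ⟨r, hr⟩ := CharP.exists F
    haveI : Fact r.Prime := ⟨CharP.char_is_prime F r⟩
    obtain ⟨k, -, hk⟩ := FiniteField.card F r
    rw [CharP.cast_eq_zero_iff F r, Nat.prime_dvd_prime_iff_eq (Fact.out : r.Prime) Fact.out] at h0
    subst h0
    exact hpq (hF ▸ hk ▸ dvd_pow_self r k.pos.ne')
  let g : GL (Fin n) F →* ((Fin n → F) ≃ₗ[F] (Fin n → F)) :=
    ((LinearMap.GeneralLinearGroup.generalLinearEquiv F (Fin n → F)).toMonoidHom).comp
      (Matrix.GeneralLinearGroup.toLin).toMonoidHom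
  have hg : Function.Injective g :=
    (LinearMap.GeneralLinearGroup.generalLinearEquiv F (Fin n → F)).injective.comp
      (Matrix.GeneralLinearGroup.toLin).injective
  have h1 := CfsgLib.StructC.PGroupLinear.derived_bound hpF n ↥P hP (Fin n → F) (g.comp P.subtype)
    (hg.comp P.subtype_injective) (Module.finrank_fin_fun F)
  rwa [Nat.card_eq_fintype_card, hF, ← he] at h1

end Cfsg.Agent.S4417
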