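import Cfsg.Statements.S4420

set_option autoImplicit false
open Cfsg
open scoped Pointwise

namespace Cfsg.Agent.S4420

/-- Structure of groups in which every element outside some proper subgroup has square 1. Let H be a finite group with a proper subgroup A such that every element outside A has square 1. Then H has an abelian normal subgroup B of index 2 such that every element outside B is an involution inverting every element of B; and if H is not an elementary abelian 2-group, B is the only abelian normal subgroup of index 2 with this property. -/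
theorem result {H : Type*} [Group H] [Finite H] (A : Subgroup H) (hA : A ≠ ⊤) (hD : ∀ x : H, x ∉ A → x ^ 2 = 1) :
    ∃ B : Subgroup H, B.Normal ∧ IsMulCommutative ↥B ∧ B.index = 2 ∧
      (∀ x : H, x ∉ B → x ^ 2 = 1 ∧ ∀ b ∈ B, x * b * x⁻¹ = b⁻¹) ∧
      (¬ (IsMulCommutative H ∧ ∀ x : H, x ^ 2 = 1) →
        ∀ B' : Subgroup H, B'.Normal → IsMulCommutative ↥B' → B'.index = 2 →
          (∀ x : H, x ∉ B' → x ^ 2 = 1 ∧ ∀ b ∈ B', x * b * x⁻¹ = b⁻¹) → B' = B) := by
  classical
  obtain ⟨x, hx⟩ : ∃ x, x ∉ A := by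
    by_contra hc; push Not at hc; exact hA (top_le_iff.mp fun y _ => hc y)
  have hinv : ∀ y ∉ A, y⁻¹ = y := fun y hy => inv_eq_of_mul_eq_one_right (by rw [← sq]; exact hD y hy)
  have hconj : ∀ y ∉ A, ∀ a ∈ A, y * a * y⁻¹ = a⁻¹ := by
    intro y hy a ha
    have h1 : y * a ∉ A := fun h => hy (by simpa using A.mul_mem h (A.inv_mem ha))
    have h2 := hinv _ h1
    rw [mul_inv_rev, hinv y hy] at h2
    rw [hinv y hy, ← h2]
    rw [show a⁻¹ * y * y = a⁻¹ * (y * y) from mul_assoc _ _ _, ← sq, hD y hy, mul_one]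
  have hAc : IsMulCommutative A := ⟨⟨fun a b => Subtype.ext ?_⟩⟩
  swap
  · have ea := hconj x hx _ a.2
    have eb := hconj x hx _ b.2
    have eab := hconj x hx _ (A.mul_mem a.2 b.2)
    have : ((a : H) * b)⁻¹ = (a : H)⁻¹ * (b : H)⁻¹ := by rw [← eab, ← ea, ← eb]; group
    rw [mul_inv_rev] at this
    have := congrArg (·⁻¹) this
    simpa using this
  by_cases hel : ∀ a ∈ A, a ^ 2 = 1
  · have hall : ∀ y : H, y ^ 2 = 1 := fun y => if h : y ∈ A then hel y h else hD y h
    have e : ∀ y : H, y⁻¹ = y := fun y => inv_eq_of_mul_eq_one_right (by rw [← sq]; exact hall y)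
    have hcomm : ∀ y z : H, y * z = z * y := fun y z => by
      calc y * z = (y * z)⁻¹ := (e _).symm
        _ = z * y := by rw [mul_inv_rev, e, e]
    have hH2 : IsPGroup 2 H := fun y => ⟨1, by simpa using hall y⟩
    obtain ⟨k, hk⟩ := IsPGroup.iff_card.mp hH2
    have hne : Nat.card H ≠ 1 := by
      intro h1
      have : Subsingleton H := (Nat.card_eq_one_iff_unique.mp h1).1
      exact hx (Subsingleton.elim 1 x ▸ A.one_mem)
    obtain ⟨j, rfl⟩ : ∃ j, k = j + 1 := ⟨k - 1, by
      rcases k with _ | k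
      · simp [hk] at hne
      · rfl⟩
    obtain ⟨B, hB⟩ := Sylow.exists_subgroup_card_pow_prime 2 (n := j) (hk ▸ pow_dvd_pow 2 (Nat.le_succ j))
    refine ⟨B, ⟨fun b hb g => by rwa [hcomm g b, mul_inv_cancel_right]⟩, ⟨⟨fun a b => Subtype.ext (hcomm a b)⟩⟩, ?_, ?_, ?_⟩
    · have := B.card_mul_index
      rw [hB, hk, pow_succ] at this
      exact Nat.eq_of_mul_eq_mul_left (by positivity) this
    · exact fun y _ => ⟨hall y, fun b _ => by rw [hcomm y b, mul_inv_cancel_right, e]⟩
    · exact fun h => absurd ⟨⟨⟨hcomm⟩⟩, hall⟩ h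
  · push Not at hel
    obtain ⟨a0, ha0, ha0'⟩ := hel
    have hprod : ∀ y ∉ A, ∀ z ∉ A, y * z ∈ A := by
      intro y hy z hz
      by_contra hc
      have h1 := hconj _ hc a0 ha0
      have h2 : y * z * a0 * (y * z)⁻¹ = a0 := by
        calc _ = y * (z * a0 * z⁻¹) * y⁻¹ := by group
          _ = y * a0⁻¹ * y⁻¹ := by rw [hconj z hz a0 ha0]
          _ = a0 := by rw [hconj y hy _ (A.inv_mem ha0), inv_inv]
      rw [h2] at h1
      exact ha0' (by rw [sq]; nth_rewrite 1 [h1]; exact inv_mul_cancel a0)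
    have hidx : A.index = 2 := Subgroup.index_eq_two_iff.mpr ⟨x, fun b => by
      by_cases hb : b ∈ A
      · exact Or.inr ⟨hb, fun h => hx (by simpa using A.mul_mem (A.inv_mem hb) h)⟩
      · exact Or.inl ⟨hprod b hb x hx, hb⟩⟩
    refine ⟨A, Subgroup.normal_of_index_eq_two hidx, hAc, hidx, fun y hy => ⟨hD y hy, hconj y hy⟩,
      fun _ B' hB'n hB'c hB'i hB' => ?_⟩
    by_contra hne
    obtain ⟨b, hbA, hbB⟩ : ∃ b ∈ A, b ∉ B' := by
      by_contra hc
      push Not at hc
      exact hne ((Subgroup.eq_of_le_of_card_ge hc (le_of_eq (Nat.eq_of_mul_eq_mul_right (m := 2) two_pos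
        (by conv_lhs => rw [← hB'i]
            rw [← hidx, B'.card_mul_index, A.card_mul_index])))).symm)
    refine ha0' ?_
    by_cases hB0 : a0 ∈ B'
    · have hb0 : b * a0 ∉ B' := fun h => hbB (by simpa using B'.mul_mem h (B'.inv_mem hB0))
      have e1 := (hB' _ hb0).1
      have e2 := (hB' _ hbB).1
      have hc : Commute b a0 := congrArg Subtype.val (hAc.is_comm.comm ⟨b, hbA⟩ ⟨a0, ha0⟩)
      rw [hc.mul_pow, e2, one_mul] at e1
      exact e1
    · exact (hB' _ hB0).1

end Cfsg.Agent.S4420
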