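import Cfsg.Statements.S4421

set_option autoImplicit false
open Cfsg

namespace Cfsg.Agent.S4421

theorem conjMap_mul {G : Type*} [Group G] (A : Subgroup G) (a b : G) :
    A.map (MulAut.conj (a * b)).toMonoidHom =
      (A.map (MulAut.conj b).toMonoidHom).map (MulAut.conj a).toMonoidHom := by
  rw [Subgroup.map_map]
  congr 1
  ext x
  simp [mul_assoc]

theorem conjMap_one {G : Type*} [Group G] (A : Subgroup G) :
    A.map (MulAut.conj (1 : G)).toMonoidHom = A := by
  ext x; simp

theorem mem_normalizer_iff_map {G : Type*} [Group G] {A : Subgroup G} {x : G} :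
    x ∈ Subgroup.normalizer (A : Set G) ↔ A.map (MulAut.conj x).toMonoidHom = A := by
  constructor
  · intro h
    ext y
    rw [Subgroup.mem_map]
    constructor
    · rintro ⟨z, hz, rfl⟩
      simpa using (Subgroup.mem_normalizer_iff.mp h z).mp hz
    · intro hy
      exact ⟨x⁻¹ * y * x, (Subgroup.mem_normalizer_iff.mp h _).mpr (by simpa [mul_assoc] using hy),
        by simp [mul_assoc]⟩
  · intro h
    refine Subgroup.mem_normalizer_iff.mpr fun y => ?_
    constructor
    · intro hy
      rw [← h]; exact ⟨y, hy, rfl⟩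
    · intro hy
      rw [← h] at hy
      obtain ⟨z, hz, he⟩ := hy
      obtain rfl : z = y := by simpa using he
      exact hz

/-- A factorization of a normalizer from two-step control of fusion. Let `G` be a finite group and `A ≤ S ≤ H` subgroups of `G` such that: (i) `S` controls the `G`-fusion of `A` in the sense that every `G`-conjugate of `A` lying in `S` is an `S`-conjugate of `A`; (ii) `H` controls the `G`-fusion of `S` in the same sense; (iii) every conjugate of `S` by an element of the normalizer of `A` lies in `H`. Then `N_G(A) = N_H(A) · (N_G(S) ∩ N_G(A))`: every element of the normalizer of `A` is a product of an element of `H` normalizing `A` and an element normalizing both `S` and `A`. -/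
theorem result {G : Type*} [Group G] [Finite G] (A S H : Subgroup G)
    (hAS : A ≤ S) (hSH : S ≤ H)
    (h1 : ∀ g : G, A.map (MulAut.conj g).toMonoidHom ≤ S → ∃ s ∈ S, A.map (MulAut.conj g).toMonoidHom = A.map (MulAut.conj s).toMonoidHom)
    (h2 : ∀ g : G, S.map (MulAut.conj g).toMonoidHom ≤ H → ∃ y ∈ H, S.map (MulAut.conj g).toMonoidHom = S.map (MulAut.conj y).toMonoidHom)
    (h3 : ∀ x ∈ Subgroup.normalizer (A : Set G), S.map (MulAut.conj x).toMonoidHom ≤ H) :
    ∀ x ∈ Subgroup.normalizer (A : Set G), ∃ y ∈ H ⊓ Subgroup.normalizer (A : Set G),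
      ∃ z ∈ Subgroup.normalizer (S : Set G) ⊓ Subgroup.normalizer (A : Set G), x = y * z := by
  intro x hx
  obtain ⟨y, hy, hSy⟩ := h2 x (h3 x hx)
  -- `y⁻¹ x` normalises `S`
  have hw : S.map (MulAut.conj (y⁻¹ * x)).toMonoidHom = S := by
    rw [conjMap_mul, hSy, ← conjMap_mul, inv_mul_cancel, conjMap_one]
  have hAle : A.map (MulAut.conj (y⁻¹ * x)).toMonoidHom ≤ S := (Subgroup.map_mono hAS).trans hw.le
  obtain ⟨s, hs, hAs⟩ := h1 _ hAle
  have hxA : A.map (MulAut.conj x).toMonoidHom = A := mem_normalizer_iff_map.mp hx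
  refine ⟨y * s, ⟨H.mul_mem hy (hSH hs), ?_⟩, (y * s)⁻¹ * x, ⟨?_, ?_⟩, by group⟩
  · show _ ∈ Subgroup.normalizer _; rw [mem_normalizer_iff_map, conjMap_mul, ← hAs, ← conjMap_mul,
      mul_inv_cancel_left, hxA]
  · show _ ∈ Subgroup.normalizer _; rw [mem_normalizer_iff_map, mul_inv_rev, mul_assoc, conjMap_mul, hw]
    exact mem_normalizer_iff_map.mp (Subgroup.le_normalizer (S.inv_mem hs))
  · show _ ∈ Subgroup.normalizer _; rw [mem_normalizer_iff_map, mul_inv_rev, mul_assoc, conjMap_mul, hAs,
      ← conjMap_mul, inv_mul_cancel, conjMap_one]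

end Cfsg.Agent.S4421
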