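import Cfsg.Statements.S4422

set_option autoImplicit false
open Cfsg

namespace Cfsg.Agent.S4422

theorem prime_mod (q e m : ℕ) (hq : 2 ≤ q) (he : 1 ≤ e) (hm : m ∣ q ^ e - 1)
    (hcop : ∀ i : ℕ, 1 ≤ i → i < e → Nat.Coprime m (q ^ i - 1)) (p : ℕ) (hp : p.Prime) (hpm : p ∣ m) :
    p % e = 1 % e := by
  have : Fact p.Prime := ⟨hp⟩
  have hqe : ((q : ZMod p)) ^ e = 1 := by
    have h0 : ((q ^ e - 1 : ℕ) : ZMod p) = 0 := (ZMod.natCast_eq_zero_iff _ _).mpr (hpm.trans hm)
    rw [Nat.cast_sub (Nat.one_le_pow _ _ (by omega)), Nat.cast_pow, Nat.cast_one, sub_eq_zero] at h0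
    exact h0
  have hord : orderOf (q : ZMod p) = e := by
    refine (orderOf_eq_iff he).mpr ⟨hqe, fun i hi hi0 hc => ?_⟩
    have h1 : p ∣ q ^ i - 1 := by
      rw [← ZMod.natCast_eq_zero_iff, Nat.cast_sub (Nat.one_le_pow _ _ (by omega))]
      simp [hc]
    exact hp.not_dvd_one ((hcop i hi0 hi) ▸ Nat.dvd_gcd hpm h1)
  have hne : (q : ZMod p) ≠ 0 := by
    intro h; rw [h, zero_pow (by omega)] at hqe; exact zero_ne_one hqe
  have hd : e ∣ p - 1 := hord ▸ orderOf_dvd_of_pow_eq_one (ZMod.pow_card_sub_one_eq_one hne)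
  have := hp.two_le
  exact ((Nat.modEq_iff_dvd' (by omega)).mpr hd).symm

/-- Primitive divisors of `q^e - 1` are congruent to 1 modulo `e`. Let `q ≥ 2` and `e ≥ 1` be natural numbers and let `m` be a divisor of `q^e - 1` that is coprime to `q^i - 1` for every `1 ≤ i < e` (so `m` divides the primitive part of `q^e - 1`, the largest such divisor). Then `m ≡ 1 (mod e)`. -/
theorem result (q e m : ℕ) (hq : 2 ≤ q) (he : 1 ≤ e)
    (hm : m ∣ q ^ e - 1) (hcop : ∀ i : ℕ, 1 ≤ i → i < e → Nat.Coprime m (q ^ i - 1)) :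
    m % e = 1 % e := by
  rcases eq_or_ne m 1 with rfl | hm1
  · rfl
  have hm0 : m ≠ 0 := by
    rintro rfl
    have h0 : q ^ e - 1 = 0 := zero_dvd_iff.mp hm
    have : 2 ≤ q ^ e := hq.trans (Nat.le_self_pow (by omega) q)
    omega
  suffices h : ∀ n : ℕ, n ≠ 0 → n ∣ m → n % e = 1 % e from h m hm0 dvd_rfl
  intro n
  induction n using induction_on_primes with
  | zero => intro h; exact absurd rfl h
  | one => intros; rfl
  | prime_mul p a hp ih =>
    intro h0 hd
    rw [Nat.mul_mod, ih (by rintro rfl; simp at h0) ((dvd_mul_left a p).trans hd),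
      prime_mod q e m hq he hm hcop p hp ((dvd_mul_right p a).trans hd), ← Nat.mul_mod]

end Cfsg.Agent.S4422
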