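import Cfsg.Statements.S4425
import Cfsg.Agent.Lib.BlockA.Regular

set_option autoImplicit false
open Cfsg

namespace Cfsg.Agent.S4425

/-- Let χ be an irreducible character of the finite group G, p a prime, p^a the p-part of the order of G and p^b the p-part of the degree χ(1). Let χ̃ be the class function equal to p^a · χ on p-regular elements and zero on p-singular elements. Then p^(−b) · χ̃ is a generalized character of G, while p^(−(b+1)) · χ̃ is not. -/
theorem result {G : Type*} [Group G] [Finite G] (p : ℕ) [Fact p.Prime] (χ : Cfsg.IrrCharacter G) : Cfsg.IsGeneralizedCharacter G (fun x : G => if p ∣ orderOf x then (0 : ℂ) else ((p ^ ((Nat.card G).factorization p - (Cfsg.charDegree (χ : G → ℂ)).factorization p) : ℕ) : ℂ) * (χ : G → ℂ) x) ∧ ¬ Cfsg.IsGeneralizedCharacter G (fun x : G => if p ∣ orderOf x then (0 : ℂ) else ((p ^ (Nat.card G).factorization p : ℕ) : ℂ) / ((p ^ ((Cfsg.charDegree (χ : G → ℂ)).factorization p + 1) : ℕ) : ℂ) * (χ : G → ℂ) x) := by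
  classical
  have := Fintype.ofFinite G
  have hp := (Fact.out : p.Prime)
  set a := (Nat.card G).factorization p with ha
  set d := (Cfsg.charDegree (χ : G → ℂ)).factorization p with hd
  have hdeg := CfsgLib.BlockB.irr_degree_dvd_card χ
  have hda : d ≤ a := (Nat.factorization_le_iff_dvd (CfsgLib.BlockB.irr_degree_ne_zero χ)
    Nat.card_pos.ne').2 hdeg p
  have hpC : (p : ℂ) ≠ 0 := Nat.cast_ne_zero.2 hp.ne_zero
  constructor
  · have hf : Cfsg.IsClassFunction G
        (fun x : G => if p ∣ orderOf x then (0 : ℂ) else ((p ^ (a - d) : ℕ) : ℂ) * (χ : G → ℂ) x) := by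
      intro g h
      have ho : orderOf (h * g * h⁻¹) = orderOf g :=
        orderOf_injective (MulAut.conj h).toMonoidHom (MulAut.conj h).injective g
      simp only [ho, CfsgLib.Char.irr_isClassFunction χ.2 g h]
    refine CfsgLib.Char.isGeneralized_of_int hf fun ψ hψ => ?_
    set S : ℂ := ∑ g : G, CfsgLib.BlockA.regInd p g * (χ : G → ℂ) g * starRingEnd ℂ (ψ g)
      with hS
    have hSd := CfsgLib.BlockA.isIntegral_sum_regInd_div (p := p) χ ⟨ψ, hψ⟩
    rw [← hS] at hSd
    obtain ⟨z, hz⟩ := CfsgLib.Char.classInner_isGeneralized_int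
      (CfsgLib.Char.isGeneralized_mul (CfsgLib.BlockA.isGeneralized_regInd (G := G) (p := p))
        (CfsgLib.Char.isGeneralized_of_isCharacter (CfsgLib.Char.irr_isCharacter χ.2)))
      (CfsgLib.Char.isGeneralized_of_isCharacter (CfsgLib.Char.irr_isCharacter hψ))
    have hm : Nat.card G = p ^ a * ordCompl[p] (Nat.card G) :=
      (Nat.ordProj_mul_ordCompl_eq_self _ _).symm
    set m := ordCompl[p] (Nat.card G)
    obtain ⟨b, hb⟩ : p ^ d ∣ Cfsg.charDegree (χ : G → ℂ) := Nat.ordProj_dvd _ _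
    have hm0 : (m : ℂ) ≠ 0 := by
      have : m ≠ 0 := fun h => (Nat.card_pos (α := G)).ne' (by rw [hm, h, mul_zero])
      exact_mod_cast this
    have hcard : (Nat.card G : ℂ) = (p : ℂ) ^ a * m := by
      rw [← Nat.cast_pow, ← Nat.cast_mul, ← hm]
    have h1 : (m : ℂ) * z = S := by
      rw [← hz, CfsgLib.Char.classInner_def, hcard, Finset.mul_sum, Finset.mul_sum, hS]
      refine Finset.sum_congr rfl fun g _ => ?_
      simp only [Pi.mul_apply, ← ha]
      push_cast
      field_simp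
    have h2 : ((p ^ d : ℕ) : ℤ) ∣ (m : ℤ) * z := by
      have h3 : IsIntegral ℤ ((((m : ℤ) * z : ℤ) / ((p ^ d : ℕ) : ℤ) : ℚ) : ℂ) := by
        have e : ((((m : ℤ) * z : ℤ) / ((p ^ d : ℕ) : ℤ) : ℚ) : ℂ) =
            S / (χ : G → ℂ) 1 * b := by
          have hb0 : (b : ℂ) ≠ 0 := by
            exact_mod_cast (fun h => CfsgLib.BlockB.irr_degree_ne_zero χ (by rw [hb, h, mul_zero]))
          rw [← h1, ← CfsgLib.BlockB.irr_degree_cast χ, hb]
          push_cast
          field_simp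
        rw [e]
        exact hSd.mul (CfsgLib.BlockA.isIntegral_natCast' b)
      obtain ⟨k, hk⟩ := CfsgLib.Char.exists_int_of_isIntegral_rat h3
      refine ⟨k, ?_⟩
      have h4 : (((m : ℤ) * z : ℤ) : ℚ) = (k : ℚ) * ((p ^ d : ℕ) : ℤ) := by
        rw [← hk, div_mul_cancel₀]
        exact_mod_cast pow_ne_zero d hp.ne_zero
      rw [mul_comm ((p ^ d : ℕ) : ℤ) k]
      exact_mod_cast h4
    have h3 : ((p ^ d : ℕ) : ℤ) ∣ z := by
      refine Int.dvd_of_dvd_mul_right_of_gcd_one h2 ?_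
      rw [Int.gcd_natCast_natCast]
      exact Nat.Coprime.pow_left d
        (hp.coprime_iff_not_dvd.2 (Nat.not_dvd_ordCompl hp Nat.card_pos.ne'))
    obtain ⟨k, hk⟩ := h3
    refine ⟨k, ?_⟩
    have h5 : (fun x : G => if p ∣ orderOf x then (0 : ℂ)
        else ((p ^ (a - d) : ℕ) : ℂ) * (χ : G → ℂ) x) = ((p : ℂ) ^ d)⁻¹ •
        ((fun g => ((p ^ a : ℕ) : ℂ) * CfsgLib.BlockA.regInd p g) * (χ : G → ℂ)) := by
      funext x
      simp only [Pi.smul_apply, Pi.mul_apply, smul_eq_mul, CfsgLib.BlockA.regInd]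
      split_ifs
      · simp
      · rw [Nat.cast_pow, Nat.cast_pow, pow_sub₀ _ hpC hda]
        ring
    rw [h5, CfsgLib.Char.classInner_smul_left, ha, hz, hk]
    push_cast
    rw [inv_mul_cancel_left₀ (pow_ne_zero d hpC)]
  · intro hgen
    let P : Sylow p G := default
    obtain ⟨k, hk⟩ := CfsgLib.BlockA.exists_apply_one_eq_card_mul hgen (P : Subgroup G)
      (fun u hu hu1 => by simp [CfsgLib.BlockA.dvd_orderOf_of_mem P.isPGroup' hu hu1])
    rw [P.card_eq_multiplicity] at hk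
    simp only [orderOf_one, Nat.dvd_one, hp.one_lt.ne', if_false] at hk
    rw [← CfsgLib.BlockB.irr_degree_cast χ] at hk
    push_cast at hk
    rw [← ha] at hk
    have h6 : (Cfsg.charDegree (χ : G → ℂ) : ℂ) = (k : ℂ) * (p : ℂ) ^ (d + 1) := by
      have hpa : (p : ℂ) ^ a ≠ 0 := pow_ne_zero _ hpC
      field_simp at hk
      linear_combination hk
    have h7 : (Cfsg.charDegree (χ : G → ℂ) : ℤ) = k * (p : ℤ) ^ (d + 1) := by exact_mod_cast h6
    have h8 : ((p ^ (d + 1) : ℕ) : ℤ) ∣ (Cfsg.charDegree (χ : G → ℂ) : ℤ) :=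
      ⟨k, by rw [h7]; push_cast; ring⟩
    exact Nat.pow_succ_factorization_not_dvd (CfsgLib.BlockB.irr_degree_ne_zero χ) hp
      (Int.natCast_dvd_natCast.1 h8)

end Cfsg.Agent.S4425
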