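import Cfsg.Statements.S4426
import Cfsg.Agent.Lib.BlockA.RegMatrix

set_option autoImplicit false
open Cfsg

namespace Cfsg.Agent.S4426

/-- Let χ be an irreducible character in the p-block B of the finite group G (relative to a maximal ideal M of the algebraic integers containing p), let p^a be the p-part of the order of G, and let χ̃ be the class function equal to p^a · χ on p-regular elements and zero elsewhere. For ξ ∈ B the inner product [χ̃, ξ] is an integer. The following are equivalent: (a) χ has height zero in B; (b) for some ξ ∈ B the integer [χ̃, ξ] is nonzero and the exact power of p dividing it equals the exact power of p dividing ξ(1); (c) the same holds for every ξ ∈ B. -/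
theorem result {G : Type*} [Group G] [Fintype G] (p : ℕ) [Fact p.Prime] (M : Ideal Cfsg.AlgInt) (hM : Cfsg.IsPModular p M) (B : Set (Cfsg.IrrCharacter G)) (hB : Cfsg.IsPBlock M B) (χ : Cfsg.IrrCharacter G) (hχ : χ ∈ B) : (Cfsg.blockHeight p B (χ : G → ℂ) = 0 ↔ ∃ ξ ∈ B, ∃ n : ℤ, Cfsg.classInner (fun x : G => if p ∣ orderOf x then (0 : ℂ) else ((p ^ (Nat.card G).factorization p : ℕ) : ℂ) * (χ : G → ℂ) x) (ξ : G → ℂ) = (n : ℂ) ∧ n ≠ 0 ∧ padicValInt p n = (Cfsg.charDegree (ξ : G → ℂ)).factorization p) ∧ (Cfsg.blockHeight p B (χ : G → ℂ) = 0 ↔ ∀ ξ ∈ B, ∃ n : ℤ, Cfsg.classInner (fun x : G => if p ∣ orderOf x then (0 : ℂ) else ((p ^ (Nat.card G).factorization p : ℕ) : ℂ) * (χ : G → ℂ) x) (ξ : G → ℂ) = (n : ℂ) ∧ n ≠ 0 ∧ padicValInt p n = (Cfsg.charDegree (ξ : G → ℂ)).factorization p) := by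
  classical
  have := CfsgLib.Block.isPrime_of_pmodular hM
  have hp := (Fact.out : p.Prime)
  have key : ∀ ξ ∈ B, (Cfsg.blockHeight p B (χ : G → ℂ) = 0 ↔ ∃ n : ℤ,
      Cfsg.classInner (fun x : G => if p ∣ orderOf x then (0 : ℂ)
        else ((p ^ (Nat.card G).factorization p : ℕ) : ℂ) * (χ : G → ℂ) x) (ξ : G → ℂ) = (n : ℂ) ∧
      n ≠ 0 ∧ padicValInt p n = (Cfsg.charDegree (ξ : G → ℂ)).factorization p) := by
    intro ξ hξ
    set v := (Cfsg.charDegree (ξ : G → ℂ)).factorization p with hv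
    have h1 : (p : ℤ) ^ v ∣ CfsgLib.BlockA.regEntry p χ ξ := by
      have := CfsgLib.BlockA.pow_dvd_regEntry (p := p) hM χ ξ
      rw [← hv] at this
      exact_mod_cast this
    have h2 := CfsgLib.BlockA.pow_succ_dvd_regEntry_iff (p := p) hM hB hχ hξ
    rw [← hv, Nat.cast_pow] at h2
    constructor
    · intro h0
      refine ⟨_, (CfsgLib.BlockA.regEntry_cast χ ξ).symm,
        CfsgLib.BlockA.regEntry_ne_zero hM hB hχ hξ h0, ?_⟩
      have h3 : ¬ (p : ℤ) ^ (v + 1) ∣ CfsgLib.BlockA.regEntry p χ ξ := fun h => h2.1 h h0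
      rw [padicValInt_dvd_iff] at h1 h3
      push Not at h3
      rcases h1 with h1 | h1
      · exact absurd h1 h3.1
      · omega
    · rintro ⟨n, hn, hn0, hpv⟩
      have hne : n = CfsgLib.BlockA.regEntry p χ ξ := by
        have h4 := hn.symm.trans (CfsgLib.BlockA.regEntry_cast χ ξ).symm
        exact_mod_cast h4
      subst hne
      by_contra h0
      have h4 := h2.2 h0
      rw [padicValInt_dvd_iff] at h4
      rcases h4 with h4 | h4
      · exact hn0 h4
      · omega
  exact ⟨⟨fun h => ⟨χ, hχ, (key χ hχ).1 h⟩, fun ⟨ξ, hξ, h⟩ => (key ξ hξ).2 h⟩,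
    fun h ξ hξ => (key ξ hξ).1 h, fun h => (key χ hχ).2 (h χ hχ)⟩

end Cfsg.Agent.S4426
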