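import Cfsg.Statements.S4430
import Cfsg.Agent.Lib.BlockA.RegSub

set_option autoImplicit false
open Cfsg

namespace Cfsg.Agent.S4430

/-- Let H be a subgroup of the finite group G, b a block of H whose induced block B₀ in G is defined (relative to a maximal ideal M of the algebraic integers containing p), and ξ ∈ b. For a block B of G let n_B be the value at 1 of the B-part of the induced character ξ^G (a natural number: the sum over χ ∈ B of the multiplicity of χ in ξ^G times χ(1)). Then for B = B₀ the exact power of p dividing n_B equals the exact power of p dividing ξ^G(1), while for every other block B either n_B = 0 or n_B is divisible by a strictly higher power of p than ξ^G(1). -/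
theorem result {G : Type*} [Group G] [Fintype G] (p : ℕ) [Fact p.Prime] (M : Ideal Cfsg.AlgInt) (hM : Cfsg.IsPModular p M) (H : Subgroup G) [Fintype H] (b : Set (Cfsg.IrrCharacter H)) (B₀ : Set (Cfsg.IrrCharacter G)) (hind : Cfsg.IsInducedBlock M H b B₀) (ξ : Cfsg.IrrCharacter H) (hξ : ξ ∈ b) : (∃ n : ℕ, Cfsg.blockPart B₀ (Cfsg.indFun H (ξ : H → ℂ)) 1 = (n : ℂ) ∧ n ≠ 0 ∧ n.factorization p = (Cfsg.charDegree (Cfsg.indFun H (ξ : H → ℂ))).factorization p) ∧ ∀ B : Set (Cfsg.IrrCharacter G), Cfsg.IsPBlock M B → B ≠ B₀ → ∃ n : ℕ, Cfsg.blockPart B (Cfsg.indFun H (ξ : H → ℂ)) 1 = (n : ℂ) ∧ (n = 0 ∨ (Cfsg.charDegree (Cfsg.indFun H (ξ : H → ℂ))).factorization p < n.factorization p) := by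
  classical
  have := CfsgLib.Block.isPrime_of_pmodular hM
  set D := Cfsg.indFun H (ξ : H → ℂ) with hD
  have hDchar : Cfsg.IsCharacter G D :=
    CfsgLib.Char.isCharacter_indFun H (CfsgLib.Char.irr_isCharacter ξ.2)
  have hξ1 := CfsgLib.Char.irr_apply_one_ne_zero ξ.2
  have hd1 : ((Cfsg.charDegree D : ℕ) : ℂ) = (H.index : ℂ) * (ξ : H → ℂ) 1 := by
    rw [CfsgLib.Block.charDegree_cast hDchar, hD, CfsgLib.Char.indFun_apply_one]
  have hd0 : Cfsg.charDegree D ≠ 0 := by
    intro h
    rw [h, Nat.cast_zero] at hd1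
    rcases mul_eq_zero.1 hd1.symm with h' | h'
    · exact Subgroup.index_ne_zero_of_finite (by exact_mod_cast h' : H.index = 0)
    · exact hξ1 h'
  have key : ∀ B : Set (Cfsg.IrrCharacter G), Cfsg.IsPBlock M B → ∃ n : ℕ,
      Cfsg.blockPart B D 1 = (n : ℂ) ∧
      MemLocalRing M ((n : ℂ) / (Cfsg.charDegree D : ℂ)) ∧
      (MemLocalIdeal M ((n : ℂ) / (Cfsg.charDegree D : ℂ)) ↔ B ≠ B₀) := by
    intro B hB
    choose c hc using fun χ : Cfsg.IrrCharacter G =>
      CfsgLib.Char.classInner_isCharacter_nat hDchar (CfsgLib.Char.irr_isCharacter χ.2)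
    have hval : Cfsg.blockPart B D 1 =
        ((∑ χ ∈ B.toFinite.toFinset, c χ * Cfsg.charDegree (χ : G → ℂ) : ℕ) : ℂ) := by
      unfold Cfsg.blockPart
      rw [Subsingleton.elim (Fintype.ofFinite G) ‹Fintype G›,
        finsum_mem_eq_finite_toFinset_sum _ B.toFinite]
      push_cast
      refine Finset.sum_congr rfl fun χ _ => ?_
      rw [CfsgLib.Block.charDegree_cast (CfsgLib.Char.irr_isCharacter χ.2), ← hc]
    refine ⟨_, hval, ?_⟩
    rw [← hval]
    -- the block part at one is the degree times the central character of `ξ` at the idempotent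
    set X := CfsgLib.Block.omegaC (ξ : H → ℂ)
      (CfsgLib.Block.resSub H (CfsgLib.Block.blockSum B)) with hX
    have hX' : Cfsg.blockPart B D 1 = (Cfsg.charDegree D : ℂ) * X := by
      rw [hd1, hX, CfsgLib.Block.omegaC_eq, mul_assoc, mul_div_cancel₀ _ hξ1]
      unfold Cfsg.blockPart
      rw [Subsingleton.elim (Fintype.ofFinite G) ‹Fintype G›]
      simp only [CfsgLib.Block.coeff_resSub, CfsgLib.Block.blockSum, CfsgLib.Block.coeff_mkGA,
        Cfsg.blockCoeff, finsum_mem_eq_finite_toFinset_sum _ B.toFinite]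
      have hfr : ∀ χ : Cfsg.IrrCharacter G, Cfsg.classInner D (χ : G → ℂ) =
          Cfsg.classInner (ξ : H → ℂ) (fun h : H => (χ : G → ℂ) h) := fun χ =>
        CfsgLib.Char.frobenius_reciprocity H _ _ (CfsgLib.Char.irr_isClassFunction χ.2)
      simp only [hfr]
      simp only [CfsgLib.Char.classInner_def, Finset.mul_sum, Finset.sum_mul]
      rw [Finset.sum_comm]
      refine Finset.sum_congr rfl fun h _ => Finset.sum_congr rfl fun χ _ => ?_
      rw [← H.card_mul_index, Nat.cast_mul, mul_inv_rev]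
      have hi : (H.index : ℂ) ≠ 0 := Nat.cast_ne_zero.2 Subgroup.index_ne_zero_of_finite
      field_simp
    have hXR : MemLocalRing M X := CfsgLib.Block.memLocalRing_omegaC ξ.2
      (CfsgLib.Block.isLocalCentral_resSub H (CfsgLib.Block.isLocalCentral_blockSum hM hB))
    have hXval : CfsgLib.Block.redC M X = if B = B₀ then 1 else 0 := by
      obtain ⟨χ₀, hχ₀⟩ := CfsgLib.Block.isPBlock_nonempty hind.2.1
      have h1 := (CfsgLib.Block.isInducedBlock_iff H hind.1 hind.2.1 hξ hχ₀).1 hind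
        (CfsgLib.Block.blkIdem M B)
      rw [CfsgLib.Block.lam_apply ξ
        (CfsgLib.Block.isLocalCentral_resSub H (CfsgLib.Block.isLocalCentral_blockSum hM hB))
        (CfsgLib.Block.resZ H (CfsgLib.Block.blkIdem M B))
        (by rw [CfsgLib.Block.redA_resSub]; rfl), CfsgLib.Block.lam_blkIdem hM hB] at h1
      rw [h1]
      by_cases h2 : B = B₀
      · rw [if_pos h2, if_pos (h2 ▸ hχ₀)]
      · rw [if_neg h2, if_neg fun h3 => h2 (CfsgLib.Block.isPBlock_eq_of_mem hB hind.2.1 h3 hχ₀)]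
    rw [hX', mul_div_cancel_left₀ _ (Nat.cast_ne_zero.2 hd0)]
    refine ⟨hXR, ?_⟩
    rw [← CfsgLib.Block.redC_eq_zero_iff hXR, hXval]
    by_cases h2 : B = B₀ <;> simp [h2]
  refine ⟨?_, fun B hB hne => ?_⟩
  · obtain ⟨n, hn, hR, hI⟩ := key B₀ hind.2.1
    have hnI : ¬ ((p ^ ((Cfsg.charDegree D).factorization p + 1) : ℕ) : ℤ) ∣ (n : ℤ) := fun h => by
      have := (CfsgLib.BlockA.memLocalIdeal_intCast_div_iff hM (z := (n : ℤ)) hd0).2 h
      rw [Int.cast_natCast] at this
      exact hI.1 this rfl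
    have hdv := CfsgLib.BlockA.pow_dvd_of_memLocalRing hM (z := (n : ℤ)) (b := Cfsg.charDegree D)
      (by rw [Int.cast_natCast]; exact hR)
    have hn0 : n ≠ 0 := fun h => hnI (by rw [h]; exact dvd_zero _)
    rw [Int.natCast_dvd_natCast, hM.1.pow_dvd_iff_le_factorization hn0] at hdv hnI
    exact ⟨n, hn, hn0, by omega⟩
  · obtain ⟨n, hn, hR, hI⟩ := key B hB
    refine ⟨n, hn, ?_⟩
    rcases eq_or_ne n 0 with h | h
    · exact Or.inl h
    refine Or.inr ?_
    have h1 := hI.2 hne
    rw [← Int.cast_natCast (R := ℂ) n, CfsgLib.BlockA.memLocalIdeal_intCast_div_iff hM hd0,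
      Int.natCast_dvd_natCast, hM.1.pow_dvd_iff_le_factorization h] at h1
    omega

end Cfsg.Agent.S4430
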