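import Cfsg.Statements.S4431
import Cfsg.Agent.Lib.BlockA.RegSub

set_option autoImplicit false
open Cfsg

namespace Cfsg.Agent.S4431

/-- Let H be a subgroup of the finite group G and b a block of H whose induced block B₀ in G is defined (relative to a maximal ideal M of the algebraic integers containing p). Let χ be an irreducible character of G, ψ ∈ b, and let η be the class function on H equal to p^a · χ on the p-regular elements of H and zero elsewhere, p^a being the p-part of the order of H. Then (a) if χ ∉ B₀, the number [η, ψ]/ψ(1) lies in the local ideal at M; (b) if χ ∈ B₀ has height zero, it does not. -/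
theorem result {G : Type*} [Group G] [Fintype G] (p : ℕ) [Fact p.Prime] (M : Ideal Cfsg.AlgInt) (hM : Cfsg.IsPModular p M) (H : Subgroup G) [Fintype H] (b : Set (Cfsg.IrrCharacter H)) (B₀ : Set (Cfsg.IrrCharacter G)) (hind : Cfsg.IsInducedBlock M H b B₀) (χ : Cfsg.IrrCharacter G) (ψ : Cfsg.IrrCharacter H) (hψ : ψ ∈ b) : (χ ∉ B₀ → Cfsg.MemLocalIdeal M (Cfsg.classInner (fun h : H => if p ∣ orderOf h then (0 : ℂ) else ((p ^ (Nat.card H).factorization p : ℕ) : ℂ) * (χ : G → ℂ) h) (ψ : H → ℂ) / (ψ : H → ℂ) 1)) ∧ (χ ∈ B₀ → Cfsg.blockHeight p B₀ (χ : G → ℂ) = 0 → ¬ Cfsg.MemLocalIdeal M (Cfsg.classInner (fun h : H => if p ∣ orderOf h then (0 : ℂ) else ((p ^ (Nat.card H).factorization p : ℕ) : ℂ) * (χ : G → ℂ) h) (ψ : H → ℂ) / (ψ : H → ℂ) 1)) := by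
  classical
  have := CfsgLib.Block.isPrime_of_pmodular hM
  have hcong : ∀ ξ ∈ B₀, MemLocalIdeal M
      (CfsgLib.BlockA.regPair p (fun h : H => (χ : G → ℂ) h) (ψ : H → ℂ) / (ψ : H → ℂ) 1 -
        CfsgLib.BlockA.regPair p (χ : G → ℂ) (ξ : G → ℂ) / (ξ : G → ℂ) 1) := fun ξ hξ =>
    CfsgLib.BlockA.memLocalIdeal_regPair_subgroup_sub hM H hind
      (CfsgLib.Char.irr_isClassFunction χ.2) (CfsgLib.Block.memLocalRing_irr_apply χ) hψ hξ
  have hm : ¬ p ∣ ordCompl[p] (Nat.card H) := Nat.not_dvd_ordCompl hM.1 Nat.card_pos.ne'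
  have hm0 : ((ordCompl[p] (Nat.card H) : ℕ) : ℂ) ≠ 0 :=
    Nat.cast_ne_zero.2 (Nat.ordCompl_pos p Nat.card_pos.ne').ne'
  have heq : Cfsg.classInner (fun h : H => if p ∣ orderOf h then (0 : ℂ)
      else ((p ^ (Nat.card H).factorization p : ℕ) : ℂ) * (χ : G → ℂ) h) (ψ : H → ℂ) /
      (ψ : H → ℂ) 1 = ((ordCompl[p] (Nat.card H) : ℕ) : ℂ)⁻¹ *
        (CfsgLib.BlockA.regPair p (fun h : H => (χ : G → ℂ) h) (ψ : H → ℂ) / (ψ : H → ℂ) 1) := by
    rw [CfsgLib.BlockA.classInner_regInd_mul p _ (fun h : H => (χ : G → ℂ) h) ψ, mul_div_assoc]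
    congr 1
    apply eq_inv_of_mul_eq_one_left
    rw [mul_assoc, ← Nat.cast_mul, Nat.ordProj_mul_ordCompl_eq_self,
      inv_mul_cancel₀ CfsgLib.Char.natCard_ne_zero]
  rw [heq]
  constructor
  · intro hχ
    obtain ⟨ξ, hξ⟩ := CfsgLib.Block.isPBlock_nonempty hind.2.1
    have h := hcong ξ hξ
    rw [CfsgLib.BlockA.regPair_symm p (χ : G → ℂ) (ξ : G → ℂ),
      CfsgLib.BlockA.regPair_eq_zero hM hind.2.1 hξ hχ, zero_div, sub_zero] at h
    exact CfsgLib.Block.memLocalIdeal_mul_left (CfsgLib.Block.memLocalRing_inv_natCast hM hm) h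
  · intro hχ h0 h
    have h1 := CfsgLib.Block.memLocalIdeal_mul_left
      (CfsgLib.Block.memLocalRing_natCast (ordCompl[p] (Nat.card H))) h
    rw [mul_inv_cancel_left₀ hm0] at h1
    refine (CfsgLib.BlockA.not_memLocalIdeal_regPair_iff hM hind.2.1 hχ hχ).2 h0 ?_
    have h2 := CfsgLib.Block.memLocalIdeal_sub h1 (hcong χ hχ)
    rwa [sub_sub_cancel] at h2

end Cfsg.Agent.S4431
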