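import Cfsg.Statements.S4441
import Cfsg.Agent.Lib.Block.PrimeSylowPrincipal

set_option autoImplicit false
open Cfsg

namespace Cfsg.Agent.S4441

/-- Let p be an odd prime and G a finite group whose Sylow p-subgroup P has order p; let C = C_G(P), N = N_G(P), e the index of C in N and t = (p − 1)/e; fix a maximal ideal M of the algebraic integers containing p and let B₀ be the principal block. Then B₀ is the disjoint union of a set X of e characters and a set Y of t characters such that: each χ ∈ X has a sign ε_χ with χ(1) ≡ ε_χ (mod p) and χ(x y) = ε_χ for every non-identity x ∈ P and every p-regular y ∈ C; all members of Y agree on the p-regular elements of G; there is one sign ε with θ(1) ≡ ε e (mod p) for every θ ∈ Y; and for every θ ∈ Y and every p-regular g, ε θ(g) = Σ_{χ ∈ X} ε_χ χ(g). -/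
theorem result {G : Type*} [Group G] [Fintype G] (p : ℕ) [Fact p.Prime] (M : Ideal Cfsg.AlgInt) (hM : Cfsg.IsPModular p M) (hodd : p ≠ 2) (P : Sylow p G) (hP : Nat.card P = p) (e : ℕ) (he : (Subgroup.centralizer ((P : Subgroup G) : Set G)).relIndex (Subgroup.normalizer ((P : Subgroup G) : Set G)) = e) : ∃ X Y : Set (Cfsg.IrrCharacter G), Cfsg.principalBlock M G = X ∪ Y ∧ Disjoint X Y ∧ Nat.card X = e ∧ Nat.card Y = (p - 1) / e ∧ ∃ (εX : Cfsg.IrrCharacter G → ℤ) (ε : ℤ), (∀ χ ∈ X, (εX χ = 1 ∨ εX χ = -1) ∧ (Cfsg.charDegree (χ : G → ℂ) : ℤ) ≡ εX χ [ZMOD p] ∧ ∀ x : G, x ∈ (P : Subgroup G) → x ≠ 1 → ∀ y : G, y ∈ Subgroup.centralizer ((P : Subgroup G) : Set G) → ¬ p ∣ orderOf y → (χ : G → ℂ) (x * y) = (εX χ : ℂ)) ∧ (ε = 1 ∨ ε = -1) ∧ (∀ θ ∈ Y, (Cfsg.charDegree (θ : G → ℂ) : ℤ) ≡ ε * (e : ℤ) [ZMOD p]) ∧ (∀ θ ∈ Y, ∀ θ' ∈ Y, ∀ g : G, ¬ p ∣ orderOf g → (θ : G → ℂ) g = (θ' : G → ℂ) g) ∧ ∀ θ ∈ Y, ∀ g : G, ¬ p ∣ orderOf g → (ε : ℂ) * (θ : G → ℂ) g = ∑ᶠ χ ∈ X, (εX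 χ : ℂ) * (χ : G → ℂ) g := by
  classical
  have := hM.2.1.isPrime
  obtain ⟨E, a, hE, hcard, hshape, hdeg, hval, hgram, hreg⟩ :=
    CfsgLib.Block.PrimeRows.exists_rows p M hM P hP e he
  set B := Cfsg.principalBlock M G with hB
  have := Fintype.ofFinite B
  choose! c hc1 hc using hshape
  have he0 : 0 < e := hE ▸ Nat.card_pos
  have hone : (⟨fun _ => 1, CfsgLib.Char.isIrrCharacter_one⟩ : Cfsg.IrrCharacter G) ∈ B :=
    CfsgLib.Block.one_mem_principalBlock
  set one : Cfsg.IrrCharacter G := ⟨fun _ => 1, CfsgLib.Char.isIrrCharacter_one⟩ with honedef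
  obtain ⟨t, ht⟩ : ∃ t, p - 1 = t * e := ⟨Nat.card ((ZMod p)ˣ ⧸ E), by
    rw [← hE, ← Subgroup.card_eq_card_quotient_mul_card_subgroup, Nat.card_eq_fintype_card,
      ZMod.card_units]⟩
  have hdiv : (p - 1) / e = t := by rw [ht, Nat.mul_div_cancel _ he0]
  have hn : Nat.card B = e + t := by
    refine Nat.eq_of_mul_eq_mul_right he0 ?_
    rw [hcard, ht, add_mul]
  -- the constant members
  set X₀ := {χ ∈ B | ∀ v, a χ v = c χ} with hX₀
  by_cases ht1 : t = 1
  · -- all members are constant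
    have hT : p - 1 = e := by rw [ht, ht1, one_mul]
    have hEtop : E = ⊤ := Subgroup.eq_top_of_card_eq E (by
      rw [hE, Nat.card_eq_fintype_card, ZMod.card_units, hT])
    have hconst : ∀ χ ∈ B, ∀ v, a χ v = c χ := fun χ hχ v => by
      rcases hc χ hχ with h | ⟨w, hw⟩
      · exact h v
      · exact (hw v).1 (hEtop ▸ Subgroup.mem_top _)
    have hsumA : ∀ χ ∈ B, ∑ v, a χ v = (e : ℤ) * c χ := fun χ hχ => by
      rw [Finset.sum_congr rfl fun v _ => hconst χ hχ v, Finset.sum_const, Finset.card_univ,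
        ZMod.card_units, hT, nsmul_eq_mul]
    have hemod : (e : ℤ) ≡ -1 [ZMOD p] := Int.modEq_iff_dvd.2 ⟨-1, by
      have := (Fact.out : p.Prime).one_lt
      rw [← hT]; push_cast [Nat.cast_sub (show 1 ≤ p by omega)]; ring⟩
    refine ⟨B \ {one}, {one}, (Set.sdiff_union_of_subset (Set.singleton_subset_iff.2 hone)).symm,
      Set.disjoint_sdiff_left, ?_, ?_, fun χ => -c χ, c one, fun χ hχ => ⟨?_, ?_, ?_⟩, hc1 _ hone,
      fun θ hθ => ?_, fun θ hθ θ' hθ' g _ => ?_, fun θ hθ g hg => ?_⟩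
    · rw [Nat.card_coe_set_eq, Set.ncard_sdiff_singleton_of_mem hone, ← Nat.card_coe_set_eq, hn]
      omega
    · rw [hdiv, ht1]; simp
    · rcases hc1 χ hχ.1 with h | h <;> simp [h]
    · refine (hdeg χ hχ.1).trans ?_
      rw [hsumA χ hχ.1]
      simpa using hemod.mul_right (c χ)
    · intro x hx hx1 y hy hyr
      rw [hval χ hχ.1 (c χ) (hconst χ hχ.1) x hx hx1 y hy hyr]
      push_cast; ring
    · rw [Set.mem_singleton_iff.1 hθ]
      refine (hdeg one hone).trans ?_
      rw [hsumA one hone, mul_comm]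
    · rw [Set.mem_singleton_iff.1 hθ, Set.mem_singleton_iff.1 hθ']
    · rw [Set.mem_singleton_iff.1 hθ]
      have h := hreg g hg 1
      have hB' : insert one (B \ {one}) = B := by
        ext χ
        simp only [Set.mem_insert_iff, Set.mem_sdiff, Set.mem_singleton_iff]
        constructor
        · rintro (rfl | ⟨h', -⟩)
          exacts [hone, h']
        · intro h'
          rcases eq_or_ne χ one with h'' | h''
          exacts [Or.inl h'', Or.inr ⟨h', h''⟩]
      rw [← hB', finsum_mem_insert _ (fun h => h.2 rfl) (Set.toFinite _),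
        hconst one hone] at h
      rw [eq_neg_of_add_eq_zero_left h, finsum_mem_eq_finite_toFinset_sum _ (Set.toFinite _),
        finsum_mem_eq_finite_toFinset_sum _ (Set.toFinite _), ← Finset.sum_neg_distrib]
      refine Finset.sum_congr rfl fun χ hχ => ?_
      rw [hconst χ ((Set.Finite.mem_toFinset _).1 hχ).1]
      push_cast; ring
  · have heT : e < p - 1 := by
      rcases Nat.eq_zero_or_pos t with h | h
      · have := (Fact.out : p.Prime).one_lt
        rw [h, zero_mul] at ht; omega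
      · rw [ht]; exact lt_mul_of_one_lt_left he0 (by omega)
    have hnot : ∀ χ ∈ B, χ ∉ X₀ → ∃ w, ∀ v, (w⁻¹ * v ∈ E → a χ v = c χ) ∧
        (w⁻¹ * v ∉ E → a χ v = 0) := fun χ hχ h =>
      (hc χ hχ).resolve_left fun h' => h ⟨hχ, h'⟩
    -- the column norms
    have hcol : ∀ r s, ∑ χ : B, a χ r * a χ s = (if r⁻¹ * s ∈ E then (1 : ℤ) else 0) + e := fun r s => by
      have h := hgram r s
      rw [← finsum_set_coe_eq_finsum_mem, finsum_eq_sum_of_fintype] at h
      convert h using 3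
    let sX : Finset B := Finset.univ.filter fun χ => (χ : Cfsg.IrrCharacter G) ∈ X₀
    have hsq : ∀ χ : B, ∑ v, a χ v ^ 2 = if (χ : Cfsg.IrrCharacter G) ∈ X₀ then ((p - 1 : ℕ) : ℤ) else (e : ℤ) := by
      intro χ
      split_ifs with h
      · rw [Finset.sum_congr rfl (g := fun _ => (1 : ℤ)) fun v _ => by
          rw [h.2 v]; rcases hc1 _ χ.2 with h' | h' <;> simp [h']]
        rw [Finset.sum_const, Finset.card_univ, ZMod.card_units, nsmul_eq_mul, mul_one]
      · obtain ⟨w, hw⟩ := hnot _ χ.2 h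
        rw [Finset.sum_congr rfl (g := fun v => if w⁻¹ * v ∈ E then (1 : ℤ) else 0) fun v _ => by
          split_ifs with h'
          · rw [(hw v).1 h']; rcases hc1 _ χ.2 with h'' | h'' <;> simp [h'']
          · rw [(hw v).2 h']; ring,
          Fintype.sum_equiv (Equiv.mulLeft w⁻¹) (fun v => if w⁻¹ * v ∈ E then (1 : ℤ) else 0)
            (fun v => if v ∈ E then (1 : ℤ) else 0) (fun v => rfl), Finset.sum_boole,
          ← Fintype.card_subtype, ← Nat.card_eq_fintype_card]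
        exact_mod_cast hE
    have hXcard : sX.card = e := by
      have h : ∑ χ : B, ∑ v, a χ v ^ 2 = ((p - 1 : ℕ) : ℤ) * (1 + e) := by
        rw [Finset.sum_comm, Finset.sum_congr rfl (g := fun _ => (1 + e : ℤ)) fun v _ => by
          rw [Finset.sum_congr rfl fun (χ : B) _ => sq (a χ v), hcol, if_pos (by simp)]]
        rw [Finset.sum_const, Finset.card_univ, ZMod.card_units, nsmul_eq_mul]
      rw [Finset.sum_congr rfl fun χ _ => hsq χ, Finset.sum_ite, Finset.sum_const, Finset.sum_const,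
        Finset.filter_not, Finset.card_sdiff_of_subset (Finset.filter_subset _ _), Finset.card_univ,
        ← Nat.card_eq_fintype_card, hn, nsmul_eq_mul, nsmul_eq_mul] at h
      have hle : sX.card ≤ e + t := by
        rw [← hn, Nat.card_eq_fintype_card]; exact Finset.card_le_univ _
      rw [Nat.cast_sub hle] at h
      have ht' : ((p - 1 : ℕ) : ℤ) = (t : ℤ) * e := by exact_mod_cast ht
      have hne : ((p - 1 : ℕ) : ℤ) - e ≠ 0 := by omega
      have : ((sX.card : ℤ) - e) * (((p - 1 : ℕ) : ℤ) - e) = 0 := by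
        push_cast at h; linear_combination h + ht'
      rcases mul_eq_zero.1 this with h' | h'
      · omega
      · exact absurd h' hne
    -- the exceptional members meet each coset once
    have hY : ∀ r, ∃ θ : B, (θ : Cfsg.IrrCharacter G) ∉ X₀ ∧ a θ r ≠ 0 ∧
        ∀ χ : B, (χ : Cfsg.IrrCharacter G) ∉ X₀ → a χ r ≠ 0 → χ = θ := by
      intro r
      have h := hcol r r
      rw [if_pos (by simp), Finset.sum_congr rfl (g := fun χ : B => if a χ r ≠ 0 then (1 : ℤ) else 0)
        fun χ _ => by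
          rcases hc _ χ.2 with h | ⟨w, hw⟩
          · rcases hc1 _ χ.2 with h' | h' <;> simp [h r, h']
          · by_cases hm : w⁻¹ * r ∈ E
            · rcases hc1 _ χ.2 with h' | h' <;> simp [(hw r).1 hm, h']
            · simp [(hw r).2 hm],
        Finset.sum_boole] at h
      set nz := Finset.univ.filter fun χ : B => a χ r ≠ 0
      have hsub : sX ⊆ nz := fun χ hχ => by
        refine Finset.mem_filter.2 ⟨Finset.mem_univ _, ?_⟩
        rw [(Finset.mem_filter.1 hχ).2.2 r]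
        rcases hc1 _ χ.2 with h' | h' <;> simp [h']
      obtain ⟨θ, hθ⟩ := Finset.card_eq_one.1 (show (nz \ sX).card = 1 by
        rw [Finset.card_sdiff_of_subset hsub, hXcard]
        have : (nz.card : ℤ) = 1 + e := h
        omega)
      have hθ' : θ ∈ nz \ sX := hθ ▸ Finset.mem_singleton_self θ
      simp only [nz, sX, Finset.mem_sdiff, Finset.mem_filter, Finset.mem_univ, true_and] at hθ'
      refine ⟨θ, hθ'.2, hθ'.1, fun χ h1 h2 => ?_⟩
      have : χ ∈ nz \ sX := by simp [nz, sX, h1, h2]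
      rwa [hθ, Finset.mem_singleton] at this
    choose θ hθX hθ0 hθu using hY
    -- regular values
    have hregθ : ∀ r, ∀ g, ¬ p ∣ orderOf g →
        (c (θ r) : ℂ) * ((θ r : Cfsg.IrrCharacter G) : G → ℂ) g =
          ∑ᶠ χ ∈ X₀, ((-c χ : ℤ) : ℂ) * (χ : G → ℂ) g := by
      intro r g hg
      have h := hreg g hg r
      rw [← finsum_set_coe_eq_finsum_mem, finsum_eq_sum_of_fintype,
        ← Finset.sum_filter_add_sum_filter_not Finset.univ
          (fun χ : B => (χ : Cfsg.IrrCharacter G) ∈ X₀)] at h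
      have hsingle : ∑ χ ∈ (Finset.univ : Finset B).filter
            (fun χ : B => ¬ (χ : Cfsg.IrrCharacter G) ∈ X₀),
          (a χ r : ℂ) * ((χ : Cfsg.IrrCharacter G) : G → ℂ) g =
          (a (θ r) r : ℂ) * ((θ r : Cfsg.IrrCharacter G) : G → ℂ) g := by
        refine Finset.sum_eq_single (θ r) (fun χ hχ hne => ?_) (fun h' => ?_)
        · by_cases h0 : a χ r = 0
          · rw [h0, Int.cast_zero, zero_mul]
          · exact absurd (hθu r χ (Finset.mem_filter.1 hχ).2 h0) hne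
        · exact (h' (Finset.mem_filter.2 ⟨Finset.mem_univ _, hθX r⟩)).elim
      rw [hsingle] at h
      obtain ⟨w, hw⟩ := hnot _ (θ r).2 (hθX r)
      rw [(hw r).1 (by by_contra hm; exact hθ0 r ((hw r).2 hm))] at h
      rw [eq_neg_of_add_eq_zero_right h, finsum_mem_eq_finite_toFinset_sum _ (Set.toFinite X₀),
        ← Finset.sum_neg_distrib]
      refine Finset.sum_bij (fun (χ : B) _ => (χ : Cfsg.IrrCharacter G)) (fun χ hχ => ?_)
        (fun χ _ χ' _ h => Subtype.ext h) (fun χ hχ => ?_) (fun χ hχ => ?_)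
      · exact (Set.Finite.mem_toFinset _).2 (Finset.mem_filter.1 hχ).2
      · have h' := (Set.Finite.mem_toFinset _).1 hχ
        exact ⟨⟨χ, h'.1⟩, Finset.mem_filter.2 ⟨Finset.mem_univ _, h'⟩, rfl⟩
      · rw [(Finset.mem_filter.1 hχ).2.2 r]; push_cast; ring
    have hsign : ∀ r, c (θ r) = c (θ 1) := by
      intro r
      have h : (c (θ r) : ℂ) * ((θ r : Cfsg.IrrCharacter G) : G → ℂ) 1 =
          (c (θ 1) : ℂ) * ((θ 1 : Cfsg.IrrCharacter G) : G → ℂ) 1 := by
        rw [hregθ r 1 (by simpa using (Fact.out : p.Prime).not_dvd_one),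
          hregθ 1 1 (by simpa using (Fact.out : p.Prime).not_dvd_one)]
      rw [← CfsgLib.Block.charDegree_cast (CfsgLib.Char.irr_isCharacter (θ r : Cfsg.IrrCharacter G).2),
        ← CfsgLib.Block.charDegree_cast (CfsgLib.Char.irr_isCharacter (θ 1 : Cfsg.IrrCharacter G).2)] at h
      have h' : c (θ r) * (Cfsg.charDegree ((θ r : Cfsg.IrrCharacter G) : G → ℂ) : ℤ) =
          c (θ 1) * (Cfsg.charDegree ((θ 1 : Cfsg.IrrCharacter G) : G → ℂ) : ℤ) := by exact_mod_cast h
      have p1 := Nat.pos_of_ne_zero (CfsgLib.Block.charDegree_ne_zero (θ r : Cfsg.IrrCharacter G).2)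
      have p2 := Nat.pos_of_ne_zero (CfsgLib.Block.charDegree_ne_zero (θ 1 : Cfsg.IrrCharacter G).2)
      rcases hc1 _ (θ r).2 with h1 | h1 <;> rcases hc1 _ (θ 1).2 with h2 | h2 <;>
        rw [h1, h2] at h' ⊢ <;> omega
    have hexc : ∀ χ ∈ B, χ ∉ X₀ → ∃ r, (θ r : Cfsg.IrrCharacter G) = χ := by
      intro χ hχ hX
      obtain ⟨w, hw⟩ := hnot χ hχ hX
      refine ⟨w, congrArg Subtype.val (hθu w ⟨χ, hχ⟩ hX ?_).symm⟩
      rw [(hw w).1 (by simp)]
      rcases hc1 χ hχ with h | h <;> simp [h]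
    refine ⟨X₀, B \ X₀, (Set.union_sdiff_cancel fun χ hχ => hχ.1).symm, Set.disjoint_sdiff_right,
      ?_, ?_, fun χ => -c χ, c (θ 1), fun χ hχ => ⟨?_, ?_, ?_⟩, hc1 _ (θ 1).2,
      fun χ hχ => ?_, fun χ hχ χ' hχ' g hg => ?_, fun χ hχ g hg => ?_⟩
    · rw [← hXcard, ← Nat.card_eq_finsetCard]
      exact Nat.card_congr
        ⟨fun χ => ⟨⟨χ, χ.2.1⟩, Finset.mem_filter.2 ⟨Finset.mem_univ _, χ.2⟩⟩,
          fun χ => ⟨χ.1, (Finset.mem_filter.1 χ.2).2⟩, fun χ => rfl, fun χ => rfl⟩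
    · rw [Nat.card_coe_set_eq, Set.ncard_sdiff (fun χ hχ => hχ.1), ← Nat.card_coe_set_eq,
        ← Nat.card_coe_set_eq, hn, hdiv,
        show Nat.card X₀ = e by
          rw [← hXcard, ← Nat.card_eq_finsetCard]
          exact Nat.card_congr
            ⟨fun χ => ⟨⟨χ, χ.2.1⟩, Finset.mem_filter.2 ⟨Finset.mem_univ _, χ.2⟩⟩,
              fun χ => ⟨χ.1, (Finset.mem_filter.1 χ.2).2⟩, fun χ => rfl, fun χ => rfl⟩]
      omega
    · rcases hc1 χ hχ.1 with h | h <;> simp [h]
    · refine (hdeg χ hχ.1).trans ?_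
      rw [Finset.sum_congr rfl fun v _ => hχ.2 v, Finset.sum_const, Finset.card_univ, ZMod.card_units,
        nsmul_eq_mul]
      have hTm : ((p - 1 : ℕ) : ℤ) ≡ -1 [ZMOD p] := Int.modEq_iff_dvd.2 ⟨-1, by
        push_cast [Nat.cast_sub (Fact.out : p.Prime).one_le]; ring⟩
      simpa using hTm.mul_right (c χ)
    · intro x hx hx1 y hy hyr
      rw [hval χ hχ.1 (c χ) hχ.2 x hx hx1 y hy hyr]
      push_cast; ring
    · obtain ⟨r, rfl⟩ := hexc χ hχ.1 hχ.2
      obtain ⟨w, hw⟩ := hnot _ (θ r).2 (hθX r)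
      refine (hdeg _ hχ.1).trans ?_
      rw [Finset.sum_congr rfl (g := fun v => if w⁻¹ * v ∈ E then c (θ r) else 0) fun v _ => by
          split_ifs with h'
          · exact (hw v).1 h'
          · exact (hw v).2 h',
        Fintype.sum_equiv (Equiv.mulLeft w⁻¹) (fun v => if w⁻¹ * v ∈ E then c (θ r) else 0)
          (fun v => if v ∈ E then c (θ r) else 0) (fun v => rfl),
        Finset.sum_ite, Finset.sum_const, Finset.sum_const_zero, add_zero, ← Fintype.card_subtype,
        ← Nat.card_eq_fintype_card, nsmul_eq_mul, hsign, mul_comm]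
      rw [show Nat.card {v // v ∈ E} = e from hE]
    · obtain ⟨r, rfl⟩ := hexc χ hχ.1 hχ.2
      obtain ⟨r', rfl⟩ := hexc χ' hχ'.1 hχ'.2
      have h := (hregθ r g hg).trans (hregθ r' g hg).symm
      rw [hsign r, hsign r'] at h
      refine mul_left_cancel₀ ?_ h
      rcases hc1 _ (θ 1).2 with h' | h' <;> simp [h']
    · obtain ⟨r, rfl⟩ := hexc χ hχ.1 hχ.2
      rw [← hsign r]
      exact hregθ r g hg

end Cfsg.Agent.S4441
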