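import Cfsg.Statements.S4442
import Cfsg.Agent.Lib.Block.DefectOneMain

set_option autoImplicit false
open Cfsg

namespace Cfsg.Agent.S4442

open CfsgLib.Block in
theorem families_aux {G : Type*} [Group G] [Fintype G] {p : ℕ} [hp : Fact p.Prime]
    {M : Ideal Cfsg.AlgInt} [M.IsPrime] (hM : Cfsg.IsPModular p M) {x : G} (hxo : orderOf x = p)
    (hsq : ¬ p ^ 2 ∣ Nat.card G) (B : Set (Cfsg.IrrCharacter G)) {H : Subgroup G}
    (hH : H = Subgroup.centralizer ({x} : Set G)) (b : Set (Cfsg.IrrCharacter H))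
    (hind : Cfsg.IsInducedBlock M H b B) (θ : Cfsg.IrrCharacter H) (hθ : θ ∈ b)
    (hθP : ∀ y : H, (y : G) ∈ Subgroup.zpowers x → (θ : H → ℂ) y = (θ : H → ℂ) 1)
    (T : Subgroup G)
    (hT : ∀ g : G, g ∈ T ↔ (g ∈ Subgroup.normalizer ((Subgroup.zpowers x : Subgroup G) : Set G) ∧
      ∀ c c' : H, (c' : G) = g * c * g⁻¹ → (θ : H → ℂ) c' = (θ : H → ℂ) c))
    (e f : ℕ) (he : H.relIndex T = e)
    (hf : H.relIndex (Subgroup.normalizer ((Subgroup.zpowers x : Subgroup G) : Set G)) = f) :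
    e ∣ p - 1 ∧ Nat.card B = e + (p - 1) / e ∧ ∃ X Y : Set (Cfsg.IrrCharacter G), B = X ∪ Y ∧
      Disjoint X Y ∧ Nat.card X = e ∧ Nat.card Y = (p - 1) / e ∧
      (∀ χ ∈ X, (Cfsg.charDegree (χ : G → ℂ) : ℤ) ≡
          ((f / e * Cfsg.charDegree (θ : H → ℂ) : ℕ) : ℤ) [ZMOD p] ∨
        (Cfsg.charDegree (χ : G → ℂ) : ℤ) ≡
          -((f / e * Cfsg.charDegree (θ : H → ℂ) : ℕ) : ℤ) [ZMOD p]) ∧
      (∃ ε : ℤ, (ε = 1 ∨ ε = -1) ∧ ∀ ψ ∈ Y, (Cfsg.charDegree (ψ : G → ℂ) : ℤ) ≡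
        ε * ((f * Cfsg.charDegree (θ : H → ℂ) : ℕ) : ℤ) [ZMOD p]) ∧
      ∀ ψ ∈ Y, ∀ ψ' ∈ Y, ∀ g : G, ¬ p ∣ orderOf g → (ψ : G → ℂ) g = (ψ' : G → ℂ) g := by
  classical
  subst hH
  obtain ⟨φ, h1, h2, h3, -⟩ := DefectOne.exists_param hM hxo hsq hind.1
  set O : OneBlock G p M := ⟨hM, x, hxo, hsq, b, hind.1, φ, h1, h2, h3⟩ with hO
  have hθ0 : θ = O.φ 0 := O.eq_phi0_of_trivial hθ (hθP O.z (Subgroup.mem_zpowers x))
  have hTeq : T = O.T := by
    ext n
    rw [hT]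
    constructor
    · rintro ⟨hn, h⟩
      refine ⟨hn, Subtype.ext (funext fun c => ?_)⟩
      change (O.φ 0 : _ → ℂ) (normConjEquiv _ n (O.N_le hn) c) = _
      rw [← hθ0]
      exact h c _ rfl
    · rintro ⟨hn, h⟩
      refine ⟨hn, fun c c' hc => ?_⟩
      have hc' : c' = normConjEquiv _ n (O.N_le hn) c := Subtype.ext (by rw [hc]; rfl)
      rw [hc', hθ0, ← OneBlock.twist_apply O n hn, h]
  have hE : Nat.card O.expSubgroup = e := by rw [O.natCard_expSubgroup, ← hTeq]; exact he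
  have hmul := O.natCard_mul_index
  rw [hE] at hmul
  have hdiv : e ∣ p - 1 := ⟨_, hmul.symm⟩
  have hepos : 0 < e := hE ▸ Nat.card_pos
  have hidx : O.expSubgroup.index = (p - 1) / e := by
    rw [← hmul, Nat.mul_div_cancel_left _ hepos]
  have hfk : f = e * Subgroup.relIndex O.T O.N := by
    rw [← hf, ← hE, O.natCard_expSubgroup, O.relIndex_mul]
    rfl
  obtain ⟨X, Y, δ, w, hXY, hdisj, hXc, hYc, hδ, hX, hY, hsurj, -, hsame, -, hreg⟩ :=
    O.exists_families hind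
  have hBc := (O.natCard_eq_and_extremal hind).1
  refine ⟨hdiv, by rw [hBc, hE, hidx], X, Y, hXY, hdisj, hXc.trans hE, hYc.trans hidx, ?_, ?_,
    hreg⟩
  · intro χ hχ
    obtain ⟨m, hm⟩ := O.charDegree_eq hind (show χ ∈ B from hXY ▸ Or.inl hχ)
    have hsum : ∑ v, O.row χ v = ((p : ℤ) - 1) * δ χ := by
      simp only [hX χ hχ, Finset.sum_const, Finset.card_univ, ZMod.card_units, nsmul_eq_mul]
      rw [Nat.cast_sub hp.out.one_le]
      rfl
    rw [hsum, ← hθ0] at hm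
    rw [hfk, Nat.mul_div_cancel_left _ hepos]
    set k : ℤ := ((Subgroup.relIndex O.T O.N * Cfsg.charDegree (θ : Subgroup.centralizer ({x} : Set G) → ℂ) : ℕ) : ℤ)
    rcases hδ χ (show χ ∈ B from hXY ▸ Or.inl hχ) with h | h <;> rw [h] at hm
    · right
      exact Int.modEq_iff_dvd.2 ⟨-m - k, by rw [hm]; ring⟩
    · left
      exact Int.modEq_iff_dvd.2 ⟨-m + k, by rw [hm]; ring⟩
  · obtain ⟨θ₀, hθ₀, -⟩ := hsurj 1
    refine ⟨δ θ₀, hδ θ₀ (show θ₀ ∈ B from hXY ▸ Or.inr hθ₀), fun ξ hξ => ?_⟩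
    obtain ⟨m, hm⟩ := O.charDegree_eq hind (show ξ ∈ B from hXY ▸ Or.inr hξ)
    rw [O.sum_indicator (w ξ) (δ ξ) _ (hY ξ hξ), hE, hsame ξ hξ θ₀ hθ₀, ← hθ0] at hm
    rw [hfk]
    refine Int.modEq_iff_dvd.2 ⟨-m, ?_⟩
    rw [hm]
    push_cast
    ring

/-- Blocks of defect one. Let p be an odd prime and G a finite group whose Sylow p-subgroup P has order p; let C = C_G(P) and N = N_G(P), and fix a maximal ideal M of the algebraic integers containing p. Let B be a block of G with defect group P, b a block of C inducing B, and θ the member of b having P in its kernel (there is exactly one). Let T be the stabilizer of θ in N (the elements g ∈ N with θ(g c g⁻¹) = θ(c) for all c ∈ C) and e the index of C in T. Then e divides p − 1 and B contains exactly e + (p − 1)/e irreducible characters. Moreover B is the disjoint union of a set X of e characters and a set Y of (p − 1)/e characters such that, with f the index of C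 in N: every χ ∈ X has χ(1) ≡ ±(f/e)·θ(1) (mod p), there is one sign ε with ψ(1) ≡ ε f θ(1) (mod p) for all ψ ∈ Y, and all members of Y agree on the p-regular elements of G. -/
theorem result {G : Type*} [Group G] [Finite G] (p : ℕ) [Fact p.Prime] (M : Ideal Cfsg.AlgInt) (hM : Cfsg.IsPModular p M) (hodd : p ≠ 2) (P : Sylow p G) (hP : Nat.card P = p) (B : Set (Cfsg.IrrCharacter G)) (hB : Cfsg.IsPBlock M B) (hBP : Cfsg.IsDefectGroup p M B P) (b : Set (Cfsg.IrrCharacter (Subgroup.centralizer ((P : Subgroup G) : Set G)))) (hind : Cfsg.IsInducedBlock M (Subgroup.centralizer ((P : Subgroup G) : Set G)) b B) (θ : Cfsg.IrrCharacter (Subgroup.centralizer ((P : Subgroup G) : Set G))) (hθ : θ ∈ b) (hθP : ∀ x : Subgroup.centralizer ((P : Subgroup G) : Set G), (x : G) ∈ (P : Subgroup G) → (θ : Subgroup.centralizer ((P : Subgroup G) : Set G) → ℂ) x = (θ : Subgroup.centralizer ((P : Subgroup G) : Set G) → ℂ) 1) (T : Subgroup G)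 (hT : ∀ g : G, g ∈ T ↔ (g ∈ Subgroup.normalizer ((P : Subgroup G) : Set G) ∧ ∀ c c' : Subgroup.centralizer ((P : Subgroup G) : Set G), (c' : G) = g * c * g⁻¹ → (θ : Subgroup.centralizer ((P : Subgroup G) : Set G) → ℂ) c' = (θ : Subgroup.centralizer ((P : Subgroup G) : Set G) → ℂ) c)) (e f : ℕ) (he : (Subgroup.centralizer ((P : Subgroup G) : Set G)).relIndex T = e) (hf : (Subgroup.centralizer ((P : Subgroup G) : Set G)).relIndex (Subgroup.normalizer ((P : Subgroup G) : Set G)) = f) : e ∣ p - 1 ∧ Nat.card B = e + (p - 1) / e ∧ ∃ X Y : Set (Cfsg.IrrCharacter G), B = X ∪ Y ∧ Disjoint X Y ∧ Nat.card X = e ∧ Nat.card Y = (p - 1) / e ∧ (∀ χ ∈ X, (Cfsg.charDegree (χ : G → ℂ) : ℤ) ≡ ((f / e * Cfsg.charDegree (θ : Subgroup.centralizer ((P : Subgroup G) : Set G) → ℂ) : ℕ) : ℤ) [ZMOD p] ∨ (Cfsg.charDegree (χ : G → ℂ) : ℤ) ≡ -((f / e * Cfsg.charDegree (θ : Subgroup.centralizer ((P : Subgroup G) : Set G) → ℂ) : ℕ) : ℤ) [ZMOD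 p]) ∧ (∃ ε : ℤ, (ε = 1 ∨ ε = -1) ∧ ∀ ψ ∈ Y, (Cfsg.charDegree (ψ : G → ℂ) : ℤ) ≡ ε * ((f * Cfsg.charDegree (θ : Subgroup.centralizer ((P : Subgroup G) : Set G) → ℂ) : ℕ) : ℤ) [ZMOD p]) ∧ ∀ ψ ∈ Y, ∀ ψ' ∈ Y, ∀ g : G, ¬ p ∣ orderOf g → (ψ : G → ℂ) g = (ψ' : G → ℂ) g := by
  classical
  have := Fintype.ofFinite G
  have := hM.2.1.isPrime
  have hp : p.Prime := Fact.out
  have hfac : (Nat.card G).factorization p = 1 := by
    have h := P.card_eq_multiplicity
    rw [hP] at h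
    exact (Nat.pow_eq_self_iff hp.one_lt).1 h.symm
  have hsq : ¬ p ^ 2 ∣ Nat.card G := fun h => by
    have := (hp.pow_dvd_iff_le_factorization Nat.card_pos.ne').1 h
    omega
  obtain ⟨⟨x, hx⟩, hxo⟩ := exists_prime_orderOf_dvd_card' (G := (P : Subgroup G)) p (by rw [hP])
  rw [Subgroup.orderOf_mk] at hxo
  have hPx : (P : Subgroup G) = Subgroup.zpowers x := (Subgroup.eq_of_le_of_card_ge
    (Subgroup.zpowers_le.2 hx) (by rw [Nat.card_zpowers, hxo, hP])).symm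
  have hH : Subgroup.centralizer ((P : Subgroup G) : Set G) =
      Subgroup.centralizer ({x} : Set G) := by
    rw [hPx]
    exact CfsgLib.Block.DefectOne.centralizer_zpowers
  have hN : Subgroup.normalizer ((P : Subgroup G) : Set G) =
      Subgroup.normalizer ((Subgroup.zpowers x : Subgroup G) : Set G) := by rw [hPx]
  refine families_aux hM hxo hsq B hH b hind θ hθ
    (fun y hy => hθP y ((SetLike.ext_iff.1 hPx (y : G)).2 hy)) T (fun g => by rw [hT, hN]) e f he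
    (by rw [← hN]; exact hf)

end Cfsg.Agent.S4442
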