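import Cfsg.Statements.S4444
import Cfsg.Agent.Lib.BlockA.Glauberman

set_option autoImplicit false
open Cfsg

namespace Cfsg.Agent.S4444

/-- The Glauberman correspondence for a p-group of operators. Inside a finite group Γ let S normalise G with the orders of G and S coprime, S a p-group, and let C = G ⊓ C(S) be the fixed points. Call an irreducible character χ of G S-invariant when χ(s g s⁻¹) = χ(g) for s ∈ S, g ∈ G. Then: (i) for every S-invariant χ there is exactly one irreducible character β of C whose multiplicity [χ_C, β] in the restriction of χ is not divisible by p; (ii) that multiplicity is ≡ 1 or ≡ −1 (mod p); (iii) distinct S-invariant χ give distinct β; (iv) every irreducible character of C arises in this way. So χ ↦ β is a bijection from the S-invariant irreducible characters of G onto the irreducible characters of C. -/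
theorem result {Γ : Type*} [Group Γ] [Fintype Γ] (G S : Subgroup Γ) [Fintype G] (hnorm : ∀ s ∈ S, ∀ g ∈ G, s * g * s⁻¹ ∈ G) (hcop : (Nat.card G).Coprime (Nat.card S)) (p : ℕ) (hp : p.Prime) (hS : IsPGroup p S) (C : Subgroup Γ) [Fintype C] (hC : C = G ⊓ Subgroup.centralizer (S : Set Γ)) (hCG : C ≤ G) : (∀ χ : Cfsg.IrrCharacter G, (∀ s ∈ S, ∀ g g' : G, (g' : Γ) = s * g * s⁻¹ → (χ : G → ℂ) g' = (χ : G → ℂ) g) → ∃! β : Cfsg.IrrCharacter C, ∃ m : ℕ, Cfsg.classInner (fun c : C => (χ : G → ℂ) ⟨c, hCG c.2⟩) (β : C → ℂ) = (m : ℂ) ∧ ¬ p ∣ m) ∧ (∀ χ : Cfsg.IrrCharacter G, (∀ s ∈ S, ∀ g g' : G, (g' : Γ) = s * g * s⁻¹ → (χ : G → ℂ) g' = (χ : G → ℂ) g) → ∀ β : Cfsg.IrrCharacter C, ∀ m : ℕ, Cfsg.classInner (fun c : C => (χ : G → ℂ) ⟨c, hCG c.2⟩) (β : C → ℂ) = (m : ℂ) → ¬ p ∣ m → ((m : ℤ) ≡ 1 [ZMOD p] ∨ (m : ℤ) ≡ -1 [ZMOD p])) ∧ (∀ χ χ' : Cfsg.IrrCharacter G, (∀ s ∈ S, ∀ g g' : G, (g' : Γ) = s * g * s⁻¹ → (χ : G → ℂ) g' = (χ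 : G → ℂ) g) → (∀ s ∈ S, ∀ g g' : G, (g' : Γ) = s * g * s⁻¹ → (χ' : G → ℂ) g' = (χ' : G → ℂ) g) → ∀ β : Cfsg.IrrCharacter C, ∀ m m' : ℕ, Cfsg.classInner (fun c : C => (χ : G → ℂ) ⟨c, hCG c.2⟩) (β : C → ℂ) = (m : ℂ) → ¬ p ∣ m → Cfsg.classInner (fun c : C => (χ' : G → ℂ) ⟨c, hCG c.2⟩) (β : C → ℂ) = (m' : ℂ) → ¬ p ∣ m' → χ = χ') ∧ (∀ β : Cfsg.IrrCharacter C, ∃ χ : Cfsg.IrrCharacter G, (∀ s ∈ S, ∀ g g' : G, (g' : Γ) = s * g * s⁻¹ → (χ : G → ℂ) g' = (χ : G → ℂ) g) ∧ ∃ m : ℕ, Cfsg.classInner (fun c : C => (χ : G → ℂ) ⟨c, hCG c.2⟩) (β : C → ℂ) = (m : ℂ) ∧ ¬ p ∣ m) := by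
  letI : MulDistribMulAction S G :=
    { smul := fun s g => ⟨(s : Γ) * g * (s : Γ)⁻¹, hnorm s s.2 g g.2⟩
      one_smul := fun g => Subtype.ext (show ((1 : S) : Γ) * g * ((1 : S) : Γ)⁻¹ = g by simp)
      mul_smul := fun a b g => Subtype.ext (show ((a * b : S) : Γ) * g * ((a * b : S) : Γ)⁻¹ =
        (a : Γ) * ((b : Γ) * g * (b : Γ)⁻¹) * (a : Γ)⁻¹ by simp [mul_assoc])
      smul_one := fun a => Subtype.ext (show (a : Γ) * ((1 : G) : Γ) * (a : Γ)⁻¹ = 1 by simp)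
      smul_mul := fun a g h => Subtype.ext (show (a : Γ) * ((g * h : G) : Γ) * (a : Γ)⁻¹ =
        ((a : Γ) * g * (a : Γ)⁻¹) * ((a : Γ) * h * (a : Γ)⁻¹) by simp [mul_assoc]) }
  have hinv : ∀ χ : G → ℂ, CfsgLib.BlockA.IsInv S χ ↔
      ∀ s ∈ S, ∀ g g' : G, (g' : Γ) = s * g * s⁻¹ → χ g' = χ g := by
    intro χ
    constructor
    · intro h s hs g g' he
      have hg : g' = (⟨s, hs⟩ : S) • g := Subtype.ext he
      rw [hg, h]
    · intro h s g
      exact h s s.2 g (s • g) rfl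
  haveI : Fact p.Prime := ⟨hp⟩
  let ι : C →* G := Subgroup.inclusion hCG
  have hι : Function.Injective ι := Subgroup.inclusion_injective hCG
  have hrange : ∀ g : G, g ∈ ι.range ↔ ∀ s : S, s • g = g := by
    intro g
    constructor
    · rintro ⟨c, rfl⟩ s
      have hc : (c : Γ) ∈ Subgroup.centralizer (S : Set Γ) :=
        (hC ▸ c.2 : (c : Γ) ∈ G ⊓ Subgroup.centralizer (S : Set Γ)).2
      refine Subtype.ext ?_
      show (s : Γ) * c * (s : Γ)⁻¹ = c
      rw [Subgroup.mem_centralizer_iff.1 hc s s.2, mul_inv_cancel_right]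
    · intro h
      have hg : (g : Γ) ∈ C := by
        rw [hC]
        refine ⟨g.2, Subgroup.mem_centralizer_iff.2 fun s hs => ?_⟩
        have := congrArg Subtype.val (h ⟨s, hs⟩)
        exact mul_inv_eq_iff_eq_mul.1 this
      exact ⟨⟨g, hg⟩, Subtype.ext rfl⟩
  simp only [← hinv]
  by_cases hpG : p ∣ Nat.card G
  · have hS1 : ∀ (s : S) (g : G), s • g = g := by
      haveI : Subsingleton S := by
        rw [← not_nontrivial_iff_subsingleton]
        intro hnt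
        obtain ⟨k, hk, hc⟩ := hS.nontrivial_iff_card.1 hnt
        have h1 := Nat.dvd_gcd hpG (hc ▸ dvd_pow_self p hk.ne')
        rw [hcop.gcd_eq_one] at h1
        exact hp.one_lt.ne' (Nat.dvd_one.1 h1)
      intro s g
      rw [Subsingleton.elim s 1, one_smul]
    have hsurj : Function.Surjective ι := fun g => (hrange g).2 fun s => hS1 s g
    let e : C ≃* G := MulEquiv.ofBijective ι ⟨hι, hsurj⟩
    have hirr : ∀ χ : Cfsg.IrrCharacter G, Cfsg.IsIrrCharacter C (fun c => (χ : G → ℂ) (ι c)) :=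
      fun χ => CfsgLib.Char.isIrrCharacter_comp_surjective χ.2 ι hsurj
    have hkey : ∀ (χ : Cfsg.IrrCharacter G) (β : Cfsg.IrrCharacter C) (m : ℕ),
        Cfsg.classInner (fun c : C => (χ : G → ℂ) (ι c)) (β : C → ℂ) = (m : ℂ) → ¬ p ∣ m →
          (fun c : C => (χ : G → ℂ) (ι c)) = (β : C → ℂ) ∧ m = 1 := by
      intro χ β m hm hnd
      by_cases h : (fun c : C => (χ : G → ℂ) (ι c)) = (β : C → ℂ)
      · refine ⟨h, ?_⟩
        rw [h, CfsgLib.Char.irr_classInner_self β.2] at hm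
        exact_mod_cast hm.symm
      · rw [CfsgLib.Char.irr_classInner_ne (hirr χ) β.2 h] at hm
        exact absurd (by exact_mod_cast hm.symm) (fun h0 : m = 0 => hnd (h0 ▸ dvd_zero p))
    refine ⟨fun χ _ => ?_, fun χ _ β m hm hnd => ?_, fun χ χ' _ _ β m m' hm h1 hm' h2 => ?_, fun β => ?_⟩
    · refine ⟨⟨_, hirr χ⟩, ⟨1, ?_, hp.not_dvd_one⟩, ?_⟩
      · rw [Nat.cast_one]; exact CfsgLib.Char.irr_classInner_self (hirr χ)
      · rintro β ⟨m, hm, hnd⟩
        exact Subtype.ext (hkey χ β m hm hnd).1.symm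
    · exact Or.inl (by rw [(hkey χ β m hm hnd).2]; rfl)
    · have := (hkey χ β m hm h1).1.trans (hkey χ' β m' hm' h2).1.symm
      exact Subtype.ext (funext fun g => by obtain ⟨c, rfl⟩ := hsurj g; exact congrFun this c)
    · refine ⟨⟨fun g => (β : C → ℂ) (e.symm g), CfsgLib.Char.isIrrCharacter_comp_surjective β.2
        e.symm.toMonoidHom e.symm.surjective⟩, fun s g => by rw [hS1], 1, ?_, hp.not_dvd_one⟩
      have : (fun c : C => (β : C → ℂ) (e.symm (ι c))) = (β : C → ℂ) :=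
        funext fun c => congrArg (β : C → ℂ) (e.symm_apply_apply c)
      rw [Nat.cast_one]
      show Cfsg.classInner (fun c : C => (β : C → ℂ) (e.symm (ι c))) _ = _
      rw [this]
      exact CfsgLib.Char.irr_classInner_self β.2
  · exact CfsgLib.BlockA.glauberman_pGroup ι hι hrange hS hpG

end Cfsg.Agent.S4444
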