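import Cfsg.Statements.S4445
import Cfsg.Agent.Lib.BlockA.GlaubermanSolvable

set_option autoImplicit false
open Cfsg

namespace Cfsg.Agent.S4445

/-- Inside a finite group Γ let the solvable subgroup S normalise G with the orders of G and S coprime. Then the number of S-invariant irreducible characters of G (χ(s g s⁻¹) = χ(g) for all s ∈ S, g ∈ G) equals the number of conjugacy classes of G mapped to themselves by conjugation by every element of S. -/
theorem result {Γ : Type*} [Group Γ] [Fintype Γ] (G S : Subgroup Γ) [Fintype G] (hnorm : ∀ s ∈ S, ∀ g ∈ G, s * g * s⁻¹ ∈ G) (hcop : (Nat.card G).Coprime (Nat.card S)) (hsolv : Group.IsSolvable S) : Nat.card {χ : Cfsg.IrrCharacter G // (∀ s ∈ S, ∀ g g' : G, (g' : Γ) = s * g * s⁻¹ → (χ : G → ℂ) g' = (χ : G → ℂ) g)} = Nat.card {K : ConjClasses G // ∀ s ∈ S, ∀ g g' : G, (g' : Γ) = s * g * s⁻¹ → ConjClasses.mk g = K → ConjClasses.mk g' = K} := by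
  letI : MulDistribMulAction S G :=
    { smul := fun s g => ⟨(s : Γ) * g * (s : Γ)⁻¹, hnorm s s.2 g g.2⟩
      one_smul := fun g => Subtype.ext (show ((1 : S) : Γ) * g * ((1 : S) : Γ)⁻¹ = g by simp)
      mul_smul := fun a b g => Subtype.ext (show ((a * b : S) : Γ) * g * ((a * b : S) : Γ)⁻¹ =
        (a : Γ) * ((b : Γ) * g * (b : Γ)⁻¹) * (a : Γ)⁻¹ by simp [mul_assoc])
      smul_one := fun a => Subtype.ext (show (a : Γ) * ((1 : G) : Γ) * (a : Γ)⁻¹ = 1 by simp)
      smul_mul := fun a g h => Subtype.ext (show (a : Γ) * ((g * h : G) : Γ) * (a : Γ)⁻¹ =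
        ((a : Γ) * g * (a : Γ)⁻¹) * ((a : Γ) * h * (a : Γ)⁻¹) by simp [mul_assoc]) }
  have hinv : ∀ χ : G → ℂ, CfsgLib.BlockA.IsInv S χ ↔
      ∀ s ∈ S, ∀ g g' : G, (g' : Γ) = s * g * s⁻¹ → χ g' = χ g := by
    intro χ
    constructor
    · intro h s hs g g' he
      have hg : g' = (⟨s, hs⟩ : S) • g := Subtype.ext he
      rw [hg, h]
    · intro h s g
      exact h s s.2 g (s • g) rfl
  have hK : ∀ K : ConjClasses G, CfsgLib.BlockA.IsFixedClass S K ↔
      ∀ s ∈ S, ∀ g g' : G, (g' : Γ) = s * g * s⁻¹ → ConjClasses.mk g = K → ConjClasses.mk g' = K := by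
    intro K
    constructor
    · intro h s hs g g' he hg
      have hg' : g' = (⟨s, hs⟩ : S) • g := Subtype.ext he
      rw [hg']
      exact h _ g hg
    · intro h s g hg
      exact h s s.2 g (s • g) rfl hg
  rw [← Nat.card_congr (Equiv.subtypeEquivRight fun χ : Cfsg.IrrCharacter G => hinv (χ : G → ℂ)),
    ← Nat.card_congr (Equiv.subtypeEquivRight hK)]
  exact CfsgLib.BlockA.natCard_inv_eq_natCard_fixedClass _ _ _ rfl hsolv hcop

end Cfsg.Agent.S4445
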