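import Cfsg.Statements.S4446
import Cfsg.Agent.Lib.Clifford.CyclicGlauberman

set_option autoImplicit false
open Cfsg

namespace Cfsg.Agent.S4446

/-- Let the finite group Γ be generated by a normal subgroup G and a cyclic subgroup S of coprime orders, C = G ⊓ C(S), and let χ be an S-invariant irreducible character of G with canonical extension χ̂ to Γ (the extension whose determinantal order is coprime to the order of S). Then there are exactly one irreducible character β of C and one sign ε such that χ̂(c s) = ε β(c) for every c ∈ C and every generator s of S; this β is a constituent of the restriction of χ to C; distinct S-invariant χ give distinct β; and every irreducible character of C arises in this way. -/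
theorem result {Γ : Type*} [Group Γ] [Fintype Γ] (G S : Subgroup Γ) [Fintype G] (hnorm : ∀ s ∈ S, ∀ g ∈ G, s * g * s⁻¹ ∈ G) (hcop : (Nat.card G).Coprime (Nat.card S)) (htop : G ⊔ S = ⊤) (hcyc : IsCyclic S) (C : Subgroup Γ) [Fintype C] (hC : C = G ⊓ Subgroup.centralizer (S : Set Γ)) (hCG : C ≤ G) : (∀ (χ : Cfsg.IrrCharacter G) (χh : Cfsg.IrrCharacter Γ), (∀ s ∈ S, ∀ g g' : G, (g' : Γ) = s * g * s⁻¹ → (χ : G → ℂ) g' = (χ : G → ℂ) g) → (∀ g : G, (χh : Γ → ℂ) g = (χ : G → ℂ) g) → (Cfsg.detOrder (χh : Γ → ℂ)).Coprime (Nat.card S) → (∃! βε : Cfsg.IrrCharacter C × ℤ, (βε.2 = 1 ∨ βε.2 = -1) ∧ ∀ c : C, ∀ s : Γ, Subgroup.zpowers s = S → (χh : Γ → ℂ) ((c : Γ) * s) = (βε.2 : ℂ) * (βε.1 : C → ℂ) c) ∧ ∀ β : Cfsg.IrrCharacter C, ∀ ε : ℤ, (ε = 1 ∨ ε = -1) → (∀ c : C, ∀ s : Γ, Subgroup.zpowers s = S → (χh : Γ → ℂ) ((c : Γ) * s) = (ε : ℂ) * (β : C → ℂ) c) → Cfsg.classInner (fun c : C => (χ : G → ℂ) ⟨c,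 hCG c.2⟩) (β : C → ℂ) ≠ 0) ∧ (∀ (χ χ' : Cfsg.IrrCharacter G) (χh χh' : Cfsg.IrrCharacter Γ), (∀ s ∈ S, ∀ g g' : G, (g' : Γ) = s * g * s⁻¹ → (χ : G → ℂ) g' = (χ : G → ℂ) g) → (∀ s ∈ S, ∀ g g' : G, (g' : Γ) = s * g * s⁻¹ → (χ' : G → ℂ) g' = (χ' : G → ℂ) g) → (∀ g : G, (χh : Γ → ℂ) g = (χ : G → ℂ) g) → (∀ g : G, (χh' : Γ → ℂ) g = (χ' : G → ℂ) g) → (Cfsg.detOrder (χh : Γ → ℂ)).Coprime (Nat.card S) → (Cfsg.detOrder (χh' : Γ → ℂ)).Coprime (Nat.card S) → ∀ β : Cfsg.IrrCharacter C, ∀ ε ε' : ℤ, (ε = 1 ∨ ε = -1) → (ε' = 1 ∨ ε' = -1) → (∀ c : C, ∀ s : Γ, Subgroup.zpowers s = S → (χh : Γ → ℂ) ((c : Γ) * s) = (ε : ℂ) * (β : C → ℂ) c) → (∀ c : C, ∀ s : Γ, Subgroup.zpowers s = S → (χh' : Γ → ℂ) ((c : Γ) * s) = (ε' : ℂ) * (β : C → ℂ) c) → χ = χ') ∧ (∀ β : Cfsg.IrrCharacter C, ∃ (χ : Cfsg.IrrCharacter G) (χh : Cfsg.IrrCharacter Γ) (ε : ℤ), (∀ s ∈ S, ∀ g g' : G, (g' : Γ) = s * g * s⁻¹ → (χ : G → ℂ) g' =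 (χ : G → ℂ) g) ∧ (∀ g : G, (χh : Γ → ℂ) g = (χ : G → ℂ) g) ∧ (Cfsg.detOrder (χh : Γ → ℂ)).Coprime (Nat.card S) ∧ (ε = 1 ∨ ε = -1) ∧ ∀ c : C, ∀ s : Γ, Subgroup.zpowers s = S → (χh : Γ → ℂ) ((c : Γ) * s) = (ε : ℂ) * (β : C → ℂ) c) := by
  classical
  haveI hGn : G.Normal := by
    have h1 : G ⊔ S ≤ Subgroup.normalizer (G : Set Γ) := by
      refine sup_le Subgroup.le_normalizer fun s hs => ?_
      rw [Subgroup.mem_normalizer_iff]
      intro n
      refine ⟨fun h => hnorm s hs n h, fun h => ?_⟩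
      have := hnorm s⁻¹ (inv_mem hs) _ h
      simpa [mul_assoc] using this
    rw [htop, top_le_iff] at h1
    exact Subgroup.normalizer_eq_top_iff.mp h1
  obtain ⟨⟨s₀, hs₀⟩, hgen⟩ := hcyc.exists_generator
  have hS : Subgroup.zpowers s₀ = S := le_antisymm (Subgroup.zpowers_le.mpr hs₀) fun x hx => by
    obtain ⟨i, hi⟩ := hgen ⟨x, hx⟩
    exact ⟨i, congrArg Subtype.val hi⟩
  have hmem := fun {c : Γ} => CfsgLib.Clifford.CyclicGlauberman.mem_C G S C hC s₀ hS (c := c)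
  -- all generators give the same values
  have hmove : ∀ (χ : Cfsg.IrrCharacter G) (χh : Cfsg.IrrCharacter Γ),
      (∀ g : G, (χh : Γ → ℂ) g = (χ : G → ℂ) g) →
      (Cfsg.detOrder (χh : Γ → ℂ)).Coprime (Nat.card S) →
      ∀ (c : C) (s : Γ), Subgroup.zpowers s = S →
        (χh : Γ → ℂ) ((c : Γ) * s) = (χh : Γ → ℂ) ((c : Γ) * s₀) := by
    intro χ χh hr hd c s hs
    have hres : Cfsg.IsIrrCharacter G fun a : G => (χh : Γ → ℂ) a := by rw [funext hr]; exact χ.2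
    obtain ⟨i, hi⟩ : s ∈ Submonoid.powers s₀ := by
      rw [mem_powers_iff_mem_zpowers, hS, ← hs]
      exact Subgroup.mem_zpowers s
    simp only at hi
    have hcard : orderOf s₀ = Nat.card S := by rw [← Nat.card_zpowers, hS]
    have hk : i.Coprime (Nat.card S) := by
      have h1 : orderOf s = Nat.card S := by rw [← Nat.card_zpowers, hs]
      rw [← hi, orderOf_pow, hcard] at h1
      have h2 : 0 < Nat.card S := Nat.card_pos
      have h3 := (Nat.div_eq_self.mp h1).resolve_left h2.ne'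
      exact Nat.Coprime.symm h3
    rw [← hi]
    exact CfsgLib.Clifford.CyclicGlauberman.apply_pow G S hcop htop χh.2 hres hd hk
      ⟨c, (hmem.mp c.2).1⟩ ⟨s₀, hs₀⟩ (hmem.mp c.2).2
  have hbase : ∀ (χ : Cfsg.IrrCharacter G) (χh : Cfsg.IrrCharacter Γ),
      (∀ g : G, (χh : Γ → ℂ) g = (χ : G → ℂ) g) →
      (Cfsg.detOrder (χh : Γ → ℂ)).Coprime (Nat.card S) →
      ∃ β : Cfsg.IrrCharacter C, ∃ ε : ℤ, (ε = 1 ∨ ε = -1) ∧
        (∀ c : C, (χh : Γ → ℂ) ((c : Γ) * s₀) = (ε : ℂ) * (β : C → ℂ) c) ∧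
        Cfsg.classInner (fun c : C => (χ : G → ℂ) ⟨c, hCG c.2⟩) (β : C → ℂ) ≠ 0 := by
    intro χ χh hr hd
    obtain ⟨β, ε, hε, hv, hne⟩ := CfsgLib.Clifford.CyclicGlauberman.coset_irr G S hcop htop C hC s₀
      hS χh.2 (by rw [funext hr]; exact χ.2) hd
    refine ⟨β, ε, hε, hv, ?_⟩
    rw [show (fun c : C => (χ : G → ℂ) ⟨c, hCG c.2⟩) = fun c : C => (χh : Γ → ℂ) (c : Γ) from
      funext fun c => (hr ⟨c, hCG c.2⟩).symm]
    exact hne
  have huniq : ∀ (β β' : Cfsg.IrrCharacter C) (ε ε' : ℤ), (ε = 1 ∨ ε = -1) → (ε' = 1 ∨ ε' = -1) →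
      (∀ c, (ε : ℂ) * (β : C → ℂ) c = (ε' : ℂ) * (β' : C → ℂ) c) → β = β' ∧ ε = ε' := by
    intro β β' ε ε' hε hε' h
    obtain ⟨d, hd⟩ := CfsgLib.Char.char_apply_one_eq_nat (CfsgLib.Char.irr_isCharacter β.2)
    obtain ⟨d', hd'⟩ := CfsgLib.Char.char_apply_one_eq_nat (CfsgLib.Char.irr_isCharacter β'.2)
    have h0 : d ≠ 0 := fun h => CfsgLib.Char.irr_apply_one_ne_zero β.2 (by rw [hd, h, Nat.cast_zero])
    have h0' : d' ≠ 0 := fun h =>
      CfsgLib.Char.irr_apply_one_ne_zero β'.2 (by rw [hd', h, Nat.cast_zero])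
    have h1 := h 1
    rw [hd, hd'] at h1
    have h2 : ε * (d : ℤ) = ε' * (d' : ℤ) := by exact_mod_cast h1
    have he : ε = ε' := by rcases hε with rfl | rfl <;> rcases hε' with rfl | rfl <;> omega
    subst he
    have hne : (ε : ℂ) ≠ 0 := by rcases hε with rfl | rfl <;> simp
    exact ⟨Subtype.ext (funext fun c => mul_left_cancel₀ hne (h c)), rfl⟩
  refine ⟨fun χ χh hinv hr hd => ?_, fun χ χ' χh χh' hinv hinv' hr hr' hd hd' β ε ε' hε hε' hv hv' => ?_,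
    fun β => ?_⟩
  · obtain ⟨β, ε, hε, hv, hne⟩ := hbase χ χh hr hd
    refine ⟨⟨(β, ε), ⟨hε, fun c s hs => (hmove χ χh hr hd c s hs).trans (hv c)⟩, ?_⟩,
      fun β' ε' hε' hv' => ?_⟩
    · rintro ⟨β', ε'⟩ ⟨hε', hv'⟩
      obtain ⟨rfl, rfl⟩ := huniq β' β ε' ε hε' hε fun c => (hv' c s₀ hS).symm.trans (hv c)
      rfl
    · obtain ⟨rfl, -⟩ := huniq β' β ε' ε hε' hε fun c => (hv' c s₀ hS).symm.trans (hv c)
      exact hne
  · by_contra hne
    have hres : Cfsg.IsIrrCharacter G fun a : G => (χh : Γ → ℂ) a := by rw [funext hr]; exact χ.2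
    have hres' : Cfsg.IsIrrCharacter G fun a : G => (χh' : Γ → ℂ) a := by rw [funext hr']; exact χ'.2
    have h := (CfsgLib.Clifford.CyclicGlauberman.classInner_coset G S hcop htop C hC s₀ hS χh.2 χh'.2
      hres hres').2 (by rw [funext hr, funext hr']; exact fun h => hne (Subtype.ext h))
    rw [show (fun c : C => (χh : Γ → ℂ) ((c : Γ) * s₀)) = (ε : ℂ) • (β : C → ℂ) from
        funext fun c => hv c s₀ hS,
      show (fun c : C => (χh' : Γ → ℂ) ((c : Γ) * s₀)) = (ε' : ℂ) • (β : C → ℂ) from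
        funext fun c => hv' c s₀ hS, CfsgLib.Char.classInner_smul_left,
      CfsgLib.Char.classInner_smul_right, CfsgLib.Char.irr_classInner_self β.2] at h
    rcases hε with rfl | rfl <;> rcases hε' with rfl | rfl <;> simp at h
  · obtain ⟨χ, χh, hinv, hr, hd, hne⟩ :=
      CfsgLib.Clifford.CyclicGlauberman.exists_of_fixed G S hcop htop C hC s₀ hS β
    obtain ⟨β', ε, hε, hv, -⟩ := hbase χ χh hr hd
    have hβ : β' = β := by
      by_contra hb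
      apply hne
      rw [show (fun c : C => (χh : Γ → ℂ) ((c : Γ) * s₀)) = (ε : ℂ) • (β' : C → ℂ) from funext hv,
        CfsgLib.Char.classInner_smul_left,
        CfsgLib.Char.irr_classInner_ne β'.2 β.2 (fun h => hb (Subtype.ext h)), mul_zero]
    subst hβ
    exact ⟨χ, χh, ε, hinv, hr, hd, hε, fun c s hs => (hmove χ χh hr hd c s hs).trans (hv c)⟩

end Cfsg.Agent.S4446
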