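import Cfsg.Statements.S4447
import Cfsg.Agent.Lib.BlockA.CliffordBasic
import Cfsg.Agent.Lib.Coprime.Action

set_option autoImplicit false
open Cfsg

namespace Cfsg.Agent.S4447

/-- Inside a finite group Γ let S normalise G and also normalise a normal subgroup N of G, with the order of S coprime to the index of N in G and S or G/N solvable. Then for every S-invariant irreducible character χ of G, the restriction of χ to N has an S-invariant irreducible constituent. -/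
theorem result {Γ : Type*} [Group Γ] [Fintype Γ] (G S N : Subgroup Γ) [Fintype G] [Fintype N] (hnorm : ∀ s ∈ S, ∀ g ∈ G, s * g * s⁻¹ ∈ G) (hNG : N ≤ G) [hNn : (N.subgroupOf G).Normal] (hNS : ∀ s ∈ S, ∀ n ∈ N, s * n * s⁻¹ ∈ N) (hcop : (N.relIndex G).Coprime (Nat.card S)) (hsolv : Group.IsSolvable S ∨ Group.IsSolvable (G ⧸ N.subgroupOf G)) (χ : Cfsg.IrrCharacter G) (hinv : (∀ s ∈ S, ∀ g g' : G, (g' : Γ) = s * g * s⁻¹ → (χ : G → ℂ) g' = (χ : G → ℂ) g)) : ∃ θ : Cfsg.IrrCharacter N, Cfsg.classInner (fun n : N => (χ : G → ℂ) ⟨n, hNG n.2⟩) (θ : N → ℂ) ≠ 0 ∧ (∀ s ∈ S, ∀ g g' : N, (g' : Γ) = s * g * s⁻¹ → (θ : N → ℂ) g' = (θ : N → ℂ) g) := by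
  classical
  let X : Subgroup Γ := Subgroup.normalizer (N : Set Γ) ⊓ Subgroup.normalizer (G : Set Γ)
  have hGN : G ≤ Subgroup.normalizer (N : Set Γ) :=
    (Subgroup.normal_subgroupOf_iff_le_normalizer hNG).1 hNn
  have hSN : S ≤ Subgroup.normalizer (N : Set Γ) := by
    intro s hs
    rw [Subgroup.mem_normalizer_iff]
    intro n
    refine ⟨fun h => hNS s hs n h, fun h => ?_⟩
    have := hNS s⁻¹ (inv_mem hs) _ h
    simpa [mul_assoc] using this
  have hSG : S ≤ Subgroup.normalizer (G : Set Γ) := by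
    intro s hs
    rw [Subgroup.mem_normalizer_iff]
    intro n
    refine ⟨fun h => hnorm s hs n h, fun h => ?_⟩
    have := hnorm s⁻¹ (inv_mem hs) _ h
    simpa [mul_assoc] using this
  have hGX : G ≤ X := le_inf hGN Subgroup.le_normalizer
  have hSX : S ≤ X := le_inf hSN hSG
  let φ : X →* MulAut N :=
    (Subgroup.normalizerMonoidHom N).comp (Subgroup.inclusion inf_le_left)
  have hφ : ∀ (x : X) (n : N), ((φ x n : N) : Γ) = (x : Γ) * n * (x : Γ)⁻¹ := fun x n => rfl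
  let conjIrr : X → Cfsg.IrrCharacter N → Cfsg.IrrCharacter N := fun x θ =>
    ⟨fun n => (θ : N → ℂ) (φ x⁻¹ n), CfsgLib.Char.isIrrCharacter_comp_surjective θ.2
      (φ x⁻¹).toMonoidHom (φ x⁻¹).surjective⟩
  let P : X →* Equiv.Perm (Cfsg.IrrCharacter N) :=
    { toFun := fun x =>
        { toFun := conjIrr x
          invFun := conjIrr x⁻¹
          left_inv := fun θ => Subtype.ext (funext fun n => by simp [conjIrr, map_inv])
          right_inv := fun θ => Subtype.ext (funext fun n => by simp [conjIrr, map_inv]) }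
      map_one' := Equiv.ext fun θ => Subtype.ext (funext fun n => by simp [conjIrr]; rfl)
      map_mul' := fun a b => Equiv.ext fun θ => Subtype.ext (funext fun n => by
        simp [conjIrr, mul_inv_rev]; rfl) }
  have hP : ∀ (x : X) (θ : Cfsg.IrrCharacter N) (n : N),
      ((P x θ : Cfsg.IrrCharacter N) : N → ℂ) n = (θ : N → ℂ) (φ x⁻¹ n) := fun _ _ _ => rfl
  let A : Subgroup (Equiv.Perm (Cfsg.IrrCharacter N)) := (S.subgroupOf X).map P
  let Gb : Subgroup (Equiv.Perm (Cfsg.IrrCharacter N)) := (G.subgroupOf X).map P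
  -- the two images
  let PG : G →* Equiv.Perm (Cfsg.IrrCharacter N) := P.comp (Subgroup.inclusion hGX)
  let PS : S →* Equiv.Perm (Cfsg.IrrCharacter N) := P.comp (Subgroup.inclusion hSX)
  have hGb : Gb = PG.range := by
    ext y
    simp only [Gb, PG, Subgroup.mem_map, MonoidHom.mem_range, Subgroup.mem_subgroupOf]
    exact ⟨fun ⟨x, hx, hy⟩ => ⟨⟨x, hx⟩, hy⟩, fun ⟨g, hg⟩ => ⟨_, g.2, hg⟩⟩
  have hA : A = PS.range := by
    ext y
    simp only [A, PS, Subgroup.mem_map, MonoidHom.mem_range, Subgroup.mem_subgroupOf]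
    exact ⟨fun ⟨x, hx, hy⟩ => ⟨⟨x, hx⟩, hy⟩, fun ⟨g, hg⟩ => ⟨_, g.2, hg⟩⟩
  have hker : N.subgroupOf G ≤ PG.ker := by
    intro g hg
    rw [MonoidHom.mem_ker]
    refine Equiv.ext fun θ => Subtype.ext (funext fun n => ?_)
    show ((P (Subgroup.inclusion hGX g) θ : Cfsg.IrrCharacter N) : N → ℂ) n = (θ : N → ℂ) n
    rw [hP]
    have e : φ (Subgroup.inclusion hGX g)⁻¹ n =
        (⟨(g : Γ), hg⟩ : N)⁻¹ * n * (⟨(g : Γ), hg⟩ : N)⁻¹⁻¹ :=
      Subtype.ext (by rw [hφ]; simp)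
    rw [e, CfsgLib.Char.irr_isClassFunction θ.2]
  let L : (G ⧸ N.subgroupOf G) →* Equiv.Perm (Cfsg.IrrCharacter N) :=
    QuotientGroup.lift _ PG hker
  have hL : L.range = Gb := by
    rw [hGb]
    ext y
    constructor
    · rintro ⟨z, rfl⟩
      obtain ⟨g, rfl⟩ := QuotientGroup.mk_surjective z
      exact ⟨g, rfl⟩
    · rintro ⟨g, rfl⟩
      exact ⟨(g : G ⧸ N.subgroupOf G), rfl⟩
  have hcop' : (Nat.card A).Coprime (Nat.card Gb) := by
    refine (Nat.Coprime.coprime_dvd_left ?_ (Nat.Coprime.coprime_dvd_right ?_ hcop.symm))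
    · rw [hA]; exact Subgroup.card_range_dvd PS
    · rw [← hL, Subgroup.relIndex, Subgroup.index_eq_card]; exact Subgroup.card_range_dvd L
  have hsolv' : Group.IsSolvable A ∨ Group.IsSolvable Gb := by
    refine hsolv.imp (fun h => ?_) (fun h => ?_)
    · haveI := h; rw [hA]; exact Group.isSolvable_of_surjective PS.rangeRestrict_surjective
    · haveI := h; rw [← hL]; exact Group.isSolvable_of_surjective L.rangeRestrict_surjective
  have hnormA : A ≤ Subgroup.normalizer (Gb : Set (Equiv.Perm (Cfsg.IrrCharacter N))) := by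
    refine (Subgroup.map_mono ?_).trans (Subgroup.le_normalizer_map P)
    intro x hx
    rw [Subgroup.mem_normalizer_iff]
    intro y
    simp only [Subgroup.mem_subgroupOf, Subgroup.coe_mul, Subgroup.coe_inv]
    exact Subgroup.mem_normalizer_iff.1 (hSG hx) (y : Γ)
  -- the set of constituents
  let C : Set (Cfsg.IrrCharacter N) :=
    {θ | Cfsg.classInner (fun n : N => (χ : G → ℂ) ⟨n, hNG n.2⟩) (θ : N → ℂ) ≠ 0}
  let e : N.subgroupOf G ≃* N := Subgroup.subgroupOfEquivOfLe hNG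
  have he : ∀ θ : Cfsg.IrrCharacter N, Cfsg.classInner
      (fun m : N.subgroupOf G => (χ : G → ℂ) (m : G)) (fun m => (θ : N → ℂ) (e m)) =
      Cfsg.classInner (fun n : N => (χ : G → ℂ) ⟨n, hNG n.2⟩) (θ : N → ℂ) := by
    intro θ
    simp only [CfsgLib.Char.classInner_def, Nat.card_congr e.toEquiv]
    congr 1
    exact Fintype.sum_equiv e.toEquiv _ _ fun m => rfl
  have hne : C.Nonempty := by
    obtain ⟨θ, hθ⟩ := CfsgLib.BlockA.exists_constituent (N.subgroupOf G) χ.2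
    refine ⟨⟨fun n => (θ : N.subgroupOf G → ℂ) (e.symm n),
      CfsgLib.Char.isIrrCharacter_comp_surjective θ.2 e.symm.toMonoidHom e.symm.surjective⟩, ?_⟩
    show _ ≠ (0 : ℂ)
    rw [← he]
    simpa using hθ
  have hmap : ∀ x : X, (∀ g g' : G, (g' : Γ) = (x : Γ) * g * (x : Γ)⁻¹ →
      (χ : G → ℂ) g' = (χ : G → ℂ) g) → ∀ θ ∈ C, P x θ ∈ C := by
    intro x hx θ hθ
    have heq : Cfsg.classInner (fun n : N => (χ : G → ℂ) ⟨n, hNG n.2⟩)
        ((P x θ : Cfsg.IrrCharacter N) : N → ℂ) =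
        Cfsg.classInner (fun n : N => (χ : G → ℂ) ⟨n, hNG n.2⟩) (θ : N → ℂ) := by
      simp only [CfsgLib.Char.classInner_def]
      congr 1
      refine Fintype.sum_equiv (φ x⁻¹).toEquiv _ _ fun n => ?_
      rw [hP]
      have := hx ⟨(φ x⁻¹ n : Γ), hNG (φ x⁻¹ n).2⟩ ⟨n, hNG n.2⟩
        (by show (n : Γ) = _; rw [hφ]; simp [mul_assoc])
      rw [this]
      rfl
    show _ ≠ (0 : ℂ)
    rw [heq]
    exact hθ
  have hGinv : ∀ (g : G) (a b : G), (b : Γ) = (g : Γ) * a * (g : Γ)⁻¹ →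
      (χ : G → ℂ) b = (χ : G → ℂ) a := by
    intro g a b hb
    have : b = g * a * g⁻¹ := Subtype.ext hb
    rw [this, CfsgLib.Char.irr_isClassFunction χ.2]
  obtain ⟨θ, hθC, hfix⟩ := CfsgLib.Coprime.exists_fixed_point hnormA hcop' hsolv' C hne
    (by
      rintro a ha θ hθ
      obtain ⟨x, hx, rfl⟩ := Subgroup.mem_map.1 ha
      exact hmap x (hinv (x : Γ) (Subgroup.mem_subgroupOf.1 hx)) θ hθ)
    (by
      rintro a ha θ hθ
      obtain ⟨x, hx, rfl⟩ := Subgroup.mem_map.1 ha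
      exact hmap x (hGinv ⟨x, Subgroup.mem_subgroupOf.1 hx⟩) θ hθ)
    (by
      intro θ hθ η hη
      obtain ⟨g, hg⟩ := CfsgLib.BlockA.exists_conj_of_constituents (N.subgroupOf G) χ.2
        (CfsgLib.Char.isIrrCharacter_comp_surjective η.2 e.toMonoidHom e.surjective)
        (CfsgLib.Char.isIrrCharacter_comp_surjective θ.2 e.toMonoidHom e.surjective)
        (fun h => hη ((he η).symm.trans h)) (fun h => hθ ((he θ).symm.trans h))
      refine ⟨P (Subgroup.inclusion hGX g⁻¹), Subgroup.mem_map.2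
        ⟨_, (Subgroup.mem_subgroupOf.2 (g⁻¹).2), rfl⟩, ?_⟩
      refine Subtype.ext (funext fun n => ?_)
      show ((P (Subgroup.inclusion hGX g⁻¹) θ : Cfsg.IrrCharacter N) : N → ℂ) n = _
      rw [hP]
      have h1 : (η : N → ℂ) (e (e.symm n)) = (θ : N → ℂ) (e (MulAut.conjNormal g (e.symm n))) :=
        congrFun hg (e.symm n)
      rw [MulEquiv.apply_symm_apply] at h1
      rw [h1]
      refine congrArg (θ : N → ℂ) (Subtype.ext ?_)
      rw [hφ]
      simp [e, MulAut.conjNormal_apply])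
  refine ⟨θ, hθC, fun s hs g g' hg => ?_⟩
  have h1 := hfix _ (Subgroup.mem_map.2 ⟨⟨s, hSX hs⟩, hs, rfl⟩)
  have h2 := congrArg (fun t : Cfsg.IrrCharacter N => (t : N → ℂ) g') h1
  simp only [Equiv.Perm.smul_def, hP] at h2
  rw [← h2]
  refine congrArg (θ : N → ℂ) (Subtype.ext ?_)
  rw [hφ]
  simp [hg, mul_assoc]

end Cfsg.Agent.S4447
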