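import Cfsg.Statements.S4448
import Cfsg.Agent.Lib.Clifford.InvariantSolvable

set_option autoImplicit false
open Cfsg

namespace Cfsg.Agent.S4448

/-- Inside a finite group Γ let S normalise G and also normalise a normal subgroup N of G, with the order of S coprime to the index of N in G and G/N solvable. Then for every S-invariant irreducible character ϑ of N, the induced character ϑ^G has an S-invariant irreducible constituent. -/
theorem result {Γ : Type*} [Group Γ] [Fintype Γ] (G S N : Subgroup Γ) [Fintype G] [Fintype N] (hnorm : ∀ s ∈ S, ∀ g ∈ G, s * g * s⁻¹ ∈ G) (hNG : N ≤ G) [hNn : (N.subgroupOf G).Normal] (hNS : ∀ s ∈ S, ∀ n ∈ N, s * n * s⁻¹ ∈ N) (hcop : (N.relIndex G).Coprime (Nat.card S)) (hsolv : Group.IsSolvable (G ⧸ N.subgroupOf G)) (θ : Cfsg.IrrCharacter N) (hinv : (∀ s ∈ S, ∀ g g' : N, (g' : Γ) = s * g * s⁻¹ → (θ : N → ℂ) g' = (θ : N → ℂ) g)) : ∃ χ : Cfsg.IrrCharacter G, Cfsg.classInner (fun n : N =>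 (χ : G → ℂ) ⟨n, hNG n.2⟩) (θ : N → ℂ) ≠ 0 ∧ (∀ s ∈ S, ∀ g g' : G, (g' : Γ) = s * g * s⁻¹ → (χ : G → ℂ) g' = (χ : G → ℂ) g) := by
  letI : MulDistribMulAction S G :=
    { smul := fun s g => ⟨(s : Γ) * g * (s : Γ)⁻¹, hnorm s s.2 g g.2⟩
      one_smul := fun g => Subtype.ext (show ((1 : S) : Γ) * g * ((1 : S) : Γ)⁻¹ = g by simp)
      mul_smul := fun a b g => Subtype.ext (show ((a * b : S) : Γ) * g * ((a * b : S) : Γ)⁻¹ =
        (a : Γ) * ((b : Γ) * g * (b : Γ)⁻¹) * (a : Γ)⁻¹ by simp [mul_assoc])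
      smul_one := fun a => Subtype.ext (show (a : Γ) * ((1 : G) : Γ) * (a : Γ)⁻¹ = 1 by simp)
      smul_mul := fun a g h => Subtype.ext (show (a : Γ) * ((g * h : G) : Γ) * (a : Γ)⁻¹ =
        ((a : Γ) * g * (a : Γ)⁻¹) * ((a : Γ) * h * (a : Γ)⁻¹) by simp [mul_assoc]) }
  classical
  let N' := N.subgroupOf G
  haveI : N'.Normal := hNn
  let e : N' ≃* N := Subgroup.subgroupOfEquivOfLe hNG
  let θ₀ : Cfsg.IrrCharacter N' :=
    ⟨fun x => (θ : N → ℂ) (e x),
      CfsgLib.Char.isIrrCharacter_comp_surjective θ.2 e.toMonoidHom e.surjective⟩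
  obtain ⟨χ, hχ, hne⟩ := CfsgLib.Clifford.InvariantSolvable.exists_invariant _ G S rfl N' hsolv hcop
    (fun s g hg => Subgroup.mem_subgroupOf.mpr (hNS s s.2 g (Subgroup.mem_subgroupOf.mp hg)))
    θ₀ (fun s g g' h => hinv s s.2 (e g) (e g') (congrArg Subtype.val h :))
  refine ⟨χ, fun h => hne ?_, fun s hs g g' he => ?_⟩
  · rw [← h, CfsgLib.Char.classInner_def, CfsgLib.Char.classInner_def, Nat.card_congr e.toEquiv]
    congr 1
    exact Fintype.sum_equiv e.toEquiv _ _ fun x => rfl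
  · rw [show g' = (⟨s, hs⟩ : S) • g from Subtype.ext he]
    exact hχ _ g

end Cfsg.Agent.S4448
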