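import Cfsg.Statements.S4451
import Cfsg.Agent.Lib.Clifford.CyclicSigns

set_option autoImplicit false
open Cfsg

namespace Cfsg.Agent.S4451

open CfsgLib CfsgLib.Clifford
open scoped ComplexConjugate

universe u

theorem main {Γ : Type u} [Group Γ] [Fintype Γ] (G S : Subgroup Γ) [Fintype G] [G.Normal]
    (hcop : (Nat.card G).Coprime (Nat.card S)) (htop : G ⊔ S = ⊤) (C : Subgroup Γ) [Fintype C]
    (hC : C = G ⊓ Subgroup.centralizer (S : Set Γ)) (s : Γ) (hs : Subgroup.zpowers s = S)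
    (hfpf : ∀ x ∈ S, x ≠ 1 → G ⊓ Subgroup.centralizer ({x} : Set Γ) = C)
    (X : Γ → ℂ) (hX : Cfsg.IsIrrCharacter Γ X) (hXr : Cfsg.IsIrrCharacter G fun a : G => X a)
    (hd : (Cfsg.detOrder X).Coprime (Nat.card S)) (β : Cfsg.IrrCharacter C) (ε₀ : ℤ)
    (hε₀ : ε₀ = 1 ∨ ε₀ = -1) (hβ : ∀ c : C, X ((c : Γ) * s) = (ε₀ : ℂ) * (β : C → ℂ) c) :
    ∃ ε : ℤ, (ε = 1 ∨ ε = -1) ∧ (∃ μ : S → ℂ, Cfsg.IsCharacter S μ ∧ μ 1 = 1 ∧
        (∀ x : S, μ x * μ x = 1) ∧
        ∀ c : C, ∀ x : S, x ≠ 1 → X ((c : Γ) * x) = (ε : ℂ) * (β : C → ℂ) c * μ x) ∧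
      ∃ ϑ : C → ℂ, Cfsg.IsCharacter C ϑ ∧
        ∀ c : C, X (c : Γ) = (Nat.card S : ℂ) * ϑ c + (ε : ℂ) * (β : C → ℂ) c := by
  classical
  have := Fintype.ofFinite S
  have := Fintype.ofFinite (Cfsg.IrrCharacter C)
  have hsS : s ∈ S := hs ▸ Subgroup.mem_zpowers s
  have hmem := fun {c : Γ} => CyclicGlauberman.mem_C G S C hC s hs (c := c)
  have hgenS : ∀ x : S, x ∈ Subgroup.zpowers (⟨s, hsS⟩ : S) := by
    rintro ⟨x, hx⟩
    rw [← hs] at hx
    obtain ⟨i, hi⟩ := hx
    exact ⟨i, Subtype.ext hi⟩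
  have hcomm : ∀ (c : C) (x : S), Commute (c : Γ) (x : Γ) := by
    rintro c ⟨x, hx⟩
    rw [← hs] at hx
    obtain ⟨i, rfl⟩ := hx
    exact (hmem.mp c.2).2.zpow_right i
  let j : C × S →* Γ :=
    { toFun := fun p => (p.1 : Γ) * (p.2 : Γ)
      map_one' := by simp
      map_mul' := fun p q => by
        show ((p.1 * q.1 : C) : Γ) * ((p.2 * q.2 : S) : Γ) = _
        rw [Subgroup.coe_mul, Subgroup.coe_mul, mul_assoc, mul_assoc, ← mul_assoc (q.1 : Γ),
          (hcomm q.1 p.2).eq, mul_assoc (p.2 : Γ)] }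
  have hcoef : ∀ β : Cfsg.IrrCharacter C, ∃ ψ : S → ℂ, Cfsg.IsCharacter S ψ ∧
      (∀ x : S, ψ x = Cfsg.classInner (fun c : C => X ((c : Γ) * (x : Γ))) (β : C → ℂ)) ∧
      ∀ (k : ℕ) (x : S), k.Coprime (Nat.card S) → ψ (x ^ k) = ψ x := by
    intro β
    refine ⟨fun x => Cfsg.classInner (fun c : C => X ((c : Γ) * (x : Γ))) (β : C → ℂ), ?_,
      fun _ => rfl, fun k x hk => ?_⟩
    · refine Char.isCharacter_of_nat (fun g h => ?_) fun lam hlam => ?_
      · show Cfsg.classInner (fun c : C => X ((c : Γ) * ((h * g * h⁻¹ : S) : Γ))) (β : C → ℂ) = _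
        congr 1
        funext c
        rw [← Char.irr_isClassFunction hX ((c : Γ) * g) (h : Γ)]
        congr 1
        simp only [Subgroup.coe_mul, InvMemClass.coe_inv, ← mul_assoc]
        rw [(hcomm c h).eq]
      · have hfst := Char.isIrrCharacter_comp_surjective β.2 (MonoidHom.fst C S)
          fun c => ⟨(c, 1), rfl⟩
        have hlam1 : lam 1 = 1 := Char.irr_degree_one_of_comm (fun a b => by
          obtain ⟨a, ha⟩ := a
          obtain ⟨b, hb⟩ := b
          rw [← hs] at ha hb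
          obtain ⟨i, rfl⟩ := ha
          obtain ⟨i', rfl⟩ := hb
          exact Subtype.ext (Commute.zpow_zpow_self s i i').eq) hlam
        obtain ⟨l, hl⟩ := Char.exists_hom_of_degree_one (Char.irr_isCharacter hlam) hlam1
        have hprod := Char.isIrrCharacter_mul_linear hfst (l.comp (MonoidHom.snd C S))
        obtain ⟨v, hv⟩ := Char.classInner_isCharacter_nat
          (Char.isCharacter_comp (Char.irr_isCharacter hX) j) (Char.irr_isCharacter hprod)
        refine ⟨v, ?_⟩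
        rw [← hv]
        simp only [Char.classInner_def, Nat.card_prod, Nat.cast_mul, mul_inv, hl]
        rw [Fintype.sum_prod_type, Finset.sum_comm]
        simp only [Finset.mul_sum, Finset.sum_mul]
        refine Finset.sum_congr rfl fun x _ => ?_
        refine Finset.sum_congr rfl fun c _ => ?_
        simp only [Function.comp_apply, MonoidHom.comp_apply, MonoidHom.coe_fst, MonoidHom.coe_snd, map_mul, j,
          MonoidHom.coe_mk, OneHom.coe_mk]
        ring
    · show Cfsg.classInner (fun c : C => X ((c : Γ) * ((x ^ k : S) : Γ))) (β : C → ℂ) = _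
      congr 1
      funext c
      rw [Subgroup.coe_pow]
      exact CyclicGlauberman.apply_pow G S hcop htop hX hXr hd hk ⟨c, (hmem.mp c.2).1⟩ x (hcomm c x)
  choose ψ hψc hψv hψk using hcoef
  have hint : ∀ (η : Cfsg.IrrCharacter C) (x : S), ∃ k : ℤ, ψ η x = k := by
    intro η x
    obtain ⟨q, hq⟩ := Char.exists_rat_of_emb_fixed (Char.charVal (hψc η) x) fun e => by
      obtain ⟨m, hm, he⟩ := Char.exists_pow_of_emb (Nat.card_pos (α := S)) e
      rw [Char.emb_charVal (hψc η) e he, hψk η m x hm]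
      rfl
    obtain ⟨k, hk⟩ := Char.exists_int_of_isIntegral_rat (q := q) (by
      rw [← hq]
      show IsIntegral ℤ (ψ η x)
      obtain ⟨d, σ, hσ⟩ := hψc η
      rw [← hσ]
      exact Char.char_isIntegral σ _)
    exact ⟨k, hq.trans (show (q : ℂ) = (k : ℂ) by simp [hk])⟩
  choose v hv using hint
  -- the functions on the cosets have norm one
  have hnorm : ∀ x : S, x ≠ 1 → ∑ η, v η x ^ 2 = 1 := by
    intro x hx
    have hxS : Subgroup.zpowers (x : Γ) ≤ S := Subgroup.zpowers_le.mpr x.2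
    have hC' : C = G ⊓ Subgroup.centralizer (Subgroup.zpowers (x : Γ) : Set Γ) := by
      rw [← hfpf (x : Γ) x.2 fun h => hx (Subtype.ext h), Subgroup.zpowers_eq_closure,
        Subgroup.centralizer_closure]
    have hcs := CyclicGlauberman.coset_sum G (Subgroup.zpowers (x : Γ))
      (hcop.coprime_dvd_right (Subgroup.card_dvd_of_le hxS)) C hC' (x : Γ) rfl
      (fun y => X y * conj (X y)) (fun g h => by simp only [Char.irr_isClassFunction hX g h])
    have havg := congr_fun (Clifford.cosetAvg_normSq_eq_one G (Char.irr_isCharacter hX) hXr) (x : Γ)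
    rw [Clifford.cosetAvg, inv_mul_eq_one₀ Char.natCard_ne_zero, eq_comm] at havg
    rw [havg, mul_comm] at hcs
    have h1 : Cfsg.classInner (fun c : C => X ((c : Γ) * x)) (fun c : C => X ((c : Γ) * x)) = 1 := by
      rw [Char.classInner_def, inv_mul_eq_one₀ Char.natCard_ne_zero]
      exact mul_left_cancel₀ Char.natCard_ne_zero hcs
    have hcl : Cfsg.IsClassFunction C (fun c : C => X ((c : Γ) * x)) := fun c d => by
      show X (((d * c * d⁻¹ : C) : Γ) * x) = X ((c : Γ) * x)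
      rw [← Char.irr_isClassFunction hX ((c : Γ) * x) (d : Γ)]
      congr 1
      simp only [Subgroup.coe_mul, InvMemClass.coe_inv, mul_assoc]
      rw [((hcomm d x).inv_left).eq]
    have h2 := Char.classInner_eq_sum_mul hcl (fun c : C => X ((c : Γ) * x))
    rw [h1] at h2
    simp only [← hψv, hv, map_intCast] at h2
    have h3 : (1 : ℤ) = ∑ η, v η x * v η x := by exact_mod_cast h2
    simp only [pow_two]
    exact h3.symm
  have hb : ∀ η, ∀ x : S, x ≠ 1 → v η x ^ 2 ≤ 1 := fun η x hx => by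
    rw [← hnorm x hx]
    exact Finset.single_le_sum (fun i _ => sq_nonneg (v i x)) (Finset.mem_univ η)
  have hgen : ∀ η, v η ⟨s, hsS⟩ = if η = β then ε₀ else 0 := fun η => by
    rw [← Int.cast_inj (α := ℂ), ← hv, hψv]
    rw [show (fun c : C => X ((c : Γ) * s)) = (ε₀ : ℂ) • (β : C → ℂ) from funext hβ,
      Char.classInner_smul_left]
    split_ifs with h
    · rw [h, Char.irr_classInner_self β.2, mul_one]
    · rw [Char.irr_classInner_ne β.2 η.2 fun e => h (Subtype.ext e.symm), mul_zero, Int.cast_zero]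
  have hpow : ∀ x : S, ∃ j : ℕ, (⟨s, hsS⟩ : S) ^ j = x := fun x =>
    Submonoid.mem_powers_iff _ _ |>.mp (mem_powers_iff_mem_zpowers.mpr (hgenS x))
  have hzero : ∀ η, η ≠ β → ∀ x : S, x ≠ 1 → v η x = 0 := fun η hη x hx => by
    obtain ⟨j, rfl⟩ := hpow x
    exact CyclicSigns.eq_zero_of_generator (hψc η) (hv η) (hb η)
      (by rw [hgen, if_neg hη]) j hx
  have hpm : ∀ x : S, x ≠ 1 → v β x = 1 ∨ v β x = -1 := fun x hx => by
    have h := hnorm x hx
    rw [Finset.sum_eq_single β (fun η _ hη => by rw [hzero η hη x hx]; rfl) (by simp)] at h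
    exact sq_eq_one_iff.mp h
  obtain ⟨ε, hε, μ, hμ2, hμv⟩ := CyclicSigns.exists_sign (hψc β) (hv β) hpm hgenS
    (fun k hk => by rw [← Int.cast_inj (α := ℂ), ← hv, ← hv, hψk β k _ hk]) hε₀
    (by rw [hgen, if_pos rfl])
  have hcl : ∀ x : S, Cfsg.IsClassFunction C (fun c : C => X ((c : Γ) * x)) := fun x c d => by
    show X (((d * c * d⁻¹ : C) : Γ) * x) = X ((c : Γ) * x)
    rw [← Char.irr_isClassFunction hX ((c : Γ) * x) (d : Γ)]
    congr 1
    simp only [Subgroup.coe_mul, InvMemClass.coe_inv, mul_assoc]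
    rw [((hcomm d x).inv_left).eq]
  refine ⟨ε, hε, ⟨fun x => (μ x : ℂ), Char.irr_isCharacter (Char.isIrrCharacter_linear μ), by simp,
    fun x => by rw [← Units.val_mul, hμ2, Units.val_one], fun c x hx => ?_⟩, ?_⟩
  · have h := congr_fun (Char.classFunction_eq_sum (hcl x)) c
    simp only [Finset.sum_apply, Pi.smul_apply, smul_eq_mul, ← hψv] at h
    rw [h, Finset.sum_eq_single β (fun η _ hη => by rw [hv, hzero η hη x hx]; simp) (by simp),
      hμv x hx]
    ring
  -- the multiplicities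
  have hsum : ∀ η : Cfsg.IrrCharacter C, ∃ t : ℤ, 0 ≤ t ∧
      ψ η 1 = (Nat.card S : ℂ) * t + (if η = β then (ε : ℂ) else 0) := by
    intro η
    obtain ⟨d, hd1⟩ := Char.char_apply_one_eq_nat (hψc η)
    obtain ⟨K, hK⟩ := Char.classInner_isCharacter_nat (hψc η)
      (Char.irr_isCharacter (Char.isIrrCharacter_linear μ))
    rw [Char.classInner_def, ← Finset.add_sum_erase _ _ (Finset.mem_univ 1)] at hK
    by_cases hη : η = β
    · subst hη
      have e : ∀ x ∈ (Finset.univ : Finset S).erase 1, ψ η x * conj (μ x : ℂ) = (ε : ℂ) := by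
        intro x hx
        have h2 : (μ x : ℂ) * (μ x : ℂ) = 1 := by rw [← Units.val_mul, hμ2, Units.val_one]
        rw [hμv x (Finset.ne_of_mem_erase hx), mul_assoc]
        rcases mul_self_eq_one_iff.mp h2 with h | h <;> simp [h]
      rw [Finset.sum_congr rfl e, Finset.sum_const, Finset.card_erase_of_mem (Finset.mem_univ _),
        Finset.card_univ, map_one, Units.val_one, map_one, mul_one, nsmul_eq_mul,
        Nat.cast_sub Fintype.card_pos, Nat.cast_one, ← Nat.card_eq_fintype_card,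
        inv_mul_eq_iff_eq_mul₀ Char.natCard_ne_zero] at hK
      refine ⟨(K : ℤ) - ε, ?_, ?_⟩
      · rw [hd1] at hK
        have hK' : (d : ℤ) + ((Nat.card S : ℤ) - 1) * ε = (Nat.card S : ℤ) * K := by exact_mod_cast hK
        have hS1 : (1 : ℤ) ≤ Nat.card S := by exact_mod_cast Nat.card_pos
        rcases hε with h | h <;> subst h
        · by_contra hneg
          have hK0 : K = 0 := by omega
          rw [hK0, Nat.cast_zero, mul_zero] at hK'
          have hd0 : d = 0 := by omega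
          apply one_ne_zero (α := ℤ)
          rcases (show v η (⟨s, hsS⟩ : S) = 1 ∨ v η (⟨s, hsS⟩ : S) = -1 by
            rw [hgen, if_pos rfl]; exact hε₀) with h | h
          all_goals
            have h1 : (v η (⟨s, hsS⟩ : S) : ℂ) = 0 := by
              rw [← hv]
              obtain ⟨n', σ, hσ⟩ := hψc η
              rw [← hσ]
              exact congr_fun (Clifford.eq_zero_of_apply_one_eq_zero ⟨n', σ, rfl⟩
                (by rw [hσ, hd1, hd0, Nat.cast_zero])) _
            rw [h] at h1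
            simp at h1
        · omega
      · rw [if_pos rfl]
        push_cast
        linear_combination hK
    · have e : ∀ x ∈ (Finset.univ : Finset S).erase 1, ψ η x * conj (μ x : ℂ) = 0 := fun x hx => by
        rw [hv, hzero η hη x (Finset.ne_of_mem_erase hx), Int.cast_zero, zero_mul]
      rw [Finset.sum_congr rfl e, Finset.sum_const_zero, map_one, Units.val_one, map_one, mul_one,
        add_zero, inv_mul_eq_iff_eq_mul₀ Char.natCard_ne_zero] at hK
      exact ⟨K, Int.natCast_nonneg K, by rw [hK, if_neg hη, add_zero, Int.cast_natCast]⟩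
  choose t ht0 ht using hsum
  refine ⟨∑ η : Cfsg.IrrCharacter C, (((t η).toNat : ℕ) : ℂ) • (η : C → ℂ), ?_, fun c => ?_⟩
  · refine Char.isCharacter_of_nat (fun g h => ?_) fun θ hθ => ⟨(t ⟨θ, hθ⟩).toNat, ?_⟩
    · simp only [Finset.sum_apply, Pi.smul_apply, Char.irr_isClassFunction (Subtype.prop _) g h]
    · rw [Char.classInner_sum_left, Finset.sum_eq_single ⟨θ, hθ⟩ (fun η _ hη => by
        rw [Char.classInner_smul_left, Char.irr_classInner_ne η.2 hθ fun e => hη (Subtype.ext e),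
          mul_zero]) (by simp), Char.classInner_smul_left, Char.irr_classInner_self hθ, mul_one]
  · have h := congr_fun (Char.classFunction_eq_sum (hcl 1)) c
    simp only [OneMemClass.coe_one, mul_one] at h
    have h1 : ∀ η : Cfsg.IrrCharacter C,
        Cfsg.classInner (fun c : C => X (c : Γ)) (η : C → ℂ) = ψ η 1 := fun η => by
      rw [hψv]; simp
    simp only [Finset.sum_apply, Pi.smul_apply, smul_eq_mul, h1, ht] at h
    rw [h]
    simp only [Finset.sum_apply, Pi.smul_apply, smul_eq_mul, Finset.mul_sum, add_mul,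
      Finset.sum_add_distrib, ite_mul, zero_mul, Finset.sum_ite_eq', Finset.mem_univ, if_true]
    congr 1
    refine Finset.sum_congr rfl fun η _ => ?_
    rw [show (((t η).toNat : ℕ) : ℂ) = (t η : ℂ) by exact_mod_cast Int.toNat_of_nonneg (ht0 η)]
    ring

/-- Let the finite group Γ be generated by a normal subgroup G and a cyclic subgroup S of coprime orders such that every non-identity element of S has the same centraliser C = G ⊓ C(S) in G. Let χ be an S-invariant irreducible character of G, χ̂ its canonical extension to Γ (determinantal order coprime to the order of S), and β the irreducible character of C with χ̂(c s) = ε₀ β(c) for c ∈ C and generators s of S (ε₀ = ±1). Then there are a sign ε = ±1, which may differ from ε₀, and a linear character μ of S with μ² = 1, such that: (a) χ̂(c x) = ε β(c) μ(x) for all c ∈ C and all x ∈ S other than 1; (b) the restriction of χ to C equals |S|·ϑ + ε β for some character ϑ of C or ϑ = 0; (c) |S| divides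 χ(1) − ε β(1). -/
theorem result {Γ : Type*} [Group Γ] [Fintype Γ] (G S : Subgroup Γ) [Fintype G] (hnorm : ∀ s ∈ S, ∀ g ∈ G, s * g * s⁻¹ ∈ G) (hcop : (Nat.card G).Coprime (Nat.card S)) (htop : G ⊔ S = ⊤) (hcyc : IsCyclic S) (C : Subgroup Γ) [Fintype C] (hC : C = G ⊓ Subgroup.centralizer (S : Set Γ)) (hCG : C ≤ G) (hfpf : ∀ x ∈ S, x ≠ 1 → G ⊓ Subgroup.centralizer ({x} : Set Γ) = C) (χ : Cfsg.IrrCharacter G) (hinv : (∀ s ∈ S, ∀ g g' : G, (g' : Γ) = s * g * s⁻¹ → (χ : G → ℂ) g' = (χ : G → ℂ) g)) (χh : Cfsg.IrrCharacter Γ) (hext : (∀ g : G, (χh : Γ → ℂ) g = (χ : G → ℂ) g)) (hdet : (Cfsg.detOrder (χh : Γ → ℂ)).Coprime (Nat.card S)) (β : Cfsg.IrrCharacter C) (ε₀ : ℤ) (hε₀ : ε₀ = 1 ∨ ε₀ = -1) (hβ : ∀ c : C, ∀ s : Γ, Subgroup.zpowers s = S → (χh : Γ → ℂ) ((c : Γ) * s) = (ε₀ : ℂ) * (β : C → ℂ) c) : ∃ ε : ℤ, (ε = 1 ∨ ε = -1) ∧ (∃ μ : S → ℂ, Cfsg.IsCharacter S μ ∧ μ 1 = 1 ∧ (∀ x : S, μ x * μ x = 1) ∧ ∀ c : C, ∀ x : S, x ≠ 1 → (χh : Γ → ℂ) ((c : Γ) * x) = (ε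 : ℂ) * (β : C → ℂ) c * μ x) ∧ (∃ ϑ : C → ℂ, Cfsg.IsCharacter C ϑ ∧ (fun c : C => (χ : G → ℂ) ⟨c, hCG c.2⟩) = fun c => (Nat.card S : ℂ) * ϑ c + (ε : ℂ) * (β : C → ℂ) c) ∧ (Nat.card S : ℤ) ∣ (Cfsg.charDegree (χ : G → ℂ) : ℤ) - ε * (Cfsg.charDegree (β : C → ℂ) : ℤ) := by
  classical
  haveI hGn : G.Normal := by
    have h1 : G ⊔ S ≤ Subgroup.normalizer (G : Set Γ) := by
      refine sup_le Subgroup.le_normalizer fun s hs => ?_
      rw [Subgroup.mem_normalizer_iff]
      intro n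
      refine ⟨fun h => hnorm s hs n h, fun h => ?_⟩
      have := hnorm s⁻¹ (inv_mem hs) _ h
      simpa [mul_assoc] using this
    rw [htop, top_le_iff] at h1
    exact Subgroup.normalizer_eq_top_iff.mp h1
  obtain ⟨⟨s₀, hs₀⟩, hgen⟩ := hcyc.exists_generator
  have hS : Subgroup.zpowers s₀ = S := le_antisymm (Subgroup.zpowers_le.mpr hs₀) fun x hx => by
    obtain ⟨i, hi⟩ := hgen ⟨x, hx⟩
    exact ⟨i, congrArg Subtype.val hi⟩
  obtain ⟨ε, hε, hμ, ϑ, hϑ, hval⟩ := main G S hcop htop C hC s₀ hS hfpf (χh : Γ → ℂ) χh.2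
    (by rw [funext hext]; exact χ.2) hdet β ε₀ hε₀ (fun c => hβ c s₀ hS)
  refine ⟨ε, hε, hμ, ⟨ϑ, hϑ, funext fun c => (hext ⟨c, hCG c.2⟩).symm.trans (hval c)⟩, ?_⟩
  obtain ⟨d, hd⟩ := CfsgLib.Char.char_apply_one_eq_nat hϑ
  refine ⟨d, ?_⟩
  have h1 := hval 1
  rw [hd, OneMemClass.coe_one, ← BlockB.charDegree_cast (CfsgLib.Char.irr_isCharacter β.2),
    show (χh : Γ → ℂ) 1 = (χ : G → ℂ) 1 from hext 1,
    ← BlockB.charDegree_cast (CfsgLib.Char.irr_isCharacter χ.2)] at h1
  rw [sub_eq_iff_eq_add, ← Int.cast_inj (α := ℂ)]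
  push_cast
  linear_combination h1

end Cfsg.Agent.S4451
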