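import Cfsg.Statements.S4452
import Cfsg.Agent.S4445
import Cfsg.Agent.Lib.Clifford.Degrees
import Cfsg.Agent.Lib.Clifford.CosetAvg
import Cfsg.Agent.Lib.Clifford.Extension
import Cfsg.Agent.Lib.Coprime.Action

set_option autoImplicit false
open Cfsg

namespace Cfsg.Agent.S4452

universe u

open CfsgLib

/-- The characters of degree prime to the order of a complement. -/
theorem card_coprime_degree {G : Type u} [Group G] [Finite G] (K H : Subgroup G) [K.Normal]
    (hKH : K ⊔ H = ⊤) (hcop : (Nat.card K).Coprime (Nat.card H)) :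
    Nat.card {χ : Cfsg.IrrCharacter G // (Cfsg.charDegree (χ : G → ℂ)).Coprime (Nat.card H)} =
      Nat.card {θ : Cfsg.IrrCharacter K // ∀ h ∈ H, ∀ g g' : K, (g' : G) = h * g * h⁻¹ →
        (θ : K → ℂ) g' = (θ : K → ℂ) g} * Nat.card (H →* ℂˣ) := by
  classical
  have := Fintype.ofFinite G
  have := Fintype.ofFinite K
  have hinf : K ⊓ H = ⊥ := Subgroup.inf_eq_bot_of_coprime hcop
  have hmul : ∀ g : G, ∃ k ∈ K, ∃ h ∈ H, k * h = g := fun g =>
    Subgroup.mem_sup_of_normal_left.mp (hKH ▸ Subgroup.mem_top g)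
  let e₀ : H →* G ⧸ K := (QuotientGroup.mk' K).comp H.subtype
  have he₀ : Function.Bijective e₀ := by
    refine ⟨(injective_iff_map_eq_one e₀).mpr fun h hh => ?_, fun q => ?_⟩
    · have : (h : G) ∈ K ⊓ H := ⟨(QuotientGroup.eq_one_iff _).mp hh, h.2⟩
      rw [hinf] at this
      exact Subtype.ext this
    · obtain ⟨g, rfl⟩ := QuotientGroup.mk_surjective q
      obtain ⟨k, hk, h, hh, rfl⟩ := hmul g
      refine ⟨⟨h, hh⟩, ?_⟩
      show (h : G ⧸ K) = _
      rw [QuotientGroup.mk_mul, (QuotientGroup.eq_one_iff k).mpr hk, one_mul]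
  let e := MulEquiv.ofBijective e₀ he₀
  let proj : G →* H := e.symm.toMonoidHom.comp (QuotientGroup.mk' K)
  have hprojH : ∀ h : H, proj h = h := fun h => e.symm_apply_apply h
  have hprojK : ∀ k ∈ K, proj k = 1 := fun k hk => by
    show e.symm (k : G ⧸ K) = 1
    rw [(QuotientGroup.eq_one_iff k).mpr hk, map_one]
  have hidx : K.index = Nat.card H := by
    rw [Subgroup.index_eq_card, ← Nat.card_congr e.toEquiv]
  -- every invariant character extends
  have hext : ∀ θ : {θ : Cfsg.IrrCharacter K // ∀ h ∈ H, ∀ g g' : K, (g' : G) = h * g * h⁻¹ →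
      (θ : K → ℂ) g' = (θ : K → ℂ) g},
      ∃ Θ : G → ℂ, Cfsg.IsIrrCharacter G Θ ∧ ∀ m : K, Θ m = (θ.1 : K → ℂ) m := by
    rintro ⟨⟨θ, n, ρ, hρ, rfl⟩, hθ⟩
    have hinv : ∀ (g : G) (m : K), ρ.character (Clifford.conjN g m) = ρ.character m := by
      intro g m
      obtain ⟨k, hk, h, hh, rfl⟩ := hmul g
      rw [Clifford.conjN_mul, show Clifford.conjN k (Clifford.conjN h m) =
        ⟨k, hk⟩ * Clifford.conjN h m * (⟨k, hk⟩ : K)⁻¹ from Subtype.ext rfl,
        Char.irr_isClassFunction (Char.isIrrCharacter_of_rep ρ)]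
      exact hθ h hh m (Clifford.conjN h m) rfl
    let lam : K →* ℂˣ := (Units.map LinearMap.det).comp (Clifford.repUnits ρ)
    have hlam : ∀ m, (lam m : ℂ) = LinearMap.det (ρ m) := fun m => rfl
    have hlaminv : ∀ (g : G) (m : K), lam (Clifford.conjN g m) = lam m := by
      intro g m
      have := Char.isIrrCharacter_of_rep ρ
      have hd := congr_fun (Clifford.detChar_eq ρ)
      let σg : K →* K :=
        { toFun := Clifford.conjN g
          map_one' := Subtype.ext (by simp)
          map_mul' := fun a b => Subtype.ext (by simp [mul_assoc]) }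
      let ρg : Representation ℂ K (Fin n → ℂ) := ρ.comp σg
      have hρg : ρg.IsIrreducible :=
        Clifford.isIrreducible_of_classInner_self _ (by
          rw [show ρg.character = ρ.character from funext fun m => hinv g m]
          exact Char.irr_classInner_self this)
      have hd' := congr_fun (Clifford.detChar_eq ρg) m
      rw [show ρg.character = ρ.character from funext fun m => hinv g m, hd] at hd'
      exact Units.ext hd'.symm
    have hord : Nat.Coprime K.index (orderOf lam) := by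
      rw [hidx]
      exact (hcop.coprime_dvd_left (Clifford.orderOf_dvd_natCard lam)).symm
    obtain ⟨μ, hμ, -, -⟩ := Clifford.exists_linear_extension lam hlaminv hord
    refine Clifford.exists_irr_extension_of_det ρ hinv μ (fun m => by rw [hμ]; exact hlam m) ?_
    rw [hidx]
    have hd := Char.degree_dvd_card ρ
    rw [Module.finrank_fin_fun] at hd
    exact (hcop.coprime_dvd_left hd).symm
  choose Θ hΘ hΘres using hext
  have hres : ∀ θ, Cfsg.IsIrrCharacter K fun m : K => Θ θ m := fun θ => by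
    rw [funext (hΘres θ)]; exact θ.1.2
  have hlinK : ∀ (l : H →* ℂˣ) (m : K) (g : G), (l (proj ((m : G) * g)) : ℂ) = l (proj g) :=
    fun l m g => by rw [map_mul, hprojK m m.2, one_mul]
  have hirrF : ∀ θ (l : H →* ℂˣ),
      Cfsg.IsIrrCharacter G (Θ θ * fun g => (l (proj g) : ℂ)) := fun θ l =>
    Clifford.isIrrCharacter_mul_of_invariant K (Char.irr_isCharacter (hΘ θ)) (hres θ)
      (Char.isIrrCharacter_linear (l.comp proj)) (hlinK l)
  let F : {θ : Cfsg.IrrCharacter K // ∀ h ∈ H, ∀ g g' : K, (g' : G) = h * g * h⁻¹ →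
        (θ : K → ℂ) g' = (θ : K → ℂ) g} × (H →* ℂˣ) →
      {χ : Cfsg.IrrCharacter G // (Cfsg.charDegree (χ : G → ℂ)).Coprime (Nat.card H)} := fun x =>
    ⟨⟨Θ x.1 * fun g => (x.2 (proj g) : ℂ), hirrF x.1 x.2⟩, by
      have hd : Cfsg.charDegree (Θ x.1 * fun g => (x.2 (proj g) : ℂ)) =
          Cfsg.charDegree (x.1.1 : K → ℂ) := by
        rw [← Nat.cast_inj (R := ℂ), BlockB.charDegree_cast (Char.irr_isCharacter
          (hirrF x.1 x.2)),
          BlockB.charDegree_cast (Char.irr_isCharacter x.1.1.2), ← hΘres]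
        simp
      show (Cfsg.charDegree (Θ x.1 * fun g => (x.2 (proj g) : ℂ))).Coprime _
      rw [hd]
      exact hcop.coprime_dvd_left (Clifford.Degrees.charDegree_dvd_card x.1.1.2)⟩
  rw [← Nat.card_prod]
  refine (Nat.card_congr (Equiv.ofBijective F ⟨fun x y hxy => ?_, fun χ => ?_⟩)).symm
  · have h := congrArg (fun z => ((z : Cfsg.IrrCharacter G) : G → ℂ))
      (congrArg Subtype.val hxy)
    simp only [F] at h
    obtain ⟨θ, l⟩ := x
    obtain ⟨θ', l'⟩ := y
    have hθ : θ = θ' := by
      refine Subtype.ext (Subtype.ext (funext fun m => ?_))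
      have hm := congr_fun h (m : G)
      simpa [hprojK m m.2, hΘres] using hm
    subst hθ
    refine Prod.ext rfl ?_
    by_contra hne
    have h1 := Clifford.classInner_mul_mul K (Char.irr_isCharacter (hΘ θ)) (hres θ)
      (fun g => (l (proj g) : ℂ)) (fun g => (l' (proj g) : ℂ)) (hlinK l) (hlinK l')
    have h' : (Θ θ * fun g => (l (proj g) : ℂ)) = Θ θ * fun g => (l' (proj g) : ℂ) := h
    rw [← h', Char.irr_classInner_self (hirrF θ l)] at h1
    refine one_ne_zero (h1.trans (Char.irr_classInner_ne (Char.isIrrCharacter_linear (l.comp proj))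
      (Char.isIrrCharacter_linear (l'.comp proj)) fun e' => hne (MonoidHom.ext fun a => ?_)))
    have := congr_fun e' a
    simp only [MonoidHom.comp_apply, hprojH] at this
    exact Units.ext this
  · obtain ⟨⟨χ, hχ⟩, hdeg⟩ := χ
    obtain ⟨θ, hθ, hne⟩ := Clifford.exists_irr_constituent_restrict (N := K) hχ
    have hdvd := Clifford.Degrees.index_inertia_mul_dvd K hθ hχ hne
    have hKI : K ≤ Clifford.inertia θ := Clifford.le_inertia (Char.irr_isClassFunction hθ)
    have hI : Clifford.inertia θ = ⊤ := by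
      rw [← Subgroup.index_eq_one]
      exact Nat.eq_one_of_dvd_coprimes hdeg ((Dvd.intro _ rfl).trans hdvd)
        (hidx ▸ Subgroup.index_dvd_of_le hKI)
    have hθinv : ∀ h ∈ H, ∀ g g' : K, (g' : G) = h * g * h⁻¹ → θ g' = θ g := by
      intro h _ g g' he
      have : h ∈ Clifford.inertia θ := hI ▸ Subgroup.mem_top h
      rw [show g' = Clifford.conjN h g from Subtype.ext he]
      exact this g
    set x : {θ : Cfsg.IrrCharacter K // ∀ h ∈ H, ∀ g g' : K, (g' : G) = h * g * h⁻¹ →
      (θ : K → ℂ) g' = (θ : K → ℂ) g} := ⟨⟨θ, hθ⟩, hθinv⟩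
    obtain ⟨hβ, hfac⟩ := Clifford.gallagher_factor K hχ (Char.irr_isCharacter (hΘ x)) (hres x)
      (by rw [funext (hΘres x)]; exact hne)
    set β := Clifford.gallagherQuot K χ (Θ x)
    have hβK : ∀ m ∈ K, β m = β 1 := fun m hm => by
      have := Clifford.cosetAvg_mul_left K (fun g => χ g * (starRingEnd ℂ) (Θ x g)) ⟨m, hm⟩ (1 : G)
      rw [mul_one] at this
      exact this
    obtain ⟨ψ, hψ, hβψ⟩ := Char.isIrr_quotient_lift K hβ hβK
    have hψ1 : ψ 1 = 1 := by
      obtain ⟨d, hd⟩ := Char.char_apply_one_eq_nat (Char.irr_isCharacter hψ)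
      have hdc : Cfsg.charDegree ψ = d := by
        rw [← Nat.cast_inj (R := ℂ), BlockB.charDegree_cast (Char.irr_isCharacter hψ), hd]
      have h1 : d ∣ Nat.card H := by
        rw [← hdc, ← hidx, Subgroup.index_eq_card]
        exact Clifford.Degrees.charDegree_dvd_card hψ
      have h2 : d ∣ Cfsg.charDegree χ := by
        refine ⟨Cfsg.charDegree θ, ?_⟩
        rw [← Nat.cast_inj (R := ℂ), Nat.cast_mul, BlockB.charDegree_cast (Char.irr_isCharacter hχ),
          BlockB.charDegree_cast (Char.irr_isCharacter hθ), hfac, Pi.mul_apply,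
          show Θ x 1 = θ 1 from hΘres x 1, hβψ, Function.comp_apply, map_one, hd, mul_comm]
      rw [hd, Nat.eq_one_of_dvd_coprimes hdeg h2 h1, Nat.cast_one]
    obtain ⟨l, hl⟩ := Char.exists_hom_of_degree_one (Char.irr_isCharacter hψ) hψ1
    refine ⟨(x, l.comp e₀), Subtype.ext (Subtype.ext ?_)⟩
    show (Θ x * fun g => (((l.comp e₀) (proj g) : ℂˣ) : ℂ)) = χ
    rw [hfac]
    congr 1
    funext g
    rw [hβψ, hl]
    show ((l (e (e.symm (g : G ⧸ K))) : ℂˣ) : ℂ) = (l (g : G ⧸ K) : ℂ)
    rw [MulEquiv.apply_symm_apply]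

/-- A coprime complement and its normalizer have as many characters of degree prime to it. -/
theorem mckay {G : Type u} [Group G] [Finite G] (K H : Subgroup G) [K.Normal] (hKH : K ⊔ H = ⊤)
    (hcop : (Nat.card K).Coprime (Nat.card H)) (hsolv : Group.IsSolvable H) :
    Nat.card {χ : Cfsg.IrrCharacter G // (Cfsg.charDegree (χ : G → ℂ)).Coprime (Nat.card H)} =
      Nat.card {η : Cfsg.IrrCharacter (Subgroup.normalizer (H : Set G)) //
        (Cfsg.charDegree (η : Subgroup.normalizer (H : Set G) → ℂ)).Coprime (Nat.card H)} := by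
  classical
  have := Fintype.ofFinite G
  have := Fintype.ofFinite K
  have hinf : K ⊓ H = ⊥ := Subgroup.inf_eq_bot_of_coprime hcop
  set M := Subgroup.normalizer (H : Set G) with hM
  have hHM : H ≤ M := Subgroup.le_normalizer
  let K' := K.subgroupOf M
  let H' := H.subgroupOf M
  let eH : H' ≃* H := Subgroup.subgroupOfEquivOfLe hHM
  have hcardH : Nat.card H' = Nat.card H := Nat.card_congr eH.toEquiv
  have hK'dvd : Nat.card K' ∣ Nat.card K :=
    Subgroup.card_dvd_of_injective (⟨⟨fun y => ⟨((y : M) : G), Subgroup.mem_subgroupOf.mp y.2⟩,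
      rfl⟩, fun _ _ => rfl⟩ : K' →* K) fun a b h =>
        Subtype.ext (Subtype.ext (congrArg Subtype.val h :))
  have hsup : K' ⊔ H' = ⊤ := by
    refine eq_top_iff.mpr fun y _ => ?_
    obtain ⟨k, hk, h, hh, e⟩ := Subgroup.mem_sup_of_normal_left.mp
      (hKH ▸ Subgroup.mem_top (y : G) : (y : G) ∈ K ⊔ H)
    have hkM : k ∈ M := by
      rw [show k = (y : G) * h⁻¹ by rw [← e, mul_inv_cancel_right]]
      exact mul_mem y.2 (inv_mem (hHM hh))
    rw [show y = (⟨k, hkM⟩ : M) * ⟨h, hHM hh⟩ from Subtype.ext e.symm]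
    exact mul_mem (Subgroup.mem_sup_left (Subgroup.mem_subgroupOf.mpr hk))
      (Subgroup.mem_sup_right (Subgroup.mem_subgroupOf.mpr hh))
  have hcomm : ∀ k ∈ K, k ∈ M → ∀ h ∈ H, h * k * h⁻¹ = k := by
    intro k hk hkM h hh
    have h1 : h * k * h⁻¹ * k⁻¹ ∈ K ⊓ H :=
      Subgroup.mem_inf.mpr ⟨mul_mem (‹K.Normal›.conj_mem k hk h) (inv_mem hk), by
        have := (Subgroup.mem_normalizer_iff.mp hkM h⁻¹).mp (inv_mem hh)
        rw [show h * k * h⁻¹ * k⁻¹ = h * (k * h⁻¹ * k⁻¹) by group]
        exact mul_mem hh this⟩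
    rw [hinf, Subgroup.mem_bot, mul_inv_eq_one] at h1
    exact h1
  rw [card_coprime_degree K H hKH hcop]
  have hB := card_coprime_degree K' H' hsup (hcardH ▸ hcop.coprime_dvd_left hK'dvd)
  rw [hcardH] at hB
  rw [hB]
  congr 1
  · rw [Cfsg.Agent.S4445.result K H (fun s _ g hg => ‹K.Normal›.conj_mem g hg s) hcop hsolv]
    have hall : Nat.card {θ : Cfsg.IrrCharacter K' // ∀ h ∈ H', ∀ g g' : K',
        (g' : M) = h * g * h⁻¹ → (θ : K' → ℂ) g' = (θ : K' → ℂ) g} =
          Nat.card (ConjClasses K') := by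
      rw [Nat.card_congr (Equiv.subtypeUnivEquiv fun θ => ?_), Char.irr_card_eq]
      intro h hh g g' he
      have : g' = g := by
        refine Subtype.ext (Subtype.ext ?_)
        rw [he]
        exact hcomm (g : M) (Subgroup.mem_subgroupOf.mp g.2) (g : M).2 (h : G)
          (Subgroup.mem_subgroupOf.mp hh)
      rw [this]
    rw [hall]
    letI : MulAction G K := MulAction.compHom K (MulAut.conjNormal (H := K))
    have hsm : ∀ (x : G) (g : K), ((x • g : K) : G) = x * g * x⁻¹ := fun x g => rfl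
    let ι : K' →* K := ⟨⟨fun y => ⟨((y : M) : G), Subgroup.mem_subgroupOf.mp y.2⟩, rfl⟩,
      fun _ _ => rfl⟩
    have hA : H ≤ Subgroup.normalizer (K : Set G) := by
      rw [Subgroup.normalizer_eq_top]; exact le_top
    have hfix : ∀ c : ConjClasses K', ∀ s ∈ H, ∀ g g' : K, (g' : G) = s * g * s⁻¹ →
        ConjClasses.mk g = ConjClasses.map ι c → ConjClasses.mk g' = ConjClasses.map ι c := by
      intro c s hs g g' he hg
      obtain ⟨y, rfl⟩ := ConjClasses.mk_surjective c
      change ConjClasses.mk g = ConjClasses.mk (ι y) at hg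
      show ConjClasses.mk g' = ConjClasses.mk (ι y)
      rw [ConjClasses.mk_eq_mk_iff_isConj] at hg ⊢
      obtain ⟨k, hk⟩ := isConj_iff.mp hg
      refine isConj_iff.mpr ⟨⟨s * k * s⁻¹, ‹K.Normal›.conj_mem k k.2 s⟩, Subtype.ext ?_⟩
      have h1 := congrArg Subtype.val hk
      simp only [Subgroup.coe_mul, InvMemClass.coe_inv] at h1 ⊢
      rw [he]
      calc s * k * s⁻¹ * (s * g * s⁻¹) * (s * k * s⁻¹)⁻¹ = s * (k * g * (k : G)⁻¹) * s⁻¹ := by group
        _ = s * ((ι y : K) : G) * s⁻¹ := by rw [h1]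
        _ = _ := hcomm _ (ι y).2 (y : M).2 s hs
    refine (Nat.card_congr (Equiv.ofBijective (fun c => (⟨ConjClasses.map ι c, hfix c⟩ :
      {c : ConjClasses K // ∀ s ∈ H, ∀ g g' : K, (g' : G) = s * g * s⁻¹ →
        ConjClasses.mk g = c → ConjClasses.mk g' = c})) ⟨fun a b hab => ?_, fun c => ?_⟩)).symm
    · obtain ⟨a, rfl⟩ := ConjClasses.mk_surjective a
      obtain ⟨b, rfl⟩ := ConjClasses.mk_surjective b
      have h := congrArg Subtype.val hab
      change ConjClasses.mk (ι a) = ConjClasses.mk (ι b) at h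
      obtain ⟨k, hk⟩ := isConj_iff.mp (ConjClasses.mk_eq_mk_iff_isConj.mp h)
      obtain ⟨c, hc, hcab⟩ := Coprime.exists_smul_eq_of_fixed (α := K) hA hcop.symm (Or.inl hsolv)
        (s := ι a) (t := ι b)
        (fun s hs => Subtype.ext ((hsm s _).trans (hcomm _ (ι a).2 (a : M).2 s hs)))
        (fun s hs => Subtype.ext ((hsm s _).trans (hcomm _ (ι b).2 (b : M).2 s hs)))
        ⟨k, k.2, Subtype.ext ((hsm (k : G) _).trans (congrArg Subtype.val hk :))⟩
      have hcM : c ∈ M := Subgroup.centralizer_le_normalizer (H : Set G) hc.2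
      refine ConjClasses.mk_eq_mk_iff_isConj.mpr (isConj_iff.mpr
        ⟨⟨⟨c, hcM⟩, Subgroup.mem_subgroupOf.mpr hc.1⟩, Subtype.ext (Subtype.ext ?_)⟩)
      exact (hsm c _).symm.trans (congrArg Subtype.val hcab :)
    · obtain ⟨c, hc⟩ := c
      obtain ⟨g₀, rfl⟩ := ConjClasses.mk_surjective c
      obtain ⟨x, hxg, hxfix⟩ := Coprime.exists_fixed_point (α := K) hA hcop.symm
        (Or.inl hsolv) {x : K | ConjClasses.mk x = ConjClasses.mk g₀} ⟨g₀, rfl⟩
        (fun s hs x hxg => hc s hs x _ (hsm s x) hxg)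
        (fun k hk x hxg => by
          show ConjClasses.mk (k • x) = ConjClasses.mk g₀
          rw [← (hxg : ConjClasses.mk x = ConjClasses.mk g₀)]
          exact (ConjClasses.mk_eq_mk_iff_isConj.mpr (isConj_iff.mpr
            ⟨(⟨k, hk⟩ : K), Subtype.ext (hsm k x).symm⟩)).symm)
        (fun x hxg y hyg => by
          obtain ⟨k, hk⟩ := isConj_iff.mp (ConjClasses.mk_eq_mk_iff_isConj.mp
            ((hxg : ConjClasses.mk x = _).trans (hyg : ConjClasses.mk y = _).symm))
          exact ⟨k, k.2, Subtype.ext ((hsm (k : G) x).trans (congrArg Subtype.val hk :))⟩)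
      have hxM : (x : G) ∈ M := by
        refine Subgroup.centralizer_le_normalizer (H : Set G)
          (Subgroup.mem_centralizer_iff.mpr fun h hh => ?_)
        have h1 : h * x * h⁻¹ = (x : G) := (hsm h x).symm.trans (congrArg Subtype.val (hxfix h hh) :)
        rw [mul_inv_eq_iff_eq_mul] at h1
        exact h1
      exact ⟨ConjClasses.mk ⟨⟨x, hxM⟩, Subgroup.mem_subgroupOf.mpr x.2⟩, Subtype.ext hxg⟩
  · exact Nat.card_congr
      ((Equiv.ofBijective (fun l : H →* ℂˣ => (l.comp eH.toMonoidHom : H' →* ℂˣ))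
        ⟨fun a b h => MonoidHom.ext fun x => by
            have := DFunLike.congr_fun h (eH.symm x)
            simpa using this,
          fun l => ⟨l.comp eH.symm.toMonoidHom, MonoidHom.ext fun x => by simp⟩⟩))

/-- Let the finite group G be the product of a normal subgroup K and a solvable subgroup H of coprime orders, and let N = N_G(H). Then the number of irreducible characters of G of degree coprime to the order of H equals the number of irreducible characters of N of degree coprime to the order of H. (The two sets are in fact in a canonical bijection; only the equality of their sizes is stated here.) -/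
theorem result {G : Type*} [Group G] [Finite G] (K H : Subgroup G) [K.Normal] (hKH : K ⊔ H = ⊤) (hcop : (Nat.card K).Coprime (Nat.card H)) (hsolv : Group.IsSolvable H) : Nat.card {χ : Cfsg.IrrCharacter G // (Cfsg.charDegree (χ : G → ℂ)).Coprime (Nat.card H)} = Nat.card {η : Cfsg.IrrCharacter (Subgroup.normalizer (H : Set G)) // (Cfsg.charDegree (η : Subgroup.normalizer (H : Set G) → ℂ)).Coprime (Nat.card H)} := by
  exact mckay K H hKH hcop hsolv

end Cfsg.Agent.S4452
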