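import Cfsg.Statements.S4453
import Cfsg.Agent.S4447
import Cfsg.Agent.Lib.Coprime.Action
import Cfsg.Agent.Lib.Block.OddCorrMain

set_option autoImplicit false
open Cfsg CfsgLib CfsgLib.Block.OddCorr

namespace Cfsg.Agent.S4453

/-- Inside a finite group Γ let S normalise the solvable subgroup G of odd order with the orders of G and S coprime, let C = G ⊓ C(S), and let L ≤ K be S-invariant normal subgroups of G with K/L abelian, G = KC and H = LC (so C ≤ H ≤ G). Then for each S-invariant irreducible character χ of G there is exactly one S-invariant irreducible character ψ of H whose multiplicity in the restriction of χ to H is odd, and χ ↦ ψ is a bijection from the S-invariant irreducible characters of G onto those of H (distinct χ give distinct ψ, and every S-invariant ψ arises). -/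
theorem result {Γ : Type*} [Group Γ] [Fintype Γ] (G S : Subgroup Γ) [Fintype G] (hnorm : ∀ s ∈ S, ∀ g ∈ G, s * g * s⁻¹ ∈ G) (hcop : (Nat.card G).Coprime (Nat.card S)) (hGsolv : Group.IsSolvable G) (hodd : Odd (Nat.card G)) (C : Subgroup Γ) [Fintype C] (hC : C = G ⊓ Subgroup.centralizer (S : Set Γ)) (hCG : C ≤ G) (K L H : Subgroup Γ) [Fintype H] (hLK : L ≤ K) (hKG : K ≤ G) (hKn : ∀ g ∈ G, ∀ k ∈ K, g * k * g⁻¹ ∈ K) (hLn : ∀ g ∈ G, ∀ l ∈ L, g * l * g⁻¹ ∈ L) (hKS : ∀ s ∈ S, ∀ k ∈ K, s * k * s⁻¹ ∈ K) (hLS : ∀ s ∈ S, ∀ l ∈ L, s * l * s⁻¹ ∈ L) (hab : ∀ a ∈ K, ∀ b ∈ K, a * b * a⁻¹ * b⁻¹ ∈ L) (hGKC : K ⊔ C = G) (hH : H = L ⊔ C) (hHG : H ≤ G) : (∀ χ : Cfsg.IrrCharacter G, (∀ s ∈ S, ∀ g g' : G, (g' : Γ) = s * g * s⁻¹ → (χ : G → ℂ) g' = (χ : G → ℂ) g) → ∃! ψ : Cfsg.IrrCharacter H, (∀ s ∈ S, ∀ g g' : H, (g' : Γ) = s * g * s⁻¹ → (ψ : H → ℂ) g' = (ψ : H → ℂ) g) ∧ ∃ m : ℕ, Cfsg.classInner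 (fun h : H => (χ : G → ℂ) ⟨h, hHG h.2⟩) (ψ : H → ℂ) = (m : ℂ) ∧ Odd m) ∧ (∀ χ χ' : Cfsg.IrrCharacter G, (∀ s ∈ S, ∀ g g' : G, (g' : Γ) = s * g * s⁻¹ → (χ : G → ℂ) g' = (χ : G → ℂ) g) → (∀ s ∈ S, ∀ g g' : G, (g' : Γ) = s * g * s⁻¹ → (χ' : G → ℂ) g' = (χ' : G → ℂ) g) → ∀ ψ : Cfsg.IrrCharacter H, (∀ s ∈ S, ∀ g g' : H, (g' : Γ) = s * g * s⁻¹ → (ψ : H → ℂ) g' = (ψ : H → ℂ) g) → ∀ m m' : ℕ, Cfsg.classInner (fun h : H => (χ : G → ℂ) ⟨h, hHG h.2⟩) (ψ : H → ℂ) = (m : ℂ) → Odd m → Cfsg.classInner (fun h : H => (χ' : G → ℂ) ⟨h, hHG h.2⟩) (ψ : H → ℂ) = (m' : ℂ) → Odd m' → χ = χ') ∧ (∀ ψ : Cfsg.IrrCharacter H, (∀ s ∈ S, ∀ g g' : H, (g' : Γ) = s * g * s⁻¹ → (ψ : H → ℂ) g' = (ψ : H → ℂ) g) → ∃ χ : Cfsg.IrrCharacter G, (∀ s ∈ S, ∀ g g' : G, (g' : Γ) = s * g * s⁻¹ → (χ : G → ℂ) g' = (χ : G → ℂ) g) ∧ ∃ m : ℕ, Cfsg.classInner (fun h : H => (χ : G → ℂ) ⟨h, hHG h.2⟩) (ψ : H → ℂ)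 = (m : ℂ) ∧ Odd m) := by
  classical
  letI : MulDistribMulAction S G :=
    { smul := fun s g => ⟨(s : Γ) * g * (s : Γ)⁻¹, hnorm s s.2 g g.2⟩
      one_smul := fun g => Subtype.ext (show ((1 : S) : Γ) * g * ((1 : S) : Γ)⁻¹ = (g : Γ) by simp)
      mul_smul := fun a b g => Subtype.ext (show ((a * b : S) : Γ) * g * ((a * b : S) : Γ)⁻¹ =
        (a : Γ) * ((b : Γ) * g * (b : Γ)⁻¹) * (a : Γ)⁻¹ by simp [mul_assoc])
      smul_mul := fun a x y => Subtype.ext (show (a : Γ) * ((x * y : G) : Γ) * (a : Γ)⁻¹ =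
        (a : Γ) * x * (a : Γ)⁻¹ * ((a : Γ) * y * (a : Γ)⁻¹) by simp [mul_assoc])
      smul_one := fun a => Subtype.ext (show (a : Γ) * ((1 : G) : Γ) * (a : Γ)⁻¹ = ((1 : G) : Γ) by
        simp) }
  have hsm : ∀ (s : S) (g : G), ((s • g : G) : Γ) = (s : Γ) * g * (s : Γ)⁻¹ := fun _ _ => rfl
  have hLG : L ≤ G := hLK.trans hKG
  let C₁ : Subgroup G := C.subgroupOf G
  let K₁ : Subgroup G := K.subgroupOf G
  let L₁ : Subgroup G := L.subgroupOf G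
  let H₁ : Subgroup G := H.subgroupOf G
  have hK₁n : K₁.Normal := ⟨fun k hk g => hKn g g.2 k hk⟩
  have hL₁n : L₁.Normal := ⟨fun l hl g => hLn g g.2 l hl⟩
  have : Fintype L₁ := Fintype.ofFinite _
  have : Fintype L := Fintype.ofFinite _
  have : Fintype H₁ := Fintype.ofFinite _
  have hfixed : ∀ x ∈ C₁, ∀ s : S, s • x = x := by
    intro x hx s
    have hx' : (x : Γ) ∈ G ⊓ Subgroup.centralizer (S : Set Γ) := hC ▸ hx
    refine Subtype.ext ?_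
    rw [hsm, Subgroup.mem_centralizer_iff.1 hx'.2 s s.2, mul_inv_cancel_right]
  have hsupGC : K₁ ⊔ C₁ = ⊤ := by
    rw [← Subgroup.subgroupOf_sup hKG hCG, hGKC, Subgroup.subgroupOf_self]
  have hH₁ : H₁ = L₁ ⊔ C₁ := by
    rw [← Subgroup.subgroupOf_sup hLG hCG, ← hH]
  have hsA : S ≤ Subgroup.normalizer (G : Set Γ) := by
    intro s hs
    rw [Subgroup.mem_normalizer_iff]
    intro n
    exact ⟨fun h => hnorm s hs n h, fun h => by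
      simpa [mul_assoc] using hnorm s⁻¹ (inv_mem hs) _ h⟩
  have hsL : S ≤ Subgroup.normalizer (L : Set Γ) := by
    intro s hs
    rw [Subgroup.mem_normalizer_iff]
    intro n
    exact ⟨fun h => hLS s hs n h, fun h => by
      simpa [mul_assoc] using hLS s⁻¹ (inv_mem hs) _ h⟩
  have hsolvL : Group.IsSolvable L := by
    haveI := hGsolv
    exact Group.isSolvable_of_isSolvable_injective (Subgroup.inclusion_injective hLG)
  have hcoset : ∀ x : G, (∀ s : S, x⁻¹ * s • x ∈ L₁) → ∃ c ∈ C₁, x⁻¹ * c ∈ L₁ := by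
    intro x hx
    obtain ⟨n, hn, hc⟩ := CfsgLib.Coprime.exists_mem_centralizer_of_coset hsA hsL hLG hcop.symm
      (Or.inr hsolvL) x.2 fun a ha => by
        have h := hx ⟨a, ha⟩
        rw [Subgroup.mem_subgroupOf, Subgroup.coe_mul, hsm] at h
        simpa [mul_assoc] using h
    refine ⟨x * ⟨n, hLG hn⟩, ?_, ?_⟩
    · show ((x : Γ) * n) ∈ C
      rw [hC]
      exact ⟨mul_mem x.2 (hLG hn), hc⟩
    · rw [inv_mul_cancel_left]
      exact hn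
  obtain ⟨K', hK'n, hd⟩ := exists_setup (S := S) C₁ K₁ L₁ H₁ hfixed (fun x hx => hLK hx)
    (fun s x hx => hLS s s.2 x hx) (fun s x hx => hKS s s.2 x hx)
    (fun a ha b hb => hab a ha b hb) hcop hodd hsupGC hH₁ hcoset
  -- invariance in both forms
  have hinvG : ∀ χ : G → ℂ,
      (∀ s ∈ S, ∀ g g' : G, (g' : Γ) = s * g * s⁻¹ → χ g' = χ g) ↔
        ∀ (s : S) (x : G), χ (s • x) = χ x := fun χ =>
    ⟨fun h s x => h s s.2 x _ (hsm s x), fun h s hs g g' he => by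
      rw [show g' = (⟨s, hs⟩ : S) • g from Subtype.ext he, h]⟩
  let eH : H₁ ≃* H := Subgroup.subgroupOfEquivOfLe hHG
  have hinvH : ∀ ψ : H → ℂ,
      (∀ s ∈ S, ∀ g g' : H, (g' : Γ) = s * g * s⁻¹ → ψ g' = ψ g) ↔
        Inv' S fun x => ψ (eH x) := fun ψ =>
    ⟨fun h s x y hy => h s s.2 (eH x) (eH y) (congrArg Subtype.val hy), fun h s hs g g' he => by
      have := h ⟨s, hs⟩ (eH.symm g) (eH.symm g') (Subtype.ext he)
      simpa using this⟩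
  have hirrH : ∀ ψ : H → ℂ, Cfsg.IsIrrCharacter H ψ → Cfsg.IsIrrCharacter H₁ fun x => ψ (eH x) :=
    fun ψ h => CfsgLib.Char.isIrrCharacter_comp_surjective h eH.toMonoidHom eH.surjective
  have hinner : ∀ (χ : G → ℂ) (ψ : H → ℂ),
      Cfsg.classInner (fun h : H₁ => χ h) (fun x => ψ (eH x)) =
        Cfsg.classInner (fun h : H => χ ⟨h, hHG h.2⟩) ψ := fun χ ψ =>
    classInner_equiv eH (fun h : H => χ ⟨h, hHG h.2⟩) ψ
  have hconst : ∀ χ : G → ℂ, Cfsg.IsIrrCharacter G χ → (∀ (s : S) (x : G), χ (s • x) = χ x) →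
      ∃ φ : L₁ → ℂ, Cfsg.IsIrrCharacter L₁ φ ∧ Inv' S φ ∧
        Cfsg.classInner (fun l : L₁ => χ l) φ ≠ 0 := by
    intro χ hχ hχS
    haveI : (L.subgroupOf G).Normal := hL₁n
    obtain ⟨θ, hne, hθS⟩ := Cfsg.Agent.S4447.result G S L hnorm hLG hLS
      (hcop.coprime_dvd_left (Subgroup.relIndex_dvd_card L G))
      (Or.inr (by haveI := hGsolv; infer_instance)) ⟨χ, hχ⟩ ((hinvG χ).2 hχS)
    let eL : L₁ ≃* L := Subgroup.subgroupOfEquivOfLe hLG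
    refine ⟨fun x => (θ : L → ℂ) (eL x),
      CfsgLib.Char.isIrrCharacter_comp_surjective θ.2 eL.toMonoidHom eL.surjective,
      fun s x y hy => hθS s s.2 (eL x) (eL y) (congrArg Subtype.val hy), ?_⟩
    intro h0
    exact hne ((classInner_equiv eL (fun n : L => χ ⟨n, hLG n.2⟩) (θ : L → ℂ)).symm.trans h0)
  obtain ⟨h1, h2, h3⟩ := hd.correspondence hconst
  refine ⟨fun χ hχ => ?_, fun χ χ' hχ hχ' ψ hψ m m' hm hodd hm' hodd' => ?_, fun ψ hψ => ?_⟩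
  · obtain ⟨ψ₁, hψ₁, hψ₁S, ⟨m, hm, hodd⟩, huniq⟩ := h1 χ χ.2 ((hinvG χ).1 hχ)
    have hback : (fun x => ψ₁ (eH.symm (eH x))) = ψ₁ := funext fun x => by simp
    refine ⟨⟨fun x => ψ₁ (eH.symm x),
      CfsgLib.Char.isIrrCharacter_comp_surjective hψ₁ eH.symm.toMonoidHom eH.symm.surjective⟩,
      ⟨(hinvH _).2 (by rw [hback]; exact hψ₁S), m, ?_, hodd⟩, ?_⟩
    · rw [← hinner, hback]; exact hm
    · rintro ψ ⟨hψ, m', hm', hodd'⟩
      have h := huniq _ (hirrH _ ψ.2) ((hinvH _).1 hψ) ⟨m', by rw [hinner]; exact hm', hodd'⟩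
      exact Subtype.ext (funext fun x => by simpa using congrFun h (eH.symm x))
  · exact Subtype.ext (h2 χ χ' χ.2 χ'.2 ((hinvG χ).1 hχ) ((hinvG χ').1 hχ') _ (hirrH _ ψ.2)
      ((hinvH _).1 hψ) ⟨m, by rw [hinner]; exact hm, hodd⟩ ⟨m', by rw [hinner]; exact hm', hodd'⟩)
  · obtain ⟨χ, hχ, hχS, m, hm, hodd⟩ := h3 _ (hirrH _ ψ.2) ((hinvH _).1 hψ)
    exact ⟨⟨χ, hχ⟩, (hinvG χ).2 hχS, m, by rw [← hinner]; exact hm, hodd⟩

end Cfsg.Agent.S4453
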