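import Cfsg.Statements.S4454
import Cfsg.Agent.Lib.Clifford.AbelianQuot
import Cfsg.Agent.Lib.Clifford.Intertwiner
import Cfsg.Agent.Lib.Clifford.CosetAvg
import Cfsg.Agent.Lib.Clifford.FullyRamified
import Cfsg.Agent.Lib.BlockB.ClassMul
import Mathlib.Algebra.Order.Chebyshev

set_option autoImplicit false
open Cfsg

namespace Cfsg.Agent.S4454

theorem arith {ι : Type*} (s : Finset ι) (a : ι → ℕ) {m e : ℕ} (hm : s.card = m) (hm2 : 2 ≤ m)
    (hsum : ∑ i ∈ s, a i = e) (hsq : m * ∑ i ∈ s, a i ^ 2 = e ^ 2 + (m - 1)) :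
    (m : ℤ) ∣ (e : ℤ) - 1 ∨ (m : ℤ) ∣ (e : ℤ) + 1 := by
  classical
  obtain ⟨i₀, hi₀, hmin⟩ := s.exists_min_image a (Finset.card_pos.mp (by omega))
  set b : ι → ℤ := fun i => (a i : ℤ) - a i₀ with hb
  have hb0 : ∀ i ∈ s, 0 ≤ b i := fun i hi => sub_nonneg.mpr (by exact_mod_cast hmin i hi)
  have hB : ∑ i ∈ s, b i = (e : ℤ) - m * a i₀ := by
    rw [hb, Finset.sum_sub_distrib, Finset.sum_const, hm, nsmul_eq_mul, ← hsum, Nat.cast_sum]
  have hsq' : (m : ℤ) * ∑ i ∈ s, (a i : ℤ) ^ 2 = (e : ℤ) ^ 2 + ((m : ℤ) - 1) := by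
    have h := congr_arg (Nat.cast (R := ℤ)) hsq
    rw [Nat.cast_add, Nat.cast_mul, Nat.cast_sum, Nat.cast_sub (by omega)] at h
    push_cast at h
    exact h
  have hB2 : (m : ℤ) * ∑ i ∈ s, b i ^ 2 = (∑ i ∈ s, b i) ^ 2 + ((m : ℤ) - 1) := by
    have h1 : ∑ i ∈ s, b i ^ 2 = ∑ i ∈ s, (a i : ℤ) ^ 2 - 2 * a i₀ * (e : ℤ) + m * (a i₀ : ℤ) ^ 2 := by
      have h3 : ∀ i ∈ s, b i ^ 2 = (a i : ℤ) ^ 2 - 2 * a i₀ * a i + (a i₀ : ℤ) ^ 2 :=
        fun i _ => by simp only [hb]; ring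
      rw [Finset.sum_congr rfl h3, Finset.sum_add_distrib, Finset.sum_sub_distrib, Finset.sum_const,
        hm, nsmul_eq_mul, ← Finset.mul_sum, ← hsum, Nat.cast_sum]
    rw [h1, hB]
    linarith [hsq']
  set J := s.filter fun i => b i ≠ 0 with hJ
  have hJs : J ⊆ s := Finset.filter_subset _ _
  have hJ1 : ∑ i ∈ J, b i = ∑ i ∈ s, b i := Finset.sum_filter_ne_zero s
  have hJ2 : ∑ i ∈ J, b i ^ 2 = ∑ i ∈ s, b i ^ 2 :=
    Finset.sum_filter_of_ne fun i _ h => fun h0 => h (by rw [h0]; ring)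
  have hpos : ∀ i ∈ J, 1 ≤ b i := fun i hi => by
    obtain ⟨h1, h2⟩ := Finset.mem_filter.mp hi
    have := hb0 i h1
    omega
  have hcs : (∑ i ∈ J, b i) ^ 2 ≤ (J.card : ℤ) * ∑ i ∈ J, b i ^ 2 := sq_sum_le_card_mul_sum_sq
  have hlt : J.card < m := by
    rw [← hm]
    refine Finset.card_lt_card (Finset.ssubset_iff_subset_ne.mpr ⟨hJs, fun h => ?_⟩)
    have := (Finset.mem_filter.mp (h ▸ hi₀ : i₀ ∈ J)).2
    exact this (by simp [hb])
  have hk : 0 < J.card := by
    by_contra h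
    have h0 : J = ∅ := Finset.card_eq_zero.mp (by omega)
    rw [← hJ1, ← hJ2, h0] at hB2
    simp at hB2
    omega
  have hS : (J.card : ℤ) ≤ ∑ i ∈ J, b i ^ 2 := by
    have h4 : ∀ i ∈ J, (1 : ℤ) ≤ b i ^ 2 := fun i hi => by
      have := hpos i hi
      nlinarith
    calc (J.card : ℤ) = ∑ _i ∈ J, (1 : ℤ) := by simp
      _ ≤ _ := Finset.sum_le_sum h4
  rw [← hJ1, ← hJ2] at hB2
  set k : ℤ := (J.card : ℤ) with hkdef
  set S := ∑ i ∈ J, b i ^ 2 with hSdef
  have hk1 : (1 : ℤ) ≤ k := by omega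
  have hkm : k ≤ (m : ℤ) - 1 := by omega
  have h5 : ((m : ℤ) - k) * S ≤ (m : ℤ) - 1 := by linarith
  have h6 : ((m : ℤ) - k) * k ≤ ((m : ℤ) - k) * S := mul_le_mul_of_nonneg_left hS (by linarith)
  have h7 : (k - 1) * ((m : ℤ) - 1 - k) ≤ 0 := by linarith
  have h8 : k = 1 ∨ k = (m : ℤ) - 1 := by
    by_contra hcon
    push Not at hcon
    have h9 : 1 ≤ k - 1 := by omega
    have h10 : 1 ≤ (m : ℤ) - 1 - k := by omega
    nlinarith
  have hSk : S = k := by
    rcases h8 with h | h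
    · rw [h] at h5 hS ⊢
      nlinarith
    · rw [h] at h5 hS ⊢
      linarith
  have hone : ∀ i ∈ J, b i = 1 := by
    intro i hi
    have hle : ∀ j ∈ J, (1 : ℤ) ≤ b j ^ 2 := fun j hj => by
      have := hpos j hj
      nlinarith
    have heq := (Finset.sum_eq_sum_iff_of_le hle).mp (by
      rw [← hSdef, hSk, hkdef]; simp) i hi
    have := hpos i hi
    nlinarith
  have hsumk : ∑ i ∈ J, b i = k := by
    rw [Finset.sum_congr rfl hone]; simp [hkdef]
  rw [← hJ1, hsumk] at hB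
  rcases h8 with h | h
  · exact Or.inl ⟨a i₀, by linarith⟩
  · exact Or.inr ⟨(a i₀ : ℤ) + 1, by linarith⟩

/-- Let N ≤ G be normal subgroups of the finite group Γ with Γ/G cyclic and Γ/N a Frobenius group with kernel G/N: G ≠ Γ, N ≠ G, and no element of Γ outside G fixes a non-identity coset of N in G under conjugation. Let ϑ be an irreducible character of N invariant under conjugation by Γ and suppose ϑ is fully ramified in G: the character of G induced from ϑ equals e·χ for an irreducible character χ of G and a natural number e. Then the index of G in Γ divides e − 1 or e + 1. -/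
theorem result {Γ : Type*} [Group Γ] [Fintype Γ] (G N : Subgroup Γ) [hG : G.Normal] [hN : N.Normal] [Fintype G] [Fintype N] (hNG : N ≤ G) (hGlt : G ≠ ⊤) (hNlt : N ≠ G) (hcyc : IsCyclic (Γ ⧸ G)) (hfrob : ∀ x : Γ, x ∉ G → ∀ g : Γ, g ∈ G → x * g * x⁻¹ * g⁻¹ ∈ N → g ∈ N) (θ : Cfsg.IrrCharacter N) (hinv : ∀ (x : Γ) (n : N), (θ : N → ℂ) ⟨x * n * x⁻¹, hN.conj_mem n n.2 x⟩ = (θ : N → ℂ) n) (χ : Cfsg.IrrCharacter G) (e : ℕ) (hram : Cfsg.indFun (N.subgroupOf G) (fun n : N.subgroupOf G => (θ : N → ℂ) ⟨(n : G), n.2⟩) = fun g => (e : ℂ) * (χ : G → ℂ) g) : (G.index : ℤ) ∣ (e : ℤ) - 1 ∨ (G.index : ℤ) ∣ (e : ℤ) + 1 := by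
  classical
  -- `θ` on `N' = N ⊓ G` inside `G`
  set N' := N.subgroupOf G with hN'
  let θ' : N' → ℂ := fun n => (θ : N → ℂ) ⟨(n : G), n.2⟩
  have hθ' : Cfsg.IsIrrCharacter N' θ' := CfsgLib.Char.isIrrCharacter_comp_surjective θ.2
    (Subgroup.subgroupOfEquivOfLe hNG).toMonoidHom (Subgroup.subgroupOfEquivOfLe hNG).surjective
  have hinv' : ∀ g : G, CfsgLib.Clifford.conjFn g θ' = θ' := fun g => funext fun n =>
    hinv (g : Γ) ⟨(n : G), n.2⟩
  change Cfsg.indFun N' θ' = fun g => (e : ℂ) * (χ : G → ℂ) g at hram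
  have hram' : Cfsg.indFun N' θ' = (e : ℂ) • (χ : G → ℂ) := hram
  have he2 : e ^ 2 = N'.index := by
    have h1 := CfsgLib.Clifford.classInner_indFun_indFun hθ' hθ'
    rw [Nat.card_congr (Equiv.subtypeUnivEquiv hinv'), hram', CfsgLib.Char.classInner_smul_left,
      CfsgLib.Char.classInner_smul_right, CfsgLib.Char.irr_classInner_self χ.2, map_natCast,
      ← N'.card_mul_index, Nat.cast_mul, inv_mul_cancel_left₀ CfsgLib.Char.natCard_ne_zero,
      mul_one] at h1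
    rw [pow_two]
    exact_mod_cast h1
  have he0 : (e : ℂ) ≠ 0 := Nat.cast_ne_zero.mpr fun h => N'.index_ne_zero_of_finite (by
    rw [← he2, h]; rfl)
  have hoff : ∀ g : G, (g : Γ) ∉ N → (χ : G → ℂ) g = 0 := by
    intro g hg
    have h := congr_fun hram g
    rw [CfsgLib.Clifford.indFun_eq_zero_of_not_mem θ' (fun h' => hg h'), eq_comm, mul_eq_zero] at h
    exact h.resolve_left he0
  have hon : ∀ n : N, (χ : G → ℂ) ⟨n, hNG n.2⟩ = (e : ℂ) * (θ : N → ℂ) n := by
    intro n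
    have h := congr_fun (CfsgLib.Clifford.indFun_restrict θ') ⟨⟨n, hNG n.2⟩, n.2⟩
    rw [Finset.sum_congr rfl (fun g _ => hinv' g), Finset.sum_const, Finset.card_univ,
      ← Nat.card_eq_fintype_card, ← N'.card_mul_index, hram, Pi.smul_apply, Pi.smul_apply,
      nsmul_eq_mul, Nat.cast_mul, smul_eq_mul, mul_assoc,
      inv_mul_cancel_left₀ CfsgLib.Char.natCard_ne_zero, ← he2, Nat.cast_pow, pow_two, mul_assoc]
      at h
    exact mul_left_cancel₀ he0 h
  -- `χ` is invariant and extends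
  have hχinv : ∀ (y : Γ) (g : G), (χ : G → ℂ) (CfsgLib.Clifford.conjN y g) = (χ : G → ℂ) g := by
    intro y g
    by_cases hg : (g : Γ) ∈ N
    · exact (hon ⟨_, hN.conj_mem _ hg y⟩).trans
        ((congr_arg _ (hinv y ⟨g, hg⟩)).trans (hon ⟨g, hg⟩).symm)
    · rw [hoff g hg, hoff]
      intro h
      have h2 := hN.conj_mem _ h y⁻¹
      simp [CfsgLib.Clifford.coe_conjN, mul_assoc] at h2
      exact hg h2
  obtain ⟨T, hT, hTG⟩ : ∃ T : Γ → ℂ, Cfsg.IsIrrCharacter Γ T ∧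
      ∀ g : G, T g = (χ : G → ℂ) g := by
    obtain ⟨d, ρ, hρ, hρe⟩ := χ.2
    rw [← hρe] at hχinv ⊢
    exact CfsgLib.Clifford.exists_irr_extension ρ hχinv
      (CfsgLib.Clifford.one_mem_splitExps_of_isCyclic ρ
        (CfsgLib.Clifford.proj_surjective ρ hχinv))
  have hTres : Cfsg.IsIrrCharacter G (fun g : G => T g) := by
    rw [funext hTG]; exact χ.2
  -- the complement
  obtain ⟨c, hc⟩ := IsCyclic.exists_generator (α := Γ ⧸ G)
  obtain ⟨x, rfl⟩ := QuotientGroup.mk_surjective c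
  set m := G.index with hm
  have hord : orderOf (x : Γ ⧸ G) = m := by
    rw [hm, Subgroup.index_eq_card]; exact orderOf_eq_card_of_forall_mem_zpowers hc
  have hxG : x ∉ G := by
    intro h
    apply hGlt
    rw [← Subgroup.index_eq_one, ← hm, ← hord, (QuotientGroup.eq_one_iff x).mpr h, orderOf_one]
  have hm2 : 2 ≤ m := by
    have h0 : m ≠ 0 := G.index_ne_zero_of_finite
    have h1 : m ≠ 1 := fun h => hGlt (Subgroup.index_eq_one.mp h)
    omega
  have hxm : x ^ m ∈ N := by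
    refine hfrob x hxG _ ?_ ?_
    · rw [← QuotientGroup.eq_one_iff, QuotientGroup.mk_pow, ← hord, pow_orderOf_eq_one]
    · rw [show x * x ^ m * x⁻¹ * (x ^ m)⁻¹ = 1 by group]
      exact N.one_mem
  set U : Subgroup Γ := N ⊔ Subgroup.zpowers x with hU
  have hxpow : ∀ z : ℤ, x ^ z ∈ G → x ^ z ∈ N := by
    intro z hz
    rw [← QuotientGroup.eq_one_iff, QuotientGroup.mk_zpow,
      ← orderOf_dvd_iff_zpow_eq_one, hord] at hz
    obtain ⟨k, rfl⟩ := hz
    rw [zpow_mul, zpow_natCast]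
    exact N.zpow_mem hxm k
  have hUG : U ⊓ G = N := by
    refine le_antisymm ?_ (le_inf le_sup_left hNG)
    rintro u ⟨hu, huG⟩
    obtain ⟨n, hn, _, ⟨z, rfl⟩, rfl⟩ := Subgroup.mem_sup_of_normal_left.mp (hU ▸ hu)
    refine N.mul_mem hn (hxpow z ?_)
    simpa using G.mul_mem (G.inv_mem (hNG hn)) huG
  have hUtop : U ⊔ G = ⊤ := by
    rw [eq_top_iff]
    intro y _
    obtain ⟨z, hz⟩ := hc (y : Γ ⧸ G)
    have hz' : ((x ^ z : Γ) : Γ ⧸ G) = (y : Γ ⧸ G) := by rw [QuotientGroup.mk_zpow]; exact hz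
    rw [QuotientGroup.eq] at hz'
    have := Subgroup.mul_mem_sup (zpow_mem (le_sup_right (a := N) (Subgroup.mem_zpowers x) :
      x ∈ U) z) hz'
    simpa using this
  have : Fintype U := Fintype.ofFinite U
  set NU := N.subgroupOf U with hNU
  have hNUi : NU.index = m := by
    change N.relIndex U = m
    rw [← hUG, Subgroup.inf_relIndex_left, ← Subgroup.relIndex_sup_right, hUtop,
      Subgroup.relIndex_top_right]
  have hcycU : IsCyclic (U ⧸ NU) := by
    refine ⟨((⟨x, le_sup_right (a := N) (Subgroup.mem_zpowers x)⟩ : U) : U ⧸ NU), fun q => ?_⟩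
    obtain ⟨⟨u, hu⟩, rfl⟩ := QuotientGroup.mk_surjective q
    obtain ⟨n, hn, _, ⟨z, rfl⟩, rfl⟩ := Subgroup.mem_sup_of_normal_left.mp (hU ▸ hu)
    refine ⟨z, ?_⟩
    change (_ : U ⧸ NU) ^ z = _
    rw [← QuotientGroup.mk_zpow, QuotientGroup.eq, Subgroup.mem_subgroupOf]
    have h := hN.conj_mem _ hn (x ^ z)⁻¹
    simpa [mul_assoc] using h
  let θU : NU → ℂ := fun n => (θ : N → ℂ) ⟨(n : U), n.2⟩
  have hθU : Cfsg.IsIrrCharacter NU θU := CfsgLib.Char.isIrrCharacter_comp_surjective θ.2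
    (Subgroup.subgroupOfEquivOfLe (le_sup_left : N ≤ U)).toMonoidHom
    (Subgroup.subgroupOfEquivOfLe (le_sup_left : N ≤ U)).surjective
  have hinvU : ∀ u : U, CfsgLib.Clifford.conjFn u θU = θU := fun u => funext fun n =>
    hinv (u : Γ) ⟨(n : U), n.2⟩
  have habU : ∀ a b : U, a * b * a⁻¹ * b⁻¹ ∈ NU := by
    intro a b
    rw [Subgroup.mem_subgroupOf]
    refine hUG.le ⟨(a * b * a⁻¹ * b⁻¹).2, (QuotientGroup.eq_one_iff _).mp ?_⟩
    simp only [Subgroup.coe_mul, InvMemClass.coe_inv, QuotientGroup.mk_mul, QuotientGroup.mk_inv]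
    have := hcyc.commutative.is_comm.comm ((a : Γ) : Γ ⧸ G) ((b : Γ) : Γ ⧸ G)
    rw [this]
    group
  obtain ⟨e1, C, -, hC, hCcard, -, hall⟩ :=
    CfsgLib.Clifford.indFun_decomp_abelian_quot habU hθU hinvU
  have hCne : C.Nonempty := by
    refine Finset.card_pos.mp (Nat.pos_of_ne_zero fun h => ?_)
    rw [h, mul_zero] at hCcard
    exact NU.index_ne_zero_of_finite hCcard.symm
  obtain ⟨Θ, hΘ, hΘN⟩ : ∃ Θ : U → ℂ, Cfsg.IsIrrCharacter U Θ ∧ ∀ n : NU, Θ n = θU n := by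
    obtain ⟨d, ρ, hρ, hρe⟩ := hθU
    rw [← hρe] at hinvU ⊢
    exact CfsgLib.Clifford.exists_irr_extension ρ (fun u n => congr_fun (hinvU u) n)
      (CfsgLib.Clifford.one_mem_splitExps_of_isCyclic ρ
        (CfsgLib.Clifford.proj_surjective ρ (fun u n => congr_fun (hinvU u) n)))
  have he1 : e1 = 1 := by
    have hmem : Θ ∈ C := hall Θ hΘ (by
      rw [funext hΘN, CfsgLib.Char.irr_classInner_self hθU]; exact one_ne_zero)
    exact CfsgLib.Clifford.eq_one_of_extension hθU hΘN (hC Θ hmem).2.2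
  subst he1
  rw [one_pow, one_mul, hNUi] at hCcard
  -- the restriction of `T` to `U`
  set F : U → ℂ := fun u => T u with hF
  have hFc : Cfsg.IsCharacter U F :=
    CfsgLib.Char.isCharacter_restrict (CfsgLib.Char.irr_isCharacter hT) U
  choose a ha using fun ψ : C => CfsgLib.Char.classInner_isCharacter_nat hFc
    (CfsgLib.Char.irr_isCharacter (hC ψ.1 ψ.2).1)
  have hFN : ∀ n : NU, F n = (e : ℂ) * θU n := fun n =>
    (hTG ⟨(n : U), hNG n.2⟩).trans (hon ⟨(n : U), n.2⟩)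
  have hsupp : ∀ ψ, Cfsg.IsIrrCharacter U ψ → Cfsg.classInner F ψ ≠ 0 → ψ ∈ C := by
    intro ψ hψ hne
    refine hall ψ hψ fun h0 => ?_
    obtain ⟨R, hR, hFR⟩ := CfsgLib.Clifford.exists_add_of_constituent hFc hψ hne
    obtain ⟨η, hη, hηne⟩ := CfsgLib.Clifford.exists_irr_constituent_restrict (N := NU) hψ
    have hne' : η ≠ θU := fun h => hηne (h ▸ h0)
    obtain ⟨r, hr⟩ := CfsgLib.Char.classInner_isCharacter_nat
      (CfsgLib.Char.isCharacter_restrict hR NU) (CfsgLib.Char.irr_isCharacter hη)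
    obtain ⟨k, hk⟩ := CfsgLib.Char.classInner_isCharacter_nat
      (CfsgLib.Char.isCharacter_restrict (CfsgLib.Char.irr_isCharacter hψ) NU)
      (CfsgLib.Char.irr_isCharacter hη)
    have h1 : Cfsg.classInner (fun n : NU => F n) η = 0 := by
      rw [show (fun n : NU => F n) = (e : ℂ) • θU from funext hFN,
        CfsgLib.Char.classInner_smul_left,
        CfsgLib.Char.irr_classInner_ne hθU hη (Ne.symm hne'), mul_zero]
    rw [show (fun n : NU => F n) = (fun n : NU => ψ n) + (fun n : NU => R n) from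
      funext fun n => congr_fun hFR n, CfsgLib.Char.classInner_add_left, hr, hk] at h1
    have h2 : k + r = 0 := by exact_mod_cast h1
    exact hηne (by rw [hk, show k = 0 by omega, Nat.cast_zero])
  have hFsum : F = ∑ ψ : C, (a ψ : ℂ) • (ψ : U → ℂ) := by
    have := Fintype.ofFinite (Cfsg.IrrCharacter U)
    have hexp := CfsgLib.Char.classFunction_eq_sum (CfsgLib.Char.isCharacter_isClassFunction hFc)
    let ι : C ↪ Cfsg.IrrCharacter U :=
      ⟨fun ψ => ⟨ψ.1, (hC ψ.1 ψ.2).1⟩, fun p q h => Subtype.ext (congr_arg Subtype.val h :)⟩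
    rw [← Finset.sum_subset (Finset.subset_univ (Finset.univ.map ι)) ?_, Finset.sum_map] at hexp
    · refine hexp.trans (Finset.sum_congr rfl fun ψ _ => ?_)
      show Cfsg.classInner F (ψ : U → ℂ) • (ψ : U → ℂ) = _
      rw [ha ψ]
    · intro ψ _ hψ
      by_cases h : Cfsg.classInner F ψ.1 = 0
      · rw [h, zero_smul]
      · exact absurd ((Finset.mem_map.mpr ⟨(⟨ψ.1, hsupp ψ.1 ψ.2 h⟩ : C), Finset.mem_univ _,
          Subtype.ext rfl⟩ : ψ ∈ Finset.univ.map ι)) hψ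
  have hsum : ∑ ψ : C, a ψ = e := by
    have h := congr_fun hFsum 1
    rw [Finset.sum_apply] at h
    have h1 := hFN 1
    simp only [OneMemClass.coe_one] at h1
    rw [h1, Finset.sum_congr rfl (fun ψ _ => show ((a ψ : ℂ) • (ψ : U → ℂ)) 1 =
      (a ψ : ℂ) * θU 1 by rw [Pi.smul_apply, smul_eq_mul, (hC ψ.1 ψ.2).2.1, Nat.cast_one, one_mul]),
      ← Finset.sum_mul] at h
    exact_mod_cast (mul_right_cancel₀ (CfsgLib.Char.irr_apply_one_ne_zero hθU) h).symm
  have hinner : Cfsg.classInner F F = ((∑ ψ : C, a ψ ^ 2 : ℕ) : ℂ) := by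
    conv_lhs => arg 2; rw [hFsum]
    rw [CfsgLib.Char.classInner_sum_right, Nat.cast_sum]
    refine Finset.sum_congr rfl fun ψ _ => ?_
    rw [CfsgLib.Char.classInner_smul_right, ha ψ, map_natCast, Nat.cast_pow, pow_two]
  -- the norm of the restriction
  set f : Γ → ℂ := fun y => T y * starRingEnd ℂ (T y) with hf
  have havg : ∀ y : Γ, ∑ g : G, f ((g : Γ) * y) = (Nat.card G : ℂ) := by
    intro y
    have h := congr_fun (CfsgLib.Clifford.cosetAvg_normSq_eq_one G (CfsgLib.Char.irr_isCharacter hT)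
      hTres) y
    rw [CfsgLib.Clifford.cosetAvg] at h
    rw [inv_mul_eq_iff_eq_mul₀ CfsgLib.Char.natCard_ne_zero, mul_one] at h
    exact h
  have hout : ∑ y : {y : Γ // y ∉ G}, f y = (Nat.card {y : Γ // y ∉ G} : ℂ) := by
    apply mul_left_cancel₀ (CfsgLib.Char.natCard_ne_zero (G := G))
    have h1 : ∀ g : G, ∑ y : {y : Γ // y ∉ G}, f ((g : Γ) * y) = ∑ y : {y : Γ // y ∉ G}, f y :=
      fun g => Fintype.sum_equiv
        ((Equiv.mulLeft (g : Γ)).subtypeEquiv fun y => (G.mul_mem_cancel_left g.2).not.symm) _ _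
        fun y => rfl
    calc (Nat.card G : ℂ) * ∑ y : {y : Γ // y ∉ G}, f y
        = ∑ g : G, ∑ y : {y : Γ // y ∉ G}, f ((g : Γ) * y) := by
          rw [Finset.sum_congr rfl (fun g _ => h1 g), Finset.sum_const, Finset.card_univ,
            ← Nat.card_eq_fintype_card, nsmul_eq_mul]
      _ = ∑ y : {y : Γ // y ∉ G}, ∑ g : G, f ((g : Γ) * y) := Finset.sum_comm
      _ = _ := by
          rw [Finset.sum_congr rfl (fun y _ => havg _), Finset.sum_const, Finset.card_univ,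
            ← Nat.card_eq_fintype_card, nsmul_eq_mul, mul_comm]
  have hcardout : ∀ H : Subgroup Γ, Nat.card {h : H // (h : Γ) ∉ G} + Nat.card {h : H // (h : Γ) ∈ G}
      = Nat.card H := fun H => by
    rw [← Nat.card_congr (Equiv.sumCompl fun h : H => (h : Γ) ∈ G), Nat.card_sum, add_comm]
  have hcardU : Nat.card U = Nat.card N * m := by
    rw [← hNUi, ← NU.card_mul_index,
      Nat.card_congr (Subgroup.subgroupOfEquivOfLe (le_sup_left : N ≤ U)).toEquiv]
  let eIn : {u : U // (u : Γ) ∈ G} ≃ N :=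
    { toFun := fun u => ⟨(u.1 : Γ), hUG.le ⟨u.1.2, u.2⟩⟩
      invFun := fun n => ⟨⟨n, le_sup_left (b := Subgroup.zpowers x) n.2⟩, hNG n.2⟩
      left_inv := fun u => rfl
      right_inv := fun n => rfl }
  have hUout : Nat.card {u : U // (u : Γ) ∉ G} = Nat.card N * (m - 1) := by
    have h := hcardout U
    rw [Nat.card_congr eIn, hcardU] at h
    rw [Nat.mul_sub, mul_one]
    omega
  have hGout : Nat.card {y : Γ // y ∉ G} = Nat.card G * (m - 1) := by
    have h : Nat.card {y : Γ // y ∉ G} + Nat.card G = Nat.card G * m := by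
      rw [hm, G.card_mul_index, ← Nat.card_congr (Equiv.sumCompl fun y : Γ => y ∈ G), Nat.card_sum,
        add_comm]
    rw [Nat.mul_sub, mul_one]
    omega
  have hcardG : Nat.card G = Nat.card N * N'.index := by
    rw [← N'.card_mul_index, Nat.card_congr (Subgroup.subgroupOfEquivOfLe hNG).toEquiv]
  -- transport along the Frobenius partition
  let Φ : (G ⧸ N') × {u : U // (u : Γ) ∉ G} → {y : Γ // y ∉ G} := fun p =>
    ⟨(p.1.out : Γ) * (p.2.1 : Γ) * (p.1.out : Γ)⁻¹, fun h => p.2.2 (by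
      have := hG.conj_mem _ h (p.1.out : Γ)⁻¹
      simpa [mul_assoc] using this)⟩
  have hΦ : Function.Injective Φ := by
    rintro ⟨q, u⟩ ⟨q', u'⟩ h
    have h' : (q.out : Γ) * (u.1 : Γ) * (q.out : Γ)⁻¹ = (q'.out : Γ) * (u'.1 : Γ) * (q'.out : Γ)⁻¹ :=
      congr_arg Subtype.val h
    set k : Γ := (q'.out : Γ)⁻¹ * (q.out : Γ) with hk
    have hkG : k ∈ G := G.mul_mem (G.inv_mem q'.out.2) q.out.2
    have hconj : k * (u.1 : Γ) * k⁻¹ = (u'.1 : Γ) := by
      rw [hk, mul_inv_rev, inv_inv]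
      calc _ = (q'.out : Γ)⁻¹ * ((q.out : Γ) * (u.1 : Γ) * (q.out : Γ)⁻¹) * (q'.out : Γ) := by group
        _ = _ := by rw [h']; group
    have hmem : (u'.1 : Γ) * (u.1 : Γ)⁻¹ ∈ N := by
      refine hUG.le ⟨U.mul_mem u'.1.2 (U.inv_mem u.1.2), ?_⟩
      rw [← hconj]
      have h1 := G.mul_mem hkG (hG.conj_mem _ (G.inv_mem hkG) (u.1 : Γ))
      show k * (u.1 : Γ) * k⁻¹ * (u.1 : Γ)⁻¹ ∈ G
      simpa [mul_assoc] using h1
    have hkN : k ∈ N := hfrob _ u.2 k hkG (by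
      have h1 := N.inv_mem hmem
      rw [← hconj] at h1
      simpa [mul_assoc] using h1)
    have hq : q = q' := by
      rw [← q.out_eq, ← q'.out_eq]
      refine (QuotientGroup.eq.mpr ?_).symm
      rw [Subgroup.mem_subgroupOf]
      exact hkN
    subst hq
    refine Prod.ext rfl (Subtype.ext (Subtype.ext ?_))
    have : k = 1 := inv_mul_cancel _
    rw [this] at hconj
    simpa using hconj
  have hΦb : Function.Bijective Φ := by
    rw [Fintype.bijective_iff_injective_and_card]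
    refine ⟨hΦ, ?_⟩
    rw [← Nat.card_eq_fintype_card, ← Nat.card_eq_fintype_card, Nat.card_prod, hUout, hGout,
      hcardG, ← Subgroup.index_eq_card]
    ring
  have hUsum : ∑ u : {u : U // (u : Γ) ∉ G}, f u.1 = (Nat.card N : ℂ) * ((m - 1 : ℕ) : ℂ) := by
    have h := Fintype.sum_bijective Φ hΦb (fun p => f (p.2.1 : Γ)) (fun y => f y) (fun p => by
      have hcl := CfsgLib.Char.irr_isClassFunction hT
      simp only [hf, Φ]
      rw [show ∀ a b : Γ, T (b * a * b⁻¹) = T a from fun a b => hcl _ _])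
    rw [Fintype.sum_prod_type] at h
    simp only [Finset.sum_const, Finset.card_univ] at h
    rw [hout, hGout, hcardG,
      ← Nat.card_eq_fintype_card, ← Subgroup.index_eq_card, nsmul_eq_mul] at h
    apply mul_left_cancel₀ (Nat.cast_ne_zero.mpr N'.index_ne_zero_of_finite : (N'.index : ℂ) ≠ 0)
    rw [h]
    push_cast
    ring
  have hNsum : ∑ u : {u : U // (u : Γ) ∈ G}, f u.1 = (Nat.card N : ℂ) * (e : ℂ) ^ 2 := by
    have h1 := CfsgLib.Char.irr_classInner_self θ.2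
    rw [CfsgLib.Char.classInner_def, inv_mul_eq_iff_eq_mul₀ CfsgLib.Char.natCard_ne_zero,
      mul_one] at h1
    rw [← h1, Finset.sum_mul]
    refine Fintype.sum_equiv eIn _ _ fun u => ?_
    have h2 : T (u.1 : Γ) = (e : ℂ) * (θ : N → ℂ) (eIn u) :=
      (hTG ⟨(u.1 : Γ), u.2⟩).trans (hon (eIn u))
    simp only [hf, h2, map_mul, map_natCast]
    ring
  have hnat : m * ∑ ψ : C, a ψ ^ 2 = e ^ 2 + (m - 1) := by
    have h : (Nat.card U : ℂ) * Cfsg.classInner F F = ∑ u : U, f u := by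
      rw [CfsgLib.Char.classInner_def, mul_inv_cancel_left₀ CfsgLib.Char.natCard_ne_zero]
    rw [← Fintype.sum_subtype_add_sum_subtype (fun u : U => (u : Γ) ∈ G), hNsum, hUsum, hinner,
      hcardU] at h
    have h2 : (Nat.card N : ℂ) * ((m * ∑ ψ : C, a ψ ^ 2 : ℕ) : ℂ) =
        (Nat.card N : ℂ) * ((e ^ 2 + (m - 1) : ℕ) : ℂ) := by
      rw [Nat.cast_add, mul_add, Nat.cast_pow, ← h]
      push_cast
      ring
    exact_mod_cast mul_left_cancel₀ CfsgLib.Char.natCard_ne_zero h2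
  have := arith (Finset.univ : Finset C) a (m := m) (e := e)
    (by rw [Finset.card_univ, Fintype.card_coe, hCcard]) hm2 hsum hnat
  exact this

end Cfsg.Agent.S4454
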