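import Cfsg.Statements.S4460
import Cfsg.Agent.Lib.ThreeDeg.Main

set_option autoImplicit false
open Cfsg

namespace Cfsg.Agent.S4460

/-- A finite group with exactly three distinct irreducible character degrees is solvable of derived length at most 3: its third derived subgroup is trivial. -/
theorem result {G : Type*} [Group G] [Finite G] (hcd : Nat.card {n : ℕ // ∃ χ : Cfsg.IrrCharacter G, Cfsg.charDegree (χ : G → ℂ) = n} = 3) : derivedSeries G 3 = ⊥ := by
  classical
  obtain ⟨a, b, h⟩ : ∃ a b : ℕ, CfsgLib.ThreeDeg.D3 G a b := by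
    let T := {n : ℕ // ∃ χ : Cfsg.IrrCharacter G, Cfsg.charDegree (χ : G → ℂ) = n}
    have hfin : Finite T := Nat.finite_of_card_ne_zero (by rw [hcd]; omega)
    have := Fintype.ofFinite T
    have h1 : Cfsg.charDegree (fun _ : G => (1 : ℂ)) = 1 := by
      have : (Cfsg.charDegree (fun _ : G => (1 : ℂ)) : ℂ) = 1 :=
        CfsgLib.ThreeDeg.cast_deg CfsgLib.Char.isIrrCharacter_one
      exact_mod_cast this
    let one : T := ⟨1, ⟨_, CfsgLib.Char.isIrrCharacter_one⟩, h1⟩
    have hc : ((Finset.univ : Finset T).erase one).card = 2 := by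
      rw [Finset.card_erase_of_mem (Finset.mem_univ _), Finset.card_univ,
        ← Nat.card_eq_fintype_card, hcd]
    obtain ⟨x, y, -, hxy⟩ := Finset.card_eq_two.mp hc
    refine ⟨x.1, y.1, fun χ hχ => ?_⟩
    by_cases hd : Cfsg.charDegree χ = 1
    · exact Or.inl hd
    · have hm : (⟨Cfsg.charDegree χ, ⟨χ, hχ⟩, rfl⟩ : T) ∈ (Finset.univ : Finset T).erase one :=
        Finset.mem_erase.mpr ⟨fun he => hd (congr_arg Subtype.val he), Finset.mem_univ _⟩
      rw [hxy, Finset.mem_insert, Finset.mem_singleton] at hm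
      exact Or.inr (hm.imp (congr_arg Subtype.val) (congr_arg Subtype.val))
  exact CfsgLib.ThreeDeg.main _ G le_rfl a b h

end Cfsg.Agent.S4460
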