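import Cfsg.Statements.S4461
import Cfsg.Agent.Lib.Clifford.Constituents
import Cfsg.Agent.Lib.Clifford.Cover
import Cfsg.Agent.Lib.BlockB.Codegree
import Cfsg.Agent.Lib.Comp.Subnormal

set_option autoImplicit false
open Cfsg

namespace Cfsg.Agent.S4461

theorem exists_setup {G : Type*} [Group G] [Finite G] (K : Subgroup G) [K.Normal]
    (h : ¬ K ≤ Cfsg.fittingSubgroup G ∨
      (K = Cfsg.fittingSubgroup G ∧ Group.IsSolvable (G ⧸ K) ∧ K ≠ ⊤)) :
    ∃ M : Subgroup G, M.Normal ∧ K ≤ M ∧
      (∀ L : Subgroup G, L.Normal → K ≤ L → L ≤ M → L = K ∨ L = M) ∧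
      (M = K ∨ ⁅M, M⁆ ≤ K) ∧
      ∃ (p : ℕ) (_ : p.Prime) (P : Sylow p M),
        ¬ ((P : Subgroup M).map M.subtype).Normal ∧ K ⊔ (P : Subgroup M).map M.subtype = M := by
  classical
  have hnonnil : ∀ M : Subgroup G, M.Normal → ¬ M ≤ Cfsg.fittingSubgroup G →
      ∃ (p : ℕ) (_ : p.Prime) (P : Sylow p M), ¬ ((P : Subgroup M).map M.subtype).Normal := by
    intro M hM hle
    by_contra hcon
    push Not at hcon
    apply hle
    refine le_sSup ⟨hM, ((Group.isNilpotent_of_finite_tfae (G := M)).out 0 3).mpr ?_⟩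
    intro p hp P
    have h1 := hcon p hp.out P
    have h2 := Subgroup.comap_map_eq_self_of_injective M.subtype_injective (P : Subgroup M)
    rw [← h2]
    exact h1.comap M.subtype
  rcases h with h | ⟨hKF, hsol, hne⟩
  · obtain ⟨p, hp, P, hP⟩ := hnonnil K inferInstance h
    exact ⟨K, inferInstance, le_rfl, fun L _ h1 h2 => Or.inl (le_antisymm h2 h1), Or.inl rfl,
      p, hp, P, hP, sup_eq_left.mpr (Subgroup.map_subtype_le _)⟩
  · obtain ⟨M, ⟨hMn, hKM, hMK⟩, hmin⟩ := exists_minimal_of_wellFoundedLT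
      (fun M : Subgroup G => M.Normal ∧ K ≤ M ∧ M ≠ K) ⟨⊤, inferInstance, le_top, Ne.symm hne⟩
    have hchief : ∀ L : Subgroup G, L.Normal → K ≤ L → L ≤ M → L = K ∨ L = M := by
      intro L hL hKL hLM
      by_cases hLK : L = K
      · exact Or.inl hLK
      · exact Or.inr (le_antisymm hLM (hmin ⟨hL, hKL, hLK⟩ hLM))
    have hab : ⁅M, M⁆ ≤ K := by
      rcases hchief (⁅M, M⁆ ⊔ K) inferInstance le_sup_right
        (sup_le (Subgroup.commutator_le_left M M) hKM) with h | h
      · exact le_sup_left.trans h.le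
      · exfalso
        have h1 : ⁅M.map (QuotientGroup.mk' K), M.map (QuotientGroup.mk' K)⁆ =
            M.map (QuotientGroup.mk' K) := by
          conv_rhs => rw [← h]
          rw [Subgroup.map_sup, QuotientGroup.map_mk'_self, sup_bot_eq, Subgroup.map_commutator]
        refine (Group.IsSolvable.commutator_lt_of_ne_bot ?_).ne h1
        rw [Ne, Subgroup.map_eq_bot_iff, QuotientGroup.ker_mk']
        exact fun hle' => hMK (le_antisymm hle' hKM)
    obtain ⟨p, hp, P, hP⟩ := hnonnil M hMn fun hle => hMK (le_antisymm (hKF ▸ hle) hKM)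
    refine ⟨M, hMn, hKM, hchief, Or.inr hab, p, hp, P, hP, ?_⟩
    haveI := Fact.mk hp
    set P' := (P : Subgroup M).map M.subtype with hP'
    have hP'M : P' ≤ M := Subgroup.map_subtype_le _
    have hle : K ⊔ P' ≤ M := sup_le hKM hP'M
    have hn : (K ⊔ P').Normal := by
      rw [← Subgroup.normalizer_eq_top_iff, eq_top_iff, ← Sylow.normalizer_sup_eq_top P, ← hP']
      refine sup_le ((le_inf (le_top.trans (Subgroup.normalizer_eq_top_iff.mpr (‹K.Normal›)).ge) le_rfl).trans
        (Subgroup.normalizer_inf_normalizer_le_normalizer_sup _ _)) fun m hm => ?_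
      rw [Subgroup.mem_normalizer_iff]
      intro y
      have key : ∀ m ∈ M, ∀ y ∈ K ⊔ P', m * y * m⁻¹ ∈ K ⊔ P' := fun m hm y hy => by
        have h1 := le_sup_left (b := P') (hab (Subgroup.commutator_mem_commutator hm (hle hy)))
        simpa [commutatorElement_def] using Subgroup.mul_mem _ h1 hy
      refine ⟨key m hm y, fun hy => ?_⟩
      simpa [mul_assoc] using key m⁻¹ (M.inv_mem hm) _ hy
    rcases hchief _ hn le_sup_left hle with h1 | h1
    · exfalso
      apply hP
      have hP'K : P' ≤ K := le_sup_right.trans h1.le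
      have hnil : Group.IsNilpotent K := by
        rw [hKF]; exact CfsgLib.Comp.isNilpotent_fittingSubgroup G
      obtain ⟨S, hS⟩ := (P.isPGroup'.map M.subtype |>.comap_subtype (K := K)).exists_le_sylow
      have hSn : (S : Subgroup K).Normal :=
        (((Group.isNilpotent_of_finite_tfae (G := K)).out 0 3 : Group.IsNilpotent K ↔
          ∀ (p : ℕ) (_ : Fact p.Prime) (S : Sylow p K), (S : Subgroup K).Normal)).mp hnil p ⟨hp⟩ S
      have hSc := Sylow.characteristic_of_normal S hSn
      have hmapn : ((S : Subgroup K).map K.subtype).Normal := inferInstance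
      have hle' : P' ≤ (S : Subgroup K).map K.subtype := fun x hx =>
        ⟨⟨x, hP'K hx⟩, hS hx, rfl⟩
      have hSM : (S : Subgroup K).map K.subtype ≤ M := (Subgroup.map_subtype_le _).trans hKM
      have heq := P.is_maximal'
        ((S.isPGroup'.map K.subtype).comap_of_injective M.subtype M.subtype_injective)
        (fun x hx => hle' ⟨x, hx, rfl⟩)
      rw [hP', ← heq, Subgroup.map_comap_eq, Subgroup.range_subtype, inf_of_le_right hSM]
      exact hmapn
    · exact h1

/-- Let χ be an irreducible character of the finite group G and K its kernel (the elements where χ takes the value χ(1)). Suppose either that K is not contained in the Fitting subgroup F(G), or that K = F(G) with G/K solvable and K ≠ G. Then there is an irreducible character ψ of G with ψ(1) > χ(1) whose kernel is properly contained in K. -/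
theorem result {G : Type*} [Group G] [Finite G] (χ : Cfsg.IrrCharacter G) (K : Subgroup G) [K.Normal] (hK : (∀ g : G, g ∈ K ↔ (χ : G → ℂ) g = (χ : G → ℂ) 1)) (h : ¬ K ≤ Cfsg.fittingSubgroup G ∨ (K = Cfsg.fittingSubgroup G ∧ Group.IsSolvable (G ⧸ K) ∧ K ≠ ⊤)) : ∃ ψ : Cfsg.IrrCharacter G, Cfsg.charDegree (χ : G → ℂ) < Cfsg.charDegree (ψ : G → ℂ) ∧ ∃ L : Subgroup G, (∀ g : G, g ∈ L ↔ (ψ : G → ℂ) g = (ψ : G → ℂ) 1) ∧ L < K := by
  classical
  have := Fintype.ofFinite G
  have hF : (Cfsg.fittingSubgroup G).Normal := CfsgLib.Comp.fittingSubgroup_normal G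
  obtain ⟨M, hMn, hKM, hchief, hMK, p, hp, P, hPn, hKP⟩ := exists_setup K h
  haveI := Fact.mk hp
  set P' : Subgroup G := (P : Subgroup M).map M.subtype with hP'
  have hfrat := Sylow.normalizer_sup_eq_top P
  rw [← hP'] at hfrat
  have hNne : Subgroup.normalizer (P' : Set G) ≠ ⊤ := fun hN =>
    hPn (Subgroup.normalizer_eq_top_iff.mp hN)
  obtain ⟨H, hHc, hNH⟩ := (eq_top_or_exists_le_coatom (Subgroup.normalizer (P' : Set G))).resolve_left hNne
  have hPH : P' ≤ H := Subgroup.le_normalizer.trans hNH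
  have hKH : K ⊔ H = ⊤ := top_le_iff.mp (hfrat ▸ sup_le (hNH.trans le_sup_right)
    (hKP ▸ sup_le le_sup_left (hPH.trans le_sup_right)))
  have := Fintype.ofFinite H
  -- restriction of a character with kernel supplementing `H` is irreducible
  have hres : ∀ (ψ : Cfsg.IrrCharacter G) (L : Subgroup G), L ≤ CfsgLib.BlockB.charKer ψ →
      L ⊔ H = ⊤ → Cfsg.IsIrrCharacter H (fun x : H => (ψ : G → ℂ) x) := by
    intro ψ L hL hsup
    obtain ⟨ψ', hψ', -, -⟩ := CfsgLib.BlockB.exists_faithful_lift ψ
    have hfun : (fun x : H => (ψ : G → ℂ) x) = (ψ' : G ⧸ CfsgLib.BlockB.charKer ψ → ℂ) ∘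
        ((QuotientGroup.mk' (CfsgLib.BlockB.charKer ψ)).comp H.subtype) :=
      funext fun x => (hψ' x).symm
    rw [hfun]
    refine CfsgLib.Char.isIrrCharacter_comp_surjective ψ'.2 _ fun q => ?_
    obtain ⟨g, rfl⟩ := QuotientGroup.mk_surjective q
    have hg : g ∈ CfsgLib.BlockB.charKer ψ ⊔ H :=
      sup_le_sup_right hL H (hsup.symm ▸ Subgroup.mem_top g)
    obtain ⟨l, hl, x, hx, rfl⟩ := Subgroup.mem_sup_of_normal_left.mp hg
    refine ⟨⟨x, hx⟩, ?_⟩
    change ((x : G) : G ⧸ CfsgLib.BlockB.charKer ψ) = (l * x : G)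
    rw [QuotientGroup.mk_mul, (QuotientGroup.eq_one_iff l).mpr hl, one_mul]
  set φ : H → ℂ := fun x => (χ : G → ℂ) x with hφdef
  have hKker : K ≤ CfsgLib.BlockB.charKer χ := fun g hg => (hK g).mp hg
  have hφ : Cfsg.IsIrrCharacter H φ := hres χ K hKker hKH
  set d := Cfsg.charDegree (χ : G → ℂ) with hd
  have hd1 : (χ : G → ℂ) 1 = (d : ℂ) :=
    (CfsgLib.BlockB.charDegree_cast (CfsgLib.Char.irr_isCharacter χ.2)).symm
  have hd0 : (d : ℂ) ≠ 0 := hd1 ▸ CfsgLib.Char.irr_apply_one_ne_zero χ.2
  -- a constituent of the induced character of larger degree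
  obtain ⟨ψ, hψne, hψd⟩ : ∃ ψ : Cfsg.IrrCharacter G,
      Cfsg.classInner (fun x : H => (ψ : G → ℂ) x) φ ≠ 0 ∧ d < Cfsg.charDegree (ψ : G → ℂ) := by
    by_contra hcon
    push Not at hcon
    have hFc := CfsgLib.Char.isCharacter_indFun H (CfsgLib.Char.irr_isCharacter hφ)
    obtain ⟨l, hl, hsum⟩ := CfsgLib.Char.isCharacter_exists_multiset hFc
    have hall : ∀ μ ∈ l, (fun x : H => μ x) = φ := by
      intro μ hμ
      obtain ⟨l', hl'⟩ := Multiset.exists_cons_of_mem hμ
      have hμirr := hl μ hμ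
      have hne : Cfsg.classInner (fun x : H => μ x) φ ≠ 0 := by
        intro h0
        have h1 := CfsgLib.Char.frobenius_reciprocity H φ μ (CfsgLib.Char.irr_isClassFunction hμirr)
        rw [← CfsgLib.Char.classInner_conj_symm (fun x : H => μ x) φ, h0, map_zero] at h1
        obtain ⟨r, hr⟩ := CfsgLib.Char.classInner_isCharacter_nat
          (CfsgLib.Char.isCharacter_multiset_sum (l := l') fun ξ hξ =>
            CfsgLib.Char.irr_isCharacter (hl ξ (hl' ▸ Multiset.mem_cons_of_mem hξ)))
          (CfsgLib.Char.irr_isCharacter hμirr)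
        rw [hsum, hl', Multiset.sum_cons, CfsgLib.Char.classInner_add_left,
          CfsgLib.Char.irr_classInner_self hμirr, hr] at h1
        have h2 : 1 + r = 0 := by exact_mod_cast h1
        omega
      obtain ⟨R, hR, hμR⟩ := CfsgLib.Clifford.exists_add_of_constituent
        (CfsgLib.Char.isCharacter_restrict (CfsgLib.Char.irr_isCharacter hμirr) H) hφ hne
      obtain ⟨r, hr⟩ := CfsgLib.Char.char_apply_one_eq_nat hR
      have h1 := congr_fun hμR 1
      simp only [OneMemClass.coe_one, Pi.add_apply, hφdef, hd1, hr] at h1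
      rw [← CfsgLib.BlockB.charDegree_cast (CfsgLib.Char.irr_isCharacter hμirr)] at h1
      have h2 : Cfsg.charDegree μ = d + r := by exact_mod_cast h1
      have h3 := hcon ⟨μ, hμirr⟩ hne
      have hr0 : r = 0 := by
        have : Cfsg.charDegree μ ≤ d := h3
        omega
      rw [hμR, CfsgLib.Clifford.eq_zero_of_apply_one_eq_zero hR (by rw [hr, hr0, Nat.cast_zero]),
        add_zero]
    have hev : ∀ g, Cfsg.indFun H φ g = (l.map fun μ => μ g).sum := fun g =>
      (congr_fun hsum g).trans (map_multiset_sum (Pi.evalAddMonoidHom (fun _ : G => ℂ) g) l)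
    have hval : ∀ x : H, Cfsg.indFun H φ x = (Multiset.card l : ℂ) * φ x := fun x => by
      rw [hev, Multiset.map_congr rfl (fun μ hμ => congr_fun (hall μ hμ) x), Multiset.map_const',
        Multiset.sum_replicate, nsmul_eq_mul]
    have hr : (Multiset.card l : ℂ) = (H.index : ℂ) := by
      have h1 := hval 1
      rw [OneMemClass.coe_one, CfsgLib.Char.indFun_apply_one] at h1
      exact (mul_right_cancel₀ (CfsgLib.Char.irr_apply_one_ne_zero hφ) h1).symm
    have hC : ∀ x : H, (χ : G → ℂ) x ≠ 0 → (x : G) ∈ H.normalCore := by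
      intro x hx
      have h1 := hval x
      have hterm : ∀ y : G, Cfsg.extendByZero H φ (y⁻¹ * x * y) =
          if y⁻¹ * x * y ∈ H then (χ : G → ℂ) x else 0 := by
        intro y
        split_ifs with hy
        · rw [CfsgLib.Char.extendByZero_of_mem φ hy]
          have := CfsgLib.Char.irr_isClassFunction χ.2 (x : G) y⁻¹
          simpa [hφdef] using this
        · exact CfsgLib.Char.extendByZero_of_not_mem φ hy
      rw [CfsgLib.Char.indFun_def, Finset.sum_congr rfl (fun y _ => hterm y), ← Finset.sum_filter,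
        Finset.sum_const, nsmul_eq_mul, hr, hφdef, inv_mul_eq_iff_eq_mul₀
          CfsgLib.Char.natCard_ne_zero, ← mul_assoc, ← Nat.cast_mul, mul_comm (Nat.card H),
        H.index_mul_card] at h1
      have h2 := Nat.cast_inj.mp (mul_right_cancel₀ hx h1)
      rw [Nat.card_eq_fintype_card, ← Finset.card_univ] at h2
      have h3 := Finset.eq_univ_of_card _ h2
      intro y
      have h4 := (Finset.mem_filter.mp (h3.symm ▸ Finset.mem_univ y⁻¹ :
        y⁻¹ ∈ Finset.univ.filter fun z : G => z⁻¹ * x * z ∈ H)).2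
      simpa using h4
    set C := H.normalCore with hCdef
    have hCH : C ≤ H := Subgroup.normalCore_le H
    have hD : ∀ x ∈ K, x ∈ H → x ∈ C := fun x hx hxH => hC ⟨x, hxH⟩ (by
      rw [(hK x).mp hx]; exact CfsgLib.Char.irr_apply_one_ne_zero χ.2)
    have hdec : ∀ x ∈ M, ∃ k ∈ K, ∃ y ∈ P', k * y = x := fun x hx =>
      Subgroup.mem_sup_of_normal_left.mp (hKP.symm ▸ hx)
    have hMH : M ⊓ H ≤ C := by
      rcases hchief (K ⊔ (M ⊓ C)) inferInstance le_sup_left (sup_le hKM inf_le_left) with hc | hc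
      · -- `χ` vanishes on `M` outside `K`
        have hMC : M ⊓ C ≤ K := le_sup_right.trans hc.le
        by_cases hMe : M = K
        · exact fun x hx => hD x (hMe ▸ hx.1) hx.2
        · exfalso
          have hvan : ∀ x ∈ M, x ∉ K → (χ : G → ℂ) x = 0 := by
            intro x hx hxK
            obtain ⟨k, hk, y, hy, rfl⟩ := hdec x hx
            have hky : (χ : G → ℂ) (k * y) = (χ : G → ℂ) y := by
              obtain ⟨ψ', hψ', -, -⟩ := CfsgLib.BlockB.exists_faithful_lift χ
              rw [← hψ', ← hψ', QuotientGroup.mk_mul, (QuotientGroup.eq_one_iff k).mpr (hKker hk),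
                one_mul]
            rw [hky]
            by_contra h0
            have hyM : y ∈ M := hKP ▸ le_sup_right (a := K) hy
            exact hxK (K.mul_mem hk (hMC ⟨hyM, hC ⟨y, hPH hy⟩ h0⟩))
          -- hence its restriction to `M` contains the trivial character
          have := Fintype.ofFinite M
          let one' : M → ℂ := fun _ => 1
          have hone : Cfsg.IsIrrCharacter M one' := CfsgLib.Char.isIrrCharacter_one
          have hne : Cfsg.classInner (fun x : M => (χ : G → ℂ) x) one' ≠ 0 := by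
            rw [CfsgLib.Char.classInner_def, ← Finset.sum_subset (Finset.subset_univ
              (Finset.univ.filter fun x : M => (x : G) ∈ K)) (fun x _ hx => by
                rw [hvan x x.2 fun h' => hx (Finset.mem_filter.mpr ⟨Finset.mem_univ _, h'⟩),
                  zero_mul]),
              Finset.sum_congr rfl (fun (x : M) hx => show (χ : G → ℂ) (x : G) * starRingEnd ℂ (one' x) =
                (d : ℂ) by rw [(hK _).mp (Finset.mem_filter.mp hx).2, hd1, map_one, mul_one]),
              Finset.sum_const, nsmul_eq_mul]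
            refine mul_ne_zero (inv_ne_zero CfsgLib.Char.natCard_ne_zero) (mul_ne_zero ?_ hd0)
            exact Nat.cast_ne_zero.mpr (Finset.card_ne_zero.mpr
              ⟨1, Finset.mem_filter.mpr ⟨Finset.mem_univ _, K.one_mem⟩⟩)
          refine hMe (le_antisymm (fun x hx => (hK x).mpr ?_) hKM)
          have h1 := CfsgLib.Clifford.restrict_eq_smul_of_invariant χ.2 hone
            (fun _ => rfl) hne
          have h2 := congr_fun h1 ⟨x, hx⟩
          have h3 := congr_fun h1 1
          exact h2.trans h3.symm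
      · intro x hx
        obtain ⟨k, hk, c, hc', rfl⟩ := Subgroup.mem_sup_of_normal_left.mp (hc.symm ▸ hx.1)
        refine C.mul_mem (hD k hk ?_) hc'.2
        simpa using H.mul_mem hx.2 (H.inv_mem (hCH hc'.2))
    have hPC : P' ≤ M ⊓ C := le_inf (Subgroup.map_subtype_le _)
      (fun y hy => hMH ⟨Subgroup.map_subtype_le _ hy, hPH hy⟩)
    apply hHc.1
    rw [eq_top_iff]
    intro g _
    -- the conjugate of `P'` by `g` is conjugate inside `M ⊓ C`
    let W := (M ⊓ C).subgroupOf M
    let S : Sylow p W := P.subtype (by intro x hx; exact hPC ⟨x, hx, rfl⟩)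
    have hWn : W.Normal := inferInstanceAs ((M ⊓ C).subgroupOf M).Normal
    let g' : MulAut M := MulAut.conjNormal g
    have hgW : ∀ x : M, x ∈ W → g' x ∈ W := fun x hx => by
      simp only [W, Subgroup.mem_subgroupOf] at hx ⊢
      rw [MulAut.conjNormal_apply]
      exact (inferInstance : (M ⊓ C).Normal).conj_mem _ hx g
    have hPgW : ((g' • P : Sylow p M) : Subgroup M) ≤ W := by
      intro x hx
      obtain ⟨y, hy, rfl⟩ := hx
      exact hgW y (by exact hPC ⟨y, hy, rfl⟩)
    obtain ⟨w, hw⟩ := MulAction.exists_smul_eq W ((g' • P).subtype hPgW) S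
    have hmem : ((w : M) : G) * g ∈ Subgroup.normalizer (P' : Set G) := by
      have hmap : P'.map (MulAut.conj (((w : M) : G) * g)).toMonoidHom = P' := by
        have hc : ∀ Q : Subgroup G, ∀ c : G,
            Nat.card (Q.map (MulAut.conj c).toMonoidHom) = Nat.card Q :=
          fun Q c => Subgroup.card_map_of_injective (MulAut.conj c).injective
        refine Subgroup.eq_of_le_of_card_ge ?_ (hc P' _).ge
        rintro _ ⟨_, ⟨y, hy, rfl⟩, rfl⟩
        have hy' : (⟨g' y, hgW y (hPC ⟨y, hy, rfl⟩)⟩ : W) ∈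
            ((g' • P).subtype hPgW : Subgroup W) := by
          rw [Sylow.coe_subtype, Subgroup.mem_subgroupOf]
          exact ⟨y, hy, rfl⟩
        have h5 : w * ⟨g' y, hgW y (hPC ⟨y, hy, rfl⟩)⟩ * w⁻¹ ∈ (S : Subgroup W) := by
          rw [← hw]
          exact ⟨_, hy', rfl⟩
        refine ⟨((w * ⟨g' y, hgW y (hPC ⟨y, hy, rfl⟩)⟩ * w⁻¹ : W) : M), ?_, ?_⟩
        · exact h5
        · simp [g', mul_assoc]
      rw [Subgroup.mem_normalizer_iff]
      intro z
      constructor
      · exact fun hz => hmap.le ⟨z, hz, rfl⟩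
      · intro hz
        obtain ⟨z', hz', he⟩ := hmap.ge hz
        exact (MulAut.conj _).injective he ▸ hz'
    have hwC : ((w : M) : G) ∈ H := hCH (Subgroup.mem_subgroupOf.mp w.2).2
    simpa using H.mul_mem (H.inv_mem hwC) (hNH hmem)
  refine ⟨ψ, hψd, CfsgLib.BlockB.charKer ψ, fun g => Iff.rfl, ?_⟩
  have hLH : CfsgLib.BlockB.charKer ψ ≤ H := by
    by_contra hle
    have hsup : CfsgLib.BlockB.charKer ψ ⊔ H = ⊤ :=
      hHc.2 _ (lt_of_le_of_ne le_sup_right fun he => hle (le_sup_left.trans he.ge))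
    have hirr := hres ψ _ le_rfl hsup
    have heq : (fun x : H => (ψ : G → ℂ) x) = φ := by
      by_contra hne
      exact hψne (CfsgLib.Char.irr_classInner_ne hirr hφ hne)
    have h1 := congr_fun heq 1
    simp only [OneMemClass.coe_one, hφdef] at h1
    rw [hd1, ← CfsgLib.BlockB.charDegree_cast (CfsgLib.Char.irr_isCharacter ψ.2)] at h1
    have : Cfsg.charDegree (ψ : G → ℂ) = d := by exact_mod_cast h1
    omega
  refine lt_of_le_of_ne (fun x hx => (hK x).mpr ?_) fun he => ?_
  · exact CfsgLib.Clifford.constituent_eq_one (CfsgLib.Char.isCharacter_restrict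
      (CfsgLib.Char.irr_isCharacter ψ.2) H) hφ hψne (a := ⟨x, hLH hx⟩) hx
  · exact hHc.1 (top_le_iff.mp (hKH ▸ sup_le (he ▸ hLH) le_rfl))

end Cfsg.Agent.S4461
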