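import Cfsg.Statements.S4462
import Cfsg.Agent.S4461
import Cfsg.Agent.Lib.BlockB.Codegree
import Cfsg.Agent.Lib.Comp.Subnormal

set_option autoImplicit false
open Cfsg

namespace Cfsg.Agent.S4462

open scoped Classical in
noncomputable def degSet (G : Type*) [Group G] [Fintype (Cfsg.IrrCharacter G)] : Finset ℕ :=
  Finset.univ.image fun χ : Cfsg.IrrCharacter G => Cfsg.charDegree (χ : G → ℂ)

theorem natCard_degrees (G : Type*) [Group G] [Fintype (Cfsg.IrrCharacter G)] :
    Nat.card {d : ℕ // ∃ χ : Cfsg.IrrCharacter G, Cfsg.charDegree (χ : G → ℂ) = d} =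
      (degSet G).card :=
  Nat.subtype_card _ fun d => by simp [degSet]

theorem isNilpotent_step {G : Type*} [Group G] (F : Subgroup G) [F.Normal]
    {A B : Subgroup (G ⧸ F)} (hBA : B ≤ A) [(B.subgroupOf A).Normal]
    [((B.comap (QuotientGroup.mk' F)).subgroupOf (A.comap (QuotientGroup.mk' F))).Normal]
    (h : Group.IsNilpotent (↥A ⧸ B.subgroupOf A)) :
    Group.IsNilpotent (↥(A.comap (QuotientGroup.mk' F)) ⧸
      (B.comap (QuotientGroup.mk' F)).subgroupOf (A.comap (QuotientGroup.mk' F))) := by
  have := h
  let f : ↥(A.comap (QuotientGroup.mk' F)) →* ↥A ⧸ B.subgroupOf A :=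
    (QuotientGroup.mk' _).comp ((QuotientGroup.mk' F).subgroupComap A)
  have hf : Function.Surjective f := fun q => by
    obtain ⟨⟨a, ha⟩, rfl⟩ := QuotientGroup.mk_surjective q
    obtain ⟨g, rfl⟩ := QuotientGroup.mk_surjective a
    exact ⟨⟨g, ha⟩, rfl⟩
  have hker : f.ker = (B.comap (QuotientGroup.mk' F)).subgroupOf (A.comap (QuotientGroup.mk' F)) := by
    ext x
    exact QuotientGroup.eq_one_iff _
  exact Group.nilpotent_of_mulEquiv
    ((QuotientGroup.quotientMulEquivOfEq hker.symm).trans
      (QuotientGroup.quotientKerEquivOfSurjective f hf)).symm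

theorem isNilpotent_congr {G : Type*} [Group G] {H K : Subgroup G} (h : H = K)
    (hk : Group.IsNilpotent K) : Group.IsNilpotent H := h ▸ hk

universe u

/-- The nilpotent length is at most the number of degrees. -/
theorem main : ∀ (n : ℕ) (G : Type u) [Group G] [Finite G] [Fintype (Cfsg.IrrCharacter G)],
    Group.IsSolvable G → (degSet G).card ≤ n →
    ∃ N : Fin (n + 1) → Subgroup G, N 0 = ⊥ ∧ N (Fin.last n) = ⊤ ∧ Monotone N ∧
      (∀ i, (N i).Normal) ∧ ∀ i : Fin n, ∀ _h : (N i.castSucc).subgroupOf (N i.succ) |>.Normal,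
        Group.IsNilpotent (↥(N i.succ) ⧸ (N i.castSucc).subgroupOf (N i.succ)) := by
  intro n
  induction n with
  | zero =>
    intro G _ _ _ _ h
    exfalso
    have hmem : Cfsg.charDegree (fun _ : G => (1 : ℂ)) ∈ degSet G := by
      simp only [degSet, Finset.mem_image, Finset.mem_univ, true_and]
      exact ⟨⟨_, CfsgLib.Char.isIrrCharacter_one⟩, rfl⟩
    rw [Nat.le_zero, Finset.card_eq_zero] at h
    rw [h] at hmem
    exact Finset.notMem_empty _ hmem
  | succ n ih =>
    intro G _ _ _ hs hcard
    classical
    by_cases hnil : Group.IsNilpotent G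
    · refine ⟨Fin.cases ⊥ fun _ => ⊤, rfl, ?_, ?_, ?_, ?_⟩
      · rw [← Fin.succ_last]; rfl
      · intro i j hij
        induction i using Fin.cases with
        | zero => exact bot_le
        | succ i =>
          induction j using Fin.cases with
          | zero => exact absurd hij (not_le.mpr i.succ_pos)
          | succ j => exact le_rfl
      · intro i
        induction i using Fin.cases with
        | zero => exact Subgroup.normal_bot (G := G)
        | succ i => exact Subgroup.normal_top (G := G)
      · intro i _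
        have : Group.IsNilpotent ↥((Fin.cases ⊥ (fun _ => ⊤) : Fin (n + 2) → Subgroup G) i.succ) :=
          isNilpotent_congr (Fin.cases_succ i)
            (Group.nilpotent_of_mulEquiv (Subgroup.topEquiv (G := G)).symm)
        exact Group.nilpotent_quotient_of_nilpotent _
    set F := Cfsg.fittingSubgroup G with hFdef
    have hFn : F.Normal := CfsgLib.Comp.fittingSubgroup_normal G
    have hFnil : Group.IsNilpotent F := CfsgLib.Comp.isNilpotent_fittingSubgroup G
    have hFne : F ≠ ⊤ := fun h => hnil (by
      rw [h] at hFnil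
      exact Group.nilpotent_of_mulEquiv (Subgroup.topEquiv (G := G)))
    have hsq : Group.IsSolvable (G ⧸ F) :=
      Group.isSolvable_of_surjective (QuotientGroup.mk'_surjective F)
    have := Fintype.ofFinite (Cfsg.IrrCharacter (G ⧸ F))
    have hlt : (degSet (G ⧸ F)).card ≤ n := by
      have hne : (degSet G).Nonempty :=
        ⟨_, Finset.mem_image.mpr ⟨⟨_, CfsgLib.Char.isIrrCharacter_one⟩, Finset.mem_univ _, rfl⟩⟩
      set M := (degSet G).max' hne with hM
      have hsub : degSet (G ⧸ F) ⊆ (degSet G).erase M := by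
        intro d hd
        simp only [degSet, Finset.mem_image, Finset.mem_univ, true_and] at hd
        obtain ⟨ψ, rfl⟩ := hd
        let χ : Cfsg.IrrCharacter G := ⟨_, CfsgLib.Char.isIrrCharacter_comp_surjective ψ.2
          (QuotientGroup.mk' F) (QuotientGroup.mk'_surjective F)⟩
        have hdeg : Cfsg.charDegree (χ : G → ℂ) = Cfsg.charDegree (ψ : G ⧸ F → ℂ) := by
          have : (Cfsg.charDegree (χ : G → ℂ) : ℂ) = Cfsg.charDegree (ψ : G ⧸ F → ℂ) := by
            rw [CfsgLib.BlockB.charDegree_cast (CfsgLib.Char.irr_isCharacter χ.2),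
              CfsgLib.BlockB.charDegree_cast (CfsgLib.Char.irr_isCharacter ψ.2)]
            rfl
          exact_mod_cast this
        have hFK : F ≤ CfsgLib.BlockB.charKer χ := fun x hx => by
          show (ψ : G ⧸ F → ℂ) (x : G ⧸ F) = _
          rw [(QuotientGroup.eq_one_iff x).mpr hx]
          rfl
        have hyp : ¬ CfsgLib.BlockB.charKer χ ≤ F ∨ (CfsgLib.BlockB.charKer χ = F ∧
            Group.IsSolvable (G ⧸ CfsgLib.BlockB.charKer χ) ∧ CfsgLib.BlockB.charKer χ ≠ ⊤) := by
          by_cases hK : CfsgLib.BlockB.charKer χ ≤ F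
          · exact Or.inr ⟨le_antisymm hK hFK,
              Group.isSolvable_of_surjective (QuotientGroup.mk'_surjective _),
              fun h => hFne (top_le_iff.mp (h.symm ▸ hK))⟩
          · exact Or.inl hK
        obtain ⟨φ, hφ, -⟩ := Cfsg.Agent.S4461.result χ (CfsgLib.BlockB.charKer χ)
          (fun _ => Iff.rfl) hyp
        have hmemφ : Cfsg.charDegree (φ : G → ℂ) ∈ degSet G :=
          Finset.mem_image.mpr ⟨φ, Finset.mem_univ _, rfl⟩
        have hmemχ : Cfsg.charDegree (χ : G → ℂ) ∈ degSet G :=
          Finset.mem_image.mpr ⟨χ, Finset.mem_univ _, rfl⟩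
        rw [← hdeg]
        refine Finset.mem_erase.mpr ⟨fun h => ?_, hmemχ⟩
        have := (degSet G).le_max' _ hmemφ
        omega
      have h1 := Finset.card_le_card hsub
      rw [Finset.card_erase_of_mem (Finset.max'_mem _ _)] at h1
      omega
    obtain ⟨A, hA0, hAn, hAm, hAnorm, hAq⟩ := ih (G ⧸ F) hsq hlt
    refine ⟨Fin.cases ⊥ fun i => (A i).comap (QuotientGroup.mk' F), rfl, ?_, ?_, ?_, ?_⟩
    · rw [← Fin.succ_last]; simp only [Fin.cases_succ, hAn, Subgroup.comap_top]
    · intro i j hij
      induction i using Fin.cases with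
      | zero => exact bot_le
      | succ i =>
        induction j using Fin.cases with
        | zero => exact absurd hij (not_le.mpr i.succ_pos)
        | succ j => exact Subgroup.comap_mono (hAm (Fin.succ_le_succ_iff.mp hij))
    · intro i
      induction i using Fin.cases with
      | zero => exact Subgroup.normal_bot (G := G)
      | succ i => exact (hAnorm i).comap _
    · intro i
      induction i using Fin.cases with
      | zero =>
        intro _
        have : Group.IsNilpotent ↥((Fin.cases ⊥ (fun i => (A i).comap (QuotientGroup.mk' F)) :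
            Fin (n + 2) → Subgroup G) (Fin.succ 0)) := by
          refine isNilpotent_congr ?_ hFnil
          simp only [Fin.cases_succ, hA0, MonoidHom.comap_bot, QuotientGroup.ker_mk']
        exact Group.nilpotent_quotient_of_nilpotent _
      | succ i =>
        rw [show (i.succ).castSucc = (i.castSucc).succ from (Fin.succ_castSucc i).symm]
        simp only [Fin.cases_succ]
        intro _
        have : ((A i.castSucc).subgroupOf (A i.succ)).Normal := (hAnorm i.castSucc).subgroupOf _
        exact isNilpotent_step F (hAm i.castSucc_le_succ) (hAq i this)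

/-- Let G be a finite solvable group with exactly n distinct irreducible character degrees. Then G has normal subgroups 1 = N₀ ≤ N₁ ≤ ⋯ ≤ Nₙ = G with every quotient N_{i+1}/N_i nilpotent (the nilpotent length of G is at most n). -/
theorem result {G : Type*} [Group G] [Finite G] (hsolv : Group.IsSolvable G) (n : ℕ) (hcd : Nat.card {d : ℕ // ∃ χ : Cfsg.IrrCharacter G, Cfsg.charDegree (χ : G → ℂ) = d} = n) : ∃ N : Fin (n + 1) → Subgroup G, N 0 = ⊥ ∧ N (Fin.last n) = ⊤ ∧ Monotone N ∧ (∀ i, (N i).Normal) ∧ ∀ i : Fin n, ∀ h : (N i.castSucc).subgroupOf (N i.succ) |>.Normal, Group.IsNilpotent (↥(N i.succ) ⧸ (N i.castSucc).subgroupOf (N i.succ)) := by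
  classical
  have := Fintype.ofFinite (Cfsg.IrrCharacter G)
  exact main n G hsolv (by rw [← hcd, natCard_degrees G])

end Cfsg.Agent.S4462
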