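import Cfsg.Statements.S4463
import Cfsg.Agent.Lib.Char.BDegMain

set_option autoImplicit false
open Cfsg

universe u

namespace Cfsg.Agent.S4463

open CfsgLib.Char in
/-- The induction on the degree bound. -/
theorem bound : ∀ (b : ℕ) (H : Type u) [Group H] [Finite H], BDeg.Bdd b H →
    ∃ A : Subgroup H, (∀ x ∈ A, ∀ y ∈ A, x * y = y * x) ∧ A.index ≤ (Nat.factorial b) ^ 2 := by
  intro b
  induction b using Nat.strong_induction_on with
  | _ b ih =>
  intro H _ _ hb
  have := Fintype.ofFinite H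
  by_cases hG : commutator H ≤ ⊥
  · refine ⟨⊤, fun x _ y _ => ?_, ?_⟩
    · exact commutatorElement_eq_one_iff_mul_comm.mp (Subgroup.mem_bot.mp
        (hG (Subgroup.commutator_mem_commutator (Subgroup.mem_top x) (Subgroup.mem_top y))))
    · rw [Subgroup.index_top]
      exact Nat.one_le_pow _ _ (Nat.factorial_pos b)
  obtain ⟨K, c, hc, hK, hi⟩ := BDeg.exists_step hb hG
  obtain ⟨A, hA, hAi⟩ := ih c hc K hK
  refine ⟨A.map K.subtype, ?_, ?_⟩
  · rintro _ ⟨x, hx, rfl⟩ _ ⟨y, hy, rfl⟩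
    rw [← map_mul, ← map_mul, hA x hx y hy]
  · rw [Subgroup.index_map_subtype, mul_comm]
    exact (Nat.mul_le_mul_left _ hAi).trans hi

/-- Let b be the largest irreducible character degree of the finite group G. Then G has an abelian subgroup of index at most (b!)². -/
theorem result {G : Type*} [Group G] [Finite G] (b : ℕ) (hb : IsGreatest {d : ℕ | ∃ χ : Cfsg.IrrCharacter G, Cfsg.charDegree (χ : G → ℂ) = d} b) : ∃ A : Subgroup G, (∀ x ∈ A, ∀ y ∈ A, x * y = y * x) ∧ A.index ≤ (Nat.factorial b) ^ 2 := by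
  exact bound b G fun χ hχ => hb.2 ⟨⟨χ, hχ⟩, rfl⟩

end Cfsg.Agent.S4463
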