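import Cfsg.Statements.S4468
import Cfsg.Agent.Lib.Clifford.NonnormalSolvable

set_option autoImplicit false
open Cfsg

namespace Cfsg.Agent.S4468

open CfsgLib.Clifford.NonnormalSylow

theorem exists_solvable {G : Type*} [Group G] [Finite G] {p : ℕ} [hp : Fact p.Prime]
    (hs : Cfsg.IsPSolvable p G) (hne : ¬ PClosed p G) :
    ∃ H : Subgroup G, ¬ PClosed p H ∧ Group.IsSolvable H := by
  classical
  have htop : ¬ PClosed p (⊤ : Subgroup G) := fun h => hne (h.of_subgroup fun x _ => Subgroup.mem_top x)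
  obtain ⟨H, hH⟩ := exists_minimal_of_wellFoundedLT (fun H : Subgroup G => ¬ PClosed p H) ⟨⊤, htop⟩
  refine ⟨H, hH.1, ?_⟩
  have hmin : ∀ L : Subgroup H, L ≠ ⊤ → PClosed p L := by
    intro L hL
    by_contra hbad
    have hb : ¬ PClosed p (L.map H.subtype) := by
      intro h
      apply hbad
      intro x y hx hy
      let e := L.equivMapOfInjective H.subtype H.subtype_injective
      obtain ⟨a, ha⟩ := hx
      obtain ⟨b, hb⟩ := hy
      obtain ⟨k, hk⟩ := h (e x) (e y) ⟨a, by rw [← map_pow, ha, map_one]⟩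
        ⟨b, by rw [← map_pow, hb, map_one]⟩
      exact ⟨k, e.injective (by rw [map_pow, map_mul, hk, map_one])⟩
    refine hL (Subgroup.eq_top_iff' L |>.mpr fun x => ?_)
    obtain ⟨y, hy, he⟩ := hH.2 hb (Subgroup.map_subtype_le L) x.2
    exact Subtype.ext he ▸ hy
  obtain ⟨n, S, hS0, hSn, hmono, hnorm, hfac⟩ := hs
  obtain ⟨i, hi, hilast⟩ : ∃ i : Fin n, ¬ H ≤ S i.castSucc ∧ H ≤ S i.succ := by
    by_contra hcon
    push Not at hcon
    have h : ∀ j, ¬ H ≤ S j := by
      intro j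
      refine Fin.induction ?_ (fun i hi => hcon i hi) j
      intro hle
      rw [hS0, le_bot_iff] at hle
      subst hle
      exact hH.1 fun x y _ _ => ⟨0, Subsingleton.elim _ _⟩
    exact h _ (hSn ▸ le_top)
  have := hnorm i.castSucc
  set M := (S i.castSucc).subgroupOf H with hM
  have hMne : M ≠ ⊤ := fun h => hi (Subgroup.subgroupOf_eq_top.mp h)
  have hidx : M.index ∣ (S i.castSucc).relIndex (S i.succ) := by
    change (S i.castSucc).relIndex H ∣ _
    rw [← Subgroup.relIndex_sup_right]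
    exact Dvd.intro _ (Subgroup.relIndex_mul_relIndex _ _ _ le_sup_right
      (sup_le hilast (hmono i.castSucc_le_succ)))
  refine isSolvable_of_minimal hH.1 hmin M hMne ?_
  rcases hfac i with ⟨m, hm⟩ | hcop
  · obtain ⟨k, -, hk⟩ := (Nat.dvd_prime_pow hp.out).mp (hm ▸ hidx)
    exact ⟨k, hk⟩
  · exact absurd ((hmin M hMne).of_subgroup fun x ⟨k, hk⟩ =>
      CfsgLib.Clifford.Degrees.mem_of_pow_eq_one hp.out M
        (fun h => hp.out.not_dvd_one ((Nat.Coprime.gcd_eq_one hcop) ▸
          Nat.dvd_gcd (h.trans hidx) dvd_rfl)) hk) hH.1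

/-- Let the finite p-solvable group G have a faithful character χ of degree n ≤ p − 1 and suppose that a Sylow p-subgroup of G is not normal. Then n = p − 1, n is a power of 2, and χ is irreducible. -/
theorem result {G : Type*} [Group G] [Finite G] (χ : G → ℂ) (hχ : Cfsg.IsCharacter G χ) (hfaith : ∀ g : G, χ g = χ 1 → g = 1) (n : ℕ) (hn : Cfsg.charDegree χ = n) (p : ℕ) (hp : p.Prime) (hsolv : Cfsg.IsPSolvable p G) (hnp : n + 1 ≤ p) (P : Sylow p G) (hP : ¬ (P : Subgroup G).Normal) : n + 1 = p ∧ (∃ k : ℕ, n = 2 ^ k) ∧ Cfsg.IsIrrCharacter G χ := by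
  haveI := Fact.mk hp
  have := Fintype.ofFinite G
  obtain ⟨H, hHb, hHs⟩ := exists_solvable hsolv fun h => hP ((sylow_normal_iff P).mpr h)
  have := Fintype.ofFinite H
  have hF := CfsgLib.Char.isCharacter_restrict hχ H
  obtain ⟨θ, ⟨R, hR, hres⟩, hθ⟩ := exists_bad_constituent hp hF
    (fun g hg => Subtype.ext (hfaith g (by simpa using hg))) hHb
  obtain ⟨ψ, -, hdeg, hψf⟩ := CfsgLib.BlockB.exists_faithful_lift θ
  obtain ⟨q, hq, hqd, hmod⟩ := main hp _ (↥H ⧸ CfsgLib.BlockB.charKer θ) le_rfl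
    (Group.isSolvable_of_surjective (QuotientGroup.mk'_surjective _)) ψ hψf hθ
  rw [hdeg] at hqd
  have hθn : Cfsg.charDegree (θ : H → ℂ) ≤ n ∧
      (Cfsg.charDegree (θ : H → ℂ) = n → R = 0) := by
    obtain ⟨r, hr⟩ := CfsgLib.Char.char_apply_one_eq_nat hR
    have h1 := congr_fun hres 1
    simp only [OneMemClass.coe_one, Pi.add_apply] at h1
    rw [← CfsgLib.BlockB.charDegree_cast hχ, hn,
      ← CfsgLib.BlockB.charDegree_cast (CfsgLib.Char.irr_isCharacter θ.2), hr] at h1
    have h2 : n = Cfsg.charDegree (θ : H → ℂ) + r := by exact_mod_cast h1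
    exact ⟨by omega, fun he => CfsgLib.Clifford.eq_zero_of_apply_one_eq_zero hR
      (by rw [hr, show r = 0 by omega, Nat.cast_zero])⟩
  have hd0 : 0 < Cfsg.charDegree (θ : H → ℂ) := by
    refine Nat.pos_of_ne_zero fun h => CfsgLib.Char.irr_apply_one_ne_zero θ.2 ?_
    rw [← CfsgLib.BlockB.charDegree_cast (CfsgLib.Char.irr_isCharacter θ.2), h, Nat.cast_zero]
  have hqle := Nat.le_of_dvd hd0 hqd
  have hq2 : 2 ≤ q := hq.two_le
  have hqp : q + 1 = p := by
    rcases hmod with h | h | h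
    · have hd : (p : ℤ) ∣ ((q + 1 : ℕ) : ℤ) := by
        have := Int.modEq_iff_dvd.mp h.symm
        push_cast
        simpa using this
      exact le_antisymm (by omega) (Nat.le_of_dvd (by omega) (by exact_mod_cast hd))
    · have hd : p ∣ q := by exact_mod_cast Int.modEq_zero_iff_dvd.mp h
      have := Nat.le_of_dvd (by omega) hd
      omega
    · have hd : (p : ℤ) ∣ ((q - 1 : ℕ) : ℤ) := by
        have := Int.modEq_iff_dvd.mp h.symm
        rw [Nat.cast_sub (by omega)]
        simpa using this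
      have := Nat.le_of_dvd (by omega) (Int.natCast_dvd_natCast.mp hd)
      omega
  refine ⟨by omega, ?_, ?_⟩
  · obtain ⟨r, k, hr, -, rfl⟩ := (isPrimePow_nat_iff q).mp hq
    have heq : n = r ^ k := by omega
    refine ⟨k, ?_⟩
    have hodd : Odd p := hp.odd_of_ne_two (by omega)
    have heven : 2 ∣ r ^ k := by
      obtain ⟨t, ht⟩ := hodd
      exact ⟨t, by omega⟩
    rw [heq, ← (Nat.prime_dvd_prime_iff_eq Nat.prime_two hr).mp
      (Nat.prime_two.dvd_of_dvd_pow heven)]
  · refine isIrr_of_restrict hχ H ?_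
    rw [show (fun x : H => χ x) = (θ : H → ℂ) + R from hres,
      hθn.2 (le_antisymm hθn.1 (by omega)), add_zero]
    exact θ.2

end Cfsg.Agent.S4468
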