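import Cfsg.Statements.S4471
import Cfsg.Agent.Lib.Block.SmallDegreeOp

set_option autoImplicit false
open Cfsg

namespace Cfsg.Agent.S4471

/-- Let p ≥ 7 be a prime and let the finite group G have a faithful irreducible character of degree n with n < 2p and n ≠ p. If the Sylow p-subgroups of G are non-abelian then p² does not divide the index of O_p(G) in G; consequently, in every case G/O_p(G) has abelian Sylow p-subgroups. -/
theorem result {G : Type*} [Group G] [Finite G] (χ : Cfsg.IrrCharacter G) (hfaith : ∀ g : G, (χ : G → ℂ) g = (χ : G → ℂ) 1 → g = 1) (n : ℕ) (hn : Cfsg.charDegree (χ : G → ℂ) = n) (p : ℕ) (hp : p.Prime) (h7 : 7 ≤ p) (hn2 : n < 2 * p) (hnp : n ≠ p) : ((∃ P : Sylow p G, ∃ x ∈ (P : Subgroup G), ∃ y ∈ (P : Subgroup G), x * y ≠ y * x) → ¬ p ^ 2 ∣ (Cfsg.pCore p G).index) ∧ ∀ Q : Sylow p (G ⧸ Cfsg.pCore p G), ∀ x ∈ (Q : Subgroup (G ⧸ Cfsg.pCore p G)), ∀ y ∈ (Q : Subgroup (G ⧸ Cfsg.pCore p G)), x * y = y * x :=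 by
  classical
  have : Fact p.Prime := ⟨hp⟩
  obtain ⟨d, hd⟩ := CfsgLib.Char.char_apply_one_eq_nat (CfsgLib.Char.irr_isCharacter χ.2)
  have hdn : d = n := by rw [← hn, Cfsg.charDegree, hd]; simp
  rw [hdn] at hd
  have key : ∀ P : Sylow p G, (∃ x ∈ (P : Subgroup G), ∃ y ∈ (P : Subgroup G), x * y ≠ y * x) →
      ¬ p ^ 2 ∣ (Cfsg.pCore p G).index := fun P h =>
    CfsgLib.Block.SmallOp.main χ.2 hfaith hd hp h7 hn2 hnp P h
  refine ⟨fun ⟨P, h⟩ => key P h, fun Q => ?_⟩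
  have hnorm : (Cfsg.pCore p G).Normal := inferInstance
  let P : Sylow p G := default
  by_cases hna : ∃ x ∈ (P : Subgroup G), ∃ y ∈ (P : Subgroup G), x * y ≠ y * x
  · have hdvd : Nat.card (Q : Subgroup (G ⧸ Cfsg.pCore p G)) ∣ (Cfsg.pCore p G).index := by
      rw [Subgroup.index_eq_card]
      exact Subgroup.card_subgroup_dvd_card _
    obtain ⟨k, hk⟩ := IsPGroup.iff_card.mp Q.isPGroup'
    have hk1 : k ≤ 1 := by
      by_contra hc
      exact key P hna ((pow_dvd_pow p (show 2 ≤ k by omega)).trans (hk ▸ hdvd))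
    intro x hx y hy
    have hc : IsCyclic (Q : Subgroup (G ⧸ Cfsg.pCore p G)) := by
      rcases Nat.le_one_iff_eq_zero_or_eq_one.mp hk1 with rfl | rfl
      · have : Subsingleton (Q : Subgroup (G ⧸ Cfsg.pCore p G)) :=
          (Nat.card_eq_one_iff_unique.mp (by simpa using hk)).1
        infer_instance
      · exact isCyclic_of_prime_card (by simpa using hk)
    obtain ⟨g, hg⟩ := hc.exists_generator
    obtain ⟨a, ha⟩ := hg ⟨x, hx⟩
    obtain ⟨b, hb⟩ := hg ⟨y, hy⟩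
    have h := congrArg Subtype.val (((Commute.refl g).zpow_zpow a b).eq)
    simp only [ha, hb, Subgroup.coe_mul] at h
    exact h
  · push Not at hna
    intro x hx y hy
    let Q₀ := P.mapSurjective (QuotientGroup.mk'_surjective (Cfsg.pCore p G))
    obtain ⟨g, hg⟩ := MulAction.exists_smul_eq (G ⧸ Cfsg.pCore p G) Q₀ Q
    have hQ : (Q : Subgroup (G ⧸ Cfsg.pCore p G)) =
        ((P : Subgroup G).map (QuotientGroup.mk' (Cfsg.pCore p G))).map (MulAut.conj g).toMonoidHom := by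
      rw [← hg]; rfl
    rw [hQ] at hx hy
    obtain ⟨x', ⟨a, ha, rfl⟩, rfl⟩ := hx
    obtain ⟨y', ⟨b, hb, rfl⟩, rfl⟩ := hy
    simp only [← map_mul]
    rw [hna a ha b hb]

end Cfsg.Agent.S4471
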