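import Cfsg.Statements.S4473
import Cfsg.Agent.Lib.Clifford.PrimitiveTwo

set_option autoImplicit false
open Cfsg

namespace Cfsg.Agent.S4473

/-- Let the finite group G have a faithful irreducible character χ of degree 2 that is primitive: χ is not induced from a character of any proper subgroup. Then the centre of G has index 12, 24 or 60. -/
theorem result {G : Type*} [Group G] [Fintype G] (χ : Cfsg.IrrCharacter G) (hfaith : ∀ g : G, (χ : G → ℂ) g = (χ : G → ℂ) 1 → g = 1) (h2 : Cfsg.charDegree (χ : G → ℂ) = 2) (hprim : ∀ H : Subgroup G, H ≠ ⊤ → ∀ θ : H → ℂ, Cfsg.IsCharacter H θ → (χ : G → ℂ) ≠ Cfsg.indFun H θ) : (Subgroup.center G).index = 12 ∨ (Subgroup.center G).index = 24 ∨ (Subgroup.center G).index = 60 := by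
  classical
  obtain ⟨n, ρ, hρ, hρc⟩ := χ.2
  have hn : n = 2 := by
    have e : (Cfsg.charDegree (χ : G → ℂ) : ℂ) = (n : ℂ) := by
      rw [CfsgLib.BlockB.charDegree_cast (CfsgLib.Char.irr_isCharacter χ.2), ← hρc, Representation.char_one]
      simp
    rw [h2] at e
    exact_mod_cast e.symm
  subst hn
  refine CfsgLib.Clifford.PrimitiveTwo.center_index (ρ := ρ) (fun a b hab => ?_)
    (fun H hH θ hθ => by rw [hρc]; exact hprim H hH θ hθ)
  refine inv_mul_eq_one.1 (hfaith (a⁻¹ * b) ?_)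
  have h1 : ρ (a⁻¹ * b) = 1 := by rw [map_mul, ← hab, ← map_mul, inv_mul_cancel, map_one]
  rw [← hρc]
  show LinearMap.trace ℂ _ (ρ (a⁻¹ * b)) = LinearMap.trace ℂ _ (ρ 1)
  rw [h1, map_one ρ]

end Cfsg.Agent.S4473
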