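import Cfsg.Statements.S4480
import Cfsg.Agent.Lib.BlockA.KleinOrder

set_option autoImplicit false
open Cfsg

namespace Cfsg.Agent.S4480

/-- Same setting as the Klein-four order formula: G of order 4·g₀ (g₀ odd) with no normal 2-complement, P a Sylow 2-subgroup, J an involution of P, M over 2, principal 2-block {1, χ₁, χ₂, χ₃} with χ_i(J) = ε_i = ±1. Suppose ε₁ε₂ε₃ = −1 and ε₃ = −1, and put q = x₃ = χ₃(1). Then there is a natural number m with 4·c(J) = m·c(P)·(q + 1), and the order of G equals (m³·c(P)/4)·(q³ − q)/2, that is 8·#G = m³·c(P)·(q³ − q). -/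
theorem result {G : Type*} [Group G] [Finite G] (M : Ideal Cfsg.AlgInt) (hM : Cfsg.IsPModular 2 M) (g₀ : ℕ) (hg₀ : Odd g₀) (hG : Nat.card G = 4 * g₀) (hnc : ¬ ∃ N : Subgroup G, N.Normal ∧ Nat.card N = g₀) (P : Sylow 2 G) (J : G) (hJ : J ∈ (P : Subgroup G)) (hJ2 : orderOf J = 2) (χ₁ χ₂ χ₃ : Cfsg.IrrCharacter G) (ε₁ ε₂ ε₃ : ℤ) (hB : Cfsg.principalBlock M G = {χ : Cfsg.IrrCharacter G | (χ : G → ℂ) = (fun _ => 1) ∨ χ = χ₁ ∨ χ = χ₂ ∨ χ = χ₃}) (hdist : (χ₁ : G → ℂ) ≠ (fun _ => 1) ∧ (χ₂ : G → ℂ) ≠ (fun _ => 1) ∧ (χ₃ : G → ℂ) ≠ (fun _ => 1) ∧ χ₁ ≠ χ₂ ∧ χ₁ ≠ χ₃ ∧ χ₂ ≠ χ₃) (hε : (ε₁ = 1 ∨ ε₁ = -1) ∧ (ε₂ = 1 ∨ ε₂ = -1) ∧ (ε₃ = 1 ∨ ε₃ = -1)) (hval : (χ₁ : G → ℂ) J = ε₁ ∧ (χ₂ : G → ℂ) J = ε₂ ∧ (χ₃ : G → ℂ) J = ε₃) (hprod : ε₁ * ε₂ * ε₃ = -1) (hε₃ : ε₃ = -1) : ∃ m : ℕ, 4 * Nat.card (Subgroup.centralizer ({J} : Set G)) = m * Nat.card (Subgroup.centralizer ((P : Subgroup G) : Set G)) *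 (Cfsg.charDegree (χ₃ : G → ℂ) + 1) ∧ 8 * Nat.card G = m ^ 3 * Nat.card (Subgroup.centralizer ((P : Subgroup G) : Set G)) * (Cfsg.charDegree (χ₃ : G → ℂ) ^ 3 - Cfsg.charDegree (χ₃ : G → ℂ)) := by

  have := hM.2.1.isPrime
  obtain ⟨hK, hone⟩ := CfsgLib.BlockA.klein_setup hg₀ hG hnc P
  have hJ1 := CfsgLib.Invol.invol_ne_one hJ2
  have hrel := CfsgLib.BlockA.klein_degree_relation hM hK hone hJ hJ1 hB hdist hval
  have hord := CfsgLib.BlockA.klein_order_formula hM hK hone hJ hJ1 hB hdist hval hε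
  have p1 := CfsgLib.BlockB.irr_degree_pos χ₁
  have p2 := CfsgLib.BlockB.irr_degree_pos χ₂
  have p3 := CfsgLib.BlockB.irr_degree_pos χ₃
  subst hε₃
  obtain ⟨h1, h2⟩ : ε₁ = 1 ∧ ε₂ = 1 := by
    rcases hε.1 with rfl | rfl <;> rcases hε.2.1 with rfl | rfl <;>
      first
        | exact ⟨rfl, rfl⟩
        | (exfalso; revert hprod; norm_num; done)
        | (exfalso; omega)
  subst h1 h2
  have heq := CfsgLib.BlockA.klein_conj_pair hM hK hone hJ hJ1 hB hdist hval rfl rfl rfl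
  rw [← heq] at hrel hord
  set x := Cfsg.charDegree (χ₁ : G → ℂ) with hx
  set q := Cfsg.charDegree (χ₃ : G → ℂ) with hq
  set cP := Nat.card (Subgroup.centralizer ((P : Subgroup G) : Set G)) with hcP
  set cJ := Nat.card (Subgroup.centralizer ({J} : Set G)) with hcJ
  have hqx : q = 2 * x + 1 := by omega
  rw [hqx] at hord ⊢
  obtain ⟨r, hr⟩ : cP ∣ cJ := Subgroup.card_dvd_of_le
    (Subgroup.centralizer_le (Set.singleton_subset_iff.2 hJ))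
  obtain ⟨i, hi⟩ : cJ ∣ Nat.card G := Subgroup.card_subgroup_dvd_card _
  have hcP0 : 0 < cP := Nat.card_pos
  have hcJ0 : 0 < cJ := Nat.card_pos
  -- the index of the centralizer of the involution
  have hkey : i * (x + 1) ^ 2 = 4 * r ^ 2 * (x * (2 * x + 1)) := by
    have h : (cJ * cP ^ 2 * x : ℤ) * ((i : ℤ) * (x + 1) ^ 2 * 2) =
        (cJ * cP ^ 2 * x : ℤ) * (4 * r ^ 2 * (x * (2 * x + 1)) * 2) := by
      rw [hi] at hord
      push_cast at hord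
      rw [hr] at hord ⊢
      push_cast at hord ⊢
      linear_combination hord
    have hne : (cJ * cP ^ 2 * x : ℤ) ≠ 0 := by positivity
    have := mul_left_cancel₀ hne h
    have h2 : ((i * (x + 1) ^ 2 : ℕ) : ℤ) = ((4 * r ^ 2 * (x * (2 * x + 1)) : ℕ) : ℤ) := by
      push_cast; linarith
    exact_mod_cast h2
  have hco : Nat.Coprime ((x + 1) ^ 2) (x * (2 * x + 1)) := by
    refine Nat.Coprime.pow_left 2 (Nat.Coprime.mul_right ?_ ?_)
    · rw [add_comm, Nat.coprime_add_self_left]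
      exact Nat.coprime_one_left x
    · have e : 2 * x + 1 = x + (x + 1) := by ring
      rw [e, Nat.coprime_add_self_right, Nat.coprime_self_add_left]
      exact Nat.coprime_one_left x
  have hdvd : (x + 1) ^ 2 ∣ (2 * r) ^ 2 := by
    refine hco.dvd_of_dvd_mul_right ⟨i, ?_⟩
    rw [mul_pow]
    linarith
  obtain ⟨m, hm⟩ := (Nat.pow_dvd_pow_iff two_ne_zero).1 hdvd
  refine ⟨m, ?_, ?_⟩
  · rw [hr]
    linear_combination (2 * cP : ℕ) * hm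
  · have hi2 : i = m ^ 2 * (x * (2 * x + 1)) := by
      refine Nat.eq_of_mul_eq_mul_right (pow_pos (Nat.succ_pos x) 2) ?_
      calc i * (x + 1) ^ 2 = (2 * r) ^ 2 * (x * (2 * x + 1)) := by rw [hkey]; ring
        _ = _ := by rw [hm, Nat.succ_eq_add_one]; ring
    have hq3 : (2 * x + 1) ^ 3 - (2 * x + 1) = 4 * x * (x + 1) * (2 * x + 1) :=
      Nat.sub_eq_of_eq_add (by ring)
    rw [hq3, hi, hi2, hr]
    linear_combination (4 * cP * m ^ 2 * x * (2 * x + 1) : ℕ) * hm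

end Cfsg.Agent.S4480
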