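import Cfsg.Statements.S4481
import Cfsg.Agent.Lib.BlockA.DihedralShape

set_option autoImplicit false
open Cfsg

namespace Cfsg.Agent.S4481

/-- The principal 2-block of a group with dihedral Sylow 2-subgroups. Let G be a finite group whose Sylow 2-subgroup P is dihedral of order 2^n ≥ 8, let σ be an element of P of order 2^(n−1), ζ a primitive 2^(n−1)-th root of unity, and M a maximal ideal of the algebraic integers containing 2. Then the principal 2-block consists of exactly 3 + 2^(n−2) irreducible characters, which can be labelled 1, χ₁, χ₂, χ₃ and χ^(j) for 1 ≤ j ≤ 2^(n−2) − 1 (all distinct), with signs δ₁, δ₂, δ₃ such that for 0 < λ < 2^(n−1): χ₁(σ^λ) = δ₁, χ₂(σ^λ) = δ₂(−1)^(λ+1), χ₃(σ^λ) = δ₃(−1)^(λ+1) and χ^(j)(σ^λ) = δ₁(ζ^(jλ) + ζ^(−jλ)); and for every element ρ of odd order and every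 j: 1 + δ₁χ₁(ρ) = −δ₂χ₂(ρ) − δ₃χ₃(ρ) = δ₁χ^(j)(ρ). -/
theorem result {G : Type*} [Group G] [Finite G] (M : Ideal Cfsg.AlgInt) (hM : Cfsg.IsPModular 2 M) (n : ℕ) (hn : 3 ≤ n) (P : Sylow 2 G) (hP : Nonempty ((P : Subgroup G) ≃* DihedralGroup (2 ^ (n - 1)))) (σ : G) (hσ : σ ∈ (P : Subgroup G)) (hσo : orderOf σ = 2 ^ (n - 1)) (ζ : ℂ) (hζ : IsPrimitiveRoot ζ (2 ^ (n - 1))) : Nat.card (Cfsg.principalBlock M G) = 3 + 2 ^ (n - 2) ∧ ∃ (χ₁ χ₂ χ₃ : Cfsg.IrrCharacter G) (χ' : Fin (2 ^ (n - 2) - 1) → Cfsg.IrrCharacter G) (δ₁ δ₂ δ₃ : ℤ), (δ₁ = 1 ∨ δ₁ = -1) ∧ (δ₂ = 1 ∨ δ₂ = -1) ∧ (δ₃ = 1 ∨ δ₃ = -1) ∧ Function.Injective χ' ∧ (χ₁ : G → ℂ) ≠ (fun _ => 1) ∧ (χ₂ : G → ℂ) ≠ (fun _ => 1) ∧ (χ₃ : G → ℂ) ≠ (fun _ => 1) ∧ χ₁ ≠ χ₂ ∧ χ₁ ≠ χ₃ ∧ χ₂ ≠ χ₃ ∧ (∀ j, χ' j ≠ χ₁ ∧ χ' j ≠ χ₂ ∧ χ' j ≠ χ₃ ∧ (χ' j : G → ℂ) ≠ (fun _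 => 1)) ∧ Cfsg.principalBlock M G = {χ : Cfsg.IrrCharacter G | (χ : G → ℂ) = (fun _ => 1) ∨ χ = χ₁ ∨ χ = χ₂ ∨ χ = χ₃ ∨ ∃ j, χ = χ' j} ∧ (∀ l : ℕ, 0 < l → l < 2 ^ (n - 1) → (χ₁ : G → ℂ) (σ ^ l) = δ₁ ∧ (χ₂ : G → ℂ) (σ ^ l) = δ₂ * (-1) ^ (l + 1) ∧ (χ₃ : G → ℂ) (σ ^ l) = δ₃ * (-1) ^ (l + 1) ∧ ∀ j : Fin (2 ^ (n - 2) - 1), (χ' j : G → ℂ) (σ ^ l) = δ₁ * (ζ ^ (((j : ℕ) + 1) * l) + (ζ ^ (((j : ℕ) + 1) * l))⁻¹)) ∧ ∀ ρ : G, Odd (orderOf ρ) → ∀ j : Fin (2 ^ (n - 2) - 1), 1 + δ₁ * (χ₁ : G → ℂ) ρ = -δ₂ * (χ₂ : G → ℂ) ρ - δ₃ * (χ₃ : G → ℂ) ρ ∧ 1 + δ₁ * (χ₁ : G → ℂ) ρ = δ₁ * (χ' j : G → ℂ) ρ := by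
  classical
  have := CfsgLib.Block.isPrime_of_pmodular hM
  have : Fact (Nat.Prime 2) := ⟨Nat.prime_two⟩
  obtain ⟨e⟩ := hP
  obtain ⟨D₀⟩ := CfsgLib.Invol.exists_dihData P.2 (m := 2 ^ (n - 1))
    (Nat.le_self_pow (by omega) 2) e
  have hq : 2 ^ (n - 1) = 2 * 2 ^ (n - 2) := by
    rw [← pow_succ']; congr 1; omega
  have hcard : Nat.card (P : Subgroup G) = 4 * 2 ^ (n - 2) := by
    rw [Nat.card_congr e.toEquiv, DihedralGroup.nat_card, hq]; ring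
  have h2 : 2 ≤ 2 ^ (n - 2) := Nat.le_self_pow (by omega) 2
  obtain ⟨i, hi⟩ : ∃ i : ℤ, (⟨σ, hσ⟩ : (P : Subgroup G)) = D₀.r ^ i := by
    rcases D₀.cases ⟨σ, hσ⟩ with h | ⟨i, hi⟩
    · exact h
    · exfalso
      have h : orderOf (⟨σ, hσ⟩ : (P : Subgroup G)) = 2 := by rw [hi]; exact D₀.orderOf_zy i
      rw [Subgroup.orderOf_mk, hσo, hq] at h
      omega
  obtain ⟨D, hDh, hDr, -⟩ := CfsgLib.BlockA.DihedralBlock.exists_data_of_elems P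
    (h := 2 ^ (n - 2)) (by omega) ⟨n - 2, rfl⟩ hcard hσ (τ := (D₀.s : G)) (SetLike.coe_mem _)
    (hσo.trans hq) ((Subgroup.orderOf_coe _).trans D₀.orderOf_s) (by
      have h := congrArg Subtype.val (congrArg (fun z => z ^ i) D₀.conj_r)
      simp only [conj_zpow, inv_zpow] at h
      rw [← hi] at h
      exact h) (by
      rintro ⟨j, hj⟩
      refine D₀.s_notMem ⟨i * j, Subtype.ext ?_⟩
      show (((D₀.r ^ (i * j) : (P : Subgroup G))) : G) = _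
      rw [zpow_mul, ← hi, Subgroup.coe_zpow]
      exact hj)
  have hqD : 2 * D.h = 2 ^ (n - 1) := by rw [hDh, hq]
  obtain ⟨χ₁, χ₂, χ₃, χ', δ₁, δ₂, δ₃, S⟩ :=
    CfsgLib.BlockA.DihedralBlock.exists_shape hM P D (by omega) (ζ := ζ) (by rwa [hqD])
  have hj : ∀ j : Fin (2 ^ (n - 2) - 1), (j : ℕ) + 1 ∈ Finset.Ico 1 D.h := fun j => by
    have := j.isLt
    exact Finset.mem_Ico.2 ⟨by omega, by omega⟩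
  refine ⟨by rw [S.card_block, hDh], χ₁, χ₂, χ₃, fun j => χ' ((j : ℕ) + 1), δ₁, δ₂, δ₃, S.sgn₁,
    S.sgn₂, S.sgn₃, fun a b hab => ?_, S.ne_one₁, S.ne_one₂, S.ne_one₃, S.ne₁₂, S.ne₁₃, S.ne₂₃,
    fun j => S.leaf_ne _ (hj j), ?_, fun l hl0 hl => ?_, fun ρ hρ j => ?_⟩
  · have := S.injOn (Finset.mem_coe.2 (hj a)) (Finset.mem_coe.2 (hj b)) hab
    exact Fin.ext (by omega)
  · ext χ
    rw [S.block_eq]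
    refine or_congr Iff.rfl (or_congr Iff.rfl (or_congr Iff.rfl (or_congr Iff.rfl
      ⟨fun ⟨j, hj', e'⟩ => ?_, fun ⟨j, e'⟩ => ⟨_, hj j, e'⟩⟩)))
    obtain ⟨h1, h2'⟩ := Finset.mem_Ico.1 hj'
    exact ⟨⟨j - 1, by omega⟩, by rw [e']; congr 1; simp only; omega⟩
  · have hnd : ¬ 2 * D.h ∣ l := fun h => by have := Nat.le_of_dvd hl0 h; omega
    have hr : σ ^ l = CfsgLib.BlockA.DihedralBlock.rot P D ^ l := by rw [← hDr]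
    rw [hr]
    exact ⟨S.val₁ l hnd, S.val₂ l hnd, S.val₃ l hnd, fun j => S.val' l hnd _ (hj j)⟩
  · exact S.rel ρ (fun h => (Nat.not_even_iff_odd.2 hρ) (even_iff_two_dvd.2 h)) _ (hj j)

end Cfsg.Agent.S4481
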