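import Cfsg.Statements.S4483
import Cfsg.Agent.Lib.BlockA.RealBlock
import Cfsg.Agent.S4494

set_option autoImplicit false
open Cfsg

namespace Cfsg.Agent.S4483

/-- Let G be a finite group of order 2^n·g₀ with g₀ odd, and M a maximal ideal of the algebraic integers containing 2. Every real-valued irreducible character of G of odd degree lies in the principal 2-block; consequently G has at most 2^(2n) real-valued irreducible characters of odd degree. -/
theorem result {G : Type*} [Group G] [Finite G] (M : Ideal Cfsg.AlgInt) (hM : Cfsg.IsPModular 2 M) : (∀ χ : Cfsg.IrrCharacter G, (∀ g : G, ((χ : G → ℂ) g).im = 0) → Odd (Cfsg.charDegree (χ : G → ℂ)) → χ ∈ Cfsg.principalBlock M G) ∧ Nat.card {χ : Cfsg.IrrCharacter G // (∀ g : G, ((χ : G → ℂ) g).im = 0) ∧ Odd (Cfsg.charDegree (χ : G → ℂ))} ≤ 2 ^ (2 * (Nat.card G).factorization 2) := by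
  classical
  have := CfsgLib.Block.isPrime_of_pmodular hM
  have h1 : ∀ χ : Cfsg.IrrCharacter G, (∀ g : G, ((χ : G → ℂ) g).im = 0) →
      Odd (Cfsg.charDegree (χ : G → ℂ)) → χ ∈ Cfsg.principalBlock M G := by
    intro χ hre hodd
    have hB := CfsgLib.Block.isPBlock_blockOf (M := M) χ
    have hχ := CfsgLib.Block.mem_blockOf_self (M := M) χ
    rw [← CfsgLib.BlockA.eq_principalBlock_of_real hM hB ?_ hχ
      (CfsgLib.BlockA.realOnRegular_of_real hre)]
    · exact hχ
    · have h0 : (Cfsg.charDegree (χ : G → ℂ)).factorization 2 = 0 :=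
        Nat.factorization_eq_zero_of_not_dvd (Nat.odd_iff.1 hodd |> fun h => by omega)
      have h2 := CfsgLib.Block.sInf_degree_add_blockDefect hM hB
      have h3 : sInf ((fun φ : Cfsg.IrrCharacter G => (Cfsg.charDegree (φ : G → ℂ)).factorization 2)
          '' Cfsg.blockOf M (χ : G → ℂ)) ≤ 0 := h0 ▸ Nat.sInf_le ⟨χ, hχ, rfl⟩
      omega
  refine ⟨h1, ?_⟩
  have hinj : Nat.card {χ : Cfsg.IrrCharacter G // (∀ g : G, ((χ : G → ℂ) g).im = 0) ∧
      Odd (Cfsg.charDegree (χ : G → ℂ))} ≤ Nat.card (Cfsg.principalBlock M G) :=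
    Nat.card_le_card_of_injective (fun x => ⟨x.1, h1 x.1 x.2.1 x.2.2⟩)
      fun a b h => Subtype.ext (congrArg (fun t : Cfsg.principalBlock M G => t.1) h)
  have : Fact (Nat.Prime 2) := ⟨Nat.prime_two⟩
  have hbd := Cfsg.Agent.S4494.result 2 M hM (Cfsg.principalBlock M G)
    CfsgLib.Block.isPBlock_principalBlock
  have hd : 2 ^ (2 * Cfsg.blockDefect 2 (Cfsg.principalBlock M G)) ≤
      2 ^ (2 * (Nat.card G).factorization 2) :=
    Nat.pow_le_pow_right two_pos (Nat.mul_le_mul_left 2 (Nat.sub_le _ _))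
  have := Nat.one_le_pow (2 * (Nat.card G).factorization 2) 2 two_pos
  omega

end Cfsg.Agent.S4483
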