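import Cfsg.Statements.S4485
import Cfsg.Agent.Lib.Clifford.SmallDegreeTI

set_option autoImplicit false
open Cfsg

namespace Cfsg.Agent.S4485

open CfsgLib

universe u

theorem main (p : ℕ) [Fact p.Prime] (k : ℕ) : ∀ {G : Type u} [Group G] [Finite G] (P : Sylow p G),
    (∀ x ∈ (P : Subgroup G), x ≠ 1 →
      Subgroup.centralizer ({x} : Set G) = Subgroup.centralizer ((P : Subgroup G) : Set G)) →
    ∀ χ : G → ℂ, Cfsg.IsCharacter G χ → (∀ g : G, χ g = χ 1 → g = 1) →
    Cfsg.charDegree χ ^ 2 + 1 < Nat.card P → Nat.card G ≤ k → (P : Subgroup G).Normal := by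
  classical
  induction k with
  | zero =>
    intro G _ _ P _ χ _ _ _ h0
    have := Nat.card_pos (α := G)
    omega
  | succ k ih =>
    intro G _ _ P hstar χ hχ hfaith hdeg hcard
    have := Fintype.ofFinite G
    have := Fintype.ofFinite (Cfsg.IrrCharacter G)
    choose m hm using fun i : Cfsg.IrrCharacter G =>
      Char.classInner_isCharacter_nat hχ (Char.irr_isCharacter i.2)
    have hsum : ∀ g, χ g = ∑ i : Cfsg.IrrCharacter G, (m i : ℂ) * (i : G → ℂ) g := fun g => by
      rw [Char.classFunction_apply_eq_sum (Char.isCharacter_isClassFunction hχ) g]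
      simp only [hm]
    by_cases hlin : ∀ i : Cfsg.IrrCharacter G, m i ≠ 0 → (i : G → ℂ) 1 = 1
    · have hab : ∀ a b : G, a * b = b * a := fun a b => by
        have h : a * b * a⁻¹ * b⁻¹ = 1 := hfaith _ (by
          rw [hsum, hsum]
          refine Finset.sum_congr rfl fun i _ => ?_
          by_cases h0 : m i = 0
          · simp [h0]
          obtain ⟨l, hl⟩ := Char.exists_hom_of_degree_one (Char.irr_isCharacter i.2) (hlin i h0)
          simp [hl, map_mul, map_inv, mul_comm])
        rw [mul_inv_eq_one, mul_inv_eq_iff_eq_mul] at h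
        exact h
      exact ⟨fun n hn g => by rwa [hab g n, mul_inv_cancel_right]⟩
    push Not at hlin
    obtain ⟨i, hi0, hi1⟩ := hlin
    have hdegle : Cfsg.charDegree (i : G → ℂ) ≤ Cfsg.charDegree χ := by
      have h1 := hsum 1
      simp only [← BlockB.charDegree_cast (Char.irr_isCharacter (Subtype.prop _)),
        ← BlockB.charDegree_cast hχ] at h1
      have h2 : Cfsg.charDegree χ = ∑ j, m j * Cfsg.charDegree (j : G → ℂ) := by exact_mod_cast h1
      rw [h2]
      exact (Nat.le_mul_of_pos_left _ (Nat.pos_of_ne_zero hi0)).trans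
        (Finset.single_le_sum (f := fun j : Cfsg.IrrCharacter G =>
          m j * Cfsg.charDegree (j : G → ℂ)) (fun j _ => Nat.zero_le _) (Finset.mem_univ i))
    rcases CfsgLib.Clifford.SmallDegreeTI.dichotomy (P := P) hstar i (fun e => hi1 (congr_fun e 1))
      (lt_of_le_of_lt (Nat.add_le_add_right (Nat.pow_le_pow_left hdegle 2) 1) hdeg) with
      ⟨K, hKn, hKtop, hPK⟩ | ⟨-, h1⟩
    swap
    · exact absurd (by rw [← BlockB.charDegree_cast (Char.irr_isCharacter i.2), h1, Nat.cast_one])
        hi1
    set Q : Sylow p K := P.subtype hPK with hQ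
    have hlt : Nat.card K ≤ k := by
      have hne : Nat.card K ≠ Nat.card G := fun e => hKtop ((Subgroup.card_eq_iff_eq_top K).mp e)
      have := K.card_le_card_group
      omega
    have hmem : ∀ x : K, x ∈ (Q : Subgroup K) ↔ (x : G) ∈ (P : Subgroup G) := fun x =>
      Subgroup.mem_subgroupOf
    have hQcard : Nat.card Q = Nat.card P :=
      Nat.card_congr (Subgroup.subgroupOfEquivOfLe hPK).toEquiv
    have hQn : (Q : Subgroup K).Normal := ih Q (fun x hx hx1 => by
        have h := hstar x ((hmem x).mp hx) fun e => hx1 (Subtype.ext e)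
        ext t
        have ht : (t : G) ∈ Subgroup.centralizer ({(x : G)} : Set G) ↔
            (t : G) ∈ Subgroup.centralizer ((P : Subgroup G) : Set G) := by rw [h]
        rw [Subgroup.mem_centralizer_singleton_iff, Subgroup.mem_centralizer_iff] at ht
        rw [Subgroup.mem_centralizer_singleton_iff, Subgroup.mem_centralizer_iff]
        refine ⟨fun e u hu => Subtype.ext (ht.mp (congrArg Subtype.val e) _ ((hmem u).mp hu)),
          fun e => Subtype.ext (ht.mpr fun u hu => ?_)⟩
        exact congrArg Subtype.val (e ⟨u, hPK hu⟩ ((hmem ⟨u, hPK hu⟩).mpr hu)))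
      (fun x : K => χ x) (Char.isCharacter_restrict hχ K)
      (fun g hg => Subtype.ext (hfaith g hg)) (hQcard.symm ▸ hdeg) hlt
    have := Q.characteristic_of_normal hQn
    have h2 : ((Q : Subgroup K).map K.subtype).Normal := inferInstance
    rwa [show (Q : Subgroup K).map K.subtype = (P : Subgroup G) from
      Subgroup.map_subgroupOf_eq_of_le hPK] at h2

/-- Let G be a finite group and p a prime dividing its order such that every non-identity element of a Sylow p-subgroup P has the same centralizer as P itself (so P is abelian); let p^n be the order of P. If G has a faithful character of degree x with x² < p^n − 1, then P is normal in G. -/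
theorem result {G : Type*} [Group G] [Finite G] (p : ℕ) (hp : p.Prime) (hpG : p ∣ Nat.card G) (P : Sylow p G) (hstar : ∀ x ∈ (P : Subgroup G), x ≠ 1 → Subgroup.centralizer ({x} : Set G) = Subgroup.centralizer ((P : Subgroup G) : Set G)) (n : ℕ) (hn : Nat.card P = p ^ n) (χ : G → ℂ) (hχ : Cfsg.IsCharacter G χ) (hfaith : ∀ g : G, χ g = χ 1 → g = 1) (hdeg : Cfsg.charDegree χ ^ 2 + 1 < p ^ n) : (P : Subgroup G).Normal := by
  have : Fact p.Prime := ⟨hp⟩
  exact main p (Nat.card G) P hstar χ hχ hfaith (hn ▸ hdeg) le_rfl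

end Cfsg.Agent.S4485
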