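import Cfsg.Statements.S4488
import Cfsg.Agent.Lib.BlockA.SchurBound

set_option autoImplicit false
open Cfsg

namespace Cfsg.Agent.S4488

/-- Let the finite group G have a faithful p-rational character χ of degree n (all values of χ lie in the field generated over ℚ by a root of unity of order prime to p), and let p^a be the order of a Sylow p-subgroup of G. Then a ≤ Σ_{i ≥ 0} ⌊n / ((p − 1)·p^i)⌋ (a finite sum; the terms vanish once (p − 1)p^i > n). -/
theorem result {G : Type*} [Group G] [Finite G] (p : ℕ) (hp : p.Prime) (χ : G → ℂ) (hχ : Cfsg.IsCharacter G χ) (hfaith : ∀ g : G, χ g = χ 1 → g = 1) (hrat : (∃ r : ℕ, 0 < r ∧ ¬ p ∣ r ∧ ∀ g : G, χ g ∈ IntermediateField.adjoin ℚ ({Complex.exp (2 * Real.pi * Complex.I / r)} : Set ℂ))) (n : ℕ) (hn : Cfsg.charDegree χ = n) : (Nat.card G).factorization p ≤ ∑ i ∈ Finset.range (n + 1), n / ((p - 1) * p ^ i) := by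
  classical
  haveI := Fact.mk hp
  obtain ⟨r, hr0, hr, hval⟩ := hrat
  obtain ⟨P⟩ := (inferInstance : Nonempty (Sylow p G))
  have := Fintype.ofFinite (P : Subgroup G)
  have h1 : (χ 1 : ℂ) = (n : ℂ) := by
    obtain ⟨d, hd⟩ := CfsgLib.Char.char_apply_one_eq_nat hχ
    rw [hd]
    rw [Cfsg.charDegree, hd] at hn
    simp at hn
    rw [hn]
  have h := CfsgLib.BlockA.SchurBound.schur_bound P.isPGroup'
    (CfsgLib.Char.isCharacter_comp hχ (P : Subgroup G).subtype) (n := n)
    (fun x hx => Subtype.ext (hfaith x (by simpa using hx)))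
    (fun x i hi => by
      simp only [Function.comp_apply, Subgroup.coe_subtype, SubgroupClass.coe_pow]
      refine CfsgLib.BlockA.SchurBound.rat_of_adjoin hχ hr0 hr hval x ?_ i hi
      obtain ⟨k, hk⟩ := IsPGroup.iff_orderOf.1 P.isPGroup' x
      exact ⟨k, by rw [Subgroup.orderOf_coe, hk]⟩)
    (by simpa using h1)
  rwa [P.card_eq_multiplicity, hp.factorization_pow, Finsupp.single_eq_same] at h

end Cfsg.Agent.S4488
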