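import Cfsg.Statements.S4490
import Cfsg.Agent.Lib.BlockA.RealBlock

set_option autoImplicit false
open Cfsg

namespace Cfsg.Agent.S4490

/-- Let G be a finite group and M a maximal ideal of the algebraic integers containing 2. Every 2-block B of G whose defect groups are the Sylow 2-subgroups of G (a block of full defect) and which is not the principal block is different from its complex-conjugate block, the block formed by the complex conjugates of the members of B. -/
theorem result {G : Type*} [Group G] [Finite G] (M : Ideal Cfsg.AlgInt) (hM : Cfsg.IsPModular 2 M) (B : Set (Cfsg.IrrCharacter G)) (hB : Cfsg.IsPBlock M B) (P : Sylow 2 G) (hfull : Cfsg.IsDefectGroup 2 M B (P : Subgroup G)) (hnp : B ≠ Cfsg.principalBlock M G) : {ψ : Cfsg.IrrCharacter G | ∃ χ ∈ B, (ψ : G → ℂ) = fun g => (starRingEnd ℂ) ((χ : G → ℂ) g)} ≠ B := by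
  classical
  intro heq
  have := CfsgLib.Block.isPrime_of_pmodular hM
  apply hnp
  obtain ⟨χ, hχ⟩ := CfsgLib.Block.isPBlock_nonempty hB
  refine CfsgLib.BlockA.eq_principalBlock_of_real hM hB ?_ hχ fun g _ => ?_
  · have h := CfsgLib.Block.natCard_defectGroup hM hB hfull
    rw [Sylow.card_eq_multiplicity] at h
    exact (Nat.pow_right_injective le_rfl h).symm
  · let τ : Cfsg.IrrCharacter G :=
      ⟨fun x => starRingEnd ℂ ((χ : G → ℂ) x), CfsgLib.Char.isIrrCharacter_conj χ.2⟩
    have hτ : τ ∈ B := by rw [← heq]; exact ⟨χ, hχ, rfl⟩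
    have h := CfsgLib.Block.sameBlock_of_mem hB hχ hτ g
    have e : Cfsg.centralChar (τ : G → ℂ) g = Cfsg.centralChar (χ : G → ℂ) g⁻¹ := by
      simp only [Cfsg.centralChar, CfsgLib.BlockA.centralizer_inv_eq, τ]
      rw [CfsgLib.Block.irr_conj_eq χ.2, CfsgLib.Block.irr_conj_eq χ.2, inv_one]
    rw [e] at h
    have h2 := CfsgLib.Block.memLocalIdeal_neg h
    rwa [neg_sub] at h2

end Cfsg.Agent.S4490
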