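import Cfsg.Statements.S4491
import Cfsg.Agent.Lib.BlockA.DefectRows
import Cfsg.Agent.Lib.Block.Green

set_option autoImplicit false
open Cfsg

namespace Cfsg.Agent.S4491

/-- Let B be a p-block of defect d of the finite group G (relative to a maximal ideal M of the algebraic integers containing p), and let p^a be the p-part of the order of G. Then the exact power of p dividing the sum of the squares of the degrees of the irreducible characters in B is p^(2a − d). -/
theorem result {G : Type*} [Group G] [Finite G] (p : ℕ) [Fact p.Prime] (M : Ideal Cfsg.AlgInt) (hM : Cfsg.IsPModular p M) (B : Set (Cfsg.IrrCharacter G)) (hB : Cfsg.IsPBlock M B) : (∑ᶠ χ ∈ B, Cfsg.charDegree (χ : G → ℂ) ^ 2).factorization p = 2 * (Nat.card G).factorization p - Cfsg.blockDefect p B := by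
  have := hM.2.1.isPrime
  have := Fintype.ofFinite (IrrCharacter G)
  obtain ⟨A, hA, hA', hone⟩ := CfsgLib.Block.exists_unit_blockCoeff_one hM hB
  set h := sInf ((fun ψ : IrrCharacter G => (charDegree (ψ : G → ℂ)).factorization p) '' B) with hh
  have hsum : ((∑ᶠ χ ∈ B, charDegree (χ : G → ℂ) ^ 2 : ℕ) : ℂ) =
      ((Nat.card G * p ^ h : ℕ) : ℂ) * A := by
    rw [Nat.cast_mul, mul_assoc, ← hone, blockCoeff, ← mul_assoc,
      mul_inv_cancel₀ (Nat.cast_ne_zero.2 Nat.card_pos.ne'), one_mul,
      finsum_mem_eq_finite_toFinset_sum _ B.toFinite,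
      finsum_mem_eq_finite_toFinset_sum _ B.toFinite, Nat.cast_sum]
    refine Finset.sum_congr rfl fun χ _ => ?_
    rw [← CfsgLib.Block.charDegree_cast (CfsgLib.Char.irr_isCharacter χ.2), Complex.conj_natCast,
      Nat.cast_pow, sq]
  have hp := (Fact.out : p.Prime)
  have h1 := CfsgLib.BlockA.factorization_eq_of_unit_mul hM
    (mul_ne_zero Nat.card_pos.ne' (pow_ne_zero _ hp.ne_zero)) hA hA' hsum
  have h2 := CfsgLib.Block.sInf_degree_add_blockDefect hM hB
  rw [h1, Nat.factorization_mul Nat.card_pos.ne' (pow_ne_zero _ hp.ne_zero)]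
  simp only [Finsupp.add_apply, hp.factorization_pow, Finsupp.single_eq_same]
  omega

end Cfsg.Agent.S4491
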