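import Cfsg.Statements.S4495
import Cfsg.Agent.Lib.Block.SelfCentralQuot
-- import your own Cfsg.Agent.* helpers here

set_option autoImplicit false
open Cfsg

namespace Cfsg.Agent.S4495

/-- Let the finite group G contain an element x of prime order p with C_G(x) = ⟨x⟩, and let t be the number of conjugacy classes of elements of order p. If t ≠ p − 1 then the commutator subgroup has index at most (p − 1)/t; if t = p − 1 it has index exactly p. -/
theorem result {G : Type*} [Group G] [Finite G] (p : ℕ) (hp : p.Prime) (x : G) (hx : orderOf x = p) (hC : Subgroup.centralizer ({x} : Set G) = Subgroup.zpowers x) (t : ℕ) (ht : Nat.card {C : ConjClasses G // ∃ g ∈ C.carrier, orderOf g = p} = t) : (t ≠ p - 1 → (commutator G).index * t ≤ p - 1) ∧ (t = p - 1 → (commutator G).index = p) := by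
  have : Fact p.Prime := ⟨hp⟩
  refine ⟨fun htp => ?_, fun htp =>
    (CfsgLib.Block.SelfCentralPrime.natCard_commutator_of_eq hx hC ht htp).1⟩
  have h1 := CfsgLib.Block.SelfCentralPrime.one_lt_of_ne hx hC ht htp
  have hxG := CfsgLib.Block.SelfCentralPrime.mem_commutator_of_one_lt hx hC h1
  have hte := CfsgLib.Block.SelfCentralPrime.natCard_classes_mul hx hC ht
  set N₀ := Subgroup.normalizer ((Subgroup.zpowers x : Subgroup G) : Set G) with hN
  have hsup : commutator G ⊔ N₀ = ⊤ := top_unique fun g _ => by
    obtain ⟨n, hn, l, hl, rfl⟩ :=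
      CfsgLib.Block.SelfCentralPrime.exists_mul_of_mem hx hC (commutator G) hxG g
    exact mul_mem (Subgroup.mem_sup_right hn) (Subgroup.mem_sup_left hl)
  have hidx : (commutator G).index = Subgroup.relIndex (commutator G) N₀ := by
    rw [← Subgroup.relIndex_sup_right, sup_comm, hsup, Subgroup.relIndex_top_right]
  have hdvd : (commutator G).index ∣ Subgroup.relIndex (Subgroup.zpowers x) N₀ := by
    rw [hidx]
    exact Subgroup.relIndex_dvd_of_le_left _ (Subgroup.zpowers_le.2 hxG)
  calc (commutator G).index * t ≤ Subgroup.relIndex (Subgroup.zpowers x) N₀ * t :=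
        Nat.mul_le_mul_right t (Nat.le_of_dvd (by omega) hdvd)
    _ = p - 1 := by rw [mul_comm, hte]

end Cfsg.Agent.S4495
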