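import Cfsg.Statements.S4497
import Cfsg.Agent.Lib.Block.SelfCentralQuot
import Cfsg.Agent.Lib.Comp.Subnormal
-- import your own Cfsg.Agent.* helpers here

set_option autoImplicit false
open Cfsg

namespace Cfsg.Agent.S4497

/-- Let the finite group G contain an element x of prime order p with C_G(x) = ⟨x⟩, let t be the number of conjugacy classes of elements of order p, and let S* = O_{p′}(G) be the largest normal subgroup of order prime to p. Then S* ≤ G′; if t ≠ p − 1 the quotient G′/S* is simple (in particular non-trivial); if t = p − 1 then G′ = S*. -/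
theorem result {G : Type*} [Group G] [Finite G] (p : ℕ) (hp : p.Prime) (x : G) (hx : orderOf x = p) (hC : Subgroup.centralizer ({x} : Set G) = Subgroup.zpowers x) (t : ℕ) (ht : Nat.card {C : ConjClasses G // ∃ g ∈ C.carrier, orderOf g = p} = t) : Cfsg.pPrimeCore p G ≤ commutator G ∧ (t ≠ p - 1 → ∀ h : ((Cfsg.pPrimeCore p G).subgroupOf (commutator G)).Normal, IsSimpleGroup (↥(commutator G) ⧸ (Cfsg.pPrimeCore p G).subgroupOf (commutator G))) ∧ (t = p - 1 → commutator G = Cfsg.pPrimeCore p G) := by
  have : Fact p.Prime := ⟨hp⟩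
  set K := Cfsg.pPrimeCore p G with hK
  have hKn : K.Normal := Cfsg.pPrimeCore_normal p G
  have hKp : ¬ p ∣ Nat.card K := CfsgLib.Comp.not_dvd_card_pPrimeCore p G
  have hKle : K ≤ commutator G :=
    CfsgLib.Block.SelfCentralPrime.le_commutator_of_not_dvd hx hC K hKp
  refine ⟨hKle, fun htp hn => ?_, fun htp => le_antisymm ?_ hKle⟩
  · have h1 := CfsgLib.Block.SelfCentralPrime.one_lt_of_ne hx hC ht htp
    have hxG := CfsgLib.Block.SelfCentralPrime.mem_commutator_of_one_lt hx hC h1
    have hxK : x ∉ K := fun h => hKp (hx ▸ Subgroup.orderOf_dvd_natCard _ h)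
    set D := commutator G with hD
    let q := QuotientGroup.mk' (K.subgroupOf D)
    have hqsurj : Function.Surjective q := QuotientGroup.mk'_surjective _
    refine { exists_pair_ne := ⟨q ⟨x, hxG⟩, 1, fun h => hxK
      (Subgroup.mem_subgroupOf.1 ((QuotientGroup.eq_one_iff (⟨x, hxG⟩ : D)).1 h))⟩
             eq_bot_or_eq_top_of_normal := fun Q hQ => ?_ }
    have hUn : (Q.comap q).Normal := hQ.comap q
    have hV : ((Q.comap q).map D.subtype).IsSubnormal :=
      CfsgLib.Comp.isSubnormal_map_of_normal (inferInstance : D.Normal).isSubnormal _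
    have hQ' : Q = (Q.comap q).map q := (Subgroup.map_comap_eq_self_of_surjective hqsurj Q).symm
    by_cases hdvd : p ∣ Nat.card (Q.comap q)
    · right
      obtain ⟨y, hy⟩ := exists_prime_orderOf_dvd_card' (G := Q.comap q) p hdvd
      obtain ⟨P, hP⟩ := CfsgLib.Block.SelfCentralPrime.exists_sylow_eq hx hC
      have hUx : ∀ g : G, ∃ h : g * x * g⁻¹ ∈ D, (⟨_, h⟩ : D) ∈ Q.comap q := by
        intro g
        refine ⟨(inferInstance : D.Normal).conj_mem x hxG g, ?_⟩
        have hD2 : ¬ p ^ 2 ∣ Nat.card D := fun h =>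
          CfsgLib.Block.SelfCentralPrime.not_sq_dvd hx hC (h.trans D.card_subgroup_dvd_card)
        have hPD : ∀ z : D, orderOf z = p → Nat.card (Subgroup.zpowers z) =
            p ^ (Nat.card D).factorization p := fun z hz => by
          rw [Nat.card_zpowers, hz]
          have h2 := (hp.dvd_iff_one_le_factorization Nat.card_pos.ne').1
            (hz ▸ orderOf_dvd_natCard z)
          have h3 : ¬ 2 ≤ (Nat.card D).factorization p := fun h =>
            hD2 ((hp.pow_dvd_iff_le_factorization Nat.card_pos.ne').2 h)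
          rw [show (Nat.card D).factorization p = 1 by omega, pow_one]
        set w : D := ⟨g * x * g⁻¹, (inferInstance : D.Normal).conj_mem x hxG g⟩ with hw
        have hwo : orderOf w = p := by
          rw [hw, Subgroup.orderOf_mk, ← MulAut.conj_apply, MulEquiv.orderOf_eq, hx]
        have hyo : orderOf (y : D) = p := by rw [Subgroup.orderOf_coe, hy]
        let S1 : Sylow p D := Sylow.ofCard _ (hPD _ hyo)
        let S2 : Sylow p D := Sylow.ofCard _ (hPD _ hwo)
        obtain ⟨c, hc⟩ := MulAction.exists_smul_eq D S1 S2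
        have hmem : w ∈ ((c • S1 : Sylow p D) : Subgroup D) := hc ▸ Subgroup.mem_zpowers w
        have hle : ((c • S1 : Sylow p D) : Subgroup D) ≤ Q.comap q := by
          rintro z ⟨u, hu, rfl⟩
          exact hUn.conj_mem u (Subgroup.zpowers_le.2 y.2 hu) c
        exact hle hmem
      have hcl : Subgroup.normalClosure ({x} : Set G) ≤ (Q.comap q).map D.subtype := by
        refine (Subgroup.closure_le _).2 fun z hz => ?_
        obtain ⟨a, ha, hconj⟩ := Group.mem_conjugatesOfSet_iff.1 hz
        rw [Set.mem_singleton_iff] at ha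
        subst ha
        obtain ⟨g, rfl⟩ := isConj_iff.1 hconj
        obtain ⟨h, hh⟩ := hUx g
        exact ⟨⟨_, h⟩, hh, rfl⟩
      have hle : D ≤ (Q.comap q).map D.subtype :=
        (CfsgLib.Block.SelfCentralPrime.commutator_le_of_mem hx hC _
          (Subgroup.subset_normalClosure (Set.mem_singleton x))).trans hcl
      rw [hQ', eq_top_iff]
      intro z _
      obtain ⟨d, rfl⟩ := hqsurj z
      obtain ⟨d', hd', hdd⟩ := hle d.2
      exact ⟨d', hd', by rw [Subtype.coe_injective hdd]⟩
    · left
      have hle : (Q.comap q).map D.subtype ≤ K := by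
        refine CfsgLib.Comp.le_pPrimeCore_of_isSubnormal hV ?_
        rw [Subgroup.card_map_of_injective D.subtype_injective]
        exact (hp.coprime_iff_not_dvd.2 hdvd).symm
      rw [hQ', eq_bot_iff]
      rintro z ⟨d, hd, rfl⟩
      exact Subgroup.mem_bot.2 ((QuotientGroup.eq_one_iff d).2
        (Subgroup.mem_subgroupOf.2 (hle ⟨d, hd, rfl⟩)))
  · exact CfsgLib.Comp.le_pPrimeCore_of_isSubnormal
      (inferInstance : (commutator G).Normal).isSubnormal
      (hp.coprime_iff_not_dvd.2
        (CfsgLib.Block.SelfCentralPrime.natCard_commutator_of_eq hx hC ht htp).2).symm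

end Cfsg.Agent.S4497
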