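import Cfsg.Statements.S4498
import Cfsg.Agent.Lib.Block.Orthogonality
import Cfsg.Agent.Lib.Char.Orthogonality
import Cfsg.Agent.Lib.Block.Blocks

set_option autoImplicit false
open Cfsg

namespace Cfsg.Agent.S4498

open scoped ComplexConjugate


/-- Let p and q be distinct primes dividing the order of the finite group G, and suppose G has no element of order p·q. Fix maximal ideals M_p over p and M_q over q of the algebraic integers. Then the principal p-block and the principal q-block of G have a non-principal irreducible character in common. -/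
theorem result {G : Type*} [Group G] [Finite G] (p q : ℕ) [Fact p.Prime] [Fact q.Prime] (hpq : p ≠ q) (hp : p ∣ Nat.card G) (hq : q ∣ Nat.card G) (hno : ∀ g : G, orderOf g ≠ p * q) (Mp Mq : Ideal Cfsg.AlgInt) (hMp : Cfsg.IsPModular p Mp) (hMq : Cfsg.IsPModular q Mq) : ∃ χ : Cfsg.IrrCharacter G, (χ : G → ℂ) ≠ (fun _ => 1) ∧ χ ∈ Cfsg.principalBlock Mp G ∧ χ ∈ Cfsg.principalBlock Mq G := by
  classical
  have := hMp.2.1.isPrime
  have := hMq.2.1.isPrime
  have := Fintype.ofFinite G
  have hp' := (Fact.out : p.Prime)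
  have hq' := (Fact.out : q.Prime)
  obtain ⟨x, hx⟩ := exists_prime_orderOf_dvd_card' p hp
  obtain ⟨y, hy⟩ := exists_prime_orderOf_dvd_card' q hq
  by_contra hcon
  push Not at hcon
  let φ : G → ℂ := fun g => ∑ᶠ χ ∈ principalBlock Mp G, (χ : G → ℂ) g * conj ((χ : G → ℂ) x)
  let ψ : G → ℂ := fun g => ∑ᶠ η ∈ principalBlock Mq G, (η : G → ℂ) g * conj ((η : G → ℂ) y)
  have hzero : ∀ g : G, φ g * conj (ψ g) = 0 := by
    intro g
    by_cases hgp : p ∣ orderOf g
    · by_cases hgq : q ∣ orderOf g
      · exfalso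
        have hdvd : p * q ∣ orderOf g :=
          ((Nat.coprime_primes hp' hq').2 hpq).mul_dvd_of_dvd_of_dvd hgp hgq
        refine hno (g ^ (orderOf g / (p * q))) ?_
        rw [orderOf_pow' g (Nat.div_pos (Nat.le_of_dvd (orderOf_pos g) hdvd)
          (Nat.mul_pos hp'.pos hq'.pos)).ne', Nat.gcd_eq_right (Nat.div_dvd_of_dvd hdvd),
          Nat.div_div_self hdvd (orderOf_pos g).ne']
      · refine mul_eq_zero_of_right _ ((map_eq_zero _).2 ?_)
        exact CfsgLib.Block.sum_block_eq_zero_of_regular_singular hMq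
          CfsgLib.Block.isPBlock_principalBlock hgq (hy.symm ▸ dvd_rfl)
    · refine mul_eq_zero_of_left ?_ _
      exact CfsgLib.Block.sum_block_eq_zero_of_regular_singular hMp
          CfsgLib.Block.isPBlock_principalBlock hgp (hx.symm ▸ dvd_rfl)
  set one : IrrCharacter G := CfsgLib.Block.trivIrr
  have h1p : one ∈ principalBlock Mp G := CfsgLib.Block.one_mem_principalBlock
  have h1q : one ∈ principalBlock Mq G := CfsgLib.Block.one_mem_principalBlock
  have hexp : ∀ g : G, φ g * conj (ψ g) =
      ∑ χ ∈ (principalBlock Mp G).toFinite.toFinset, ∑ η ∈ (principalBlock Mq G).toFinite.toFinset,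
        (conj ((χ : G → ℂ) x) * (η : G → ℂ) y) * ((χ : G → ℂ) g * conj ((η : G → ℂ) g)) := by
    intro g
    simp only [φ, ψ, finsum_mem_eq_finite_toFinset_sum _ (Set.toFinite _), map_sum, map_mul,
      Complex.conj_conj, Finset.sum_mul, Finset.mul_sum]
    rw [Finset.sum_comm]
    refine Finset.sum_congr rfl fun χ _ => Finset.sum_congr rfl fun η _ => ?_
    ring
  have hsum : ∑ g : G, φ g * conj (ψ g) = 0 := Finset.sum_eq_zero fun g _ => hzero g
  simp only [hexp] at hsum
  rw [Finset.sum_comm] at hsum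
  rw [Finset.sum_eq_single one, Finset.sum_comm, Finset.sum_eq_single one] at hsum
  · simp [one, CfsgLib.Block.trivIrr] at hsum
  · intro η hη hne
    rw [← Finset.mul_sum]
    have h := CfsgLib.Char.irr_classInner_ne one.2 η.2 (fun h => hne (Subtype.ext h.symm))
    rw [classInner, mul_eq_zero, or_iff_right (inv_ne_zero (Nat.cast_ne_zero.2 Nat.card_pos.ne'))]
      at h
    rw [h, mul_zero]
  · exact fun h => absurd ((principalBlock Mq G).toFinite.mem_toFinset.2 h1q) h
  · intro χ hχ hne
    rw [Finset.sum_comm]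
    refine Finset.sum_eq_zero fun η hη => ?_
    rw [← Finset.mul_sum]
    have hne' : χ ≠ η := by
      rintro rfl
      exact hcon χ (fun h => hne (Subtype.ext h)) ((Set.Finite.mem_toFinset _).1 hχ)
        ((Set.Finite.mem_toFinset _).1 hη)
    have h := CfsgLib.Char.irr_classInner_ne χ.2 η.2 (fun h => hne' (Subtype.ext h))
    rw [classInner, mul_eq_zero, or_iff_right (inv_ne_zero (Nat.cast_ne_zero.2 Nat.card_pos.ne'))]
      at h
    rw [h, mul_zero]
  · exact fun h => absurd ((principalBlock Mp G).toFinite.mem_toFinset.2 h1p) h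

end Cfsg.Agent.S4498
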