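import Cfsg.Statements.S4502
import Cfsg.Agent.Lib.Block.DefectOneCount
import Cfsg.Agent.Lib.BlockB.PModular

set_option autoImplicit false
open Cfsg

namespace Cfsg.Agent.S4502

/-- Let G be a finite group whose order is divisible by the prime p exactly once, and let P be a Sylow p-subgroup. Then the number of irreducible characters of G of degree not divisible by p equals the number of conjugacy classes of the normalizer of P. -/
theorem result {G : Type*} [Group G] [Finite G] (p : ℕ) [Fact p.Prime] (hdiv : p ∣ Nat.card G) (hsq : ¬ p ^ 2 ∣ Nat.card G) (P : Sylow p G) : Nat.card {χ : Cfsg.IrrCharacter G // ¬ p ∣ Cfsg.charDegree (χ : G → ℂ)} = Nat.card (ConjClasses (Subgroup.normalizer ((P : Subgroup G) : Set G))) := by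
  classical
  have := Fintype.ofFinite G
  have hp : p.Prime := Fact.out
  obtain ⟨M, hM⟩ := CfsgLib.BlockB.exists_isPModular hp
  have := hM.2.1.isPrime
  have hfac : (Nat.card G).factorization p = 1 := by
    have h2 := (hp.dvd_iff_one_le_factorization Nat.card_pos.ne').1 hdiv
    have h3 : ¬ 2 ≤ (Nat.card G).factorization p := fun h =>
      hsq ((hp.pow_dvd_iff_le_factorization Nat.card_pos.ne').2 h)
    omega
  have hP : Nat.card P = p := by rw [P.card_eq_multiplicity, hfac, pow_one]
  obtain ⟨⟨x, hx⟩, hxo⟩ := exists_prime_orderOf_dvd_card' (G := (P : Subgroup G)) p (by rw [hP])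
  rw [Subgroup.orderOf_mk] at hxo
  have hPx : (P : Subgroup G) = Subgroup.zpowers x := (Subgroup.eq_of_le_of_card_ge
    (Subgroup.zpowers_le.2 hx) (by rw [Nat.card_zpowers, hxo, hP])).symm
  rw [hPx]
  set N := Subgroup.normalizer ((Subgroup.zpowers x : Subgroup G) : Set G) with hN
  have hxN : x ∈ N := Subgroup.le_normalizer (Subgroup.mem_zpowers x)
  set x' : N := ⟨x, hxN⟩ with hx'
  have hxo' : orderOf x' = p := (Subgroup.orderOf_mk x hxN).trans hxo
  have hsq' : ¬ p ^ 2 ∣ Nat.card N := fun h => hsq (h.trans (Subgroup.card_subgroup_dvd_card N))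
  have hnorm : (Subgroup.zpowers x').Normal := by
    refine ⟨fun a ha c => ?_⟩
    obtain ⟨k, rfl⟩ := Subgroup.mem_zpowers_iff.1 ha
    obtain ⟨j, hj⟩ := Subgroup.mem_zpowers_iff.1
      ((Subgroup.mem_normalizer_iff.1 c.2 (x ^ k)).1 (zpow_mem (Subgroup.mem_zpowers x) k))
    exact Subgroup.mem_zpowers_iff.2 ⟨j, Subtype.ext (by simpa [x'] using hj)⟩
  have h1 := CfsgLib.Block.DefectOne.count_prime_degree (x := x) hM hxo hsq
  have h2 := CfsgLib.Block.DefectOne.count_prime_degree (x := x') hM hxo' hsq'
  -- all characters of the normalizer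
  have hall : ∀ χ : Cfsg.IrrCharacter N, ¬ p ∣ Cfsg.charDegree (χ : N → ℂ) := by
    intro χ hdvd
    have h := hdvd.trans (CfsgLib.Block.charDegree_dvd_index_of_abelian (Subgroup.zpowers x')
      (fun a ha b hb => by
        obtain ⟨i, rfl⟩ := Subgroup.mem_zpowers_iff.1 ha
        obtain ⟨j, rfl⟩ := Subgroup.mem_zpowers_iff.1 hb
        exact (Commute.zpow_zpow_self x' i j).eq) χ)
    apply hsq'
    rw [← (Subgroup.zpowers x').card_mul_index, Nat.card_zpowers, hxo', pow_two]
    exact mul_dvd_mul_left p h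
  rw [Nat.card_congr (Equiv.subtypeUnivEquiv hall), CfsgLib.Char.irr_card_eq] at h2
  -- the centralizers
  have hCN : Subgroup.centralizer ({x} : Set G) ≤ N :=
    CfsgLib.Block.DefectOne.centralizer_zpowers (x := x) ▸ Subgroup.centralizer_le_normalizer _
  let ι : Subgroup.centralizer ({x'} : Set N) ≃* Subgroup.centralizer ({x} : Set G) :=
    { toFun := fun c => ⟨((c : N) : G), Subgroup.mem_centralizer_singleton_iff.2
        (congrArg Subtype.val (Subgroup.mem_centralizer_singleton_iff.1 c.2))⟩
      invFun := fun c => ⟨⟨c, hCN c.2⟩, Subgroup.mem_centralizer_singleton_iff.2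
        (Subtype.ext (Subgroup.mem_centralizer_singleton_iff.1 c.2))⟩
      left_inv := fun c => rfl
      right_inv := fun c => rfl
      map_mul' := fun a b => rfl }
  have hcard : Nat.card (Subgroup.centralizer ({x'} : Set N)) =
      Nat.card (Subgroup.centralizer ({x} : Set G)) := Nat.card_congr ι.toEquiv
  have hnt : Subgroup.normalizer ((Subgroup.zpowers x' : Subgroup N) : Set N) = ⊤ :=
    Subgroup.normalizer_eq_top _
  have hrel : Subgroup.relIndex (Subgroup.centralizer ({x'} : Set N))
      (Subgroup.normalizer ((Subgroup.zpowers x' : Subgroup N) : Set N)) =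
      Subgroup.relIndex (Subgroup.centralizer ({x} : Set G)) N := by
    rw [hnt, Subgroup.relIndex_top_right]
    refine mul_left_cancel₀ (Nat.card_pos (α := Subgroup.centralizer ({x'} : Set N))).ne' ?_
    rw [Subgroup.card_mul_index, hcard, Subgroup.relIndex,
      ← Nat.card_congr (Subgroup.subgroupOfEquivOfLe hCN).toEquiv, Subgroup.card_mul_index]
  have hsum : (∑ᶠ θ : {θ : Cfsg.IrrCharacter (Subgroup.centralizer ({x} : Set G)) //
        (θ : Subgroup.centralizer ({x} : Set G) → ℂ) ⟨x, CfsgLib.Block.DefectOne.mem_cen_self⟩ =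
          (θ : Subgroup.centralizer ({x} : Set G) → ℂ) 1},
        (CfsgLib.Block.DefectOne.stabCard x θ.1 ^ 2 +
          (p - 1) * Nat.card (Subgroup.centralizer ({x} : Set G)) ^ 2)) =
      ∑ᶠ θ : {θ : Cfsg.IrrCharacter (Subgroup.centralizer ({x'} : Set N)) //
        (θ : Subgroup.centralizer ({x'} : Set N) → ℂ) ⟨x', CfsgLib.Block.DefectOne.mem_cen_self⟩ =
          (θ : Subgroup.centralizer ({x'} : Set N) → ℂ) 1},
        (CfsgLib.Block.DefectOne.stabCard x' θ.1 ^ 2 +
          (p - 1) * Nat.card (Subgroup.centralizer ({x'} : Set N)) ^ 2) := by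
    let E : Cfsg.IrrCharacter (Subgroup.centralizer ({x} : Set G)) ≃
        Cfsg.IrrCharacter (Subgroup.centralizer ({x'} : Set N)) :=
      { toFun := CfsgLib.Block.pullIrr ι
        invFun := CfsgLib.Block.pullIrr ι.symm
        left_inv := fun θ => Subtype.ext (funext fun c => congrArg _ (ι.apply_symm_apply c))
        right_inv := fun θ => Subtype.ext (funext fun c => congrArg _ (ι.symm_apply_apply c)) }
    refine finsum_eq_of_bijective (E.subtypeEquiv fun θ => ?_) (Equiv.bijective _) fun θ => ?_
    · rw [show (E θ : Subgroup.centralizer ({x'} : Set N) → ℂ) 1 =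
        (θ : Subgroup.centralizer ({x} : Set G) → ℂ) 1 from
        congrArg (θ : Subgroup.centralizer ({x} : Set G) → ℂ) (map_one ι)]
      rfl
    · rw [hcard]
      congr 2
      rw [CfsgLib.Block.DefectOne.stabCard, CfsgLib.Block.DefectOne.stabCard, hnt]
      refine Nat.card_congr
        { toFun := fun n => ⟨⟨n.1, n.2.1⟩, Subgroup.mem_top _, fun c c' h =>
            n.2.2 (ι c) (ι c') (congrArg Subtype.val h)⟩
          invFun := fun n => ⟨n.1.1, n.1.2, fun c c' h => ?_⟩
          left_inv := fun n => rfl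
          right_inv := fun n => rfl }
      have h' := n.2.2 (ι.symm c) (ι.symm c') (Subtype.ext h)
      exact h'
  rw [hsum, ← h2, hrel, hcard] at h1
  have hne : Subgroup.relIndex (Subgroup.centralizer ({x} : Set G)) N ≠ 0 :=
    Subgroup.index_ne_zero_of_finite
  exact mul_left_cancel₀ hne (mul_right_cancel₀ (pow_ne_zero 2 Nat.card_pos.ne') h1)

end Cfsg.Agent.S4502
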