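import Cfsg.Statements.S4503
import Cfsg.Agent.Lib.Block.SmallDegreeNormal

set_option autoImplicit false
open Cfsg

namespace Cfsg.Agent.S4503

/-- Let G be a finite group whose order is divisible by the prime p exactly once and which has no normal subgroup of order p. Then every faithful character χ of G has degree at least (p − 1)/2: 2·χ(1) + 1 ≥ p. -/
theorem result {G : Type*} [Group G] [Finite G] (p : ℕ) (hp : p.Prime) (hdiv : p ∣ Nat.card G) (hsq : ¬ p ^ 2 ∣ Nat.card G) (hnn : ∀ H : Subgroup G, H.Normal → Nat.card H ≠ p) (χ : G → ℂ) (hχ : Cfsg.IsCharacter G χ) (hfaith : ∀ g : G, χ g = χ 1 → g = 1) : p ≤ 2 * Cfsg.charDegree χ + 1 := by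
  by_contra hlt
  push Not at hlt
  have := Fact.mk hp
  have := Fintype.ofFinite G
  obtain ⟨x, hx⟩ := exists_prime_orderOf_dvd_card' p hdiv
  have hxne : x ≠ 1 := fun h => hp.ne_one (by rw [← hx, h, orderOf_one])
  by_cases h2 : p = 2
  · apply hxne
    apply hfaith
    have h0 : Cfsg.charDegree χ = 0 := by omega
    have hle : ∀ g, χ g = 0 := fun g => by
      have h := CfsgLib.Block.norm_char_le_degree hχ g
      rw [h0, Nat.cast_zero] at h
      exact norm_le_zero_iff.1 h
    rw [hle, hle]
  have hodd : Odd p := hp.odd_of_ne_two h2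
  obtain ⟨q, hq⟩ := hodd
  have hn : 2 * Cfsg.charDegree χ + 3 ≤ p := by omega
  refine hnn _ (CfsgLib.Block.exists_normal_order_of_small_degree hx hsq hχ hn hfaith) ?_
  rw [Nat.card_zpowers, hx]

end Cfsg.Agent.S4503
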