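import Cfsg.Statements.S4506
import Cfsg.Agent.Lib.BlockA.PConjugate
import Cfsg.Agent.Lib.Clifford.Degrees

set_option autoImplicit false
open Cfsg

namespace Cfsg.Agent.S4506

/-- Let G be a finite group, p a prime, p^a the p-part of the order of G and g′ its p′-part. Call two irreducible characters p-conjugate when one is obtained from the other by applying a field automorphism of ℂ that fixes the g′-th roots of unity, and let r be the number of characters p-conjugate to the irreducible character χ (χ included). Then the exponent of p in r·χ(1) is at most a; and if p^a divides r·χ(1) then p^a already divides χ(1). -/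
theorem result {G : Type*} [Group G] [Finite G] (p : ℕ) (hp : p.Prime) (χ : Cfsg.IrrCharacter G) (r : ℕ) (hr : Nat.card {ψ : Cfsg.IrrCharacter G // ∃ σ : ℂ ≃+* ℂ, σ (Complex.exp (2 * Real.pi * Complex.I / ((Nat.card G / p ^ (Nat.card G).factorization p) : ℕ))) = Complex.exp (2 * Real.pi * Complex.I / ((Nat.card G / p ^ (Nat.card G).factorization p) : ℕ)) ∧ (ψ : G → ℂ) = fun g => σ ((χ : G → ℂ) g)} = r) : (r * Cfsg.charDegree (χ : G → ℂ)).factorization p ≤ (Nat.card G).factorization p ∧ (p ^ (Nat.card G).factorization p ∣ r * Cfsg.charDegree (χ : G → ℂ) → p ^ (Nat.card G).factorization p ∣ Cfsg.charDegree (χ : G → ℂ)) := by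
  classical
  by_cases ha : 1 ≤ (Nat.card G).factorization p
  · exact CfsgLib.BlockA.PConjugate.degree_bound hp χ r hr ha
  · have ha0 : (Nat.card G).factorization p = 0 := by omega
    refine ⟨?_, fun _ => by rw [ha0, pow_zero]; exact one_dvd _⟩
    have hpG : ¬ p ∣ Nat.card G := fun hd =>
      ha (hp.factorization_pos_of_dvd Nat.card_pos.ne' hd)
    have hd0 := CfsgLib.Block.charDegree_ne_zero χ.2
    have hd := CfsgLib.Clifford.Degrees.charDegree_dvd_card χ.2
    have hr1 : r = 1 := by
      rw [← hr, ha0, pow_zero, Nat.div_one, Nat.card_eq_one_iff_unique]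
      refine ⟨⟨fun ψ φ => Subtype.ext (Subtype.ext ?_)⟩,
        ⟨χ, RingEquiv.refl ℂ, rfl, rfl⟩⟩
      obtain ⟨σ, hσ, hψ⟩ := ψ.2
      obtain ⟨τ, hτ, hφ⟩ := φ.2
      have key : ∀ ρ : ℂ ≃+* ℂ, ρ (Complex.exp (2 * Real.pi * Complex.I / (Nat.card G : ℕ))) =
          Complex.exp (2 * Real.pi * Complex.I / (Nat.card G : ℕ)) →
          ∀ g : G, ρ ((χ : G → ℂ) g) = (χ : G → ℂ) g := by
        intro ρ hρ g
        obtain ⟨m, -, hm, hχρ⟩ := CfsgLib.Block.exists_pow_of_ringEquiv (G := G) ρ
        have hz := Complex.isPrimitiveRoot_exp (Nat.card G) Nat.card_pos.ne'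
        have h1 := hm _ hz.pow_eq_one
        rw [hρ, pow_eq_pow_mod m hz.pow_eq_one] at h1
        nth_rewrite 1 [← pow_one (Complex.exp (2 * Real.pi * Complex.I / (Nat.card G : ℕ)))] at h1
        rw [pow_eq_pow_mod 1 hz.pow_eq_one] at h1
        have h2 : 1 ≡ m [MOD Nat.card G] :=
          hz.pow_inj (Nat.mod_lt _ Nat.card_pos) (Nat.mod_lt _ Nat.card_pos) h1
        rw [hχρ _ (CfsgLib.Char.irr_isCharacter χ.2) g]
        conv_rhs => rw [← pow_one g]
        refine congrArg (χ : G → ℂ) ?_
        exact pow_eq_pow_iff_modEq.2 (h2.symm.of_dvd (orderOf_dvd_natCard g))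
      rw [hψ, hφ]
      funext g
      rw [key σ hσ g, key τ hτ g]
    rw [hr1, one_mul, Nat.factorization_eq_zero_of_not_dvd fun h => hpG (h.trans hd)]
    exact Nat.zero_le _

end Cfsg.Agent.S4506
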