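import Cfsg.Statements.S4507
import Cfsg.Agent.Lib.Block.DefectOneGalois

set_option autoImplicit false
open Cfsg

namespace Cfsg.Agent.S4507

/-- Let G be a finite group whose order g is divisible by the prime p exactly once, g′ = g/p, and fix a maximal ideal M of the algebraic integers containing p. Call two irreducible characters p-conjugate when a field automorphism of ℂ fixing the g′-th roots of unity carries one to the other. Let B be a p-block of positive defect (its defect group is a Sylow p-subgroup). Then B contains a subset Y (the exceptional family) such that: Y is a full p-conjugacy class (its members are pairwise p-conjugate and every p-conjugate of a member of Y lies in Y); every member of B outside Y is p-conjugate only to itself; the size t of Y divides p − 1 and B has exactly t + (p − 1)/t members; and there are signs δ_χ = ±1 (χ ∈ B) such that for every p-regular element x and every θ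 ∈ Y, Σ_{χ ∈ B ∖ Y} δ_χ χ(x) + δ_θ θ(x) = 0. -/
theorem result {G : Type*} [Group G] [Finite G] (p : ℕ) [Fact p.Prime] (M : Ideal Cfsg.AlgInt) (hM : Cfsg.IsPModular p M) (hdiv : p ∣ Nat.card G) (hsq : ¬ p ^ 2 ∣ Nat.card G) (B : Set (Cfsg.IrrCharacter G)) (hB : Cfsg.IsPBlock M B) (hd : 0 < Cfsg.blockDefect p B) : ∃ Y : Set (Cfsg.IrrCharacter G), Y ⊆ B ∧ Y.Nonempty ∧ (∀ θ ∈ Y, ∀ ψ : Cfsg.IrrCharacter G, (∃ σ : ℂ ≃+* ℂ, σ (Complex.exp (2 * Real.pi * Complex.I / ((Nat.card G / p ^ (Nat.card G).factorization p) : ℕ))) = Complex.exp (2 * Real.pi * Complex.I / ((Nat.card G / p ^ (Nat.card G).factorization p) : ℕ)) ∧ (ψ : G → ℂ) = fun g => σ ((θ : G → ℂ) g)) ↔ ψ ∈ Y) ∧ (∀ χ ∈ B, χ ∉ Y → ∀ ψ : Cfsg.IrrCharacter G, (∃ σ : ℂ ≃+* ℂ, σ (Complex.exp (2 * Real.pi * Complex.I / ((Nat.card G / p ^ (Nat.card G).factorization p) : ℕ))) = Complex.exp (2 * Real.pi * Complex.I / ((Nat.card G / p ^ (Nat.card G).factorization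 p) : ℕ)) ∧ (ψ : G → ℂ) = fun g => σ ((χ : G → ℂ) g)) → ψ = χ) ∧ Nat.card Y ∣ p - 1 ∧ Nat.card B = Nat.card Y + (p - 1) / Nat.card Y ∧ ∃ δ : Cfsg.IrrCharacter G → ℤ, (∀ χ ∈ B, δ χ = 1 ∨ δ χ = -1) ∧ ∀ x : G, ¬ p ∣ orderOf x → ∀ θ ∈ Y, (∑ᶠ χ ∈ B \ Y, (δ χ : ℂ) * (χ : G → ℂ) x) + (δ θ : ℂ) * (θ : G → ℂ) x = 0 := by
  classical
  have := Fintype.ofFinite G
  have := hM.2.1.isPrime
  have hp : p.Prime := Fact.out
  obtain ⟨O, hind⟩ := CfsgLib.Block.DefectOne.exists_oneBlock_inducing hM hsq hB hd.ne'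
  obtain ⟨X, Y, δ, w, hXY, hdisj, hXc, hYc, hδ, hX, hY, hsurj, hinj, hsame, hrel, hreg⟩ :=
    O.exists_families hind
  have hXB : X ⊆ B := hXY ▸ Set.subset_union_left
  have hYB : Y ⊆ B := hXY ▸ Set.subset_union_right
  have hfac : (Nat.card G).factorization p = 1 := by
    have h2 := (hp.dvd_iff_one_le_factorization Nat.card_pos.ne').1 hdiv
    have h3 : ¬ 2 ≤ (Nat.card G).factorization p := fun h =>
      hsq ((hp.pow_dvd_iff_le_factorization Nat.card_pos.ne').2 h)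
    omega
  set n := Nat.card G / p ^ (Nat.card G).factorization p with hn
  have hpn : p * n = Nat.card G := by
    rw [hn, hfac, pow_one, Nat.mul_div_cancel' hdiv]
  have hn0 : 0 < n := Nat.pos_of_ne_zero fun h => by
    rw [h, mul_zero] at hpn; exact Nat.card_pos.ne hpn
  have hcop : Nat.Coprime n p := (hp.coprime_iff_not_dvd.2 fun h => hsq (by
    rw [← hpn, pow_two]; exact mul_dvd_mul_left p h)).symm
  have hord : ∀ g : G, ¬ p ∣ orderOf g → orderOf g ∣ n := fun g hg =>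
    (hp.coprime_iff_not_dvd.2 hg).symm.dvd_of_dvd_mul_left (hpn ▸ orderOf_dvd_natCard g)
  set ζ : ℂ := Complex.exp (2 * Real.pi * Complex.I / (n : ℕ)) with hζdef
  have hζ : IsPrimitiveRoot ζ n := Complex.isPrimitiveRoot_exp n hn0.ne'
  -- the action of an automorphism fixing the roots of unity of order prime to `p`
  have hact : ∀ σ : ℂ ≃+* ℂ, σ ζ = ζ → ∃ (m : ℕ) (μ : (ZMod p)ˣ), ((m : ℕ) : ZMod p) = (μ : ZMod p) ∧
      (∀ g : G, ¬ p ∣ orderOf g → g ^ m = g) ∧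
      ∀ χ : Cfsg.IrrCharacter G, ∀ g : G, σ ((χ : G → ℂ) g) = (χ : G → ℂ) (g ^ m) := by
    intro σ hσ
    obtain ⟨m, hm, hroots, hval⟩ := CfsgLib.Block.exists_pow_of_ringEquiv (G := G) σ
    have hζN : ζ ^ Nat.card G = 1 := by rw [← hpn, pow_mul', hζ.pow_eq_one, one_pow]
    have hmn : m ≡ 1 [MOD n] := by
      have h := (hroots ζ hζN).symm.trans hσ
      have hfin : orderOf ζ = n := hζ.eq_orderOf.symm
      rw [← hfin, ← (hζ.isOfFinOrder hn0.ne').pow_eq_pow_iff_modEq, pow_one]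
      exact h
    have hmp : m.Coprime p := hm.coprime_dvd_right hdiv
    refine ⟨m, ZMod.unitOfCoprime m hmp, (ZMod.coe_unitOfCoprime m hmp).symm, fun g hg => ?_,
      fun χ g => hval _ (CfsgLib.Char.irr_isCharacter χ.2) g⟩
    conv_rhs => rw [← pow_one g]
    rw [pow_eq_pow_iff_modEq]
    exact hmn.of_dvd (hord g hg)
  -- transport along a power map
  have htrans : ∀ (m : ℕ) (μ : (ZMod p)ˣ), ((m : ℕ) : ZMod p) = (μ : ZMod p) →
      (∀ g : G, ¬ p ∣ orderOf g → g ^ m = g) → ∀ θ ∈ Y, ∀ θ' ∈ Y,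
      (w θ')⁻¹ * (μ * w θ) ∈ O.expSubgroup → ∀ g, (θ' : G → ℂ) g = (θ : G → ℂ) (g ^ m) := by
    intro m μ hμ hm θ hθ θ' hθ' hw
    refine O.eq_comp_pow hind hm hμ (hYB hθ) (hYB hθ')
      (fun g hg => hreg θ' hθ' θ hθ g hg) fun v => ?_
    rw [hY θ' hθ', hY θ hθ, hsame θ' hθ' θ hθ]
    refine if_congr ?_ rfl rfl
    rw [show (w θ')⁻¹ * v = ((w θ')⁻¹ * (μ * w θ)) * ((w θ)⁻¹ * (μ⁻¹ * v)) by
      rw [mul_assoc, mul_assoc μ, mul_inv_cancel_left, mul_inv_cancel_left]]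
    exact Subgroup.mul_mem_cancel_left _ hw
  have hYne : Y.Nonempty := by
    obtain ⟨θ, hθ, -⟩ := hsurj 1
    exact ⟨θ, hθ⟩
  have hmulidx := O.natCard_mul_index
  refine ⟨Y, hYB, hYne, fun θ hθ ψ => ⟨?_, fun hψ => ?_⟩, fun χ hχ hχY ψ => ?_, ?_, ?_,
    δ, hδ, ?_⟩
  · rintro ⟨σ, hσ, hψσ⟩
    obtain ⟨m, μ, hμ, hm, hval⟩ := hact σ hσ
    obtain ⟨θ', hθ', hw⟩ := hsurj (μ * w θ)
    have hψ : ψ = θ' := Subtype.ext (funext fun g => by
      rw [hψσ, htrans m μ hμ hm θ hθ θ' hθ' hw g]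
      exact hval θ g)
    exact hψ ▸ hθ'
  · obtain ⟨m, hm1, hm2⟩ :
        ∃ m : ℕ, m ≡ 1 [MOD n] ∧ m ≡ ((w ψ * (w θ)⁻¹ : (ZMod p)ˣ) : ZMod p).val [MOD p] :=
      ⟨_, (Nat.chineseRemainder hcop 1 _).2⟩
    set μ : (ZMod p)ˣ := w ψ * (w θ)⁻¹ with hμdef
    have hμ : ((m : ℕ) : ZMod p) = (μ : ZMod p) := by
      rw [(ZMod.natCast_eq_natCast_iff _ _ _).2 hm2, ZMod.natCast_zmod_val]
    have hmG : m.Coprime (Nat.card G) := by
      rw [← hpn]
      refine Nat.Coprime.mul_right ?_ ?_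
      · refine (hp.coprime_iff_not_dvd.2 fun h => μ.ne_zero ?_).symm
        rw [← hμ, (ZMod.natCast_eq_zero_iff m p).2 h]
      · change Nat.gcd m n = 1
        rw [hm1.gcd_eq, Nat.gcd_one_left]
    obtain ⟨σ, hσ⟩ := CfsgLib.Block.exists_ringEquiv_pow (Nat.card G) Nat.card_pos hmG
    have hσζ : σ ζ = ζ := by
      rw [hσ ζ (by rw [← hpn, pow_mul', hζ.pow_eq_one, one_pow])]
      conv_rhs => rw [← pow_one ζ]
      rw [(hζ.isOfFinOrder hn0.ne').pow_eq_pow_iff_modEq, ← hζ.eq_orderOf]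
      exact hm1
    refine ⟨σ, hσζ, funext fun g => ?_⟩
    obtain ⟨m', μ', hμ', hm', hval⟩ := hact σ hσζ
    have hψval := htrans m μ hμ (fun g hg => by
      conv_rhs => rw [← pow_one g]
      rw [pow_eq_pow_iff_modEq]
      exact hm1.of_dvd (hord g hg)) θ hθ ψ hψ (by
        rw [hμdef, inv_mul_cancel_right, inv_mul_cancel]; exact one_mem _) g
    rw [hψval]
    obtain ⟨f, hf, hroots, hval'⟩ := CfsgLib.Block.exists_pow_of_ringEquiv (G := G) σ
    rw [hval' _ (CfsgLib.Char.irr_isCharacter θ.2)]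
    refine congrArg (θ : G → ℂ) ?_
    rw [pow_eq_pow_iff_modEq]
    obtain ⟨ω, hω⟩ : ∃ ω : ℂ, IsPrimitiveRoot ω (Nat.card G) :=
      ⟨_, Complex.isPrimitiveRoot_exp _ Nat.card_pos.ne'⟩
    have h := (hσ ω hω.pow_eq_one).symm.trans (hroots ω hω.pow_eq_one)
    rw [(hω.isOfFinOrder Nat.card_pos.ne').pow_eq_pow_iff_modEq, ← hω.eq_orderOf] at h
    exact h.of_dvd (orderOf_dvd_natCard g)
  · rintro ⟨σ, hσ, hψσ⟩
    have hχX : χ ∈ X := (hXY ▸ hχ : χ ∈ X ∪ Y).resolve_right hχY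
    obtain ⟨m, μ, hμ, hm, hval⟩ := hact σ hσ
    refine Subtype.ext (funext fun g => ?_)
    rw [hψσ]
    change σ ((χ : G → ℂ) g) = _
    rw [hval χ g]
    exact (O.eq_comp_pow hind hm hμ (hXB hχX) (hXB hχX) (fun _ _ => rfl)
      (fun v => by rw [hX χ hχX, hX χ hχX]) g).symm
  · rw [hYc]
    exact ⟨_, (hmulidx.symm.trans (mul_comm _ _))⟩
  · rw [hYc, (O.natCard_eq_and_extremal hind).1, ← hmulidx,
      Nat.mul_div_cancel _ (Nat.pos_of_ne_zero O.expSubgroup.index_ne_zero_of_finite), add_comm]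
  · intro x hx θ hθ
    have hBX : B \ Y = X := by
      rw [hXY, Set.union_sdiff_right, sdiff_eq_left.2 hdisj]
    rw [hBX]
    exact hrel θ hθ x hx

end Cfsg.Agent.S4507
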