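import Cfsg.Statements.S4508
import Cfsg.Agent.Lib.Block.SelfCentralPrime
-- import your own Cfsg.Agent.* helpers here

set_option autoImplicit false
open Cfsg
open scoped commutatorElement

namespace Cfsg.Agent.S4508

/-- Let the finite group G contain an element x of prime order p with C_G(x) = ⟨x⟩, and let t be the number of conjugacy classes of elements of order p. If G has an irreducible character of degree p − 1, then t is even or the commutator subgroup has even index. -/
theorem result {G : Type*} [Group G] [Finite G] (p : ℕ) (hp : p.Prime) (x : G) (hx : orderOf x = p) (hC : Subgroup.centralizer ({x} : Set G) = Subgroup.zpowers x) (t : ℕ) (ht : Nat.card {C : ConjClasses G // ∃ g ∈ C.carrier, orderOf g = p} = t) (χ : Cfsg.IrrCharacter G) (hχ : Cfsg.charDegree (χ : G → ℂ) + 1 = p) : Even t ∨ Even (commutator G).index := by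
  classical
  have := Fintype.ofFinite G
  have : Fact p.Prime := ⟨hp⟩
  have hte := CfsgLib.Block.SelfCentralPrime.natCard_classes_mul hx hC ht
  have hNc := CfsgLib.Block.SelfCentralPrime.natCard_normalizer hx hC
  rcases hp.eq_two_or_odd' with rfl | hpodd
  · right
    have he1 : Subgroup.relIndex (Subgroup.zpowers x)
        (Subgroup.normalizer ((Subgroup.zpowers x : Subgroup G) : Set G)) = 1 :=
      Nat.eq_one_of_mul_eq_one_left (show t * _ = 1 from hte)
    have hNP := Subgroup.relIndex_eq_one.1 he1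
    obtain ⟨P, hP⟩ := CfsgLib.Block.SelfCentralPrime.exists_sylow_eq hx hC
    have htr : Subgroup.normalizer ((P : Subgroup G) : Set G) ≤
        Subgroup.centralizer ((P : Subgroup G) : Set G) := by
      simp only [hP]
      rintro m hm y hy
      obtain ⟨i, rfl⟩ := Subgroup.mem_zpowers_iff.1 hy
      obtain ⟨j, rfl⟩ := Subgroup.mem_zpowers_iff.1 (hNP hm)
      rw [← zpow_add, ← zpow_add, add_comm]
    have hcompl := MonoidHom.ker_transferSylow_isComplement' P htr
    have hidx : (MonoidHom.transferSylow P htr).ker.index = 2 := by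
      rw [Subgroup.IsComplement'.index_eq_card (Subgroup.IsComplement'.symm hcompl), hP,
        CfsgLib.Block.SelfCentralPrime.natCard_zpowers_eq hx hC]
    have hle : commutator G ≤ (MonoidHom.transferSylow P htr).ker := by
      rw [commutator_def, Subgroup.commutator_le]
      intro a _ b _
      have : IsMulCommutative (P : Subgroup G) :=
        have : IsCyclic (P : Subgroup G) := isCyclic_of_prime_card (p := 2) (by
          rw [hP, CfsgLib.Block.SelfCentralPrime.natCard_zpowers_eq hx hC])
        inferInstance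
      rw [MonoidHom.mem_ker, map_commutatorElement]
      exact commutatorElement_eq_one_iff_mul_comm.2 (mul_comm' _ _)
    exact even_iff_two_dvd.2 (hidx ▸ Subgroup.index_dvd_of_le hle)
  by_cases htev : Even t
  · exact Or.inl htev
  right
  obtain ⟨M, hM⟩ := CfsgLib.BlockB.exists_isPModular (p := p) hp
  have := hM.2.1.isPrime
  obtain ⟨O, rfl, hb⟩ := CfsgLib.Block.SelfCentralPrime.exists_principalOne hx hC M hM
  have hE := O.natCard_expSubgroup_principal hb
  rw [hC] at hE
  set e := Nat.card O.expSubgroup with hedef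
  change t * Subgroup.relIndex _ O.N = p - 1 at hte
  rw [← hE] at hte
  have hp3 : 3 ≤ p := by
    rcases hpodd with ⟨k, hk⟩
    have := hp.two_le
    omega
  -- multiplicities
  obtain ⟨b, hb'⟩ := CfsgLib.Block.exists_multiplicity O.hxo
    (CfsgLib.Char.irr_isCharacter χ.2) (ZMod.isPrimitive_stdAddChar p)
  have hφ : ∀ s i : ZMod p, (O.φ s : Subgroup.centralizer ({O.x} : Set G) → ℂ) (O.z ^ i.val) =
      ZMod.stdAddChar (s * i) := fun s i => by
    have h := O.hval s i 1 (by rw [orderOf_one]; exact hp.not_dvd_one)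
    rw [mul_one, O.phi0_principal hb, mul_one] at h
    exact h
  let ε : ZMod p → Subgroup.centralizer ({O.x} : Set G) := fun i => O.z ^ i.val
  have hεbij : Function.Bijective ε := by
    refine (Fintype.bijective_iff_injective_and_card _).2 ⟨fun i j h => ?_, ?_⟩
    · exact CfsgLib.Block.DefectOne.pow_val_inj O.hxo (congrArg Subtype.val h)
    · rw [ZMod.card, ← Nat.card_eq_fintype_card, hC,
        CfsgLib.Block.SelfCentralPrime.natCard_zpowers_eq hx hC]
  have hbmult : ∀ s, O.multN χ s = b s := fun s => by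
    apply Nat.cast_injective (R := ℂ)
    rw [← O.mult_eq_multN, O.mult_def, CfsgLib.Char.classInner_def,
      ← Fintype.sum_equiv (Equiv.ofBijective ε hεbij) (fun i : ZMod p =>
        ∑ r : ZMod p, (b r : ℂ) * ZMod.stdAddChar ((r - s) * i)) _ (fun i => by
          change _ = (χ : G → ℂ) (O.x ^ i.val) * starRingEnd ℂ _
          rw [hb', Finset.sum_mul, show Equiv.ofBijective ε hεbij i = O.z ^ i.val from rfl, hφ,
            ← AddChar.map_neg_eq_conj]
          refine Finset.sum_congr rfl fun r _ => ?_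
          rw [mul_assoc, ← AddChar.map_add_eq_mul]
          congr 2
          ring),
      Finset.sum_comm]
    simp only [← Finset.mul_sum]
    have hsum : ∀ r : ZMod p, ∑ i : ZMod p, ZMod.stdAddChar ((r - s) * i) =
        if r = s then (p : ℂ) else 0 := fun r => by
      rw [Finset.sum_congr rfl fun i _ => congrArg _ (mul_comm (r - s) i),
        AddChar.sum_mulShift (r - s) (ZMod.isPrimitive_stdAddChar p), ZMod.card]
      simp [sub_eq_zero]
    simp only [hsum, mul_ite, mul_zero, Finset.sum_ite_eq', Finset.mem_univ, if_true]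
    rw [hC, CfsgLib.Block.SelfCentralPrime.natCard_zpowers_eq hx hC, mul_comm, mul_assoc,
      mul_inv_cancel₀ (Nat.cast_ne_zero.2 hp.ne_zero), mul_one]
  have hbsum : ∑ s, O.multN χ s = Cfsg.charDegree (χ : G → ℂ) := by
    have h := hb' 0
    rw [ZMod.val_zero, pow_zero, CfsgLib.Block.charDegree_spec (CfsgLib.Char.irr_isCharacter χ.2)] at h
    simp only [mul_zero, AddChar.map_zero_eq_one, mul_one] at h
    simp only [hbmult]
    exact_mod_cast h.symm
  obtain ⟨B, hind⟩ := CfsgLib.Block.exists_isInducedBlock_centralizer O.hM (x := O.x)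
    ⟨1, by rw [O.hxo, pow_one]⟩ O.hb
  have hsplit : ∑ s, O.multN χ s =
      O.multN χ 0 + ∑ v : (ZMod p)ˣ, O.multN χ v := CfsgLib.Block.PrimeRows.sum_eq_zero_add_units _
  have hcardU : Fintype.card (ZMod p)ˣ = p - 1 := ZMod.card_units p
  have hrow : (∑ v : (ZMod p)ˣ, O.row χ v) =
      ((p - 1 : ℕ) : ℤ) - (p : ℤ) * O.multN χ 0 := by
    simp only [O.row_eq_multN, Finset.sum_sub_distrib, Finset.sum_const, Finset.card_univ, hcardU,
      nsmul_eq_mul]
    have h : (O.multN χ 0 : ℤ) + ∑ v : (ZMod p)ˣ, (O.multN χ v : ℤ) = ((p - 1 : ℕ) : ℤ) := by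
      rw [← Nat.cast_sum, ← Nat.cast_add, ← hsplit, hbsum]
      congr 1
      omega
    have hp1 : ((p - 1 : ℕ) : ℤ) = (p : ℤ) - 1 := by omega
    rw [hp1] at h ⊢
    linarith
  have he_le : e ≤ p - 1 := by
    rw [← hcardU, ← Nat.card_eq_fintype_card]
    exact Subgroup.card_le_card_group _
  have hee : Even e := by
    have h : Even (t * e) := by
      rw [hte]
      rcases hpodd with ⟨k, hk⟩
      exact ⟨k, by omega⟩
    exact (Nat.even_mul.1 h).resolve_left htev
  have hm0 : O.multN χ 0 = 0 := by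
    have hp1 : ((p - 1 : ℕ) : ℤ) = (p : ℤ) - 1 := by omega
    have hχB : χ ∈ B := by
      by_contra hχB
      rw [Finset.sum_eq_zero fun v _ => O.row_eq_zero hind hχB v, hp1] at hrow
      have h : (p : ℤ) ∣ 1 := ⟨1 - O.multN χ 0, by linarith⟩
      have := Int.le_of_dvd one_pos h
      omega
    obtain ⟨c, hc, hshape⟩ := O.shape hind hχB
    rcases hshape with hconst | ⟨w, hw⟩
    · rw [Finset.sum_congr rfl fun v _ => hconst v, Finset.sum_const, Finset.card_univ, hcardU,
        nsmul_eq_mul, hp1] at hrow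
      rcases hc with rfl | rfl
      · have h : (p : ℤ) * O.multN χ 0 = 0 := by linarith
        rcases mul_eq_zero.1 h with h | h <;> omega
      · exfalso
        have h : (p : ℤ) ∣ 2 := ⟨2 - O.multN χ 0, by linarith⟩
        have := Int.le_of_dvd two_pos h
        omega
    · rw [O.sum_indicator w c _ fun v => by
        by_cases hv : w⁻¹ * v ∈ O.expSubgroup
        · rw [if_pos hv]; exact (hw v).1 hv
        · rw [if_neg hv]; exact (hw v).2 hv, hp1] at hrow
      rw [← hedef] at hrow
      have he0 : 0 < e := Nat.card_pos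
      rcases Nat.eq_zero_or_pos (O.multN χ 0) with h | h
      · exact h
      exfalso
      rcases hc with rfl | rfl
      · nlinarith
      · rcases hee with ⟨k, hk⟩
        have h2 : (p : ℤ) * O.multN χ 0 = (p : ℤ) - 1 + e := by linarith
        rcases Nat.lt_or_ge 1 (O.multN χ 0) with h' | h'
        · nlinarith
        · rw [show O.multN χ 0 = 1 by omega] at h2
          omega
  obtain ⟨n, ρ, hρ, hρχ⟩ := χ.2
  let A : Module.End ℂ (Fin n → ℂ) :=
    ∑ c : Subgroup.centralizer ({O.x} : Set G), ρ (c : G)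
  have htrA : ∀ y : G, LinearMap.trace ℂ _ (A * ρ y) =
      ∑ c : Subgroup.centralizer ({O.x} : Set G), (χ : G → ℂ) ((c : G) * y) := fun y => by
    simp only [A, Finset.sum_mul, map_sum, ← map_mul]
    rw [← hρχ]
    rfl
  have hA : A = 0 := by
    have hpA : A * A = (p : ℂ) • A := by
      have h1 : ∀ d : Subgroup.centralizer ({O.x} : Set G), ρ (d : G) * A = A := fun d => by
        simp only [A, Finset.mul_sum, ← map_mul]
        exact Fintype.sum_equiv (Equiv.mulLeft d) _ _ fun c => by simp
      conv_lhs => rw [show A * A = ∑ d : Subgroup.centralizer ({O.x} : Set G), ρ (d : G) * A from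
        Finset.sum_mul _ _ _, Finset.sum_congr rfl fun d _ => h1 d, Finset.sum_const,
        Finset.card_univ, ← Nat.card_eq_fintype_card, hC,
        CfsgLib.Block.SelfCentralPrime.natCard_zpowers_eq hx hC]
      rw [Nat.cast_smul_eq_nsmul]
    have hp0 : (p : ℂ) ≠ 0 := Nat.cast_ne_zero.2 hp.ne_zero
    have hidem : IsIdempotentElem ((p : ℂ)⁻¹ • A) := by
      rw [IsIdempotentElem, smul_mul_smul_comm, hpA, smul_smul]
      congr 1
      field_simp
    have htr0 : LinearMap.trace ℂ _ ((p : ℂ)⁻¹ • A) = 0 := by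
      have h := htrA 1
      rw [map_one, mul_one] at h
      have hm : O.mult χ 0 = 0 := by rw [O.mult_eq_multN, hm0, Nat.cast_zero]
      rw [O.mult_def, CfsgLib.Char.classInner_def] at hm
      simp only [O.phi0_principal hb, map_one, mul_one] at hm
      rw [map_smul, h]
      simp only [mul_one]
      rw [(mul_eq_zero.1 hm).resolve_left (by simp), smul_zero]
    have hproj := (LinearMap.isProj_range_iff_isIdempotentElem _).2 hidem
    rw [hproj.trace, Nat.cast_eq_zero, Submodule.finrank_eq_zero, LinearMap.range_eq_bot,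
      smul_eq_zero] at htr0
    exact htr0.resolve_left (inv_ne_zero hp0)
  have hvanish : ∀ y ∈ O.N, y ∉ Subgroup.centralizer ({O.x} : Set G) → (χ : G → ℂ) y = 0 := by
    intro y hy hyC
    have h := htrA y
    rw [hA, zero_mul, map_zero] at h
    let δ : Subgroup.centralizer ({O.x} : Set G) → Subgroup.centralizer ({O.x} : Set G) :=
      fun d => ⟨d * y * (d : G)⁻¹ * y⁻¹, by
        rw [mul_assoc (d : G) y, mul_assoc (d : G)]
        exact mul_mem d.2 ((Subgroup.mem_normalizer_iff.1 (O.N_le hy) _).1 (inv_mem d.2))⟩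
    have hδ : Function.Bijective δ := by
      refine Finite.injective_iff_bijective.1 fun d d' hdd => ?_
      have h' : (d : G) * y * (d : G)⁻¹ = (d' : G) * y * (d' : G)⁻¹ :=
        mul_right_cancel (congrArg Subtype.val hdd)
      by_contra hne
      apply hyC
      set c : G := (d' : G)⁻¹ * d with hc
      have hcC : c ∈ Subgroup.zpowers O.x := hC ▸ mul_mem (inv_mem d'.2) d.2
      have hgen : Subgroup.zpowers c = Subgroup.zpowers O.x := by
        refine Subgroup.eq_of_le_of_card_ge (Subgroup.zpowers_le.2 hcC) ?_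
        rcases hp.eq_one_or_self_of_dvd (Nat.card (Subgroup.zpowers c))
          ((Subgroup.card_dvd_of_le (Subgroup.zpowers_le.2 hcC)).trans
            (dvd_of_eq (CfsgLib.Block.SelfCentralPrime.natCard_zpowers_eq hx hC))) with h | h
        · rw [Nat.card_zpowers, orderOf_eq_one_iff, hc, inv_mul_eq_one] at h
          exact absurd (Subtype.ext h.symm) hne
        · rw [h, CfsgLib.Block.SelfCentralPrime.natCard_zpowers_eq hx hC]
      have hcy : Commute y c := by
        have h1 : c * y * c⁻¹ = y := by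
          calc c * y * c⁻¹ = (d' : G)⁻¹ * ((d : G) * y * (d : G)⁻¹) * d' := by rw [hc]; group
            _ = y := by rw [h']; group
        exact (mul_inv_eq_iff_eq_mul.1 h1).symm
      obtain ⟨k, hk⟩ := Subgroup.mem_zpowers_iff.1 (hgen ▸ Subgroup.mem_zpowers O.x :
        O.x ∈ Subgroup.zpowers c)
      rw [Subgroup.mem_centralizer_singleton_iff, ← hk]
      exact (hcy.zpow_right k).eq
    rw [← Fintype.sum_equiv (Equiv.ofBijective δ hδ) (fun _ => (χ : G → ℂ) y) _ fun d => by
      change _ = (χ : G → ℂ) ((d : G) * y * (d : G)⁻¹ * y⁻¹ * y)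
      rw [inv_mul_cancel_right]
      exact (CfsgLib.Char.irr_isClassFunction χ.2 y (d : G)).symm,
      Finset.sum_const, Finset.card_univ, nsmul_eq_mul] at h
    exact (mul_eq_zero.1 h.symm).resolve_left (Nat.cast_ne_zero.2 Fintype.card_ne_zero)
  -- an element realizing the two-part of the inertial index
  obtain ⟨a, o, ho, heo⟩ := Nat.exists_eq_pow_mul_and_not_dvd
    (Nat.card_pos (α := O.expSubgroup)).ne' 2 (by norm_num)
  change e = _ at heo
  set d := 2 ^ a with hd
  have ha : a ≠ 0 := by
    rintro rfl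
    rw [pow_zero] at hd
    rw [hd, one_mul] at heo
    exact ho (even_iff_two_dvd.1 (heo ▸ hee))
  obtain ⟨g, hg⟩ := IsCyclic.exists_ofOrder_eq_natCard (α := O.expSubgroup)
  obtain ⟨m, hmT, hm⟩ := g.2
  have hmN : m ∈ O.N := O.T_le hmT
  have hmk : ∀ k : ℕ, m ^ k * O.x * (m ^ k)⁻¹ = O.x ^ (((g : (ZMod p)ˣ) ^ k : (ZMod p)ˣ) : ZMod p).val := by
    intro k
    induction k with
    | zero => simp [ZMod.val_one]
    | succ k ih =>
      rw [pow_succ' m, pow_succ' (g : (ZMod p)ˣ), show (m * m ^ k) * O.x * (m * m ^ k)⁻¹ =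
        m * (m ^ k * O.x * (m ^ k)⁻¹) * m⁻¹ by group, ih, ← conj_pow, hm,
        CfsgLib.Block.DefectOne.pow_val_mul O.hxo, Units.val_mul]
  have hiff : ∀ k : ℕ, m ^ k ∈ Subgroup.centralizer ({O.x} : Set G) ↔ e ∣ k := fun k => by
    rw [hedef, ← hg, orderOf_dvd_iff_pow_eq_one, ← Subtype.coe_inj, Subgroup.coe_pow,
      OneMemClass.coe_one, Subgroup.mem_centralizer_singleton_iff, ← mul_inv_eq_iff_eq_mul, hmk]
    constructor
    · intro h
      exact Units.ext (CfsgLib.Block.DefectOne.pow_val_inj O.hxo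
        (h.trans (by rw [Units.val_one, ZMod.val_one, pow_one])))
    · intro h
      rw [h, Units.val_one, ZMod.val_one, pow_one]
  set y := m ^ (p * o) with hy
  have hyd : y ^ d = 1 := by
    rw [hy, ← pow_mul, show p * o * d = e * p by rw [heo]; ring, pow_mul]
    have hmem : m ^ e ∈ Subgroup.zpowers O.x := hC ▸ (hiff e).2 dvd_rfl
    rw [← orderOf_dvd_iff_pow_eq_one, ← CfsgLib.Block.SelfCentralPrime.natCard_zpowers_eq hx hC,
      ← Subgroup.orderOf_mk _ hmem]
    exact orderOf_dvd_natCard _
  have hyj : ∀ j, 0 < j → j < d → (χ : G → ℂ) (y ^ j) = 0 := by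
    intro j hj0 hjd
    refine hvanish _ (pow_mem (pow_mem hmN _) _) fun h => ?_
    rw [hy, ← pow_mul, hiff, heo, show p * o * j = (p * j) * o by ring] at h
    have hopos : 0 < o := Nat.pos_of_ne_zero fun h0 => ho (h0 ▸ dvd_zero 2)
    have h1 : d ∣ p * j := Nat.dvd_of_mul_dvd_mul_right hopos h
    have hcop : Nat.Coprime d p := Nat.Coprime.pow_left a
      ((Nat.coprime_primes Nat.prime_two hp).2 (by omega))
    have := Nat.le_of_dvd hj0 (hcop.dvd_of_dvd_mul_left h1)
    omega
  obtain ⟨ι, hι, bb, μ, heig, hμo, hμpow, -⟩ := CfsgLib.Char.exists_char_eigen ρ y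
  rw [hρχ] at hμpow
  have hμd : ∀ i, μ i ^ d = 1 := fun i => by
    obtain ⟨c, hc⟩ := orderOf_dvd_iff_pow_eq_one.2 hyd
    rw [hc, pow_mul, hμo, one_pow]
  obtain ⟨ζ, hζ⟩ : ∃ ζ : ℂ, IsPrimitiveRoot ζ d :=
    ⟨_, Complex.isPrimitiveRoot_exp d (pow_ne_zero _ two_ne_zero)⟩
  have hd0 : 0 < d := Nat.two_pow_pos a
  have key : ∀ i, ∃ k, k < d ∧ ζ ^ k = μ i := fun i => by
    have : NeZero d := ⟨hd0.ne'⟩
    exact hζ.eq_pow_of_pow_eq_one (hμd i)
  choose k hk hkμ using key
  have hcount : ∀ l < d, (Finset.univ.filter fun i => k i = l).card = o * t := by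
    intro l hl
    have hz : ζ ^ l ≠ 0 := pow_ne_zero _ (hζ.ne_zero hd0.ne')
    have h1 : ∑ j ∈ Finset.range d, (∑ i, μ i ^ j) * ((ζ ^ l)⁻¹) ^ j = ((p - 1 : ℕ) : ℂ) := by
      rw [Finset.sum_eq_single 0]
      · rw [← hμpow, pow_zero, pow_zero, mul_one,
          CfsgLib.Block.charDegree_spec (CfsgLib.Char.irr_isCharacter χ.2)]
        congr 1
        omega
      · intro j hj hj0
        rw [← hμpow, hyj j (Nat.pos_of_ne_zero hj0) (Finset.mem_range.1 hj), zero_mul]
      · intro h
        exact absurd (Finset.mem_range.2 hd0) h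
    have h2 : ∑ j ∈ Finset.range d, (∑ i, μ i ^ j) * ((ζ ^ l)⁻¹) ^ j =
        ((Finset.univ.filter fun i => k i = l).card : ℂ) * d := by
      simp only [Finset.sum_mul, ← mul_pow]
      rw [Finset.sum_comm, Finset.sum_congr rfl fun i _ => show
        ∑ j ∈ Finset.range d, (μ i * (ζ ^ l)⁻¹) ^ j = if k i = l then (d : ℂ) else 0 from ?_,
        Finset.sum_ite, Finset.sum_const, Finset.sum_const_zero, add_zero, nsmul_eq_mul]
      split_ifs with h
      · rw [← hkμ, h, mul_inv_cancel₀ hz]
        simp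
      · have hne : μ i * (ζ ^ l)⁻¹ ≠ 1 := fun h1 => h (by
          rw [mul_inv_eq_one₀ hz, ← hkμ] at h1
          exact hζ.pow_inj (hk i) hl h1)
        rw [geom_sum_eq hne, mul_pow, hμd, inv_pow, ← pow_mul, mul_comm l d, pow_mul,
          hζ.pow_eq_one, one_pow, inv_one, mul_one, sub_self, zero_div]
    rw [h1] at h2
    refine Nat.eq_of_mul_eq_mul_right hd0 (Nat.cast_injective (R := ℂ) ?_)
    push_cast
    rw [← h2, ← hte, heo]
    push_cast
    ring
  let f : G →* ℂ := (LinearMap.det : Module.End ℂ (Fin n → ℂ) →* ℂ).comp ρ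
  have hfy : f y = -1 := by
    have hdet : f y = ∏ i, μ i := by
      change LinearMap.det (ρ y) = _
      rw [← LinearMap.det_toMatrix bb, show LinearMap.toMatrix bb bb (ρ y) = Matrix.diagonal μ from ?_,
        Matrix.det_diagonal]
      ext i j
      rw [LinearMap.toMatrix_apply, heig, map_smul, bb.repr_self, Finsupp.smul_apply,
        Finsupp.single_apply, Matrix.diagonal_apply]
      by_cases h : i = j <;> simp [h, eq_comm]
    rw [hdet, ← Finset.prod_fiberwise_of_maps_to (t := Finset.range d) (g := k)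
      (fun i _ => Finset.mem_range.2 (hk i))]
    rw [Finset.prod_congr rfl (g := fun l => (ζ ^ l) ^ (o * t)) fun l hl => by
      rw [Finset.prod_congr rfl (g := fun _ => ζ ^ l) fun i hi => by
        rw [← hkμ, (Finset.mem_filter.1 hi).2], Finset.prod_const, hcount l (Finset.mem_range.1 hl)]]
    rw [Finset.prod_pow, Finset.prod_pow_eq_pow_sum]
    have h2 : d = 2 * 2 ^ (a - 1) := by
      rw [hd, ← pow_succ']
      congr 1
      omega
    have hsum : ∑ l ∈ Finset.range d, l = 2 ^ (a - 1) * (d - 1) := by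
      have h := Finset.sum_range_id_mul_two d
      nlinarith
    have hhalf : ζ ^ 2 ^ (a - 1) = -1 :=
      (hζ.pow hd0 (by rw [h2, mul_comm])).eq_neg_one_of_two_right
    rw [hsum, ← pow_mul, mul_assoc, pow_mul, hhalf]
    have hodd : Odd ((d - 1) * (o * t)) := by
      refine Odd.mul ?_ (Odd.mul ?_ (Nat.not_even_iff_odd.1 htev))
      · exact ⟨2 ^ (a - 1) - 1, by have := Nat.two_pow_pos (a - 1); omega⟩
      · exact Nat.not_even_iff_odd.1 fun h => ho (even_iff_two_dvd.1 h)
    exact hodd.neg_one_pow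
  have h2 : orderOf (f.toHomUnits y) = 2 := by
    refine orderOf_eq_prime (Units.ext ?_) fun h => ?_
    · rw [Units.val_pow_eq_pow_val, MonoidHom.coe_toHomUnits, hfy, neg_one_sq, Units.val_one]
    · have h' := congrArg Units.val h
      rw [MonoidHom.coe_toHomUnits, hfy, Units.val_one] at h'
      norm_num at h'
  refine even_iff_two_dvd.2 ?_
  rw [← h2, ← Abelianization.lift_apply_of f.toHomUnits y]
  exact (orderOf_map_dvd _ _).trans (orderOf_dvd_natCard (G := Abelianization G) _)

end Cfsg.Agent.S4508
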