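import Cfsg.Statements.S4518
import Cfsg.Agent.Lib.BlockA.CliffordBasic
import Cfsg.Agent.Lib.BlockA.Galois

set_option autoImplicit false
open Cfsg

namespace Cfsg.Agent.S4518

/-- Let N be a normal subgroup of the finite group G whose index is not divisible by the prime p, and let k be coprime to the order of G with k ^ (p ^ e) ≡ 1 modulo the order of G for some e (so g ↦ g ^ k induces a field automorphism of p-power order on character values). If an irreducible character χ of G satisfies χ (g ^ k) = χ g for all g, then every irreducible constituent θ of the restriction of χ to N satisfies θ (n ^ k) = θ n for all n. -/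
theorem result {G : Type*} [Group G] [Fintype G] (p : ℕ) [Fact p.Prime] (N : Subgroup G) [N.Normal] [Fintype N] (hidx : ¬ p ∣ N.index) (k e : ℕ) (hk : Nat.Coprime k (Nat.card G)) (hke : k ^ (p ^ e) ≡ 1 [MOD Nat.card G]) (χ : Cfsg.IrrCharacter G) (hχ : ∀ g : G, (χ : G → ℂ) (g ^ k) = (χ : G → ℂ) g) (θ : Cfsg.IrrCharacter N) (hθ : Cfsg.classInner (fun n : N => (χ : G → ℂ) n) (θ : N → ℂ) ≠ 0) : ∀ n : N, (θ : N → ℂ) (n ^ k) = (θ : N → ℂ) n := by
  intro n₀
  have hp := (Fact.out : p.Prime)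
  have hkN : k.Coprime (Nat.card N) := hk.coprime_dvd_right (Subgroup.card_subgroup_dvd_card N)
  set θ' : N → ℂ := fun n => (θ : N → ℂ) (n ^ k) with hθ'
  have hθirr : Cfsg.IsIrrCharacter N θ' := CfsgLib.BlockA.isIrrCharacter_comp_pow hkN θ.2
  have hne : Cfsg.classInner (fun n : N => (χ : G → ℂ) n) θ' ≠ 0 := by
    have e : (fun n : N => (χ : G → ℂ) n) = fun n : N => (χ : G → ℂ) ((n ^ k : N) : G) :=
      funext fun n => by rw [Subgroup.coe_pow, hχ]
    rw [e]
    rw [CfsgLib.BlockA.classInner_comp_pow hkN (fun n : N => (χ : G → ℂ) (n : G)) (θ : N → ℂ)]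
    exact hθ
  obtain ⟨g, hg⟩ := CfsgLib.BlockA.exists_conj_of_constituents N χ.2 hθirr θ.2 hne hθ
  -- iterating gives translation by powers of `g`
  have hiter : ∀ (j : ℕ) (n : N),
      (θ : N → ℂ) (n ^ k ^ j) = (θ : N → ℂ) (MulAut.conjNormal (g ^ j) n) := by
    intro j
    induction j with
    | zero => intro n; simp
    | succ j ih =>
      intro n
      have h1 : (θ : N → ℂ) ((n ^ k ^ j) ^ k) =
          (θ : N → ℂ) (MulAut.conjNormal g (n ^ k ^ j)) := congrFun hg (n ^ k ^ j)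
      rw [pow_succ, pow_mul, h1, map_pow, ih, ← MulAut.mul_apply, ← map_mul, ← pow_succ]
  have hfix : ∀ m : ℕ, (∀ n : N, (θ : N → ℂ) (MulAut.conjNormal (g ^ m) n) = (θ : N → ℂ) n) →
      ∀ (i : ℕ) (n : N), (θ : N → ℂ) (MulAut.conjNormal (g ^ (m * i)) n) = (θ : N → ℂ) n := by
    intro m hm i
    induction i with
    | zero => intro n; simp
    | succ i ih =>
      intro n
      rw [Nat.mul_succ, pow_add, map_mul, MulAut.mul_apply, ih, hm]
  have hpe : ∀ n : N, (θ : N → ℂ) (MulAut.conjNormal (g ^ p ^ e) n) = (θ : N → ℂ) n := by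
    intro n
    have hd : orderOf n ∣ Nat.card G :=
      (orderOf_dvd_natCard n).trans (Subgroup.card_subgroup_dvd_card N)
    have e1 : n ^ k ^ p ^ e = n ^ 1 := pow_eq_pow_iff_modEq.2 (hke.of_dvd hd)
    rw [← hiter, e1, pow_one]
  have hidx' : ∀ n : N,
      (θ : N → ℂ) (MulAut.conjNormal (g ^ N.index) n) = (θ : N → ℂ) n := by
    intro n
    have hmem : g ^ N.index ∈ N := N.pow_index_mem g
    have e : MulAut.conjNormal (g ^ N.index) n = (⟨g ^ N.index, hmem⟩ : N) * n *
        (⟨g ^ N.index, hmem⟩ : N)⁻¹ := by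
      apply Subtype.ext
      rw [MulAut.conjNormal_apply]
      simp
    rw [e, CfsgLib.Char.irr_isClassFunction θ.2]
  have hco : Nat.Coprime (p ^ e) N.index :=
    Nat.Coprime.pow_left e (hp.coprime_iff_not_dvd.2 hidx)
  have hidx1 : N.index ≠ 0 := Subgroup.index_ne_zero_of_finite
  obtain ⟨u, v, huv⟩ : ∃ u v : ℕ, p ^ e * u = N.index * v + 1 := by
    rcases Nat.eq_or_lt_of_le (Nat.one_le_iff_ne_zero.2 hidx1) with h1 | h1
    · have := Nat.one_le_pow e p hp.pos
      exact ⟨1, p ^ e - 1, by rw [← h1]; omega⟩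
    · obtain ⟨u, hu⟩ := Nat.exists_mul_mod_eq_one_of_coprime hco h1
      refine ⟨u, p ^ e * u / N.index, ?_⟩
      conv_lhs => rw [← Nat.div_add_mod (p ^ e * u) N.index]
      rw [hu.2]
  have h1 := hfix _ hpe u n₀
  rw [huv, pow_succ, map_mul, MulAut.mul_apply, hfix _ hidx' v] at h1
  have h2 : (θ : N → ℂ) (n₀ ^ k) = (θ : N → ℂ) (MulAut.conjNormal g n₀) := congrFun hg n₀
  rw [h2, h1]

end Cfsg.Agent.S4518
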