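import Cfsg.Statements.S4520
import Cfsg.Agent.Lib.BlockA.RealBlock

set_option autoImplicit false
open Cfsg

namespace Cfsg.Agent.S4520

/-- Let N be a normal subgroup of odd index in the finite group G, M a maximal ideal of the algebraic integers containing 2, and k coprime to the order of G with k ^ (2 ^ e) ≡ 1 modulo the order of G for some e and g ^ k = g⁻¹ for every element g of odd order. Let θ be an irreducible character of N and χ an irreducible character of G over θ, both unchanged by composing with g ↦ g ^ k. Then χ lies in the principal 2-block of G if and only if θ lies in the principal 2-block of N. -/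
theorem result {G : Type*} [Group G] [Fintype G] (M : Ideal Cfsg.AlgInt) (hM : Cfsg.IsPModular 2 M) (N : Subgroup G) [N.Normal] [Fintype N] (hidx : Odd N.index) (k e : ℕ) (hk : Nat.Coprime k (Nat.card G)) (hke : k ^ (2 ^ e) ≡ 1 [MOD Nat.card G]) (hk₂ : ∀ g : G, Odd (orderOf g) → g ^ k = g⁻¹) (θ : Cfsg.IrrCharacter N) (hθ : ∀ n : N, (θ : N → ℂ) (n ^ k) = (θ : N → ℂ) n) (χ : Cfsg.IrrCharacter G) (hχ : ∀ g : G, (χ : G → ℂ) (g ^ k) = (χ : G → ℂ) g) (hover : Cfsg.classInner (fun n : N => (χ : G → ℂ) n) (θ : N → ℂ) ≠ 0) : χ ∈ Cfsg.principalBlock M G ↔ θ ∈ Cfsg.principalBlock M N := by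
  classical
  have := CfsgLib.Block.isPrime_of_pmodular hM
  have hIC := fun (χ' : Cfsg.IrrCharacter G) (θ' : Cfsg.IrrCharacter N)
    (h' : Cfsg.classInner (fun n : N => (χ' : G → ℂ) n) (θ' : N → ℂ) ≠ 0) (g : G) (hg : g ∈ N) =>
    CfsgLib.BlockA.centralChar_eq_inducedCentralChar N χ' θ' h' hg
  have htriv : Cfsg.classInner (fun n : N => ((CfsgLib.Block.trivIrr : Cfsg.IrrCharacter G) : G → ℂ) n)
      ((CfsgLib.Block.trivIrr : Cfsg.IrrCharacter N) : N → ℂ) ≠ 0 := by
    have h := CfsgLib.Char.irr_classInner_self (CfsgLib.Block.trivIrr : Cfsg.IrrCharacter N).2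
    exact fun h0 => one_ne_zero (h.symm.trans h0)
  constructor
  · intro hχ0
    -- the idempotent of the principal block of `N`, inside the group algebra of `G`
    have hBN : Cfsg.IsPBlock M (Cfsg.principalBlock M N) := CfsgLib.Block.isPBlock_principalBlock
    have hcoeff : ∀ (c : G) (n : N), Cfsg.blockCoeff (Cfsg.principalBlock M N)
        (MulAut.conjNormal c n) = Cfsg.blockCoeff (Cfsg.principalBlock M N) n := by
      intro c n
      let τ : G → Cfsg.IrrCharacter N → Cfsg.IrrCharacter N := fun d ψ =>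
        ⟨_, CfsgLib.BlockA.isIrrCharacter_conjNormal N ψ.2 d⟩
      have hτ : ∀ d ψ, τ d⁻¹ (τ d ψ) = ψ := fun d ψ => Subtype.ext (funext fun x => by
        simp only [τ]; rw [← MulAut.mul_apply, ← map_mul, mul_inv_cancel, map_one]; rfl)
      have hcent : ∀ (d : G) (x : N), (Subgroup.centralizer ({MulAut.conjNormal d x} : Set N)).index =
          (Subgroup.centralizer ({x} : Set N)).index := by
        intro d x
        rw [← CfsgLib.Char.natCard_carrier_eq_index, ← CfsgLib.Char.natCard_carrier_eq_index]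
        refine (Nat.card_congr (Equiv.subtypeEquiv (MulAut.conjNormal d).toEquiv fun y => ?_)).symm
        show y ∈ (ConjClasses.mk x).carrier ↔
          MulAut.conjNormal d y ∈ (ConjClasses.mk (MulAut.conjNormal d x)).carrier
        rw [ConjClasses.mem_carrier_iff_mk_eq, ConjClasses.mem_carrier_iff_mk_eq,
          ConjClasses.mk_eq_mk_iff_isConj, ConjClasses.mk_eq_mk_iff_isConj]
        refine ⟨fun h => (MulAut.conjNormal d : N ≃* N).toMonoidHom.map_isConj h, fun h => ?_⟩
        simpa using (MulAut.conjNormal d : N ≃* N).symm.toMonoidHom.map_isConj h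
      have hmem : ∀ d, ∀ ψ ∈ Cfsg.principalBlock M N, τ d ψ ∈ Cfsg.principalBlock M N := by
        intro d ψ hψ x
        have h := hψ (MulAut.conjNormal d x)
        simpa only [Cfsg.centralChar, hcent, τ, map_one] using h
      unfold Cfsg.blockCoeff
      rw [finsum_mem_eq_finite_toFinset_sum _ (Cfsg.principalBlock M N).toFinite,
        finsum_mem_eq_finite_toFinset_sum _ (Cfsg.principalBlock M N).toFinite]
      congr 1
      refine Finset.sum_bij' (fun ψ _ => τ c ψ) (fun ψ _ => τ c⁻¹ ψ)
        (fun ψ hψ => (Set.Finite.mem_toFinset _).2 (hmem c ψ ((Set.Finite.mem_toFinset _).1 hψ)))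
        (fun ψ hψ => (Set.Finite.mem_toFinset _).2 (hmem c⁻¹ ψ ((Set.Finite.mem_toFinset _).1 hψ)))
        (fun ψ _ => hτ c ψ) (fun ψ _ => by simpa using hτ c⁻¹ ψ) fun ψ _ => ?_
      simp only [τ, map_one]
    set z0 : MonoidAlgebra (CfsgLib.Block.kres M) G := CfsgLib.Block.mkGA fun g =>
      if h : g ∈ N then CfsgLib.Block.redC M (Cfsg.blockCoeff (Cfsg.principalBlock M N) ⟨g, h⟩)
        else 0 with hz0
    have hz0c : CfsgLib.Block.IsClassCoeff z0 := by
      intro a b
      simp only [hz0, CfsgLib.Block.coeff_mkGA]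
      by_cases ha : a ∈ N
      · have hb : b * a * b⁻¹ ∈ N := Subgroup.Normal.conj_mem inferInstance a ha b
        rw [dif_pos ha, dif_pos hb, ← hcoeff b ⟨a, ha⟩]
        congr 1
      · have hb : b * a * b⁻¹ ∉ N := fun h => ha (by
          have := Subgroup.Normal.conj_mem (inferInstance : N.Normal) _ h b⁻¹
          simpa [mul_assoc] using this)
        rw [dif_neg ha, dif_neg hb]
    let z : Subalgebra.center (CfsgLib.Block.kres M) (MonoidAlgebra (CfsgLib.Block.kres M) G) :=
      ⟨z0, CfsgLib.Block.isClassCoeff_iff_mem_center.1 hz0c⟩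
    have hres : CfsgLib.Block.resZ N z = CfsgLib.Block.blkIdem M (Cfsg.principalBlock M N) := by
      apply Subtype.ext
      ext n
      simp [z, hz0, CfsgLib.Block.coe_resZ]
    have key : ∀ (χ' : Cfsg.IrrCharacter G) (θ' : Cfsg.IrrCharacter N),
        Cfsg.classInner (fun n : N => (χ' : G → ℂ) n) (θ' : N → ℂ) ≠ 0 →
        CfsgLib.Block.lam M θ' (CfsgLib.Block.resZ N z) = CfsgLib.Block.lam M χ' z := by
      intro χ' θ' h'
      have : Finite (ConjClasses G) :=
        Finite.of_surjective ConjClasses.mk ConjClasses.mk_surjective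
      have := Fintype.ofFinite (ConjClasses G)
      have hz : z = ∑ C : ConjClasses G,
          z0.coeff C.out • CfsgLib.Block.classSumZ (CfsgLib.Block.kres M) C.out := by
        apply Subtype.ext
        simp only [AddSubmonoidClass.coe_finsetSum, SetLike.val_smul, CfsgLib.Block.classSumZ]
        exact CfsgLib.Block.eq_sum_classSum hz0c
      rw [hz]
      simp only [map_sum, map_smul]
      refine Finset.sum_congr rfl fun C _ => ?_
      by_cases hC : C.out ∈ N
      · rw [CfsgLib.Block.lam_resZ_classSumZ, CfsgLib.Block.lam_classSumZ, hIC χ' θ' h' _ hC]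
      · simp [hz0, hC]
    have h1 := key χ θ hover
    rw [← CfsgLib.Block.algHom_blkIdem_eq_one_iff hM hBN, ← hres, h1,
      ← CfsgLib.Block.lam_eq_of_sameBlock (χ := (CfsgLib.Block.trivIrr : Cfsg.IrrCharacter G))
        (ψ := χ) hχ0,
      ← key _ _ htriv, hres, CfsgLib.Block.algHom_blkIdem_eq_one_iff hM hBN]
    exact CfsgLib.Block.one_mem_principalBlock
  · intro hθ0
    have hB0 : Cfsg.IsPBlock M (Cfsg.principalBlock M G) := CfsgLib.Block.isPBlock_principalBlock
    have h1 : (CfsgLib.Block.trivIrr : Cfsg.IrrCharacter G) ∈ Cfsg.principalBlock M G :=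
      CfsgLib.Block.one_mem_principalBlock
    have hreal : CfsgLib.BlockA.RealOnRegular M (χ : G → ℂ) := fun g hg => by
      have hg' : Odd (orderOf g) := Nat.odd_iff.2 (by omega)
      have e : (χ : G → ℂ) g⁻¹ = (χ : G → ℂ) g := by rw [← hk₂ g hg', hχ]
      simp only [Cfsg.centralChar, CfsgLib.BlockA.centralizer_inv_eq, e, sub_self]
      exact CfsgLib.Block.memLocalIdeal_zero
    rw [← CfsgLib.Block.algHom_blkIdem_eq_one_iff hM hB0,
      CfsgLib.BlockA.lam_eq_lam_of_real hM hreal CfsgLib.BlockA.realOnRegular_trivIrr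
        (fun g => CfsgLib.Block.blkIdem_coeff_eq_zero_of_singular hM hB0)
        (fun g => by
          rw [CfsgLib.Block.coeff_blkIdem, CfsgLib.Block.coeff_blkIdem,
            CfsgLib.BlockA.blockCoeff_inv hM hB0 h1 CfsgLib.BlockA.realOnRegular_trivIrr])
        (fun g hg hconj => ?_), CfsgLib.Block.algHom_blkIdem_eq_one_iff hM hB0]
    · exact h1
    · have hgN := CfsgLib.BlockA.mem_of_real_of_odd_index N hidx hg hconj
      rw [hIC χ θ hover g hgN, hIC _ _ htriv g hgN,
        ← CfsgLib.Block.redC_eq_iff (CfsgLib.Block.memLocalRing_inducedCentralChar N θ.2 g)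
          (CfsgLib.Block.memLocalRing_inducedCentralChar N
            (CfsgLib.Block.trivIrr : Cfsg.IrrCharacter N).2 g),
        ← CfsgLib.Block.lam_resZ_classSumZ, ← CfsgLib.Block.lam_resZ_classSumZ,
        CfsgLib.Block.lam_eq_of_sameBlock (χ := (CfsgLib.Block.trivIrr : Cfsg.IrrCharacter N))
          (ψ := θ) hθ0]

end Cfsg.Agent.S4520
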