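import Cfsg.Statements.S4521
import Cfsg.Agent.Lib.BlockA.CliffordBasic
import Cfsg.Agent.Lib.BlockB.ClassMul
import Cfsg.Agent.Lib.BlockB.PrincipalLambda

set_option autoImplicit false
set_option linter.unusedSectionVars false
open Cfsg

namespace Cfsg.Agent.S4521

open CfsgLib.Block CfsgLib.BlockB
open CfsgLib.BlockA (regInd)

variable {G : Type*} [Group G] [Fintype G]

theorem normal_of_sup {U V : Subgroup G} (hcomm : ∀ u ∈ U, ∀ v ∈ V, u * v = v * u)
    (hgen : U ⊔ V = ⊤) : U.Normal := by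
  rw [← Subgroup.normalizer_eq_top_iff, eq_top_iff, ← hgen, sup_le_iff]
  refine ⟨Subgroup.le_normalizer, fun v hv => ?_⟩
  refine Subgroup.mem_normalizer_iff.2 fun u => ⟨fun hu => ?_, fun hu => ?_⟩
  · rwa [← hcomm u hu v hv, mul_inv_cancel_right]
  · have h := hcomm _ hu v hv
    rw [inv_mul_cancel_right] at h
    rwa [← mul_left_cancel h] at hu

theorem restrict_eq_smul {U V : Subgroup G} [Fintype U] (hcomm : ∀ u ∈ U, ∀ v ∈ V, u * v = v * u)
    (hgen : U ⊔ V = ⊤) (χ : IrrCharacter G) (ψ : IrrCharacter U)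
    (hψ : classInner (fun u : U => (χ : G → ℂ) u) (ψ : U → ℂ) ≠ 0) (u : U) :
    (χ : G → ℂ) u = classInner (fun u : U => (χ : G → ℂ) u) (ψ : U → ℂ) * (ψ : U → ℂ) u := by
  classical
  have hN : U.Normal := normal_of_sup hcomm hgen
  have := Fintype.ofFinite (IrrCharacter U)
  have hcl : IsClassFunction U (fun u : U => (χ : G → ℂ) u) :=
    CfsgLib.Char.isCharacter_isClassFunction
      (CfsgLib.Char.isCharacter_restrict (CfsgLib.Char.irr_isCharacter χ.2) U)
  refine (CfsgLib.Char.classFunction_apply_eq_sum hcl u).trans (Finset.sum_eq_single ψ ?_ (by simp))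
  intro φ _ hne
  by_contra h
  apply hne
  obtain ⟨g, hg⟩ := CfsgLib.BlockA.exists_conj_of_constituents U χ.2 φ.2 ψ.2
    (left_ne_zero_of_mul h) hψ
  refine Subtype.ext (hg.trans (funext fun n => ?_))
  obtain ⟨a, ha, b, hb, rfl⟩ : ∃ a ∈ U, ∃ b ∈ V, a * b = g :=
    Subgroup.mem_sup_of_normal_left.1 (hgen ▸ Subgroup.mem_top g)
  have e : MulAut.conjNormal (a * b) n = ⟨a, ha⟩ * n * (⟨a, ha⟩ : U)⁻¹ := by
    apply Subtype.ext
    simp only [MulAut.conjNormal_apply, Subgroup.coe_mul, Subgroup.coe_inv]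
    calc a * b * (n : G) * (a * b)⁻¹ = a * (b * (n : G) * b⁻¹) * a⁻¹ := by group
      _ = a * n * a⁻¹ := by rw [← hcomm n n.2 b hb, mul_inv_cancel_right]
  rw [e]
  exact CfsgLib.Char.irr_isClassFunction ψ.2 n ⟨a, ha⟩

theorem regTotal_restrict {U V : Subgroup G} [Fintype U] (hcomm : ∀ u ∈ U, ∀ v ∈ V, u * v = v * u)
    (hgen : U ⊔ V = ⊤) (p : ℕ) (χ : IrrCharacter G) (ψ : IrrCharacter U)
    (hψ : classInner (fun u : U => (χ : G → ℂ) u) (ψ : U → ℂ) ≠ 0) :
    regTotal p (fun u : U => (χ : G → ℂ) u) =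
      classInner (fun u : U => (χ : G → ℂ) u) (ψ : U → ℂ) * regTotal p (ψ : U → ℂ) := by
  unfold regTotal
  rw [Finset.mul_sum]
  refine Finset.sum_congr rfl fun u _ => ?_
  show regInd p u * (χ : G → ℂ) u = _
  rw [restrict_eq_smul hcomm hgen χ ψ hψ u]
  ring

theorem apply_mul_eq {U V : Subgroup G} (hcomm : ∀ u ∈ U, ∀ v ∈ V, u * v = v * u)
    (hgen : U ⊔ V = ⊤) (χ : IrrCharacter G) {u v : G} (hu : u ∈ U) (hv : v ∈ V) :
    (χ : G → ℂ) (u * v) = (χ : G → ℂ) u * (χ : G → ℂ) v / (χ : G → ℂ) 1 := by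
  have hN : U.Normal := normal_of_sup hcomm hgen
  have h := sum_irr_mul_conj χ u v
  have hterm : ∀ t : G, (χ : G → ℂ) (u * (t * v * t⁻¹)) = (χ : G → ℂ) (u * v) := by
    intro t
    obtain ⟨a, ha, b, hb, rfl⟩ : ∃ a ∈ U, ∃ b ∈ V, a * b = t :=
      Subgroup.mem_sup_of_normal_left.1 (hgen ▸ Subgroup.mem_top t)
    have e : u * (a * b * v * (a * b)⁻¹) = b * (u * v) * b⁻¹ := by
      have hbv : b * v * b⁻¹ ∈ V := V.mul_mem (V.mul_mem hb hv) (V.inv_mem hb)
      calc u * (a * b * v * (a * b)⁻¹) = u * (a * (b * v * b⁻¹) * a⁻¹) := by group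
        _ = u * (b * v * b⁻¹) := by rw [hcomm a ha _ hbv, mul_inv_cancel_right]
        _ = (u * b) * v * b⁻¹ := by group
        _ = (b * u) * v * b⁻¹ := by rw [hcomm u hu b hb]
        _ = b * (u * v) * b⁻¹ := by group
    rw [e]
    exact CfsgLib.Char.irr_isClassFunction χ.2 (u * v) b
  rw [Finset.sum_congr rfl (fun t _ => hterm t), Finset.sum_const, Finset.card_univ,
    nsmul_eq_mul, ← Nat.card_eq_fintype_card, mul_assoc, mul_div_assoc] at h
  exact mul_left_cancel₀ CfsgLib.Char.natCard_ne_zero h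

/-- Let the finite group G be generated by subgroups U₁ and U₂ that commute elementwise and whose intersection is a p-group, and let M be a maximal ideal of the algebraic integers containing the prime p. If the irreducible character χ of G has the irreducible constituents ψ₁ on U₁ and ψ₂ on U₂, then χ lies in the principal block of G if and only if ψ₁ and ψ₂ lie in the principal blocks of U₁ and U₂. -/
theorem result {G : Type*} [Group G] [Fintype G] (p : ℕ) [Fact p.Prime] (M : Ideal Cfsg.AlgInt) (hM : Cfsg.IsPModular p M) (U₁ U₂ : Subgroup G) [Fintype U₁] [Fintype U₂] (hcomm : ∀ u ∈ U₁, ∀ v ∈ U₂, u * v = v * u) (hgen : U₁ ⊔ U₂ = ⊤) (hZ : IsPGroup p ↥(U₁ ⊓ U₂)) (χ : Cfsg.IrrCharacter G) (ψ₁ : Cfsg.IrrCharacter U₁) (ψ₂ : Cfsg.IrrCharacter U₂) (h₁ : Cfsg.classInner (fun u : U₁ => (χ : G → ℂ) u) (ψ₁ : U₁ → ℂ) ≠ 0) (h₂ : Cfsg.classInner (fun u : U₂ => (χ : G → ℂ) u) (ψ₂ : U₂ → ℂ) ≠ 0) : χ ∈ Cfsg.principalBlock M G ↔ (ψ₁ ∈ Cfsg.principalBlock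 M U₁ ∧ ψ₂ ∈ Cfsg.principalBlock M U₂) := by
  classical
  have hN : U₁.Normal := normal_of_sup hcomm hgen
  have hcomm' : ∀ u ∈ U₂, ∀ v ∈ U₁, u * v = v * u := fun u hu v hv => (hcomm v hv u hu).symm
  have hgen' : U₂ ⊔ U₁ = ⊤ := by rw [sup_comm]; exact hgen
  have hp : p.Prime := Fact.out
  obtain ⟨m, n, hpn, hcard⟩ : ∃ m n : ℕ, ¬ p ∣ m ∧ Nat.card G = p ^ n * m := by
    obtain ⟨n, m, h1, h2⟩ := Nat.exists_eq_pow_mul_and_not_dvd
      (Nat.card_pos (α := G)).ne' p hp.ne_one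
    exact ⟨m, n, h1, h2⟩
  have hregm : ∀ g : G, g ^ m = 1 → ¬ p ∣ orderOf g := fun g hg h =>
    hpn (h.trans (orderOf_dvd_of_pow_eq_one hg))
  have hmreg : ∀ g : G, ¬ p ∣ orderOf g → g ^ m = 1 := by
    intro g hg
    refine orderOf_dvd_iff_pow_eq_one.1 ?_
    have h := hcard ▸ orderOf_dvd_natCard g
    exact (Nat.Coprime.pow_right n ((hp.coprime_iff_not_dvd.2 hg).symm)).dvd_of_dvd_mul_left h
  obtain ⟨a, ha0, ha1⟩ := Nat.chineseRemainder
    ((hp.coprime_iff_not_dvd.2 hpn).pow_left n) 0 1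
  let R₁ : Finset U₁ := Finset.univ.filter fun u : U₁ => ¬ p ∣ orderOf u
  let R₂ : Finset U₂ := Finset.univ.filter fun u : U₂ => ¬ p ∣ orderOf u
  let R : Finset G := Finset.univ.filter fun g : G => ¬ p ∣ orderOf g
  have hdiv : ∀ {H : Type _} [Group H] [Fintype H] (f : H → ℂ),
      regTotal p f = ∑ g ∈ Finset.univ.filter (fun g : H => ¬ p ∣ orderOf g), f g := by
    intro H _ _ f
    rw [regTotal, Finset.sum_filter]
    refine Finset.sum_congr rfl fun g _ => ?_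
    unfold regInd
    by_cases h : p ∣ orderOf g <;> simp [h]
  have hfac : regTotal p (χ : G → ℂ) = regTotal p (fun u : U₁ => (χ : G → ℂ) u) *
      regTotal p (fun u : U₂ => (χ : G → ℂ) u) / (χ : G → ℂ) 1 := by
    rw [hdiv, hdiv, hdiv, Finset.sum_mul_sum, Finset.sum_div]
    simp only [Finset.sum_div]
    rw [← Finset.sum_product' (f := fun (u : U₁) (v : U₂) =>
      (χ : G → ℂ) u * (χ : G → ℂ) v / (χ : G → ℂ) 1)]
    symm
    refine Finset.sum_bij (fun x _ => (x.1 : G) * x.2) ?_ ?_ ?_ ?_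
    · intro x hx
      simp only [Finset.mem_product, Finset.mem_filter, Finset.mem_univ, true_and] at hx ⊢
      refine hregm _ ?_
      have h1 := hmreg (x.1 : G) (by rw [Subgroup.orderOf_coe]; exact hx.1)
      have h2 := hmreg (x.2 : G) (by rw [Subgroup.orderOf_coe]; exact hx.2)
      rw [(show Commute (x.1 : G) x.2 from hcomm _ x.1.2 _ x.2.2).mul_pow, h1, h2, one_mul]
    · intro x hx y hy hxy
      simp only [Finset.mem_product, Finset.mem_filter, Finset.mem_univ, true_and] at hx hy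
      set z : G := (y.1 : G)⁻¹ * x.1 with hz
      have hz2 : z = (y.2 : G) * (x.2 : G)⁻¹ := by
        rw [hz, eq_mul_inv_iff_mul_eq, mul_assoc, hxy, inv_mul_cancel_left]
      have hzmem : z ∈ U₁ ⊓ U₂ :=
        ⟨U₁.mul_mem (U₁.inv_mem y.1.2) x.1.2, hz2 ▸ U₂.mul_mem y.2.2 (U₂.inv_mem x.2.2)⟩
      have hc : Commute z (y.1 : G) := hcomm' z hzmem.2 _ y.1.2
      have hx1 : (x.1 : G) = y.1 * z := by rw [hz, mul_inv_cancel_left]
      have h1 := hmreg (x.1 : G) (by rw [Subgroup.orderOf_coe]; exact hx.1)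
      have h2 := hmreg (y.1 : G) (by rw [Subgroup.orderOf_coe]; exact hy.1)
      rw [hx1, hc.symm.mul_pow, h2, one_mul] at h1
      have hz1 : z = 1 := by
        obtain ⟨k, hk⟩ := hZ ⟨z, hzmem⟩
        have hk' : z ^ p ^ k = 1 := congrArg Subtype.val hk
        exact orderOf_eq_one_iff.1 (Nat.eq_one_of_dvd_coprimes
          ((hp.coprime_iff_not_dvd.2 hpn).pow_left k)
          (orderOf_dvd_of_pow_eq_one hk') (orderOf_dvd_of_pow_eq_one h1))
      refine Prod.ext (Subtype.ext ?_) (Subtype.ext ?_)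
      · rw [hx1, hz1, mul_one]
      · rw [hx1, hz1, mul_one] at hxy
        exact mul_left_cancel hxy
    · intro g hg
      simp only [Finset.mem_filter, Finset.mem_univ, true_and] at hg
      obtain ⟨u, hu, v, hv, rfl⟩ : ∃ u ∈ U₁, ∃ v ∈ U₂, u * v = g :=
        Subgroup.mem_sup_of_normal_left.1 (hgen ▸ Subgroup.mem_top g)
      have hpm : ∀ w : G, (w ^ a) ^ m = 1 := by
        intro w
        refine orderOf_dvd_iff_pow_eq_one.1 ?_ |> fun h => (pow_mul w a m).symm.trans h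
        exact (hcard ▸ orderOf_dvd_natCard w).trans
          (Nat.mul_dvd_mul (Nat.modEq_zero_iff_dvd.1 ha0) dvd_rfl)
      refine ⟨(⟨u ^ a, U₁.pow_mem hu a⟩, ⟨v ^ a, U₂.pow_mem hv a⟩), ?_, ?_⟩
      · simp only [Finset.mem_product, Finset.mem_filter, Finset.mem_univ, true_and]
        refine ⟨?_, ?_⟩ <;> rw [← Subgroup.orderOf_coe]
        exacts [hregm _ (hpm u), hregm _ (hpm v)]
      · show u ^ a * v ^ a = u * v
        rw [← (show Commute u v from hcomm u hu v hv).mul_pow]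
        conv_rhs => rw [← pow_one (u * v)]
        exact pow_eq_pow_iff_modEq.2 (ha1.of_dvd (orderOf_dvd_of_pow_eq_one (hmreg _ hg)))
    · intro x _
      exact (apply_mul_eq hcomm hgen χ x.1.2 x.2.2).symm
  rw [mem_principalBlock_iff_regTotal hM, mem_principalBlock_iff_regTotal hM,
    mem_principalBlock_iff_regTotal hM, hfac, regTotal_restrict hcomm hgen p χ ψ₁ h₁,
    regTotal_restrict hcomm' hgen' p χ ψ₂ h₂]
  simp [h₁, h₂, CfsgLib.Char.irr_apply_one_ne_zero χ.2]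

end Cfsg.Agent.S4521
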