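import Cfsg.Statements.S4523
import Cfsg.Agent.Lib.SigmaFixed.Main
import Cfsg.Agent.Lib.GW.TwoClassChar
import Cfsg.Agent.Lib.BlockB.PrincipalSum
import Cfsg.Agent.S0205

set_option autoImplicit false
open Cfsg

namespace Cfsg.Agent.S4523

/-- Let S be a non-abelian finite simple group with commutative Sylow 2-subgroups and M a maximal ideal of the algebraic integers containing 2. Let k be a natural number with g ^ k = g for every 2-element g and g ^ k = g⁻¹ for every element g of odd order. Then S has an irreducible character χ₁ of even degree with χ₁ (g ^ k) = χ₁ g for all g, and its principal 2-block contains a character χ₂ other than the principal character with χ₂ (g ^ k) = χ₂ g for all g. -/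
theorem result {S : Type*} [Group S] [Finite S] [IsSimpleGroup S] (hna : ¬ IsMulCommutative S) (P : Sylow 2 S) (hP : IsMulCommutative P) (M : Ideal Cfsg.AlgInt) (hM : Cfsg.IsPModular 2 M) (k : ℕ) (hk₁ : ∀ g : S, (∃ j : ℕ, orderOf g = 2 ^ j) → g ^ k = g) (hk₂ : ∀ g : S, Odd (orderOf g) → g ^ k = g⁻¹) : (∃ χ₁ : Cfsg.IrrCharacter S, Even (Cfsg.charDegree (χ₁ : S → ℂ)) ∧ ∀ g : S, (χ₁ : S → ℂ) (g ^ k) = (χ₁ : S → ℂ) g) ∧ ∃ χ₂ ∈ Cfsg.principalBlock M S, (χ₂ : S → ℂ) ≠ (fun _ => 1) ∧ ∀ g : S, (χ₂ : S → ℂ) (g ^ k) = (χ₂ : S → ℂ) g := by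
  classical
  have : Fact (Nat.Prime 2) := ⟨Nat.prime_two⟩
  have := Fintype.ofFinite S
  have hnp : ¬ IsPGroup 2 S := by
    intro h
    apply hna
    refine ⟨⟨fun a b => ?_⟩⟩
    exact (CfsgLib.SigmaFixed.two_subgroup_comm P hP (h.to_subgroup ⊤)
      (Subgroup.mem_top a) (Subgroup.mem_top b)).eq
  have heven : 2 ∣ Nat.card S := by
    by_contra h
    have hsol := Cfsg.Agent.S0205.result (G := S) (Nat.odd_iff.2 (Nat.two_dvd_ne_zero.1 h))
    exact hna ⟨⟨fun a b => (IsSimpleGroup.comm_iff_isSolvable.2 hsol) a b⟩⟩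
  obtain ⟨t, ht⟩ := exists_prime_orderOf_dvd_card' 2 heven
  refine ⟨CfsgLib.SigmaFixed.exists_fixed_even hnp ht P hP hM hk₁ hk₂, ?_⟩
  have hk := CfsgLib.SigmaFixed.coprime_of_fixes hk₁ hk₂
  have hkk := CfsgLib.SigmaFixed.pow_sq_eq_self hk₁ hk₂
  have := CfsgLib.Block.isPrime_of_pmodular hM
  have := Fintype.ofFinite (Cfsg.IrrCharacter S)
  let one : Cfsg.IrrCharacter S := ⟨fun _ => 1, CfsgLib.Char.isIrrCharacter_one⟩
  by_contra hcon
  push Not at hcon
  have ht1 : ¬ IsConj t (1 : S) := fun h => by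
    rw [isConj_one_left] at h
    rw [h, orderOf_one] at ht
    omega
  have h0 := CfsgLib.BlockB.sum_block_pElt_eq_zero hM
    (CfsgLib.Block.isPBlock_principalBlock (M := M) (G := S)) (y := t) (z := 1)
    ⟨1, by rw [ht]; rfl⟩ ⟨0, by simp⟩ ht1
  rw [finsum_mem_eq_sum_of_inter_support_eq (t := Finset.univ.filter
    (· ∈ Cfsg.principalBlock M S)) _ (by simp)] at h0
  obtain ⟨T, -, hT⟩ := CfsgLib.SigmaFixed.sum_involution_split
    (Finset.univ.filter (· ∈ Cfsg.principalBlock M S)) (CfsgLib.SigmaFixed.powChar hk)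
    (fun χ hχ => Finset.mem_filter.2 ⟨Finset.mem_univ _,
      CfsgLib.GW.TwoClassChar.comp_pow_mem_principalBlock hM hk (Finset.mem_filter.1 hχ).2⟩)
    (fun χ _ => CfsgLib.SigmaFixed.powChar_involutive hk hkk χ)
    (fun χ => (χ : S → ℂ) t * (starRingEnd ℂ) ((χ : S → ℂ) 1)) (fun χ _ => by
      simp only [CfsgLib.SigmaFixed.powChar, one_pow, hk₁ t ⟨1, by rw [ht]; rfl⟩])
  have hfix : (Finset.univ.filter (· ∈ Cfsg.principalBlock M S)).filter
      (fun χ => CfsgLib.SigmaFixed.powChar hk χ = χ) = {one} := by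
    ext χ
    simp only [Finset.mem_filter, Finset.mem_univ, true_and, Finset.mem_singleton]
    constructor
    · rintro ⟨hB, hχ⟩
      by_contra hne
      obtain ⟨g, hg⟩ := hcon χ hB (fun h => hne (Subtype.ext h))
      exact hg ((CfsgLib.SigmaFixed.powChar_eq_iff hk χ).1 hχ g)
    · rintro rfl
      exact ⟨CfsgLib.Block.one_mem_principalBlock, Subtype.ext rfl⟩
  rw [hT, hfix, Finset.sum_singleton] at h0
  simp only [one, map_one, mul_one, nsmul_eq_mul] at h0
  apply CfsgLib.Block.not_memLocalIdeal_one (M := M)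
  rw [eq_neg_of_add_eq_zero_left h0]
  exact CfsgLib.Block.memLocalIdeal_neg (CfsgLib.Block.memLocalIdeal_mul_right
    (CfsgLib.Block.memLocalRing_sum _ _ fun χ _ => CfsgLib.Block.memLocalRing_mul
      (CfsgLib.Block.memLocalRing_of_isIntegral
        (CfsgLib.Block.irr_apply_isIntegral (CfsgLib.Char.irr_isCharacter χ.2) t))
      (by rw [CfsgLib.Block.irr_conj_eq χ.2, inv_one]
          exact CfsgLib.Block.memLocalRing_of_isIntegral
            (CfsgLib.Block.irr_apply_isIntegral (CfsgLib.Char.irr_isCharacter χ.2) 1)))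
    ((CfsgLib.Block.memLocalIdeal_natCast_iff hM 2).2 dvd_rfl))

end Cfsg.Agent.S4523
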