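import Cfsg.Statements.S4531
import Cfsg.Agent.Lib.BlockA.CentralQuotientRank
import Cfsg.Agent.Lib.BlockA.SolvableRank
import Cfsg.Agent.Lib.Invol.SmallTwoModels

set_option autoImplicit false
open Cfsg

namespace Cfsg.Agent.S4531

/-- Let the finite group G have a 2-block B (relative to a maximal ideal M of the algebraic integers containing 2) of 2-regular rank three (three irreducible Brauer characters) whose defect group D is dihedral of order 2 ^ n with n ≥ 3 or semidihedral. Then the centre of G has odd order and G is not solvable. -/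
theorem result {G : Type*} [Group G] [Finite G] (M : Ideal Cfsg.AlgInt) (hM : Cfsg.IsPModular 2 M) (B : Set (Cfsg.IrrCharacter G)) (hB : Cfsg.IsPBlock M B) (D : Subgroup G) (hD : Cfsg.IsDefectGroup 2 M B D) (hD' : (∃ n : ℕ, 3 ≤ n ∧ Nonempty (D ≃* DihedralGroup (2 ^ (n - 1)))) ∨ Cfsg.IsQuasiDihedral D) (hl : Cfsg.blockRank 2 B = 3) : Odd (Nat.card (Subgroup.center G)) ∧ ¬ Group.IsSolvable G := by
  classical
  have := Fintype.ofFinite G
  have := CfsgLib.Block.isPrime_of_pmodular hM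
  have key : ∀ (x y : G) (h : ℕ), CfsgLib.BlockA.CentralQuotientRank.Pair D x y h →
      IsPGroup 2 (MulAut D) → Odd (Nat.card (Subgroup.center G)) ∧ ¬ Group.IsSolvable G := by
    intro x y h hP hA
    refine ⟨Nat.not_even_iff_odd.1 fun he => ?_, fun hs => ?_⟩
    · have := CfsgLib.BlockA.CentralQuotientRank.rank_le_two hM hB hD hP he.two_dvd
      omega
    · have := CfsgLib.BlockA.SolvableRank.rank_le_two (Nat.card G) G le_rfl hs M hM B hB D hD
        ⟨hA, ⟨x, hP.x_mem⟩, ⟨y, hP.y_mem⟩, fun w => by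
          rcases hP.cover w.2 with h1 | h1 <;> obtain ⟨i, hi⟩ := Subgroup.mem_zpowers_iff.1 h1
          · exact Or.inl (Subgroup.mem_zpowers_iff.2 ⟨i, Subtype.ext (by push_cast; exact hi)⟩)
          · exact Or.inr (Subgroup.mem_zpowers_iff.2 ⟨i, Subtype.ext (by push_cast; exact hi)⟩)⟩
      omega
  rcases hD' with ⟨n, hn, ⟨e⟩⟩ | hqd
  · obtain ⟨c, hmax⟩ := CfsgLib.BlockA.DefectOneStar.exists_maximal_pair hM hB hD
    obtain ⟨r, hR⟩ := CfsgLib.BlockA.DihedralDefect.exists_rot hn hmax.1.1.1 e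
    obtain ⟨s, hs, hsr⟩ := hR.exists_reflection
    obtain ⟨k, rfl⟩ : ∃ k, n = k + 3 := ⟨n - 3, by omega⟩
    obtain ⟨hss, hinv⟩ := hR.invert s hs hsr
    have ho : orderOf r = 4 * 2 ^ k := by
      rw [hR.orderOf_eq, show k + 3 - 2 = k + 1 by omega]; ring
    have hc : Nat.card D = 8 * 2 ^ k := by
      rw [hR.card_eq, show k + 3 - 2 = k + 1 by omega]; ring
    refine key r s (2 ^ k) ⟨⟨k, rfl⟩, hR.mem, ho, hs, hss, hsr, hc, ?_, fun h => ?_⟩ ?_
    · rw [hinv, inv_mul_cancel]; exact one_mem _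
    · rw [hinv, inv_eq_iff_mul_eq_one, ← pow_two] at h
      have h1 := Nat.le_of_dvd (by norm_num) (ho ▸ orderOf_dvd_of_pow_eq_one h)
      have h2 : 1 ≤ 2 ^ k := Nat.one_le_two_pow
      omega
    · exact (CfsgLib.Fusion.isPGroup_mulAut_dihedral (k := k + 3 - 1) (by omega)).of_equiv
        (MulAut.congr e.symm)
  · obtain ⟨Q, n, hn, hm, -⟩ := CfsgLib.Invol.exists_qdData hqd
    have ho : orderOf (Q.x : G) = 4 * Q.m := by rw [Subgroup.orderOf_coe, Q.orderOf_x]
    have hm2 := Q.two_le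
    have hconj : (Q.y : G) * Q.x * (Q.y : G)⁻¹ = (Q.x : G) ^ (2 * (Q.m : ℤ) - 1) := by
      have := congrArg Subtype.val Q.conj_x
      push_cast at this
      exact this
    have hne : (Q.y : G) * Q.x * (Q.y : G)⁻¹ ≠ Q.x := fun h => by
      rw [hconj] at h
      have h1 : (Q.x : G) ^ (2 * (Q.m : ℤ) - 1) = (Q.x : G) ^ (1 : ℤ) := by rw [h, zpow_one]
      rw [← div_eq_one, div_eq_mul_inv, ← zpow_neg, ← zpow_add,
        ← orderOf_dvd_iff_zpow_eq_one, ho] at h1
      have h2 := Int.le_of_dvd (by omega) h1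
      push_cast at h2
      omega
    refine key (Q.x : G) (Q.y : G) Q.m ⟨⟨n - 2, hm⟩, Q.x.2, ho, Q.y.2, ?_, fun h => hne ?_,
      Q.card_eq, ?_, hne⟩ (CfsgLib.Invol.SmallTwoModels.isPGroup_mulAut_qd hqd)
    · rw [← pow_two, ← Q.orderOf_y, ← Subgroup.orderOf_coe, pow_orderOf_eq_one]
    · obtain ⟨i, hi⟩ := Subgroup.mem_zpowers_iff.1 h
      rw [← hi, ((Commute.refl (Q.x : G)).zpow_left i).eq, mul_inv_cancel_right]
    · rw [hconj]
      refine Subgroup.mem_zpowers_iff.2 ⟨1, ?_⟩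
      rw [zpow_one, ← zpow_natCast, ← zpow_add_one]
      congr 1
      push_cast
      ring

end Cfsg.Agent.S4531
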