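import Cfsg.Statements.S4540
import Cfsg.Agent.Lib.BlockA.MajorTwoCount

set_option autoImplicit false
open Cfsg

namespace Cfsg.Agent.S4540

/-- Let B be a 2-block of the finite group G (relative to a maximal ideal M of the algebraic integers containing 2) of defect d with defect group D. Let z be an element of D commuting with every element of D, and let b be a block of the centralizer C of z with defect group D that induces B (a major subsection (z, b)). If b has 2-regular rank at most three, then 3·k(B) ≤ 3·k₀(B) + 2·Σ 2 ^ h(χ), where k(B) is the number of members of B, k₀(B) the number of members of height zero, and the sum runs over the members χ of B of positive height h(χ); this bound is at most 3·2 ^ d, so in particular B contains at most 2 ^ d irreducible characters. -/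
theorem result {G : Type*} [Group G] [Finite G] (M : Ideal Cfsg.AlgInt) (hM : Cfsg.IsPModular 2 M) (B : Set (Cfsg.IrrCharacter G)) (hB : Cfsg.IsPBlock M B) (D : Subgroup G) (hD : Cfsg.IsDefectGroup 2 M B D) (z : G) (hzD : z ∈ D) (hzc : ∀ d ∈ D, d * z = z * d) (b : Set (Cfsg.IrrCharacter ↥(Subgroup.centralizer ({z} : Set G)))) (hb : Cfsg.IsInducedBlock M (Subgroup.centralizer ({z} : Set G)) b B) (hbD : Cfsg.IsDefectGroup 2 M b (D.subgroupOf (Subgroup.centralizer ({z} : Set G)))) (hl : Cfsg.blockRank 2 b ≤ 3) : 3 * Nat.card B ≤ 3 * Nat.card {χ : Cfsg.IrrCharacter G // χ ∈ B ∧ Cfsg.blockHeight 2 B (χ : G → ℂ) = 0} + 2 * (∑ᶠ χ ∈ {χ : Cfsg.IrrCharacter G | χ ∈ B ∧ 1 ≤ Cfsg.blockHeight 2 B (χ : G → ℂ)}, 2 ^ Cfsg.blockHeight 2 B (χ : G → ℂ)) ∧ 3 * Nat.card {χ : Cfsg.IrrCharacter G // χ ∈ B ∧ Cfsg.blockHeight 2 B (χ : G → ℂ) = 0} + 2 * (∑ᶠ χ ∈ {χ : Cfsg.IrrCharacter G | χ ∈ B ∧ 1 ≤ Cfsg.blockHeight 2 B (χ : G → ℂ)}, 2 ^ Cfsg.blockHeight 2 B (χ : G →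 ℂ)) ≤ 3 * 2 ^ Cfsg.blockDefect 2 B := by
  classical
  have := hM.2.1.isPrime
  have := Fintype.ofFinite G
  have := Fintype.ofFinite (Subgroup.centralizer ({z} : Set G))
  have := Fintype.ofFinite (IrrCharacter G)
  have hx : ∃ k : ℕ, orderOf z = 2 ^ k := by
    have hDp := CfsgLib.Block.isPGroup_defectGroup hM hB hD
    obtain ⟨k, hk⟩ := hDp ⟨z, hzD⟩
    obtain ⟨j, -, hj⟩ := (Nat.dvd_prime_pow Nat.prime_two).1
      (orderOf_dvd_of_pow_eq_one (congrArg Subtype.val hk))
    exact ⟨j, hj⟩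
  have hd : blockDefect 2 b = blockDefect 2 B := by
    refine Nat.pow_right_injective le_rfl ?_
    show 2 ^ _ = 2 ^ _
    rw [← CfsgLib.Block.natCard_defectGroup hM hb.1 hbD, ← CfsgLib.Block.natCard_defectGroup hM hB hD]
    refine Nat.card_congr (Subgroup.subgroupOfEquivOfLe fun d hd' => ?_).toEquiv
    exact Subgroup.mem_centralizer_singleton_iff.2 (hzc d hd')
  obtain ⟨A, hsum, hpos, hzero⟩ := CfsgLib.BlockA.exists_major_averages hM hx hb hd
  rw [← hd]
  set q := 2 ^ blockDefect 2 b with hq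
  set l := blockRank 2 b with hlr
  set F := B.toFinite.toFinset with hF
  set hg := fun χ : IrrCharacter G => blockHeight 2 B (χ : G → ℂ) with hhg
  have hmem : ∀ {χ}, χ ∈ F ↔ χ ∈ B := B.toFinite.mem_toFinset
  have hk : Nat.card B = F.card := by rw [Nat.card_coe_set_eq, Set.ncard_eq_toFinset_card]
  set S := F.filter fun χ => hg χ = 0 with hS
  set T := F.filter fun χ => ¬ hg χ = 0 with hT
  have hST : S.card + T.card = F.card := Finset.card_filter_add_card_filter_not (s := F) _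
  have hk0 : Nat.card {χ : IrrCharacter G // χ ∈ B ∧ blockHeight 2 B (χ : G → ℂ) = 0} = S.card := by
    rw [Nat.card_eq_fintype_card, Fintype.card_subtype]
    congr 1
    ext χ
    simp [hS, hhg, hmem]
  have hTsum : ∑ᶠ χ ∈ {χ : IrrCharacter G | χ ∈ B ∧ 1 ≤ blockHeight 2 B (χ : G → ℂ)},
      2 ^ blockHeight 2 B (χ : G → ℂ) = ∑ χ ∈ T, 2 ^ hg χ := by
    refine finsum_mem_eq_sum_of_inter_support_eq _ ?_
    ext χ
    simp [hT, hhg, hmem, Nat.one_le_iff_ne_zero]
  rw [hk, hk0, hTsum]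
  refine ⟨?_, ?_⟩
  · have h2 : 3 * T.card ≤ 2 * ∑ χ ∈ T, 2 ^ hg χ := by
      rw [Finset.mul_sum, mul_comm, ← smul_eq_mul, ← Finset.sum_const]
      refine Finset.sum_le_sum fun χ hχ => ?_
      have h1 : 2 ^ 1 ≤ 2 ^ hg χ := Nat.pow_le_pow_right two_pos
        (Nat.pos_of_ne_zero (Finset.mem_filter.1 hχ).2)
      omega
    omega
  by_cases h1 : ∃ χ ∈ S, A χ = 1
  · obtain ⟨χ, hχ, hA⟩ := h1
    obtain ⟨-, h⟩ := hzero χ (hmem.1 (Finset.mem_filter.1 hχ).1) (Finset.mem_filter.1 hχ).2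
    rw [hA, one_pow, mul_one, Nat.add_le_add_iff_right] at h
    have h2 : S.card + ∑ χ ∈ T, 2 ^ hg χ ≤ q := by
      refine le_trans ?_ h
      rw [← Finset.sum_filter_add_sum_filter_not F (fun χ => hg χ = 0)
        (fun χ => 4 ^ blockHeight 2 B (χ : G → ℂ)), ← hS, ← hT, Finset.card_eq_sum_ones]
      exact add_le_add (Finset.sum_le_sum fun χ _ => Nat.one_le_pow _ _ (by norm_num))
        (Finset.sum_le_sum fun χ _ => Nat.pow_le_pow_left (by norm_num) _)
    omega
  · push Not at h1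
    have h2 : 3 * S.card + 2 * ∑ χ ∈ T, 2 ^ hg χ ≤ ∑ χ ∈ F, A χ := by
      rw [← Finset.sum_filter_add_sum_filter_not F (fun χ => hg χ = 0) A, ← hS, ← hT,
        mul_comm 3, ← smul_eq_mul, ← Finset.sum_const, Finset.mul_sum]
      refine add_le_add (Finset.sum_le_sum fun χ hχ => ?_) (Finset.sum_le_sum fun χ hχ => ?_)
      · have hχ' := Finset.mem_filter.1 hχ
        obtain ⟨hodd, -⟩ := hzero χ (hmem.1 hχ'.1) hχ'.2
        obtain ⟨t, ht⟩ := hodd
        have := h1 χ hχ
        omega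
      · have hχ' := Finset.mem_filter.1 hχ
        obtain ⟨hdvd, hA0, -⟩ := hpos χ (hmem.1 hχ'.1) (Nat.pos_of_ne_zero hχ'.2)
        exact le_of_eq_of_le (pow_succ' 2 _).symm (Nat.le_of_dvd hA0 hdvd)
    rw [hsum] at h2
    exact h2.trans (by rw [mul_comm q]; exact Nat.mul_le_mul_right q (by assumption))

end Cfsg.Agent.S4540
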