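import Cfsg.Statements.S4541
import Cfsg.Agent.Lib.BlockA.TwoSubsectionCount

set_option autoImplicit false
open Cfsg

namespace Cfsg.Agent.S4541

/-- Let B be a 2-block of the finite group G (relative to a maximal ideal M of the algebraic integers containing 2), u a 2-element, and b a block of the centralizer of u inducing B (a subsection (u, b)), of defect q and 2-regular rank l; write s for the integer square root of l and k₀(B) for the number of members of B of height zero. If s is odd then k₀(B) ≤ s·2 ^ q, and otherwise (s + 1)·k₀(B) ≤ l·2 ^ q; in particular k₀(B) ≤ 2 ^ q when l ≤ 3. -/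
theorem result {G : Type*} [Group G] [Finite G] (M : Ideal Cfsg.AlgInt) (hM : Cfsg.IsPModular 2 M) (B : Set (Cfsg.IrrCharacter G)) (hB : Cfsg.IsPBlock M B) (u : G) (hu : ∃ j : ℕ, orderOf u = 2 ^ j) (b : Set (Cfsg.IrrCharacter ↥(Subgroup.centralizer ({u} : Set G)))) (hb : Cfsg.IsInducedBlock M (Subgroup.centralizer ({u} : Set G)) b B) : (Odd (Nat.sqrt (Cfsg.blockRank 2 b)) → Nat.card {χ : Cfsg.IrrCharacter G // χ ∈ B ∧ Cfsg.blockHeight 2 B (χ : G → ℂ) = 0} ≤ Nat.sqrt (Cfsg.blockRank 2 b) * 2 ^ Cfsg.blockDefect 2 b) ∧ (¬ Odd (Nat.sqrt (Cfsg.blockRank 2 b)) → (Nat.sqrt (Cfsg.blockRank 2 b) + 1) * Nat.card {χ : Cfsg.IrrCharacter G // χ ∈ B ∧ Cfsg.blockHeight 2 B (χ : G → ℂ) = 0} ≤ Cfsg.blockRank 2 b * 2 ^ Cfsg.blockDefect 2 b) ∧ (Cfsg.blockRank 2 b ≤ 3 → Nat.card {χ : Cfsg.IrrCharacter G // χ ∈ B ∧ Cfsg.blockHeight 2 B (χ : G → ℂ) = 0} ≤ 2 ^ Cfsg.blockDefect 2 b) := by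
  classical
  have := hM.2.1.isPrime
  have := Fintype.ofFinite G
  have := Fintype.ofFinite (Subgroup.centralizer ({u} : Set G))
  have := Fintype.ofFinite (IrrCharacter G)
  set S := Finset.univ.filter fun χ : IrrCharacter G => χ ∈ B ∧ blockHeight 2 B (χ : G → ℂ) = 0
    with hS
  obtain ⟨A, hA, hsum⟩ := CfsgLib.BlockA.exists_odd_averages hM hu hb S (by simp [hS])
  rw [Nat.card_eq_fintype_card, Fintype.card_subtype, ← hS]
  set l := blockRank 2 b with hl
  set q := 2 ^ blockDefect 2 b with hq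
  set s := Nat.sqrt l with hs
  have hs2 : s * s ≤ l := Nat.sqrt_le l
  have hls : l + 1 ≤ (s + 1) * (s + 1) := Nat.succ_le_succ_sqrt' l |>.trans (by nlinarith)
  have hbig : ∀ t : ℕ, (∀ χ ∈ S, t ≤ A χ) → t * S.card ≤ l * q := by
    intro t ht
    calc t * S.card = ∑ _χ ∈ S, t := by rw [Finset.sum_const, smul_eq_mul, mul_comm]
      _ ≤ ∑ χ ∈ S, A χ := Finset.sum_le_sum ht
      _ ≤ l * q := by rw [mul_comm]; exact hsum
  have hsmall : ∀ χ ∈ S, S.card ≤ q * A χ := fun χ hχ => by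
    obtain ⟨hodd, hle⟩ := hA χ hχ
    have := hodd.pos
    nlinarith
  have hoddcase : Odd s → S.card ≤ s * q := by
    intro hso
    by_cases h : ∃ χ ∈ S, A χ ≤ s
    · obtain ⟨χ, hχ, hle⟩ := h
      nlinarith [hsmall χ hχ]
    · push Not at h
      have h2 := hbig (s + 2) fun χ hχ => by
        obtain ⟨a, ha⟩ := (hA χ hχ).1
        obtain ⟨c, hc⟩ := hso
        have := h χ hχ
        omega
      have hl2 : l ≤ s * (s + 2) := by nlinarith
      have h3 : (s + 2) * S.card ≤ (s + 2) * (s * q) :=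
        h2.trans (le_of_le_of_eq (Nat.mul_le_mul_right q hl2) (by ring))
      exact Nat.le_of_mul_le_mul_left h3 (Nat.succ_pos _)
  have hevencase : ¬ Odd s → (s + 1) * S.card ≤ l * q := by
    intro hse
    by_cases h : ∃ χ ∈ S, A χ ≤ s
    · obtain ⟨χ, hχ, hle⟩ := h
      have hlt : A χ + 1 ≤ s := by
        rcases eq_or_lt_of_le hle with e | e
        · exact absurd (e ▸ (hA χ hχ).1) hse
        · exact e
      calc (s + 1) * S.card ≤ (s + 1) * (q * A χ) := Nat.mul_le_mul_left _ (hsmall χ hχ)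
        _ = ((s + 1) * A χ) * q := by ring
        _ ≤ l * q := Nat.mul_le_mul_right q (by nlinarith)
    · push Not at h
      exact hbig (s + 1) fun χ hχ => h χ hχ
  refine ⟨hoddcase, hevencase, fun hl3 => ?_⟩
  have hs1 : s ≤ 1 := by
    by_contra h
    push Not at h
    nlinarith
  rcases Nat.le_one_iff_eq_zero_or_eq_one.1 hs1 with h | h
  · have h1 := hevencase (by rw [h]; decide)
    rw [h] at h1 hls
    have : l = 0 := by omega
    rw [this] at h1
    simp only [zero_mul, zero_add, one_mul, Nat.le_zero] at h1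
    rw [h1]
    exact Nat.zero_le _
  · have h1 := hoddcase (by rw [h]; decide)
    rwa [h, one_mul] at h1

end Cfsg.Agent.S4541
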