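import Cfsg.Statements.S4544
import Cfsg.Agent.S4540
import Cfsg.Agent.Lib.BlockA.IndexFour.Small
import Cfsg.Agent.Lib.BlockA.IndexFour.Reduction
import Cfsg.Agent.Lib.BlockA.CentralDefect
import Cfsg.Agent.Lib.BlockA.Dominated
import Cfsg.Agent.Lib.BlockA.QuotientDefect
-- import your own Cfsg.Agent.* helpers here

set_option autoImplicit false
open Cfsg

namespace Cfsg.Agent.S4544

/-- Let B be a 2-block of the finite group G (relative to a maximal ideal M of the algebraic integers containing 2) whose defect group D contains a cyclic subgroup of index at most 4 in D. Then B contains at most as many irreducible characters as D has elements. -/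
theorem result {G : Type*} [Group G] [Finite G] (M : Ideal Cfsg.AlgInt) (hM : Cfsg.IsPModular 2 M) (B : Set (Cfsg.IrrCharacter G)) (hB : Cfsg.IsPBlock M B) (D : Subgroup G) (hD : Cfsg.IsDefectGroup 2 M B D) (C : Subgroup G) (hCD : C ≤ D) (hcyc : IsCyclic C) (hidx : C.relIndex D ≤ 4) : Nat.card B ≤ Nat.card D := by
  classical
  have := hM.2.1.isPrime
  have : Fact (Nat.Prime 2) := ⟨Nat.prime_two⟩
  have := Fintype.ofFinite G
  rcases eq_or_ne D ⊥ with h | hne
  · exact (CfsgLib.BlockA.natCard_block_of_central_defect hM hB hD (h ▸ bot_le)).le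
  have hDp := CfsgLib.Block.isPGroup_defectGroup hM hB hD
  obtain ⟨z, hzD, -, hzc, hgood⟩ :=
    CfsgLib.BlockA.IndexFour.hasGoodQuotient hDp hne hCD hcyc hidx
  obtain ⟨e, hmax⟩ := CfsgLib.BlockA.DefectOneStar.exists_maximal_pair hM hB hD
  set H := Subgroup.centralizer ({z} : Set G) with hH
  have hDH : D ≤ H := fun d hd => Subgroup.mem_centralizer_singleton_iff.2 (hzc d hd)
  obtain ⟨g, hc, hind, hmaxH⟩ := CfsgLib.BlockA.DihedralDefect.exists_central_data hM hmax hD
    (Subgroup.zpowers_le.2 hzD) (by rw [CfsgLib.BlockB.HeightBound.cen_zpowers]; exact hDH)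
    (H := H) (CfsgLib.BlockB.HeightBound.cen_zpowers z).symm
  have hgD : IsDefectGroup 2 M g (D.subgroupOf H) :=
    (CfsgLib.BlockA.maximal_core hM hmaxH).1
  suffices hl : blockRank 2 g ≤ 3 by
    obtain ⟨h1, h2⟩ := Cfsg.Agent.S4540.result M hM B hB D hD z hzD hzc g hind hgD hl
    rw [CfsgLib.Block.natCard_defectGroup hM hB hD]
    omega
  have := Fintype.ofFinite H
  let z' : H := ⟨z, hDH hzD⟩
  set Z := Subgroup.zpowers z' with hZdef
  have hZc : Z ≤ Subgroup.center H := Subgroup.zpowers_le.2 (Subgroup.mem_center_iff.2 fun t =>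
    Subtype.ext (Subgroup.mem_centralizer_singleton_iff.1 t.2))
  have hZn : Z.Normal := ⟨fun a ha w => by
    rw [Subgroup.mem_center_iff.1 (hZc ha) w, mul_inv_cancel_right]
    exact ha⟩
  have hZp : IsPGroup 2 Z := by
    obtain ⟨k, hk⟩ := IsPGroup.iff_orderOf.1 hDp ⟨z, hzD⟩
    refine IsPGroup.of_card (n := k) ?_
    rw [hZdef, Nat.card_zpowers, ← hk, Subgroup.orderOf_mk, Subgroup.orderOf_mk]
  have := Fintype.ofFinite (H ⧸ Z)
  obtain ⟨c, hcB, hcmem, hrk, -, -⟩ :=
    CfsgLib.BlockA.Dominated.exists_dominated hZc hZp hM hind.1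
  obtain ⟨Bb, hBb, hBsub, hBdef⟩ :=
    CfsgLib.BlockA.QuotientDefect.exists_block_images Z hM hZp hind.1
  obtain rfl : Bb = c := by
    obtain ⟨η, hη⟩ := CfsgLib.Block.isPBlock_nonempty hBb
    exact CfsgLib.Block.isPBlock_eq_of_mem hBb hcB hη ((hcmem η).2 (hBsub η hη))
  set Pb := (D.subgroupOf H).map (QuotientGroup.mk' Z) with hPb
  have hDb : IsDefectGroup 2 M Bb Pb := (hBdef _).2 ⟨D.subgroupOf H, hgD, rfl⟩
  obtain ⟨e', hmaxb⟩ := CfsgLib.BlockA.DefectOneStar.exists_maximal_pair hM hBb hDb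
  let f : D →* H ⧸ Z := (QuotientGroup.mk' Z).comp (Subgroup.inclusion hDH)
  have hf : ∀ d : D, f d = 1 ↔ (d : G) ∈ Subgroup.zpowers z := fun d => by
    show QuotientGroup.mk' Z (Subgroup.inclusion hDH d) = 1 ↔ _
    rw [QuotientGroup.mk'_apply, QuotientGroup.eq_one_iff, hZdef, Subgroup.mem_zpowers_iff,
      Subgroup.mem_zpowers_iff]
    refine exists_congr fun k => ?_
    rw [Subtype.ext_iff, SubgroupClass.coe_zpow]
    rfl
  have hrange : f.range = Pb := by
    rw [hPb, MonoidHom.range_comp, Subgroup.inclusion_range]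
  rw [hrk]
  exact CfsgLib.BlockA.IndexFour.good_rank_le_three hM hmaxb hDb (hrange ▸ hgood f hf)

end Cfsg.Agent.S4544
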