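import Cfsg.Statements.S4550
import Cfsg.Agent.Lib.BlockA.KleinOrder
import Cfsg.Agent.Lib.BlockB.PrincipalLambda
import Cfsg.Agent.Lib.Block.Orthogonality
import Cfsg.Agent.Lib.Block.DegreeAux

set_option autoImplicit false
open Cfsg

namespace Cfsg.Agent.S4550

open CfsgLib.Block CfsgLib.BlockB
open scoped ComplexConjugate

theorem value_invol {G : Type*} [Group G] [Finite G] {χ : G → ℂ} (hχ : IsCharacter G χ) {t : G}
    (ht : t * t = 1) : ∃ r : ℕ, χ t = 2 * (r : ℂ) - (charDegree χ : ℂ) := by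
  obtain ⟨n, ρ, rfl⟩ := hχ
  have hn : charDegree ρ.character = n := by
    simp [charDegree, Representation.char_one]
  have h2 : ρ t * ρ t = 1 := by rw [← map_mul, ht, map_one]
  set f : Module.End ℂ (Fin n → ℂ) := (2 : ℂ)⁻¹ • (1 + ρ t) with hf
  have hff : IsIdempotentElem f := by
    show f * f = f
    rw [hf, smul_mul_smul_comm, add_mul, one_mul, mul_add, mul_one, h2,
      show 1 + ρ t + (ρ t + 1) = (2 : ℂ) • (1 + ρ t) by rw [two_smul]; abel, smul_smul]
    norm_num
  have htr := (LinearMap.isProj_range_iff_isIdempotentElem f).2 hff |>.trace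
  rw [hf, map_smul, map_add, LinearMap.trace_one, Module.finrank_fin_fun, smul_eq_mul] at htr
  refine ⟨Module.finrank ℂ (LinearMap.range f), ?_⟩
  rw [hn, hf]
  show LinearMap.trace ℂ _ (ρ t) = _
  linear_combination 2 * htr

theorem three_pow_modEq (a : ℕ) : 3 ^ 2 ^ a ≡ 1 [MOD 2 ^ (a + 1)] := by
  induction a with
  | zero => decide
  | succ a ih =>
    obtain ⟨c, hc⟩ : ∃ c : ℕ, 3 ^ 2 ^ a = 1 + c * 2 ^ (a + 1) := by
      have h1 : 1 ≤ 3 ^ 2 ^ a := Nat.one_le_pow _ _ (by norm_num)
      obtain ⟨c, hc⟩ := (Nat.modEq_iff_dvd' h1).1 ih.symm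
      exact ⟨c, by rw [mul_comm c]; omega⟩
    refine ((Nat.modEq_iff_dvd' (Nat.one_le_pow _ _ (by norm_num))).2
      ⟨c + c * c * 2 ^ a, ?_⟩).symm
    have h2 : 3 ^ 2 ^ (a + 1) = 1 + 2 ^ (a + 2) * (c + c * c * 2 ^ a) := by
      rw [pow_succ 2 a, pow_mul, hc]; ring
    rw [show a + 1 + 1 = a + 2 from rfl, h2]
    omega

/-- Let G be a finite group of even order and M a maximal ideal of the algebraic integers containing 2. Let k be a natural number with g ^ k = g ^ 3 for every 2-element g and g ^ k = g for every element g of odd order (such k exist); an irreducible character χ is unchanged by g ↦ g ^ k exactly when it is fixed by the field automorphism that cubes the 2-power roots of unity and fixes the roots of unity of odd order. Then the number of members χ of the principal 2-block of odd degree with χ (g ^ k) = χ g for all g is even. -/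
theorem result {G : Type*} [Group G] [Finite G] (M : Ideal Cfsg.AlgInt) (hM : Cfsg.IsPModular 2 M) (hev : Even (Nat.card G)) (k : ℕ) (hk₁ : ∀ g : G, (∃ j : ℕ, orderOf g = 2 ^ j) → g ^ k = g ^ 3) (hk₂ : ∀ g : G, Odd (orderOf g) → g ^ k = g) : Even (Nat.card {χ : Cfsg.IrrCharacter G // χ ∈ Cfsg.principalBlock M G ∧ Odd (Cfsg.charDegree (χ : G → ℂ)) ∧ ∀ g : G, (χ : G → ℂ) (g ^ k) = (χ : G → ℂ) g}) := by
  classical
  have := hM.2.1.isPrime
  have := Fintype.ofFinite G
  have := Fintype.ofFinite (Cfsg.IrrCharacter G)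
  have : Fact (Nat.Prime 2) := ⟨Nat.prime_two⟩
  have hk : k.Coprime (Nat.card G) := by
    refine Nat.coprime_of_dvd' fun q hq hqk hqc => ?_
    have := Fact.mk hq
    obtain ⟨g, hg⟩ := exists_prime_orderOf_dvd_card' q hqc
    have hgk : g ^ k = 1 := orderOf_dvd_iff_pow_eq_one.1 (hg ▸ hqk)
    have hne : g ≠ 1 := fun h => hq.ne_one (by rw [← hg, h, orderOf_one])
    rcases hq.eq_two_or_odd' with h | h
    · have h2 := hk₁ g ⟨1, by rw [hg, h, pow_one]⟩
      rw [hgk] at h2
      have h3 : g * g = 1 := by rw [← sq, ← h, ← hg]; exact pow_orderOf_eq_one g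
      rw [pow_succ, pow_two, h3, one_mul] at h2
      exact absurd h2.symm hne
    · have h2 := hk₂ g (hg ▸ h)
      rw [hgk] at h2
      exact absurd h2.symm hne
  -- iterates
  have hpow : ∀ g : G, g ^ k ^ 2 ^ Nat.card G = g := by
    intro g
    have hiterOdd : ∀ v : G, Odd (orderOf v) → ∀ i : ℕ, v ^ k ^ i = v := by
      intro v hv i
      induction i with
      | zero => simp
      | succ i ih => rw [pow_succ, pow_mul, ih, hk₂ v hv]
    have hiter2 : ∀ u : G, (∃ j : ℕ, orderOf u = 2 ^ j) → ∀ i : ℕ, u ^ k ^ i = u ^ 3 ^ i := by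
      intro u hu i
      induction i with
      | zero => simp
      | succ i ih =>
        rw [pow_succ, pow_mul, ih, pow_succ 3, pow_mul]
        refine hk₁ _ ?_
        obtain ⟨j, hj⟩ := hu
        obtain ⟨j', -, hj'⟩ := (Nat.dvd_prime_pow Nat.prime_two).1
          (hj ▸ orderOf_pow_dvd (x := u) (3 ^ i))
        exact ⟨j', hj'⟩
    obtain ⟨e, m, hm, he⟩ := Nat.exists_eq_two_pow_mul_odd (orderOf_pos g).ne'
    have hm0 : m ≠ 0 := hm.pos.ne'
    have hu : orderOf (g ^ m) = 2 ^ e := by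
      rw [orderOf_pow_of_dvd hm0 (he ▸ dvd_mul_left m _), he,
        Nat.mul_div_cancel _ hm.pos]
    have hv : orderOf (g ^ 2 ^ e) = m := by
      rw [orderOf_pow_of_dvd (by positivity) (he ▸ dvd_mul_right _ m), he,
        Nat.mul_div_cancel_left _ (by positivity)]
    have hv1 : k ^ 2 ^ Nat.card G ≡ 1 [MOD m] := by
      have h := hiterOdd _ (hv ▸ hm) (2 ^ Nat.card G)
      conv_rhs at h => rw [← pow_one (g ^ 2 ^ e)]
      rwa [pow_eq_pow_iff_modEq, hv] at h
    have hu1 : k ^ 2 ^ Nat.card G ≡ 1 [MOD 2 ^ e] := by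
      have h := hiter2 _ ⟨e, hu⟩ (2 ^ Nat.card G)
      rw [pow_eq_pow_iff_modEq, hu] at h
      refine h.trans ((three_pow_modEq _).of_dvd (pow_dvd_pow 2 ?_))
      have h1 : 2 ^ e ≤ Nat.card G := hu ▸ Nat.le_of_dvd Nat.card_pos (orderOf_dvd_natCard _)
      have := @Nat.lt_two_pow_self e
      omega
    have h := (Nat.modEq_and_modEq_iff_modEq_mul
      ((Nat.coprime_two_left.2 hm).pow_left e)).1 ⟨hu1, hv1⟩
    rw [← he] at h
    conv_rhs => rw [← pow_one g]
    exact pow_eq_pow_iff_modEq.2 h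
  -- the set
  let T : Finset (IrrCharacter G) :=
    Finset.univ.filter fun χ : IrrCharacter G =>
      χ ∈ principalBlock M G ∧ Odd (charDegree (χ : G → ℂ))
  have hTmem : ∀ χ : IrrCharacter G,
      χ ∈ T ↔ χ ∈ principalBlock M G ∧ Odd (charDegree (χ : G → ℂ)) := fun χ => by simp [T]
  have hTeven : Even T.card := by
    obtain ⟨t, ht⟩ := exists_prime_orderOf_dvd_card' (G := G) 2 hev.two_dvd
    have htt : t * t = 1 := by rw [← sq, ← ht]; exact pow_orderOf_eq_one t
    have h0 := sum_block_eq_zero_of_regular_singular hM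
      (isPBlock_principalBlock (M := M) (G := G)) (g := 1) (h := t)
      (by simp) (by simp [ht])
    rw [finsum_mem_eq_finite_toFinset_sum _ (Set.toFinite _)] at h0
    set F := (Set.toFinite (principalBlock M G)).toFinset with hF
    choose r hr using fun χ : IrrCharacter G =>
      value_invol (CfsgLib.Char.irr_isCharacter χ.2) htt
    have hd : ∀ χ : IrrCharacter G, (χ : G → ℂ) 1 = (charDegree (χ : G → ℂ) : ℂ) := fun χ =>
      charDegree_spec (CfsgLib.Char.irr_isCharacter χ.2)
    have h1 : ((∑ χ ∈ F, charDegree (χ : G → ℂ) * charDegree (χ : G → ℂ) : ℕ) : ℂ) =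
        ((2 * ∑ χ ∈ F, charDegree (χ : G → ℂ) * r χ : ℕ) : ℂ) := by
      rw [← sub_eq_zero, ← neg_eq_zero, ← h0]
      push_cast
      rw [neg_sub, Finset.mul_sum, ← Finset.sum_sub_distrib]
      refine Finset.sum_congr rfl fun χ _ => ?_
      rw [hd, hr χ]
      simp only [map_sub, map_mul, map_ofNat, Complex.conj_natCast]
      ring
    have h2 : Even (∑ χ ∈ F, charDegree (χ : G → ℂ) * charDegree (χ : G → ℂ)) := by
      rw [Nat.cast_injective h1]; exact even_two_mul _
    rw [Finset.even_sum_iff_even_card_odd] at h2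
    convert h2 using 2
    ext χ
    simp [T, hF, Nat.odd_mul]
  have hTstab : ∀ χ ∈ T, galIrr hk χ ∈ T := by
    intro χ hχ
    rw [hTmem] at hχ ⊢
    refine ⟨galIrr_mem_principalBlock hM hk hχ.1, ?_⟩
    have : charDegree (galIrr hk χ : G → ℂ) = charDegree (χ : G → ℂ) := by
      simp [charDegree, galIrr]
    rw [this]; exact hχ.2
  obtain ⟨e, he⟩ := exists_galIrr_perm hk T hTstab
  have hep : ∀ (i : ℕ) (χ : {χ // χ ∈ T}) (g : G),
      (((e ^ i) χ).1 : G → ℂ) g = (χ.1 : G → ℂ) (g ^ k ^ i) := by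
    intro i
    induction i with
    | zero => intro χ g; simp
    | succ i ih =>
      intro χ g
      rw [pow_succ', Equiv.Perm.mul_apply, he]
      show (((e ^ i) χ).1 : G → ℂ) (g ^ k) = _
      rw [ih, pow_succ', pow_mul]
  have hone : e ^ 2 ^ Nat.card G = 1 := by
    refine Equiv.ext fun χ => Subtype.ext (Subtype.ext (funext fun g => ?_))
    rw [hep, hpow]
    rfl
  have hmod := Equiv.Perm.card_compl_support_modEq hone
  rw [Fintype.card_coe] at hmod
  have hcard : Nat.card {χ : Cfsg.IrrCharacter G // χ ∈ Cfsg.principalBlock M G ∧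
      Odd (Cfsg.charDegree (χ : G → ℂ)) ∧ ∀ g : G, (χ : G → ℂ) (g ^ k) = (χ : G → ℂ) g} =
      (Equiv.Perm.support e)ᶜ.card := by
    rw [← Nat.card_eq_finsetCard]
    refine Nat.card_congr ⟨fun χ => ⟨⟨χ.1, (hTmem _).2 ⟨χ.2.1, χ.2.2.1⟩⟩, ?_⟩,
      fun χ => ⟨χ.1.1, ((hTmem _).1 χ.1.2).1, ((hTmem _).1 χ.1.2).2, ?_⟩,
      fun χ => rfl, fun χ => rfl⟩
    · rw [Finset.mem_compl, Equiv.Perm.notMem_support]
      refine Subtype.ext ?_
      rw [he]
      exact Subtype.ext (funext χ.2.2.2)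
    · intro g
      have h := χ.2
      rw [Finset.mem_compl, Equiv.Perm.notMem_support] at h
      have h' := congrArg Subtype.val h
      rw [he] at h'
      exact congr_fun (congrArg Subtype.val h') g
  rw [hcard, Nat.even_iff]
  exact (show _ % 2 = _ % 2 from hmod).trans (Nat.even_iff.1 hTeven)

end Cfsg.Agent.S4550
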