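import Cfsg.Statements.S4552
import Cfsg.Agent.Lib.BlockA.HomocyclicTwo
import Cfsg.Agent.Lib.BlockA.DefectOneStar
import Cfsg.Agent.Lib.Block.DefectOrder

set_option autoImplicit false
open Cfsg

namespace Cfsg.Agent.S4552

/-- Let B be a 2-block of the finite group G (relative to a maximal ideal M of the algebraic integers containing 2) whose defect group D is the direct product of two cyclic groups of the same order 2 ^ m, m ≥ 2. Then either B has 2-regular rank one and exactly 4 ^ m irreducible characters, or B has 2-regular rank three and exactly (4 ^ m + 8) / 3 irreducible characters. -/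
theorem result {G : Type*} [Group G] [Finite G] (M : Ideal Cfsg.AlgInt) (hM : Cfsg.IsPModular 2 M) (B : Set (Cfsg.IrrCharacter G)) (hB : Cfsg.IsPBlock M B) (D : Subgroup G) (hD : Cfsg.IsDefectGroup 2 M B D) (m : ℕ) (hm : 2 ≤ m) (hiso : Nonempty (D ≃* Multiplicative (ZMod (2 ^ m) × ZMod (2 ^ m)))) : (Cfsg.blockRank 2 B = 1 ∧ Nat.card B = 4 ^ m) ∨ (Cfsg.blockRank 2 B = 3 ∧ 3 * Nat.card B = 4 ^ m + 8) := by
  have := Fintype.ofFinite G
  have : M.IsPrime := hM.2.1.isPrime
  obtain ⟨e, hmax⟩ := CfsgLib.BlockA.DefectOneStar.exists_maximal_pair hM hB hD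
  obtain ⟨φ⟩ := hiso
  refine CfsgLib.BlockA.Homocyclic.counts hM hmax (fun v hv w hw => ?_)
    (CfsgLib.BlockA.Homocyclic.isHomo_of_equiv (by omega) φ) hm
    (CfsgLib.Block.natCard_defectGroup hM hB hD)
  exact congrArg Subtype.val (φ.injective (by rw [map_mul, map_mul, mul_comm]) :
    (⟨v, hv⟩ : D) * ⟨w, hw⟩ = ⟨w, hw⟩ * ⟨v, hv⟩)

end Cfsg.Agent.S4552
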