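import Cfsg.Statements.S4553
import Cfsg.Agent.Lib.Clifford.Intertwiner
import Cfsg.Agent.Lib.Clifford.AbelianQuot
import Cfsg.Agent.Lib.Clifford.Degree
import Cfsg.Agent.Lib.Clifford.Extension
import Cfsg.Agent.Lib.BlockB.GaloisValues
import Cfsg.Agent.Lib.BlockB.PrincipalLambda
import Cfsg.Agent.Lib.Transfer.Basic
import Cfsg.Agent.Lib.Char.Constituent

set_option autoImplicit false
open Cfsg

namespace Cfsg.Agent.S4553

universe u

variable {G : Type u} [Group G] {p : ℕ} {N : Subgroup G} [hN : N.Normal]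

open scoped Classical in
theorem regTotal_restrict [Fintype G] [Fintype N] (h : ∀ g : G, ¬ p ∣ orderOf g → g ∈ N)
    (f : G → ℂ) :
    CfsgLib.BlockB.regTotal p f = CfsgLib.BlockB.regTotal p (fun n : N => f n) := by
  unfold CfsgLib.BlockB.regTotal
  rw [← Finset.sum_subset (Finset.subset_univ (Finset.univ.map (Function.Embedding.subtype (· ∈ N))))
    (fun g _ hg => by
      have hgN : g ∉ N := fun hgN => hg (Finset.mem_map.2 ⟨⟨g, hgN⟩, Finset.mem_univ _, rfl⟩)
      rw [CfsgLib.BlockA.regInd, if_pos (not_not.1 fun h' => hgN (h g h')), zero_mul]),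
    Finset.sum_map]
  refine Finset.sum_congr rfl fun n _ => ?_
  show CfsgLib.BlockA.regInd p (n : G) * f n = _
  simp [CfsgLib.BlockA.regInd, Subgroup.orderOf_coe]

/-- Linear characters trivial on `N` are determined at an element generating modulo `N`. -/
theorem hom_ext_gen {x : G} (hgen : ∀ g : G, ∃ i : ℤ, (x ^ i)⁻¹ * g ∈ N) {a b : G →* ℂˣ}
    (ha : ∀ n : N, a n = 1) (hb : ∀ n : N, b n = 1) (h : a x = b x) : a = b := by
  ext1 g
  obtain ⟨i, hi⟩ := hgen g
  have hg : g = x ^ i * ((x ^ i)⁻¹ * g) := by group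
  have ha' : a ((x ^ i)⁻¹ * g) = 1 := ha ⟨_, hi⟩
  have hb' : b ((x ^ i)⁻¹ * g) = 1 := hb ⟨_, hi⟩
  rw [hg, map_mul a (x ^ i), map_mul b (x ^ i), ha', hb', map_zpow, map_zpow, h]


/-- Let G be a finite group, p a prime, P a Sylow p-subgroup, N the p-residual of G (the subgroup generated by the elements of order prime to p, the smallest normal subgroup with G/N a p-group), and M a maximal ideal of the algebraic integers containing p; suppose G/N is cyclic and nontrivial. Let k be a natural number with g ^ k = g ^ (1 + p) for every p-element g and g ^ k = g for every element g of order prime to p (so that χ (g ^ k) is the image of χ g under the field automorphism that raises p-power roots of unity to the power 1 + p and fixes the roots of unity of order prime to p). Then the number of members χ of the principal block of G of degree prime to p with χ (g ^ k) = χ g for all g equals p times the number of members θ of the principal block of N of degree prime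 to p that are invariant under conjugation by P and satisfy θ (n ^ k) = θ n for all n. -/
theorem result {G : Type*} [Group G] [Finite G] (p : ℕ) [Fact p.Prime] (M : Ideal Cfsg.AlgInt) (hM : Cfsg.IsPModular p M) (P : Sylow p G) (N : Subgroup G) [hN : N.Normal] (hNres : N = Cfsg.pResidual p G) (hcyc : IsCyclic (G ⧸ N)) (hnt : N ≠ ⊤) (k : ℕ) (hk₁ : ∀ g : G, (∃ j : ℕ, orderOf g = p ^ j) → g ^ k = g ^ (1 + p)) (hk₂ : ∀ g : G, Nat.Coprime (orderOf g) p → g ^ k = g) : Nat.card {χ : Cfsg.IrrCharacter G // χ ∈ Cfsg.principalBlock M G ∧ ¬ p ∣ Cfsg.charDegree (χ : G → ℂ) ∧ ∀ g : G, (χ : G → ℂ) (g ^ k) = (χ : G → ℂ) g} = p * Nat.card {θ : Cfsg.IrrCharacter ↥N // θ ∈ Cfsg.principalBlock M ↥N ∧ ¬ p ∣ Cfsg.charDegree (θ : ↥N → ℂ) ∧ (∀ x ∈ (P : Subgroup G), ∀ n : ↥N, (θ : ↥N → ℂ) ⟨x * n * x⁻¹, hN.conj_mem n n.2 x⟩ = (θ : ↥N → ℂ) n) ∧ ∀ n : ↥N, (θ : ↥N → ℂ) (n ^ k) = (θ : ↥N → ℂ) n} := by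
  classical
  have := hM.2.1.isPrime
  have := Fintype.ofFinite G
  have := Fintype.ofFinite N
  have hp : p.Prime := Fact.out
  -- the quotient
  have hNle : Cfsg.pResidual p G ≤ N := hNres.ge
  have hq : IsPGroup p (G ⧸ N) := CfsgLib.Transfer.isPGroup_quotient_of_pResidual_le hNle
  obtain ⟨m, hm⟩ := IsPGroup.iff_card.1 hq
  rw [← Subgroup.index_eq_card] at hm
  have hm0 : m ≠ 0 := fun h0 => hnt (Subgroup.index_eq_one.1 (by rw [hm, h0, pow_zero]))
  have hregN : ∀ g : G, ¬ p ∣ orderOf g → g ∈ N := fun g hg => hNle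
    (CfsgLib.Transfer.mem_pResidual_of_coprime ((hp.coprime_iff_not_dvd.2 hg).symm))
  have hPN : (P : Subgroup G) ⊔ N = ⊤ := by
    rw [← Subgroup.index_eq_one]
    refine Nat.eq_one_of_dvd_coprimes ?_ (Subgroup.index_dvd_of_le (le_sup_left (b := N)))
      (Subgroup.index_dvd_of_le le_sup_right)
    rw [hm]
    exact Nat.Coprime.pow_right m ((hp.coprime_iff_not_dvd.2 P.not_dvd_index).symm)
  obtain ⟨q, hqgen⟩ := hcyc.exists_generator
  obtain ⟨g₀, rfl⟩ := QuotientGroup.mk'_surjective N q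
  obtain ⟨x, hxP, hxg⟩ : ∃ x ∈ (P : Subgroup G), QuotientGroup.mk' N x = QuotientGroup.mk' N g₀ := by
    obtain ⟨y, hy, z, hz, hyz⟩ := Subgroup.mem_sup_of_normal_right.1
      (show g₀ ∈ (P : Subgroup G) ⊔ N from hPN.symm ▸ Subgroup.mem_top g₀)
    refine ⟨y, hy, ?_⟩
    rw [← hyz, map_mul, show QuotientGroup.mk' N z = 1 from (QuotientGroup.eq_one_iff z).2 hz,
      mul_one]
  rw [← hxg] at hqgen
  have hgen : ∀ g : G, ∃ i : ℤ, (x ^ i)⁻¹ * g ∈ N := fun g => by
    obtain ⟨i, hi⟩ := Subgroup.mem_zpowers_iff.1 (hqgen (QuotientGroup.mk' N g))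
    exact ⟨i, QuotientGroup.eq.1 (by rw [← map_zpow] at hi; exact hi)⟩
  have hxord : orderOf (QuotientGroup.mk' N x) = p ^ m := by
    rw [orderOf_eq_card_of_forall_mem_zpowers hqgen, ← Subgroup.index_eq_card, hm]
  have hxm : x ^ p ^ m ∈ N := by
    rw [← QuotientGroup.eq_one_iff, ← QuotientGroup.mk'_apply, map_pow, ← hxord, pow_orderOf_eq_one]
  obtain ⟨jx, hjx⟩ : ∃ j, orderOf x = p ^ j := by
    obtain ⟨j, hj⟩ := P.2 ⟨x, hxP⟩
    obtain ⟨i, -, hi⟩ := (Nat.dvd_prime_pow hp).1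
      (orderOf_dvd_of_pow_eq_one (congrArg Subtype.val hj))
    exact ⟨i, hi⟩
  have hxk : x ^ k = x ^ (1 + p) := hk₁ x ⟨jx, hjx⟩
  -- the power map
  have hk : k.Coprime (Nat.card G) := by
    refine Nat.coprime_of_dvd fun l hl hlk hlG => ?_
    have := Fact.mk hl
    obtain ⟨g, hg⟩ := exists_prime_orderOf_dvd_card' (G := G) l hlG
    have h1 : g ^ k = 1 := by
      obtain ⟨c, rfl⟩ := hlk
      rw [pow_mul, ← hg, pow_orderOf_eq_one, one_pow]
    have hg1 : g ≠ 1 := fun h => hl.ne_one (by rw [← hg, h, orderOf_one])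
    by_cases hlp : l = p
    · rw [hk₁ g ⟨1, by rw [hg, hlp, pow_one]⟩, pow_add, pow_one, ← hlp, ← hg, pow_orderOf_eq_one,
        mul_one] at h1
      exact hg1 h1
    · rw [hk₂ g (by rw [hg]; exact (Nat.coprime_primes hl hp).2 hlp)] at h1
      exact hg1 h1
  -- representations
  let det : ∀ {n : ℕ}, Representation ℂ G (Fin n → ℂ) → (G →* ℂˣ) := fun {n} σ =>
    (Units.map LinearMap.det).comp σ.toHomUnits
  have hdet : ∀ {n : ℕ} (σ : Representation ℂ G (Fin n → ℂ)) (g : G),
      (det σ g : ℂ) = LinearMap.det (σ g) := fun _ _ => rfl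
  -- determinants are trivial at the power of `x` inside `N`
  have hDx : ∀ D : G →* ℂˣ, D x ^ p ^ m = 1 := by
    intro D
    set O := Nat.card G / p ^ (Nat.card G).factorization p with hO
    let δ : N →* ℂˣ := (powMonoidHom O).comp (D.comp N.subtype)
    have hrange : IsPGroup p δ.range := by
      intro ⟨y, hy⟩
      obtain ⟨n, rfl⟩ := hy
      refine ⟨(Nat.card G).factorization p, Subtype.ext ?_⟩
      rw [SubgroupClass.coe_pow, OneMemClass.coe_one]
      show (D (n : G) ^ O) ^ p ^ _ = 1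
      rw [← pow_mul, mul_comm, hO, Nat.ordProj_mul_ordCompl_eq_self, ← map_pow, pow_card_eq_one',
        map_one]
    have h1 : Cfsg.pResidual p N ≤ δ.rangeRestrict.ker :=
      CfsgLib.Transfer.pResidual_le_ker _ hrange
    have hNN : Cfsg.pResidual p N = ⊤ := by
      have h2 : ∀ (K : Subgroup G), K = Cfsg.pResidual p G → Cfsg.pResidual p K = ⊤ := by
        rintro K rfl
        exact CfsgLib.Transfer.pResidual_pResidual
      exact h2 N hNres
    rw [hNN, MonoidHom.ker_rangeRestrict] at h1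
    have h2 : D (x ^ p ^ m) ^ O = 1 := h1 (Subgroup.mem_top (⟨_, hxm⟩ : N))
    have h3 : D (x ^ p ^ m) ^ p ^ jx = 1 := by
      rw [← map_pow, ← pow_mul, mul_comm, pow_mul, ← hjx, pow_orderOf_eq_one, one_pow, map_one]
    have h4 : O.Coprime (p ^ jx) := Nat.Coprime.pow_right _
      ((hp.coprime_iff_not_dvd.2 (Nat.not_dvd_ordCompl hp Nat.card_pos.ne')).symm)
    have h5 := pow_gcd_eq_one.2 ⟨h2, h3⟩
    rw [h4.gcd_eq_one, pow_one] at h5
    rwa [← map_pow]
  have hlift : ∀ c : ℂˣ, c ^ p ^ m = 1 →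
      ∃ lam : G →* ℂˣ, (∀ n : N, lam n = 1) ∧ lam x = c := by
    intro c hc
    have hd : orderOf c ∣ orderOf (QuotientGroup.mk' N x) := by
      rw [hxord]; exact orderOf_dvd_of_pow_eq_one hc
    refine ⟨(monoidHomOfForallMemZpowers hqgen hd).comp (QuotientGroup.mk' N), fun n => ?_,
      monoidHomOfForallMemZpowers_apply_gen hqgen hd⟩
    rw [MonoidHom.comp_apply,
      show QuotientGroup.mk' N (n : G) = 1 from (QuotientGroup.eq_one_iff (n : G)).2 n.2, map_one]
  -- a twist of an extension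
  have htwist : ∀ {n : ℕ} (σ : Representation ℂ G (Fin n → ℂ)) (lam : G →* ℂˣ),
      ∃ τ : Representation ℂ G (Fin n → ℂ), (∀ g, τ g = (lam g : ℂ) • σ g) ∧
        ∀ g, τ.character g = (lam g : ℂ) * σ.character g := by
    intro n σ lam
    refine ⟨{ toFun := fun g => (lam g : ℂ) • σ g
              map_one' := by simp
              map_mul' := fun a b => by
                rw [map_mul, map_mul, Units.val_mul, smul_mul_smul_comm] }, fun g => rfl, fun g => ?_⟩
    show LinearMap.trace ℂ _ ((lam g : ℂ) • σ g) = _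
    rw [map_smul, smul_eq_mul]
    rfl
  have hab : ∀ a b : G, a * b * a⁻¹ * b⁻¹ ∈ N := fun a b => by
    rw [← QuotientGroup.eq_one_iff, ← QuotientGroup.mk'_apply, map_mul, map_mul, map_mul, map_inv,
      map_inv]
    obtain ⟨i, hi⟩ := Subgroup.mem_zpowers_iff.1 (hqgen (QuotientGroup.mk' N a))
    obtain ⟨j, hj⟩ := Subgroup.mem_zpowers_iff.1 (hqgen (QuotientGroup.mk' N b))
    rw [← hi, ← hj]
    group
  -- the fixed extensions of an invariant member
  have hinvG : ∀ θ : Cfsg.IrrCharacter ↥N,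
      (∀ y ∈ (P : Subgroup G), ∀ n : ↥N, (θ : ↥N → ℂ) ⟨y * n * y⁻¹, hN.conj_mem n n.2 y⟩ =
        (θ : ↥N → ℂ) n) → ∀ (g : G) (n : ↥N), (θ : ↥N → ℂ) (CfsgLib.Clifford.conjN g n) =
          (θ : ↥N → ℂ) n := by
    intro θ hθ g n
    obtain ⟨y, hy, z, hz, rfl⟩ := Subgroup.mem_sup_of_normal_right.1
      (show g ∈ (P : Subgroup G) ⊔ N from hPN.symm ▸ Subgroup.mem_top g)
    have e : CfsgLib.Clifford.conjN (y * z) n = (⟨y * ((⟨z, hz⟩ * n * ⟨z, hz⟩⁻¹ : ↥N) : G) * y⁻¹,
        hN.conj_mem _ (⟨z, hz⟩ * n * ⟨z, hz⟩⁻¹ : ↥N).2 y⟩ : ↥N) := Subtype.ext (by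
      simp [mul_assoc])
    rw [e, hθ y hy]
    exact CfsgLib.Char.irr_isClassFunction θ.2 n ⟨z, hz⟩
  set R := {θ : Cfsg.IrrCharacter ↥N // θ ∈ Cfsg.principalBlock M ↥N ∧
    ¬ p ∣ Cfsg.charDegree (θ : ↥N → ℂ) ∧
    (∀ y ∈ (P : Subgroup G), ∀ n : ↥N, (θ : ↥N → ℂ) ⟨y * n * y⁻¹, hN.conj_mem n n.2 y⟩ =
      (θ : ↥N → ℂ) n) ∧ ∀ n : ↥N, (θ : ↥N → ℂ) (n ^ k) = (θ : ↥N → ℂ) n} with hR
  have hext : ∀ θ : R, ∃ (n : ℕ) (σ : Representation ℂ G (Fin n → ℂ)), ¬ p ∣ n ∧
      (∀ z : ↥N, σ.character z = ((θ.1 : Cfsg.IrrCharacter ↥N) : ↥N → ℂ) z) ∧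
      ∀ g, σ.character (g ^ k) = σ.character g := by
    rintro ⟨θ, -, hdeg, hPinv, hfix⟩
    have hinv := hinvG θ hPinv
    have hθ1 : (Cfsg.charDegree (θ : ↥N → ℂ) : ℂ) = (θ : ↥N → ℂ) 1 :=
      CfsgLib.Block.charDegree_cast (CfsgLib.Char.irr_isCharacter θ.2)
    obtain ⟨n, ρ, hρ, hρc⟩ := θ.2
    rw [← hρc, Representation.char_one, Module.finrank_fin_fun, Nat.cast_inj] at hθ1
    rw [← hρc, hθ1] at hdeg
    have hinvρ : ∀ (g : G) (z : ↥N), ρ.character (CfsgLib.Clifford.conjN g z) = ρ.character z :=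
      fun g z => by rw [hρc]; exact hinv g z
    have : IsCyclic (G ⧸ N) := hcyc
    obtain ⟨σ, hσ⟩ := CfsgLib.Clifford.exists_extension_of_one_mem ρ
      (CfsgLib.Clifford.proj_surjective ρ hinvρ)
      (CfsgLib.Clifford.one_mem_splitExps_of_isCyclic ρ (CfsgLib.Clifford.proj_surjective ρ hinvρ))
    have hres : ∀ z : ↥N, σ.character z = (θ : ↥N → ℂ) z := fun z => by
      rw [← hρc]
      show LinearMap.trace ℂ _ (σ z) = _
      rw [hσ]; rfl
    have hσi : Cfsg.IsIrrCharacter G σ.character :=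
      CfsgLib.Clifford.isIrrCharacter_of_restrict ⟨n, σ, rfl⟩ (by
        rw [show (fun z : ↥N => σ.character z) = (θ : ↥N → ℂ) from funext hres]; exact θ.2)
    have hσk : Cfsg.IsIrrCharacter G (fun g => σ.character (g ^ k)) :=
      CfsgLib.BlockA.isIrrCharacter_comp_pow hk hσi
    have hne : ∀ f : G → ℂ, (∀ z : ↥N, f z = (θ : ↥N → ℂ) z) →
        Cfsg.classInner (fun z : ↥N => f z) (θ : ↥N → ℂ) ≠ 0 := fun f hf => by
      rw [funext hf, CfsgLib.Char.irr_classInner_self θ.2]; exact one_ne_zero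
    obtain ⟨μ, hμN, hμ⟩ := CfsgLib.Clifford.exists_twist_of_abelian_quot hab θ.2
      (fun g => funext fun z => hinv _ z) hσi hσk (hne _ hres) (hne (fun g => σ.character (g ^ k)) fun z => by
        show σ.character ((z : G) ^ k) = _
        rw [← SubgroupClass.coe_pow, hres, hfix])
    have hdk : ∀ g, det σ g ^ k = μ g ^ n * det σ g := fun g => Units.ext (by
      push_cast [hdet]
      refine CfsgLib.BlockB.GaloisValues.det_pow_of_galois σ g k (μ g : ℂ) fun j => ?_
      rw [← Units.val_pow_eq_pow_val, ← map_pow]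
      exact congr_fun hμ (g ^ j))
    have h1 : det σ x ^ p = μ x ^ n := by
      have h2 := hdk x
      rw [← map_pow, hxk, map_pow, pow_add, pow_one, mul_comm] at h2
      exact mul_right_cancel h2
    have hμm : μ x ^ p ^ m = 1 := by rw [← map_pow]; exact hμN ⟨_, hxm⟩
    obtain ⟨a, ha⟩ := Nat.exists_mul_mod_eq_one_of_coprime
      ((Nat.Coprime.pow_right m ((hp.coprime_iff_not_dvd.2 hdeg).symm)))
      (Nat.one_lt_pow hm0 hp.one_lt)
    have hμx : μ x = (det σ x ^ a) ^ p := by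
      rw [← pow_mul, mul_comm, pow_mul, h1, ← pow_mul, ← Nat.mod_add_div (n * a) (p ^ m), ha.2,
        pow_add, pow_one, pow_mul, hμm, one_pow, mul_one]
    obtain ⟨lam, hlN, hlx⟩ := hlift ((det σ x ^ a)⁻¹) (by
      rw [inv_pow, ← pow_mul, mul_comm, pow_mul, hDx, one_pow, inv_one])
    obtain ⟨τ, -, hτ⟩ := htwist σ lam
    refine ⟨n, τ, hdeg, fun z => by rw [hτ, hlN, Units.val_one, one_mul]; exact hres z, fun g => ?_⟩
    have e : μ * lam ^ k = lam := hom_ext_gen hgen
      (fun z => by rw [MonoidHom.mul_apply, MonoidHom.pow_apply, hμN, hlN, one_pow, one_mul]) hlN (by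
        rw [MonoidHom.mul_apply, MonoidHom.pow_apply, ← map_pow, hxk, map_pow, hlx, pow_add, pow_one,
          mul_left_comm, hμx, inv_pow, mul_inv_cancel, mul_one])
    rw [hτ, hτ, map_pow, show σ.character (g ^ k) = (μ g : ℂ) * σ.character g from congr_fun hμ g,
      Units.val_pow_eq_pow_val]
    conv_rhs => rw [← e, MonoidHom.mul_apply, MonoidHom.pow_apply, Units.val_mul,
      Units.val_pow_eq_pow_val]
    ring
  choose deg σ hdegn hres hσfix using hext
  have hirr : ∀ θ : R, Cfsg.IsIrrCharacter G (σ θ).character := fun θ =>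
    CfsgLib.Clifford.isIrrCharacter_of_restrict ⟨_, σ θ, rfl⟩ (by
      rw [show (fun z : ↥N => (σ θ).character z) = ((θ.1 : Cfsg.IrrCharacter ↥N) : ↥N → ℂ) from
        funext (hres θ)]
      exact θ.1.2)
  have hroots : ∀ c : rootsOfUnity p ℂ, ∃ lam : G →* ℂˣ, (∀ n : N, lam n = 1) ∧ lam x = c := by
    intro c
    refine hlift c ?_
    obtain ⟨m', rfl⟩ : ∃ m', m = m' + 1 := ⟨m - 1, by omega⟩
    rw [pow_succ', pow_mul, (mem_rootsOfUnity p _).1 c.2, one_pow]
  choose lam hlamN hlamx using hroots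
  choose tw htw htwc using fun (θ : R) (c : rootsOfUnity p ℂ) => htwist (σ θ) (lam c)
  have htwN : ∀ θ c (z : ↥N), (tw θ c).character z = ((θ.1 : Cfsg.IrrCharacter ↥N) : ↥N → ℂ) z :=
    fun θ c z => by rw [htwc, hlamN, Units.val_one, one_mul]; exact hres θ z
  have htwirr : ∀ θ c, Cfsg.IsIrrCharacter G (tw θ c).character := fun θ c =>
    CfsgLib.Clifford.isIrrCharacter_of_restrict ⟨_, tw θ c, rfl⟩ (by
      rw [show (fun z : ↥N => (tw θ c).character z) = ((θ.1 : Cfsg.IrrCharacter ↥N) : ↥N → ℂ) from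
        funext (htwN θ c)]
      exact θ.1.2)
  have hmem : ∀ θ c, (⟨_, htwirr θ c⟩ : Cfsg.IrrCharacter G) ∈ Cfsg.principalBlock M G ∧
      ¬ p ∣ Cfsg.charDegree (tw θ c).character ∧
      ∀ g : G, (tw θ c).character (g ^ k) = (tw θ c).character g := by
    intro θ c
    refine ⟨?_, ?_, fun g => ?_⟩
    · rw [CfsgLib.BlockB.mem_principalBlock_iff_regTotal hM]
      show CfsgLib.BlockB.regTotal p (tw θ c).character ≠ 0
      rw [regTotal_restrict hregN, funext (htwN θ c)]
      exact (CfsgLib.BlockB.mem_principalBlock_iff_regTotal hM θ.1).1 θ.2.1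
    · have h := CfsgLib.Block.charDegree_cast (CfsgLib.Char.irr_isCharacter (htwirr θ c))
      rw [Representation.char_one, Module.finrank_fin_fun, Nat.cast_inj] at h
      rw [h]
      exact hdegn θ
    · have e : lam c ^ k = lam c := hom_ext_gen hgen
        (fun z => by rw [MonoidHom.pow_apply, hlamN, one_pow]) (hlamN c) (by
          rw [MonoidHom.pow_apply, ← map_pow, hxk, map_pow, pow_add, pow_one, hlamx,
            (mem_rootsOfUnity p _).1 c.2, mul_one])
      rw [htwc, htwc, hσfix, map_pow, ← MonoidHom.pow_apply, e]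
  let F : R × rootsOfUnity p ℂ → {χ : Cfsg.IrrCharacter G // χ ∈ Cfsg.principalBlock M G ∧
      ¬ p ∣ Cfsg.charDegree (χ : G → ℂ) ∧ ∀ g : G, (χ : G → ℂ) (g ^ k) = (χ : G → ℂ) g} :=
    fun a => ⟨⟨_, htwirr a.1 a.2⟩, hmem a.1 a.2⟩
  have hbij : Function.Bijective F := by
    constructor
    · rintro ⟨θ, c⟩ ⟨θ', c'⟩ h
      have h1 : (tw θ c).character = (tw θ' c').character :=
        congrArg (fun χ => ((χ.1 : Cfsg.IrrCharacter G) : G → ℂ)) h
      obtain rfl : θ = θ' := Subtype.ext (Subtype.ext (funext fun z => by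
        rw [← htwN θ c, ← htwN θ' c', h1]))
      refine Prod.ext rfl (Subtype.ext ?_)
      have hi : ∀ c, (tw θ c).IsIrreducible := fun c => by
        refine CfsgLib.Clifford.isIrreducible_of_classInner_self _ ?_
        exact CfsgLib.Char.irr_classInner_self (htwirr θ c)
      have := hi c
      have := hi c'
      have h2 : LinearMap.det (tw θ c x) = LinearMap.det (tw θ c' x) := by
        rw [← congr_fun (CfsgLib.Clifford.detChar_eq (tw θ c)) x,
          ← congr_fun (CfsgLib.Clifford.detChar_eq (tw θ c')) x, h1]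
      rw [htw, htw, LinearMap.det_smul, LinearMap.det_smul, Module.finrank_fin_fun, hlamx, hlamx,
        ← hdet] at h2
      have h3 : ((c : ℂˣ) / (c' : ℂˣ)) ^ deg θ = 1 := by
        rw [div_pow, div_eq_one]
        exact Units.ext (by push_cast; exact mul_right_cancel₀ (Units.ne_zero _) h2)
      have h4 : ((c : ℂˣ) / (c' : ℂˣ)) ^ p = 1 := by
        rw [div_pow, (mem_rootsOfUnity p _).1 c.2, (mem_rootsOfUnity p _).1 c'.2, div_one]
      have h5 := pow_gcd_eq_one.2 ⟨h3, h4⟩
      rw [((hp.coprime_iff_not_dvd.2 (hdegn θ)).symm).gcd_eq_one, pow_one, div_eq_one] at h5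
      exact h5
    · rintro ⟨χ, hχB, hχdeg, hχfix⟩
      obtain ⟨f₀, hf₀, hθ₀⟩ := CfsgLib.Char.exists_constituent
        (CfsgLib.Char.isCharacter_restrict (CfsgLib.Char.irr_isCharacter χ.2) N)
        (CfsgLib.Char.irr_apply_one_ne_zero χ.2)
      let θ₀ : Cfsg.IrrCharacter ↥N := ⟨f₀, hf₀⟩
      obtain ⟨e, he, hed⟩ := CfsgLib.Clifford.degree_quot_dvd_index χ.2 θ₀.2 hθ₀
      have he1 : e = 1 := by
        rw [← CfsgLib.Block.charDegree_cast (CfsgLib.Char.irr_isCharacter χ.2),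
          ← CfsgLib.Block.charDegree_cast (CfsgLib.Char.irr_isCharacter θ₀.2), ← Nat.cast_mul,
          Nat.cast_inj] at he
        rw [hm] at hed
        obtain ⟨i, -, rfl⟩ := (Nat.dvd_prime_pow hp).1 hed
        rcases i with _ | i
        · rfl
        · exact absurd (he ▸ Dvd.dvd.mul_right (dvd_pow_self p i.succ_ne_zero) _) hχdeg
      rw [he1, Nat.cast_one, one_mul] at he
      have hχN : ∀ z : ↥N, (χ : G → ℂ) z = (θ₀ : ↥N → ℂ) z := by
        intro z
        have hd := CfsgLib.Char.isCharacter_sub_of_constituent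
          (CfsgLib.Char.isCharacter_restrict (CfsgLib.Char.irr_isCharacter χ.2) N) hf₀ hθ₀
        obtain ⟨d, ρd, hρd⟩ := hd
        have h0 : (d : ℂ) = 0 := by
          have := congr_fun hρd 1
          rw [Representation.char_one, Module.finrank_fin_fun] at this
          rw [this]
          show (χ : G → ℂ) ((1 : ↥N) : G) - f₀ 1 = 0
          rw [OneMemClass.coe_one, he]
          exact sub_self _
        obtain rfl : d = 0 := by exact_mod_cast h0
        have h2 := congr_fun hρd z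
        rw [show ρd.character z = 0 from by
          show LinearMap.trace ℂ _ (ρd z) = 0
          rw [Subsingleton.elim (ρd z) 0, map_zero]] at h2
        exact sub_eq_zero.1 h2.symm
      let θ : R := ⟨θ₀, by
        rw [CfsgLib.BlockB.mem_principalBlock_iff_regTotal hM, ← funext hχN,
          ← regTotal_restrict hregN]
        exact (CfsgLib.BlockB.mem_principalBlock_iff_regTotal hM χ).1 hχB, by
        rw [← CfsgLib.Block.charDegree_cast (CfsgLib.Char.irr_isCharacter χ.2),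
          ← CfsgLib.Block.charDegree_cast (CfsgLib.Char.irr_isCharacter θ₀.2), Nat.cast_inj] at he
        rwa [← he], fun y _ z => by
        rw [← hχN, ← hχN]
        exact CfsgLib.Char.irr_isClassFunction χ.2 (z : G) y, fun z => by
        rw [← hχN, ← hχN, SubgroupClass.coe_pow]
        exact hχfix z⟩
      obtain ⟨ν, hνN, hν⟩ := CfsgLib.Clifford.exists_twist_of_abelian_quot hab θ₀.2
        (fun g => funext fun z => hinvG θ₀ θ.2.2.2.1 _ z) (hirr θ) χ.2
        (by rw [funext (hres θ), CfsgLib.Char.irr_classInner_self θ₀.2]; exact one_ne_zero)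
        (by rw [funext hχN, CfsgLib.Char.irr_classInner_self θ₀.2]; exact one_ne_zero)
      have hνx : ν x ^ p = 1 := by
        obtain ⟨τ, hτ, hτc⟩ := htwist (σ θ) ν
        have hτχ : τ.character = (χ : G → ℂ) := funext fun g => (hτc g).trans (congr_fun hν g).symm
        have h1 := CfsgLib.BlockB.GaloisValues.det_pow_of_galois τ x k 1 fun j => by
          rw [one_pow, one_mul, hτχ]; exact hχfix _
        have h1' := CfsgLib.BlockB.GaloisValues.det_pow_of_galois (σ θ) x k 1 fun j => by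
          rw [one_pow, one_mul]; exact hσfix θ _
        rw [one_pow, one_mul, hτ, LinearMap.det_smul, Module.finrank_fin_fun, mul_pow, h1',
          ← Units.val_pow_eq_pow_val, ← Units.val_pow_eq_pow_val, ← hdet, one_pow, one_mul] at h1
        have h2 : (ν x ^ deg θ) ^ k = ν x ^ deg θ :=
          Units.ext (mul_right_cancel₀ (Units.ne_zero _) h1)
        rw [← map_pow, ← map_pow, ← pow_mul, mul_comm, pow_mul, hxk, map_pow, map_pow, pow_add,
          pow_one, map_pow, mul_pow, mul_eq_left] at h2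
        have h3 : (ν x ^ p) ^ p ^ m = 1 := by
          rw [← pow_mul, mul_comm, pow_mul, ← map_pow, hνN ⟨_, hxm⟩, one_pow]
        have h5 := pow_gcd_eq_one.2 ⟨h2, h3⟩
        rw [(Nat.Coprime.pow_right m ((hp.coprime_iff_not_dvd.2 (hdegn θ)).symm)).gcd_eq_one,
            pow_one] at h5
        exact h5
      refine ⟨(θ, ⟨ν x, (mem_rootsOfUnity p _).2 hνx⟩), Subtype.ext (Subtype.ext ?_)⟩
      show (tw θ ⟨ν x, _⟩).character = (χ : G → ℂ)
      funext g
      rw [htwc, hom_ext_gen hgen (hlamN _) hνN (hlamx ⟨ν x, (mem_rootsOfUnity p _).2 hνx⟩)]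
      exact (congr_fun hν g).symm
  have : NeZero p := ⟨hp.ne_zero⟩
  rw [← Nat.card_eq_of_bijective F hbij, Nat.card_prod, mul_comm,
    Complex.card_rootsOfUnity]

end Cfsg.Agent.S4553
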