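import Cfsg.Statements.S4560
import Cfsg.Agent.Lib.BlockA.AltVanishing
import Mathlib.GroupTheory.SpecificGroups.Alternating
import Mathlib.GroupTheory.Perm.Cycle.PossibleTypes

set_option autoImplicit false
open Cfsg

namespace Cfsg.Agent.S4560

open Equiv CfsgLib.BlockA.AltVanishing in
theorem exists_elem {n : ℕ} (M : Multiset ℕ) (h2 : ∀ a ∈ M, 2 ≤ a) (hs : M.sum ≤ n)
    (he : Even (M.sum + Multiset.card M)) :
    ∃ x : alternatingGroup (Fin n), fixN (x : Perm (Fin n)) = n - M.sum ∧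
      (2 ∉ M → swapN (x : Perm (Fin n)) = 0) ∧ orderOf x = M.lcm := by
  classical
  obtain ⟨g, hg⟩ := (Equiv.Perm.exists_with_cycleType_iff (Fin n) (m := M)).2
    ⟨by rwa [Fintype.card_fin], h2⟩
  refine ⟨⟨g, ?_⟩, ?_, fun h => ?_, ?_⟩
  · rw [Equiv.Perm.mem_alternatingGroup, Equiv.Perm.sign_of_cycleType, hg, he.neg_one_pow]
  · show fixN g = n - M.sum
    rw [fixN, ← hg, Equiv.Perm.sum_cycleType, Fintype.card_subtype]
    rw [show n - g.support.card = Fintype.card (Fin n) - g.support.card by rw [Fintype.card_fin],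
      ← Finset.card_compl]
    congr 1
    ext i
    simp
  · rw [swapN, Fintype.card_eq_zero_iff]
    refine ⟨fun P => h ?_⟩
    obtain ⟨⟨a, b⟩, hab, ha, hb⟩ := P
    dsimp only at hab ha hb
    have hne : g a ≠ a := by rw [ha]; exact Ne.symm hab
    have hc := g.isCycle_cycleOf hne
    have hp : g.cycleOf a ^ 2 = 1 := by
      refine hc.pow_eq_one_iff.2 ⟨a, ?_, ?_⟩
      · rw [Equiv.Perm.cycleOf_apply_self]; exact hne
      · rw [Equiv.Perm.cycleOf_pow_apply_self, pow_two, Equiv.Perm.mul_apply, ha, hb]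
    have ho : (g.cycleOf a).support.card = 2 := by
      rw [← hc.orderOf]
      rcases (Nat.dvd_prime Nat.prime_two).1 (orderOf_dvd_of_pow_eq_one hp) with h1 | h1
      · exact absurd (orderOf_eq_one_iff.1 h1) hc.ne_one
      · exact h1
    rw [← hg, Equiv.Perm.cycleType_def, Multiset.mem_map]
    exact ⟨g.cycleOf a, Finset.mem_def.1 <| Equiv.Perm.cycleOf_mem_cycleFactorsFinset_iff.2
      (Equiv.Perm.mem_support.2 hne), ho⟩
  · rw [← Subgroup.orderOf_coe, ← Equiv.Perm.lcm_cycleType, hg]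

open Equiv CfsgLib.BlockA.AltVanishing in
theorem pick {n : ℕ} (hn : 7 ≤ n) (χ : Perm (Fin n) → ℂ)
    (hχ : χ = std ∨ χ = chi22 ∨ χ = chi211) (y : alternatingGroup (Fin n))
    (h0 : χ (y : Perm (Fin n)) = 0) (Q : alternatingGroup (Fin n) → Prop) (hQ : Q y) :
    ∃ φ : Cfsg.IrrCharacter (alternatingGroup (Fin n)),
      (∃ x, Q x ∧ (φ : alternatingGroup (Fin n) → ℂ) x = 0) ∧
      ∃ ψ : Cfsg.IrrCharacter (Perm (Fin n)), ∀ x : alternatingGroup (Fin n),
        (ψ : Perm (Fin n) → ℂ) x = (φ : alternatingGroup (Fin n) → ℂ) x := by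
  classical
  have hS : ∀ j ≤ 4, ∀ x y : Fin j ↪ Fin n, ∃ g : Perm (Fin n),
      ∀ i, (MonoidHom.id (Perm (Fin n))) g (x i) = y i := fun j _ x y => by
    obtain ⟨g, hg⟩ := MulAction.isMultiplyPretransitive_iff.1
      (Equiv.Perm.isMultiplyPretransitive (Fin n) j) x y
    exact ⟨g, fun i => by rw [← hg]; rfl⟩
  have hA : ∀ j ≤ 4, ∀ x y : Fin j ↪ Fin n, ∃ g : alternatingGroup (Fin n),
      ∀ i, (alternatingGroup (Fin n)).subtype g (x i) = y i := fun j hj x y => by
    have := alternatingGroup.isMultiplyPretransitive (Fin n)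
    have h := MulAction.isMultiplyPretransitive_of_le (G := alternatingGroup (Fin n)) (α := Fin n)
      (m := j) (n := Nat.card (Fin n) - 2) (by rw [Nat.card_fin]; omega) (Nat.sub_le _ _)
    obtain ⟨g, hg⟩ := MulAction.isMultiplyPretransitive_iff.1 h x y
    exact ⟨g, fun i => by rw [← hg]; rfl⟩
  have hP : Cfsg.IsIrrCharacter (alternatingGroup (Fin n))
      (fun g => χ ((alternatingGroup (Fin n)).subtype g)) ∧
      Cfsg.IsIrrCharacter (Perm (Fin n)) (fun g => χ (MonoidHom.id _ g)) := by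
    rcases hχ with rfl | rfl | rfl
    · exact ⟨isIrr_std _ hA (by omega), isIrr_std _ hS (by omega)⟩
    · exact ⟨isIrr_chi22 _ hA (by omega), isIrr_chi22 _ hS (by omega)⟩
    · exact ⟨isIrr_chi211 _ hA (by omega), isIrr_chi211 _ hS (by omega)⟩
  exact ⟨⟨_, hP.1⟩, ⟨y, hQ, h0⟩, ⟨_, hP.2⟩, fun x => rfl⟩

open Equiv CfsgLib.BlockA.AltVanishing in
theorem two_case {n : ℕ} (hn : 7 ≤ n) : ∃ (χ : Perm (Fin n) → ℂ) (y : alternatingGroup (Fin n)),
    (χ = std ∨ χ = chi22 ∨ χ = chi211) ∧ χ (y : Perm (Fin n)) = 0 ∧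
      ∃ j : ℕ, orderOf y = 2 ^ j := by
  have key : ∀ (M : Multiset ℕ), (∀ a ∈ M, a = 2 ∨ a = 4 ∨ a = 8) → M.sum ≤ n →
      Even (M.sum + Multiset.card M) → ∃ x : alternatingGroup (Fin n),
      fixN (x : Perm (Fin n)) = n - M.sum ∧ (2 ∉ M → swapN (x : Perm (Fin n)) = 0) ∧
      ∃ j : ℕ, orderOf x = 2 ^ j := fun M hM hs he => by
    obtain ⟨x, h1, h2, h3⟩ := exists_elem M (fun a ha => by rcases hM a ha with h | h | h <;> omega) hs he
    refine ⟨x, h1, h2, ?_⟩
    obtain ⟨j, -, hj⟩ := (Nat.dvd_prime_pow Nat.prime_two).1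
      (h3 ▸ Multiset.lcm_dvd.2 (fun a ha => by rcases hM a ha with rfl | rfl | rfl <;> norm_num :
        ∀ a ∈ M, a ∣ 2 ^ 3))
    exact ⟨j, hj⟩
  have four : ∀ q f : ℕ, 2 ≤ q → n = 4 * q + f → ∃ x : alternatingGroup (Fin n),
      fixN (x : Perm (Fin n)) = f ∧ swapN (x : Perm (Fin n)) = 0 ∧
      ∃ j : ℕ, orderOf x = 2 ^ j := fun q f hq hnq => by
    rcases Nat.even_or_odd q with hev | hod
    · obtain ⟨x, h1, h2, h3⟩ := key (Multiset.replicate q 4)
        (fun a ha => Or.inr (Or.inl (Multiset.eq_of_mem_replicate ha)))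
        (by simp; omega) (by simp [Nat.even_add, hev])
      exact ⟨x, by rw [h1]; simp; omega, h2 (by simp [Multiset.mem_replicate]), h3⟩
    · obtain ⟨t, ht⟩ := hod
      obtain ⟨x, h1, h2, h3⟩ := key (8 ::ₘ Multiset.replicate (q - 2) 4) (fun a ha => by
          rcases Multiset.mem_cons.1 ha with h | h
          · exact Or.inr (Or.inr h)
          · exact Or.inr (Or.inl (Multiset.eq_of_mem_replicate h)))
        (by simp; omega) (by
          simp only [Multiset.sum_cons, Multiset.sum_replicate, Multiset.card_cons,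
            Multiset.card_replicate, smul_eq_mul, Nat.even_iff]
          omega)
      exact ⟨x, by rw [h1]; simp; omega, h2 (by simp [Multiset.mem_replicate]), h3⟩
  rcases (by omega : n % 4 = 0 ∨ n % 4 = 1 ∨ n % 4 = 2 ∨ n % 4 = 3) with h | h | h | h
  · obtain ⟨x, h1, h2, h3⟩ := four (n / 4) 0 (by omega) (by omega)
    exact ⟨chi22, x, Or.inr (Or.inl rfl), by simp [chi22, h1, h2], h3⟩
  · obtain ⟨x, h1, -, h3⟩ := key (Multiset.replicate ((n - 1) / 2) 2)
      (fun a ha => Or.inl (Multiset.eq_of_mem_replicate ha)) (by simp; omega) (by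
        simp only [Multiset.sum_replicate, Multiset.card_replicate, smul_eq_mul, Nat.even_iff]
        omega)
    exact ⟨std, x, Or.inl rfl, by
      have : fixN (x : Perm (Fin n)) = 1 := by rw [h1]; simp; omega
      simp [std, this], h3⟩
  · obtain ⟨x, h1, h2, h3⟩ := four (n / 4) 2 (by omega) (by omega)
    exact ⟨chi211, x, Or.inr (Or.inr rfl), by norm_num [chi211, h1, h2], h3⟩
  · obtain ⟨x, h1, -, h3⟩ := key (4 ::ₘ Multiset.replicate ((n - 5) / 2) 2) (fun a ha => by
        rcases Multiset.mem_cons.1 ha with h' | h'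
        · exact Or.inr (Or.inl h')
        · exact Or.inl (Multiset.eq_of_mem_replicate h')) (by simp; omega) (by
        simp only [Multiset.sum_cons, Multiset.sum_replicate, Multiset.card_cons,
          Multiset.card_replicate, smul_eq_mul, Nat.even_iff]
        omega)
    exact ⟨std, x, Or.inl rfl, by
      have : fixN (x : Perm (Fin n)) = 1 := by rw [h1]; simp; omega
      simp [std, this], h3⟩

open Equiv CfsgLib.BlockA.AltVanishing in
theorem three_case {n : ℕ} (hn : 7 ≤ n) : ∃ (χ : Perm (Fin n) → ℂ) (y : alternatingGroup (Fin n)),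
    (χ = std ∨ χ = chi22 ∨ χ = chi211) ∧ χ (y : Perm (Fin n)) = 0 ∧ orderOf y = 3 := by
  obtain ⟨x, h1, h2, h3⟩ := exists_elem (n := n) (Multiset.replicate (n / 3) 3)
    (fun a ha => by rw [Multiset.eq_of_mem_replicate ha]; norm_num) (by simp; omega) (by
      simp only [Multiset.sum_replicate, Multiset.card_replicate, smul_eq_mul, Nat.even_iff]
      omega)
  have hf : fixN (x : Perm (Fin n)) = n % 3 := by rw [h1]; simp; omega
  have hD := h2 (by simp [Multiset.mem_replicate])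
  have ho : orderOf x = 3 := by
    rw [h3]
    refine Nat.dvd_antisymm (Multiset.lcm_dvd.2 fun a ha => by
      rw [Multiset.eq_of_mem_replicate ha]) (Multiset.dvd_lcm ?_)
    exact Multiset.mem_replicate.2 ⟨by omega, rfl⟩
  rcases (by omega : n % 3 = 0 ∨ n % 3 = 1 ∨ n % 3 = 2) with h | h | h
  · exact ⟨chi22, x, Or.inr (Or.inl rfl), by simp [chi22, hf, hD, h], ho⟩
  · exact ⟨std, x, Or.inl rfl, by simp [std, hf, h], ho⟩
  · exact ⟨chi211, x, Or.inr (Or.inr rfl), by norm_num [chi211, hf, hD, h], ho⟩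

/-- For n ≥ 7 the alternating group on n letters has an irreducible character that vanishes at some 2-element and is the restriction of an irreducible character of the symmetric group, and an irreducible character that vanishes at some element of order 3 and is the restriction of an irreducible character of the symmetric group. -/
theorem result (n : ℕ) (hn : 7 ≤ n) : (∃ χ : Cfsg.IrrCharacter (alternatingGroup (Fin n)), (∃ x : alternatingGroup (Fin n), (∃ j : ℕ, orderOf x = 2 ^ j) ∧ (χ : alternatingGroup (Fin n) → ℂ) x = 0) ∧ ∃ ψ : Cfsg.IrrCharacter (Equiv.Perm (Fin n)), ∀ x : alternatingGroup (Fin n), (ψ : Equiv.Perm (Fin n) → ℂ) x = (χ : alternatingGroup (Fin n) → ℂ) x) ∧ (∃ χ : Cfsg.IrrCharacter (alternatingGroup (Fin n)), (∃ y : alternatingGroup (Fin n), orderOf y = 3 ∧ (χ : alternatingGroup (Fin n) → ℂ) y = 0) ∧ ∃ ψ : Cfsg.IrrCharacter (Equiv.Perm (Fin n)), ∀ x : alternatingGroup (Fin n), (ψ : Equiv.Perm (Fin n) → ℂ) x = (χ : alternatingGroup (Fin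 n) → ℂ) x) := by
  obtain ⟨χ, y, hχ, h0, hy⟩ := two_case hn
  obtain ⟨χ', y', hχ', h0', hy'⟩ := three_case hn
  exact ⟨pick hn χ hχ y h0 (fun x => ∃ j : ℕ, orderOf x = 2 ^ j) hy,
    pick hn χ' hχ' y' h0' (fun x => orderOf x = 3) hy'⟩

end Cfsg.Agent.S4560
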