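import Cfsg.Statements.S4564
import Cfsg.Agent.Lib.Clifford.RamifiedSylow

set_option autoImplicit false
open Cfsg

namespace Cfsg.Agent.S4564

/-- Let χ be an irreducible character of the finite group H that is fully ramified over the normal subgroup Z: the restriction of χ to Z is e times an irreducible character of Z with e ^ 2 equal to the index of Z. Let K be a normal subgroup of H containing Z and P a cyclic Sylow p-subgroup of H/K. Then P has a complement in H/K: a subgroup meeting P trivially whose product with P is the whole group. -/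
theorem result {H : Type*} [Group H] [Finite H] (Z : Subgroup H) [Z.Normal] (χ : Cfsg.IrrCharacter H) (hfr : ∃ (θ : Cfsg.IrrCharacter ↥Z) (e : ℕ), e ^ 2 = Z.index ∧ ∀ z : ↥Z, (χ : H → ℂ) z = (e : ℂ) * (θ : ↥Z → ℂ) z) (K : Subgroup H) [K.Normal] (hZK : Z ≤ K) (p : ℕ) [Fact p.Prime] (P : Sylow p (H ⧸ K)) (hcyc : IsCyclic P) : ∃ M : Subgroup (H ⧸ K), M.IsComplement' (P : Subgroup (H ⧸ K)) := by
  have := Fintype.ofFinite H
  have := Fintype.ofFinite Z
  obtain ⟨θ, e, he, hres⟩ := hfr
  have hall : ∀ R : Sylow p (H ⧸ K), IsCyclic R := fun R =>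
    (Sylow.equiv P R).isCyclic.mp hcyc
  obtain ⟨M, hM⟩ :=
    CfsgLib.Clifford.RamifiedSylow.exists_index_eq_of_cyclic Z χ.2 θ.2 he hres K hZK hall
  have hPc : Nat.card P = p ^ K.index.factorization p := by
    rw [P.card_eq_multiplicity, Subgroup.index_eq_card]
  refine ⟨M, Subgroup.isComplement'_of_coprime ?_ ?_⟩
  · rw [hPc, ← hM, M.card_mul_index]
  · rw [hPc]
    refine Nat.Coprime.pow_right _ ((((Fact.out : p.Prime).coprime_iff_not_dvd).mpr fun h => ?_).symm)
    have h0 : (Nat.card (H ⧸ K)).factorization p =
        (Nat.card M).factorization p + K.index.factorization p := by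
      conv_lhs => rw [← M.card_mul_index, hM]
      rw [Nat.factorization_mul Nat.card_pos.ne' (pow_ne_zero _ (Fact.out : p.Prime).ne_zero),
        Finsupp.add_apply, Nat.Prime.factorization_pow Fact.out, Finsupp.single_eq_same]
    have := (Fact.out : p.Prime).factorization_pos_of_dvd Nat.card_pos.ne' h
    rw [← Subgroup.index_eq_card] at h0
    omega

end Cfsg.Agent.S4564
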