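import Cfsg.Statements.S4565
import Cfsg.Agent.Lib.Clifford.FullyRamified

set_option autoImplicit false
open Cfsg

namespace Cfsg.Agent.S4565

/-- Let χ be an irreducible character of the finite group H that is fully ramified over the normal subgroup Z: the restriction of χ to Z is e times an irreducible character of Z with e ^ 2 equal to the index of Z. If Z ≠ H, then H/Z has no cyclic subgroup that is its own centralizer. -/
theorem result {H : Type*} [Group H] [Finite H] (Z : Subgroup H) [Z.Normal] (χ : Cfsg.IrrCharacter H) (hfr : ∃ (θ : Cfsg.IrrCharacter ↥Z) (e : ℕ), e ^ 2 = Z.index ∧ ∀ z : ↥Z, (χ : H → ℂ) z = (e : ℂ) * (θ : ↥Z → ℂ) z) (hZ : Z ≠ ⊤) (C : Subgroup (H ⧸ Z)) (hC : IsCyclic C) : Subgroup.centralizer (C : Set (H ⧸ Z)) ≠ C := by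
  classical
  obtain ⟨θ, e, he, hres⟩ := hfr
  have := Fintype.ofFinite H
  have := Fintype.ofFinite Z
  intro heq
  obtain ⟨c, hc⟩ := Subgroup.isCyclic_iff_exists_zpowers_eq_top C |>.mp hC
  obtain ⟨x, rfl⟩ := QuotientGroup.mk'_surjective Z c
  have hx : x ∈ Z := by
    refine CfsgLib.Clifford.FullyRamified.mem_of_centralizer_le Z χ.2 θ.2 he hres x fun g hg => ?_
    have hgc : QuotientGroup.mk' Z g ∈ C := by
      rw [← heq, ← hc, Subgroup.mem_centralizer_iff]
      rintro _ ⟨i, rfl⟩
      have h1 : Commute (QuotientGroup.mk' Z g) (QuotientGroup.mk' Z x) := by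
        have h2 := (QuotientGroup.eq_one_iff (N := Z) _).mpr hg
        rw [← QuotientGroup.mk'_apply, map_mul, map_mul, map_mul, map_inv, map_inv, mul_assoc, mul_assoc,
          inv_mul_eq_one, eq_inv_mul_iff_mul_eq] at h2
        exact h2.symm
      exact ((h1.zpow_right i).eq).symm
    rw [← hc] at hgc
    obtain ⟨i, hi⟩ := hgc
    have h3 : QuotientGroup.mk' Z (x ^ i) = QuotientGroup.mk' Z g := (map_zpow _ x i).trans hi
    obtain ⟨z, hz, e'⟩ := (QuotientGroup.mk'_eq_mk' Z).mp h3
    rw [← e']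
    exact mul_mem (Subgroup.mem_sup_left (Subgroup.zpow_mem_zpowers x i)) (Subgroup.mem_sup_right hz)
  have hbot : C = ⊥ := by
    rw [← hc, show QuotientGroup.mk' Z x = 1 from (QuotientGroup.eq_one_iff x).mpr hx, Subgroup.zpowers_one_eq_bot]
  subst hbot
  refine hZ (eq_top_iff.mpr fun g _ => ?_)
  have h4 : QuotientGroup.mk' Z g ∈ (⊥ : Subgroup (H ⧸ Z)) := by
    rw [← heq, Subgroup.mem_centralizer_iff]
    rintro y hy
    rw [Subgroup.mem_bot.mp hy]; simp
  exact (QuotientGroup.eq_one_iff g).mp (Subgroup.mem_bot.mp h4)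

end Cfsg.Agent.S4565
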