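import Cfsg.Statements.S4566
import Cfsg.Agent.Lib.BlockA.CliffordBasic
import Cfsg.Agent.Lib.Char.Linear
import Cfsg.Agent.Lib.Char.Monomial

set_option autoImplicit false
open Cfsg

namespace Cfsg.Agent.S4566

/-- Let N be a central subgroup of the finite group G, ψ a faithful irreducible (hence degree-one) character of N, and χ an irreducible character of G whose restriction to N contains ψ. If g ∈ G and some x ∈ G has commutator x⁻¹ g⁻¹ x g in N but different from 1, then χ g = 0. -/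
theorem result {G : Type*} [Group G] [Fintype G] (N : Subgroup G) [Fintype N] (hN : N ≤ Subgroup.center G) (ψ : Cfsg.IrrCharacter ↥N) (hfaith : ∀ n : ↥N, (ψ : ↥N → ℂ) n = (ψ : ↥N → ℂ) 1 → n = 1) (χ : Cfsg.IrrCharacter G) (hover : Cfsg.classInner (fun n : ↥N => (χ : G → ℂ) n) (ψ : ↥N → ℂ) ≠ 0) (g x : G) (hcomm : x⁻¹ * g⁻¹ * x * g ∈ N) (hne : x⁻¹ * g⁻¹ * x * g ≠ 1) : (χ : G → ℂ) g = 0 := by
  classical
  have hn : N.Normal := ⟨fun a ha b => by
    rw [Subgroup.mem_center_iff.1 (hN ha) b, mul_inv_cancel_right]; exact ha⟩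
  set c : G := x⁻¹ * g⁻¹ * x * g with hc
  -- `χ` restricted to the central subgroup is a multiple of `ψ`
  obtain ⟨m, ρ, hρ, hρχ⟩ := χ.2
  obtain ⟨s, hs⟩ := CfsgLib.Char.exists_scalar_of_commute ρ (ρ c)
    (fun y => by rw [← Module.End.mul_eq_comp, ← Module.End.mul_eq_comp, ← map_mul, ← map_mul, Subgroup.mem_center_iff.1 (hN hcomm) y])
  have hmul : ∀ y : G, (χ : G → ℂ) (c * y) = s * (χ : G → ℂ) y := by
    intro y
    rw [← hρχ]
    simp only [Representation.character, map_mul, hs]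
    rw [smul_mul_assoc, ← Module.End.one_eq_id, one_mul, map_smul, smul_eq_mul]
  have hs1 : s ≠ 1 := by
    intro h
    subst h
    have hχc : ∀ n : N, (χ : G → ℂ) ((⟨c, hcomm⟩ * n : N) : G) = (χ : G → ℂ) n := fun n => by
      rw [Subgroup.coe_mul, hmul, one_mul]
    obtain ⟨μ, hμ⟩ := CfsgLib.Char.exists_hom_of_degree_one (CfsgLib.Char.irr_isCharacter ψ.2)
      (CfsgLib.Char.irr_degree_one_of_comm (G := N)
        (fun a b => Subtype.ext (Subgroup.mem_center_iff.1 (hN b.2) a)) ψ.2)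
    have h1 : Cfsg.classInner (fun n : N => (χ : G → ℂ) n) (ψ : N → ℂ) =
        starRingEnd ℂ ((ψ : N → ℂ) ⟨c, hcomm⟩) *
          Cfsg.classInner (fun n : N => (χ : G → ℂ) n) (ψ : N → ℂ) := by
      simp only [CfsgLib.Char.classInner_def, Finset.mul_sum]
      refine (Fintype.sum_equiv (Equiv.mulLeft (⟨c, hcomm⟩ : N)) _ _ fun n => ?_).symm
      simp only [Equiv.coe_mulLeft, hχc, hμ, map_mul, Units.val_mul]
      ring
    refine hne ?_
    have h2 : starRingEnd ℂ ((ψ : N → ℂ) ⟨c, hcomm⟩) = 1 := by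
      conv_lhs at h1 => rw [← one_mul (Cfsg.classInner _ _)]
      exact (mul_right_cancel₀ hover h1).symm
    have h3 : (ψ : N → ℂ) ⟨c, hcomm⟩ = (ψ : N → ℂ) 1 := by
      have := congrArg (starRingEnd ℂ) h2
      rw [Complex.conj_conj, map_one] at this
      rw [this, hμ]
      simp
    exact congrArg Subtype.val (hfaith _ h3)
  have h4 : c * (x⁻¹ * g * x)⁻¹⁻¹ = (x⁻¹ * g⁻¹ * x * g) * (x⁻¹ * g * x) := by rw [inv_inv]
  have h5 : c * (x⁻¹ * g * x) = g := by
    rw [← Subgroup.mem_center_iff.1 (hN hcomm)]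
    simp [hc, mul_assoc]
  have h6 := hmul (x⁻¹ * g * x)
  rw [h5, show (χ : G → ℂ) (x⁻¹ * g * x) = (χ : G → ℂ) g by
    simpa using CfsgLib.Char.irr_isClassFunction χ.2 g x⁻¹] at h6
  by_contra hg
  exact hs1 (mul_right_cancel₀ hg (by rw [one_mul]; exact h6.symm))

end Cfsg.Agent.S4566
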