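import Cfsg.Statements.S4567
import Cfsg.Agent.Lib.Char.Column
import Cfsg.Agent.Lib.Char.Monomial
import Cfsg.Agent.Lib.Char.Linear

set_option autoImplicit false
open Cfsg

namespace Cfsg.Agent.S4567

universe u

open Module
open scoped ComplexConjugate

theorem card_over {G : Type u} [Group G] [Fintype G] (N : Subgroup G) [N.Normal] [Fintype N]
    (hN : N ≤ Subgroup.center G) (ψ : Cfsg.IrrCharacter ↥N)
    (hfaith : ∀ n : ↥N, (ψ : ↥N → ℂ) n = (ψ : ↥N → ℂ) 1 → n = 1) :
    Nat.card {χ : Cfsg.IrrCharacter G //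
        Cfsg.classInner (fun n : ↥N => (χ : G → ℂ) n) (ψ : ↥N → ℂ) ≠ 0} =
      Nat.card {C : ConjClasses (G ⧸ N) //
        ∃ g : G, ConjClasses.mk (g : G ⧸ N) = C ∧ ∀ x : G, x⁻¹ * g⁻¹ * x * g ∈ N → x * g = g * x} := by
  classical
  have hc : ∀ (n : N) (x : G), x * n = n * x := fun n x => Subgroup.mem_center_iff.mp (hN n.2) x
  obtain ⟨lam, hlam⟩ := CfsgLib.Char.exists_hom_of_degree_one (CfsgLib.Char.irr_isCharacter ψ.2)
    (CfsgLib.Char.irr_degree_one_of_comm (fun a b => Subtype.ext (hc b a)) ψ.2)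
  have hinj : ∀ n : N, lam n = 1 → n = 1 := fun n h => hfaith n (by rw [hlam]; simp [h])
  -- central elements act by scalars
  have hscal : ∀ χ : Cfsg.IrrCharacter G, ∀ n : N, ∃ c : ℂ, ∀ g : G,
      (χ : G → ℂ) (g * n) = c * (χ : G → ℂ) g := by
    intro χ n
    obtain ⟨m, ρ, hρ, hχ⟩ := χ.2
    obtain ⟨c, hc'⟩ := CfsgLib.Char.exists_scalar_of_commute ρ (ρ n) fun g => by
      rw [← Module.End.mul_eq_comp, ← Module.End.mul_eq_comp, ← map_mul, ← map_mul, hc n g]
    refine ⟨c, fun g => ?_⟩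
    rw [← hχ, Representation.character, Representation.character, map_mul, hc']
    simp [Module.End.mul_eq_comp, LinearMap.comp_smul]
  choose c hcval using hscal
  have hover : ∀ χ : Cfsg.IrrCharacter G,
      Cfsg.classInner (fun n : ↥N => (χ : G → ℂ) n) (ψ : ↥N → ℂ) ≠ 0 ↔
        ∀ n, c χ n = (lam n : ℂ) := by
    intro χ
    have h1 := CfsgLib.Char.irr_apply_one_ne_zero χ.2
    have hmul : ∀ a b, c χ (a * b) = c χ a * c χ b := by
      intro a b
      refine mul_right_cancel₀ h1 ?_
      rw [← hcval, mul_assoc, ← hcval, ← hcval, Subgroup.coe_mul, one_mul, one_mul, hc b (a : G)]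
    have hone : c χ 1 = 1 := mul_right_cancel₀ h1 (by rw [← hcval]; simp)
    let μ : N →* ℂ := ⟨⟨c χ, hone⟩, hmul⟩
    have hval : (fun n : ↥N => (χ : G → ℂ) n) = (χ : G → ℂ) 1 • fun n => ((μ.toHomUnits n : ℂˣ) : ℂ) := by
      funext n
      rw [Pi.smul_apply, smul_eq_mul, MonoidHom.coe_toHomUnits, mul_comm]
      show (χ : G → ℂ) n = c χ n * _
      rw [← hcval, one_mul]
    rw [hval, CfsgLib.Char.classInner_smul_left, mul_ne_zero_iff, and_iff_right h1, hlam]
    constructor
    · intro h n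
      by_contra hne
      refine h (CfsgLib.Char.irr_classInner_ne (CfsgLib.Char.isIrrCharacter_linear _)
        (CfsgLib.Char.isIrrCharacter_linear _) fun e => hne (congr_fun e n))
    · intro h
      rw [show (fun n => ((μ.toHomUnits n : ℂˣ) : ℂ)) = fun n => (lam n : ℂ) from funext h,
        CfsgLib.Char.irr_classInner_self (CfsgLib.Char.isIrrCharacter_linear _)]
      exact one_ne_zero
  let W : Submodule ℂ (G → ℂ) :=
    { carrier := {f | Cfsg.IsClassFunction G f ∧ ∀ g (n : N), f (g * n) = (lam n : ℂ) * f g}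
      zero_mem' := ⟨fun _ _ => rfl, fun _ _ => (mul_zero _).symm⟩
      add_mem' := fun {a b} ha hb => ⟨fun g h => by simp [ha.1 g h, hb.1 g h],
        fun g n => by simp [ha.2 g n, hb.2 g n, mul_add]⟩
      smul_mem' := fun r a ha => ⟨fun g h => by simp [ha.1 g h],
        fun g n => by simp [ha.2 g n, mul_left_comm]⟩ }
  let S := {χ : Cfsg.IrrCharacter G //
    Cfsg.classInner (fun n : ↥N => (χ : G → ℂ) n) (ψ : ↥N → ℂ) ≠ 0}
  let D := {C : ConjClasses (G ⧸ N) //
    ∃ g : G, ConjClasses.mk (g : G ⧸ N) = C ∧ ∀ x : G, x⁻¹ * g⁻¹ * x * g ∈ N → x * g = g * x}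
  have := Fintype.ofFinite (Cfsg.IrrCharacter G)
  have := Fintype.ofFinite S
  have : Finite (ConjClasses (G ⧸ N)) := Finite.of_surjective _ ConjClasses.mk_surjective
  have := Fintype.ofFinite D
  have hspan : W = Submodule.span ℂ (Set.range fun χ : S => (χ.1 : G → ℂ)) := by
    refine le_antisymm (fun f hf => ?_) (Submodule.span_le.mpr ?_)
    · rw [CfsgLib.Char.classFunction_eq_sum hf.1]
      refine Submodule.sum_mem _ fun χ _ => ?_
      by_cases hχ : Cfsg.classInner (fun n : ↥N => (χ : G → ℂ) n) (ψ : ↥N → ℂ) ≠ 0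
      · exact Submodule.smul_mem _ _ (Submodule.subset_span ⟨⟨χ, hχ⟩, rfl⟩)
      · rw [hover] at hχ
        push Not at hχ
        obtain ⟨n, hn⟩ := hχ
        have e : Cfsg.classInner f (χ : G → ℂ) =
            ((lam n : ℂ) * conj (c χ n)) * Cfsg.classInner f (χ : G → ℂ) := by
          have hs : ∑ g : G, f g * conj ((χ : G → ℂ) g) = ((lam n : ℂ) * conj (c χ n)) *
              ∑ g : G, f g * conj ((χ : G → ℂ) g) := by
            conv_lhs => rw [← Equiv.sum_comp (Equiv.mulRight (n : G))]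
            rw [Finset.mul_sum]
            refine Finset.sum_congr rfl fun g _ => ?_
            rw [Equiv.coe_mulRight, hf.2, hcval, map_mul]
            ring
          rw [CfsgLib.Char.classInner_def, mul_left_comm _ ((Nat.card G : ℂ))⁻¹, ← hs]
        have hnorm : ‖(lam n : ℂ)‖ = 1 := CfsgLib.Char.norm_eigen_eq_one (orderOf_pos n) (by
          rw [← Units.val_pow_eq_pow_val, ← map_pow, pow_orderOf_eq_one, map_one, Units.val_one])
        have hne : (lam n : ℂ) * conj (c χ n) ≠ 1 := fun h => hn (by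
          have h2 := congrArg (fun z => conj z * (lam n : ℂ)) h
          beta_reduce at h2
          rw [map_mul, Complex.conj_conj, map_one, one_mul, mul_comm (conj (lam n : ℂ)), mul_assoc,
            mul_comm (conj (lam n : ℂ)), Complex.mul_conj', hnorm] at h2
          simpa using h2)
        have h0 : Cfsg.classInner f (χ : G → ℂ) = 0 := by
          by_contra h
          exact hne ((mul_eq_right₀ h).mp e.symm)
        rw [h0, zero_smul]; exact zero_mem _
    · rintro _ ⟨χ, rfl⟩
      exact ⟨CfsgLib.Char.irr_isClassFunction χ.1.2, fun g n => by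
        show (χ.1 : G → ℂ) _ = _ * (χ.1 : G → ℂ) _
        rw [hcval, (hover χ.1).mp χ.2]⟩
  -- evaluation at representatives of the good classes
  have hD : ∀ C : D, ∃ r : G, ConjClasses.mk (r : G ⧸ N) = C.1 ∧
      ∀ x : G, x⁻¹ * r⁻¹ * x * r ∈ N → x * r = r * x := fun C => C.2
  choose r hr hgood using hD
  let ev : W →ₗ[ℂ] (D → ℂ) :=
    { toFun := fun f C => (f : G → ℂ) (r C)
      map_add' := fun _ _ => rfl
      map_smul' := fun _ _ => rfl }
  have hinjev : Function.Injective ev := by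
    rw [← LinearMap.ker_eq_bot, Submodule.eq_bot_iff]
    rintro ⟨f, hfc, hfn⟩ hf
    refine Subtype.ext (funext fun g => ?_)
    show f g = 0
    by_cases hg : ∀ x : G, x⁻¹ * g⁻¹ * x * g ∈ N → x * g = g * x
    · set C : D := ⟨ConjClasses.mk (g : G ⧸ N), g, rfl, hg⟩
      obtain ⟨y, hy⟩ := isConj_iff.mp (ConjClasses.mk_eq_mk_iff_isConj.mp (hr C))
      obtain ⟨x, rfl⟩ := QuotientGroup.mk_surjective y
      rw [← QuotientGroup.mk_mul, ← QuotientGroup.mk_inv, ← QuotientGroup.mk_mul, QuotientGroup.eq] at hy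
      have e : g = x * r C * x⁻¹ * ((⟨_, hy⟩ : N) : G) := (mul_inv_cancel_left _ _).symm
      rw [e, hfn, hfc, show f (r C) = 0 from congr_fun (show ev ⟨f, hfc, hfn⟩ = 0 from hf) C,
        mul_zero]
    · push Not at hg
      obtain ⟨x, hx, hxg⟩ := hg
      set n : N := ⟨(x⁻¹ * g⁻¹ * x * g)⁻¹, inv_mem hx⟩ with hn
      have e : g * (n : G) = g * g⁻¹ * (x⁻¹ * g * x⁻¹⁻¹) := by simp [n, mul_assoc]
      have h2 : f g = (lam n : ℂ) * f g := by
        rw [← hfn, e, mul_inv_cancel, one_mul, hfc]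
      have hn1 : (lam n : ℂ) ≠ 1 := fun h => hxg (by
        have h3 := congr_arg Subtype.val (hinj n (Units.ext h))
        simp only [n, OneMemClass.coe_one, inv_eq_one] at h3
        calc x * g = g * x * (x⁻¹ * g⁻¹ * x * g) := by group
          _ = g * x := by rw [h3, mul_one])
      by_contra h
      exact hn1 ((mul_eq_right₀ h).mp h2.symm)
  have hsurjev : Function.Surjective ev := by
    let F : D → G → ℂ := fun C g =>
      ∑ p : G × N, if p.1 * r C * p.1⁻¹ * (p.2 : G) = g then (lam p.2 : ℂ) else 0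
    have hFW : ∀ C, F C ∈ W := by
      refine fun C => ⟨fun g h => ?_, fun g n => ?_⟩
      · refine Fintype.sum_equiv ((Equiv.mulLeft h⁻¹).prodCongr (Equiv.refl N)) _ _ fun p => ?_
        have : p.1 * r C * p.1⁻¹ * (p.2 : G) = h * g * h⁻¹ ↔
            h⁻¹ * p.1 * r C * (h⁻¹ * p.1)⁻¹ * (p.2 : G) = g := by
          rw [show h⁻¹ * p.1 * r C * (h⁻¹ * p.1)⁻¹ * (p.2 : G) =
            h⁻¹ * (p.1 * r C * p.1⁻¹ * (p.2 : G)) * h by
              rw [mul_inv_rev, inv_inv]
              simp only [mul_assoc]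
              rw [hc p.2 h]]
          constructor
          · intro e; rw [e]; group
          · intro e; rw [← e]; group
        simp only [Equiv.prodCongr_apply, Prod.map, Equiv.coe_mulLeft, Equiv.refl_apply, this]
      · show _ = (lam n : ℂ) * _
        rw [Finset.mul_sum]
        refine Fintype.sum_equiv ((Equiv.refl G).prodCongr (Equiv.mulRight n⁻¹)) _ _ fun p => ?_
        simp only [Equiv.prodCongr_apply, Prod.map, Equiv.refl_apply, Equiv.coe_mulRight,
          Subgroup.coe_mul, Subgroup.coe_inv, ← mul_assoc, mul_inv_eq_iff_eq_mul, mul_ite, mul_zero,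
          map_mul, map_inv, Units.val_mul]
        congr 1
        rw [mul_right_comm, Units.mul_inv, one_mul]
    have key : ∀ C C' (p : G × N), p.1 * r C * p.1⁻¹ * (p.2 : G) = r C' → C = C' ∧ p.2 = 1 := by
      intro C C' p e
      have hCC : C = C' := by
        refine Subtype.ext ((hr C).symm.trans (.trans ?_ (hr C')))
        refine ConjClasses.mk_eq_mk_iff_isConj.mpr (isConj_iff.mpr ⟨(p.1 : G ⧸ N), ?_⟩)
        rw [← QuotientGroup.mk_mul, ← QuotientGroup.mk_inv, ← QuotientGroup.mk_mul, ← e,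
          QuotientGroup.mk_mul_of_mem _ p.2.2]
      subst hCC
      refine ⟨rfl, ?_⟩
      obtain ⟨x, n⟩ := p
      have h1 : x * r C * x⁻¹ = r C * (n : G)⁻¹ := eq_mul_inv_of_mul_eq e
      have h3 : x⁻¹⁻¹ * (r C)⁻¹ * x⁻¹ * r C = (n : G) := by
        rw [show x⁻¹⁻¹ * (r C)⁻¹ * x⁻¹ = (x * r C * x⁻¹)⁻¹ by group, h1]
        group
      have h4 := hgood C x⁻¹ (h3 ▸ n.2)
      rw [mul_assoc, ← h4, mul_inv_cancel_left] at h1
      exact Subtype.ext (inv_eq_one.mp (mul_eq_left.mp h1.symm))
    intro a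
    refine ⟨∑ C, (a C / F C (r C)) • ⟨F C, hFW C⟩, funext fun C' => ?_⟩
    show ((∑ C, (a C / F C (r C)) • (⟨F C, hFW C⟩ : W) : W) : G → ℂ) (r C') = a C'
    rw [Submodule.coe_sum, Finset.sum_apply, Finset.sum_eq_single C']
    · simp only [Submodule.coe_smul, Pi.smul_apply, smul_eq_mul]
      refine div_mul_cancel₀ _ ?_
      have e : F C' (r C') = ∑ p : G × N,
          if p.1 * r C' * p.1⁻¹ * (p.2 : G) = r C' then (1 : ℂ) else 0 := by
        refine Finset.sum_congr rfl fun p _ => ?_
        split_ifs with h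
        · rw [(key _ _ p h).2, map_one, Units.val_one]
        · rfl
      rw [e, Finset.sum_boole, Nat.cast_ne_zero]
      exact (Finset.card_pos.mpr ⟨(1, 1), by simp⟩).ne'
    · intro C _ hne
      simp only [Submodule.coe_smul, Pi.smul_apply, smul_eq_mul]
      rw [show F C (r C') = 0 from Finset.sum_eq_zero fun p _ =>
        if_neg fun h => hne (key _ _ p h).1, mul_zero]
    · simp
  have h1 : Module.finrank ℂ W = Nat.card D := by
    rw [(LinearEquiv.ofBijective ev ⟨hinjev, hsurjev⟩).finrank_eq, Module.finrank_pi,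
      Nat.card_eq_fintype_card]
  have h2 := finrank_span_eq_card
    (CfsgLib.Char.irr_linearIndependent.comp (fun χ : S => χ.1) Subtype.val_injective)
  rw [hspan] at h1
  exact (Nat.card_eq_fintype_card.trans (h2.symm.trans h1))

/-- Let N be a central subgroup of the finite group G and ψ a faithful irreducible (hence degree-one) character of N. Call a coset g N special when every x ∈ G whose commutator x⁻¹ g⁻¹ x g lies in N actually commutes with g (this depends only on the coset). Then the number of irreducible characters of G whose restriction to N contains ψ equals the number of conjugacy classes of G/N consisting of special cosets. -/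
theorem result {G : Type*} [Group G] [Fintype G] (N : Subgroup G) [N.Normal] [Fintype N] (hN : N ≤ Subgroup.center G) (ψ : Cfsg.IrrCharacter ↥N) (hfaith : ∀ n : ↥N, (ψ : ↥N → ℂ) n = (ψ : ↥N → ℂ) 1 → n = 1) : Nat.card {χ : Cfsg.IrrCharacter G // Cfsg.classInner (fun n : ↥N => (χ : G → ℂ) n) (ψ : ↥N → ℂ) ≠ 0} = Nat.card {C : ConjClasses (G ⧸ N) // ∃ g : G, ConjClasses.mk (g : G ⧸ N) = C ∧ ∀ x : G, x⁻¹ * g⁻¹ * x * g ∈ N → x * g = g * x} := by
  exact card_over N hN ψ hfaith

end Cfsg.Agent.S4567
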