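import Cfsg.Statements.S4570
import Cfsg.Agent.Lib.BlockA.PrimeInertial.RankOneInvol
import Cfsg.Agent.Lib.BlockA.PrimeInertial.Main
import Cfsg.Agent.S4569

set_option autoImplicit false
open Cfsg

namespace Cfsg.Agent.S4570

/-- Let G be a finite group with a commutative Sylow 2-subgroup P and M a maximal ideal of the algebraic integers containing 2, and suppose some involution x of G has the property that the principal 2-block of its centralizer has 2-regular rank one. If P has order 8 then the principal 2-block of G contains exactly 8 irreducible characters, and if P has order 16 it contains 8 or 16. -/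
theorem result {G : Type*} [Group G] [Finite G] (M : Ideal Cfsg.AlgInt) (hM : Cfsg.IsPModular 2 M) (P : Sylow 2 G) (hab : IsMulCommutative P) (x : G) (hx : orderOf x = 2) (hl : Cfsg.blockRank 2 (Cfsg.principalBlock M ↥(Subgroup.centralizer ({x} : Set G))) = 1) : (Nat.card P = 8 → Nat.card (Cfsg.principalBlock M G) = 8) ∧ (Nat.card P = 16 → Nat.card (Cfsg.principalBlock M G) = 8 ∨ Nat.card (Cfsg.principalBlock M G) = 16) := by
  exact CfsgLib.BlockA.PrimeInertial.count_of_rank_one hM
    (fun Q hQ e he hspec => (CfsgLib.BlockA.PrimeInertial.invariants hM Q hQ e he hspec).2.imp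
      fun z => Exists.imp fun r h => ⟨h.1, h.2.1, h.2.2.1, h.2.2.2.1⟩)
    (fun Q hc hel he => (Cfsg.Agent.S4569.result M hM Q hc (fun a => (sq a).trans (hel a)) he).1)
    P hab x hx hl

end Cfsg.Agent.S4570
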