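import Cfsg.Statements.S4574
import Cfsg.Agent.Lib.BlockB.GaloisAvg
import Cfsg.Agent.Lib.BlockB.ClassMul
import Cfsg.Agent.Lib.Char.Diag

set_option autoImplicit false
open Cfsg

namespace Cfsg.Agent.S4574

/-- Let χ be an irreducible character of the finite group G, of degree d, and let Z(χ) be the set of elements g with |χ g| = d (the centre of χ). Then χ vanishes on at least (d ^ 2 - 1) · |Z(χ)| elements of G, with equality when every value |χ g| is 0, 1 or d. -/
theorem result {G : Type*} [Group G] [Fintype G] [DecidableEq G] (χ : G → ℂ) (hχ : Cfsg.IsIrrCharacter G χ) : (Cfsg.charDegree χ ^ 2 - 1) * (Finset.univ.filter (fun g : G => ‖χ g‖ = (Cfsg.charDegree χ : ℝ))).card ≤ (Finset.univ.filter (fun g : G => χ g = 0)).card ∧ ((∀ g : G, ‖χ g‖ = 0 ∨ ‖χ g‖ = 1 ∨ ‖χ g‖ = (Cfsg.charDegree χ : ℝ)) → (Cfsg.charDegree χ ^ 2 - 1) * (Finset.univ.filter (fun g : G => ‖χ g‖ = (Cfsg.charDegree χ : ℝ))).card = (Finset.univ.filter (fun g : G => χ g = 0)).card) := by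

  classical
  set d := Cfsg.charDegree χ with hd
  obtain ⟨n, ρ, hρ, rfl⟩ := hχ
  have hirr : Cfsg.IsIrrCharacter G ρ.character := ⟨n, ρ, hρ, rfl⟩
  have hdn : d = n := by
    have h := CfsgLib.BlockB.charDegree_cast (G := G) (χ := ρ.character) ⟨n, ρ, rfl⟩
    rw [Representation.char_one, Module.finrank_fin_fun, ← hd] at h
    exact_mod_cast h
  set Z := Finset.univ.filter (fun g : G => ‖ρ.character g‖ = (d : ℝ)) with hZ
  set O := Finset.univ.filter (fun g : G => ρ.character g = 0) with hO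
  set T := Finset.univ.filter (fun g : G => ρ.character g ≠ 0 ∧ ‖ρ.character g‖ ≠ (d : ℝ)) with hT
  have hd0 : (d : ℝ) ≠ 0 := Nat.cast_ne_zero.2 fun h => by
    have h1 := CfsgLib.Char.irr_apply_one_ne_zero hirr
    rw [← CfsgLib.BlockB.charDegree_cast (G := G) (χ := ρ.character) ⟨n, ρ, rfl⟩, ← hd, h,
      Nat.cast_zero] at h1
    exact h1 rfl
  have htot : ∑ g : G, ‖ρ.character g‖ ^ 2 = (Nat.card G : ℝ) := by
    have h := CfsgLib.Char.irr_classInner_self hirr
    rw [CfsgLib.Char.classInner_self_eq_norm, Complex.ofReal_eq_one,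
      inv_mul_eq_iff_eq_mul₀ (by exact_mod_cast Nat.card_pos.ne'), mul_one] at h
    exact h
  have hZpow : ∀ g ∈ Z, ∀ k : ℕ, g ^ k ∈ Z := fun g hg k => by
    simp only [hZ, Finset.mem_filter, Finset.mem_univ, true_and, hdn] at hg ⊢
    have e : (n : ℝ) = (Module.finrank ℂ (Fin n → ℂ) : ℝ) := by simp
    rw [e, CfsgLib.Char.norm_char_eq_iff] at hg ⊢
    obtain ⟨ω, hω⟩ := hg
    refine ⟨ω ^ k, ?_⟩
    rw [map_pow, hω, smul_pow, ← Module.End.one_eq_id, one_pow]
  have hsplit : ∀ g : G, ‖ρ.character g‖ ^ 2 =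
      (if g ∈ Z then (d : ℝ) ^ 2 else 0) + (if g ∈ T then ‖ρ.character g‖ ^ 2 else 0) := fun g => by
    by_cases h1 : ‖ρ.character g‖ = (d : ℝ)
    · have h2 : g ∉ T := fun h => (Finset.mem_filter.1 h).2.2 h1
      rw [if_pos (show g ∈ Z from Finset.mem_filter.2 ⟨Finset.mem_univ g, h1⟩), if_neg h2, h1, add_zero]
    · rw [if_neg (show g ∉ Z from fun h => h1 (Finset.mem_filter.1 h).2), zero_add]
      by_cases h3 : ρ.character g = 0
      · rw [if_neg (show g ∉ T from fun h => (Finset.mem_filter.1 h).2.1 h3), h3, norm_zero]; norm_num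
      · rw [if_pos (show g ∈ T from Finset.mem_filter.2 ⟨Finset.mem_univ g, h3, h1⟩)]
  have hcount : (O.card : ℝ) + Z.card + T.card = (Nat.card G : ℝ) := by
    have h : ∀ g : G, (if g ∈ O then (1 : ℝ) else 0) + (if g ∈ Z then 1 else 0) +
        (if g ∈ T then 1 else 0) = 1 := fun g => by
      by_cases h1 : ‖ρ.character g‖ = (d : ℝ)
      · have h2 : ρ.character g ≠ 0 := fun h => hd0 (by rw [← h1, h, norm_zero])
        simp [hO, hZ, hT, h1, h2]
      · by_cases h2 : ρ.character g = 0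
        · simp [hO, hZ, hT, h2, Ne.symm hd0]
        · simp [hO, hZ, hT, h1, h2]
    have hs := Finset.sum_congr (rfl : (Finset.univ : Finset G) = _) fun g _ => h g
    rw [Finset.sum_add_distrib, Finset.sum_add_distrib, Finset.sum_const, Finset.card_univ,
      Finset.sum_ite_mem, Finset.sum_ite_mem, Finset.sum_ite_mem, Finset.univ_inter,
      Finset.univ_inter, Finset.univ_inter] at hs
    simp only [Finset.sum_const, nsmul_eq_mul, mul_one] at hs
    rw [Nat.card_eq_fintype_card]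
    exact hs
  have hval : (Z.card : ℝ) * (d : ℝ) ^ 2 + ∑ g ∈ T, ‖ρ.character g‖ ^ 2 = (Nat.card G : ℝ) := by
    rw [← htot]
    conv_rhs => rw [Finset.sum_congr (rfl : (Finset.univ : Finset G) = _) fun g _ => hsplit g,
      Finset.sum_add_distrib, Finset.sum_ite_mem, Finset.sum_ite_mem, Finset.univ_inter,
      Finset.univ_inter, Finset.sum_const, nsmul_eq_mul]
  have hcast : (((d ^ 2 - 1) * Z.card : ℕ) : ℝ) = ((d : ℝ) ^ 2 - 1) * Z.card := by
    rw [Nat.cast_mul, Nat.cast_sub (Nat.one_le_pow _ _ (Nat.pos_of_ne_zero fun h => hd0 (by simp [h])))]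
    push_cast; ring
  refine ⟨?_, fun hall => ?_⟩
  · have hT1 : (T.card : ℝ) ≤ ∑ g ∈ T, ‖ρ.character g‖ ^ 2 := by
      have := CfsgLib.BlockB.card_le_sum_norm_pow T (fun g k => ρ.character (g ^ k))
        (n := Nat.card G) Nat.card_pos.ne'
        (fun g _ => CfsgLib.BlockB.isCyclo_char ⟨n, ρ, rfl⟩ g) ?_
        (fun g hg => by simpa using (Finset.mem_filter.1 hg).2.1) 2
      · simpa using this
      · intro k hk
        obtain ⟨e, he⟩ := CfsgLib.BlockB.exists_powCoprime_perm hk T (fun g hg => by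
          obtain ⟨-, h1, h2⟩ := Finset.mem_filter.1 hg
          refine Finset.mem_filter.2 ⟨Finset.mem_univ _,
            fun h => h1 ((CfsgLib.BlockB.char_pow_eq_zero_iff ⟨n, ρ, rfl⟩ hk g).1 h), fun h => h2 ?_⟩
          obtain ⟨j, hj⟩ : ∃ j : ℕ, (g ^ k) ^ j = g :=
            exists_pow_eq_self_of_coprime
              (Nat.Coprime.coprime_dvd_right (orderOf_dvd_natCard g) hk)
          have h3 := hZpow (g ^ k) (Finset.mem_filter.2 ⟨Finset.mem_univ _, h⟩) j
          rw [hj] at h3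
          exact (Finset.mem_filter.1 h3).2)
        exact ⟨e, fun g => by simp [he]⟩
    have : (((d ^ 2 - 1) * Z.card : ℕ) : ℝ) ≤ (O.card : ℝ) := by rw [hcast]; nlinarith
    exact_mod_cast this
  · have hT1 : ∑ g ∈ T, ‖ρ.character g‖ ^ 2 = (T.card : ℝ) := by
      rw [Finset.sum_congr rfl (g := fun _ => (1 : ℝ)) fun g hg => ?_, Finset.sum_const,
        nsmul_eq_mul, mul_one]
      obtain ⟨-, h1, h2⟩ := Finset.mem_filter.1 hg
      rcases hall g with h | h | h
      · exact absurd (norm_eq_zero.1 h) h1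
      · rw [h]; norm_num
      · exact absurd h h2
    have : (((d ^ 2 - 1) * Z.card : ℕ) : ℝ) = (O.card : ℝ) := by rw [hcast]; nlinarith
    exact_mod_cast this

end Cfsg.Agent.S4574
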