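import Cfsg.Statements.S4575
import Cfsg.Agent.Lib.BlockA.MajorTwoCount

set_option autoImplicit false
open Cfsg

namespace Cfsg.Agent.S4575

/-- Let B be a 2-block of the finite group G (relative to a maximal ideal M of the algebraic integers containing 2) of defect d with defect group D. Let z be an element of D commuting with every element of D, and let b be a block of the centralizer of z with defect group D that induces B (a major subsection (z, b)). If the number of irreducible characters in B exceeds the 2-regular rank of b by at most three, then B contains at most 2 ^ d irreducible characters. -/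
theorem result {G : Type*} [Group G] [Finite G] (M : Ideal Cfsg.AlgInt) (hM : Cfsg.IsPModular 2 M) (B : Set (Cfsg.IrrCharacter G)) (hB : Cfsg.IsPBlock M B) (D : Subgroup G) (hD : Cfsg.IsDefectGroup 2 M B D) (z : G) (hzD : z ∈ D) (hzc : ∀ d ∈ D, d * z = z * d) (b : Set (Cfsg.IrrCharacter ↥(Subgroup.centralizer ({z} : Set G)))) (hb : Cfsg.IsInducedBlock M (Subgroup.centralizer ({z} : Set G)) b B) (hbD : Cfsg.IsDefectGroup 2 M b (D.subgroupOf (Subgroup.centralizer ({z} : Set G)))) (h : Nat.card B ≤ Cfsg.blockRank 2 b + 3) : Nat.card B ≤ 2 ^ Cfsg.blockDefect 2 B := by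
  classical
  have := hM.2.1.isPrime
  have := Fintype.ofFinite G
  have := Fintype.ofFinite (Subgroup.centralizer ({z} : Set G))
  have := Fintype.ofFinite (IrrCharacter G)
  have hx : ∃ k : ℕ, orderOf z = 2 ^ k := by
    have hDp := CfsgLib.Block.isPGroup_defectGroup hM hB hD
    obtain ⟨k, hk⟩ := hDp ⟨z, hzD⟩
    obtain ⟨j, -, hj⟩ := (Nat.dvd_prime_pow Nat.prime_two).1
      (orderOf_dvd_of_pow_eq_one (congrArg Subtype.val hk))
    exact ⟨j, hj⟩
  have hd : blockDefect 2 b = blockDefect 2 B := by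
    refine Nat.pow_right_injective le_rfl ?_
    show 2 ^ _ = 2 ^ _
    rw [← CfsgLib.Block.natCard_defectGroup hM hb.1 hbD, ← CfsgLib.Block.natCard_defectGroup hM hB hD]
    refine Nat.card_congr (Subgroup.subgroupOfEquivOfLe fun d hd' => ?_).toEquiv
    exact Subgroup.mem_centralizer_singleton_iff.2 (hzc d hd')
  obtain ⟨A, hsum, hpos, hzero⟩ := CfsgLib.BlockA.exists_major_averages hM hx hb hd
  rw [← hd]
  set q := 2 ^ blockDefect 2 b with hq
  set l := blockRank 2 b with hlr
  set F := B.toFinite.toFinset with hF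
  set hg := fun χ : IrrCharacter G => blockHeight 2 B (χ : G → ℂ) with hhg
  have hmem : ∀ {χ}, χ ∈ F ↔ χ ∈ B := B.toFinite.mem_toFinset
  have hk : Nat.card B = F.card := by rw [Nat.card_coe_set_eq, Set.ncard_eq_toFinset_card]
  rw [hk] at h ⊢
  have hq1 : 1 ≤ q := Nat.one_le_two_pow
  have hle : ∀ χ ∈ F, A χ ≤ q := fun χ hχ => by
    by_cases h0 : hg χ = 0
    · obtain ⟨hodd, hr⟩ := hzero χ (hmem.1 hχ) h0
      have h1 : 1 ≤ ∑ ξ ∈ F, 4 ^ blockHeight 2 B (ξ : G → ℂ) :=
        Finset.one_le_card.2 ⟨χ, hχ⟩ |>.trans (by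
          rw [Finset.card_eq_sum_ones]
          exact Finset.sum_le_sum fun _ _ => Nat.one_le_pow _ _ (by norm_num))
      nlinarith [hodd.pos]
    · exact (hpos χ (hmem.1 hχ) (Nat.pos_of_ne_zero h0)).2.2.le
  by_cases h1 : ∃ χ ∈ F, hg χ = 0 ∧ (A χ = 1 ∨ q ≤ A χ + 1)
  · obtain ⟨χ, hχ, h0, hA⟩ := h1
    obtain ⟨-, hr⟩ := hzero χ (hmem.1 hχ) h0
    have h2 : F.card ≤ ∑ ξ ∈ F, 4 ^ blockHeight 2 B (ξ : G → ℂ) := by
      rw [Finset.card_eq_sum_ones]
      exact Finset.sum_le_sum fun _ _ => Nat.one_le_pow _ _ (by norm_num)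
    have := hle χ hχ
    rcases hA with hA | hA <;> nlinarith
  · push Not at h1
    have hd3 : ∀ χ ∈ F, A χ + 3 ≤ q := fun χ hχ => by
      have hqe : ∀ k, 1 ≤ k → k < q → 2 ∣ q := fun k h2 h3 => by
        rw [hq]
        refine dvd_pow_self 2 fun h4 => ?_
        rw [hq, h4] at h3
        omega
      by_cases h0 : hg χ = 0
      · obtain ⟨⟨t, ht⟩, -⟩ := hzero χ (hmem.1 hχ) h0
        obtain ⟨-, h3⟩ := h1 χ hχ h0
        have := hqe (A χ) (by omega) (by omega)
        omega
      · obtain ⟨hdvd, hA0, hAq⟩ := hpos χ (hmem.1 hχ) (Nat.pos_of_ne_zero h0)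
        have h4 : 4 ∣ A χ := (pow_dvd_pow 2 (show 2 ≤ hg χ + 1 by omega)).trans hdvd
        have h5 : 4 ∣ q := by
          have : 2 < blockDefect 2 b + 1 := by
            by_contra hc
            have : q ≤ 2 ^ 1 := Nat.pow_le_pow_right two_pos (by omega)
            omega
          exact pow_dvd_pow 2 (show 2 ≤ blockDefect 2 b by omega)
        omega
    have h2 : ∑ χ ∈ F, A χ + 3 * F.card ≤ q * F.card := by
      rw [mul_comm 3, mul_comm q, ← smul_eq_mul, ← smul_eq_mul, ← Finset.sum_const,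
        ← Finset.sum_const, ← Finset.sum_add_distrib]
      exact Finset.sum_le_sum hd3
    rw [hsum] at h2
    nlinarith [Nat.mul_le_mul_left q h]

end Cfsg.Agent.S4575
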