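import Cfsg.Statements.S4580
import Cfsg.Agent.Lib.BlockA.RealBlock
import Cfsg.Agent.Lib.Clifford.ExtensionDet

set_option autoImplicit false
open Cfsg

namespace Cfsg.Agent.S4580

/-- Let N be a normal subgroup of the finite group G, M a maximal ideal of the algebraic integers containing 2, and θ a real-valued irreducible character of N of odd degree that extends to G (some irreducible character of G restricts to θ). Then θ has an extension to G lying in the principal 2-block of G. -/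
theorem result {G : Type*} [Group G] [Finite G] (N : Subgroup G) [N.Normal] (M : Ideal Cfsg.AlgInt) (hM : Cfsg.IsPModular 2 M) (θ : Cfsg.IrrCharacter N) (hreal : ∀ n : N, ((θ : N → ℂ) n).im = 0) (hodd : Odd (Cfsg.charDegree (θ : N → ℂ))) (hext : ∃ η : Cfsg.IrrCharacter G, ∀ n : N, (η : G → ℂ) n = (θ : N → ℂ) n) :
    ∃ η : Cfsg.IrrCharacter G, (∀ n : N, (η : G → ℂ) n = (θ : N → ℂ) n) ∧ η ∈ Cfsg.principalBlock M G := by
  classical
  have := CfsgLib.Block.isPrime_of_pmodular hM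
  obtain ⟨η, hη⟩ := hext
  obtain ⟨d, ρ, hρ, hρθ⟩ := θ.2
  obtain ⟨σ, hσ, hσc⟩ := CfsgLib.Clifford.exists_rep_extension_top ρ
    (CfsgLib.Char.irr_isCharacter η.2) (fun m => by rw [hρθ]; exact hη m)
  have hconjχ : Cfsg.IsCharacter G (fun g => starRingEnd ℂ ((η : G → ℂ) g)) :=
    CfsgLib.Char.irr_isCharacter (CfsgLib.Char.isIrrCharacter_conj η.2)
  obtain ⟨σ', hσ', hσc'⟩ := CfsgLib.Clifford.exists_rep_extension_top ρ hconjχ (fun m => by
    show starRingEnd ℂ ((η : G → ℂ) m) = _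
    rw [hρθ, hη, Complex.conj_eq_iff_im.2 (hreal m)])
  obtain ⟨β, hβN, hβ⟩ := CfsgLib.Clifford.exists_twist ρ σ σ' hσ hσ'
  have hbar : ∀ g, starRingEnd ℂ ((η : G → ℂ) g) = (β g : ℂ) * (η : G → ℂ) g := fun g => by
    have h := congrFun hσc' g
    rw [← h, ← hσc, Representation.character, hβ, map_smul, smul_eq_mul]
    rfl
  have hfo : IsOfFinOrder β := isOfFinOrder_iff_pow_eq_one.2 ⟨Nat.card G, Nat.card_pos,
    MonoidHom.ext fun g => by rw [MonoidHom.pow_apply, ← map_pow, pow_card_eq_one', map_one]; rfl⟩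
  obtain ⟨e, m, hm, hord⟩ :=
    Nat.exists_eq_pow_mul_and_not_dvd hfo.orderOf_pos.ne' 2 (by norm_num)
  obtain ⟨i, rfl⟩ : ∃ i, m = 2 * i + 1 := ⟨m / 2, by omega⟩
  set μ : G →* ℂˣ := β ^ (i + 1) with hμ
  let χ : Cfsg.IrrCharacter G := ⟨_, CfsgLib.Char.isIrrCharacter_mul_linear η.2 μ⟩
  have hval : ∀ g, (χ : G → ℂ) g = (η : G → ℂ) g * (μ g : ℂ) ∨
      (χ : G → ℂ) g = (μ g : ℂ) * (η : G → ℂ) g := fun g => by
    first | exact Or.inl rfl | exact Or.inr rfl
  have hval' : ∀ g, (χ : G → ℂ) g = (μ g : ℂ) * (η : G → ℂ) g := fun g => by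
    rcases hval g with h | h
    · rw [h, mul_comm]
    · exact h
  have hres : ∀ n : N, (χ : G → ℂ) n = (θ : N → ℂ) n := fun n => by
    rw [hval', hμ, MonoidHom.pow_apply, hβN, one_pow, Units.val_one, one_mul, hη]
  refine ⟨χ, hres, ?_⟩
  have hdeg : Cfsg.charDegree (χ : G → ℂ) = Cfsg.charDegree (θ : N → ℂ) := by
    have := hres 1
    rw [OneMemClass.coe_one] at this
    simp only [Cfsg.charDegree, this]
  have hB := CfsgLib.Block.isPBlock_blockOf (M := M) χ
  have hχ := CfsgLib.Block.mem_blockOf_self (M := M) χ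
  rw [← CfsgLib.BlockA.eq_principalBlock_of_real hM hB ?_ hχ ?_]
  · exact hχ
  · have h0 : (Cfsg.charDegree (χ : G → ℂ)).factorization 2 = 0 := by
      rw [hdeg]
      exact Nat.factorization_eq_zero_of_not_dvd (Nat.odd_iff.1 hodd |> fun h => by omega)
    have h2 := CfsgLib.Block.sInf_degree_add_blockDefect hM hB
    have h3 : sInf ((fun φ : Cfsg.IrrCharacter G => (Cfsg.charDegree (φ : G → ℂ)).factorization 2)
        '' Cfsg.blockOf M (χ : G → ℂ)) ≤ 0 := h0 ▸ Nat.sInf_le ⟨χ, hχ, rfl⟩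
    omega
  · intro g hg
    -- the correcting linear character is trivial at elements of odd order
    have hβg : (β g) ^ (2 * i + 1) = 1 := by
      have h1 : ((β g) ^ (2 * i + 1)) ^ 2 ^ e = 1 := by
        rw [← pow_mul, mul_comm, ← hord, ← MonoidHom.pow_apply, pow_orderOf_eq_one]; rfl
      have h2 : ((β g) ^ (2 * i + 1)) ^ orderOf g = 1 := by
        rw [pow_right_comm, ← map_pow, pow_orderOf_eq_one, map_one, one_pow]
      have h3 := pow_gcd_eq_one.2 ⟨h1, h2⟩
      rwa [(Nat.Coprime.pow_left e ((Nat.prime_two.coprime_iff_not_dvd).2 hg)).gcd_eq_one,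
        pow_one] at h3
    have e1 : (χ : G → ℂ) g⁻¹ = (χ : G → ℂ) g := by
      rw [hval', hval', ← CfsgLib.Block.irr_conj_eq η.2, hbar, map_inv, ← mul_assoc,
        ← Units.val_mul, hμ, MonoidHom.pow_apply]
      congr 2
      rw [inv_mul_eq_iff_eq_mul, ← pow_add, show i + 1 + (i + 1) = (2 * i + 1) + 1 by ring,
        pow_succ, hβg, one_mul]
    simp only [Cfsg.centralChar, CfsgLib.BlockA.centralizer_inv_eq, e1, sub_self]
    exact CfsgLib.Block.memLocalIdeal_zero

end Cfsg.Agent.S4580
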