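import Cfsg.Statements.S4581
import Cfsg.Agent.Lib.BlockB.RealOddDegree
import Cfsg.Agent.Lib.BlockB.RelMcKay
import Cfsg.Agent.Lib.StructC.BurnsideBasis
import Cfsg.Agent.Lib.Solvable.Frattini2

set_option autoImplicit false
open Cfsg
open scoped commutatorElement
set_option linter.style.haveILetI false

namespace Cfsg.Agent.S4581

/-- Let G be a finite solvable group, P a Sylow 2-subgroup and N its normalizer. Then G and N have the same number of real-valued irreducible characters of odd degree; and every odd-degree irreducible character of G is real-valued exactly when the derived subgroup of P equals the Frattini subgroup of P and P is its own normalizer in G. -/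
theorem result {G : Type*} [Group G] [Finite G] [Group.IsSolvable G] (P : Sylow 2 G) :
    Nat.card {χ : Cfsg.IrrCharacter G // (∀ g : G, ((χ : G → ℂ) g).im = 0) ∧ Odd (Cfsg.charDegree (χ : G → ℂ))} =
      Nat.card {ψ : Cfsg.IrrCharacter (Subgroup.normalizer ((P : Subgroup G) : Set G)) // (∀ g, ((ψ : Subgroup.normalizer ((P : Subgroup G) : Set G) → ℂ) g).im = 0) ∧ Odd (Cfsg.charDegree (ψ : Subgroup.normalizer ((P : Subgroup G) : Set G) → ℂ))} ∧
    ((∀ χ : Cfsg.IrrCharacter G, Odd (Cfsg.charDegree (χ : G → ℂ)) → ∀ g : G, ((χ : G → ℂ) g).im = 0) ↔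
      (commutator (P : Subgroup G) = frattini (P : Subgroup G) ∧ Subgroup.normalizer ((P : Subgroup G) : Set G) = (P : Subgroup G))) := by
  classical
  haveI := Fintype.ofFinite G
  set N := Subgroup.normalizer ((P : Subgroup G) : Set G) with hN
  haveI := Fintype.ofFinite N
  haveI := Fintype.ofFinite (P : Subgroup G)
  have hsol : Group.IsSolvable G := inferInstance
  have hcnt := CfsgLib.BlockB.RealOddDegree.cnt_eq (Nat.card G + 1) G hsol (Nat.lt_succ_self _) P
  refine ⟨hcnt, ?_⟩
  -- the McKay count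
  obtain ⟨k, hk⟩ := CfsgLib.PLength.isPSolvable_of_isSolvable (p := 2) _ G le_rfl hsol
  haveI := Fintype.ofFinite (⊥ : Subgroup G)
  have hbotN : (⊥ : Subgroup G) ≤ N := bot_le
  have hmk := CfsgLib.BlockB.McKay.main_all ((⊥ : Subgroup G).index + 1) G hk.isPSolvable ⊥ P N
    (by rw [hN, bot_sup_eq]) hbotN (fun _ => 1) CfsgLib.Char.isIrrCharacter_one
    (fun s _ k k' _ => rfl) (Nat.lt_succ_self _)
  have hover : ∀ {B : Type _} [Group B] [Finite B] (f : (⊥ : Subgroup G) →* B)
      (χ : Cfsg.IrrCharacter B),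
      (¬ 2 ∣ Cfsg.charDegree (χ : B → ℂ) ∧
        Cfsg.classInner ((χ : B → ℂ) ∘ f) (fun _ => (1 : ℂ)) ≠ 0) ↔
      Odd (Cfsg.charDegree (χ : B → ℂ)) := by
    intro B _ _ f χ
    refine ⟨fun h => Nat.not_even_iff_odd.1 fun he => h.1 (even_iff_two_dvd.1 he), fun h =>
      ⟨fun hd => Nat.not_even_iff_odd.2 h (even_iff_two_dvd.2 hd), ?_⟩⟩
    have e : ((χ : B → ℂ) ∘ f) = (χ : B → ℂ) 1 • (fun _ => (1 : ℂ)) := funext fun x => by
      rw [show x = 1 from Subtype.ext (Subgroup.mem_bot.1 x.2)]
      simp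
    rw [e, CfsgLib.Char.classInner_smul_left,
      CfsgLib.Char.irr_classInner_self CfsgLib.Char.isIrrCharacter_one, mul_one]
    exact CfsgLib.Char.irr_apply_one_ne_zero χ.2
  have hodd : Nat.card {χ : Cfsg.IrrCharacter G // Odd (Cfsg.charDegree (χ : G → ℂ))} =
      Nat.card {χ : Cfsg.IrrCharacter N // Odd (Cfsg.charDegree (χ : N → ℂ))} := by
    refine Eq.trans (Nat.card_congr (Equiv.subtypeEquivRight fun χ =>
      (hover (⊥ : Subgroup G).subtype χ).symm)) (hmk.trans ?_)
    exact Nat.card_congr (Equiv.subtypeEquivRight fun χ => hover (Subgroup.inclusion hbotN) χ)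
  -- all odd-degree characters are real exactly when the counts agree
  have hall : ∀ (B : Type _) [Group B] [Finite B],
      (∀ χ : Cfsg.IrrCharacter B, Odd (Cfsg.charDegree (χ : B → ℂ)) →
        ∀ g : B, ((χ : B → ℂ) g).im = 0) ↔
      CfsgLib.BlockB.RealOddDegree.cnt B =
        Nat.card {χ : Cfsg.IrrCharacter B // Odd (Cfsg.charDegree (χ : B → ℂ))} := by
    intro B _ _
    refine ⟨fun h => Nat.card_congr (Equiv.subtypeEquivRight fun χ =>
      ⟨fun hh => hh.2, fun hh => ⟨h χ hh, hh⟩⟩), fun h χ hχ => ?_⟩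
    let F : {χ : Cfsg.IrrCharacter B // CfsgLib.BlockB.RealOddDegree.RO (χ : B → ℂ)} →
        {χ : Cfsg.IrrCharacter B // Odd (Cfsg.charDegree (χ : B → ℂ))} := fun z => ⟨z.1, z.2.2⟩
    obtain ⟨z, hz⟩ := ((Nat.bijective_iff_injective_and_card F).2
      ⟨fun a b hab => Subtype.ext (congrArg (fun z => z.1) hab), h⟩).2 ⟨χ, hχ⟩
    have hz1 : z.1 = χ := congrArg Subtype.val hz
    exact hz1 ▸ z.2.1
  rw [hall G, hodd, hcnt, ← hall N]
  constructor
  · intro h
    -- the normalizer is the Sylow subgroup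
    have hNP : N = (P : Subgroup G) := by
      refine le_antisymm (fun x hx => ?_) Subgroup.le_normalizer
      set P' := (P : Subgroup G).subgroupOf N with hP'
      haveI : P'.Normal := Subgroup.normal_subgroupOf_of_le_normalizer le_rfl
      haveI := Fintype.ofFinite (N ⧸ P')
      have hoddQ : Odd (Nat.card (N ⧸ P')) := by
        refine Nat.not_even_iff_odd.1 fun he => P.not_dvd_index ?_
        rw [← Subgroup.index_eq_card] at he
        refine (even_iff_two_dvd.1 he).trans ?_
        rw [← Subgroup.relIndex_mul_index (Subgroup.le_normalizer (H := (P : Subgroup G)))]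
        exact dvd_mul_right _ _
      have htriv : ∀ γ : Cfsg.IrrCharacter (N ⧸ P'), (γ : N ⧸ P' → ℂ) = fun _ => 1 := fun γ => by
        refine CfsgLib.Char.eq_one_of_real_odd hoddQ γ.2 fun w => ?_
        obtain ⟨n, rfl⟩ := QuotientGroup.mk'_surjective P' w
        refine h ⟨_, CfsgLib.Char.isIrrCharacter_comp_surjective γ.2 (QuotientGroup.mk' P')
          (QuotientGroup.mk'_surjective P')⟩ ?_ n
        show Odd (Cfsg.charDegree ((γ : N ⧸ P' → ℂ) ∘ QuotientGroup.mk' P'))
        rw [Cfsg.charDegree, Function.comp_apply, map_one]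
        exact hoddQ.of_dvd_nat (CfsgLib.Clifford.Degrees.charDegree_dvd_card γ.2)
      by_contra hxP
      obtain ⟨γ, hγ⟩ := CfsgLib.Char.exists_irr_apply_ne
        (g := QuotientGroup.mk' P' ⟨x, hx⟩) (fun h1 => hxP ((QuotientGroup.eq_one_iff (N := P') (⟨x, hx⟩ : N)).1 h1))
      exact hγ (by rw [htriv γ])
    refine ⟨le_antisymm ?_ fun x hx => ?_, hNP⟩
    · haveI : Group.IsNilpotent (P : Subgroup G) := P.2.isNilpotent
      exact CfsgLib.Solvable.commutator_le_frattini
    · -- linear characters take values ±1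
      let e : N ≃* (P : Subgroup G) := MulEquiv.subgroupCongr hNP
      have hlin : ∀ lam : (P : Subgroup G) →* ℂˣ, ∀ y, lam y = 1 ∨ lam y = -1 := by
        intro lam y
        have hr := h ⟨_, CfsgLib.Char.isIrrCharacter_comp_surjective
          (CfsgLib.Char.isIrrCharacter_linear lam) e.toMonoidHom e.surjective⟩ (by
            show Odd (Cfsg.charDegree ((fun y => (lam y : ℂ)) ∘ e))
            simp [Cfsg.charDegree]) (e.symm y)
        simp only [Function.comp_apply, MulEquiv.coe_toMonoidHom, e.apply_symm_apply] at hr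
        have h1 := CfsgLib.Char.char_inv
          (CfsgLib.Char.irr_isCharacter (CfsgLib.Char.isIrrCharacter_linear lam)) y
        rw [Complex.conj_eq_iff_im.2 hr] at h1
        rcases mul_self_eq_one_iff.1 (show ((lam y : ℂˣ) : ℂ) * (lam y : ℂˣ) = 1 by
          nth_rewrite 1 [← h1]
          rw [← Units.val_mul, ← map_mul, inv_mul_cancel, map_one, Units.val_one]) with h2 | h2
        · exact Or.inl (Units.ext h2)
        · exact Or.inr (Units.ext h2)
      by_contra hxc
      haveI : (commutator (P : Subgroup G)).Normal := inferInstance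
      have hab : ∀ a b : (P : Subgroup G) ⧸ commutator (P : Subgroup G), a * b = b * a := by
        intro a b
        obtain ⟨a, rfl⟩ := QuotientGroup.mk'_surjective _ a
        obtain ⟨b, rfl⟩ := QuotientGroup.mk'_surjective _ b
        rw [← map_mul, ← map_mul]
        refine (QuotientGroup.eq).2 ?_
        have : (a * b)⁻¹ * (b * a) = ⁅b⁻¹, a⁻¹⁆ := by
          rw [commutatorElement_def, inv_inv, inv_inv]; group
        rw [this, commutator_def]
        exact Subgroup.commutator_mem_commutator (Subgroup.mem_top _) (Subgroup.mem_top _)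
      obtain ⟨lam, hlam⟩ := CfsgLib.Char.exists_linear_ne_one hab
        (g := QuotientGroup.mk' (commutator (P : Subgroup G)) x)
        (fun h1 => hxc ((QuotientGroup.eq_one_iff _).1 h1))
      let μ := lam.comp (QuotientGroup.mk' (commutator (P : Subgroup G)))
      have hne : μ.ker ≠ ⊤ := fun e => hlam (MonoidHom.mem_ker.1 (e ▸ Subgroup.mem_top x : x ∈ μ.ker))
      obtain ⟨M, hM, hle⟩ := (eq_top_or_exists_le_coatom μ.ker).resolve_left hne
      have hxM : x ∈ M := frattini_le_coatom hM hx
      refine hM.1 (top_le_iff.1 fun y _ => ?_)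
      have hμx : μ x = -1 := (hlin μ x).resolve_left fun h1 => hlam h1
      rcases hlin μ y with hy | hy
      · exact hle (MonoidHom.mem_ker.2 hy)
      · rw [show y = y * x * x⁻¹ by group]
        refine M.mul_mem (hle (MonoidHom.mem_ker.2 ?_)) (M.inv_mem hxM)
        rw [map_mul, hy, hμx, neg_mul_neg, one_mul]
  · rintro ⟨hPhi, hNP⟩ χ hχ g
    let e : N ≃* (P : Subgroup G) := MulEquiv.subgroupCongr hNP
    obtain ⟨a, ha⟩ := IsPGroup.iff_card.1 P.2
    have hd := CfsgLib.Clifford.Degrees.charDegree_dvd_card χ.2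
    rw [Nat.card_congr e.toEquiv, ha] at hd
    obtain ⟨b, -, hb⟩ := (Nat.dvd_prime_pow Nat.prime_two).1 hd
    have h1 : (χ : N → ℂ) 1 = 1 := by
      rw [← CfsgLib.BlockB.irr_degree_cast, hb]
      rcases Nat.eq_zero_or_pos b with rfl | hb0
      · simp
      · rw [hb] at hχ
        exact absurd hχ (Nat.not_odd_iff_even.2 ((Nat.even_pow' hb0.ne').2 even_two))
    obtain ⟨lam, hlam⟩ := CfsgLib.Clifford.exists_hom_of_linear
      (CfsgLib.Char.irr_isCharacter χ.2) h1
    have hsq : lam g * lam g = 1 := by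
      have h2 : e g ^ 2 ∈ commutator (P : Subgroup G) :=
        hPhi ▸ CfsgLib.StructC.pow_mem_frattini P.2 (e g)
      have h3 : (lam.comp e.symm.toMonoidHom) (e g ^ 2) = 1 :=
        MonoidHom.mem_ker.1 (Abelianization.commutator_subset_ker _ h2)
      rwa [map_pow, MonoidHom.comp_apply, MulEquiv.coe_toMonoidHom, e.symm_apply_apply, sq] at h3
    rw [← hlam g]
    rcases mul_self_eq_one_iff.1 (show ((lam g : ℂˣ) : ℂ) * (lam g : ℂˣ) = 1 by
      rw [← Units.val_mul, hsq, Units.val_one]) with h2 | h2 <;> simp [h2]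

end Cfsg.Agent.S4581
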