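import Cfsg.Statements.S4582
import Mathlib.GroupTheory.Transfer
-- import your own Cfsg.Agent.* helpers here

set_option autoImplicit false
open Cfsg

namespace Cfsg.Agent.S4582

/-- Let N be a normal subgroup of the finite group G, P a Sylow 2-subgroup of G and Q = P ∩ N. Suppose that P/QP' and Q/Q' are elementary abelian (every square of an element of P lies in the subgroup generated by Q and the derived subgroup of P, and every square of an element of Q lies in the derived subgroup of Q), and that the commutator factor group N/N' has odd order. Then P/P' is elementary abelian. -/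
theorem result {G : Type*} [Group G] [Finite G] (N : Subgroup G) [N.Normal] (P : Sylow 2 G)
    (hP : ∀ x ∈ (P : Subgroup G), x ^ 2 ∈ ((P : Subgroup G) ⊓ N) ⊔ ⁅(P : Subgroup G), (P : Subgroup G)⁆)
    (hQ : ∀ x ∈ (P : Subgroup G) ⊓ N, x ^ 2 ∈ ⁅(P : Subgroup G) ⊓ N, (P : Subgroup G) ⊓ N⁆)
    (hodd : Odd (Nat.card (Abelianization N))) :
    ∀ x ∈ (P : Subgroup G), x ^ 2 ∈ ⁅(P : Subgroup G), (P : Subgroup G)⁆ := by
  classical
  intro x hx
  have hP1 : (P : Subgroup G) ≤ N ⊔ (P : Subgroup G) := le_sup_right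
  set H : Subgroup G := N ⊔ (P : Subgroup G) with hH
  let e : ((P : Subgroup G).subgroupOf H) ≃* (P : Subgroup G) := Subgroup.subgroupOfEquivOfLe hP1
  let a : (P : Subgroup G) →* Abelianization (P : Subgroup G) := Abelianization.of
  let φ : ((P : Subgroup G).subgroupOf H) →* Abelianization (P : Subgroup G) :=
    a.comp e.toMonoidHom
  have hcomm : ∀ z : G, ∀ hz : z ∈ (P : Subgroup G),
      z ∈ ⁅(P : Subgroup G), (P : Subgroup G)⁆ → a ⟨z, hz⟩ = 1 := by
    intro z hz hzc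
    rw [← Subgroup.map_subtype_commutator] at hzc
    obtain ⟨w, hw, rfl⟩ := hzc
    exact (QuotientGroup.eq_one_iff w).2 hw
  have hsq : ∀ z : G, ∀ hz : z ∈ (P : Subgroup G),
      z ∈ ((P : Subgroup G) ⊓ N) ⊔ ⁅(P : Subgroup G), (P : Subgroup G)⁆ → a ⟨z, hz⟩ ^ 2 = 1 := by
    intro z hz hz'
    let S : Subgroup G := ((powMonoidHom 2).comp a).ker.map (P : Subgroup G).subtype
    have hle : ((P : Subgroup G) ⊓ N) ⊔ ⁅(P : Subgroup G), (P : Subgroup G)⁆ ≤ S := by
      refine sup_le (fun q hq => ?_) (fun q hq => ?_)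
      · refine ⟨⟨q, hq.1⟩, ?_, rfl⟩
        show a ⟨q, hq.1⟩ ^ 2 = 1
        rw [← map_pow]
        exact hcomm _ _ (Subgroup.commutator_mono inf_le_left inf_le_left (hQ q hq))
      · have hqP : q ∈ (P : Subgroup G) := Subgroup.commutator_le.2
          (fun u hu v hv => mul_mem (mul_mem (mul_mem hu hv) (inv_mem hu)) (inv_mem hv)) hq
        refine ⟨⟨q, hqP⟩, ?_, rfl⟩
        show a ⟨q, hqP⟩ ^ 2 = 1
        rw [hcomm q hqP hq, one_pow]
    obtain ⟨w, hw, rfl⟩ := hle hz'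
    exact hw
  let V : H →* Abelianization (P : Subgroup G) := MonoidHom.transfer φ
  have htwo : ∀ b : Abelianization (P : Subgroup G), ∃ k : ℕ, b ^ 2 ^ k = 1 := fun b => by
    obtain ⟨w, hw⟩ : ∃ w, a w = b := QuotientGroup.mk'_surjective _ b
    obtain ⟨k, hk⟩ := P.2 w
    exact ⟨k, by rw [← hw, ← map_pow, hk, map_one]⟩
  have hVN : ∀ n : G, ∀ hn : n ∈ N, V ⟨n, Subgroup.mem_sup_left hn⟩ = 1 := by
    intro n hn
    let f : N →* Abelianization (P : Subgroup G) := V.comp (Subgroup.inclusion le_sup_left)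
    have h1 : f ⟨n, hn⟩ = Abelianization.lift f (Abelianization.of ⟨n, hn⟩) :=
      (Abelianization.lift_apply_of f _).symm
    have hd : orderOf (f ⟨n, hn⟩) ∣ Nat.card (Abelianization N) := by
      rw [h1]
      exact (orderOf_map_dvd _ _).trans (orderOf_dvd_natCard _)
    obtain ⟨k, hk⟩ := htwo (f ⟨n, hn⟩)
    have hc : Nat.Coprime (2 ^ k) (Nat.card (Abelianization N)) :=
      Nat.Coprime.pow_left k (Nat.coprime_two_left.2 hodd)
    exact orderOf_eq_one_iff.1 (Nat.eq_one_of_dvd_coprimes hc (orderOf_dvd_of_pow_eq_one hk) hd)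
  set g : H := ⟨x, hP1 hx⟩ with hg
  set c := a ⟨x, hx⟩ with hc
  have hc4 : (c ^ 2) ^ 2 = 1 := by
    have h := hsq (x ^ 2) (pow_mem hx 2) (hP x hx)
    have e2 : (⟨x ^ 2, pow_mem hx 2⟩ : (P : Subgroup G)) = ⟨x, hx⟩ ^ 2 := rfl
    rw [e2, map_pow] at h
    exact h
  have hV1 : V g ^ 2 = 1 := by
    have hker : ((P : Subgroup G) ⊓ N) ⊔ ⁅(P : Subgroup G), (P : Subgroup G)⁆ ≤
        V.ker.map H.subtype := by
      refine sup_le (fun q hq => ⟨⟨q, Subgroup.mem_sup_left hq.2⟩, hVN q hq.2, rfl⟩) ?_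
      refine Subgroup.commutator_le.2 fun u hu v hv =>
        ⟨(⟨u, hP1 hu⟩ : H) * ⟨v, hP1 hv⟩ * (⟨u, hP1 hu⟩ : H)⁻¹ * (⟨v, hP1 hv⟩ : H)⁻¹, ?_, rfl⟩
      rw [SetLike.mem_coe, MonoidHom.mem_ker]
      simp only [map_mul, map_inv]
      rw [mul_right_comm (V ⟨u, _⟩), mul_inv_cancel, one_mul, mul_inv_cancel]
    obtain ⟨w, hw, hw2⟩ := hker (hP x hx)
    have : w = g ^ 2 := Subtype.ext hw2
    rw [← map_pow, ← this]
    exact hw
  have hterm : ∀ (m : ℕ) (y : H) (hy : y⁻¹ * g ^ m * y ∈ (P : Subgroup G).subgroupOf H),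
      φ ⟨y⁻¹ * g ^ m * y, hy⟩ ^ 2 = (c ^ 2) ^ m := by
    intro m y hy
    obtain ⟨n, hn, u, hu, hnu⟩ := Subgroup.mem_sup_of_normal_left.1 y.2
    have hnu' : n * u = (y : G) := hnu
    set z : G := (y : G)⁻¹ * x ^ m * y with hz
    have hzP : z ∈ (P : Subgroup G) := hy
    set z' : G := u⁻¹ * x ^ m * u with hz'
    have hz'P : z' ∈ (P : Subgroup G) := mul_mem (mul_mem (inv_mem hu) (pow_mem hx m)) hu
    have hN : z'⁻¹ * z ∈ N := by
      rw [← QuotientGroup.eq_one_iff]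
      have e1 : ((y : G) : G ⧸ N) = (u : G ⧸ N) := by
        rw [← hnu', QuotientGroup.mk_mul, (QuotientGroup.eq_one_iff n).2 hn, one_mul]
      simp only [hz, hz', QuotientGroup.mk_mul, QuotientGroup.mk_inv, QuotientGroup.mk_pow, e1]
      group
    have hq := hsq (z'⁻¹ * z) (mul_mem (inv_mem hz'P) hzP)
      (Subgroup.mem_sup_left (Subgroup.mem_inf.2 ⟨Subgroup.mul_mem _ (Subgroup.inv_mem _ hz'P) hzP, hN⟩))
    have e3 : (⟨z, hzP⟩ : (P : Subgroup G)) =
        ⟨u, hu⟩⁻¹ * ⟨x, hx⟩ ^ m * ⟨u, hu⟩ * ⟨z'⁻¹ * z, mul_mem (inv_mem hz'P) hzP⟩ := by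
      apply Subtype.ext
      show z = z' * (z'⁻¹ * z)
      group
    show a ⟨z, hzP⟩ ^ 2 = _
    rw [e3, map_mul, map_mul, map_mul, map_inv, map_pow, mul_pow, hq, mul_one,
      mul_right_comm, inv_mul_cancel, one_mul, ← pow_mul, mul_comm, pow_mul, hc]
  have hfin : Fintype (Quotient (MulAction.orbitRel (Subgroup.zpowers g)
      (H ⧸ (P : Subgroup G).subgroupOf H))) := Fintype.ofFinite _
  have hprod : V g ^ 2 = (c ^ 2) ^ ((P : Subgroup G).subgroupOf H).index := by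
    show MonoidHom.transfer φ g ^ 2 = _
    rw [MonoidHom.transfer_eq_prod_quotient_orbitRel_zpowers_quot φ g, ← Finset.prod_pow]
    simp only [hterm, Finset.prod_pow_eq_pow_sum]
    congr 1
    have := Fintype.ofFinite (H ⧸ (P : Subgroup G).subgroupOf H)
    rw [Subgroup.index,
      Nat.card_congr (Subgroup.quotientEquivSigmaZMod ((P : Subgroup G).subgroupOf H) g),
      Nat.card_sigma]
    exact Finset.sum_congr rfl fun q _ => (Nat.card_zmod _).symm
  have hodd' : Odd ((P : Subgroup G).subgroupOf H).index := by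
    rw [← Nat.not_even_iff_odd, even_iff_two_dvd]
    exact fun h => P.not_dvd_index (h.trans ((Subgroup.relIndex_dvd_index_of_le hP1)))
  obtain ⟨j, hj⟩ := hodd'
  rw [hV1, hj, pow_succ (c ^ 2) (2 * j), pow_mul (c ^ 2) 2 j, hc4, one_pow, one_mul] at hprod
  have hker : (⟨x, hx⟩ : (P : Subgroup G)) ^ 2 ∈ commutator (P : Subgroup G) :=
    (QuotientGroup.eq_one_iff _).1 (by change a (⟨x, hx⟩ ^ 2) = 1; rw [map_pow]; exact hprod.symm)
  rw [← Subgroup.map_subtype_commutator]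
  exact ⟨_, hker, rfl⟩

end Cfsg.Agent.S4582
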