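import Cfsg.Statements.S4583
import Cfsg.Agent.Lib.BlockB.PrincipalLambda
import Cfsg.Agent.Lib.BlockB.PrincipalKer

set_option autoImplicit false
open Cfsg CfsgLib.Block CfsgLib.BlockB

namespace Cfsg.Agent.S4583

/-- Let N be a normal subgroup of the finite group G, p a prime, M a maximal ideal of the algebraic integers containing p, and P a Sylow p-subgroup of G. Let θ be an irreducible character of N of degree prime to p lying in the principal p-block of N, and suppose θ extends to the subgroup NP (some irreducible character of NP restricts to θ). Then some irreducible character χ of G of degree prime to p in the principal p-block of G lies over θ (θ is a constituent of the restriction of χ to N). -/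
theorem result {G : Type*} [Group G] [Finite G] (N : Subgroup G) [N.Normal] (p : ℕ) [Fact p.Prime] (M : Ideal Cfsg.AlgInt) (hM : Cfsg.IsPModular p M) (P : Sylow p G)
    (θ : Cfsg.IrrCharacter N) (hθ : θ ∈ Cfsg.principalBlock M N) (hdeg : ¬ p ∣ Cfsg.charDegree (θ : N → ℂ))
    (hext : ∃ η : Cfsg.IrrCharacter ↥(N ⊔ (P : Subgroup G)), ∀ n : N, (η : ↥(N ⊔ (P : Subgroup G)) → ℂ) (Subgroup.inclusion le_sup_left n) = (θ : N → ℂ) n) :
    ∃ χ : Cfsg.IrrCharacter G, χ ∈ Cfsg.principalBlock M G ∧ ¬ p ∣ Cfsg.charDegree (χ : G → ℂ) ∧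
      haveI := Fintype.ofFinite N; Cfsg.classInner (fun n : N => (χ : G → ℂ) n) (θ : N → ℂ) ≠ 0 := by
  classical
  have key : ∀ (G' : Type _) [Group G'] [Fintype G'] (χ : Cfsg.IrrCharacter G'),
      χ ∈ Cfsg.principalBlock M G' →
      (¬ Cfsg.MemLocalIdeal M (regTotal p (χ : G' → ℂ)) ↔ ¬ p ∣ Cfsg.charDegree (χ : G' → ℂ)) := by
    intro G' _ _ χ hχ
    have := hM.2.1.isPrime
    have h := CfsgLib.BlockA.not_memLocalIdeal_regPair_iff (p := p) hM isPBlock_principalBlock
      (χ := χ) (ξ := ⟨fun _ => 1, CfsgLib.Char.isIrrCharacter_one⟩) hχ one_mem_principalBlock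
    rw [principal_height_zero_iff hM.1] at h
    rw [← h]
    simp [CfsgLib.BlockA.regPair, regTotal]
  have := hM.2.1.isPrime
  have := Fintype.ofFinite G
  have := Fintype.ofFinite N
  have := Fintype.ofFinite (Cfsg.IrrCharacter G)
  set H : Subgroup G := N ⊔ (P : Subgroup G) with hH
  have := Fintype.ofFinite H
  obtain ⟨η, hη⟩ := hext
  -- the regular elements of the extension lie in the normal subgroup
  have hreg : ∀ h : H, ¬ p ∣ orderOf h → (h : G) ∈ N := by
    intro h hh
    obtain ⟨n, hn, u, hu, hnu⟩ := Subgroup.mem_sup_of_normal_left.1 h.2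
    have h1 : ((h : G) : G ⧸ N) = (u : G ⧸ N) := by
      rw [← hnu, QuotientGroup.mk_mul, (QuotientGroup.eq_one_iff n).2 hn, one_mul]
    obtain ⟨k, hk⟩ := P.2 ⟨u, hu⟩
    have hk' : u ^ p ^ k = 1 := congrArg Subtype.val hk
    have h2 : orderOf ((h : G) : G ⧸ N) ∣ p ^ k := by
      rw [h1]
      exact (orderOf_map_dvd (QuotientGroup.mk' N) u).trans (orderOf_dvd_of_pow_eq_one hk')
    have h3 : orderOf ((h : G) : G ⧸ N) ∣ orderOf h := by
      rw [← Subgroup.orderOf_coe]
      exact orderOf_map_dvd (QuotientGroup.mk' N) (h : G)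
    rw [← QuotientGroup.eq_one_iff, ← orderOf_eq_one_iff]
    exact Nat.eq_one_of_dvd_coprimes
      (Nat.Coprime.pow_left k (hM.1.coprime_iff_not_dvd.2 hh)) h2 h3
  have htot : CfsgLib.BlockB.regTotal p (η : H → ℂ) = CfsgLib.BlockB.regTotal p (θ : N → ℂ) := by
    unfold CfsgLib.BlockB.regTotal
    symm
    refine Finset.sum_bij_ne_zero (fun n _ _ => Subgroup.inclusion le_sup_left n)
      (fun _ _ _ => Finset.mem_univ _) (fun a _ _ b _ _ h => Subgroup.inclusion_injective _ h)
      (fun h _ hne => ?_) (fun n _ _ => ?_)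
    · have hr : ¬ p ∣ orderOf h := fun hd => hne (by simp [CfsgLib.BlockA.regInd, hd])
      refine ⟨⟨(h : G), hreg h hr⟩, Finset.mem_univ _, ?_, rfl⟩
      have ho : orderOf (⟨(h : G), hreg h hr⟩ : N) = orderOf h := by
        rw [Subgroup.orderOf_mk, Subgroup.orderOf_coe]
      have e : (η : H → ℂ) h = (θ : N → ℂ) ⟨(h : G), hreg h hr⟩ := hη ⟨(h : G), hreg h hr⟩
      rw [e] at hne
      simpa [CfsgLib.BlockA.regInd, ho] using hne
    · have ho : orderOf (Subgroup.inclusion (le_sup_left : N ≤ N ⊔ (P : Subgroup G)) n) =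
          orderOf n := orderOf_injective _ (Subgroup.inclusion_injective _) n
      rw [hη n]
      simp only [CfsgLib.BlockA.regInd, ho]
  have hidx : ¬ p ∣ H.index := fun h =>
    P.not_dvd_index (h.trans (Subgroup.index_dvd_of_le le_sup_right))
  -- induce
  set ξ := Cfsg.indFun H (η : H → ℂ) with hξ
  have hrec := CfsgLib.Char.frobenius_reciprocity H (η : H → ℂ) (CfsgLib.BlockA.regInd p)
    (CfsgLib.BlockA.regInd_isClassFunction p)
  have hreal : ∀ (K : Type _) [Group K] (x : K),
      (starRingEnd ℂ) (CfsgLib.BlockA.regInd p x) = CfsgLib.BlockA.regInd p x := fun K _ x => by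
    unfold CfsgLib.BlockA.regInd; split_ifs <;> simp
  have hξtot : CfsgLib.BlockB.regTotal p ξ = (H.index : ℂ) * CfsgLib.BlockB.regTotal p (θ : N → ℂ) := by
    rw [CfsgLib.Char.classInner_def, CfsgLib.Char.classInner_def] at hrec
    have e1 : CfsgLib.BlockB.regTotal p ξ =
        ∑ g : G, ξ g * (starRingEnd ℂ) (CfsgLib.BlockA.regInd p g) :=
      Finset.sum_congr rfl fun g _ => by rw [hreal, mul_comm]
    have e2 : CfsgLib.BlockB.regTotal p (η : H → ℂ) =
        ∑ h : H, (η : H → ℂ) h * (starRingEnd ℂ) (CfsgLib.BlockA.regInd p (h : G)) :=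
      Finset.sum_congr rfl fun h _ => by
        rw [hreal, mul_comm]
        simp [CfsgLib.BlockA.regInd, Subgroup.orderOf_coe]
    have hG0 : (Nat.card G : ℂ) ≠ 0 := Nat.cast_ne_zero.2 Nat.card_pos.ne'
    have hH0 : (Nat.card H : ℂ) ≠ 0 := Nat.cast_ne_zero.2 Nat.card_pos.ne'
    rw [← htot, e1, e2]
    have hc : (H.index : ℂ) * (Nat.card H : ℂ) = (Nat.card G : ℂ) := by
      exact_mod_cast H.index_mul_card
    rw [← hξ, ← hc, mul_inv, mul_assoc] at hrec
    have hi0 : (H.index : ℂ) ≠ 0 := Nat.cast_ne_zero.2 Subgroup.index_ne_zero_of_finite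
    have h4 := mul_left_cancel₀ (inv_ne_zero hH0)
      ((mul_left_comm _ _ _).trans hrec)
    rw [← h4, mul_inv_cancel_left₀ hi0]
  have hθu : ¬ Cfsg.MemLocalIdeal M (CfsgLib.BlockB.regTotal p ξ) := by
    rw [hξtot]
    intro h
    refine (key N θ hθ).2 hdeg ?_
    have h2 := CfsgLib.Block.memLocalIdeal_mul_left
      (CfsgLib.Block.memLocalRing_inv_natCast hM hidx) h
    rwa [inv_mul_cancel_left₀ (Nat.cast_ne_zero.2 Subgroup.index_ne_zero_of_finite)] at h2
  by_contra hcon
  push Not at hcon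
  apply hθu
  have hexp : CfsgLib.BlockB.regTotal p ξ = ∑ χ : Cfsg.IrrCharacter G,
      Cfsg.classInner ξ (χ : G → ℂ) * CfsgLib.BlockB.regTotal p (χ : G → ℂ) := by
    unfold CfsgLib.BlockB.regTotal
    simp only [Finset.mul_sum]
    rw [Finset.sum_comm]
    refine Finset.sum_congr rfl fun g _ => ?_
    rw [show ξ g = _ from CfsgLib.Char.classFunction_apply_eq_sum
      (CfsgLib.Char.indFun_isClassFunction H (η : H → ℂ)) g, Finset.mul_sum]
    exact Finset.sum_congr rfl fun χ _ => by ring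
  rw [hexp]
  refine CfsgLib.Block.memLocalIdeal_sum _ _ fun χ _ => ?_
  have hm := CfsgLib.Char.classInner_isCharacter_nat (CfsgLib.Char.irr_isCharacter η.2)
    (CfsgLib.Char.isCharacter_restrict (CfsgLib.Char.irr_isCharacter χ.2) H)
  rw [hξ, CfsgLib.Char.frobenius_reciprocity H _ _ (CfsgLib.Char.irr_isClassFunction χ.2)]
  obtain ⟨m, hm⟩ := hm
  rw [hm]
  rcases Nat.eq_zero_or_pos m with rfl | hm0
  · simpa using CfsgLib.Block.memLocalIdeal_zero
  refine CfsgLib.Block.memLocalIdeal_mul_left (CfsgLib.Block.memLocalRing_natCast _) ?_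
  by_cases hχ : χ ∈ Cfsg.principalBlock M G
  swap
  · rw [CfsgLib.BlockB.mem_principalBlock_iff_regTotal hM, not_not] at hχ
    rw [hχ]
    exact CfsgLib.Block.memLocalIdeal_zero
  by_cases hd : p ∣ Cfsg.charDegree (χ : G → ℂ)
  · by_contra h
    exact (key G χ hχ).1 h hd
  exfalso
  -- a member of degree prime to `p` above the extension lies above the character
  have h0 : Cfsg.classInner (fun n : N => (χ : G → ℂ) n) (θ : N → ℂ) = 0 := by
    convert hcon χ hχ hd
  have := Fintype.ofFinite (Cfsg.IrrCharacter H)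
  have hcf : Cfsg.IsClassFunction H (fun h : H => (χ : G → ℂ) h) := fun a b => by
    push_cast
    exact CfsgLib.Char.irr_isClassFunction χ.2 (a : G) (b : G)
  have hnat : ∀ φ : Cfsg.IrrCharacter H, ∃ k : ℕ,
      Cfsg.classInner (fun h : H => (χ : G → ℂ) h) (φ : H → ℂ) *
        Cfsg.classInner (fun n : N => (φ : H → ℂ) (Subgroup.inclusion le_sup_left n)) (θ : N → ℂ) =
          (k : ℂ) := by
    intro φ
    obtain ⟨k1, hk1⟩ := CfsgLib.Char.classInner_isCharacter_nat
      (CfsgLib.Char.isCharacter_restrict (CfsgLib.Char.irr_isCharacter χ.2) H)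
      (CfsgLib.Char.irr_isCharacter φ.2)
    obtain ⟨k2, hk2⟩ := CfsgLib.Char.classInner_isCharacter_nat
      (CfsgLib.Char.isCharacter_comp (CfsgLib.Char.irr_isCharacter φ.2)
        (Subgroup.inclusion (le_sup_left : N ≤ H))) (CfsgLib.Char.irr_isCharacter θ.2)
    exact ⟨k1 * k2, by rw [hk1, Nat.cast_mul]; exact congrArg _ hk2⟩
  choose k hk using hnat
  have hsum : Cfsg.classInner (fun n : N => (χ : G → ℂ) n) (θ : N → ℂ) =
      ((∑ φ : Cfsg.IrrCharacter H, k φ : ℕ) : ℂ) := by
    have e : (fun n : N => (χ : G → ℂ) n) = ∑ φ : Cfsg.IrrCharacter H,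
        fun n : N => Cfsg.classInner (fun h : H => (χ : G → ℂ) h) (φ : H → ℂ) *
          (φ : H → ℂ) (Subgroup.inclusion le_sup_left n) := funext fun n => by
      rw [Finset.sum_apply]
      exact CfsgLib.Char.classFunction_apply_eq_sum hcf (Subgroup.inclusion le_sup_left n)
    rw [e, CfsgLib.Char.classInner_sum_left, Nat.cast_sum]
    refine Finset.sum_congr rfl fun φ _ => ?_
    rw [← hk φ, CfsgLib.Char.classInner_def, CfsgLib.Char.classInner_def
      (fun n : N => (φ : H → ℂ) (Subgroup.inclusion le_sup_left n)), Finset.mul_sum,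
      Finset.mul_sum, Finset.mul_sum]
    exact Finset.sum_congr rfl fun n _ => by ring
  rw [hsum, Nat.cast_eq_zero, Finset.sum_eq_zero_iff] at h0
  have h5 := hk η
  rw [h0 η (Finset.mem_univ η), Nat.cast_zero,
    show (fun n : N => (η : H → ℂ) (Subgroup.inclusion le_sup_left n)) = (θ : N → ℂ) from funext hη,
    CfsgLib.Char.irr_classInner_self θ.2, mul_one, ← CfsgLib.Char.classInner_conj_symm, hm] at h5
  simp at h5
  omega

end Cfsg.Agent.S4583
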