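import Cfsg.Statements.S4585
import Cfsg.Agent.Lib.BlockA.PFour

set_option autoImplicit false
open Cfsg

namespace Cfsg.Agent.S4585

/-- Let p be a prime and P a group of order p^4. Then P' has index p^2 in P if and only if P has maximal nilpotency class, that is, nilpotency class exactly 3. -/
theorem result {P : Type*} [Group P] [Finite P] (p : ℕ) [Fact p.Prime] (hP : Nat.card P = p ^ 4) :
    (commutator P).index = p ^ 2 ↔ Group.nilpotencyClass P = 3 := by
  classical
  have hp := (Fact.out : p.Prime)
  haveI hnil : Group.IsNilpotent P := (IsPGroup.of_card hP).isNilpotent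
  let L : ℕ → Subgroup P := Subgroup.lowerCentralSeries (⊤ : Subgroup P)
  have hL1 : L 1 = commutator P := by
    show Subgroup.lowerCentralSeries (⊤ : Subgroup P) 1 = _
    rw [Subgroup.lowerCentralSeries_succ, Subgroup.lowerCentralSeries_zero, commutator_def]
  have hLle : ∀ n, L (n + 1) ≤ L n := fun n => Subgroup.lowerCentralSeries_antitone _ (Nat.le_succ n)
  have hcls : ∀ n, L n = ⊥ ↔ Group.nilpotencyClass P ≤ n := fun n =>
    Subgroup.lowerCentralSeries_eq_bot_iff_nilpotencyClass_le
  have hstep : ∀ n, L n ≠ ⊥ → L (n + 1) ≠ L n := by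
    intro n hn heq
    have h2 : ∀ m, L (n + m) = L n := by
      intro m
      induction m with
      | zero => rfl
      | succ m ih =>
        show Subgroup.lowerCentralSeries (⊤ : Subgroup P) (n + m + 1) = _
        rw [Subgroup.lowerCentralSeries_succ]
        show ⁅L (n + m), (⊤ : Subgroup P)⁆ = _
        rw [ih, ← Subgroup.lowerCentralSeries_succ]
        exact heq
    apply hn
    rw [← h2 (Group.nilpotencyClass P), hcls]
    omega
  have hcard : ∀ n i, L n ≠ ⊥ → Nat.card (L n) ≤ p ^ (i + 1) → Nat.card (L (n + 1)) ≤ p ^ i := by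
    intro n i hn hi
    obtain ⟨j, -, hj⟩ := (Nat.dvd_prime_pow hp).1 (hP ▸ Subgroup.card_subgroup_dvd_card (L (n + 1)))
    rw [hj]
    refine Nat.pow_le_pow_right hp.pos ?_
    by_contra hlt
    push Not at hlt
    exact hstep n hn (Subgroup.eq_of_le_of_card_ge (hLle n)
      (hi.trans (hj ▸ Nat.pow_le_pow_right hp.pos hlt)))
  have hbot : ∀ n, Nat.card (L n) ≤ p ^ 0 → L n = ⊥ := fun n h =>
    Subgroup.eq_bot_of_card_le _ (by simpa using h)
  have hci := Subgroup.card_mul_index (commutator P)
  rw [hP] at hci
  constructor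
  · intro h
    rw [h] at hci
    have hC : Nat.card (commutator P) = p ^ 2 :=
      Nat.eq_of_mul_eq_mul_right (pow_pos hp.pos _) (hci.trans (by ring))
    have h1 : L 1 ≠ ⊥ := by
      intro hb
      rw [← hL1, hb, Subgroup.card_bot] at hC
      nlinarith [hp.two_le]
    have h2 : Nat.card (L 2) ≤ p ^ 1 := hcard 1 1 h1 (by rw [hL1, hC])
    have hle3 : Group.nilpotencyClass P ≤ 3 := by
      rw [← hcls 3]
      by_cases hb : L 2 = ⊥
      · exact eq_bot_iff.2 ((hLle 2).trans hb.le)
      · exact hbot 3 (hcard 2 0 hb h2)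
    refine le_antisymm hle3 ?_
    by_contra hlt
    have hb : L 2 = ⊥ := (hcls 2).2 (by omega)
    have hcen : commutator P ≤ Subgroup.center P := by
      rw [← hL1, ← Subgroup.centralizer_univ, ← Subgroup.coe_top,
        ← Subgroup.commutator_eq_bot_iff_le_centralizer]
      exact (Subgroup.lowerCentralSeries_succ _ 1).symm.trans hb
    have hZ : (Subgroup.center P).index ≤ p ^ 2 :=
      h ▸ Nat.le_of_dvd (Nat.pos_of_ne_zero Subgroup.index_ne_zero_of_finite) (Subgroup.index_dvd_of_le hcen)
    obtain ⟨i, -, hi⟩ := (Nat.dvd_prime_pow hp).1 (hP ▸ Subgroup.index_dvd_card (Subgroup.center P))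
    rw [hi] at hZ
    have hi2 := (Nat.pow_le_pow_iff_right hp.one_lt).1 hZ
    have hab : i ≤ 1 → False := by
      intro hi1
      haveI : IsCyclic (P ⧸ Subgroup.center P) := by
        interval_cases i
        · haveI : Subsingleton (P ⧸ Subgroup.center P) := by
            rw [← Finite.card_le_one_iff_subsingleton, ← Subgroup.index_eq_card, hi]
            simp
          exact isCyclic_of_subsingleton
        · exact isCyclic_of_prime_card (p := p) (by rw [← Subgroup.index_eq_card, hi, pow_one])
      apply h1
      rw [hL1, commutator_def, Subgroup.commutator_eq_bot_iff_le_centralizer]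
      intro a _
      rw [Subgroup.mem_centralizer_iff]
      intro b _
      exact commutative_of_cyclic_center_quotient (QuotientGroup.mk' (Subgroup.center P))
        (by rw [QuotientGroup.ker_mk']) b a
    have hi' : i = 2 := by
      by_contra hne
      exact hab (by omega)
    have := CfsgLib.BlockA.card_commutator_of_center_index_sq hP (hi' ▸ hi)
    rw [hC] at this
    nlinarith [hp.two_le]
  · intro h
    have h2 : L 2 ≠ ⊥ := by rw [Ne, hcls 2]; omega
    have h1 : L 1 ≠ ⊥ := fun hb => h2 (eq_bot_iff.2 ((hLle 1).trans hb.le))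
    obtain ⟨i, hi4, hi⟩ := (Nat.dvd_prime_pow hp).1 (hP ▸ Subgroup.card_subgroup_dvd_card (commutator P))
    have hige : 2 ≤ i := by
      by_contra hlt
      exact h2 (hbot 2 (hcard 1 0 h1 (by rw [hL1, hi]; exact Nat.pow_le_pow_right hp.pos (by omega))))
    have hile : i ≤ 2 := by
      by_contra hlt
      apply h1
      rw [hL1]
      by_cases hx : commutator P = ⊤
      · exfalso
        exact hstep 0 (by
          intro hb
          exact h1 (eq_bot_iff.2 ((hLle 0).trans hb.le))) (by rw [hL1, hx]; rfl)
      obtain ⟨x, -, hxn⟩ := SetLike.exists_of_lt (lt_top_iff_ne_top.2 hx)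
      apply CfsgLib.BlockA.commutative_of_commutator_sup_zpowers x
      apply Subgroup.eq_top_of_le_card
      rw [hP]
      exact CfsgLib.BlockA.lt_index_of_not_mem le_sup_left
        (Subgroup.mem_sup_right (Subgroup.mem_zpowers x)) hxn hP (k := 3)
        (hi ▸ Nat.pow_le_pow_right hp.pos (by omega))
    rw [show i = 2 by omega] at hi
    rw [hi] at hci
    exact Nat.eq_of_mul_eq_mul_left (pow_pos hp.pos _) (hci.trans (by ring))

end Cfsg.Agent.S4585
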