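import Cfsg.Statements.S4586
import Mathlib.GroupTheory.Abelianization.Defs
import Mathlib.GroupTheory.Commutator.Basic
import Mathlib.Tactic

set_option autoImplicit false
open Cfsg
open scoped commutatorElement

namespace Cfsg.Agent.S4586


lemma sup_zpowers_eq_top {P : Type*} [Group P] [Finite P] (p : ℕ) [Fact p.Prime] (N : Subgroup P)
    (hN : N.index = p) (x : P) (hx : x ∉ N) : N ⊔ Subgroup.zpowers x = ⊤ := by
  have hlt : N < N ⊔ Subgroup.zpowers x :=
    lt_of_le_of_ne le_sup_left fun h => hx (h ▸ Subgroup.mem_sup_right (Subgroup.mem_zpowers x))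
  have hd : (N ⊔ Subgroup.zpowers x).index ∣ p := hN ▸ Subgroup.index_dvd_of_le hlt.le
  rcases (Nat.dvd_prime (Fact.out : p.Prime)).1 hd with h | h
  · exact Subgroup.index_eq_one.1 h
  · exfalso
    have h1 := Subgroup.relIndex_mul_index hlt.le
    rw [h, hN] at h1
    have h2 : N.relIndex (N ⊔ Subgroup.zpowers x) = 1 :=
      Nat.eq_of_mul_eq_mul_right (Fact.out : p.Prime).pos (by rw [one_mul]; exact h1)
    exact hlt.not_ge (Subgroup.relIndex_eq_one.1 h2)

lemma index_mul_card {P : Type*} [Group P] [Finite P] (p : ℕ) [Fact p.Prime] (N : Subgroup P)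
    [N.Normal] (hN : N.index = p) (x : P) (hx : x ∉ N) :
    (commutator P).index * Nat.card (commutator N) =
      p * Nat.card {n : N // x * n * x⁻¹ * (n : P)⁻¹ ∈ (commutator N).map N.subtype} := by
  have hn' : ((commutator N).map N.subtype).Normal := inferInstance
  set M : Subgroup P := (commutator N).map N.subtype with hM
  let π : P →* P ⧸ M := QuotientGroup.mk' M
  have hcomm : ∀ a b : P, a ∈ N → b ∈ N → π a * π b = π b * π a := by
    intro a b ha hb
    have h1 : ⁅a, b⁆ ∈ M := by
      have h2 : ⁅(⟨a, ha⟩ : N), (⟨b, hb⟩ : N)⁆ ∈ commutator N := by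
        rw [commutator_def]
        exact Subgroup.commutator_mem_commutator (Subgroup.mem_top _) (Subgroup.mem_top _)
      exact ⟨_, h2, map_commutatorElement N.subtype _ _⟩
    have h3 : π ⁅a, b⁆ = 1 := (QuotientGroup.eq_one_iff _).2 h1
    rw [map_commutatorElement, commutatorElement_eq_one_iff_mul_comm] at h3
    exact h3
  have hconjN : ∀ n : P, n ∈ N → x * n * x⁻¹ ∈ N := fun n hn => ‹N.Normal›.conj_mem n hn x
  let f : N →* P ⧸ M :=
    { toFun := fun n => π (x * n * x⁻¹ * (n : P)⁻¹)
      map_one' := by simp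
      map_mul' := by
        intro a b
        have e : x * ((a * b : N) : P) * x⁻¹ * ((a * b : N) : P)⁻¹ =
            (x * a * x⁻¹) * (x * b * x⁻¹ * (b : P)⁻¹) * (a : P)⁻¹ := by
          simp [mul_assoc]
        rw [e, map_mul π _ ((a : P)⁻¹), map_mul π (x * a * x⁻¹), mul_assoc,
          hcomm _ _ (N.mul_mem (hconjN _ b.2) (N.inv_mem b.2)) (N.inv_mem a.2), ← mul_assoc,
          ← map_mul] }
  set R := f.range with hR
  have hRN : ∀ r ∈ R, ∃ a ∈ N, π a = r := by
    rintro r ⟨n, rfl⟩
    exact ⟨_, N.mul_mem (hconjN _ n.2) (N.inv_mem n.2), rfl⟩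
  have hRnormal : R.Normal := by
    rw [← Subgroup.normalizer_eq_top_iff, eq_top_iff]
    rw [← Subgroup.map_top_of_surjective π (QuotientGroup.mk'_surjective M),
      ← sup_zpowers_eq_top p N hN x hx, Subgroup.map_sup, sup_le_iff]
    constructor
    · rintro _ ⟨a, ha, rfl⟩
      refine Subgroup.mem_normalizer_fintype ?_
      intro r hr
      obtain ⟨b, hb, rfl⟩ := hRN r hr
      rw [hcomm a b ha hb, mul_assoc, mul_inv_cancel, mul_one]
      exact hr
    · rw [MonoidHom.map_zpowers, Subgroup.zpowers_le]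
      refine Subgroup.mem_normalizer_fintype ?_
      rintro _ ⟨n, rfl⟩
      exact ⟨⟨x * n * x⁻¹, hconjN _ n.2⟩, by simp [f, mul_assoc]⟩
  let ρ : P →* (P ⧸ M) ⧸ R := (QuotientGroup.mk' R).comp π
  have hρcomm : ∀ n ∈ N, Commute (ρ x) (ρ n) := by
    intro n hn
    have h1 : ρ (x * n * x⁻¹ * n⁻¹) = 1 := (QuotientGroup.eq_one_iff _).2 ⟨⟨n, hn⟩, rfl⟩
    rw [← commutatorElement_def, map_commutatorElement] at h1
    exact commutatorElement_eq_one_iff_mul_comm.1 h1
  have hker : ρ.ker = commutator P := by
    apply le_antisymm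
    · intro y hy
      obtain ⟨n, hn⟩ : π y ∈ R := (QuotientGroup.eq_one_iff _).1 hy
      have h1 : (x * n * x⁻¹ * (n : P)⁻¹)⁻¹ * y ∈ M := by
        rw [← QuotientGroup.eq_one_iff]
        show π ((x * n * x⁻¹ * (n : P)⁻¹)⁻¹ * y) = 1
        rw [map_mul, map_inv, ← hn]
        exact inv_mul_cancel _
      have h2 : x * n * x⁻¹ * (n : P)⁻¹ ∈ commutator P := by
        rw [← commutatorElement_def, commutator_def]
        exact Subgroup.commutator_mem_commutator (Subgroup.mem_top _) (Subgroup.mem_top _)
      have h3 : M ≤ commutator P := by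
        rw [hM, commutator_def, Subgroup.map_commutator, commutator_def]
        exact Subgroup.commutator_mono le_top le_top
      have h4 := mul_mem h2 (h3 h1)
      rwa [mul_inv_cancel_left] at h4
    · rw [commutator_def, Subgroup.commutator_le]
      intro a _ b _
      rw [MonoidHom.mem_ker, map_commutatorElement, commutatorElement_eq_one_iff_mul_comm]
      have hall : ∀ c, ρ c ∈ Subgroup.closure (ρ '' (N : Set P) ∪ {ρ x}) := by
        intro c
        have hc : c ∈ N ⊔ Subgroup.zpowers x := by rw [sup_zpowers_eq_top p N hN x hx]; trivial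
        refine (sup_le ?_ ?_ : N ⊔ Subgroup.zpowers x ≤
          (Subgroup.closure (ρ '' (N : Set P) ∪ {ρ x})).comap ρ) hc
        · exact fun n hn => Subgroup.subset_closure (Or.inl ⟨n, hn, rfl⟩)
        · rw [Subgroup.zpowers_le]; exact Subgroup.subset_closure (Or.inr rfl)
      have hgen : ∀ u ∈ ρ '' (N : Set P) ∪ {ρ x}, ∀ v ∈ ρ '' (N : Set P) ∪ {ρ x}, u * v = v * u := by
        rintro u (⟨a', ha', rfl⟩ | rfl) v (⟨b', hb', rfl⟩ | rfl)
        · have h := congrArg (QuotientGroup.mk' R) (hcomm a' b' ha' hb')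
          rw [map_mul, map_mul] at h
          exact h
        · exact (hρcomm _ ha').symm
        · exact hρcomm _ hb'
        · rfl
      haveI := Subgroup.isMulCommutative_closure hgen
      exact congrArg Subtype.val (IsMulCommutative.is_comm.comm (⟨ρ a, hall a⟩ :
        Subgroup.closure (ρ '' (N : Set P) ∪ {ρ x})) ⟨ρ b, hall b⟩)
  have hidx : (commutator P).index * Nat.card R = M.index := by
    have hs : Function.Surjective ρ :=
      (QuotientGroup.mk'_surjective R).comp (QuotientGroup.mk'_surjective M)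
    rw [← hker, Subgroup.index_ker, MonoidHom.range_eq_top.2 hs, Subgroup.card_top,
      ← Subgroup.index_eq_card, Subgroup.index_mul_card, ← Subgroup.index_eq_card]
  have hMcard : Nat.card M = Nat.card (commutator N) :=
    (Nat.card_congr ((commutator N).equivMapOfInjective _ N.subtype_injective).toEquiv).symm
  have hkercard : Nat.card {n : N // x * n * x⁻¹ * (n : P)⁻¹ ∈ M} * Nat.card R = Nat.card N := by
    rw [← Subgroup.card_mul_index f.ker, Subgroup.index_ker]
    refine congrArg (· * Nat.card R) (Nat.card_congr (Equiv.subtypeEquivRight fun n => ?_))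
    exact (QuotientGroup.eq_one_iff _).symm
  have e1 : M.index * Nat.card (commutator N) = p * Nat.card N := by
    rw [← hMcard, Subgroup.index_mul_card, ← hN, Subgroup.index_mul_card]
  apply Nat.eq_of_mul_eq_mul_right (Nat.card_pos (α := R))
  calc (commutator P).index * Nat.card (commutator N) * Nat.card R
      = ((commutator P).index * Nat.card R) * Nat.card (commutator N) := by ring
    _ = p * Nat.card N := by rw [hidx, e1]
    _ = _ := by rw [← hkercard]; ring

/-- Let p be a prime, P a finite p-group and N a normal subgroup of P of index p. For x ∈ P write c(x) for the number of elements n of N whose commutator x n x⁻¹ n⁻¹ lies in the derived subgroup N' (so c(x)/#N' is the order of the centralizer of x acting on N/N'). Then [P : P'] = p² if and only if c(x) = p·#N' for every x ∈ P outside N, and also if and only if c(x) = p·#N' for some x ∈ P outside N. -/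
theorem result {P : Type*} [Group P] [Finite P] (p : ℕ) [Fact p.Prime] (hP : IsPGroup p P) (N : Subgroup P) [N.Normal] (hN : N.index = p) :
    ((commutator P).index = p ^ 2 ↔ ∀ x : P, x ∉ N →
        Nat.card {n : N // x * n * x⁻¹ * (n : P)⁻¹ ∈ (commutator N).map N.subtype} = p * Nat.card (commutator N)) ∧
    ((commutator P).index = p ^ 2 ↔ ∃ x : P, x ∉ N ∧
        Nat.card {n : N // x * n * x⁻¹ * (n : P)⁻¹ ∈ (commutator N).map N.subtype} = p * Nat.card (commutator N)) := by
  classical
  set N' : Subgroup P := (commutator N).map N.subtype with hN'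
  haveI : N'.Normal := by
    rw [hN']; infer_instance
  have key : ∀ x : P, x ∉ N →
      (commutator P).index * Nat.card (commutator N) =
        p * Nat.card {n : N // x * n * x⁻¹ * (n : P)⁻¹ ∈ N'} := by
    intro x hx
    exact index_mul_card p N hN x hx
  obtain ⟨x₀, hx₀⟩ : ∃ x : P, x ∉ N := by
    by_contra! h
    have hT : N = ⊤ := eq_top_iff.2 fun y _ => h y
    rw [hT, Subgroup.index_top] at hN
    exact (Fact.out : p.Prime).one_lt.ne hN
  have hpos : 0 < Nat.card (commutator N) := Nat.card_pos
  have iff1 : ∀ x : P, x ∉ N → ((commutator P).index = p ^ 2 ↔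
      Nat.card {n : N // x * n * x⁻¹ * (n : P)⁻¹ ∈ N'} = p * Nat.card (commutator N)) := by
    intro x hx
    have h := key x hx
    constructor
    · intro h1
      rw [h1, pow_two, mul_assoc] at h
      exact (Nat.eq_of_mul_eq_mul_left (Fact.out : p.Prime).pos h).symm
    · intro h1
      rw [h1, ← mul_assoc, ← pow_two] at h
      exact Nat.eq_of_mul_eq_mul_right hpos h
  refine ⟨⟨fun h x hx => (iff1 x hx).1 h, fun h => (iff1 x₀ hx₀).2 (h x₀ hx₀)⟩,
    ⟨fun h => ⟨x₀, hx₀, (iff1 x₀ hx₀).1 h⟩, fun ⟨x, hx, h⟩ => (iff1 x hx).2 h⟩⟩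

end Cfsg.Agent.S4586
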