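import Cfsg.Statements.S4591
import Cfsg.Agent.Lib.Clifford.ExtendCoprime
import Cfsg.Agent.Lib.Clifford.Degrees
import Cfsg.Agent.Lib.BlockA.Glauberman
import Cfsg.Agent.Lib.BlockA.CliffordBasic
import Cfsg.Agent.Lib.Transfer.Tate
import Cfsg.Agent.Lib.Solvable.Nilpotent
import Cfsg.Agent.Lib.Solvable.Frattini2

set_option autoImplicit false
open Cfsg

namespace Cfsg.Agent.S4591

open CfsgLib CfsgLib.BlockA
open scoped commutatorElement

universe u

section

variable {G : Type u} [Group G] [Fintype G] {p : ℕ} [hp : Fact p.Prime]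

/-- A character of degree prime to `p` has a constituent of degree prime to `p` on every subgroup. -/
theorem exists_pPrime_constituent (H : Subgroup G) [Fintype H] {χ : G → ℂ}
    (hχ : Cfsg.IsCharacter G χ) (hd : ¬ p ∣ Cfsg.charDegree χ) :
    ∃ η : Cfsg.IrrCharacter H, ¬ p ∣ Cfsg.charDegree (η : H → ℂ) ∧
      Cfsg.classInner (fun h : H => χ h) (η : H → ℂ) ≠ 0 := by
  have := Fintype.ofFinite (Cfsg.IrrCharacter H)
  by_contra! hno
  have hres := Char.isCharacter_restrict hχ H
  choose a ha using fun η : Cfsg.IrrCharacter H =>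
    Char.classInner_isCharacter_nat hres (Char.irr_isCharacter η.2)
  apply hd
  have e : Cfsg.charDegree χ = ∑ η, a η * Cfsg.charDegree (η : H → ℂ) := by
    rw [← Nat.cast_inj (R := ℂ), BlockB.charDegree_cast hχ, Nat.cast_sum]
    simp only [Nat.cast_mul, BlockB.charDegree_cast (Char.irr_isCharacter (Subtype.prop _)), ← ha]
    have := congr_fun (Char.classFunction_eq_sum (Char.isCharacter_isClassFunction hres)) 1
    simpa using this
  rw [e]
  refine Finset.dvd_sum fun η _ => ?_
  by_cases hp' : p ∣ Cfsg.charDegree (η : H → ℂ)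
  · exact hp'.mul_left _
  · have : a η = 0 := by exact_mod_cast (ha η).symm.trans (hno η hp')
    rw [this, zero_mul]; exact dvd_zero p

/-- A character of a subgroup of degree prime to `p` lies under one of the group, the index being
prime to `p`. -/
theorem exists_pPrime_over (H : Subgroup G) [Fintype H] (hH : ¬ p ∣ H.index) {θ : H → ℂ}
    (hθ : Cfsg.IsIrrCharacter H θ) (hd : ¬ p ∣ Cfsg.charDegree θ) :
    ∃ χ : Cfsg.IrrCharacter G, ¬ p ∣ Cfsg.charDegree (χ : G → ℂ) ∧
      Cfsg.classInner (fun h : H => (χ : G → ℂ) h) θ ≠ 0 := by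
  have := Fintype.ofFinite (Cfsg.IrrCharacter G)
  by_contra! hno
  have hI := Char.isCharacter_indFun H (Char.irr_isCharacter hθ)
  choose a ha using fun χ : Cfsg.IrrCharacter G =>
    Char.classInner_isCharacter_nat hI (Char.irr_isCharacter χ.2)
  have e : H.index * Cfsg.charDegree θ = ∑ χ, a χ * Cfsg.charDegree (χ : G → ℂ) := by
    rw [← Nat.cast_inj (R := ℂ), Nat.cast_mul, BlockB.charDegree_cast (Char.irr_isCharacter hθ),
      Nat.cast_sum]
    simp only [Nat.cast_mul, BlockB.charDegree_cast (Char.irr_isCharacter (Subtype.prop _)), ← ha]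
    have := congr_fun (Char.classFunction_eq_sum (Char.isCharacter_isClassFunction hI)) 1
    simpa [Char.indFun_apply_one] using this
  apply hp.out.not_dvd_mul hH hd
  rw [e]
  refine Finset.dvd_sum fun χ _ => ?_
  by_cases hp' : p ∣ Cfsg.charDegree (χ : G → ℂ)
  · exact hp'.mul_left _
  · have : a χ = 0 := by
      rw [← Nat.cast_eq_zero (R := ℂ), ← ha, Char.frobenius_reciprocity H θ _
        (Char.irr_isClassFunction χ.2), ← Char.classInner_conj_symm, hno χ hp', map_zero]
    rw [this, zero_mul]; exact dvd_zero p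

/-- A trivial constituent puts a normal subgroup in the kernel. -/
theorem eq_one_of_trivial_constituent (N : Subgroup G) [N.Normal] [Fintype N] {χ : G → ℂ}
    (hχ : Cfsg.IsIrrCharacter G χ)
    (h : Cfsg.classInner (fun n : N => χ n) (fun _ => 1) ≠ 0) {g : G} (hg : g ∈ N) :
    χ g = χ 1 := by
  have := Fintype.ofFinite (Cfsg.IrrCharacter N)
  have hres := Char.isCharacter_restrict (Char.irr_isCharacter hχ) N
  have e := Char.classFunction_eq_sum (Char.isCharacter_isClassFunction hres)
  have h1 := congr_fun e ⟨g, hg⟩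
  have h2 := congr_fun e 1
  change χ g = _ at h1
  change χ (1 : G) = _ at h2
  rw [h1, h2]
  simp only [Finset.sum_apply, Pi.smul_apply]
  refine Finset.sum_congr rfl fun η _ => ?_
  by_cases h0 : Cfsg.classInner (fun n : N => χ n) (η : N → ℂ) = 0
  · simp [h0]
  obtain ⟨x, hx⟩ := BlockA.exists_conj_of_constituents N hχ η.2 Char.isIrrCharacter_one h0 h
  rw [hx]

end

section

variable {G : Type u} [Group G] [Finite G] {p : ℕ} [hp : Fact p.Prime]

theorem kernel_eq (P : Sylow p G) (N : Subgroup G) [N.Normal]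
    (hN : N ⊓ Subgroup.centralizer ((P : Subgroup G) : Set G) = ⊥)
    (hmax : ∀ L : Subgroup G, L.Normal → L ⊓ Subgroup.centralizer ((P : Subgroup G) : Set G) = ⊥ →
      L ≤ N) :
    {g : G | ∀ χ : Cfsg.IrrCharacter G, ¬ p ∣ Cfsg.charDegree (χ : G → ℂ) →
        (χ : G → ℂ) g = (χ : G → ℂ) 1} =
      ((N ⊔ ⁅(P : Subgroup G), (P : Subgroup G)⁆).normalCore : Set G) := by
  classical
  have := Fintype.ofFinite G
  have hPn : IsPGroup p (P : Subgroup G) := P.2
  -- the conjugation action on normal subgroups
  let act : ∀ (M : Subgroup G) [M.Normal], MulDistribMulAction (P : Subgroup G) M := fun M _ =>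
    MulDistribMulAction.compHom M ((MulAut.conjNormal (H := M)).comp (P : Subgroup G).subtype)
  have hNp : ¬ p ∣ Nat.card N := by
    intro hd
    obtain ⟨S, hS⟩ := CfsgLib.Transfer.exists_sylow_eq_subgroupOf P N
    set Q := N.subgroupOf (P : Subgroup G)
    have : Group.IsNilpotent (P : Subgroup G) := hPn.isNilpotent
    have hQ : Q ≠ ⊥ := by
      intro hbot
      have hS0 : (S : Subgroup N) = ⊥ := by
        rw [hS, Subgroup.subgroupOf_eq_bot, disjoint_comm]
        exact Subgroup.subgroupOf_eq_bot.mp hbot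
      exact S.ne_bot_of_dvd_card hd hS0
    obtain ⟨z, hz, hz1⟩ := (Q ⊓ Subgroup.center (P : Subgroup G)).bot_or_exists_ne_one.resolve_left
      (CfsgLib.Solvable.normal_inf_center_ne_bot Q hQ)
    refine hz1 (Subtype.ext ?_)
    have : (z : G) ∈ N ⊓ Subgroup.centralizer ((P : Subgroup G) : Set G) :=
      ⟨Subgroup.mem_subgroupOf.mp hz.1, fun y hy => congrArg Subtype.val
        (Subgroup.mem_center_iff.mp hz.2 ⟨y, hy⟩)⟩
    rw [hN] at this
    exact this
  set NP := N ⊔ ⁅(P : Subgroup G), (P : Subgroup G)⁆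
  ext g
  constructor
  swap
  · -- the core is in every kernel
    intro hg χ hχd
    set L := NP.normalCore
    have := Fintype.ofFinite L
    set H := N ⊔ (P : Subgroup G)
    have hPH : (P : Subgroup G) ≤ H := le_sup_right
    have := Fintype.ofFinite H
    obtain ⟨η, hηd, hηne⟩ := exists_pPrime_constituent H (Char.irr_isCharacter χ.2) hχd
    -- `N` is in the kernel
    have hNker : ∀ n ∈ N, (χ : G → ℂ) n = (χ : G → ℂ) 1 := by
      intro n hn
      letI := act N
      have := Fintype.ofFinite (Cfsg.IrrCharacter N)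
      have := Fintype.ofFinite N
      let C : Subgroup N := ⊥
      have := Fintype.ofFinite C
      have hrange : ∀ m : N, m ∈ C.subtype.range ↔ ∀ t : (P : Subgroup G), t • m = m := by
        intro m
        rw [Subgroup.range_subtype, Subgroup.mem_bot]
        refine ⟨fun h t => by rw [h, smul_one], fun h => Subtype.ext ?_⟩
        have : (m : G) ∈ N ⊓ Subgroup.centralizer ((P : Subgroup G) : Set G) :=
          ⟨m.2, fun y hy => by
            have h1 := congrArg Subtype.val (h ⟨y, hy⟩)
            change y * (m : G) * y⁻¹ = m at h1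
            rw [mul_inv_eq_iff_eq_mul] at h1
            exact h1⟩
        rw [hN] at this
        exact this
      obtain ⟨g1, -, g3, -⟩ := glauberman_pGroup C.subtype C.subtype_injective hrange hPn hNp
      have hsub : Subsingleton (Cfsg.IrrCharacter C) := by
        refine (Nat.card_eq_one_iff_unique.mp ?_).1
        rw [Char.irr_card_eq]
        exact Nat.card_eq_one_iff_unique.mpr
          ⟨⟨fun a b => by
            obtain ⟨a, rfl⟩ := ConjClasses.mk_surjective a
            obtain ⟨b, rfl⟩ := ConjClasses.mk_surjective b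
            rw [Subsingleton.elim a b]⟩, ⟨ConjClasses.mk 1⟩⟩
      let one : Cfsg.IrrCharacter N := ⟨fun _ => 1, Char.isIrrCharacter_one⟩
      have hres := Char.isCharacter_restrict (Char.irr_isCharacter χ.2) N
      have hdeg : ∃ θ : Cfsg.IrrCharacter N, IsInv (P : Subgroup G) (θ : N → ℂ) ∧
          Cfsg.classInner (fun m : N => (χ : G → ℂ) m) (θ : N → ℂ) ≠ 0 := by
        by_contra! hno
        choose a ha using fun θ : Cfsg.IrrCharacter N =>
          Char.classInner_isCharacter_nat hres (Char.irr_isCharacter θ.2)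
        choose d hd using fun θ : Cfsg.IrrCharacter N =>
          Char.char_apply_one_eq_nat (Char.irr_isCharacter θ.2)
        have h1 := congr_fun (Char.classFunction_eq_sum (Char.isCharacter_isClassFunction hres)) 1
        change (χ : G → ℂ) 1 = _ at h1
        simp only [Finset.sum_apply, Pi.smul_apply, smul_eq_mul, ha, hd] at h1
        have hfix := pDiv_sum_sub_sum_fixed hPn
          (fun θ : Cfsg.IrrCharacter N => (a θ : ℂ) * (d θ : ℂ))
          (fun θ => (isIntegral_natCast' _).mul (isIntegral_natCast' _)) fun t θ => by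
            show (a (t • θ) : ℂ) * (d (t • θ) : ℂ) = (a θ : ℂ) * (d θ : ℂ)
            congr 1
            · rw [← ha, ← ha, Char.classInner_def, Char.classInner_def]
              congr 1
              refine Fintype.sum_equiv (MulAction.toPerm t⁻¹) _ _ fun m => ?_
              rw [MulAction.toPerm_apply]
              show (χ : G → ℂ) m * (starRingEnd ℂ) ((θ : N → ℂ) (t⁻¹ • m)) = _
              congr 1
              exact (Char.irr_isClassFunction χ.2 (m : G) ((t⁻¹ : (P : Subgroup G)) : G)).symm
            · rw [← hd, ← hd]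
              show (θ : N → ℂ) (t⁻¹ • (1 : N)) = _
              rw [smul_one]
        have h2 : PDiv p (∑ θ : Cfsg.IrrCharacter N with ∀ t : (P : Subgroup G), t • θ = θ,
            (a θ : ℂ) * (d θ : ℂ)) := by
          refine pDiv_sum _ _ fun θ hθ => ?_
          have : a θ = 0 := by
            exact_mod_cast (ha θ).symm.trans
              (hno θ ((isInv_iff_fixed θ).2 (Finset.mem_filter.1 hθ).2))
          rw [this, Nat.cast_zero, zero_mul]
          exact pDiv_zero
        have h3 := pDiv_add hfix h2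
        rw [sub_add_cancel, ← h1, ← BlockB.charDegree_cast (Char.irr_isCharacter χ.2),
          pDiv_natCast_iff] at h3
        exact hχd h3
      obtain ⟨θ, hθinv, hθne⟩ := hdeg
      have h1inv : IsInv (P : Subgroup G) (one : N → ℂ) := fun _ _ => rfl
      obtain ⟨β, ⟨m, hm, hmp⟩, -⟩ := g1 θ hθinv
      obtain ⟨β', ⟨m', hm', hmp'⟩, -⟩ := g1 one h1inv
      rw [Subsingleton.elim β' β] at hm'
      rw [g3 θ one hθinv h1inv β m m' hm hmp hm' hmp'] at hθne
      exact eq_one_of_trivial_constituent N χ.2 hθne hn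
    -- so is `L`
    have hresH := Char.isCharacter_restrict (Char.irr_isCharacter χ.2) H
    have hηN : ∀ n : H, (n : G) ∈ N → (η : H → ℂ) n = (η : H → ℂ) 1 := fun n hn =>
      Clifford.constituent_eq_one hresH η.2 hηne (hNker _ hn)
    obtain ⟨ψ, hψ, hηψ⟩ := Char.isIrr_quotient_lift (N.subgroupOf H) η.2
      (fun n hn => hηN n (Subgroup.mem_subgroupOf.mp hn))
    have hψ1 : ψ 1 = 1 := by
      have hc : Nat.card (H ⧸ N.subgroupOf H) ∣ Nat.card (P : Subgroup G) := by
        rw [← Subgroup.index_eq_card, show (N.subgroupOf H).index = N.relIndex H from rfl,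
          Subgroup.relIndex_sup_left]
        exact Subgroup.relIndex_dvd_card N (P : Subgroup G)
      obtain ⟨k, hk⟩ := IsPGroup.iff_card.mp hPn
      have hdvd := (Clifford.Degrees.charDegree_dvd_card hψ).trans hc
      rw [hk] at hdvd
      obtain ⟨i, -, hi⟩ := (Nat.dvd_prime_pow hp.out).mp hdvd
      have e : (Cfsg.charDegree (η : H → ℂ) : ℂ) = Cfsg.charDegree ψ := by
        rw [BlockB.charDegree_cast (Char.irr_isCharacter η.2),
          BlockB.charDegree_cast (Char.irr_isCharacter hψ), hηψ, Function.comp_apply, map_one]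
      rw [← BlockB.charDegree_cast (Char.irr_isCharacter hψ), hi]
      rcases i with - | i
      · simp
      · exact absurd (Nat.cast_inj.mp e ▸ hi ▸ dvd_pow_self p i.succ_ne_zero) hηd
    obtain ⟨l, hl⟩ := Char.exists_hom_of_degree_one (Char.irr_isCharacter hψ) hψ1
    let μ : H →* ℂˣ := l.comp (QuotientGroup.mk' (N.subgroupOf H))
    have hημ : ∀ x : H, (η : H → ℂ) x = (μ x : ℂ) := fun x => by rw [hηψ, hl]; rfl
    have hμNP : ∀ x : H, (x : G) ∈ NP → μ x = 1 := by
      have : NP ≤ μ.ker.map H.subtype := by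
        refine sup_le (fun n hn => ?_) ?_
        · refine ⟨⟨n, Subgroup.mem_sup_left hn⟩, Units.ext ?_, rfl⟩
          rw [← hημ, hηN ⟨n, _⟩ hn, hημ, map_one]
        · rw [Subgroup.commutator_le]
          intro a ha b hb
          refine ⟨⁅(⟨a, hPH ha⟩ : H), ⟨b, hPH hb⟩⁆, ?_, rfl⟩
          rw [SetLike.mem_coe, MonoidHom.mem_ker, map_commutatorElement,
            commutatorElement_eq_one_iff_mul_comm]
          exact mul_comm _ _
      intro x hx
      obtain ⟨y, hy, hyx⟩ := this hx
      rw [← H.subtype_injective hyx]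
      exact hy
    have hLH : L ≤ H := (Subgroup.normalCore_le NP).trans (sup_le le_sup_left
      ((Subgroup.commutator_le.mpr fun a ha b hb =>
        mul_mem (mul_mem (mul_mem ha hb) (inv_mem ha)) (inv_mem hb)).trans le_sup_right))
    have hne : Cfsg.classInner (fun n : L => (χ : G → ℂ) n) (fun _ => 1) ≠ 0 := by
      obtain ⟨R, hR, hsum⟩ := Clifford.exists_add_of_constituent hresH η.2 hηne
      have hc : (fun n : L => (χ : G → ℂ) n) =
          (fun _ : L => (1 : ℂ)) + fun n : L => R ⟨n, hLH n.2⟩ := by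
        funext n
        have := congr_fun hsum ⟨n, hLH n.2⟩
        change (χ : G → ℂ) n = _ at this
        rw [this, Pi.add_apply, Pi.add_apply, hημ, hμNP ⟨n, hLH n.2⟩ (Subgroup.normalCore_le NP n.2),
          Units.val_one]
      rw [hc, Char.classInner_add_left, Char.irr_classInner_self Char.isIrrCharacter_one]
      obtain ⟨j, hj⟩ := Char.classInner_isCharacter_nat
        (Char.isCharacter_comp hR (Subgroup.inclusion hLH)) (Char.isCharacter_one (G := L))
      change Cfsg.classInner (fun n : L => R ⟨n, hLH n.2⟩) (fun _ => 1) = j at hj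
      rw [hj]
      exact_mod_cast (by omega : 1 + j ≠ 0)
    exact eq_one_of_trivial_constituent L χ.2 hne hg
  · -- the intersection of the kernels
    intro hg
    have hker : ∀ (χ : Cfsg.IrrCharacter G) (x : G), (χ : G → ℂ) x = (χ : G → ℂ) 1 →
        ∀ y, (χ : G → ℂ) (x * y) = (χ : G → ℂ) y := by
      intro χ x hx y
      obtain ⟨n, ρ, hρ, hχ⟩ := χ.2
      rw [← hχ] at hx ⊢
      rw [← Char.mem_ker_iff_char, MonoidHom.mem_ker] at hx
      simp [Representation.character, map_mul, hx]
    let K : Subgroup G :=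
      { carrier := {x | ∀ χ : Cfsg.IrrCharacter G, ¬ p ∣ Cfsg.charDegree (χ : G → ℂ) →
          ∀ y, (χ : G → ℂ) (x * y) = (χ : G → ℂ) y}
        one_mem' := fun χ _ y => by rw [one_mul]
        mul_mem' := fun {a b} ha hb χ h y => by rw [mul_assoc, ha χ h, hb χ h]
        inv_mem' := fun {a} ha χ h y => by rw [← ha χ h (a⁻¹ * y), mul_inv_cancel_left] }
    have hK1 : ∀ x ∈ K, ∀ χ : Cfsg.IrrCharacter G, ¬ p ∣ Cfsg.charDegree (χ : G → ℂ) →
        (χ : G → ℂ) x = (χ : G → ℂ) 1 := fun x hx χ h => by simpa using hx χ h 1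
    haveI hKn : K.Normal := ⟨fun x hx h χ hd y => by
      have e1 := Char.irr_isClassFunction χ.2 (x * (h⁻¹ * y * h)) h
      have e2 := Char.irr_isClassFunction χ.2 (h⁻¹ * y * h) h
      rw [show h * (x * (h⁻¹ * y * h)) * h⁻¹ = h * x * h⁻¹ * y by group] at e1
      rw [show h * (h⁻¹ * y * h) * h⁻¹ = y by group] at e2
      rw [e1, hx χ hd, e2]⟩
    have hgK : g ∈ K := fun χ h => hker χ g (hg χ h)
    -- `K ∩ P` lies in the derived group of `P`
    have hKP : ∀ y ∈ K, ∀ hy : y ∈ (P : Subgroup G),
        (⟨y, hy⟩ : (P : Subgroup G)) ∈ commutator (P : Subgroup G) := by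
      intro y hyK hy
      by_contra hnot
      have : Finite (Abelianization (P : Subgroup G)) := inferInstanceAs
        (Finite ((P : Subgroup G) ⧸ commutator (P : Subgroup G)))
      obtain ⟨l, hl⟩ := Char.exists_linear_ne_one (G := Abelianization (P : Subgroup G)) mul_comm
        (g := Abelianization.of ⟨y, hy⟩)
        (fun h => hnot ((QuotientGroup.eq_one_iff _).mp h))
      let lam : (P : Subgroup G) →* ℂˣ := l.comp Abelianization.of
      have := Fintype.ofFinite (P : Subgroup G)
      obtain ⟨χ, hχd, hne⟩ := exists_pPrime_over (p := p) (P : Subgroup G) P.not_dvd_index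
        (Char.isIrrCharacter_linear lam) (by
          have : Cfsg.charDegree (fun x : (P : Subgroup G) => (lam x : ℂ)) = 1 := by
            rw [← Nat.cast_inj (R := ℂ),
              BlockB.charDegree_cast (Char.irr_isCharacter (Char.isIrrCharacter_linear lam))]
            simp
          rw [this]; exact hp.out.not_dvd_one)
      have := Clifford.constituent_eq_one (Char.isCharacter_restrict (Char.irr_isCharacter χ.2) _)
        (Char.isIrrCharacter_linear lam) hne (a := ⟨y, hy⟩) (hK1 y hyK χ hχd)
      exact hl (Units.ext (by simpa [lam] using this))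
    have hfr : K.subgroupOf (P : Subgroup G) ≤ frattini (P : Subgroup G) := fun y hy => by
      have : Group.IsNilpotent (P : Subgroup G) := hPn.isNilpotent
      exact CfsgLib.Solvable.commutator_le_frattini (hKP y (Subgroup.mem_subgroupOf.mp hy) y.2)
    obtain ⟨S₀, N₁, hN₁n, hcompl⟩ := CfsgLib.Transfer.tate P K hfr
    obtain ⟨S, hS⟩ := CfsgLib.Transfer.exists_sylow_eq_subgroupOf P K
    have hcardN₁ : ¬ p ∣ Nat.card N₁ := by
      rw [← hcompl.index_eq_card]; exact S₀.not_dvd_index
    have hidxN₁ : ∃ k, N₁.index = p ^ k := by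
      obtain ⟨k, hk⟩ := IsPGroup.iff_card.mp S₀.2
      exact ⟨k, hcompl.symm.index_eq_card.trans hk⟩
    -- the elements of order prime to `p` of `K`
    have hmem : ∀ x : K, x ∈ N₁ ↔ ¬ p ∣ orderOf x := by
      intro x
      refine ⟨fun hx hd => hcardN₁ (hd.trans (Subgroup.orderOf_dvd_natCard N₁ hx)), fun hx => ?_⟩
      obtain ⟨k, hk⟩ := hidxN₁
      rw [← QuotientGroup.eq_one_iff, ← orderOf_eq_one_iff]
      refine Nat.eq_one_of_dvd_coprimes ?_ (orderOf_map_dvd (QuotientGroup.mk' N₁) x)
        ((orderOf_dvd_natCard _).trans (by rw [← Subgroup.index_eq_card, hk]))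
      exact ((hp.out.coprime_iff_not_dvd.mpr hx).pow_left k).symm
    set N₀ := N₁.map K.subtype with hN₀
    haveI hN₀n : N₀.Normal := ⟨by
      rintro _ ⟨x, hx, rfl⟩ h
      refine ⟨⟨h * x * h⁻¹, hKn.conj_mem x x.2 h⟩, ?_, rfl⟩
      rw [SetLike.mem_coe, hmem, ← Subgroup.orderOf_coe]
      show ¬ p ∣ orderOf (h * (x : G) * h⁻¹)
      have e : h * (x : G) * h⁻¹ = MulAut.conj h (x : G) := rfl
      rw [e, MulEquiv.orderOf_eq, Subgroup.orderOf_coe]
      exact (hmem x).mp hx⟩
    have hN₀p : ¬ p ∣ Nat.card N₀ := by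
      rw [hN₀, Nat.card_congr (N₁.equivMapOfInjective _ K.subtype_injective).toEquiv.symm]
      exact hcardN₁
    have hN₀K : N₀ ≤ K := Subgroup.map_subtype_le _
    have hfpf : N₀ ⊓ Subgroup.centralizer ((P : Subgroup G) : Set G) = ⊥ := by
      by_contra hne
      letI := act N₀
      let C : Subgroup N₀ := (Subgroup.centralizer ((P : Subgroup G) : Set G)).subgroupOf N₀
      have := Fintype.ofFinite C
      have := Fintype.ofFinite N₀
      have hrange : ∀ m : N₀, m ∈ C.subtype.range ↔ ∀ t : (P : Subgroup G), t • m = m := by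
        intro m
        rw [Subgroup.range_subtype, Subgroup.mem_subgroupOf, Subgroup.mem_centralizer_iff]
        refine ⟨fun h t => Subtype.ext ?_, fun h y hy => ?_⟩
        · show (t : G) * m * (t : G)⁻¹ = m
          rw [h t t.2, mul_inv_cancel_right]
        · have h1 := congrArg Subtype.val (h ⟨y, hy⟩)
          change y * (m : G) * y⁻¹ = m at h1
          rw [mul_inv_eq_iff_eq_mul] at h1
          exact h1
      obtain ⟨-, -, -, g4⟩ := glauberman_pGroup C.subtype C.subtype_injective hrange hPn hN₀p
      obtain ⟨z, hz, hz1⟩ := (N₀ ⊓ Subgroup.centralizer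
        ((P : Subgroup G) : Set G)).bot_or_exists_ne_one.resolve_left hne
      have hc1 : (⟨⟨z, hz.1⟩, Subgroup.mem_subgroupOf.mpr hz.2⟩ : C) ≠ 1 := fun h =>
        hz1 (congrArg (fun c : C => ((c : N₀) : G)) h)
      obtain ⟨β, hβ⟩ := Char.exists_irr_apply_ne hc1
      obtain ⟨θ, hθinv, m, hm, hmp⟩ := g4 β
      have hθ1 : (θ : N₀ → ℂ) ≠ fun _ => 1 := by
        intro h
        apply hmp
        simp only [h] at hm
        rw [show m = 0 by
          have := Char.irr_classInner_ne (Char.isIrrCharacter_one (G := C)) β.2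
            (fun e => hβ (by rw [← e]))
          exact_mod_cast hm.symm.trans this]
        exact dvd_zero p
      set H := N₀ ⊔ (P : Subgroup G)
      let K' := N₀.subgroupOf H
      have := Fintype.ofFinite H
      have := Fintype.ofFinite K'
      let e : K' ≃* N₀ := Subgroup.subgroupOfEquivOfLe le_sup_left
      have hidx : K'.index ∣ Nat.card (P : Subgroup G) := by
        rw [show K'.index = N₀.relIndex H from rfl, Subgroup.relIndex_sup_left]
        exact Subgroup.relIndex_dvd_card N₀ (P : Subgroup G)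
      obtain ⟨k, hk⟩ := IsPGroup.iff_card.mp hPn
      have hcop : (Nat.card K').Coprime K'.index := by
        rw [Nat.card_congr e.toEquiv]
        refine Nat.Coprime.coprime_dvd_right hidx ?_
        rw [hk]
        exact ((hp.out.coprime_iff_not_dvd.mpr hN₀p).symm).pow_right k
      let θ' : K' → ℂ := fun x => (θ : N₀ → ℂ) (e x)
      have hθ' : Cfsg.IsIrrCharacter K' θ' :=
        Char.isIrrCharacter_comp_surjective θ.2 e.toMonoidHom e.surjective
      obtain ⟨Θ, hΘ, hΘres⟩ := Clifford.ExtendCoprime.exists_extension K' hcop hθ' (fun x n => by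
        obtain ⟨a, ha, t, ht, e'⟩ := Subgroup.mem_sup_of_normal_left.mp x.2
        show (θ : N₀ → ℂ) (e (Clifford.conjN x n)) = (θ : N₀ → ℂ) (e n)
        have h2 : e (Clifford.conjN x n) =
            (⟨a, ha⟩ : N₀) * ((⟨t, ht⟩ : (P : Subgroup G)) • e n) * (⟨a, ha⟩ : N₀)⁻¹ := by
          refine Subtype.ext ?_
          show (x : G) * ((n : H) : G) * (x : G)⁻¹ = a * (t * ((n : H) : G) * t⁻¹) * a⁻¹
          rw [← e']
          group
        rw [h2, Char.irr_isClassFunction θ.2, hθinv])
      have hΘd : ¬ p ∣ Cfsg.charDegree Θ := by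
        have e' : Cfsg.charDegree Θ = Cfsg.charDegree θ' := by
          rw [← Nat.cast_inj (R := ℂ), BlockB.charDegree_cast (Char.irr_isCharacter hΘ),
            BlockB.charDegree_cast (Char.irr_isCharacter hθ'), ← hΘres, OneMemClass.coe_one]
        rw [e']
        exact fun hd => hN₀p (Nat.card_congr e.toEquiv ▸
          hd.trans (Clifford.Degrees.charDegree_dvd_card hθ'))
      obtain ⟨χ, hχd, hχne⟩ := exists_pPrime_over (p := p) H (fun hd => P.not_dvd_index
        (hd.trans (Subgroup.index_dvd_of_le le_sup_right))) hΘ hΘd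
      have hθker : ∀ n : N₀, (θ : N₀ → ℂ) n = (θ : N₀ → ℂ) 1 := by
        intro n
        have h1 := Clifford.constituent_eq_one (Char.isCharacter_restrict
          (Char.irr_isCharacter χ.2) _) hΘ hχne (a := (⟨n, Subgroup.mem_sup_left n.2⟩ : H))
          (hK1 n (hN₀K n.2) χ hχd)
        have h2 := hΘres (e.symm n)
        have h3 := hΘres 1
        rw [show ((e.symm n : K') : H) = ⟨n, Subgroup.mem_sup_left n.2⟩ from rfl, h1] at h2
        rw [OneMemClass.coe_one, h2] at h3
        simpa [θ'] using h3
      apply hθ1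
      have : Subsingleton (N₀ ⧸ (⊤ : Subgroup N₀)) := QuotientGroup.subsingleton_quotient_top
      obtain ⟨ψ, hψ, hθψ⟩ := Char.isIrr_quotient_lift (⊤ : Subgroup N₀) θ.2 (fun n _ => hθker n)
      have hψ1 : ψ 1 = 1 := Char.irr_degree_one_of_comm (fun a b => by
        rw [Subsingleton.elim a b]) hψ
      funext n
      rw [hθψ, Function.comp_apply, show QuotientGroup.mk' (⊤ : Subgroup N₀) n = 1 from
        Subsingleton.elim _ _, hψ1]
    have hN₀N : N₀ ≤ N := hmax N₀ hN₀n hfpf
    have hKle : K ≤ NP := by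
      set K₁ := N₁ ⊔ (S : Subgroup K)
      have htop : K₁ = ⊤ := by
        rw [← Subgroup.index_eq_one]
        obtain ⟨k, hk⟩ := hidxN₁
        obtain ⟨i, -, hi⟩ := (Nat.dvd_prime_pow hp.out).mp
          (hk ▸ Subgroup.index_dvd_of_le (le_sup_left : N₁ ≤ K₁))
        rcases i with - | i
        · simpa using hi
        · exact absurd ((hi ▸ dvd_pow_self p i.succ_ne_zero).trans
            (Subgroup.index_dvd_of_le (le_sup_right : (S : Subgroup K) ≤ K₁))) S.not_dvd_index
      intro x hx
      obtain ⟨a, ha, b, hb, e⟩ := Subgroup.mem_sup_of_normal_left.mp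
        (htop ▸ Subgroup.mem_top (⟨x, hx⟩ : K) : (⟨x, hx⟩ : K) ∈ K₁)
      have hb' : (b : G) ∈ (P : Subgroup G) := Subgroup.mem_subgroupOf.mp (hS ▸ hb)
      have hcomm := hKP (b : G) b.2 hb'
      rw [show x = (a : G) * (b : G) from (congrArg Subtype.val e).symm]
      refine mul_mem (Subgroup.mem_sup_left (hN₀N ⟨a, ha, rfl⟩)) (Subgroup.mem_sup_right ?_)
      have h := Subgroup.mem_map_of_mem (P : Subgroup G).subtype hcomm
      rwa [_root_.commutator_def, Subgroup.map_commutator, ← MonoidHom.range_eq_map,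
        Subgroup.range_subtype] at h
    exact (Subgroup.normal_le_normalCore.mpr hKle) hgK

end

/-- Let G be a finite group, p a prime and P a Sylow p-subgroup, and let N be the largest normal subgroup of G in which P has trivial centralizer (N is normal with C_N(P) = 1 and contains every normal subgroup with that property). Then the intersection of the kernels of the irreducible characters of G of degree prime to p is the normal core in G of the subgroup N·P' (P' the derived subgroup of P). In particular, when G has no nontrivial normal subgroup of order prime to p, that intersection is the normal core of P'. -/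
theorem result {G : Type*} [Group G] [Finite G] (p : ℕ) [Fact p.Prime] (P : Sylow p G) (N : Subgroup G) [N.Normal]
    (hN : N ⊓ Subgroup.centralizer ((P : Subgroup G) : Set G) = ⊥)
    (hmax : ∀ L : Subgroup G, L.Normal → L ⊓ Subgroup.centralizer ((P : Subgroup G) : Set G) = ⊥ → L ≤ N) :
    {g : G | ∀ χ : Cfsg.IrrCharacter G, ¬ p ∣ Cfsg.charDegree (χ : G → ℂ) → (χ : G → ℂ) g = (χ : G → ℂ) 1} =
      ((N ⊔ ⁅(P : Subgroup G), (P : Subgroup G)⁆).normalCore : Set G) := by
  exact kernel_eq P N hN hmax

end Cfsg.Agent.S4591
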