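import Cfsg.Statements.S4602
import Cfsg.Agent.Lib.BlockA.PrincipalType
import Cfsg.Agent.Lib.Block.PSolvable
import Cfsg.Agent.Lib.Coprime.Sylow
import Cfsg.Agent.Lib.Comp.Subnormal

set_option autoImplicit false
open Cfsg

namespace Cfsg.Agent.S4602

/-- Let G be a finite p-solvable group and q a prime different from p. Some Sylow p-subgroup of G normalizes some Sylow q-subgroup of G if and only if q does not divide the order of G/O_{p'}(G), the quotient by the largest normal subgroup of order prime to p. -/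
theorem result {G : Type*} [Group G] [Finite G] (p q : ℕ) [Fact p.Prime] [Fact q.Prime] (hpq : p ≠ q) (hsolv : Cfsg.IsPSolvable p G) :
    (∃ (P : Sylow p G) (Q : Sylow q G), (P : Subgroup G) ≤ Subgroup.normalizer ((Q : Subgroup G) : Set G)) ↔ ¬ q ∣ (Cfsg.pPrimeCore p G).index := by
  classical
  haveI := Cfsg.pPrimeCore_normal p G
  set K := Cfsg.pPrimeCore p G with hK
  have hKc : (Nat.card K).Coprime p := CfsgLib.Comp.coprime_card_pPrimeCore p G
  have hq : q.Prime := Fact.out
  have hp : p.Prime := Fact.out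
  constructor
  · rintro ⟨P, Q, hPQ⟩
    set π := QuotientGroup.mk' K with hπ
    set U := Cfsg.pCore p (G ⧸ K) with hU
    haveI hUn : U.Normal := CfsgLib.Solvable.pCore_normal p _
    have hUp : IsPGroup p U := CfsgLib.Solvable.pCore_isPGroup p
    set Pb := (P.mapSurjective (QuotientGroup.mk'_surjective K) : Sylow p (G ⧸ K)) with hPb
    set Qb := (Q : Subgroup G).map π with hQb
    have hUP : U ≤ (Pb : Subgroup (G ⧸ K)) := by
      have h1 : IsPGroup p ((Pb : Subgroup (G ⧸ K)) ⊔ U : Subgroup (G ⧸ K)) :=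
        Pb.isPGroup'.to_sup_of_normal_right hUp
      exact le_sup_right.trans (Pb.is_maximal' h1 le_sup_left).le
    have hUQ : U ≤ Subgroup.normalizer (Qb : Set (G ⧸ K)) := by
      refine hUP.trans ?_
      rw [hPb, Sylow.coe_mapSurjective]
      exact (Subgroup.map_mono hPQ).trans (Subgroup.le_normalizer_map π)
    have hQU : Qb ≤ Subgroup.centralizer (U : Set (G ⧸ K)) := by
      intro z hz
      rw [Subgroup.mem_centralizer_iff]
      intro u hu
      have h1 : u * z * u⁻¹ * z⁻¹ ∈ U ⊓ Qb := by
        refine Subgroup.mem_inf.2 ⟨?_, Subgroup.mul_mem _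
          ((Subgroup.mem_normalizer_iff.1 (hUQ hu) z).1 hz) (Subgroup.inv_mem _ hz)⟩
        rw [mul_assoc, mul_assoc u]
        refine Subgroup.mul_mem _ hu ?_
        have h0 := hUn.conj_mem u⁻¹ (Subgroup.inv_mem _ hu) z
        rwa [mul_assoc] at h0
      have h2 : U ⊓ Qb = ⊥ :=
        (IsPGroup.disjoint_of_ne p q hpq U Qb hUp (Q.isPGroup'.map π)).eq_bot
      rw [h2, Subgroup.mem_bot, mul_inv_eq_one, mul_inv_eq_iff_eq_mul] at h1
      exact h1
    have hQb' : Qb ≤ U := hQU.trans (CfsgLib.Block.centralizer_pCore_le_of_isPSolvable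
      (CfsgLib.BlockA.isPSolvable_of_surjective π (QuotientGroup.mk'_surjective K) hsolv)
      (CfsgLib.Comp.pPrimeCore_quotient_eq_bot p G))
    have hbot : Qb = ⊥ := by
      have h2 := (IsPGroup.disjoint_of_ne p q hpq U Qb hUp (Q.isPGroup'.map π)).eq_bot
      rwa [inf_eq_right.2 hQb'] at h2
    have hQK : (Q : Subgroup G) ≤ K := by
      have := (Subgroup.map_eq_bot_iff _).1 hbot
      rwa [hπ, QuotientGroup.ker_mk'] at this
    intro hd
    have h3 : q ^ (Nat.card G).factorization q ∣ Nat.card K :=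
      Q.card_eq_multiplicity ▸ Subgroup.card_dvd_of_le hQK
    obtain ⟨w, hw⟩ := hd
    refine Nat.pow_succ_factorization_not_dvd (n := Nat.card G) Nat.card_pos.ne' hq ?_
    rw [pow_succ, ← K.card_mul_index, hw]
    refine Nat.mul_dvd_mul ?_ ⟨w, rfl⟩
    rwa [← hw, K.card_mul_index]
  · intro hidx
    obtain ⟨P⟩ := (inferInstance : Nonempty (Sylow p G))
    have hcop : (Nat.card (P : Subgroup G)).Coprime (Nat.card K) := by
      rw [P.card_eq_multiplicity]
      exact Nat.Coprime.pow_left _ hKc.symm
    have hsol : Group.IsSolvable (P : Subgroup G) := by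
      have := P.isPGroup'.isNilpotent
      infer_instance
    obtain ⟨Q', hQ'⟩ := CfsgLib.Coprime.exists_invariant_sylow (X := G)
      (A := (P : Subgroup G)) (G := K) Subgroup.le_normalizer_of_normal hcop (Or.inl hsol) q
    refine ⟨P, Sylow.ofCard ((Q' : Subgroup K).map K.subtype) ?_, hQ'⟩
    rw [Subgroup.card_map_of_injective K.subtype_injective, Q'.card_eq_multiplicity,
      ← K.card_mul_index, Nat.factorization_mul Nat.card_pos.ne' Subgroup.index_ne_zero_of_finite]
    simp [Nat.factorization_eq_zero_of_not_dvd hidx]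

end Cfsg.Agent.S4602
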