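import Cfsg.Statements.S4609
import Cfsg.Agent.Lib.BlockA.NormalThree
import Cfsg.Agent.Lib.BlockA.EqualHeightZeroNormal
import Cfsg.Agent.Lib.BlockA.CentralDefect
import Cfsg.Agent.Lib.ClassK.Kulakov

set_option maxHeartbeats 1000000
-- import your own Cfsg.Agent.* helpers here

set_option autoImplicit false
open Cfsg

namespace Cfsg.Agent.S4609

/-- Let G be a finite group, p a prime, M a maximal ideal of the algebraic integers containing p, and B a p-block of G with defect group D containing exactly three irreducible characters. Suppose the number of height-zero characters of B equals the number of height-zero characters of its Brauer correspondent b, the block of N_G(D) with defect group D inducing B (as the Alperin–McKay conjecture predicts). Then D has order 3. -/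
theorem result {G : Type*} [Group G] [Finite G] (p : ℕ) [Fact p.Prime] (M : Ideal Cfsg.AlgInt) (hM : Cfsg.IsPModular p M) (B : Set (Cfsg.IrrCharacter G)) (hB : Cfsg.IsPBlock M B) (D : Subgroup G) (hD : Cfsg.IsDefectGroup p M B D) (hk : Nat.card B = 3)
    (b : Set (Cfsg.IrrCharacter (Subgroup.normalizer (D : Set G)))) (hbB : Cfsg.IsInducedBlock M (Subgroup.normalizer (D : Set G)) b B)
    (hbD : Cfsg.IsDefectGroup p M b (D.subgroupOf (Subgroup.normalizer (D : Set G))))
    (hAM : Nat.card {χ : Cfsg.IrrCharacter G // χ ∈ B ∧ Cfsg.blockHeight p B (χ : G → ℂ) = 0} =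
           Nat.card {ψ : Cfsg.IrrCharacter (Subgroup.normalizer (D : Set G)) // ψ ∈ b ∧ Cfsg.blockHeight p b (ψ : Subgroup.normalizer (D : Set G) → ℂ) = 0}) :
    Nat.card D = 3 := by
  classical
  have := Fintype.ofFinite G
  have := hM.2.1.isPrime
  have hcard := CfsgLib.Block.natCard_defectGroup hM hB hD
  set Db := D.subgroupOf (Subgroup.normalizer (D : Set G)) with hDb
  have hDbcard : Nat.card Db = Nat.card D :=
    Nat.card_congr (Subgroup.subgroupOfEquivOfLe Subgroup.le_normalizer).toEquiv
  have : Db.Normal := Subgroup.normal_in_normalizer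
  have hb := hbB.1
  have hDp : IsPGroup p Db := CfsgLib.Block.isPGroup_defectGroup hM hb hbD
  have := Fintype.ofFinite (Subgroup.normalizer (D : Set G))
  set K : Subgroup ↥(Subgroup.normalizer (D : Set G)) := ⁅Db, Db⁆ with hK
  have hKD : K ≤ Db := Subgroup.commutator_le_self Db
  have : K.Normal := Subgroup.commutator_normal Db Db
  have := Fintype.ofFinite (↥(Subgroup.normalizer (D : Set G)) ⧸ K)
  set mk := QuotientGroup.mk' K with hmk
  set A := Db.map mk with hA
  obtain ⟨Bb, hBb, hsub, hdef⟩ :=
    CfsgLib.BlockA.QuotientDefect.exists_block_images K hM (hDp.to_le hKD) hb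
  have hAD : Cfsg.IsDefectGroup p M Bb A := (hdef A).2 ⟨Db, hbD, rfl⟩
  have : A.Normal := Subgroup.Normal.map inferInstance mk (QuotientGroup.mk'_surjective K)
  have hab : ∀ v ∈ A, ∀ w ∈ A, v * w = w * v := by
    rintro _ ⟨x, hx, rfl⟩ _ ⟨y, hy, rfl⟩
    rw [← map_mul, ← map_mul]
    refine QuotientGroup.eq.2 ?_
    rw [show (x * y)⁻¹ * (y * x) = y⁻¹ * x⁻¹ * (y⁻¹)⁻¹ * (x⁻¹)⁻¹ by group,
      ← commutatorElement_def]
    exact Subgroup.commutator_mem_commutator (inv_mem hy) (inv_mem hx)
  have hidx : A.index = Db.index :=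
    Subgroup.index_map_eq _ (QuotientGroup.mk'_surjective K) (by rwa [QuotientGroup.ker_mk'])
  have hAp := CfsgLib.Block.isPGroup_defectGroup hM hBb hAD
  have := Fintype.ofFinite A
  have hAcard : Nat.card A * Nat.card K = Nat.card Db := by
    rw [← Subgroup.card_mul_index (K.subgroupOf Db),
      Nat.card_congr (Subgroup.subgroupOfEquivOfLe hKD).toEquiv, mul_comm]
    congr 1
    have h1 : (mk.subgroupMap Db).ker = K.subgroupOf Db := by
      ext x
      simp [MonoidHom.mem_ker, Subgroup.mem_subgroupOf, hmk, ← Subtype.coe_inj,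
        QuotientGroup.eq_one_iff]
    rw [← h1, Subgroup.index_ker, MonoidHom.range_eq_top_of_surjective _
      (mk.subgroupMap_surjective Db), Subgroup.card_top]
  have hht : ∀ η ∈ Bb, (Cfsg.charDegree (η : ↥(Subgroup.normalizer (D : Set G)) ⧸ K → ℂ)).factorization p =
      A.index.factorization p := by
    intro η hη
    refine le_antisymm ?_ ?_
    · obtain ⟨n, ρ, hρ, hηρ⟩ := η.2
      have h := CfsgLib.Char.ito_degree_dvd_index ρ A hab
      have e : Cfsg.charDegree (η : ↥(Subgroup.normalizer (D : Set G)) ⧸ K → ℂ) = Module.finrank ℂ (Fin n → ℂ) := by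
        apply Nat.cast_injective (R := ℂ)
        rw [CfsgLib.Block.charDegree_cast (CfsgLib.Char.irr_isCharacter η.2), ← hηρ,
          Representation.char_one]
      exact (Nat.factorization_le_iff_dvd (CfsgLib.Block.charDegree_ne_zero η.2)
        Subgroup.index_ne_zero_of_finite).2 (e ▸ h) p
    · obtain ⟨φ, hφ⟩ := CfsgLib.Block.exists_constituent_res (N := A) η
      exact le_trans (Nat.le_add_right _ _) (CfsgLib.Block.factorization_degree_ge hM hBb hAD hη hφ)
  have hheight : ∀ η ∈ Bb, Cfsg.blockHeight p b
      ((CfsgLib.BlockA.Dominated.infl K η : Cfsg.IrrCharacter (Subgroup.normalizer (D : Set G))) : (Subgroup.normalizer (D : Set G)) → ℂ) = 0 := by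
    intro η hη
    refine (CfsgLib.Block.blockHeight_eq_zero_iff hM hb (hsub η hη)).2
      (le_antisymm ?_ (Nat.sInf_le ⟨_, hsub η hη, rfl⟩))
    rw [CfsgLib.BlockA.Dominated.charDegree_infl, hht η hη, hidx]
    have h2 : Db.index.factorization p + (Nat.card Db).factorization p =
        (Nat.card (Subgroup.normalizer (D : Set G))).factorization p := by
      rw [← Subgroup.index_mul_card Db, Nat.factorization_mul Subgroup.index_ne_zero_of_finite
        Nat.card_pos.ne', Finsupp.add_apply]
    rw [CfsgLib.Block.natCard_defectGroup hM hb hbD, (Fact.out : p.Prime).factorization_pow,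
      Finsupp.single_eq_same] at h2
    have h3 := CfsgLib.Block.sInf_degree_add_blockDefect hM hb
    omega
  have hk3 : Nat.card Bb ≤ 3 := by
    calc Nat.card Bb ≤ Nat.card {ψ : Cfsg.IrrCharacter (Subgroup.normalizer (D : Set G)) //
          ψ ∈ b ∧ Cfsg.blockHeight p b (ψ : (Subgroup.normalizer (D : Set G)) → ℂ) = 0} :=
          Nat.card_le_card_of_injective
            (fun η => ⟨CfsgLib.BlockA.Dominated.infl K η.1, hsub η.1 η.2, hheight η.1 η.2⟩)
            (fun η η' h => Subtype.ext (CfsgLib.BlockA.Dominated.infl_injective K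
              (congrArg Subtype.val h :)))
      _ = _ := hAM.symm
      _ ≤ Nat.card B := Nat.card_le_card_of_injective (fun χ => ⟨χ.1, χ.2.1⟩)
            (fun χ χ' h => Subtype.ext (congrArg Subtype.val h :))
      _ = 3 := hk
  obtain ⟨eb, hmax⟩ := CfsgLib.BlockA.DefectOneStar.exists_maximal_pair hM hBb hAD
  have hA3 := CfsgLib.BlockA.NormalThree.natCard_le_three hM hmax hab hht hk3
  -- the defect group is abelian
  have hKbot : K = ⊥ := by
    have hcyc : IsCyclic Db := by
      by_contra hnc
      have h := CfsgLib.ClassK.Kulakov.sq_le_index_commutator hDp hnc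
      have hmap : Subgroup.map Db.subtype (_root_.commutator Db) = K := Subgroup.map_subtype_commutator Db
      have h1 : Nat.card K = Nat.card (_root_.commutator Db) := by
        rw [← hmap, Subgroup.card_map_of_injective Db.subtype_injective]
      have h2 := Subgroup.card_mul_index (_root_.commutator Db)
      rw [← h1, ← hAcard, mul_comm (Nat.card A)] at h2
      rw [mul_left_cancel₀ Nat.card_pos.ne' h2] at h
      have := (Fact.out : p.Prime).two_le
      nlinarith
    rw [hK, ← Subgroup.map_subtype_commutator Db]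
    have : _root_.commutator Db = ⊥ := by
      obtain ⟨g, hg⟩ := hcyc.exists_generator
      rw [commutator_def, Subgroup.commutator_eq_bot_iff_le_centralizer]
      intro x _
      refine Subgroup.mem_centralizer_iff.2 fun y _ => ?_
      obtain ⟨i, rfl⟩ := Subgroup.mem_zpowers_iff.1 (hg x)
      obtain ⟨j, rfl⟩ := Subgroup.mem_zpowers_iff.1 (hg y)
      exact ((Commute.refl g).zpow_zpow j i).eq
    rw [this, Subgroup.map_bot]
  have hK1 : Nat.card K = 1 := Subgroup.card_eq_one.2 hKbot
  rw [hK1, mul_one] at hAcard
  -- small orders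
  have hle : Nat.card D ≤ 3 := by rw [← hDbcard, ← hAcard]; exact hA3
  rcases (show Nat.card D = 1 ∨ Nat.card D = 2 ∨ Nat.card D = 3 by
    have := Nat.card_pos (α := D); omega) with h | h | h
  · exfalso
    have hbot : D ≤ Subgroup.center G := by
      rw [Subgroup.eq_bot_of_card_eq D h]; exact bot_le
    have := Fintype.ofFinite D
    have hc := CfsgLib.BlockA.natCard_block_of_central_defect hM hB hD hbot
    omega
  · exfalso
    rw [hcard] at h
    have := (CfsgLib.BlockA.card_two_iff hM hB).2 h
    omega
  · exact h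

end Cfsg.Agent.S4609
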