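import Cfsg.Statements.S4611
import Cfsg.Agent.Lib.BlockA.PrincipalType
import Cfsg.Agent.Lib.Block.KerNormal
import Cfsg.Agent.Lib.BlockB.PEltValue
import Cfsg.Agent.Lib.Solvable.HallHigman
import Cfsg.Agent.Lib.Comp.Subnormal

set_option autoImplicit false
open Cfsg

namespace Cfsg.Agent.S4611

open CfsgLib.Block in
theorem mem_principalBlock_iff {G : Type*} [Group G] [Finite G] [Group.IsSolvable G] {p : ℕ}
    [Fact p.Prime] {M : Ideal Cfsg.AlgInt} (hM : Cfsg.IsPModular p M) (χ : Cfsg.IrrCharacter G) :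
    χ ∈ Cfsg.principalBlock M G ↔ Cfsg.pPrimeCore p G ≤ kerIrr χ := by
  classical
  have := Fintype.ofFinite G
  have := CfsgLib.Block.isPrime_of_pmodular hM
  have := Fintype.ofFinite (Cfsg.pPrimeCore p G)
  have hc : (Nat.card (Cfsg.pPrimeCore p G)).Coprime p :=
    CfsgLib.Comp.coprime_card_pPrimeCore p G
  have hNp : ¬ p ∣ Nat.card (Cfsg.pPrimeCore p G) :=
    (Fact.out : p.Prime).coprime_iff_not_dvd.1 hc.symm
  refine ⟨fun h => le_kerIrr_of_mem_principalBlock hM hNp h, fun h => ?_⟩
  have hcons := CfsgLib.Solvable.centralizer_pCore_le p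
    (CfsgLib.Comp.pPrimeCore_quotient_eq_bot p G)
  obtain ⟨B, hB, hmem, -⟩ := CfsgLib.BlockA.principalType hM hcons hc
    (trivIrr (G := Cfsg.pPrimeCore p G)) conjIrr_trivIrr
  have h1 := (hmem (trivIrr (G := G))).2 ((le_kerIrr_iff_constituent _).1 fun _ _ => rfl)
  have h2 := (hmem χ).2 ((le_kerIrr_iff_constituent χ).1 h)
  exact mem_of_sameBlock isPBlock_principalBlock one_mem_principalBlock
    (sameBlock_of_mem hB h1 h2)

/-- Let G be a finite solvable group and π a nonempty set of primes, each dividing the order of G; fix for each p in π a maximal ideal M p of the algebraic integers containing p. Then the only irreducible character lying in the principal p-block for every p in π is the principal character if and only if G is generated by the subgroups O_{p'}(G), p in π (the largest normal subgroups of order prime to p). -/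
theorem result {G : Type*} [Group G] [Finite G] [Group.IsSolvable G] (π : Set ℕ) (hπ : ∀ p ∈ π, p.Prime ∧ p ∣ Nat.card G) (hne : π.Nonempty) (M : ℕ → Ideal Cfsg.AlgInt) (hM : ∀ p ∈ π, Cfsg.IsPModular p (M p)) :
    (∀ χ : Cfsg.IrrCharacter G, (∀ p ∈ π, χ ∈ Cfsg.principalBlock (M p) G) → (χ : G → ℂ) = fun _ => 1) ↔
      ⨆ p ∈ π, Cfsg.pPrimeCore p G = ⊤ := by
  classical
  have hsup : (⨆ p ∈ π, Cfsg.pPrimeCore p G).Normal := by
    refine ⟨fun n hn g => ?_⟩
    revert n
    show (⨆ p ∈ π, Cfsg.pPrimeCore p G) ≤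
      (⨆ p ∈ π, Cfsg.pPrimeCore p G).comap (MulAut.conj g).toMonoidHom
    refine iSup₂_le fun p hp n hn => ?_
    exact (le_iSup₂ (f := fun p (_ : p ∈ π) => Cfsg.pPrimeCore p G) p hp)
      ((Cfsg.pPrimeCore_normal p G).conj_mem n hn g)
  set N := ⨆ p ∈ π, Cfsg.pPrimeCore p G with hN
  constructor
  · intro h
    by_contra hne'
    obtain ⟨x, hx⟩ : ∃ x : G, x ∉ N := by
      by_contra hc
      push_neg at hc
      exact hne' ((Subgroup.eq_top_iff' N).2 hc)
    obtain ⟨χ, hχ⟩ := CfsgLib.Char.exists_irr_apply_ne (g := (x : G ⧸ N))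
      (fun he => hx ((QuotientGroup.eq_one_iff x).1 he))
    set χ' := CfsgLib.BlockB.quotIrrEquiv N χ
    have h1 : ((χ' : Cfsg.IrrCharacter G) : G → ℂ) = fun _ => 1 := h χ'.1 fun p hp => by
      haveI := Fact.mk (hπ p hp).1
      refine (mem_principalBlock_iff (hM p hp) _).2 fun n hn => ?_
      exact CfsgLib.Block.mem_kerIrr.2 (χ'.2 n
        ((le_iSup₂ (f := fun p (_ : p ∈ π) => Cfsg.pPrimeCore p G) p hp) hn))
    apply hχ
    have e1 := congrFun h1 x
    have e2 := congrFun h1 1
    rw [CfsgLib.BlockB.quotIrrEquiv_apply] at e1 e2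
    simpa using e1.trans e2.symm
  · intro htop χ hχ
    have hker : CfsgLib.Block.kerIrr χ = ⊤ := by
      refine top_le_iff.1 (htop ▸ iSup₂_le fun p hp => ?_)
      haveI := Fact.mk (hπ p hp).1
      exact (mem_principalBlock_iff (hM p hp) χ).1 (hχ p hp)
    have hc : ∀ g, (χ : G → ℂ) g = (χ : G → ℂ) 1 := fun g =>
      CfsgLib.Block.mem_kerIrr.1 (hker ▸ Subgroup.mem_top g)
    have := Fintype.ofFinite G
    have hs := CfsgLib.Char.irr_classInner_self χ.2
    have he : (χ : G → ℂ) = (χ : G → ℂ) 1 • fun _ : G => (1 : ℂ) := funext fun g => by simp [hc g]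
    have h0 := CfsgLib.Char.isIrrCharacter_one (G := G)
    by_cases hd : (χ : G → ℂ) = fun _ => 1
    · exact hd
    · have ho := CfsgLib.Char.irr_classInner_ne χ.2 h0 hd
      rw [he, CfsgLib.Char.classInner_smul_left, CfsgLib.Char.irr_classInner_self h0, mul_one] at ho
      exact absurd ho (CfsgLib.Char.irr_apply_one_ne_zero χ.2)

end Cfsg.Agent.S4611
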