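import Cfsg.Statements.S4614
import Cfsg.Statements.S4614
import Cfsg.Agent.Lib.BlockA.FewPrincipal
import Cfsg.Agent.Lib.Transfer.Frobenius

set_option autoImplicit false
open Cfsg

namespace Cfsg.Agent.S4614

/-- Let G be a finite group, p a prime and M a maximal ideal of the algebraic integers containing p. If the principal p-block of G contains exactly three irreducible characters, then a Sylow p-subgroup of G has order 3 (so p = 3). -/
theorem result {G : Type*} [Group G] [Finite G] (p : ℕ) [Fact p.Prime] (M : Ideal Cfsg.AlgInt) (hM : Cfsg.IsPModular p M) (hk : Nat.card (Cfsg.principalBlock M G) = 3) (D : Sylow p G) : Nat.card (D : Subgroup G) = 3 := by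
  classical
  have := Fintype.ofFinite G
  have := CfsgLib.Block.isPrime_of_pmodular hM
  obtain ⟨X, hXp, hXcov, -, hcount⟩ := CfsgLib.BlockA.FewPrincipal.exists_count (G := G) hM
  have hB : Cfsg.IsPBlock M (Cfsg.principalBlock M G) := CfsgLib.Block.isPBlock_principalBlock
  rw [hk] at hcount
  by_cases hl1 : Cfsg.blockRank p (Cfsg.principalBlock M G) = 1
  · exact CfsgLib.BlockA.FewPrincipal.card_three_of_complement hM
      (CfsgLib.BlockA.complement_of_blockRank_principal hM hl1) hk D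
  have hl2 : 2 ≤ Cfsg.blockRank p (Cfsg.principalBlock M G) := by
    have := CfsgLib.BlockA.one_le_blockRank hM hB
    omega
  have hterm : ∀ u ∈ X, 1 ≤ Cfsg.blockRank p
      (Cfsg.principalBlock M (Subgroup.centralizer ({u} : Set G))) := fun u _ =>
    CfsgLib.BlockA.one_le_blockRank hM CfsgLib.Block.isPBlock_principalBlock
  -- there is a nontrivial p-element
  have hne : X.Nonempty := by
    by_contra hX0
    have hp' : ¬ p ∣ Nat.card G := fun h => by
      obtain ⟨g, hg⟩ := exists_prime_orderOf_dvd_card' p h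
      obtain ⟨u, hu, -⟩ := hXcov g (fun e => hM.1.ne_one (by rw [← hg, e, orderOf_one]))
        ⟨1, by rw [hg, pow_one]⟩
      exact hX0 ⟨u, hu⟩
    have h1 : ∀ χ ∈ Cfsg.principalBlock M G, χ = CfsgLib.Block.trivIrr := by
      intro χ hχ
      have hker := CfsgLib.Block.le_kerIrr_of_mem_principalBlock (N := (⊤ : Subgroup G)) hM
        (by rwa [Subgroup.card_top]) hχ
      have hall : ∀ g : G, (χ : G → ℂ) g = (χ : G → ℂ) 1 := fun g => hker (Subgroup.mem_top g)
      have hd : (χ : G → ℂ) 1 = 1 := by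
        have h := CfsgLib.Char.irr_classInner_self χ.2
        rw [CfsgLib.Char.classInner_def, Finset.sum_congr rfl (g := fun _ =>
          ((Cfsg.charDegree (χ : G → ℂ) : ℂ) ^ 2)) fun g _ => by
            rw [hall g, ← CfsgLib.BlockB.irr_degree_cast χ, Complex.conj_natCast, sq],
          Finset.sum_const, Finset.card_univ, nsmul_eq_mul, Nat.card_eq_fintype_card,
          inv_mul_cancel_left₀ (Nat.cast_ne_zero.2 Fintype.card_ne_zero)] at h
        have h' : Cfsg.charDegree (χ : G → ℂ) ^ 2 = 1 := by exact_mod_cast h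
        rw [← CfsgLib.BlockB.irr_degree_cast χ, (pow_eq_one_iff.1 h').resolve_right two_ne_zero, Nat.cast_one]
      exact Subtype.ext (funext fun g => by rw [hall g, hd]; rfl)
    have h2 : Nat.card (Cfsg.principalBlock M G) ≤ 1 := Finite.card_le_one_iff_subsingleton.2
      ⟨fun a b => Subtype.ext ((h1 a.1 a.2).trans (h1 b.1 b.2).symm)⟩
    omega
  have hcardX : X.card ≤ 1 := by
    have := Finset.card_nsmul_le_sum X _ 1 hterm
    rw [smul_eq_mul, mul_one] at this
    omega
  obtain ⟨x, rfl⟩ := Finset.card_eq_one.1 (le_antisymm hcardX hne.card_pos)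
  obtain ⟨hx1, hxp⟩ := hXp x (Finset.mem_singleton_self x)
  have hone : ∀ g : G, g ≠ 1 → (∃ k : ℕ, orderOf g = p ^ k) → IsConj g x := fun g hg hgp => by
    obtain ⟨u, hu, huc⟩ := hXcov g hg hgp
    rwa [Finset.mem_singleton.1 hu] at huc
  rw [Finset.sum_singleton] at hcount
  have hlx : Cfsg.blockRank p
      (Cfsg.principalBlock M (Subgroup.centralizer ({x} : Set G))) = 1 := by
    have := hterm x (Finset.mem_singleton_self x)
    omega
  obtain ⟨a, ha, ha0, hnorm, hdeg, hfact⟩ :=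
    CfsgLib.BlockA.FewPrincipal.column_data hM hx1 hxp hone hlx D
  set T := (Cfsg.principalBlock M G).toFinite.toFinset with hT
  have htriv : (CfsgLib.Block.trivIrr : Cfsg.IrrCharacter G) ∈ T :=
    (Set.Finite.mem_toFinset _).2 CfsgLib.Block.one_mem_principalBlock
  have hT3 : T.card = 3 := by rw [hT, ← Nat.card_eq_card_finite_toFinset, hk]
  have hTe : (T.erase CfsgLib.Block.trivIrr).card = 2 := by
    rw [Finset.card_erase_of_mem htriv, hT3]
  obtain ⟨χ₁, χ₂, h12, he⟩ := Finset.card_eq_two.1 hTe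
  have hm1 : χ₁ ≠ CfsgLib.Block.trivIrr ∧ χ₁ ∈ T :=
    Finset.mem_erase.1 (by rw [he]; simp)
  have hm2 : χ₂ ≠ CfsgLib.Block.trivIrr ∧ χ₂ ∈ T :=
    Finset.mem_erase.1 (by rw [he]; simp)
  have hB1 : χ₁ ∈ Cfsg.principalBlock M G := (Set.Finite.mem_toFinset _).1 hm1.2
  have hB2 : χ₂ ∈ Cfsg.principalBlock M G := (Set.Finite.mem_toFinset _).1 hm2.2
  have hd0 : Cfsg.charDegree ((CfsgLib.Block.trivIrr : Cfsg.IrrCharacter G) : G → ℂ) = 1 := by
    simp [CfsgLib.Block.trivIrr, Cfsg.charDegree]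
  have hnormT := hnorm
  rw [← Finset.add_sum_erase T _ htriv, he, Finset.sum_pair h12, ha0] at hnorm
  rw [← Finset.add_sum_erase T _ htriv, he, Finset.sum_pair h12, ha0, hd0] at hdeg
  set d₁ : ℤ := (Cfsg.charDegree (χ₁ : G → ℂ) : ℤ) with hd1
  set d₂ : ℤ := (Cfsg.charDegree (χ₂ : G → ℂ) : ℤ) with hd2
  -- duality permutes the two nontrivial members
  have hperm : ∀ χ ψ : Cfsg.IrrCharacter G, χ ∈ Cfsg.principalBlock M G →
      χ ≠ CfsgLib.Block.trivIrr → T.erase CfsgLib.Block.trivIrr = {χ, ψ} →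
      ¬ (∀ g : G, ((χ : G → ℂ) g).im = 0) → CfsgLib.BlockA.FewPrincipal.dual χ = ψ := by
    intro χ ψ hχ hne' hE hnr
    have hmem : CfsgLib.BlockA.FewPrincipal.dual χ ∈ T.erase CfsgLib.Block.trivIrr :=
      Finset.mem_erase.2 ⟨fun h => hne' ((CfsgLib.BlockA.FewPrincipal.dual_eq_triv_iff χ).1 h),
        (Set.Finite.mem_toFinset _).2 (CfsgLib.BlockA.FewPrincipal.dual_mem hM hχ)⟩
    rw [hE, Finset.mem_insert, Finset.mem_singleton] at hmem
    exact hmem.resolve_left fun h => hnr ((CfsgLib.BlockA.FewPrincipal.dual_eq_self_iff χ).1 h)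
  have hpair : ∀ χ ψ : Cfsg.IrrCharacter G, χ ∈ Cfsg.principalBlock M G →
      ψ ∈ Cfsg.principalBlock M G → CfsgLib.BlockA.FewPrincipal.dual χ = ψ →
      a ψ = a χ ∧ Cfsg.charDegree (ψ : G → ℂ) = Cfsg.charDegree (χ : G → ℂ) := by
    intro χ ψ hχ hψ h
    subst h
    refine ⟨Int.cast_injective (α := ℂ) ?_, Nat.cast_injective (R := ℂ) ?_⟩
    · rw [← ha _ hψ, CfsgLib.BlockA.FewPrincipal.dual_apply, ha _ hχ, map_intCast]
    · rw [CfsgLib.BlockB.irr_degree_cast, CfsgLib.BlockB.irr_degree_cast,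
        CfsgLib.BlockA.FewPrincipal.dual_apply, ← CfsgLib.BlockB.irr_degree_cast χ,
        Complex.conj_natCast]
  have hnopair : ¬ (a χ₂ = a χ₁ ∧ d₂ = d₁) := by
    rintro ⟨e1, e2⟩
    rw [e1, e2] at hdeg
    push_cast at hdeg
    have h2 : (2 : ℤ) ∣ 1 := ⟨-(a χ₁ * d₁), by linear_combination hdeg⟩
    norm_num at h2
  have hreal1 : ∀ g : G, ((χ₁ : G → ℂ) g).im = 0 := by
    by_contra hn
    obtain ⟨e1, e2⟩ := hpair χ₁ χ₂ hB1 hB2 (hperm χ₁ χ₂ hB1 hm1.1 he hn)
    exact hnopair ⟨e1, by rw [hd1, hd2, e2]⟩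
  have hreal2 : ∀ g : G, ((χ₂ : G → ℂ) g).im = 0 := by
    by_contra hn
    obtain ⟨e1, e2⟩ := hpair χ₂ χ₁ hB2 hB1
      (hperm χ₂ χ₁ hB2 hm2.1 (by rw [he, Finset.pair_comm]) hn)
    exact hnopair ⟨e1.symm, by rw [hd1, hd2, e2]⟩
  have hp : p ∣ Nat.card G := by
    obtain ⟨j, hj⟩ := hxp
    rcases j with _ | j
    · exact absurd (orderOf_eq_one_iff.1 (by rwa [pow_zero] at hj)) hx1
    · exact (Dvd.intro_left _ (pow_succ p j).symm).trans (hj ▸ orderOf_dvd_natCard x)
  rcases eq_or_ne p 2 with rfl | hp2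
  · exfalso
    -- four divides the order of a Sylow subgroup
    have h4 : (4 : ℤ) ∣ (Nat.card (D : Subgroup G) : ℤ) := by
      have hf := hM.1.factorization_pos_of_dvd Nat.card_pos.ne' hp
      rcases eq_or_ne ((Nat.card G).factorization 2) 1 with h1 | h1
      · exfalso
        refine hl1 (CfsgLib.BlockA.blockRank_principal_of_complement hM
          (CfsgLib.Transfer.hasNormalPComplement_of_normalizer_le_centralizer D ?_))
        have hc2 : Nat.card (D : Subgroup G) = 2 := by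
          rw [D.card_eq_multiplicity, h1, pow_one]
        intro n hn
        refine Subgroup.mem_centralizer_iff.2 fun w hw => ?_
        obtain ⟨c, hcne, hcu⟩ := (Nat.card_eq_two_iff' (1 : (D : Subgroup G))).1 hc2
        rcases eq_or_ne w 1 with rfl | hw1
        · rw [one_mul, mul_one]
        have hconj : n * w * n⁻¹ ∈ (D : Subgroup G) := (Subgroup.mem_normalizer_iff.1 hn w).1 hw
        have e1 := hcu ⟨w, hw⟩ (fun e => hw1 (congrArg Subtype.val e :))
        have e2 := hcu ⟨n * w * n⁻¹, hconj⟩ (fun e => hw1 (by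
          simpa [mul_inv_eq_one] using (congrArg Subtype.val e :)))
        have e3 : n * w * n⁻¹ = w := congrArg Subtype.val (e2.trans e1.symm)
        exact (mul_inv_eq_iff_eq_mul.1 e3).symm
      · rw [D.card_eq_multiplicity]
        exact_mod_cast (show 2 ^ 2 ∣ 2 ^ (Nat.card G).factorization 2 from
          pow_dvd_pow 2 (by omega))
    rw [← hnorm, show (4 : ℤ) = ((4 : ℕ) : ℤ) from rfl, ← ZMod.intCast_zmod_eq_zero_iff_dvd] at h4
    push_cast at h4
    revert h4
    generalize ((a χ₁ : ℤ) : ZMod 4) = u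
    generalize ((a χ₂ : ℤ) : ZMod 4) = v
    revert u v
    decide
  -- odd primes
  have hfs := CfsgLib.BlockA.FewPrincipal.fs_column hM hp2 hxp hlx hfact D a ha hnormT
  rw [← Finset.add_sum_erase T _ htriv, he, Finset.sum_pair h12, ha0] at hfs
  have hν0 : CfsgLib.BlockB.fsInd (CfsgLib.Block.trivIrr : Cfsg.IrrCharacter G) = 1 :=
    CfsgLib.BlockA.fsInd_one
  have hν : ∀ χ : Cfsg.IrrCharacter G, (∀ g : G, ((χ : G → ℂ) g).im = 0) →
      CfsgLib.BlockB.fsInd χ = 1 ∨ CfsgLib.BlockB.fsInd χ = -1 := fun χ hr => by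
    rcases CfsgLib.BlockB.fsInd_cases χ with ⟨-, h⟩ | ⟨h, -⟩
    · exact absurd hr h
    · exact h
  rw [hν0, Int.cast_one, one_mul] at hfs
  have hpm : a χ₂ = a χ₁ ∨ a χ₂ = -a χ₁ := by
    rcases hν χ₁ hreal1 with e1 | e1 <;> rcases hν χ₂ hreal2 with e2 | e2 <;> rw [e1, e2] at hfs
    · right; exact Int.cast_injective (α := ℂ) (by push_cast; linear_combination hfs)
    · left; exact Int.cast_injective (α := ℂ) (by push_cast; linear_combination -hfs)
    · left; exact Int.cast_injective (α := ℂ) (by push_cast; linear_combination hfs)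
    · right; exact Int.cast_injective (α := ℂ) (by push_cast; linear_combination -hfs)
  have hunit : a χ₁ = 1 ∨ a χ₁ = -1 := by
    refine Int.isUnit_iff.1 (isUnit_of_dvd_one ?_)
    rcases hpm with e | e <;> rw [e] at hdeg
    · exact ⟨-(d₁ + d₂), by linear_combination hdeg⟩
    · exact ⟨d₂ - d₁, by linear_combination hdeg⟩
  have h3 : ((Nat.card (D : Subgroup G) : ℕ) : ℤ) = 3 := by
    rw [← hnorm]
    rcases hpm with e | e <;> rcases hunit with e' | e' <;> rw [e, e'] <;> norm_num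
  exact_mod_cast h3

end Cfsg.Agent.S4614
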