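import Cfsg.Statements.S4620
import Cfsg.Agent.Lib.Comp.Subnormal

set_option autoImplicit false
open scoped Pointwise
open Cfsg
open scoped Pointwise

namespace Cfsg.Agent.S4620

theorem conj_smul_mem {H : Type*} [Group H] (g : H) (K : Subgroup H) {x : H} :
    x ∈ MulAut.conj g • K ↔ g⁻¹ * x * g ∈ K := by
  rw [Subgroup.mem_pointwise_smul_iff_inv_smul_mem]
  simp [MulAut.smul_def]

/-- Let H be a finite group with no nontrivial normal p-subgroup and no nontrivial normal subgroup of order prime to p, whose Sylow p-subgroup P is nontrivial and a trivial-intersection set (P meets its conjugates by elements outside N_H(P) trivially). Then H has a unique minimal normal subgroup N; N is non-abelian simple with trivial centralizer in H (so H embeds in Aut(N)), and a Sylow p-subgroup of N is again a nontrivial trivial-intersection set in N. -/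
theorem result {H : Type*} [Group H] [Finite H] (p : ℕ) [Fact p.Prime] (hOp : Cfsg.pCore p H = ⊥) (hOp' : Cfsg.pPrimeCore p H = ⊥) (P : Sylow p H) (hP1 : (P : Subgroup H) ≠ ⊥)
    (hTI : ∀ g : H, g ∉ Subgroup.normalizer ((P : Subgroup H) : Set H) → (P : Subgroup H) ⊓ (MulAut.conj g • (P : Subgroup H)) = ⊥) :
    ∃ N : Subgroup H, N.Normal ∧ N ≠ ⊥ ∧ (∀ K : Subgroup H, K.Normal → K ≠ ⊥ → N ≤ K) ∧
      IsSimpleGroup N ∧ ¬ IsMulCommutative N ∧ Subgroup.centralizer (N : Set H) = ⊥ ∧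
      ∀ Q : Sylow p N, (Q : Subgroup N) ≠ ⊥ ∧
        ∀ n : N, n ∉ Subgroup.normalizer ((Q : Subgroup N) : Set N) → (Q : Subgroup N) ⊓ (MulAut.conj n • (Q : Subgroup N)) = ⊥ := by
  classical
  have key : ∀ R : Sylow p H, ∀ x ∈ (R : Subgroup H), x ≠ 1 → ∀ g : H, g * x = x * g →
      g ∈ Subgroup.normalizer ((R : Subgroup H) : Set H) := by
    intro R x hx hx1 g hg
    obtain ⟨a, rfl⟩ := MulAction.exists_smul_eq H P R
    have ha : a⁻¹ * x * a ∈ (P : Subgroup H) := (conj_smul_mem a _).1 hx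
    have h1 : a⁻¹ * g * a ∈ Subgroup.normalizer ((P : Subgroup H) : Set H) := by
      by_contra hn
      apply hx1
      have h2 : a⁻¹ * x * a ∈ (P : Subgroup H) ⊓ MulAut.conj (a⁻¹ * g * a) • (P : Subgroup H) := by
        refine Subgroup.mem_inf.2 ⟨ha, (conj_smul_mem _ _).2 ?_⟩
        have e : (a⁻¹ * g * a)⁻¹ * (a⁻¹ * x * a) * (a⁻¹ * g * a) = a⁻¹ * (g⁻¹ * (x * g)) * a := by
          group
        rw [e, ← hg, inv_mul_cancel_left]
        exact ha
      rw [hTI _ hn, Subgroup.mem_bot] at h2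
      have := congrArg (fun z => a * z * a⁻¹) h2
      simpa [mul_assoc] using this
    rw [Subgroup.mem_normalizer_iff] at h1 ⊢
    intro z
    show z ∈ (MulAut.conj a • (P : Subgroup H)) ↔ g * z * g⁻¹ ∈ (MulAut.conj a • (P : Subgroup H))
    rw [conj_smul_mem, conj_smul_mem, h1 (a⁻¹ * z * a)]
    have e : a⁻¹ * g * a * (a⁻¹ * z * a) * (a⁻¹ * g * a)⁻¹ = a⁻¹ * (g * z * g⁻¹) * a := by group
    rw [e]
  have hdvd : ∀ K : Subgroup H, K.IsSubnormal → K ≠ ⊥ → p ∣ Nat.card K := by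
    intro K hK hK1
    by_contra h
    exact hK1 (le_bot_iff.1 (hOp' ▸ CfsgLib.Comp.le_pPrimeCore_of_isSubnormal hK
      (Nat.coprime_comm.1 ((Fact.out (p := p.Prime)).coprime_iff_not_dvd.2 h))))
  have hno : ∀ S T : Subgroup H, S.IsSubnormal → S ≠ ⊥ → T.IsSubnormal → T ≠ ⊥ →
      (∀ s ∈ S, ∀ t ∈ T, s * t = t * s) → False := by
    intro S T hS hS1 hT hT1 hcomm
    obtain ⟨⟨x, hx⟩, hxo⟩ := exists_prime_orderOf_dvd_card' (G := S) p (hdvd S hS hS1)
    have hx1 : x ≠ 1 := by
      rintro rfl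
      rw [Subgroup.orderOf_mk, orderOf_one] at hxo
      exact (Fact.out (p := p.Prime)).ne_one hxo.symm
    rw [Subgroup.orderOf_mk] at hxo
    have hzp : IsPGroup p (Subgroup.zpowers x) :=
      IsPGroup.of_card (n := 1) (by rw [Nat.card_zpowers, hxo, pow_one])
    obtain ⟨R, hR⟩ := hzp.exists_le_sylow
    have hxR : x ∈ (R : Subgroup H) := hR (Subgroup.mem_zpowers x)
    have hTR : T ≤ Subgroup.normalizer ((R : Subgroup H) : Set H) :=
      fun t ht => key R x hxR hx1 t (hcomm x hx t ht).symm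
    have hsub : ((R : Subgroup H) ⊓ T).IsSubnormal := by
      refine Subgroup.IsSubnormal.step _ T inf_le_right hT ?_
      refine Subgroup.normal_subgroupOf_of_le_normalizer fun t ht => ?_
      rw [Subgroup.mem_normalizer_iff]
      intro z
      simp only [Subgroup.mem_inf]
      rw [← Subgroup.mem_normalizer_iff.1 (hTR ht) z]
      constructor
      · exact fun ⟨h1, h2⟩ => ⟨h1, mul_mem (mul_mem ht h2) (inv_mem ht)⟩
      · exact fun ⟨h1, h2⟩ => ⟨h1, by
          simpa [mul_assoc] using mul_mem (mul_mem (inv_mem ht) h2) ht⟩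
    have hbot : (R : Subgroup H) ⊓ T = ⊥ := le_bot_iff.1 (hOp ▸
      CfsgLib.Comp.le_pCore_of_isSubnormal hsub (R.2.to_le inf_le_left))
    obtain ⟨⟨y, hy⟩, hyo⟩ := exists_prime_orderOf_dvd_card' (G := T) p (hdvd T hT hT1)
    rw [Subgroup.orderOf_mk] at hyo
    have hyp : IsPGroup p (Subgroup.zpowers y) :=
      IsPGroup.of_card (n := 1) (by rw [Nat.card_zpowers, hyo, pow_one])
    have hsup : IsPGroup p ↥(Subgroup.zpowers y ⊔ (R : Subgroup H)) :=
      IsPGroup.to_sup_of_normal_right' hyp R.2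
        ((Subgroup.zpowers_le.2 (hTR hy)))
    have hyR : y ∈ (R : Subgroup H) :=
      (R.3 hsup le_sup_right) ▸ Subgroup.mem_sup_left (Subgroup.mem_zpowers y)
    have : y ∈ (R : Subgroup H) ⊓ T := ⟨hyR, hy⟩
    rw [hbot, Subgroup.mem_bot] at this
    rw [this, orderOf_one] at hyo
    exact (Fact.out (p := p.Prime)).ne_one hyo.symm
  have hH : ∃ K : Subgroup H, K.Normal ∧ K ≠ ⊥ := by
    refine ⟨⊤, inferInstance, fun h => hP1 (le_bot_iff.1 (h ▸ le_top))⟩
  obtain ⟨N, ⟨hNn, hN1⟩, hNmin⟩ := exists_minimal_of_wellFoundedLT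
    (fun K : Subgroup H => K.Normal ∧ K ≠ ⊥) hH
  have hsN : N.IsSubnormal := hNn.isSubnormal
  have hC : Subgroup.centralizer (N : Set H) = ⊥ := by
    by_contra hC
    exact hno N _ hsN hN1 (Subgroup.Normal.isSubnormal (Subgroup.normal_centralizer)) hC
      fun s hs t ht => Subgroup.mem_centralizer_iff.1 ht s hs
  have hnab : ¬ IsMulCommutative N := fun hab => hN1 (le_bot_iff.1 (hC ▸ fun x hx =>
    Subgroup.mem_centralizer_iff.2 fun y hy =>
      congrArg Subtype.val (hab.is_comm.comm (⟨y, hy⟩ : N) ⟨x, hx⟩)))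
  have hdisj : ∀ A B : Subgroup H, A ⊓ B = ⊥ → B ≤ Subgroup.normalizer (A : Set H) →
      A ≤ Subgroup.normalizer (B : Set H) → ∀ a ∈ A, ∀ b ∈ B, a * b = b * a := by
    intro A B hAB hBA hAB' a ha b hb
    have h : a * b * a⁻¹ * b⁻¹ ∈ A ⊓ B := by
      refine Subgroup.mem_inf.2
        ⟨?_, Subgroup.mul_mem _ ((Subgroup.mem_normalizer_iff.1 (hAB' ha) b).1 hb) (Subgroup.inv_mem _ hb)⟩
      have h2 := (Subgroup.mem_normalizer_iff.1 (hBA hb) a⁻¹).1 (inv_mem ha)
      simpa [mul_assoc] using mul_mem ha h2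
    rw [hAB, Subgroup.mem_bot] at h
    exact mul_inv_eq_iff_eq_mul.1 (mul_inv_eq_one.1 h)
  refine ⟨N, hNn, hN1, fun K hK hK1 => ?_, ?_, hnab, hC, fun Q => ?_⟩
  · by_contra hle
    have hinf : K ⊓ N = ⊥ := by
      by_contra h
      exact hle ((hNmin ⟨Subgroup.normal_inf_normal K N, h⟩ inf_le_right).trans inf_le_left)
    have hcomm := hdisj K N hinf (Subgroup.normalizer_eq_top_iff.2 hK ▸ le_top) (Subgroup.normalizer_eq_top_iff.2 hNn ▸ le_top)
    exact hno N K hsN hN1 hK.isSubnormal hK1 fun n hn k hk => (hcomm k hk n hn).symm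
  · obtain ⟨S, ⟨hSN, hS1, hSnorm⟩, hSmin⟩ := exists_minimal_of_wellFoundedLT
      (fun S : Subgroup H => S ≤ N ∧ S ≠ ⊥ ∧ N ≤ Subgroup.normalizer (S : Set H))
      ⟨N, le_rfl, hN1, Subgroup.normalizer_eq_top_iff.2 hNn ▸ le_top⟩
    have hsub : ∀ S : Subgroup H, S ≤ N → N ≤ Subgroup.normalizer (S : Set H) → S.IsSubnormal :=
      fun S h1 h2 => Subgroup.IsSubnormal.step _ N h1 hsN
        (Subgroup.normal_subgroupOf_of_le_normalizer h2)
    have hSnormal : S.Normal := by
      refine ⟨fun s hs g => ?_⟩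
      set S' := MulAut.conj g • S with hS'
      have h1 : S' ≤ N := fun z hz => by
        have := hNn.conj_mem _ (hSN ((conj_smul_mem g S).1 hz)) g
        simpa [mul_assoc] using this
      have h2 : N ≤ Subgroup.normalizer (S' : Set H) := fun n hn => by
        rw [Subgroup.mem_normalizer_iff]
        intro z
        rw [conj_smul_mem, conj_smul_mem]
        have hn' : g⁻¹ * n * g ∈ N := by simpa using hNn.conj_mem n hn g⁻¹
        rw [Subgroup.mem_normalizer_iff.1 (hSnorm hn') (g⁻¹ * z * g)]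
        have e : g⁻¹ * n * g * (g⁻¹ * z * g) * (g⁻¹ * n * g)⁻¹ = g⁻¹ * (n * z * n⁻¹) * g := by
          group
        rw [e]
      have hS'1 : S' ≠ ⊥ := fun h => hS1 (eq_bot_iff.2 fun z hz => by
        have hz' : g * z * g⁻¹ ∈ S' := (conj_smul_mem g S).2 (by simpa [mul_assoc] using hz)
        rw [h, Subgroup.mem_bot] at hz'
        rw [Subgroup.mem_bot]
        simpa using hz')
      have hint : S ⊓ S' ≠ ⊥ := fun h => hno S S' (hsub S hSN hSnorm) hS1 (hsub S' h1 h2) hS'1
        (hdisj S S' h (h1.trans hSnorm) (hSN.trans h2))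
      have h3 : N ≤ Subgroup.normalizer ((S ⊓ S' : Subgroup H) : Set H) := fun n hn => by
        rw [Subgroup.mem_normalizer_iff]
        intro z
        simp only [Subgroup.mem_inf]
        rw [Subgroup.mem_normalizer_iff.1 (hSnorm hn) z, Subgroup.mem_normalizer_iff.1 (h2 hn) z]
      have hle := hSmin ⟨inf_le_left.trans hSN, hint, h3⟩ inf_le_left
      have hSS' : S ≤ S' := hle.trans inf_le_right
      have := Subgroup.eq_of_le_of_card_ge hSS' (le_of_eq
        (Nat.card_congr (Subgroup.equivSMul (MulAut.conj g) S).toEquiv).symm)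
      rw [this]
      exact (conj_smul_mem g S).2 (by simpa [mul_assoc] using hs)
    have hSeq : N ≤ S := hNmin ⟨hSnormal, hS1⟩ hSN
    have : Nontrivial N := (Subgroup.nontrivial_iff_ne_bot N).2 hN1
    refine ⟨fun K hK => ?_⟩
    rcases eq_or_ne K ⊥ with h | h
    · exact Or.inl h
    refine Or.inr (eq_top_iff.2 fun z _ => ?_)
    have hK' : N ≤ K.map N.subtype := by
      refine hSeq.trans (hSmin ⟨Subgroup.map_subtype_le K, ?_, fun n hn => ?_⟩
        ((Subgroup.map_subtype_le K).trans hSeq))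
      · exact fun hb => h ((Subgroup.map_eq_bot_iff_of_injective K
          (Subgroup.subtype_injective N)).1 hb)
      · rw [Subgroup.mem_normalizer_iff]
        intro w
        constructor
        · rintro ⟨v, hv, rfl⟩
          exact ⟨_, hK.conj_mem v hv ⟨n, hn⟩, rfl⟩
        · rintro ⟨v, hv, hvw⟩
          refine ⟨_, hK.conj_mem v hv ⟨n, hn⟩⁻¹, ?_⟩
          simp only [map_mul, map_inv]
          rw [hvw]
          show n⁻¹ * (n * w * n⁻¹) * n⁻¹⁻¹ = w
          group
    obtain ⟨v, hv, hvz⟩ := hK' z.2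
    rwa [← Subtype.ext hvz]
  · have hQ1 : (Q : Subgroup N) ≠ ⊥ := Q.ne_bot_of_dvd_card (hdvd N hsN hN1)
    refine ⟨hQ1, fun n hn => ?_⟩
    obtain ⟨R, hR⟩ := (Q.2.map N.subtype).exists_le_sylow
    have hQR : (R : Subgroup H).subgroupOf N = (Q : Subgroup N) := by
      refine (Q.3 (R.2.comap_subtype) fun q hq => ?_)
      exact hR ⟨q, hq, rfl⟩
    rw [eq_bot_iff]
    intro x hx
    rw [Subgroup.mem_bot]
    obtain ⟨hx1, hx2⟩ := Subgroup.mem_inf.1 hx
    by_contra hne
    apply hn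
    have hx2' : n⁻¹ * x * n ∈ (Q : Subgroup N) := (conj_smul_mem n _).1 hx2
    have hxR : (x : H) ∈ (R : Subgroup H) := hR ⟨x, hx1, rfl⟩
    have hx2R : (n : H)⁻¹ * x * n ∈ (R : Subgroup H) := hR ⟨_, hx2', rfl⟩
    obtain ⟨a, ha⟩ := MulAction.exists_smul_eq H P R
    have hnR : (n : H) ∈ Subgroup.normalizer ((R : Subgroup H) : Set H) := by
      subst ha
      have h1 : a⁻¹ * (n : H) * a ∈ Subgroup.normalizer ((P : Subgroup H) : Set H) := by
        by_contra h'
        apply hne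
        have h2 : a⁻¹ * (x : H) * a ∈
            (P : Subgroup H) ⊓ MulAut.conj (a⁻¹ * (n : H) * a) • (P : Subgroup H) := by
          refine Subgroup.mem_inf.2 ⟨(conj_smul_mem a _).1 hxR, (conj_smul_mem _ _).2 ?_⟩
          have e : (a⁻¹ * (n : H) * a)⁻¹ * (a⁻¹ * (x : H) * a) * (a⁻¹ * (n : H) * a) =
              a⁻¹ * ((n : H)⁻¹ * x * n) * a := by group
          rw [e]
          exact (conj_smul_mem a _).1 hx2R
        rw [hTI _ h', Subgroup.mem_bot] at h2
        have := congrArg (fun z => a * z * a⁻¹) h2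
        exact Subtype.ext (by simpa [mul_assoc] using this)
      rw [Subgroup.mem_normalizer_iff] at h1 ⊢
      intro z
      show z ∈ (MulAut.conj a • (P : Subgroup H)) ↔
        (n : H) * z * (n : H)⁻¹ ∈ (MulAut.conj a • (P : Subgroup H))
      rw [conj_smul_mem, conj_smul_mem, h1 (a⁻¹ * z * a)]
      have e : a⁻¹ * (n : H) * a * (a⁻¹ * z * a) * (a⁻¹ * (n : H) * a)⁻¹ =
          a⁻¹ * ((n : H) * z * (n : H)⁻¹) * a := by group
      rw [e]
    rw [Subgroup.mem_normalizer_iff]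
    intro z
    rw [← hQR, Subgroup.mem_subgroupOf, Subgroup.mem_subgroupOf]
    exact Subgroup.mem_normalizer_iff.1 hnR (z : H)

end Cfsg.Agent.S4620
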