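import Cfsg.Statements.S4625
import Cfsg.Agent.Lib.SqDerived.Linear
import Cfsg.Agent.Lib.SqDerived.FormGrp
import Cfsg.Agent.Lib.SqDerived.Orth
import Cfsg.Agent.Lib.SqDerived.Chev
import Cfsg.Agent.Lib.SqDerived.Ree

set_option autoImplicit false
open Cfsg

namespace Cfsg.Agent.S4625

/-- Let G be a finite simple group of Lie type in characteristic 2, not counting the Tits group ²F₄(2)′. Then a Sylow 2-subgroup P of G has P/P' elementary abelian: the square of every element of P lies in the derived subgroup of P. -/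
theorem result {G : Type*} [Group G] [Finite G] [IsSimpleGroup G] (hG : Cfsg.IsLieTypeChar 2 G) (P : Sylow 2 G) :
    ∀ x : (P : Subgroup G), x ^ 2 ∈ commutator (P : Subgroup G) := by
  refine CfsgLib.SqDerived.Good.result ?_ P
  have char_two : ∀ (F : Type) [Field F] [Fintype F] (n : ℕ), Fintype.card F = 2 ^ n → CharP F 2 :=
    fun F _ _ n hF => by
      haveI : Fact (Nat.Prime 2) := ⟨Nat.prime_two⟩
      exact charP_of_card_eq_prime_pow hF
  rcases hG with h | h | h | h | h | h | h | h | h | h | h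
  · obtain ⟨F, _, _, _, n, hn, -, ⟨e⟩⟩ := h
    exact (CfsgLib.SqDerived.psl_good (F := F) (n := n) (by omega)).of_mulEquiv e.symm
  · obtain ⟨F, _, _, _, m, hm, hex, ⟨e⟩⟩ := h
    haveI : Finite (Cfsg.PSp m F) := Finite.of_equiv G e.toEquiv
    exact (CfsgLib.SqDerived.psp_good hm hex).of_mulEquiv e.symm
  · obtain ⟨F, _, _, _, n, q, hF, hn, -, ⟨e⟩⟩ := h
    haveI : Finite (Cfsg.PSU n F q) := Finite.of_equiv G e.toEquiv
    exact (CfsgLib.SqDerived.psu_good hF hn).of_mulEquiv e.symm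
  · obtain ⟨F, _, _, _, m, -, hodd, -⟩ := h
    obtain ⟨k, hp, hk⟩ := FiniteField.card F 2
    exact absurd hodd (Nat.not_odd_iff_even.2 (hk ▸ (even_two.pow_of_ne_zero k.ne_zero)))
  · obtain ⟨F, _, _, _, m, hm, ⟨e⟩⟩ := h
    haveI : Finite (Cfsg.POmega F (Cfsg.quadFormPlus m F)) := Finite.of_equiv G e.toEquiv
    exact (CfsgLib.SqDerived.pomega_plus_good hm).of_mulEquiv e.symm
  · obtain ⟨F, _, _, _, m, a, b, hm, hab, ⟨e⟩⟩ := h
    haveI : Finite (Cfsg.POmega F (Cfsg.quadFormMinus (m - 1) F a b)) := Finite.of_equiv G e.toEquiv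
    exact (CfsgLib.SqDerived.pomega_minus_good (m := m - 1) (by omega) hab).of_mulEquiv e.symm
  · obtain ⟨F, _, _, _, h⟩ := h
    rcases h with ⟨-, ⟨e⟩⟩ | ⟨⟨e⟩⟩ | ⟨⟨e⟩⟩ | ⟨⟨e⟩⟩ | ⟨⟨e⟩⟩
    all_goals
      haveI := Finite.of_equiv G e.toEquiv
      refine (CfsgLib.SqDerived.chev_good ?_ (CfsgLib.Chev.hasComm_of_mem (by simp))).of_mulEquiv e.symm
      exact CfsgLib.Chev.good_of_mem (by simp)
  · obtain ⟨K, _, _, _, q, hq, ⟨hK, ⟨e⟩⟩ | ⟨hK, ⟨e⟩⟩⟩ := h
    · haveI := Finite.of_equiv G e.toEquiv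
      exact (CfsgLib.SqDerived.twistedE6_good K hq hK).of_mulEquiv e.symm
    · haveI := Finite.of_equiv G e.toEquiv
      exact (CfsgLib.SqDerived.twistedD4_good K hq hK).of_mulEquiv e.symm
  · obtain ⟨-, F, _, _, m, hm, hF, ⟨e⟩⟩ := h
    haveI := char_two F _ hF
    haveI := Finite.of_equiv G e.toEquiv
    exact (CfsgLib.SqDerived.suzuki_good hm hF).of_mulEquiv e.symm
  · obtain ⟨-, K, _, _, m, hm, hK, ⟨e⟩⟩ := h
    haveI := char_two K _ hK
    haveI := Finite.of_equiv G e.toEquiv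
    exact (CfsgLib.SqDerived.twistedF4_good hm hK).of_mulEquiv e.symm
  · exact absurd h.1 (by norm_num)

end Cfsg.Agent.S4625
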