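import Cfsg.Statements.S4626
import Cfsg.Agent.Lib.Block.DefectOrder
import Cfsg.Agent.Lib.Block.Blocks
import Cfsg.Agent.Lib.BlockB.Codegree

set_option autoImplicit false
open Cfsg

namespace Cfsg.Agent.S4626

/-- Let G be a finite group, p a prime, M a maximal ideal of the algebraic integers containing p, P a Sylow p-subgroup of G and N a normal subgroup of index prime to p containing the centralizer C_G(P). Then every irreducible character of G whose kernel contains N lies in the principal p-block of G. -/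
theorem result {G : Type*} [Group G] [Finite G] (p : ℕ) [Fact p.Prime] (M : Ideal Cfsg.AlgInt) (hM : Cfsg.IsPModular p M) (P : Sylow p G) (N : Subgroup G) [N.Normal] (hidx : ¬ p ∣ N.index)
    (hC : Subgroup.centralizer ((P : Subgroup G) : Set G) ≤ N) (χ : Cfsg.IrrCharacter G) (hker : ∀ n ∈ N, (χ : G → ℂ) n = (χ : G → ℂ) 1) :
    χ ∈ Cfsg.principalBlock M G := by
  have := hM.2.1.isPrime
  have hp := (Fact.out : p.Prime)
  intro g
  have hd : ¬ p ∣ charDegree (χ : G → ℂ) := fun h => hidx ((h.trans
    (CfsgLib.BlockB.degree_dvd_index_charKer χ)).trans (Subgroup.index_dvd_of_le hker))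
  have hdeg := CfsgLib.Block.charDegree_cast (CfsgLib.Char.irr_isCharacter χ.2)
  have hinv : MemLocalRing M ((charDegree (χ : G → ℂ) : ℂ)⁻¹) :=
    CfsgLib.Block.memLocalRing_inv_natCast hM hd
  rw [centralChar, centralChar, ← hdeg, div_one, mul_one]
  by_cases hpi : p ∣ (Subgroup.centralizer ({g} : Set G)).index
  · have hi := (CfsgLib.Block.memLocalIdeal_natCast_iff hM _).2 hpi
    rw [show ((Subgroup.centralizer ({g} : Set G)).index : ℂ) -
        ((Subgroup.centralizer ({g} : Set G)).index : ℂ) * (χ : G → ℂ) g /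
          (charDegree (χ : G → ℂ) : ℂ) =
        (1 - (χ : G → ℂ) g * (charDegree (χ : G → ℂ) : ℂ)⁻¹) *
          ((Subgroup.centralizer ({g} : Set G)).index : ℂ) by ring]
    exact CfsgLib.Block.memLocalIdeal_mul_left ((CfsgLib.Block.lring M).sub_mem
      (CfsgLib.Block.lring M).one_mem
      (CfsgLib.Block.memLocalRing_mul (CfsgLib.Block.memLocalRing_irr_apply χ g) hinv)) hi
  · obtain ⟨Q⟩ := (inferInstance : Nonempty (Sylow p (Subgroup.centralizer ({g} : Set G))))
    obtain ⟨S, hS⟩ := (CfsgLib.Block.isPGroup_cenSub g Q).exists_le_sylow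
    have hcard : Nat.card (S : Subgroup G) ≤ Nat.card (CfsgLib.Block.cenSub g
        (Q : Subgroup (Subgroup.centralizer ({g} : Set G)))) := by
      rw [CfsgLib.Block.natCard_cenSub, S.card_eq_multiplicity,
        ← CfsgLib.Block.factorization_index_add (p := p) g,
        Nat.factorization_eq_zero_of_not_dvd hpi, zero_add]
    obtain ⟨x, hx⟩ := MulAction.exists_smul_eq G S P
    have hxg : x * g * x⁻¹ ∈ N := hC (Subgroup.mem_centralizer_iff.2 fun y hy => by
      rw [← hx] at hy
      obtain ⟨s, hs, rfl⟩ := hy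
      rw [SetLike.mem_coe, ← Subgroup.eq_of_le_of_card_ge hS hcard] at hs
      have h' := Subgroup.mem_centralizer_singleton_iff.1 (CfsgLib.Block.cenSub_le g _ hs)
      simp only [MulDistribMulAction.toMonoidEnd_apply, MulDistribMulAction.toMonoidHom_apply,
        MulAut.smul_def, MulAut.conj_apply]
      calc x * s * x⁻¹ * (x * g * x⁻¹) = x * (s * g) * x⁻¹ := by group
        _ = x * (g * s) * x⁻¹ := by rw [h']
        _ = _ := by group)
    have hgN : g ∈ N := by
      simpa [mul_assoc] using (inferInstance : N.Normal).conj_mem _ hxg x⁻¹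
    rw [hker g hgN, ← hdeg, mul_div_assoc, div_self
      (Nat.cast_ne_zero.2 (CfsgLib.Block.charDegree_ne_zero χ.2)), mul_one, sub_self]
    exact CfsgLib.Block.memLocalIdeal_zero

end Cfsg.Agent.S4626
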