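import Cfsg.Statements.S4634
import Cfsg.Agent.Lib.Block.FrobeniusIsometry
import Cfsg.Agent.Lib.Block.NilpotentIsometry

set_option autoImplicit false
open Cfsg

namespace Cfsg.Agent.S4634

/-- Let B be a block of the finite group G relative to a maximal ideal M of the algebraic integers containing the prime p, with a nontrivial cyclic defect group P, let c be a block of C_G(P) inducing B, T the stabilizer of c in N_G(P) and e the index of C_G(P) in T. Let F be any finite group of order #P · e having a cyclic subgroup Q of order #P that is its own centralizer (F is then the semidirect product of Q by a cyclic group of order e acting faithfully). Then there is a perfect isometry from the set of all irreducible characters of F onto B whose signs agree on all the characters of F that do not contain Q in their kernel. -/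
theorem result {G : Type*} [Group G] [Finite G] (p : ℕ) [Fact p.Prime] (M : Ideal Cfsg.AlgInt) (hM : Cfsg.IsPModular p M) (B : Set (Cfsg.IrrCharacter G)) (hB : Cfsg.IsPBlock M B) (P : Subgroup G) (hPD : Cfsg.IsDefectGroup p M B P) (hP1 : P ≠ ⊥) (hcyc : IsCyclic P) (c : Set (Cfsg.IrrCharacter (Subgroup.centralizer (P : Set G)))) (hc : Cfsg.IsInducedBlock M (Subgroup.centralizer (P : Set G)) c B) (T : Subgroup G) (hT : ∀ g : G, g ∈ T ↔ (g ∈ Subgroup.normalizer (P : Set G) ∧ Cfsg.StabilizesBlock (Subgroup.centralizer (P : Set G)) c g)) (e : ℕ) (he : (Subgroup.centralizer (P : Set G)).relIndex T = e) (F : Type*) [Group F] [Finite F] (hF : Nat.card F = Nat.card P * e) (Q : Subgroup F) (hQ : IsCyclic Q) (hQcard : Nat.card Q = Nat.card P) (hQC : Subgroup.centralizer (Q : Set F) = Q) : ∃ (I : Cfsg.IrrCharacter F → Cfsg.IrrCharacter G) (ε : Cfsg.IrrCharacter F → ℤ), Cfsg.IsPerfectIsometry p M (Set.univ : Set (Cfsg.IrrCharacter F)) B I ε ∧ ∀ η η' : Cfsg.IrrCharacter F, (∃ x ∈ Q, (η : F → ℂ)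 x ≠ (η : F → ℂ) 1) → (∃ x ∈ Q, (η' : F → ℂ) x ≠ (η' : F → ℂ) 1) → ε η = ε η' := by
  classical
  have := Fintype.ofFinite G
  have : M.IsPrime := hM.2.1.isPrime
  obtain ⟨a, ha, hDa⟩ : ∃ a, 1 ≤ a ∧ Nat.card P = p ^ a := by
    refine ⟨_, ?_, CfsgLib.Block.natCard_defectGroup hM hB hPD⟩
    by_contra h
    apply hP1
    apply Subgroup.card_eq_one.1
    rw [CfsgLib.Block.natCard_defectGroup hM hB hPD, Nat.lt_one_iff.1 (not_le.1 h), pow_zero]
  obtain ⟨S, rfl, rfl, rfl, rfl⟩ := CfsgLib.Block.exists_cycBlock hM hPD hcyc ha hDa hc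
  obtain rfl : T = S.T := CfsgLib.BlockA.eq_pairStab S.hM S.isBrauerPair_eD.2 fun y => hT y
  obtain rfl : e = S.e := he.symm
  rw [S.natCard_D] at hF hQcard
  obtain ⟨m⟩ := S.nonempty_model Q hQ hQcard hF hQC
  have hQm : Q = Subgroup.zpowers m.x := by
    refine Subgroup.eq_of_le_of_card_ge (fun y hy => ?_) ?_
    · rcases eq_or_ne y 1 with rfl | hy1
      · exact one_mem _
      · exact m.hsing y (CfsgLib.BlockA.dvd_orderOf_of_mem (IsPGroup.of_card hQcard) hy hy1)
    · rw [Nat.card_zpowers, m.hx, hQcard]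
  subst hQm
  by_cases hp2 : p = 2
  · obtain ⟨J, ε, h, hε⟩ := S.exists_perfectIsometry_of_roots (S.eq_two_of_even hp2) (fun χ hχ => by
      have : NeZero (p ^ S.a) := ⟨pow_ne_zero _ (Fact.out : p.Prime).ne_zero⟩
      obtain ⟨K, hK⟩ := S.secPow_zero χ 1
      obtain ⟨j, hj⟩ := CfsgLib.Block.exists_root_two hp2 S.ha rfl (S.isCyclo_secPow χ 1)
        (CfsgLib.Block.CycBlock.normSq_secPow_eq_one S.allEq_one
          (by rw [S.natCard_blk_one, (S.rank_card_of_e_eq_one (S.eq_two_of_even hp2)).2]) hχ) hK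
      refine ⟨(j : ZMod (p ^ S.a)), fun w => ?_⟩
      rw [hj w, ← CfsgLib.Block.zpsi_natCast, Nat.cast_mul, ZMod.natCast_rightInverse]) m
    exact ⟨J, ε, h, fun η η' _ _ => by rw [hε, hε]⟩
  obtain ⟨R⟩ := S.nonempty_signedRows hp2
  exact R.exists_perfectIsometry m

end Cfsg.Agent.S4634
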