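import Cfsg.Statements.S4635
import Cfsg.Agent.Lib.Block.CyclicIsometry
import Cfsg.Agent.Lib.Block.PerfectCompose
import Cfsg.Agent.Lib.BlockA.CoverDefect

set_option autoImplicit false
open Cfsg

namespace Cfsg.Agent.S4635

/-- Let B be a block of the finite group G relative to a maximal ideal M of the algebraic integers containing the prime p, with a nontrivial cyclic defect group P; let Z be the subgroup of order p of P and H = N_G(Z), which contains N_G(P). Let c be the block of H with defect group P that induces B. Then B and c contain the same number of irreducible characters, have the same p-regular rank, and there is a perfect isometry from c onto B. -/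
theorem result {G : Type*} [Group G] [Finite G] (p : ℕ) [Fact p.Prime] (M : Ideal Cfsg.AlgInt) (hM : Cfsg.IsPModular p M) (B : Set (Cfsg.IrrCharacter G)) (hB : Cfsg.IsPBlock M B) (P : Subgroup G) (hPD : Cfsg.IsDefectGroup p M B P) (hP1 : P ≠ ⊥) (hcyc : IsCyclic P) (Z : Subgroup G) (hZ : Z ≤ P) (hZcard : Nat.card Z = p) (H : Subgroup G) (hH : H = Subgroup.normalizer (Z : Set G)) (c : Set (Cfsg.IrrCharacter H)) (hcD : Cfsg.IsDefectGroup p M c (P.subgroupOf H)) (hc : Cfsg.IsInducedBlock M H c B) : Nat.card c = Nat.card B ∧ Cfsg.blockRank p c = Cfsg.blockRank p B ∧ ∃ (I : Cfsg.IrrCharacter H → Cfsg.IrrCharacter G) (ε : Cfsg.IrrCharacter H → ℤ), Cfsg.IsPerfectIsometry p M c B I ε := by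
  classical
  have := Fintype.ofFinite G
  have hMp : M.IsPrime := hM.2.1.isPrime
  have hp := (Fact.out : p.Prime)
  obtain ⟨a, ha, hDa⟩ : ∃ a, 1 ≤ a ∧ Nat.card P = p ^ a := by
    refine ⟨_, ?_, CfsgLib.Block.natCard_defectGroup hM hB hPD⟩
    by_contra h
    apply hP1
    apply Subgroup.card_eq_one.1
    rw [CfsgLib.Block.natCard_defectGroup hM hB hPD, Nat.lt_one_iff.1 (not_le.1 h), pow_zero]
  -- `H` contains `P`, `C(P)` and `N(P)`
  have huniq : ∀ X : Subgroup G, X ≤ P → Nat.card X = p → X = Z := fun X hX hXc => by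
    have := Fintype.ofFinite P
    have key : ∀ Y : Subgroup G, Y ≤ P → Nat.card Y = p →
        (Finset.univ.filter fun v : P => (v : G) ∈ Y) = Finset.univ.filter fun v : P => v ^ p = 1 := by
      intro Y hY hYc
      refine Finset.eq_of_subset_of_card_le (fun v hv => ?_) ?_
      · simp only [Finset.mem_filter, Finset.mem_univ, true_and] at hv ⊢
        apply Subtype.ext
        have h := pow_card_eq_one' (G := Y) (x := ⟨(v : G), hv⟩)
        rw [hYc] at h
        simpa using congrArg Subtype.val h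
      · refine (IsCyclic.card_pow_eq_one_le hp.pos).trans (le_of_eq ?_)
        rw [← Fintype.card_subtype, ← Nat.card_eq_fintype_card]
        exact hYc.symm.trans (Nat.card_congr
          { toFun := fun y => ⟨⟨(y : G), hY y.2⟩, y.2⟩
            invFun := fun v => ⟨((v : P) : G), v.2⟩
            left_inv := fun _ => rfl
            right_inv := fun _ => rfl })
    have h := (key X hX hXc).trans (key Z hZ hZcard).symm
    ext g
    constructor
    · intro hg
      have h1 : (⟨g, hX hg⟩ : P) ∈ Finset.univ.filter fun v : P => (v : G) ∈ X := by simpa using hg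
      rw [h] at h1
      simpa using h1
    · intro hg
      have h1 : (⟨g, hZ hg⟩ : P) ∈ Finset.univ.filter fun v : P => (v : G) ∈ Z := by simpa using hg
      rw [← h] at h1
      simpa using h1
  have hNH : Subgroup.normalizer (P : Set G) ≤ H := by
    intro g hg
    rw [hH]
    have h1 : Z.map (MulAut.conj g).toMonoidHom = Z := by
      refine huniq _ ?_ ?_
      · rintro _ ⟨z, hz, rfl⟩
        exact (Subgroup.mem_normalizer_iff.1 hg z).1 (hZ hz)
      · rw [← Nat.card_congr (Subgroup.equivMapOfInjective Z _ (MulAut.conj g).injective).toEquiv,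
          hZcard]
    rw [Subgroup.mem_normalizer_iff]
    intro h
    constructor
    · intro hh
      have h2 : g * h * g⁻¹ ∈ Z.map (MulAut.conj g).toMonoidHom :=
        Subgroup.mem_map.2 ⟨h, hh, rfl⟩
      rwa [h1] at h2
    · intro hh
      rw [← h1] at hh
      obtain ⟨z, hz, he⟩ := Subgroup.mem_map.1 hh
      have : h = z := ((MulAut.conj g).injective he).symm
      rwa [this]
  have hCH : Subgroup.centralizer (P : Set G) ≤ H :=
    (Subgroup.centralizer_le_normalizer _).trans hNH
  have hPH : P ≤ H := Subgroup.le_normalizer.trans hNH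
  have h2 : CfsgLib.BlockA.CenEq (P.subgroupOf H) P := by
    refine (CfsgLib.BlockA.cenEq_iff _ _).2 ⟨hCH, fun t => ?_⟩
    simp only [Subgroup.mem_centralizer_iff, SetLike.mem_coe]
    exact ⟨fun h x hx => congrArg Subtype.val (h ⟨x, hPH hx⟩ hx),
      fun h x hx => Subtype.ext (h _ hx)⟩
  have := Fintype.ofFinite H
  -- a pair of `c` read in `G`
  have hpair : ∃ d' : Set (Cfsg.IrrCharacter
      (Subgroup.centralizer ((P.subgroupOf H : Subgroup H) : Set H))),
      Cfsg.IsBrauerPairOf p M c (P.subgroupOf H) d' := by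
    obtain ⟨g, hg, Q, hQ⟩ := hcD
    refine CfsgLib.BlockA.exists_isBrauerPairOf hM hc.1
      (CfsgLib.Block.isPGroup_defectGroup hM hc.1 ⟨g, hg, Q, hQ⟩) ⟨g, ?_, ?_⟩
    · rw [Subgroup.mem_centralizer_iff]
      intro x hx
      rw [SetLike.mem_coe, hQ] at hx
      obtain ⟨y, -, rfl⟩ := Subgroup.mem_map.1 hx
      exact Subgroup.mem_centralizer_singleton_iff.1 y.2
    · rw [CfsgLib.Block.coeff_blkIdem]
      exact fun h => hg.2.1 ((CfsgLib.Block.redC_eq_zero_iff hg.1).1 h)
  obtain ⟨d', hd'⟩ := hpair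
  obtain ⟨d, hd, hdd⟩ := CfsgLib.BlockA.exists_subBlock_eq h2 hd'.1.2
  subst hdd
  have hpd : Cfsg.IsBrauerPair p M P d :=
    ⟨CfsgLib.Block.isPGroup_defectGroup hM hB hPD, hd⟩
  obtain ⟨ξ, hξ⟩ := CfsgLib.Block.isPBlock_nonempty hd
  obtain ⟨θ, hθ⟩ := CfsgLib.Block.isPBlock_nonempty hc.1
  obtain ⟨χ, hχ⟩ := CfsgLib.Block.isPBlock_nonempty hB
  have hdB : Cfsg.IsBrauerPairOf p M B P d := by
    rw [CfsgLib.BlockA.isBrauerPairOf_iff hM hpd hB hξ]
    set z := CfsgLib.Block.blkIdem M B with hz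
    have e1 := CfsgLib.BlockA.pairVal_eq_lam hM hd'
      (show CfsgLib.BlockA.irrMap (CfsgLib.BlockA.cenIso h2) ξ ∈ CfsgLib.BlockA.subBlock h2 d from
        ⟨ξ, hξ, rfl⟩) hθ (CfsgLib.Block.resZ H z)
    have e2 := (CfsgLib.Block.isInducedBlock_iff H hc.1 hB hθ hχ).1 hc z
    rw [e2, hz, CfsgLib.Block.lam_blkIdem hM hB, if_pos hχ] at e1
    rw [← e1]
    symm
    refine (CfsgLib.BlockA.pairVal_subBlock h2 ξ
      (CfsgLib.BlockA.isCInv_of_isClassCoeff (CfsgLib.Block.isClassCoeff_center z)) fun t _ => ?_).2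
    exact CfsgLib.Block.coeff_resSub _ _ _
  have hind := CfsgLib.BlockA.isInducedBlock_of_isBrauerPairOf hM hdB
  have hind' := CfsgLib.BlockA.isInducedBlock_of_isBrauerPairOf hM hd'
  have hcyc' : IsCyclic (P.subgroupOf H) :=
    isCyclic_of_surjective (Subgroup.subgroupOfEquivOfLe hPH).symm
      (Subgroup.subgroupOfEquivOfLe hPH).symm.surjective
  have hDa' : Nat.card (P.subgroupOf H) = p ^ a := by
    rw [Nat.card_congr (Subgroup.subgroupOfEquivOfLe hPH).toEquiv, hDa]
  obtain ⟨S, hSB, hSa, rfl, hSe⟩ := CfsgLib.Block.exists_cycBlock hM hPD hcyc ha hDa hind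
  obtain ⟨S', hSB', hSa', hSD', hSe'⟩ :=
    CfsgLib.Block.exists_cycBlock hM hcD hcyc' ha hDa' hind'
  subst hSB hSB'
  simp only at hSe
  -- the inertial indices agree
  have hT : S'.T = S.T.subgroupOf H := by
    have key : ∀ (Q : Subgroup H) (f : Set (Cfsg.IrrCharacter (Subgroup.centralizer (Q : Set H))))
        (hq : Q = S.D.subgroupOf H),
        hq ▸ f = CfsgLib.BlockA.subBlock h2 d →
        CfsgLib.BlockA.pairStab M Q f = (CfsgLib.BlockA.pairStab M S.D d).subgroupOf H := by
      intro Q f hq hf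
      subst hq
      simp only at hf
      subst hf
      ext t
      rw [Subgroup.mem_subgroupOf]
      have hN := CfsgLib.BlockA.mem_normalizer_subgroupOf hPH t
      constructor
      · rintro ⟨htn, ht⟩
        refine ⟨hN.1 htn, ?_⟩
        exact (CfsgLib.BlockA.stabilizesBlock_iff_coeff hM hd (hN.1 htn)).1
          ((CfsgLib.BlockA.stabilizesBlock_subBlock hM hPH h2 hd t (hN.1 htn)).1
            ((CfsgLib.BlockA.stabilizesBlock_iff_coeff hM
              (CfsgLib.BlockA.isPBlock_subBlock h2 hd) htn).2 ht))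
      · rintro ⟨htn, ht⟩
        refine ⟨hN.2 htn, ?_⟩
        exact (CfsgLib.BlockA.stabilizesBlock_iff_coeff hM
          (CfsgLib.BlockA.isPBlock_subBlock h2 hd) (hN.2 htn)).1
          ((CfsgLib.BlockA.stabilizesBlock_subBlock hM hPH h2 hd t htn).2
            ((CfsgLib.BlockA.stabilizesBlock_iff_coeff hM hd htn).2 ht))
    have h := key S'.D S'.eD hSD' hSe'
    rw [← hSe] at h
    exact h
  have hTH : S.T ≤ H := fun g hg => hNH hg.1
  have hee : S'.e = S.e := by
    show (Subgroup.centralizer (S'.D : Set H)).relIndex S'.T =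
      (Subgroup.centralizer (S.D : Set G)).relIndex S.T
    have hcen : Subgroup.centralizer (S'.D : Set H) =
        (Subgroup.centralizer (S.D : Set G)).subgroupOf H := by
      rw [hSD']
      ext t
      exact ((CfsgLib.BlockA.cenEq_iff _ _).1 h2).2 t
    rw [hT, hcen, Subgroup.relIndex_subgroupOf hTH]
  have haa : S'.a = S.a := hSa'.trans hSa.symm
  obtain ⟨t, -, ht⟩ := S.exists_t
  have ht' : t * S'.e = p ^ S'.a - 1 := by rw [hee, haa]; exact ht
  obtain ⟨hl, hk⟩ := S.counts ht
  obtain ⟨hl', hk'⟩ := S'.counts ht'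
  refine ⟨by rw [hk', hk, hee], by rw [hl', hl, hee], ?_⟩
  obtain ⟨hfin, ⟨m⟩⟩ := S.exists_affine_model
  have hx1 : m.x ≠ 1 := fun h => by
    have h' := m.hx
    rw [h, orderOf_one] at h'
    exact (Nat.one_lt_pow (Nat.one_le_iff_ne_zero.1 S.ha) hp.one_lt).ne h'
  have hQC : Subgroup.centralizer ((Subgroup.zpowers m.x : Subgroup _) : Set _) =
      Subgroup.zpowers m.x := by
    refine le_antisymm (fun g hg => ?_) ?_
    · rw [← m.hC m.x (Subgroup.mem_zpowers m.x) hx1, Subgroup.mem_centralizer_singleton_iff]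
      exact (Subgroup.mem_centralizer_iff.1 hg m.x (Subgroup.mem_zpowers m.x)).symm
    · intro g hg
      rw [Subgroup.mem_centralizer_iff]
      intro b hb
      obtain ⟨i, rfl⟩ := Subgroup.mem_zpowers_iff.1 hg
      obtain ⟨j, rfl⟩ := Subgroup.mem_zpowers_iff.1 hb
      exact ((Commute.refl m.x).zpow_zpow j i).eq
  obtain ⟨m'⟩ := S'.nonempty_model (Subgroup.zpowers m.x) inferInstance
    (by rw [Nat.card_zpowers, m.hx, haa]) (by rw [m.hcard, haa, hee]) hQC
  obtain ⟨J, ε, hI⟩ := S.exists_perfectIsometry m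
  obtain ⟨J', ε', hI'⟩ := S'.exists_perfectIsometry m'
  exact CfsgLib.Block.exists_perfectIsometry_comp hM hI hI'

end Cfsg.Agent.S4635
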