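import Cfsg.Statements.S4636


set_option autoImplicit false
open scoped Pointwise
open Cfsg

namespace Cfsg.Agent.S4636

/-- Let P be a nontrivial cyclic p-subgroup of the finite group G and Z its subgroup of order p. For every x outside N_G(Z), P meets its conjugate xPx⁻¹ trivially; consequently N_G(Q) ≤ N_G(Z) for every nontrivial subgroup Q of P. -/
theorem result {G : Type*} [Group G] [Finite G] (p : ℕ) [Fact p.Prime] (P : Subgroup G) (hP : IsPGroup p P) (hP1 : P ≠ ⊥) (hcyc : IsCyclic P) (Z : Subgroup G) (hZ : Z ≤ P) (hZcard : Nat.card Z = p) : (∀ x : G, x ∉ Subgroup.normalizer (Z : Set G) → P ⊓ MulAut.conj x • P = ⊥) ∧ ∀ Q : Subgroup G, Q ≤ P → Q ≠ ⊥ → Subgroup.normalizer (Q : Set G) ≤ Subgroup.normalizer (Z : Set G) := by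
  classical
  have huniq : ∀ y ∈ P, y ^ p = 1 → y ∈ Z := by
    intro y hy hyp
    by_contra hyZ
    haveI := hcyc
    haveI : Fintype P := Fintype.ofFinite P
    have hle : (Finset.univ.filter (fun a : P => a ^ p = 1)).card ≤ p :=
      IsCyclic.card_pow_eq_one_le (Fact.out : p.Prime).pos
    have hsub : insert (⟨y, hy⟩ : P) (Finset.univ.filter (fun a : P => (a : G) ∈ Z)) ⊆
        Finset.univ.filter (fun a : P => a ^ p = 1) := by
      intro a ha
      rw [Finset.mem_insert, Finset.mem_filter] at ha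
      rw [Finset.mem_filter]
      refine ⟨Finset.mem_univ _, Subtype.ext ?_⟩
      rcases ha with rfl | ⟨-, ha⟩
      · simpa using hyp
      · have h1 : (⟨(a : G), ha⟩ : Z) ^ Nat.card Z = 1 := pow_card_eq_one'
        rw [hZcard] at h1
        simpa using congrArg Subtype.val h1
    have hcardZ : (Finset.univ.filter (fun a : P => (a : G) ∈ Z)).card = p := by
      rw [← hZcard, ← Nat.card_congr (Subgroup.subgroupOfEquivOfLe hZ).toEquiv,
        Nat.card_eq_fintype_card, Fintype.card_of_subtype]
      intro a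
      simp [Subgroup.mem_subgroupOf]
    have h3 := (Finset.card_le_card hsub).trans hle
    rw [Finset.card_insert_of_notMem (by simp [hyZ]), hcardZ] at h3
    omega
  have hmem : ∀ R : Subgroup G, R ≤ P → R ≠ ⊥ → Z ≤ R := by
    intro R hR hR1
    have hRp : IsPGroup p R := hP.to_le hR
    haveI : Nontrivial R := (Subgroup.nontrivial_iff_ne_bot R).2 hR1
    obtain ⟨n, hn, hcard⟩ := hRp.nontrivial_iff_card.1 inferInstance
    obtain ⟨x, hx⟩ := exists_prime_orderOf_dvd_card' (G := R) p (hcard ▸ dvd_pow_self p hn.ne')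
    have hxo : orderOf (x : G) = p := by rw [Subgroup.orderOf_coe]; exact hx
    have hxZ : (x : G) ∈ Z := huniq _ (hR x.2) (by rw [← hxo, pow_orderOf_eq_one])
    have hzp : Subgroup.zpowers (x : G) = Z := by
      apply Subgroup.eq_of_le_of_card_ge (by simpa using hxZ)
      rw [Nat.card_zpowers, hxo, hZcard]
    rw [← hzp]
    simpa using x.2
  have key : ∀ y : G, (∀ z ∈ Z, y * z * y⁻¹ ∈ P) → y ∈ Subgroup.normalizer (Z : Set G) := by
    intro y hy
    have hz1 : ∀ z ∈ Z, y * z * y⁻¹ ∈ Z := by
      intro z hz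
      refine huniq _ (hy z hz) ?_
      rw [conj_pow]
      have h1 : (⟨z, hz⟩ : Z) ^ Nat.card Z = 1 := pow_card_eq_one'
      rw [hZcard] at h1
      have h2 : z ^ p = 1 := by simpa using congrArg Subtype.val h1
      rw [h2, mul_one, mul_inv_cancel]
    refine Subgroup.mem_normalizer_fintype ?_
    intro n hn
    exact hz1 n hn
  constructor
  · intro x hx
    by_contra hne
    apply hx
    have h1 : Z ≤ MulAut.conj x • P := (hmem _ inf_le_left hne).trans inf_le_right
    rw [← Subgroup.inv_mem_iff]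
    refine key _ (fun z hz => ?_)
    obtain ⟨w, hw, hwz⟩ := Subgroup.mem_smul_pointwise_iff_exists _ _ _ |>.1 (h1 hz)
    rw [← hwz]
    simpa [mul_assoc] using hw
  · intro Q hQ hQ1 g hg
    refine key _ (fun z hz => hQ ?_)
    exact (Subgroup.mem_normalizer_iff.1 hg z).1 (hmem Q hQ hQ1 hz)

end Cfsg.Agent.S4636
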