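import Cfsg.Statements.S4641
import Cfsg.Agent.Lib.BlockA.BlockSquares

set_option autoImplicit false
open Cfsg

namespace Cfsg.Agent.S4641

/-- Let B be a block of the finite group G relative to a maximal ideal M of the algebraic integers containing the prime p, let p^a be the p-part of the order of G and p^d the order of a defect group D of B, and let g be the greatest common divisor of the degrees of the members of B. Then the p-part of g is exactly p^(a−d), and writing g = p^(a−d)·u there is a positive integer v, prime to p and at least the p-regular rank of B (its number of irreducible Brauer characters), with Σ_{χ ∈ B} χ(1)² = p^(2a−d)·u²·v. -/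
theorem result {G : Type*} [Group G] [Finite G] (p : ℕ) [Fact p.Prime] (M : Ideal Cfsg.AlgInt) (hM : Cfsg.IsPModular p M) (B : Set (Cfsg.IrrCharacter G)) (hB : Cfsg.IsPBlock M B) (D : Subgroup G) (hD : Cfsg.IsDefectGroup p M B D) (a d : ℕ) (ha : (Nat.card G).factorization p = a) (hd : Nat.card D = p ^ d) (g : ℕ) (hg1 : ∀ χ ∈ B, g ∣ Cfsg.charDegree (χ : G → ℂ)) (hg2 : ∀ g' : ℕ, (∀ χ ∈ B, g' ∣ Cfsg.charDegree (χ : G → ℂ)) → g' ∣ g) : g.factorization p = a - d ∧ ∃ v : ℕ, 0 < v ∧ ¬ p ∣ v ∧ Cfsg.blockRank p B ≤ v ∧ ∑ᶠ χ ∈ B, Cfsg.charDegree (χ : G → ℂ) ^ 2 = p ^ (2 * a - d) * (g / p ^ (a - d)) ^ 2 * v := by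
  classical
  have := Fintype.ofFinite G
  have : M.IsPrime := hM.2.1.isPrime
  have : IsAlgClosed (CfsgLib.Block.kres M) := CfsgLib.Block.isAlgClosed_kres
  have hnat := CfsgLib.Block.natCard_defectGroup hM hB hD
  rw [hd] at hnat
  have hdd : d = Cfsg.blockDefect p B := Nat.pow_right_injective (Fact.out : p.Prime).two_le hnat
  set k := sInf ((fun ψ : Cfsg.IrrCharacter G =>
    (Cfsg.charDegree (ψ : G → ℂ)).factorization p) '' B) with hk
  obtain ⟨χ₀, hχ₀, hχ₀k⟩ : ∃ χ ∈ B, (Cfsg.charDegree (χ : G → ℂ)).factorization p = k := by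
    obtain ⟨χ, hχ, he⟩ := Nat.sInf_mem ((CfsgLib.Block.isPBlock_nonempty hB).image
      (fun ψ : Cfsg.IrrCharacter G => (Cfsg.charDegree (ψ : G → ℂ)).factorization p))
    exact ⟨χ, hχ, he.trans hk.symm⟩
  have hpos : ∀ χ : Cfsg.IrrCharacter G, Cfsg.charDegree (χ : G → ℂ) ≠ 0 := fun χ =>
    CfsgLib.Block.charDegree_ne_zero χ.2
  have hka : k ≤ a := by
    rw [← hχ₀k, ← ha]
    exact (Nat.factorization_le_iff_dvd (hpos χ₀) Nat.card_pos.ne').2
      (CfsgLib.BlockB.irr_degree_dvd_card χ₀) p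
  have hkd : a - d = k := by
    rw [hdd, Cfsg.blockDefect, ha, ← hk]; omega
  have hda : d ≤ a := by
    rw [hdd, Cfsg.blockDefect, ha, ← hk]; omega
  have hg0 : g ≠ 0 := fun h => hpos χ₀ (Nat.eq_zero_of_zero_dvd (h ▸ hg1 χ₀ hχ₀))
  have hgk : p ^ k ∣ g := hg2 _ fun χ hχ =>
    ((Fact.out : p.Prime).pow_dvd_iff_le_factorization (hpos χ)).2 (hk ▸ Nat.sInf_le ⟨χ, hχ, rfl⟩)
  have hgp : g.factorization p = k := le_antisymm
    (hχ₀k ▸ (Nat.factorization_le_iff_dvd hg0 (hpos χ₀)).2 (hg1 χ₀ hχ₀) p)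
    (((Fact.out : p.Prime).pow_dvd_iff_le_factorization hg0).1 hgk)
  refine ⟨by rw [hgp, hkd], ?_⟩
  rw [hkd]
  set u := g / p ^ k with hu
  have hgu : g = p ^ k * u := (Nat.mul_div_cancel' hgk).symm
  have hcop : Nat.Coprime (p ^ a) u := by
    refine Nat.Coprime.pow_left _ ((Fact.out : p.Prime).coprime_iff_not_dvd.2 ?_)
    rw [hu, ← hgp]
    exact Nat.not_dvd_ordCompl Fact.out hg0
  obtain ⟨n, y, deg, hS, hdeg, hl⟩ :=
    CfsgLib.BlockA.BlockSquares.exists_sum hM hB (Nat.pos_of_ne_zero hg0) hg1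
  rw [finsum_mem_eq_finite_toFinset_sum _ B.toFinite]
  set v := ∑ i, y i * (deg i / (p ^ a * u)) with hv
  have hdd2 : ∀ i, y i ≠ 0 → p ^ a * u ∣ deg i := fun i hi =>
    hcop.mul_dvd_of_dvd_of_dvd (ha ▸ (hdeg i hi).2.1)
      ((Dvd.intro_left _ hgu.symm).trans (hdeg i hi).1)
  have heq : ∑ χ ∈ B.toFinite.toFinset, Cfsg.charDegree (χ : G → ℂ) ^ 2 =
      p ^ (2 * a - d) * u ^ 2 * v := by
    rw [hS, hv, Finset.mul_sum, Finset.mul_sum]
    refine Finset.sum_congr rfl fun i _ => ?_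
    by_cases hi : y i = 0
    · simp [hi]
    obtain ⟨q, hq⟩ := hdd2 i hi
    have hpau : 0 < p ^ a * u :=
      Nat.pos_of_ne_zero (mul_ne_zero (pow_ne_zero _ (Fact.out : p.Prime).ne_zero)
        (fun h => hg0 (by rw [hgu, h, mul_zero])))
    rw [hq, Nat.mul_div_cancel_left _ hpau, hgu, show 2 * a - d = k + a by omega, pow_add]
    ring
  have hndvd : ¬ p ∣ v := fun h => by
    refine CfsgLib.BlockA.BlockSquares.sum_sq_not_dvd hM hB hk ?_
    rw [heq, ha, show a + k + 1 = (2 * a - d) + 1 by omega, pow_succ, mul_assoc]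
    exact Nat.mul_dvd_mul_left _ (Dvd.dvd.mul_left h _)
  refine ⟨v, Nat.pos_of_ne_zero fun h => hndvd (h ▸ dvd_zero p), hndvd, hl.trans ?_, heq⟩
  rw [hv, Finset.card_eq_sum_ones, Finset.sum_filter]
  refine Finset.sum_le_sum fun i _ => ?_
  split_ifs with hi
  · exact Nat.one_le_iff_ne_zero.2 (mul_ne_zero hi fun h =>
      (hdeg i hi).2.2.ne' (by rw [← Nat.div_mul_cancel (hdd2 i hi), h, zero_mul]))
  · exact Nat.zero_le _

end Cfsg.Agent.S4641
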