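import Cfsg.Statements.S4643
import Cfsg.Agent.Lib.BlockA.AbelianIso.ReduceMain
import Cfsg.Agent.Lib.BlockA.AbelianIso.Lift
import Cfsg.Agent.Lib.BlockA.AbelianIso.Chain

set_option autoImplicit false
open Cfsg

namespace Cfsg.Agent.S4643

/-- Let G be a finite p-solvable group, M a maximal ideal of the algebraic integers containing the prime p, and B a block of G with a commutative defect group P. Let c be the Brauer correspondent of B: the block of N_G(P) with defect group P that induces B. Then B and c contain the same number of irreducible characters, have the same p-regular rank, and there is a perfect isometry from c onto B. -/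
theorem result {G : Type*} [Group G] [Finite G] (p : ℕ) [Fact p.Prime] (M : Ideal Cfsg.AlgInt) (hM : Cfsg.IsPModular p M) (hsolv : Cfsg.IsPSolvable p G) (B : Set (Cfsg.IrrCharacter G)) (hB : Cfsg.IsPBlock M B) (P : Subgroup G) (hPD : Cfsg.IsDefectGroup p M B P) (hPab : ∀ x ∈ P, ∀ y ∈ P, x * y = y * x) (c : Set (Cfsg.IrrCharacter (Subgroup.normalizer (P : Set G)))) (hcD : Cfsg.IsDefectGroup p M c (P.subgroupOf (Subgroup.normalizer (P : Set G)))) (hc : Cfsg.IsInducedBlock M (Subgroup.normalizer (P : Set G)) c B) : Nat.card c = Nat.card B ∧ Cfsg.blockRank p c = Cfsg.blockRank p B ∧ ∃ (I : Cfsg.IrrCharacter (Subgroup.normalizer (P : Set G)) → Cfsg.IrrCharacter G) (ε : Cfsg.IrrCharacter (Subgroup.normalizer (P : Set G)) → ℤ), Cfsg.IsPerfectIsometry p M c B I ε := by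
  refine CfsgLib.BlockA.AbelianIso.main ?_ p M hM hsolv B hB P hPD hPab c hcD hc
  intro G _ _ p _ M _ hM K _ _ hKp P hP hab _ θ hθ β hlink
  have : CharP (CfsgLib.Block.kres M) p := CfsgLib.Block.charP_kres hM
  have : IsAlgClosed (CfsgLib.Block.kres M) := CfsgLib.Block.isAlgClosed_kres
  exact CfsgLib.BlockA.AbelianIso.hasTwist_of_factor hM K hKp P hP θ hθ β hlink
    fun hn hs ρ σ hρ hσ hl hinv hinter A hA B hB =>
      CfsgLib.BlockA.AbelianIso.exists_factor_abelian K P hKp hP hab hn hs ρ σ hρ hσ hl hinv hinter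
        A hA B hB

end Cfsg.Agent.S4643
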