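import Cfsg.Statements.S4645
import Cfsg.Agent.Lib.Block.CyclicLocal

set_option autoImplicit false
open Cfsg

namespace Cfsg.Agent.S4645

/-- Let B be a block of the finite group G relative to a maximal ideal M of the algebraic integers containing the prime p, with a nontrivial cyclic defect group P; let c be a block of C_G(P) inducing B and T the stabilizer of c in N_G(P). Let Q be a nontrivial subgroup of P (so C_G(P) ≤ C_G(Q)), f the block of C_G(Q) induced by c inside C_G(Q), and T' the stabilizer of f in N_G(Q). Then T' = T·C_G(Q), the index of C_G(Q) in T' equals the index of C_G(P) in T, f has p-regular rank 1, and f is a nilpotent block of C_G(Q). -/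
theorem result {G : Type*} [Group G] [Finite G] (p : ℕ) [Fact p.Prime] (M : Ideal Cfsg.AlgInt) (hM : Cfsg.IsPModular p M) (B : Set (Cfsg.IrrCharacter G)) (hB : Cfsg.IsPBlock M B) (P : Subgroup G) (hPD : Cfsg.IsDefectGroup p M B P) (hP1 : P ≠ ⊥) (hcyc : IsCyclic P) (c : Set (Cfsg.IrrCharacter (Subgroup.centralizer (P : Set G)))) (hc : Cfsg.IsInducedBlock M (Subgroup.centralizer (P : Set G)) c B) (T : Subgroup G) (hT : ∀ g : G, g ∈ T ↔ (g ∈ Subgroup.normalizer (P : Set G) ∧ Cfsg.StabilizesBlock (Subgroup.centralizer (P : Set G)) c g)) (Q : Subgroup G) (hQP : Q ≤ P) (hQ1 : Q ≠ ⊥) (f : Set (Cfsg.IrrCharacter (Subgroup.centralizer (Q : Set G)))) (hf : Cfsg.IsInducedBlockIn M (Subgroup.centralizer (Q : Set G)) (Subgroup.centralizer (P : Set G)) c f) (T' : Subgroup G) (hT' : ∀ g : G, g ∈ T' ↔ (g ∈ Subgroup.normalizer (Q : Set G) ∧ Cfsg.StabilizesBlock (Subgroup.centralizer (Q : Set G)) f g)) : T' = T ⊔ Subgroup.centralizer (Q : Set G) ∧ (Subgroup.centralizer (Q : Set G)).relIndex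 T' = (Subgroup.centralizer (P : Set G)).relIndex T ∧ Cfsg.blockRank p f = 1 ∧ Cfsg.IsNilpotentBlock p M f := by
  classical
  have := Fintype.ofFinite G
  have : M.IsPrime := hM.2.1.isPrime
  obtain ⟨a, hPa⟩ := IsPGroup.iff_card.1 (CfsgLib.Block.isPGroup_defectGroup hM hB hPD)
  have ha : 1 ≤ a := by
    by_contra h
    exact hP1 (Subgroup.card_eq_one.1 (by rw [hPa, Nat.lt_one_iff.1 (not_le.1 h), pow_zero]))
  obtain ⟨S, rfl, rfl, rfl, rfl⟩ := CfsgLib.Block.exists_cycBlock hM hPD hcyc ha hPa hc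
  obtain rfl : T = S.T := CfsgLib.BlockA.eq_pairStab hM S.isBrauerPair_eD.2 hT
  have hle := S.subpairLE_of_inducedIn hQP hf
  obtain ⟨i, rfl⟩ := S.exists_el_generator hQP
  have hi : i ≠ 0 := fun h => hQ1 (by rw [h, S.el_zero, Subgroup.zpowers_one_eq_bot])
  obtain rfl : f = S.below i :=
    CfsgLib.BlockA.subpair_unique hM S.isBrauerPair_eD _ _ rfl _ _ hle (S.below_le i)
  obtain rfl := CfsgLib.BlockA.eq_pairStab hM (S.isPBlock_below i) hT'
  exact ⟨S.pairStab_below i, S.relIndex_below hi, S.rank_nilpotent_below hi⟩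

end Cfsg.Agent.S4645
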