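import Cfsg.Statements.S4648
import Cfsg.Agent.Lib.BlockA.RankOneSmall
import Cfsg.Agent.Lib.BlockA.Contribution
import Cfsg.Agent.Lib.BlockA.DefectOneStar
import Cfsg.Agent.Lib.Block.DefectOrder

set_option autoImplicit false
open Cfsg CfsgLib.Block CfsgLib.BlockA CfsgLib.BlockB CfsgLib.BlockB.HeightBound

namespace Cfsg.Agent.S4648

/-- Let B be a block of the finite group G relative to a maximal ideal M of the algebraic integers containing the prime p, with a nontrivial defect group D. If B has p-regular rank 1 and at most four irreducible characters, then B is nilpotent, D has exactly as many elements as B has irreducible characters, and p is 2 or 3. -/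
theorem result {G : Type*} [Group G] [Finite G] (p : ℕ) [Fact p.Prime] (M : Ideal Cfsg.AlgInt) (hM : Cfsg.IsPModular p M) (B : Set (Cfsg.IrrCharacter G)) (hB : Cfsg.IsPBlock M B) (D : Subgroup G) (hD : Cfsg.IsDefectGroup p M B D) (hD1 : D ≠ ⊥) (hl : Cfsg.blockRank p B = 1) (hk : Nat.card B ≤ 4) : Cfsg.IsNilpotentBlock p M B ∧ Nat.card D = Nat.card B ∧ (p = 2 ∨ p = 3) := by
  classical
  have := Fintype.ofFinite G
  have : M.IsPrime := hM.2.1.isPrime
  have hp : p.Prime := Fact.out
  obtain ⟨e, hmax⟩ := CfsgLib.BlockA.DefectOneStar.exists_maximal_pair hM hB hD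
  have hcard := CfsgLib.Block.natCard_defectGroup hM hB hD
  have hkD := CfsgLib.BlockA.RankOneSmall.card_eq_pow_defect hM hB hl hk
  have hDk : Nat.card D = Nat.card B := hcard.trans hkD.symm
  have hD2 : 1 < Nat.card D := Finite.one_lt_card_iff_nontrivial.2 ((Subgroup.nontrivial_iff_ne_bot D).2 hD1)
  have hdpos : Cfsg.blockDefect p B ≠ 0 := fun h => by rw [h, pow_zero] at hcard; omega
  have hp23 : p = 2 ∨ p = 3 := by
    have h1 : p ≤ 4 := le_trans (Nat.le_self_pow hdpos p) (hkD ▸ hk)
    have := hp.two_le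
    rcases (show p = 2 ∨ p = 3 ∨ p = 4 by omega) with h | h | h
    · exact Or.inl h
    · exact Or.inr h
    · exact absurd (h ▸ hp) (by norm_num)
  refine ⟨?_, hDk, hp23⟩
  have hab : ∀ v ∈ D, ∀ w ∈ D, v * w = w * v := by
    have hd2 : Cfsg.blockDefect p B ≤ 2 := by
      by_contra h
      push Not at h
      have h1 : 2 ^ 3 ≤ p ^ Cfsg.blockDefect p B :=
        le_trans (Nat.pow_le_pow_left hp.two_le 3) (Nat.pow_le_pow_right hp.pos h)
      omega
    intro v hv w hw
    rcases (show Cfsg.blockDefect p B = 1 ∨ Cfsg.blockDefect p B = 2 by omega) with h | h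
    · rw [h, pow_one] at hcard
      have := isCyclic_of_prime_card hcard
      exact congrArg Subtype.val ((IsCyclic.commGroup (α := D)).mul_comm ⟨v, hv⟩ ⟨w, hw⟩)
    · rw [h] at hcard
      exact congrArg Subtype.val
        ((IsPGroup.commGroupOfCardEqPrimeSq hcard).mul_comm ⟨v, hv⟩ ⟨w, hw⟩)
  refine (nilpotent_iff_abelian hM hmax hab).2 ?_
  let C := Subgroup.centralizer (D : Set G)
  let T := pairStab M D e
  have hnorm : (C.subgroupOf T).Normal :=
    subgroupOf_normal_of_le_normalizer (centralizer_le_pairStab D e)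
      ((pairStab_le D e).trans
        (normalizer_le_normalizer_centralizer hM D))
  have hindex : ∀ t ∈ T, t ^ (C.subgroupOf T).index ∈ C := fun t ht => by
    have h3 : (⟨t, ht⟩ : T) ^ (C.subgroupOf T).index ∈ C.subgroupOf T := Subgroup.pow_index_mem _ _
    rwa [Subgroup.mem_subgroupOf, Subgroup.coe_pow] at h3
  -- the action is free
  have hfree : ∀ t ∈ T, ∀ v : D, v ≠ 1 → t * (v : G) * t⁻¹ = v → t ∈ C := by
    intro t ht v hv hfix
    have hz : ∀ w ∈ Subgroup.zpowers (v : G), t * w * t⁻¹ = w := by
      rintro w ⟨i, rfl⟩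
      show t * (v : G) ^ i * t⁻¹ = (v : G) ^ i
      rw [← conj_zpow, hfix]
    by_cases htop : Subgroup.zpowers (v : G) = D
    · refine Subgroup.mem_centralizer_iff.2 fun w hw => ?_
      exact (mul_inv_eq_iff_eq_mul.1 (hz w (by rw [htop]; exact hw))).symm
    -- the index two case
    have hvp : (orderOf (v : G)) ∣ Nat.card D := by
      rw [Subgroup.orderOf_coe]
      exact orderOf_dvd_natCard v
    have hv1 : orderOf (v : G) ≠ 1 := fun h => hv (Subtype.ext (orderOf_eq_one_iff.1 h))
    have hlt : orderOf (v : G) < Nat.card D := by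
      refine lt_of_le_of_ne (Nat.le_of_dvd (by omega) hvp) fun h => htop ?_
      refine Subgroup.eq_of_le_of_card_ge (Subgroup.zpowers_le.2 v.2) ?_
      rw [Nat.card_zpowers, h]
    have hD4 : Nat.card D = 4 ∧ orderOf (v : G) = 2 := by
      have h4 : Nat.card D ≤ 4 := hDk ▸ hk
      obtain ⟨j, hj⟩ := hvp
      rw [hj] at h4 hlt ⊢
      have hj2 : 2 ≤ j := by
        by_contra h
        push Not at h
        interval_cases j <;> omega
      have hv2 : 2 ≤ orderOf (v : G) := by have := orderOf_pos (v : G); omega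
      constructor <;> nlinarith
    have hp2 : p = 2 := by
      rcases hp23 with h | h
      · exact h
      · exfalso
        have h3 : p ∣ Nat.card D := by rw [hcard]; exact dvd_pow_self p hdpos
        rw [h] at h3
        omega
    have hodd : ¬ 2 ∣ (C.subgroupOf T).index := hp2 ▸ CfsgLib.BlockA.Watanabe.not_dvd_relIndex hM hmax hab
    have h2 : t * t ∈ C := by
      refine Subgroup.mem_centralizer_iff.2 fun w hw => ?_
      by_cases hwz : w ∈ Subgroup.zpowers (v : G)
      · have h1 := hz w hwz
        have h3 : t * t * w * (t * t)⁻¹ = w := by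
          calc t * t * w * (t * t)⁻¹ = t * (t * w * t⁻¹) * t⁻¹ := by group
            _ = w := by rw [h1, h1]
        exact (mul_inv_eq_iff_eq_mul.1 h3).symm
      · -- at most two elements lie outside
        let S := (Finset.univ : Finset D).filter fun u : D => (u : G) ∉ Subgroup.zpowers (v : G)
        have hS : S.card = 2 := by
          have hin : ((Finset.univ : Finset D).filter fun u : D =>
              (u : G) ∈ Subgroup.zpowers (v : G)).card = 2 := by
            rw [← Fintype.card_subtype, ← Nat.card_eq_fintype_card, ← hD4.2, ← Nat.card_zpowers]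
            exact Nat.card_congr ⟨fun u => ⟨u.1, u.2⟩,
              fun u => ⟨⟨u.1, Subgroup.zpowers_le.2 v.2 u.2⟩, u.2⟩, fun _ => rfl, fun _ => rfl⟩
          have h := Finset.card_filter_add_card_filter_not (s := (Finset.univ : Finset D))
            (fun u : D => (u : G) ∈ Subgroup.zpowers (v : G))
          rw [hin, Finset.card_univ, ← Nat.card_eq_fintype_card, hD4.1] at h
          show Finset.card _ = 2
          exact Nat.add_left_cancel (show 2 + S.card = 2 + 2 by convert h using 3)
        have hmove : ∀ u : D, u ∈ S → ∃ u' : D, u' ∈ S ∧ (u' : G) = t * (u : G) * t⁻¹ := by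
          intro u hu
          refine ⟨⟨_, (Subgroup.mem_normalizer_iff.1
            (pairStab_le D e ht) _).1 u.2⟩, ?_, rfl⟩
          simp only [S, Finset.mem_filter, Finset.mem_univ, true_and] at hu ⊢
          intro h
          have h' := hz _ h
          have : t * (u : G) * t⁻¹ = (u : G) := mul_left_cancel (mul_right_cancel h')
          exact hu (this ▸ h)
        obtain ⟨a, b, hab', hSe⟩ := Finset.card_eq_two.1 hS
        have hwS : (⟨w, hw⟩ : D) ∈ S := Finset.mem_filter.2 ⟨Finset.mem_univ _, hwz⟩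
        obtain ⟨u, huS, hu⟩ := hmove _ hwS
        obtain ⟨u', hu'S, hu'⟩ := hmove _ huS
        have key : u' = ⟨w, hw⟩ := by
          by_cases h : u = ⟨w, hw⟩
          · subst h
            exact Subtype.ext (hu'.trans hu.symm)
          · have h' : u' ≠ u := fun h'' => h (Subtype.ext (mul_left_cancel (mul_right_cancel
              ((hu'.symm.trans (congrArg Subtype.val h'')).trans hu))))
            rw [hSe, Finset.mem_insert, Finset.mem_singleton] at hwS huS hu'S
            grind
        have h3 : t * t * w * (t * t)⁻¹ = w := by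
          calc t * t * w * (t * t)⁻¹ = t * (t * w * t⁻¹) * t⁻¹ := by group
            _ = (u' : G) := by rw [hu', hu]
            _ = w := by rw [key]
        exact (mul_inv_eq_iff_eq_mul.1 h3).symm
    obtain ⟨s, hs⟩ := Nat.not_even_iff_odd.1 fun he => hodd (even_iff_two_dvd.1 he)
    have h3 := hindex t ht
    rw [hs, pow_succ, pow_mul, pow_two] at h3
    exact (Subgroup.mul_mem_cancel_left _ (pow_mem h2 s)).1 h3
  -- the local ranks are one
  have hrk : ∀ v : D, v ≠ 1 → CfsgLib.BlockA.AbelianTrace.rk hM hmax hab v = 1 := by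
    intro v hv
    obtain ⟨hHc, -, hmaxH, -, hTH⟩ := CfsgLib.BlockA.Watanabe.blk_in hM hmax hab v.2
    have h := (CfsgLib.BlockA.Contribution.nilpotent_counts hM hmaxH
      (fun a ha b hb => Subtype.ext (hab _ ha _ hb)) fun t ht =>
        (((CfsgLib.BlockA.cenEq_iff _ D).1 hHc).2 t).2 (hfree _ ((hTH t).1 ht) v hv
          (mul_inv_eq_iff_eq_mul.2 (Subgroup.mem_centralizer_singleton_iff.1 t.2)))).2
    rw [CfsgLib.BlockA.AbelianTrace.rk, h, Nat.cast_one]
  have hrk1 : CfsgLib.BlockA.AbelianTrace.rk hM hmax hab (1 : D) = 1 := by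
    have h := (CfsgLib.BlockA.Watanabe.central_case hM hmax hab
      (Subgroup.one_mem (Subgroup.center G))
      (CfsgLib.BlockA.Watanabe.blk_in hM hmax hab D.one_mem).choose_spec.1).1
    rw [hl] at h
    exact (congrArg Nat.cast h).trans Nat.cast_one
  have hsum := CfsgLib.BlockA.Watanabe.natCard_eq_sum hM hmax hab
  rw [← hDk, Finset.sum_congr rfl fun v _ => by
    rw [show CfsgLib.BlockA.AbelianTrace.rk hM hmax hab v = 1 by
      rcases eq_or_ne v 1 with rfl | hv
      exacts [hrk1, hrk v hv]]] at hsum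
  have horb : ∀ v : D, (CfsgLib.BlockA.AbelianTrace.orb M D e (v : G)).card = 1 := by
    intro v
    by_contra hv
    have hpos : ∀ u : D, 1 ≤ (CfsgLib.BlockA.AbelianTrace.orb M D e (u : G)).card := fun u =>
      Finset.card_pos.2 ⟨_, CfsgLib.BlockA.AbelianTrace.self_mem_orb _⟩
    have hlt : ∑ u : D, (1 : ℝ) / ((CfsgLib.BlockA.AbelianTrace.orb M D e (u : G)).card : ℝ) <
        ∑ u : D, (1 : ℝ) := by
      refine Finset.sum_lt_sum (fun u _ => ?_) ⟨v, Finset.mem_univ _, ?_⟩
      · rw [div_le_one (by exact_mod_cast hpos u)]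
        exact_mod_cast hpos u
      · rw [div_lt_one (by exact_mod_cast hpos v)]
        exact_mod_cast lt_of_le_of_ne (hpos v) (Ne.symm hv)
    have h' : ((Nat.card D : ℝ) : ℂ) = ((∑ u : D,
        (1 : ℝ) / ((CfsgLib.BlockA.AbelianTrace.orb M D e (u : G)).card : ℝ) : ℝ) : ℂ) := by
      push_cast
      exact hsum
    rw [← Complex.ofReal_inj.1 h', Finset.sum_const, Finset.card_univ, ← Nat.card_eq_fintype_card,
      nsmul_eq_mul, mul_one] at hlt
    exact lt_irrefl _ hlt
  intro t ht
  refine Subgroup.mem_centralizer_iff.2 fun w hw => ?_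
  have hmem : t * w * t⁻¹ ∈ CfsgLib.BlockA.AbelianTrace.orb M D e w :=
    CfsgLib.BlockA.AbelianTrace.mem_orb.2 ⟨t, ht, rfl⟩
  obtain ⟨a, ha⟩ := Finset.card_eq_one.1 (horb ⟨w, hw⟩)
  have h1 := CfsgLib.BlockA.AbelianTrace.self_mem_orb (M := M) (c := e) (P := D) w
  rw [ha, Finset.mem_singleton] at hmem h1
  exact (mul_inv_eq_iff_eq_mul.1 (hmem.trans h1.symm)).symm

end Cfsg.Agent.S4648
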