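import Cfsg.Statements.S4649
import Cfsg.Agent.Lib.Block.CyclicCount

set_option autoImplicit false
open Cfsg

namespace Cfsg.Agent.S4649

/-- A block with cyclic defect group, of a finite group relative to a maximal ideal M of the algebraic integers containing the prime p, is nilpotent if and only if its p-regular rank is 1 (it has a unique irreducible Brauer character). -/
theorem result {G : Type*} [Group G] [Finite G] (p : ℕ) [Fact p.Prime] (M : Ideal Cfsg.AlgInt) (hM : Cfsg.IsPModular p M) (B : Set (Cfsg.IrrCharacter G)) (hB : Cfsg.IsPBlock M B) (P : Subgroup G) (hPD : Cfsg.IsDefectGroup p M B P) (hcyc : IsCyclic P) : Cfsg.IsNilpotentBlock p M B ↔ Cfsg.blockRank p B = 1 := by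
  classical
  have := Fintype.ofFinite G
  have : M.IsPrime := hM.2.1.isPrime
  have := CfsgLib.Block.charP_kres hM
  have hPp : IsPGroup p P := CfsgLib.Block.isPGroup_defectGroup hM hB hPD
  obtain ⟨a, hPa⟩ := IsPGroup.iff_card.1 hPp
  obtain ⟨c, hc, hc0⟩ := (CfsgLib.Block.exists_le_conj_iff_coeff hM hB hPD hPp).2
    ⟨1, by rw [CfsgLib.Block.map_conj_one]⟩
  set C := Subgroup.centralizer (P : Set G)
  set z : MonoidAlgebra (CfsgLib.Block.kres M) G := CfsgLib.Block.inclSub C (CfsgLib.Block.resSub C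
    (CfsgLib.Block.blkIdem M B : MonoidAlgebra (CfsgLib.Block.kres M) G))
  have hz0 : z ≠ 0 := fun h => hc0 (by
    have h' := congrArg (fun a : MonoidAlgebra (CfsgLib.Block.kres M) G =>
      a.coeff ((⟨c, hc⟩ : C) : G)) h
    have h'' : (CfsgLib.Block.inclSub C (CfsgLib.Block.resSub C
        (CfsgLib.Block.blkIdem M B : MonoidAlgebra (CfsgLib.Block.kres M) G))).coeff
        ((⟨c, hc⟩ : C) : G) = 0 := h'
    rw [CfsgLib.Block.coeff_inclSub_of_mem, CfsgLib.Block.coeff_resSub] at h''
    exact h'')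
  have hidem : z * z = z := by
    simp only [z]
    rw [← map_mul, ← CfsgLib.BlockA.resSub_mul hM hPp
      (CfsgLib.Block.isPInv_of_isClassCoeff (CfsgLib.Block.isClassCoeff_center _) _)
      (CfsgLib.Block.isPInv_of_isClassCoeff (CfsgLib.Block.isClassCoeff_center _) _),
      ← Subalgebra.coe_mul, CfsgLib.Block.blkIdem_idem hM hB]
  obtain ⟨e, he, hze⟩ := CfsgLib.BlockA.exists_mul_sIdem hM (H := C) (z := z)
    (fun x hx => CfsgLib.Block.coeff_inclSub_of_not_mem _ _ hx) hidem
    (fun u hu x => CfsgLib.Block.inclSub_conj_invariant C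
      (CfsgLib.Block.resSub_isClassCoeff _ (CfsgLib.Block.isClassCoeff_center _)) hu x) hz0
  have hpair : Cfsg.IsBrauerPairOf p M B P e :=
    (CfsgLib.BlockA.isBrauerPairOf_iff_mul hM ⟨hPp, he⟩ hB).2 (by
      rw [CfsgLib.BlockA.sIdem_mul_comm e
        (fun x hx => CfsgLib.Block.coeff_inclSub_of_not_mem _ _ hx)]
      exact hze)
  have hmax := CfsgLib.BlockA.isMaximal_of_card hM hpair hPD le_rfl
  rcases Nat.eq_zero_or_pos a with rfl | ha
  · rw [pow_zero, Subgroup.card_eq_one] at hPa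
    subst hPa
    refine iff_of_true ?_ (CfsgLib.BlockA.blockRank_of_central_defect hM hB hPD bot_le)
    refine (CfsgLib.BlockA.nilpotent_iff_abelian hM hmax (fun x hx y hy => ?_)).2 (fun x _ => ?_)
    · rw [Subgroup.mem_bot.1 hx, Subgroup.mem_bot.1 hy]
    · rw [Subgroup.mem_centralizer_iff]
      intro y hy
      rw [Subgroup.mem_bot.1 hy, one_mul, mul_one]
  · obtain ⟨g, hg⟩ := hcyc.exists_generator
    let S : CfsgLib.Block.CycBlock G p M :=
      ⟨hM, B, P, e, hmax, g, le_antisymm (Subgroup.zpowers_le.2 g.2) (fun x hx => by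
        obtain ⟨k, hk⟩ := Subgroup.mem_zpowers_iff.1 (hg ⟨x, hx⟩)
        exact Subgroup.mem_zpowers_iff.2 ⟨k, by rw [← Subgroup.coe_zpow, hk]⟩), a, ha,
        by rw [Subgroup.orderOf_coe, orderOf_eq_card_of_forall_mem_zpowers hg, hPa]⟩
    rw [show B = S.B from rfl, S.nilpotent_iff, S.blockRank_eq]

end Cfsg.Agent.S4649
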