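import Cfsg.Statements.S4650
import Cfsg.Agent.Lib.BlockA.CentralizerBlock

set_option autoImplicit false
open Cfsg

namespace Cfsg.Agent.S4650

/-- Let B be a block of the finite group G relative to a maximal ideal M of the algebraic integers containing the prime p, with a nontrivial commutative defect group P; let c be a block of C_G(P) inducing B and T the stabilizer of c in N_G(P). Then T/C_G(P) acts freely on the non-identity elements of P (an element of T fixing a non-identity element of P under conjugation lies in C_G(P)) if and only if, for every nontrivial subgroup Q of P, the block of C_G(Q) induced by c inside C_G(Q) is a nilpotent block of C_G(Q). -/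
theorem result {G : Type*} [Group G] [Finite G] (p : ℕ) [Fact p.Prime] (M : Ideal Cfsg.AlgInt) (hM : Cfsg.IsPModular p M) (B : Set (Cfsg.IrrCharacter G)) (hB : Cfsg.IsPBlock M B) (P : Subgroup G) (hPD : Cfsg.IsDefectGroup p M B P) (hPab : ∀ x ∈ P, ∀ y ∈ P, x * y = y * x) (hP1 : P ≠ ⊥) (c : Set (Cfsg.IrrCharacter (Subgroup.centralizer (P : Set G)))) (hc : Cfsg.IsInducedBlock M (Subgroup.centralizer (P : Set G)) c B) (T : Subgroup G) (hT : ∀ g : G, g ∈ T ↔ (g ∈ Subgroup.normalizer (P : Set G) ∧ Cfsg.StabilizesBlock (Subgroup.centralizer (P : Set G)) c g)) : (∀ g ∈ T, ∀ x ∈ P, x ≠ 1 → g * x * g⁻¹ = x → g ∈ Subgroup.centralizer (P : Set G)) ↔ ∀ Q : Subgroup G, Q ≤ P → Q ≠ ⊥ → ∀ f : Set (Cfsg.IrrCharacter (Subgroup.centralizer (Q : Set G))), Cfsg.IsInducedBlockIn M (Subgroup.centralizer (Q : Set G)) (Subgroup.centralizer (P : Set G)) c f → Cfsg.IsNilpotentBlock p M f := by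
  have := hM.2.1.isPrime
  have := Fintype.ofFinite G
  have hb : Cfsg.IsBrauerPair p M P c :=
    ⟨CfsgLib.Block.isPGroup_defectGroup hM hB hPD, hc.1⟩
  obtain ⟨B', hB', -⟩ := CfsgLib.BlockA.existsUnique_block hM hb
  have hB'B : B' = B := CfsgLib.Block.isInducedBlock_unique _
    (CfsgLib.BlockA.isInducedBlock_of_isBrauerPairOf hM hB') hc
  subst hB'B
  have hmax := CfsgLib.BlockA.isMaximal_of_card hM hB' hPD le_rfl
  obtain rfl : T = CfsgLib.BlockA.pairStab M P c := CfsgLib.BlockA.eq_pairStab hM hc.1 hT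
  constructor
  · intro hfree Q hQP hQ1 f hf
    rw [CfsgLib.BlockA.CentralizerBlock.nilpotent_iff hM hmax hPD hPab hQP hf]
    intro t ht htQ
    obtain ⟨x, hx, hx1⟩ := (Subgroup.ne_bot_iff_exists_ne_one.1 hQ1)
      |> fun ⟨x, hx⟩ => (⟨(x : G), x.2, fun h => hx (Subtype.ext h)⟩ : ∃ x : G, x ∈ Q ∧ x ≠ 1)
    exact hfree t ht x (hQP hx) hx1
      (mul_inv_eq_iff_eq_mul.2 (Subgroup.mem_centralizer_iff.1 htQ x hx).symm)
  · intro hnil g hg x hx hx1 hgx
    have hQP : Subgroup.zpowers x ≤ P := Subgroup.zpowers_le.2 hx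
    obtain ⟨f, -, hf, -, -, -⟩ :=
      CfsgLib.BlockA.CentralizerBlock.exists_below_data hM hmax hPD hPab hQP
    refine (CfsgLib.BlockA.CentralizerBlock.nilpotent_iff hM hmax hPD hPab hQP hf).1
      (hnil _ hQP (Subgroup.zpowers_ne_bot.2 hx1) f hf) g hg ?_
    rw [Subgroup.mem_centralizer_iff]
    intro y hy
    obtain ⟨k, rfl⟩ := Subgroup.mem_zpowers_iff.1 hy
    exact ((show Commute g x from mul_inv_eq_iff_eq_mul.1 hgx).zpow_right k).symm

end Cfsg.Agent.S4650
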