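import Cfsg.Statements.S4654
import Cfsg.Agent.Lib.BlockA.PairNorm

set_option autoImplicit false
open Cfsg

namespace Cfsg.Agent.S4654

/-- Fix a prime p and a maximal ideal M of the algebraic integers containing p. Let P be a normal p-subgroup of the finite group G, B a p-block of G and e a p-block of C_G(P) such that (P, e) is a Brauer pair of B (as P is normal, this says that e occurs in the idempotent of B, which is supported on C_G(P)). Let T be the stabilizer of e in G under conjugation. Then the idempotent of e is a block idempotent of T: some block E of T has, at every element of T, the same idempotent coefficient as e (zero off C_G(P)); and the idempotent of B is the sum of the distinct G-conjugates of the idempotent of e: its coefficient at g is the sum over all x in G of the coefficient of e at x⁻¹ g x, divided by the order of T. -/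
theorem result {G : Type*} [Group G] [Fintype G] (p : ℕ) [Fact p.Prime] (M : Ideal Cfsg.AlgInt) (hM : Cfsg.IsPModular p M) (P : Subgroup G) [P.Normal] (hP : IsPGroup p P) (B : Set (Cfsg.IrrCharacter G)) (e : Set (Cfsg.IrrCharacter (Subgroup.centralizer (P : Set G)))) (hBe : Cfsg.IsBrauerPairOf p M B P e) (T : Subgroup G) (hT : ∀ x : G, x ∈ T ↔ Cfsg.StabilizesBlock (Subgroup.centralizer (P : Set G)) e x) : (∃ E : Set (Cfsg.IrrCharacter T), Cfsg.IsPBlock M E ∧ ∀ t : T, Cfsg.blockCoeff E t = Cfsg.subgroupBlockCoeff (Subgroup.centralizer (P : Set G)) e (t : G)) ∧ ∀ g : G, Cfsg.blockCoeff B g = (Nat.card T : ℂ)⁻¹ * ∑ x : G, Cfsg.subgroupBlockCoeff (Subgroup.centralizer (P : Set G)) e (x⁻¹ * g * x) := by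
  classical
  have := hM.2.1.isPrime
  have := Fintype.ofFinite (Subgroup.centralizer (P : Set G))
  have hsupp := CfsgLib.BlockA.isBlockSupported_centralizer (M := M) hM hP
  have he := hBe.1.2
  obtain ⟨B', hB', hB'e⟩ := CfsgLib.BlockA.exists_block_covering hM hsupp he
  obtain ⟨θ, hθ⟩ := CfsgLib.Block.isPBlock_nonempty he
  obtain ⟨χ, hχ⟩ := CfsgLib.Block.exists_over_constituent (G := G) θ
  have hχB : χ ∈ B := by
    have h1 := (CfsgLib.BlockA.isBrauerPairOf_iff hM hBe.1 hBe.2.1 hθ).1 hBe
    have hz : ∀ x, x ∉ Subgroup.centralizer (P : Set G) →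
        (CfsgLib.Block.blkIdem M B : MonoidAlgebra (CfsgLib.Block.kres M) G).coeff x = 0 :=
      fun x hx => by
        by_contra h
        exact hx (hsupp B hBe.2.1 x h)
    rw [CfsgLib.BlockA.pairVal_eq θ (CfsgLib.BlockA.isCInv_of_isClassCoeff
      (CfsgLib.Block.isClassCoeff_center _))] at h1
    refine (CfsgLib.Block.algHom_blkIdem_eq_one_iff hM hBe.2.1 χ).1 ?_
    rw [CfsgLib.Block.lam_eq_lam_resZ hχ _ hz]
    exact h1
  have hBB : B = B' := CfsgLib.Block.isPBlock_eq_of_mem hBe.2.1 hB' hχB
    ((CfsgLib.BlockA.mem_iff_constituent hM hB'e hχ).2 (CfsgLib.BlockA.subset_coverSet e hθ))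
  refine ⟨?_, fun g => ?_⟩
  · have hC : Subgroup.centralizer (P : Set G) ≤ T := fun c hc =>
      (hT c).2 ((CfsgLib.BlockA.stabilizesBlock_iff_conjIrr he c).2 ⟨θ, hθ, by
        have e1 : CfsgLib.Block.conjIrr (Subgroup.centralizer (P : Set G)) θ c⁻¹ = θ := by
          refine Subtype.ext (funext fun n => ?_)
          rw [CfsgLib.Block.conjIrr_apply]
          exact CfsgLib.Char.irr_isClassFunction θ.2 n
            (⟨c, hc⟩ : Subgroup.centralizer (P : Set G))⁻¹
        rw [e1]
        exact hθ⟩)
    have hPT : P ≤ T := fun t ht => (hT t).2 (CfsgLib.BlockA.stabilizesBlock_of_mem hM he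
      (CfsgLib.BlockA.le_pairStab (M := M) P e ht))
    exact CfsgLib.BlockA.exists_isBlockOver hM hBe.1 hPT hC fun t ht =>
      ⟨by rw [Subgroup.normalizer_eq_top]; trivial,
        (CfsgLib.BlockA.stabilizesBlock_iff_coeff hM he (by rw [Subgroup.normalizer_eq_top]; trivial)).1
          ((hT t).1 ht)⟩
  · rw [← CfsgLib.BlockA.coeff_coverSet_eq_average he T hT g, ← hB'e, ← hBB]
    simp [CfsgLib.Block.blockSum]

end Cfsg.Agent.S4654
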