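import Cfsg.Statements.S4662
import Cfsg.Agent.Lib.BlockA.PairNorm

set_option autoImplicit false
open Cfsg

namespace Cfsg.Agent.S4662

/-- Fix a prime p and a maximal ideal M of the algebraic integers containing p. Let (P, e) be a maximal Brauer pair of the p-block B of the finite group G, Q ≤ P, and f the p-block of C_G(Q) with (Q, f) ≤ (P, e). Let T be the stabilizer of f in N_G(Q). Then the idempotent of f is a block idempotent of T, and N_P(Q) is contained in a defect group of that block of T; moreover for some x in G the conjugate pair (x Q x⁻¹, conjugate of f) again lies below (P, e) and, with T' the stabilizer of the conjugate of f in N_G(x Q x⁻¹), N_P(x Q x⁻¹) is a defect group of the block of T' whose idempotent is that of the conjugate of f. -/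
theorem result {G : Type*} [Group G] [Fintype G] (p : ℕ) [Fact p.Prime] (M : Ideal Cfsg.AlgInt) (hM : Cfsg.IsPModular p M) (B : Set (Cfsg.IrrCharacter G)) (P Q : Subgroup G) (e : Set (Cfsg.IrrCharacter (Subgroup.centralizer (P : Set G)))) (f : Set (Cfsg.IrrCharacter (Subgroup.centralizer (Q : Set G)))) (hmax : Cfsg.IsMaximalBrauerPair p M B P e) (hQP : Q ≤ P) (hf : Cfsg.IsPBlock M f) (hle : Cfsg.SubpairLE p M Q f P e) (T : Subgroup G) (hT : ∀ y : G, y ∈ T ↔ y ∈ Subgroup.normalizer (Q : Set G) ∧ Cfsg.StabilizesBlock (Subgroup.centralizer (Q : Set G)) f y) : (∃ F : Set (Cfsg.IrrCharacter T), Cfsg.IsPBlock M F ∧ (∀ t : T, Cfsg.blockCoeff F t = Cfsg.subgroupBlockCoeff (Subgroup.centralizer (Q : Set G)) f (t : G)) ∧ ∃ D : Subgroup T, Cfsg.IsDefectGroup p M F D ∧ (P ⊓ Subgroup.normalizer (Q : Set G)).subgroupOf T ≤ D) ∧ ∃ x : G, Cfsg.SubpairLE p M (Q.map (MulAut.conj x).toMonoidHom) (Cfsg.conjBlock Q x f) P e ∧ ∀ (T' : Subgroup G), (∀ y : G, y ∈ T' ↔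 y ∈ Subgroup.normalizer ((Q.map (MulAut.conj x).toMonoidHom) : Set G) ∧ Cfsg.StabilizesBlock (Subgroup.centralizer ((Q.map (MulAut.conj x).toMonoidHom) : Set G)) (Cfsg.conjBlock Q x f) y) → ∃ F' : Set (Cfsg.IrrCharacter T'), Cfsg.IsPBlock M F' ∧ (∀ t : T', Cfsg.blockCoeff F' t = Cfsg.subgroupBlockCoeff (Subgroup.centralizer ((Q.map (MulAut.conj x).toMonoidHom) : Set G)) (Cfsg.conjBlock Q x f) (t : G)) ∧ Cfsg.IsDefectGroup p M F' ((P ⊓ Subgroup.normalizer ((Q.map (MulAut.conj x).toMonoidHom) : Set G)).subgroupOf T') := by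
  have := hM.2.1.isPrime
  have hfp := CfsgLib.BlockA.isBrauerPair_of_subpairLE hmax.1.1 hle
  obtain rfl := CfsgLib.BlockA.eq_pairStab hM hf hT
  have hC := CfsgLib.BlockA.centralizer_le_pairStab (M := M) Q f
  have hQT := CfsgLib.BlockA.le_pairStab (M := M) Q f
  obtain ⟨F, hF⟩ := CfsgLib.BlockA.exists_isBlockOver hM hfp hQT hC le_rfl
  have hinf : ∀ (R : Subgroup G) (g : Set (Cfsg.IrrCharacter (Subgroup.centralizer (R : Set G)))),
      Cfsg.SubpairLE p M R g P e → P ⊓ CfsgLib.BlockA.pairStab M R g =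
        P ⊓ Subgroup.normalizer (R : Set G) := fun R g h =>
    le_antisymm (inf_le_inf_left P (CfsgLib.BlockA.pairStab_le R g))
      (le_inf inf_le_left (CfsgLib.BlockA.inf_le_pairStab hM hmax.1.1 h))
  constructor
  · obtain ⟨D, hD, hle'⟩ := CfsgLib.BlockA.inf_le_defect hM hF hC le_rfl hmax.1.1 hle
    rw [hinf Q f hle] at hle'
    exact ⟨F, hF.1, hF.2, D, hD, hle'⟩
  · obtain ⟨x, hx, h⟩ := CfsgLib.BlockA.exists_conj_defect hM hmax hle hF hC le_rfl
    refine ⟨x, hx, fun T' hT' => ?_⟩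
    obtain rfl := CfsgLib.BlockA.eq_pairStab hM (CfsgLib.BlockA.isBrauerPair_conj hM hfp x).2 hT'
    have hF' := CfsgLib.BlockA.isBlockOver_conj hM hF x
    rw [← CfsgLib.BlockA.pairStab_conj hM] at h
    obtain ⟨F', hF''⟩ := CfsgLib.BlockA.exists_isBlockOver hM
      (CfsgLib.BlockA.isBrauerPair_conj hM hfp x) (CfsgLib.BlockA.le_pairStab (M := M) _ _)
      (CfsgLib.BlockA.centralizer_le_pairStab (M := M) _ _) le_rfl
    refine ⟨F', hF''.1, hF''.2, ?_⟩
    rw [← hinf _ _ hx]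
    exact (h _ rfl F' hF'').1

end Cfsg.Agent.S4662
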