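import Cfsg.Statements.S4664
import Cfsg.Agent.Lib.Block.Orthogonality
import Cfsg.Agent.Lib.Block.Omega
import Cfsg.Agent.Lib.Char.Diag

set_option autoImplicit false
open Cfsg

namespace Cfsg.Agent.S4664

/-- Fix a prime p and a maximal ideal M of the algebraic integers containing p, and let B be a p-block of the finite group G. Let m be the p'-part of the order of G and η = exp(2πi/m). Then every coefficient of the idempotent of B lies in the cyclotomic field ℚ(η). -/
theorem result {G : Type*} [Group G] [Fintype G] (p : ℕ) [Fact p.Prime] (M : Ideal Cfsg.AlgInt) (hM : Cfsg.IsPModular p M) (B : Set (Cfsg.IrrCharacter G)) (hB : Cfsg.IsPBlock M B) (g : G) : Cfsg.blockCoeff B g ∈ IntermediateField.adjoin ℚ ({Complex.exp (2 * Real.pi * Complex.I / ((Nat.card G / p ^ (Nat.card G).factorization p : ℕ) : ℂ))} : Set ℂ) := by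
  classical
  have := hM.2.1.isPrime
  set m := Nat.card G / p ^ (Nat.card G).factorization p with hm
  set η := Complex.exp (2 * Real.pi * Complex.I / (m : ℂ)) with hη
  set K := IntermediateField.adjoin ℚ ({η} : Set ℂ) with hK
  by_cases hg : p ∣ orderOf g
  · rw [CfsgLib.Block.blockCoeff_eq_zero_of_singular hM hB hg]
    exact K.zero_mem
  have hm0 : m ≠ 0 := (Nat.ordCompl_pos p Nat.card_pos.ne').ne'
  have : NeZero m := ⟨hm0⟩
  have hprim : IsPrimitiveRoot η m := Complex.isPrimitiveRoot_exp _ hm0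
  have hroot : ∀ z : ℂ, z ^ m = 1 → z ∈ K := fun z hz => by
    obtain ⟨i, -, rfl⟩ := hprim.eq_pow_of_pow_eq_one hz
    exact pow_mem (IntermediateField.mem_adjoin_simple_self ℚ η) i
  have hdvd : orderOf g ∣ m := by
    have h : orderOf g ∣ p ^ (Nat.card G).factorization p * m := by
      rw [hm, Nat.ordProj_mul_ordCompl_eq_self]
      exact orderOf_dvd_natCard g
    exact (Nat.Coprime.pow_right _ ((hM.1.coprime_iff_not_dvd.2 hg).symm)).dvd_of_dvd_mul_left h
  unfold Cfsg.blockCoeff
  refine K.mul_mem (K.inv_mem (natCast_mem K _)) ?_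
  refine finsum_mem_induction (fun z => z ∈ K) K.zero_mem (fun _ _ => K.add_mem) fun χ _ => ?_
  obtain ⟨n, ρ, -, hρ⟩ := χ.2
  refine K.mul_mem ?_ ?_
  · rw [← hρ, Representation.char_one]
    exact natCast_mem K _
  · rw [CfsgLib.Block.irr_conj_eq χ.2, ← hρ]
    obtain ⟨ι, _, b, μ, -, hμ, -, hinv⟩ := CfsgLib.Char.exists_char_eigen ρ g
    rw [hinv]
    refine sum_mem fun i _ => K.inv_mem (hroot _ ?_)
    obtain ⟨c, hc⟩ := hdvd
    rw [hc, pow_mul, hμ i, one_pow]

end Cfsg.Agent.S4664
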