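import Cfsg.Statements.S4665
import Cfsg.Agent.Lib.BlockA.Regular

set_option autoImplicit false
open Cfsg

namespace Cfsg.Agent.S4665

/-- Fix a prime p, a maximal ideal M of the algebraic integers containing p, and a p-block B of the finite group G, and let p^a be the p-part of the order of G. Let χ be an integer combination of the irreducible characters in B. If the function that agrees with χ on p-regular elements and vanishes on p-singular elements is again an integer combination of the irreducible characters in B, then p^a divides χ(1). -/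
theorem result {G : Type*} [Group G] [Fintype G] (p : ℕ) [Fact p.Prime] (M : Ideal Cfsg.AlgInt) (hM : Cfsg.IsPModular p M) (B : Set (Cfsg.IrrCharacter G)) (hB : Cfsg.IsPBlock M B) (χ : G → ℂ) (hχ : (∃ n : Cfsg.IrrCharacter G → ℤ, ∀ g : G, χ g = ∑ᶠ ψ ∈ B, (n ψ : ℂ) * (ψ : G → ℂ) g)) (h0 : (∃ n : Cfsg.IrrCharacter G → ℤ, ∀ g : G, Cfsg.pRegularPart p χ g = ∑ᶠ ψ ∈ B, (n ψ : ℂ) * (ψ : G → ℂ) g)) : ∃ k : ℤ, χ 1 = (p ^ (Nat.card G).factorization p : ℂ) * k := by
  classical
  obtain ⟨n, hn⟩ := h0
  let P : Sylow p G := default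
  let : Fintype (Cfsg.IrrCharacter G) := Fintype.ofFinite _
  have hgen : Cfsg.IsGeneralizedCharacter G (Cfsg.pRegularPart p χ) := by
    have e : Cfsg.pRegularPart p χ = ∑ ψ : Cfsg.IrrCharacter G,
        (((if ψ ∈ B then n ψ else 0 : ℤ)) : ℂ) • (ψ : G → ℂ) := by
      funext g
      rw [hn g, finsum_mem_eq_finite_toFinset_sum _ (Set.toFinite B), Finset.sum_apply,
        ← Finset.sum_filter_add_sum_filter_not Finset.univ (fun ψ => ψ ∈ B)]
      rw [Finset.sum_eq_zero (s := Finset.univ.filter fun ψ => ¬ ψ ∈ B) (fun ψ hψ => by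
        simp [(Finset.mem_filter.1 hψ).2]), add_zero]
      refine Finset.sum_congr (by ext; simp) fun ψ hψ => ?_
      simp [(Finset.mem_filter.1 hψ).2]
    rw [e]
    refine CfsgLib.Char.isGeneralized_sum _ fun ψ _ => ?_
    simpa [← Int.cast_smul_eq_zsmul ℂ] using CfsgLib.Char.isGeneralized_zsmul
      (CfsgLib.Char.isGeneralized_of_isCharacter (CfsgLib.Char.irr_isCharacter ψ.2))
        (if ψ ∈ B then n ψ else 0)
  obtain ⟨k, hk⟩ := CfsgLib.BlockA.exists_apply_one_eq_card_mul hgen (P : Subgroup G)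
    (fun u hu hu1 => by
      have := CfsgLib.BlockA.dvd_orderOf_of_mem P.isPGroup' hu hu1
      simp [Cfsg.pRegularPart, Cfsg.IsPRegular, this])
  refine ⟨k, ?_⟩
  rw [P.card_eq_multiplicity] at hk
  simpa [Cfsg.pRegularPart, Cfsg.IsPRegular, (Fact.out : p.Prime).one_lt.ne'] using hk

end Cfsg.Agent.S4665
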