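import Cfsg.Statements.S4666
import Cfsg.Agent.Lib.BlockA.RegMatrix

set_option autoImplicit false
open Cfsg

namespace Cfsg.Agent.S4666

/-- Fix a prime p and a maximal ideal M of the algebraic integers containing p, and a p-block B of the finite group G of defect d. For every integer combination χ of the irreducible characters in B, p^d times the function that agrees with χ on p-regular elements and vanishes elsewhere is again an integer combination of the irreducible characters in B. -/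
theorem result {G : Type*} [Group G] [Fintype G] (p : ℕ) [Fact p.Prime] (M : Ideal Cfsg.AlgInt) (hM : Cfsg.IsPModular p M) (B : Set (Cfsg.IrrCharacter G)) (hB : Cfsg.IsPBlock M B) (χ : G → ℂ) (hχ : (∃ n : Cfsg.IrrCharacter G → ℤ, ∀ g : G, χ g = ∑ᶠ ψ ∈ B, (n ψ : ℂ) * (ψ : G → ℂ) g)) : (∃ n : Cfsg.IrrCharacter G → ℤ, ∀ g : G, (p ^ Cfsg.blockDefect p B : ℂ) * Cfsg.pRegularPart p χ g = ∑ᶠ ψ ∈ B, (n ψ : ℂ) * (ψ : G → ℂ) g) := by
  classical
  have := Fintype.ofFinite (Cfsg.IrrCharacter G)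
  have := CfsgLib.Block.isPrime_of_pmodular hM
  have hp := hM.1
  obtain ⟨n, hn⟩ := hχ
  set s := sInf ((fun φ : Cfsg.IrrCharacter G =>
    (Cfsg.charDegree (φ : G → ℂ)).factorization p) '' B) with hs
  have hadd := CfsgLib.Block.sInf_degree_add_blockDefect hM hB
  rw [← hs] at hadd
  have hdvd : ∀ φ : Cfsg.IrrCharacter G, ∀ ψ ∈ B,
      ((p ^ s : ℕ) : ℤ) ∣ CfsgLib.BlockA.regEntry p φ ψ := fun φ ψ hψ =>
    dvd_trans (by exact_mod_cast Nat.pow_dvd_pow p (Nat.sInf_le ⟨ψ, hψ, rfl⟩ :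
      s ≤ (Cfsg.charDegree (ψ : G → ℂ)).factorization p))
      (CfsgLib.BlockA.pow_dvd_regEntry hM φ ψ)
  refine ⟨fun ψ => ∑ φ ∈ B.toFinite.toFinset,
    n φ * (CfsgLib.BlockA.regEntry p φ ψ / (p ^ s : ℕ)), fun g => ?_⟩
  rw [finsum_mem_eq_finite_toFinset_sum _ B.toFinite]
  simp only [Int.cast_sum, Int.cast_mul, Finset.sum_mul]
  rw [Finset.sum_comm]
  have hpart : Cfsg.pRegularPart p χ g = CfsgLib.BlockA.regInd p g * χ g := by
    unfold Cfsg.pRegularPart Cfsg.IsPRegular CfsgLib.BlockA.regInd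
    by_cases h : p ∣ orderOf g <;> simp [h]
  rw [hpart, hn g, finsum_mem_eq_finite_toFinset_sum _ B.toFinite, Finset.mul_sum, Finset.mul_sum]
  refine Finset.sum_congr rfl fun φ hφ => ?_
  have hφ' := B.toFinite.mem_toFinset.1 hφ
  have h := CfsgLib.BlockA.regInd_mul_eq_sum hM hB hφ' g
  rw [finsum_mem_eq_finite_toFinset_sum _ B.toFinite] at h
  rw [show CfsgLib.BlockA.regInd p g * ((n φ : ℂ) * (φ : G → ℂ) g) =
    (n φ : ℂ) * (CfsgLib.BlockA.regInd p g * (φ : G → ℂ) g) by ring, h, Finset.mul_sum,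
    Finset.mul_sum]
  refine Finset.sum_congr rfl fun ψ hψ => ?_
  have h2 := CfsgLib.BlockA.regEntry_cast (p := p) φ ψ
  rw [CfsgLib.BlockA.regFun_eq, ← Int.mul_ediv_cancel' (hdvd φ ψ (B.toFinite.mem_toFinset.1 hψ)),
    show ((fun g => ((p ^ (Nat.card G).factorization p : ℕ) : ℂ) * CfsgLib.BlockA.regInd p g) *
      (φ : G → ℂ)) = ((p ^ (Nat.card G).factorization p : ℕ) : ℂ) •
      (fun x => CfsgLib.BlockA.regInd p x * (φ : G → ℂ) x) by
        funext x; simp only [Pi.mul_apply, Pi.smul_apply, smul_eq_mul]; ring,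
    CfsgLib.Char.classInner_smul_left, ← hadd, pow_add] at h2
  push_cast at h2 ⊢
  have hps : (p : ℂ) ^ s ≠ 0 := pow_ne_zero _ (Nat.cast_ne_zero.2 hp.ne_zero)
  rw [mul_assoc] at h2
  rw [mul_left_cancel₀ hps h2]
  ring

end Cfsg.Agent.S4666
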