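import Cfsg.Statements.S4668
import Cfsg.Agent.Lib.BlockA.NormalBlock
import Cfsg.Agent.Lib.Comp.Local

set_option autoImplicit false
open Cfsg

namespace Cfsg.Agent.S4668

/-- Fix a prime p and a maximal ideal M of the algebraic integers containing p. Let Q₀ < Q₁ < ⋯ < Q_m be a strictly increasing chain of p-subgroups of the finite group G and N the intersection of their normalizers. Then every block idempotent of N is supported on C_G(Q_m): for every p-block E of N, the idempotent coefficient of E vanishes at every element of N outside C_G(Q_m). -/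
theorem result {G : Type*} [Group G] [Fintype G] (p : ℕ) [Fact p.Prime] (M : Ideal Cfsg.AlgInt) (hM : Cfsg.IsPModular p M) (m : ℕ) (Q : Fin (m + 1) → Subgroup G) (hQ : StrictMono Q) (hQp : ∀ i, IsPGroup p (Q i)) (N : Subgroup G) (hN : ∀ g : G, g ∈ N ↔ ∀ i, g ∈ Subgroup.normalizer (Q i : Set G)) (E : Set (Cfsg.IrrCharacter N)) (hE : Cfsg.IsPBlock M E) (n : N) (hn : (n : G) ∉ Subgroup.centralizer (Q (Fin.last m) : Set G)) : Cfsg.blockCoeff E n = 0 := by
  classical
  have := hM.2.1.isPrime
  by_contra hne
  apply hn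
  have hreg : ¬ p ∣ orderOf n := fun h =>
    hne (CfsgLib.Block.blockCoeff_eq_zero_of_singular hM hE h)
  have hnN : ∀ i, (n : G) ∈ Subgroup.normalizer (Q i : Set G) := (hN n).1 n.2
  have key : ∀ i : Fin (m + 1),
      (n : G) ∈ Subgroup.centralizer ((Q i ⊓ N : Subgroup G) : Set G) := by
    intro i
    set R := (Q i).subgroupOf N with hR
    have hRn : R.Normal := ⟨fun a ha b => by
      have h := (Subgroup.mem_normalizer_iff.1 ((hN b).1 b.2 i) a).1 ha
      rw [hR, Subgroup.mem_subgroupOf]
      simpa using h⟩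
    have := Fintype.ofFinite (Subgroup.centralizer (R : Set N))
    have hc : n ∈ Subgroup.centralizer (R : Set N) := by
      by_contra hnc
      exact hne (CfsgLib.BlockA.blockCoeff_eq_zero_of_supported hM
        (CfsgLib.BlockA.isBlockSupported_centralizer (P := R) hM ((hQp i).comap_subtype)) hE hnc)
    rw [Subgroup.mem_centralizer_iff]
    intro a ha
    exact congrArg Subtype.val (Subgroup.mem_centralizer_iff.1 hc ⟨a, ha.2⟩ ha.1)
  have hz : (Nat.card (Subgroup.zpowers (n : G))).Coprime p := by
    rw [Nat.card_zpowers, Subgroup.orderOf_coe]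
    exact ((hM.1.coprime_iff_not_dvd).2 hreg).symm
  suffices h : ∀ k : ℕ, ∀ i : Fin (m + 1), (i : ℕ) = k →
      (n : G) ∈ Subgroup.centralizer (Q i : Set G) from h m (Fin.last m) rfl
  intro k
  induction k with
  | zero =>
    intro i hi
    have hle : Q i ≤ N := fun a ha => (hN a).2 fun j => by
      have hij : Q i ≤ Q j := hQ.monotone (Fin.le_def.2 (by omega))
      exact Subgroup.le_normalizer (hij ha)
    have h := key i
    rwa [inf_of_le_left hle] at h
  | succ k ih =>
    intro i hi
    have hlt : k < m + 1 := by omega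
    have hprev := ih ⟨k, hlt⟩ rfl
    set P := Q ⟨k, hlt⟩ with hP
    have hPle : P ≤ Q i := hQ.monotone (Fin.le_def.2 (by simp only; omega))
    have hfixN : Q i ⊓ Subgroup.centralizer (P : Set G) ≤ N := fun a ha => (hN a).2 fun j => by
      rcases le_or_gt (i : ℕ) (j : ℕ) with hj | hj
      · exact Subgroup.le_normalizer (hQ.monotone (Fin.le_def.2 hj) ha.1)
      · refine Subgroup.centralizer_le_normalizer _ ?_
        have hjP : Q j ≤ P := hQ.monotone (Fin.le_def.2 (by simp only; omega))
        exact Subgroup.centralizer_le hjP ha.2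
    refine CfsgLib.Comp.le_centralizer_of_centralizes_fixed (hQp i) (hQp ⟨k, hlt⟩) hz
      (hPle.trans Subgroup.le_normalizer) (Subgroup.zpowers_le.2 (hnN i))
      (Subgroup.zpowers_le.2 hprev) (Subgroup.zpowers_le.2 ?_) (Subgroup.mem_zpowers (n : G))
    exact Subgroup.centralizer_le
      (show Q i ⊓ Subgroup.centralizer (P : Set G) ≤ Q i ⊓ N from le_inf inf_le_left hfixN) (key i)

end Cfsg.Agent.S4668
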