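import Cfsg.Statements.S4670
import Cfsg.Agent.Lib.BlockA.BrauerCorr

set_option autoImplicit false
open Cfsg

namespace Cfsg.Agent.S4670

open CfsgLib.BlockA

/-- Fix a prime p and a maximal ideal M of the algebraic integers containing p. Let P be a p-subgroup of the finite group G and H a subgroup containing N_G(P). For every p-block B of G with defect group P there is exactly one p-block c of H with defect group P whose idempotent agrees with that of B, modulo the local ideal at M, at every element of C_G(P) (their Brauer-map images at P coincide); and every p-block c of H with defect group P arises in this way from exactly one such B. This is the Brauer correspondence over H. -/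
theorem result {G : Type*} [Group G] [Fintype G] (p : ℕ) [Fact p.Prime] (M : Ideal Cfsg.AlgInt) (hM : Cfsg.IsPModular p M) (P H : Subgroup G) (hP : IsPGroup p P) (hH : Subgroup.normalizer (P : Set G) ≤ H) : (∀ B : Set (Cfsg.IrrCharacter G), Cfsg.IsPBlock M B → Cfsg.IsDefectGroup p M B P → ∃! c : Set (Cfsg.IrrCharacter H), Cfsg.IsPBlock M c ∧ Cfsg.IsDefectGroup p M c (P.subgroupOf H) ∧ ∀ x : G, x ∈ Subgroup.centralizer (P : Set G) → Cfsg.MemLocalIdeal M (Cfsg.blockCoeff B x - Cfsg.subgroupBlockCoeff H c x)) ∧ (∀ c : Set (Cfsg.IrrCharacter H), Cfsg.IsPBlock M c → Cfsg.IsDefectGroup p M c (P.subgroupOf H) → ∃! B : Set (Cfsg.IrrCharacter G), Cfsg.IsPBlock M B ∧ Cfsg.IsDefectGroup p M B P ∧ ∀ x : G, x ∈ Subgroup.centralizer (P : Set G) → Cfsg.MemLocalIdeal M (Cfsg.blockCoeff B x - Cfsg.subgroupBlockCoeff H c x)) := by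
  have := hM.2.1.isPrime
  have := Fact.mk hM.1
  have hPH : P ≤ H := Subgroup.le_normalizer.trans hH
  have hC : Subgroup.centralizer (P : Set G) ≤ H := (Subgroup.centralizer_le_normalizer _).trans hH
  refine ⟨fun B hB hBD => ?_, fun c hc hcD => ?_⟩
  · obtain ⟨c, hc, hcD, hag⟩ := corr_down hM hH hB hBD
    refine ⟨c, ⟨hc, hcD, hag⟩, fun c' h' => eq_of_trunc_eq hM h'.1 hc h'.2.1 (inclSub_injective H ?_)⟩
    rw [(agree_iff hM hPH hC h'.1 hB).1 h'.2.2, (agree_iff hM hPH hC hc hB).1 hag]
  · obtain ⟨B, hB, hBD, hag⟩ := corr_up hM hP hH hc hcD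
    refine ⟨B, ⟨hB, hBD, hag⟩, fun B' h' => eq_of_trunc_eq hM h'.1 hB h'.2.1 ?_⟩
    rw [← (agree_iff hM hPH hC hc h'.1).1 h'.2.2, ← (agree_iff hM hPH hC hc hB).1 hag]

end Cfsg.Agent.S4670
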