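import Cfsg.Statements.S4672
import Cfsg.Agent.Lib.BlockA.NormalBlock

set_option autoImplicit false
open Cfsg

namespace Cfsg.Agent.S4672

/-- Fix a prime p and a maximal ideal M of the algebraic integers containing p. Let N be a normal subgroup of the finite group G of p-power index and c a p-block of N stable under conjugation by G. Then the idempotent of c is a block idempotent of G: there is a p-block B of G whose idempotent coefficients agree with those of c on N and vanish off N; and for every defect group P of such a block B, G = NP and P ∩ N is a defect group of c. -/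
theorem result {G : Type*} [Group G] [Fintype G] (p : ℕ) [Fact p.Prime] (M : Ideal Cfsg.AlgInt) (hM : Cfsg.IsPModular p M) (N : Subgroup G) [N.Normal] (hN : ∃ k : ℕ, N.index = p ^ k) (c : Set (Cfsg.IrrCharacter N)) (hc : Cfsg.IsPBlock M c) (hst : ∀ x : G, Cfsg.StabilizesBlock N c x) : (∃ B : Set (Cfsg.IrrCharacter G), Cfsg.IsPBlock M B ∧ ∀ g : G, Cfsg.blockCoeff B g = Cfsg.subgroupBlockCoeff N c g) ∧ ∀ B : Set (Cfsg.IrrCharacter G), Cfsg.IsPBlock M B → (∀ g : G, Cfsg.blockCoeff B g = Cfsg.subgroupBlockCoeff N c g) → ∀ P : Subgroup G, Cfsg.IsDefectGroup p M B P → N ⊔ P = ⊤ ∧ Cfsg.IsDefectGroup p M c ((P ⊓ N).subgroupOf N) := by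
  have := hM.2.1.isPrime
  have := Fintype.ofFinite N
  have hsupp := CfsgLib.BlockA.isBlockSupported_of_index (M := M) (N := N) hM hN
  have hcov := CfsgLib.BlockA.coverSet_of_stable hc hst
  constructor
  · obtain ⟨B, hB, hBc⟩ := CfsgLib.BlockA.exists_block_covering hM hsupp hc
    rw [hcov] at hBc
    refine ⟨B, hB, fun g => ?_⟩
    rw [CfsgLib.BlockA.subgroupBlockCoeff_eq_coeff, ← hBc]
    simp [CfsgLib.Block.blockSum]
  · intro B hB hBc P hP
    have hsum : CfsgLib.Block.blockSum B = CfsgLib.Block.inclSub N (CfsgLib.Block.blockSum c) := by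
      ext g
      rw [← CfsgLib.BlockA.subgroupBlockCoeff_eq_coeff, ← hBc g]
      simp [CfsgLib.Block.blockSum]
    obtain ⟨h1, h2⟩ := CfsgLib.BlockA.stable_defect hM hc hst hB hsum hP
    refine ⟨Subgroup.index_eq_one.1 ?_, h2⟩
    obtain ⟨k, hk⟩ := hN
    obtain ⟨j, -, hj⟩ := (Nat.dvd_prime_pow hM.1).1
      (hk ▸ Subgroup.index_dvd_of_le (le_sup_left : N ≤ N ⊔ P))
    cases j with
    | zero => simpa using hj
    | succ j => exact absurd (hj ▸ dvd_pow_self p (Nat.succ_ne_zero j)) h1

end Cfsg.Agent.S4672
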