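import Cfsg.Statements.S4674
import Cfsg.Agent.Lib.BlockA.HarrisKnorr

set_option autoImplicit false
open Cfsg

namespace Cfsg.Agent.S4674

/-- Fix a prime p and a maximal ideal M of the algebraic integers containing p. Let N be a normal subgroup of the finite group G, Q a p-subgroup of N, H = N_G(Q) and L = H ∩ N = N_N(Q). Let d be a p-block of N with defect group Q and e the p-block of L with defect group Q that induces d inside N (its Brauer correspondent). Then block induction from H to G is a bijection from the p-blocks of H covering e onto the p-blocks of G covering d: every block of H covering e induces exactly one block of G, and that block covers d; and every block of G covering d is induced by exactly one block of H covering e. -/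
theorem result {G : Type*} [Group G] [Fintype G] (p : ℕ) [Fact p.Prime] (M : Ideal Cfsg.AlgInt) (hM : Cfsg.IsPModular p M) (N : Subgroup G) [N.Normal] [Fintype N] (Q : Subgroup G) (hQ : IsPGroup p Q) (hQN : Q ≤ N) [Fintype ↥(Subgroup.normalizer (Q : Set G) ⊓ N)] (d : Set (Cfsg.IrrCharacter N)) (hd : Cfsg.IsPBlock M d) (hdQ : Cfsg.IsDefectGroup p M d (Q.subgroupOf N)) (e : Set (Cfsg.IrrCharacter ↥(Subgroup.normalizer (Q : Set G) ⊓ N))) (he : Cfsg.IsPBlock M e) (heQ : Cfsg.IsDefectGroup p M e (Q.subgroupOf (Subgroup.normalizer (Q : Set G) ⊓ N))) (hed : Cfsg.IsInducedBlockIn M N (Subgroup.normalizer (Q : Set G) ⊓ N) e d) : (∀ c : Set (Cfsg.IrrCharacter ↥(Subgroup.normalizer (Q : Set G))), Cfsg.IsPBlock M c → (∃ ψ ∈ c, ∃ ξ ∈ e, Cfsg.classInner (fun l : ↥(Subgroup.normalizer (Q : Set G) ⊓ N) => (ψ : ↥(Subgroup.normalizer (Q : Set G)) → ℂ) (Subgroup.inclusion inf_le_left l)) (ξ : ↥(Subgroup.normalizer (Q : Set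 G) ⊓ N) → ℂ) ≠ 0) → ∃! B : Set (Cfsg.IrrCharacter G), Cfsg.IsInducedBlock M (Subgroup.normalizer (Q : Set G)) c B ∧ (∃ χ ∈ B, ∃ θ ∈ d, Cfsg.classInner (fun n : N => (χ : G → ℂ) n) (θ : N → ℂ) ≠ 0)) ∧ (∀ B : Set (Cfsg.IrrCharacter G), Cfsg.IsPBlock M B → (∃ χ ∈ B, ∃ θ ∈ d, Cfsg.classInner (fun n : N => (χ : G → ℂ) n) (θ : N → ℂ) ≠ 0) → ∃! c : Set (Cfsg.IrrCharacter ↥(Subgroup.normalizer (Q : Set G))), (Cfsg.IsPBlock M c ∧ ∃ ψ ∈ c, ∃ ξ ∈ e, Cfsg.classInner (fun l : ↥(Subgroup.normalizer (Q : Set G) ⊓ N) => (ψ : ↥(Subgroup.normalizer (Q : Set G)) → ℂ) (Subgroup.inclusion inf_le_left l)) (ξ : ↥(Subgroup.normalizer (Q : Set G) ⊓ N) → ℂ) ≠ 0) ∧ Cfsg.IsInducedBlock M (Subgroup.normalizer (Q : Set G)) c B) := by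
  classical
  have := hM.2.1.isPrime
  have := Fintype.ofFinite ↥(Subgroup.normalizer (Q : Set G))
  have := Fintype.ofFinite (N.subgroupOf (Subgroup.normalizer (Q : Set G)))
  set iso := CfsgLib.BlockA.infNormIso (N := N) Q with hiso
  have htr : ∀ (ψ : IrrCharacter ↥(Subgroup.normalizer (Q : Set G)))
      (ξ : IrrCharacter ↥(Subgroup.normalizer (Q : Set G) ⊓ N)),
      classInner (fun n : N.subgroupOf (Subgroup.normalizer (Q : Set G)) =>
          (ψ : ↥(Subgroup.normalizer (Q : Set G)) → ℂ) n)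
        (CfsgLib.BlockA.irrMap iso ξ : N.subgroupOf (Subgroup.normalizer (Q : Set G)) → ℂ) =
      classInner (fun l : ↥(Subgroup.normalizer (Q : Set G) ⊓ N) =>
          (ψ : ↥(Subgroup.normalizer (Q : Set G)) → ℂ) (Subgroup.inclusion inf_le_left l))
        (ξ : ↥(Subgroup.normalizer (Q : Set G) ⊓ N) → ℂ) := by
    intro ψ ξ
    rw [classInner, classInner, Nat.card_congr iso.toEquiv]
    congr 1
    exact Fintype.sum_equiv iso.toEquiv _ _ fun n => by
      rw [CfsgLib.BlockA.irrMap_apply]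
      rfl
  have hiff : ∀ (c : Set (IrrCharacter ↥(Subgroup.normalizer (Q : Set G)))) (B : Set (IrrCharacter G)),
      IsInducedBlock M (Subgroup.normalizer (Q : Set G)) c B →
      ((∃ χ ∈ B, ∃ θ ∈ d, classInner (fun n : N => (χ : G → ℂ) n) (θ : N → ℂ) ≠ 0) ↔
        ∃ ψ ∈ c, ∃ ξ ∈ e, classInner (fun l : ↥(Subgroup.normalizer (Q : Set G) ⊓ N) =>
          (ψ : ↥(Subgroup.normalizer (Q : Set G)) → ℂ) (Subgroup.inclusion inf_le_left l))
        (ξ : ↥(Subgroup.normalizer (Q : Set G) ⊓ N) → ℂ) ≠ 0) := by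
    intro c B h
    rw [CfsgLib.BlockA.corr_covers_iff hM hQ hQN hd hdQ he heQ hed h]
    constructor
    · rintro ⟨ψ, hψ, _, ⟨ξ, hξ, rfl⟩, hne⟩
      rw [htr] at hne
      exact ⟨ψ, hψ, ξ, hξ, hne⟩
    · rintro ⟨ψ, hψ, ξ, hξ, hne⟩
      exact ⟨ψ, hψ, _, ⟨ξ, hξ, rfl⟩, by rwa [htr]⟩
  refine ⟨fun c hc hcov => ?_, fun B hB hcov => ?_⟩
  · obtain ⟨B, hB⟩ := CfsgLib.Block.exists_isInducedBlock_of_normalizer hM hQ Subgroup.le_normalizer
      (Subgroup.centralizer_le_normalizer _) le_rfl hc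
    exact ⟨B, ⟨hB, (hiff c B hB).2 hcov⟩, fun B' hB' =>
      CfsgLib.Block.isInducedBlock_unique _ hB'.1 hB⟩
  · obtain ⟨χ, hχ, θ, hθ, hne⟩ := hcov
    obtain ⟨D, hD, hDN⟩ := CfsgLib.BlockA.exists_defect_inf_eq hM hd hB hχ hθ hne hQN hdQ
    obtain ⟨c, hc⟩ := (CfsgLib.Block.exists_inducing_iff hM hQ Subgroup.le_normalizer
      (Subgroup.centralizer_le_normalizer _) le_rfl hB hD).2
      ⟨1, by rw [CfsgLib.Block.map_conj_one]; exact hDN ▸ inf_le_left⟩
    refine ⟨c, ⟨⟨hc.1, (hiff c B hc).1 ⟨χ, hχ, θ, hθ, hne⟩⟩, hc⟩, ?_⟩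
    rintro c' ⟨⟨hc'b, -⟩, hc'⟩
    obtain ⟨P, hPH, hPN, hcP, hBP, htrP⟩ :=
      CfsgLib.BlockA.corr_injective hM hQ hQN hd hdQ he heQ hed hc ⟨χ, hχ, θ, hθ, hne⟩
    obtain ⟨P', hP'H, hP'N, hc'P', hBP', -⟩ :=
      CfsgLib.BlockA.corr_injective hM hQ hQN hd hdQ he heQ hed hc' ⟨χ, hχ, θ, hθ, hne⟩
    obtain ⟨x, hx⟩ := CfsgLib.Block.defectGroup_exists_conj hM hB hBP' hBP
    have hxH : x ∈ Subgroup.normalizer (Q : Set G) := by
      rw [Subgroup.mem_normalizer_iff_map_conj_eq]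
      refine Subgroup.eq_of_le_of_card_ge ?_ (CfsgLib.Block.natCard_map_conj Q x).ge
      rintro _ ⟨q, hq, rfl⟩
      have h1 : q ∈ P' ⊓ N := hP'N.symm ▸ hq
      exact hPN ▸ (⟨hx ▸ ⟨q, h1.1, rfl⟩, (inferInstance : N.Normal).conj_mem q h1.2 x⟩ :
        (MulAut.conj x).toMonoidHom q ∈ P ⊓ N)
    have hc'P : IsDefectGroup p M c' (P.subgroupOf (Subgroup.normalizer (Q : Set G))) := by
      have h := CfsgLib.Block.defectGroup_conj hM hc'b hc'P' ⟨x, hxH⟩
      convert h using 1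
      ext y
      rw [CfsgLib.Block.mem_map_conj_iff, Subgroup.mem_subgroupOf, Subgroup.mem_subgroupOf, hx,
        CfsgLib.Block.mem_map_conj_iff]
      rfl
    obtain ⟨-, htr'⟩ :=
      CfsgLib.BlockA.corr_defect hM hQ hQN hd hdQ he heQ hed hc' hPH hPN hc'P
    exact CfsgLib.BlockA.eq_of_trunc_eq hM hc'b hc.1 hc'P
      (CfsgLib.BlockA.inclSub_injective _ (htr'.trans htrP.symm))

end Cfsg.Agent.S4674
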