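import Cfsg.Statements.S4675
import Cfsg.Agent.Lib.BlockA.RankOne

set_option autoImplicit false
open Cfsg

namespace Cfsg.Agent.S4675

/-- Fix a prime p and a maximal ideal M of the algebraic integers containing p. Let B be a p-block of the finite group G with defect group P and p-regular rank one (a single irreducible Brauer character). Then there are a function φ on G that is, on the p-regular elements, an integer combination of the members of B, and natural numbers d_χ (χ ∈ B), such that every χ ∈ B agrees with d_χ·φ on the p-regular elements and Σ_{χ ∈ B} d_χ² equals the order of P (the single Cartan invariant of B is the order of P). -/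
theorem result {G : Type*} [Group G] [Fintype G] (p : ℕ) [Fact p.Prime] (M : Ideal Cfsg.AlgInt) (hM : Cfsg.IsPModular p M) (B : Set (Cfsg.IrrCharacter G)) (hB : Cfsg.IsPBlock M B) (P : Subgroup G) (hP : Cfsg.IsDefectGroup p M B P) (hl : Cfsg.blockRank p B = 1) : ∃ φ : G → ℂ, ∃ d : Cfsg.IrrCharacter G → ℕ, (∃ n : Cfsg.IrrCharacter G → ℤ, ∀ x : G, Cfsg.IsPRegular p x → φ x = ∑ᶠ ψ ∈ B, (n ψ : ℂ) * (ψ : G → ℂ) x) ∧ (∀ χ ∈ B, ∀ x : G, Cfsg.IsPRegular p x → (χ : G → ℂ) x = (d χ : ℂ) * φ x) ∧ ∑ᶠ χ ∈ B, d χ ^ 2 = Nat.card P := by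
  classical
  have := hM.2.1.isPrime
  obtain ⟨g, d, hg, hdeg, hsum, n, hn⟩ := CfsgLib.BlockA.rank_one_degrees hM hB hl
  refine ⟨fun x => ∑ ψ ∈ B.toFinite.toFinset, (n ψ : ℂ) * (ψ : G → ℂ) x, d,
    ⟨n, fun x _ => by rw [finsum_mem_eq_finite_toFinset_sum _ B.toFinite]⟩, fun χ hχ x hx => ?_,
    hsum.trans (CfsgLib.Block.natCard_defectGroup hM hB hP).symm⟩
  have hx' : ¬ p ∣ orderOf x := hx
  have hn' : ∑ ψ ∈ B.toFinite.toFinset, (n ψ : ℂ) * (d ψ : ℂ) = 1 := by exact_mod_cast hn
  calc (χ : G → ℂ) x = (χ : G → ℂ) x * ∑ ψ ∈ B.toFinite.toFinset, (n ψ : ℂ) * (d ψ : ℂ) := by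
        rw [hn', mul_one]
    _ = _ := by
        rw [Finset.mul_sum, Finset.mul_sum]
        refine Finset.sum_congr rfl fun ψ hψ => ?_
        have hψB := B.toFinite.mem_toFinset.1 hψ
        have h := CfsgLib.BlockA.proportional_of_rank_one hl hχ hψB hx'
        rw [CfsgLib.Block.charDegree_spec (CfsgLib.Char.irr_isCharacter χ.2),
          CfsgLib.Block.charDegree_spec (CfsgLib.Char.irr_isCharacter ψ.2), hdeg χ hχ,
          hdeg ψ hψB] at h
        push_cast at h
        have hg' : (g : ℂ) ≠ 0 := Nat.cast_ne_zero.2 hg.ne'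
        refine mul_left_cancel₀ hg' ?_
        linear_combination (n ψ : ℂ) * h

end Cfsg.Agent.S4675
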