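import Cfsg.Statements.S4682
import Cfsg.Agent.Lib.BlockA.BlockNilp

set_option autoImplicit false
open Cfsg

namespace Cfsg.Agent.S4682

open CfsgLib.BlockA

/-- Fix a prime p and a maximal ideal M of the algebraic integers containing p, a p-block B of the finite group G with maximal Brauer pair (P, e), P abelian, and a Brauer pair (Q, f) ≤ (P, e). Let T_Q be the stabilizer of f in N_G(Q) and T_P the stabilizer of e in N_G(P). Then every element of T_Q is a product of an element of T_P and an element of C_G(Q); and the index of C_G(Q) in T_Q equals the index of T_P ∩ C_G(Q) in T_P ∩ N_G(Q). -/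
theorem result {G : Type*} [Group G] [Fintype G] (p : ℕ) [Fact p.Prime] (M : Ideal Cfsg.AlgInt) (hM : Cfsg.IsPModular p M) (B : Set (Cfsg.IrrCharacter G)) (P : Subgroup G) (e : Set (Cfsg.IrrCharacter (Subgroup.centralizer (P : Set G)))) (hmax : Cfsg.IsMaximalBrauerPair p M B P e) (hab : ∀ x ∈ P, ∀ y ∈ P, x * y = y * x) (Q : Subgroup G) (f : Set (Cfsg.IrrCharacter (Subgroup.centralizer (Q : Set G)))) (hQP : Q ≤ P) (hf : Cfsg.IsPBlock M f) (hle : Cfsg.SubpairLE p M Q f P e) (TQ : Subgroup G) (hTQ : ∀ y : G, y ∈ TQ ↔ y ∈ Subgroup.normalizer (Q : Set G) ∧ Cfsg.StabilizesBlock (Subgroup.centralizer (Q : Set G)) f y) (TP : Subgroup G) (hTP : ∀ y : G, y ∈ TP ↔ y ∈ Subgroup.normalizer (P : Set G) ∧ Cfsg.StabilizesBlock (Subgroup.centralizer (P : Set G)) e y) : (∀ x ∈ TQ, ∃ y ∈ TP, ∃ c ∈ Subgroup.centralizer (Q : Set G), x = y * c) ∧ ((Subgroup.centralizer (Q : Set G)).subgroupOf TQ).index = ((TP ⊓ Subgroup.centralizer (Q : Set G)).subgroupOf (TP ⊓ Subgroup.normalizer (Q : Set G))).index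 := by
  have := hM.2.1.isPrime
  have he := hmax.1.1
  obtain rfl := eq_pairStab hM hf hTQ
  obtain rfl := eq_pairStab hM he.2 hTP
  have hCN : (Subgroup.centralizer (Q : Set G)) ≤ Subgroup.normalizer (Q : Set G) := Subgroup.centralizer_le_normalizer _
  have hCT : (Subgroup.centralizer (Q : Set G)) ≤ pairStab M Q f := centralizer_le_pairStab (M := M) Q f
  have h1 : ∀ x ∈ pairStab M Q f, ∃ y ∈ pairStab M P e, ∃ c ∈ (Subgroup.centralizer (Q : Set G)), x = y * c := by
    intro x hx
    obtain ⟨c, hc, hcx⟩ := exists_mem_stab_of_abelian hM hmax hab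
      (isFus_of_mem_pairStab hM he hle hx)
    rw [map_conj_of_mem_normalizer hx.1] at hc
    refine ⟨c * x, hcx, x⁻¹ * c⁻¹ * x, ?_, by group⟩
    have h := (Subgroup.mem_normalizer_iff''.1
      (normalizer_le_normalizer_centralizer hM Q hx.1) c⁻¹).1 (inv_mem hc)
    exact h
  refine ⟨h1, ?_⟩
  set A := pairStab M P e ⊓ Subgroup.normalizer (Q : Set G) with hA
  have hAT : A ≤ pairStab M Q f := by
    intro t ht
    refine mem_pairStab_of_fus hM he hle ?_ ht.2
    have h := subpairLE_conj hM hle t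
    have e1 := conjIdx_eq_of_mem hM he.2 ht.1
    have h' : Cfsg.SubpairLE p M (Q.map (MulAut.conj t).toMonoidHom) (conjBlock Q t f) P e := by
      unfold Cfsg.SubpairLE at h ⊢
      rwa [← e1]
    exact ⟨subpairLE_le h', f, hle, h'⟩
  have hsup : A.subgroupOf (pairStab M Q f) ⊔ (Subgroup.centralizer (Q : Set G)).subgroupOf (pairStab M Q f) = ⊤ := by
    refine eq_top_iff.2 fun x _ => ?_
    obtain ⟨y, hy, c, hc, hxy⟩ := h1 x x.2
    have hyA : y ∈ A := ⟨hy, by
      have : y = (x : G) * c⁻¹ := by rw [hxy]; group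
      rw [this]
      exact mul_mem x.2.1 (hCN (inv_mem hc))⟩
    have hx : x = ⟨y, hAT hyA⟩ * ⟨c, hCT hc⟩ := Subtype.ext hxy
    rw [hx]
    exact Subgroup.mul_mem_sup hyA hc
  have hn : ((Subgroup.centralizer (Q : Set G)).subgroupOf (pairStab M Q f)).Normal := ⟨fun c hc t =>
    (Subgroup.mem_normalizer_iff.1
      (normalizer_le_normalizer_centralizer hM Q t.2.1) _).1 hc⟩
  have hinf : (Subgroup.centralizer (Q : Set G)) ⊓ A = pairStab M P e ⊓ (Subgroup.centralizer (Q : Set G)) := le_antisymm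
    (le_inf (inf_le_right.trans inf_le_left) inf_le_left)
    (le_inf inf_le_right (le_inf inf_le_left (inf_le_right.trans hCN)))
  change ((Subgroup.centralizer (Q : Set G)).subgroupOf (pairStab M Q f)).index = (pairStab M P e ⊓ (Subgroup.centralizer (Q : Set G))).relIndex A
  rw [← hinf, Subgroup.inf_relIndex_right, ← Subgroup.relIndex_subgroupOf hAT,
    ← Subgroup.relIndex_sup_right, hsup, Subgroup.relIndex_top_right]

end Cfsg.Agent.S4682
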