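import Cfsg.Statements.S4685
import Cfsg.Agent.Lib.BlockB.StarOrbits

set_option autoImplicit false
open Cfsg

namespace Cfsg.Agent.S4685

/-- Fix a prime p and a maximal ideal M of the algebraic integers containing p, a p-block B of the finite group G with maximal Brauer pair (P, e) and fusion system F on P. Then for every h the number of irreducible characters of height h in B is divisible by the index of Z(P) ∩ foc(F) in Z(P), where foc(F) is the focal subgroup of F. -/
theorem result {G : Type*} [Group G] [Fintype G] (p : ℕ) [Fact p.Prime] (M : Ideal Cfsg.AlgInt) (hM : Cfsg.IsPModular p M) (B : Set (Cfsg.IrrCharacter G)) (P : Subgroup G) (e : Set (Cfsg.IrrCharacter (Subgroup.centralizer (P : Set G)))) (hmax : Cfsg.IsMaximalBrauerPair p M B P e) (F : Cfsg.FusionSystem P) (hF : Cfsg.IsBlockFusionSystemOn p M B P e F) (h : ℕ) : ((P ⊓ Subgroup.centralizer (P : Set G) ⊓ F.focalSubgroup).subgroupOf (P ⊓ Subgroup.centralizer (P : Set G))).index ∣ Nat.card {χ : Cfsg.IrrCharacter G // χ ∈ B ∧ Cfsg.blockHeight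 p B (χ : G → ℂ) = h} := by
  classical
  have := CfsgLib.Block.isPrime_of_pmodular hM
  have hN : (F.focalSubgroup.subgroupOf P).Normal :=
    CfsgLib.BlockB.Star.focal_normal F
  set C := P ⊓ Subgroup.centralizer (P : Set G) with hC
  set Z : Subgroup P := C.subgroupOf P
  have hd := CfsgLib.BlockB.Star.dvd_card_height hM hF h Z
    (fun χ hχ _ y hy lam hlam hfix => CfsgLib.BlockB.Star.eq_one_of_fixed_central hM hmax hχ y
      (fun w hw => Subgroup.mem_centralizer_iff.1 (Subgroup.mem_subgroupOf.1 hy).2 w hw) hlam hfix)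
  convert hd using 1
  set N := F.focalSubgroup.subgroupOf P
  let eZ : Z ≃* C := Subgroup.subgroupOfEquivOfLe inf_le_left
  let f : C →* P ⧸ N := ((QuotientGroup.mk' N).comp Z.subtype).comp eZ.symm.toMonoidHom
  have hker : f.ker = (C ⊓ F.focalSubgroup).subgroupOf C := by
    ext c
    rw [MonoidHom.mem_ker, Subgroup.mem_subgroupOf, Subgroup.mem_inf]
    show QuotientGroup.mk' N _ = 1 ↔ _
    rw [QuotientGroup.mk'_apply, QuotientGroup.eq_one_iff, Subgroup.mem_subgroupOf]
    exact ⟨fun h => ⟨c.2, h⟩, fun h => h.2⟩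
  have hrange : f.range = Z.map (QuotientGroup.mk' N) := by
    ext t
    constructor
    · rintro ⟨c, rfl⟩
      exact ⟨(eZ.symm c : Z), (eZ.symm c).2, rfl⟩
    · rintro ⟨y, hy, rfl⟩
      exact ⟨eZ ⟨y, hy⟩, by simp [f]⟩
  rw [← hker, Subgroup.index_ker, hrange]

end Cfsg.Agent.S4685
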