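import Cfsg.Statements.S4689
import Cfsg.Agent.Lib.BlockB.StarNilpotent

set_option autoImplicit false
open Cfsg

namespace Cfsg.Agent.S4689

/-- Fix a prime p and a maximal ideal M of the algebraic integers containing p, and a nilpotent p-block B of the finite group G. Then B has p-regular rank one (a single irreducible Brauer character), and some χ₀ ∈ B restricts to that Brauer character: every χ ∈ B agrees on the p-regular elements with a natural-number multiple of χ₀. -/
theorem result {G : Type*} [Group G] [Fintype G] (p : ℕ) [Fact p.Prime] (M : Ideal Cfsg.AlgInt) (hM : Cfsg.IsPModular p M) (B : Set (Cfsg.IrrCharacter G)) (hnil : Cfsg.IsNilpotentBlock p M B) : Cfsg.blockRank p B = 1 ∧ ∃ χ₀ ∈ B, ∀ χ ∈ B, ∃ d : ℕ, ∀ x : G, Cfsg.pRegularPart p (χ : G → ℂ) x = (d : ℂ) * Cfsg.pRegularPart p (χ₀ : G → ℂ) x := by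
  classical
  have := CfsgLib.Block.isPrime_of_pmodular hM
  have hB := hnil.1
  obtain ⟨P, hP⟩ := CfsgLib.Block.exists_isDefectGroup hM hB
  obtain ⟨e, hmax⟩ := CfsgLib.BlockA.DefectOneStar.exists_maximal_pair hM hB hP
  obtain ⟨χ₀, hχ₀, h0⟩ := CfsgLib.Block.exists_height_zero hM hB
  obtain ⟨Φ, hΦ⟩ := CfsgLib.BlockB.Star.exists_bijection hM hmax hnil hχ₀ h0
  have key : ∀ χ ∈ B, ∃ d : ℕ,
      pRegularPart p (χ : G → ℂ) = (d : ℂ) • pRegularPart p (χ₀ : G → ℂ) := by
    intro χ hχ
    obtain ⟨ζ, hζ⟩ := Φ.surjective ⟨χ, hχ⟩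
    refine ⟨charDegree (ζ : P → ℂ), funext fun g => ?_⟩
    have h := (hΦ ζ).2 g
    rw [hζ] at h
    rw [Pi.smul_apply, smul_eq_mul]
    unfold pRegularPart
    by_cases hg : IsPRegular p g
    · rw [if_pos hg, if_pos hg]; exact h hg
    · rw [if_neg hg, if_neg hg, mul_zero]
  refine ⟨?_, χ₀, hχ₀, fun χ hχ => ?_⟩
  · have hne : pRegularPart p (χ₀ : G → ℂ) ≠ 0 := by
      intro h
      have h1 := congrFun h 1
      have hreg : IsPRegular p (1 : G) := by
        rw [IsPRegular, orderOf_one]; exact hM.1.not_dvd_one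
      unfold pRegularPart at h1
      rw [if_pos hreg] at h1
      exact CfsgLib.Char.irr_apply_one_ne_zero χ₀.2 h1
    have hspan : Submodule.span ℂ
        ((fun χ : IrrCharacter G => pRegularPart p (χ : G → ℂ)) '' B) =
        Submodule.span ℂ {pRegularPart p (χ₀ : G → ℂ)} := by
      refine le_antisymm (Submodule.span_le.2 ?_) (Submodule.span_mono ?_)
      · rintro _ ⟨χ, hχ, rfl⟩
        obtain ⟨d, hd⟩ := key χ hχ
        exact Submodule.mem_span_singleton.2 ⟨d, hd.symm⟩
      · rintro _ rfl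
        exact ⟨χ₀, hχ₀, rfl⟩
    rw [blockRank, hspan]
    exact finrank_span_singleton hne
  · obtain ⟨d, hd⟩ := key χ hχ
    exact ⟨d, fun x => congrFun hd x⟩

end Cfsg.Agent.S4689
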