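import Cfsg.Statements.S4691
import Cfsg.Agent.Lib.BlockA.BrauerMax
import Cfsg.Agent.Lib.Transfer.Frobenius

set_option autoImplicit false
open Cfsg

namespace Cfsg.Agent.S4691

/-- Fix a prime p and a maximal ideal M of the algebraic integers containing p. A finite group G has a normal p-complement if and only if its principal p-block is nilpotent. -/
theorem result {G : Type*} [Group G] [Fintype G] (p : ℕ) [Fact p.Prime] (M : Ideal Cfsg.AlgInt) (hM : Cfsg.IsPModular p M) : Cfsg.HasNormalPComplement p G ↔ Cfsg.IsNilpotentBlock p M (Cfsg.principalBlock M G) := by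
  have := hM.2.1.isPrime
  have hp : p.Prime := Fact.out
  rw [CfsgLib.Transfer.hasNormalPComplement_iff_frobenius]
  constructor
  · intro h
    refine ⟨CfsgLib.Block.isPBlock_principalBlock, fun Q e he x hx _ hreg => h Q he.1.1 x hx ?_⟩
    exact ((hp.coprime_iff_not_dvd).2 hreg).symm
  · intro h D hD x hx hxp
    refine h.2 D _ (CfsgLib.BlockA.isBrauerPairOf_principal hM hD) x hx ?_ ?_
    · exact (CfsgLib.BlockA.stabilizesBlock_iff CfsgLib.Block.isPBlock_principalBlock x).2
        ⟨CfsgLib.BlockA.normalizer_le_normalizer_centralizer hM D hx,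
          CfsgLib.BlockA.blockMap_principalBlock _⟩
    · exact (hp.coprime_iff_not_dvd).1 hxp.symm

end Cfsg.Agent.S4691
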