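import Cfsg.Statements.S4694
import Cfsg.Agent.Lib.BlockA.WeightCen
import Cfsg.Agent.Lib.BlockA.PairNorm
import Cfsg.Agent.Lib.Block.Transport

set_option autoImplicit false
open Cfsg

namespace Cfsg.Agent.S4694

/-- Fix a prime p and a maximal ideal M of the algebraic integers containing p, a p-block B of the finite group G and a Brauer pair (Q, e) of B. Let T be the stabilizer of e in N_G(Q) and suppose that (Q, e) carries a weight: the block of T whose idempotent is that of e contains an irreducible character χ that is constant on the cosets of Q and whose degree has p-part equal to the p-part of the index of Q in T. Then Z(Q) is a defect group of e as a block of C_G(Q), and Q is the largest normal p-subgroup of T: every p-subgroup of T normalized by T lies in Q. -/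
theorem result {G : Type*} [Group G] [Fintype G] (p : ℕ) [Fact p.Prime] (M : Ideal Cfsg.AlgInt) (hM : Cfsg.IsPModular p M) (B : Set (Cfsg.IrrCharacter G)) (Q : Subgroup G) (e : Set (Cfsg.IrrCharacter (Subgroup.centralizer (Q : Set G)))) (hQe : Cfsg.IsBrauerPairOf p M B Q e) (T : Subgroup G) (hT : ∀ y : G, y ∈ T ↔ y ∈ Subgroup.normalizer (Q : Set G) ∧ Cfsg.StabilizesBlock (Subgroup.centralizer (Q : Set G)) e y) (F' : Set (Cfsg.IrrCharacter T)) (hF' : Cfsg.IsPBlock M F') (hF'e : ∀ t : T, Cfsg.blockCoeff F' t = Cfsg.subgroupBlockCoeff (Subgroup.centralizer (Q : Set G)) e (t : G)) (χ : Cfsg.IrrCharacter T) (hχ : χ ∈ F') (hχQ : ∀ q : G, q ∈ Q → ∀ t : T, ∀ t' : T, (t' : G) = q * (t : G) → (χ : T → ℂ) t' = (χ : T → ℂ) t) (hdeg : (Cfsg.charDegree (χ : T → ℂ)).factorization p + (Nat.card Q).factorization p = (Nat.card T).factorization p) : Cfsg.IsDefectGroup p M e ((Q ⊓ Subgroup.centralizer (Q : Set G)).subgroupOf (Subgroup.centralizer (Q : Set G))) ∧ ∀ R : Subgroup G, R ≤ T →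 IsPGroup p R → (∀ t ∈ T, t ∈ Subgroup.normalizer (R : Set G)) → R ≤ Q := by
  classical
  have := hM.2.1.isPrime
  have hp : p.Prime := Fact.out
  have he : IsPBlock M e := hQe.1.2
  have hQp : IsPGroup p Q := hQe.1.1
  have := Fintype.ofFinite (Subgroup.centralizer (Q : Set G))
  have := Fintype.ofFinite T
  have hTN : ∀ y ∈ T, y ∈ Subgroup.normalizer (Q : Set G) := fun y hy => ((hT y).1 hy).1
  have hCn : ∀ y ∈ (Subgroup.centralizer (Q : Set G)), y ∈ Subgroup.normalizer ((Subgroup.centralizer (Q : Set G)) : Set G) := fun y hy => Subgroup.le_normalizer hy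
  have hCT : (Subgroup.centralizer (Q : Set G)) ≤ T := fun c hc => (hT c).2 ⟨Subgroup.centralizer_le_normalizer _ hc,
    hCn c hc, fun ξ hξ => ⟨ξ, hξ, fun k k' hk => by
      rw [show k' = ⟨c, hc⟩ * k * ⟨c, hc⟩⁻¹ from Subtype.ext hk]
      exact CfsgLib.Char.irr_isClassFunction ξ.2 k ⟨c, hc⟩⟩⟩
  have hQT : Q ≤ T := fun q hq => by
    have hfix : ∀ k : (Subgroup.centralizer (Q : Set G)), q * (k : G) * q⁻¹ = k := fun k => by
      rw [Subgroup.mem_centralizer_iff.1 k.2 q hq, mul_inv_cancel_right]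
    refine (hT q).2 ⟨Subgroup.le_normalizer hq, ?_, fun ξ hξ => ⟨ξ, hξ, fun k k' hk =>
      congrArg (ξ : (Subgroup.centralizer (Q : Set G)) → ℂ) (Subtype.ext (by rw [hk, hfix]))⟩⟩
    refine Subgroup.mem_normalizer_iff.2 fun k => ⟨fun hk => ?_, fun hk => ?_⟩
    · rw [hfix ⟨k, hk⟩]; exact hk
    · have h := Subgroup.mem_centralizer_iff.1 hk q hq
      rw [← mul_right_inj q, ← mul_left_inj q⁻¹] at h
      have hk2 : q * k * q⁻¹ = k := by
        have h2 := Subgroup.mem_centralizer_iff.1 hk q hq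
        calc q * k * q⁻¹ = q⁻¹ * (q * (q * k * q⁻¹)) := by group
          _ = q⁻¹ * ((q * k * q⁻¹) * q) := by rw [h2]
          _ = k := by group
      rwa [hk2] at hk
  set C' := (Subgroup.centralizer (Q : Set G)).subgroupOf T with hC'
  set Q' := Q.subgroupOf T with hQ'
  have := Fintype.ofFinite C'
  have hQ'n : Q'.Normal := ⟨fun q hq t =>
    (Subgroup.mem_normalizer_iff.1 (hTN t t.2) q).1 hq⟩
  have hC'n : C'.Normal := by
    refine ⟨fun c hc t => ?_⟩
    show ((t * c * t⁻¹ : T) : G) ∈ (Subgroup.centralizer (Q : Set G))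
    rw [Subgroup.mem_centralizer_iff]
    intro q hq
    have h1 : (t : G)⁻¹ * q * t ∈ (Q : Set G) :=
      (Subgroup.mem_normalizer_iff''.1 (hTN t t.2) q).1 hq
    have h2 := Subgroup.mem_centralizer_iff.1 hc _ h1
    push_cast
    calc q * ((t : G) * c * (t : G)⁻¹) = t * (((t : G)⁻¹ * q * t) * c) * (t : G)⁻¹ := by group
      _ = t * ((c : G) * ((t : G)⁻¹ * q * t)) * (t : G)⁻¹ := by
        rw [show ((t : G)⁻¹ * q * t) * (c : G) = (c : G) * ((t : G)⁻¹ * q * t) from h2]
      _ = _ := by group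
  set iso := Subgroup.subgroupOfEquivOfLe hCT with hiso
  set e' := CfsgLib.BlockA.blockMap iso e with he'
  have hcoef : (CfsgLib.Block.blkIdem M F' : MonoidAlgebra (CfsgLib.Block.kres M) T) =
      CfsgLib.BlockA.sIdem M C' e' := by
    ext t
    rw [CfsgLib.Block.coeff_blkIdem, hF'e]
    by_cases ht : (t : G) ∈ (Subgroup.centralizer (Q : Set G))
    · obtain ⟨t', rfl⟩ : ∃ t' : C', (t' : T) = t := ⟨⟨t, ht⟩, rfl⟩
      rw [CfsgLib.BlockA.subgroupBlockCoeff_eq_coeff,
        show ((t' : T) : G) = ((⟨((t' : T) : G), ht⟩ : (Subgroup.centralizer (Q : Set G))) : G) from rfl, CfsgLib.Block.coeff_inclSub_of_mem,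
        CfsgLib.BlockA.sIdem,
        CfsgLib.Block.coeff_inclSub_of_mem, CfsgLib.Block.coeff_blkIdem, he',
        CfsgLib.BlockA.blockCoeff_blockMap]
      simp [CfsgLib.Block.blockSum]
      rfl
    · rw [CfsgLib.BlockA.subgroupBlockCoeff_eq_coeff,
        CfsgLib.Block.coeff_inclSub_of_not_mem _ _ ht, CfsgLib.Block.redC_zero]
      exact (CfsgLib.BlockA.coeff_sIdem_of_not_mem _
        (show t ∉ C' from fun h => ht h)).symm
  have htriv : ∀ z ∈ Q', (χ : T → ℂ) z = (χ : T → ℂ) 1 := fun z hz =>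
    hχQ _ hz 1 z (by simp)
  have hQ'c : Nat.card Q' = Nat.card Q := Nat.card_congr (Subgroup.subgroupOfEquivOfLe hQT).toEquiv
  rw [← hQ'c] at hdeg
  refine ⟨?_, fun R hRT hR hRn => ?_⟩
  · have hd := CfsgLib.BlockA.blockDefect_of_weight hM (Q := Q') (C := C') hQp.comap_subtype
      (fun q hq c hc => Subtype.ext (Subgroup.mem_centralizer_iff.1 hc q hq)) htriv hdeg hF' hχ
      (CfsgLib.BlockA.isPBlock_blockMap iso he) hcoef
    rw [CfsgLib.BlockA.blockDefect_blockMap] at hd
    obtain ⟨D, hD⟩ := CfsgLib.Block.exists_isDefectGroup hM he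
    set Z := (Q ⊓ (Subgroup.centralizer (Q : Set G))).subgroupOf (Subgroup.centralizer (Q : Set G)) with hZ
    have hZn : Z.Normal := ⟨fun z hz c => by
      have h1 : (c : (Subgroup.centralizer (Q : Set G))) * z * c⁻¹ = z := by
        apply Subtype.ext
        push_cast
        have h : (z : G) * (c : G) = (c : G) * (z : G) := Subgroup.mem_centralizer_iff.1 c.2 _ hz.1
        rw [← h, mul_inv_cancel_right]
      rwa [h1]⟩
    have hZp : IsPGroup p Z := (hQp.to_le inf_le_left).comap_subtype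
    have hle := CfsgLib.Block.normal_le_defectGroup hM hZp he hD
    have hcard : Nat.card (Q' ⊓ C' : Subgroup T) = Nat.card (Q ⊓ (Subgroup.centralizer (Q : Set G)) : Subgroup G) := by
      rw [← Nat.card_congr (Subgroup.subgroupOfEquivOfLe
        (inf_le_left.trans hQT : Q ⊓ (Subgroup.centralizer (Q : Set G)) ≤ T)).toEquiv]
      congr 1
    rw [show Z = D from Subgroup.eq_of_le_of_card_ge hle (le_of_eq ?_)]
    · exact hD
    · obtain ⟨k, hk⟩ := IsPGroup.iff_card.1 (hQp.to_le (inf_le_left : Q ⊓ (Subgroup.centralizer (Q : Set G)) ≤ Q))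
      rw [CfsgLib.Block.natCard_defectGroup hM he hD, hd, hcard, hk, hp.factorization_pow,
        Finsupp.single_eq_same, hZ, Nat.card_congr (Subgroup.subgroupOfEquivOfLe inf_le_right).toEquiv,
        hk]
  · have hRn' : (R.subgroupOf T).Normal := ⟨fun r hr t =>
      (Subgroup.mem_normalizer_iff.1 (hRn t t.2) r).1 hr⟩
    intro r hr
    exact CfsgLib.BlockA.le_of_weight (Q := Q') (R := R.subgroupOf T) χ htriv hdeg hR.comap_subtype
      (show (⟨r, hRT hr⟩ : T) ∈ R.subgroupOf T from hr)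

end Cfsg.Agent.S4694
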