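import Cfsg.Statements.S4696
import Cfsg.Agent.Lib.Block.CyclicCount

set_option autoImplicit false
open Cfsg

namespace Cfsg.Agent.S4696

/-- Let p be a prime, M a maximal ideal of the algebraic integers containing p, and B a p-block of the finite group G whose defect group D is cyclic of order p^a with a ≥ 1. Let C = C_G(D), let b be a block of C inducing B, let T be the stabilizer of b in N_G(D) (the elements g of N_G(D) such that the g-conjugate of every member of b is again in b), and let e be the index of C in T (the inertial index of B). Then e divides p − 1, every irreducible character in B has height zero, and B is the disjoint union of a set X of e characters and a set Y of (p^a − 1)/e characters, the members of Y agreeing on p-regular elements, for which there are signs δ_χ = ±1 (χ ∈ X) and δ₀ = ±1 such that: for every ψ ∈ Y and every p-regular g, δ₀ ψ(g) + Σ_{χ ∈ X}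 δ_χ χ(g) = 0; for all χ, χ' ∈ X the integers δ_χ χ(1) and δ_χ' χ'(1) are congruent modulo p^a; and for ψ ∈ Y and χ ∈ X, ψ(1) ≡ −e δ₀ δ_χ χ(1) modulo p^a. -/
theorem result {G : Type*} [Group G] [Finite G] (p : ℕ) [Fact p.Prime] (M : Ideal Cfsg.AlgInt) (hM : Cfsg.IsPModular p M) (D : Subgroup G) (hD : IsCyclic D) (a : ℕ) (ha : 1 ≤ a) (hDa : Nat.card D = p ^ a) (B : Set (Cfsg.IrrCharacter G)) (hB : Cfsg.IsPBlock M B) (hBD : Cfsg.IsDefectGroup p M B D) (b : Set (Cfsg.IrrCharacter (Subgroup.centralizer (D : Set G)))) (hind : Cfsg.IsInducedBlock M (Subgroup.centralizer (D : Set G)) b B) (T : Subgroup G) (hT : ∀ g : G, g ∈ T ↔ (g ∈ Subgroup.normalizer (D : Set G) ∧ ∀ θ ∈ b, ∀ θ' : Cfsg.IrrCharacter (Subgroup.centralizer (D : Set G)), (∀ h h' : Subgroup.centralizer (D : Set G), (h' : G) = g * h * g⁻¹ → (θ' : Subgroup.centralizer (D : Set G) → ℂ) h' = (θ : Subgroup.centralizer (D : Set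 G) → ℂ) h) → θ' ∈ b)) (e : ℕ) (he : (Subgroup.centralizer (D : Set G)).relIndex T = e) : e ∣ p - 1 ∧ (∀ χ ∈ B, Cfsg.blockHeight p B (χ : G → ℂ) = 0) ∧ ∃ X Y : Set (Cfsg.IrrCharacter G), B = X ∪ Y ∧ Disjoint X Y ∧ Nat.card X = e ∧ Nat.card Y = (p ^ a - 1) / e ∧ (∀ ψ ∈ Y, ∀ ψ' ∈ Y, ∀ g : G, ¬ p ∣ orderOf g → (ψ : G → ℂ) g = (ψ' : G → ℂ) g) ∧ ∃ (δ : Cfsg.IrrCharacter G → ℤ) (δ₀ : ℤ), (∀ χ ∈ X, δ χ = 1 ∨ δ χ = -1) ∧ (δ₀ = 1 ∨ δ₀ = -1) ∧ (∀ ψ ∈ Y, ∀ g : G, ¬ p ∣ orderOf g → (δ₀ : ℂ) * (ψ : G → ℂ) g + ∑ᶠ χ ∈ X, (δ χ : ℂ) * (χ : G → ℂ) g = 0) ∧ (∀ χ ∈ X, ∀ χ' ∈ X, δ χ * (Cfsg.charDegree (χ : G → ℂ) : ℤ) ≡ δ χ' * (Cfsg.charDegree (χ' : G → ℂ) : ℤ) [ZMOD (p : ℤ) ^ a]) ∧ (∀ ψ ∈ Y, ∀ χ ∈ X, (Cfsg.charDegree (ψ : G → ℂ) : ℤ) ≡ -((e : ℤ) * δ₀ * δ χ * (Cfsg.charDegree (χ : G → ℂ) : ℤ)) [ZMOD (p : ℤ) ^ a]) := by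
  classical
  have := Fintype.ofFinite G
  have : M.IsPrime := hM.2.1.isPrime
  obtain ⟨S, rfl, rfl, rfl, rfl⟩ := CfsgLib.Block.exists_cycBlock hM hBD hD ha hDa hind
  obtain rfl : T = S.T := S.T_eq_of_forall hT
  obtain rfl : e = S.e := he.symm
  refine ⟨S.e_dvd, fun χ hχ => S.height_eq_zero hχ, ?_⟩
  obtain ⟨t, -, ht⟩ := S.exists_t
  obtain ⟨-, hk⟩ := S.counts ht
  have htdiv : (p ^ S.a - 1) / S.e = t := by rw [← ht, Nat.mul_div_cancel _ S.e_pos]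
  rw [htdiv]
  by_cases he1 : S.e = 1
  · obtain ⟨χ₀, hχ₀⟩ := CfsgLib.Block.isPBlock_nonempty S.isPBlock_B
    have heq : ∀ φ ∈ S.B, ∀ y : G, ¬ p ∣ orderOf y → (φ : G → ℂ) y = (χ₀ : G → ℂ) y :=
      fun φ hφ y hy => S.regular_eq_of_e_eq_one he1 hφ hχ₀ hy
    have hdeg : ∀ φ ∈ S.B, Cfsg.charDegree (φ : G → ℂ) = Cfsg.charDegree (χ₀ : G → ℂ) :=
      fun φ hφ => by
        unfold Cfsg.charDegree
        rw [heq φ hφ 1 (by rw [orderOf_one]; exact (Fact.out : p.Prime).not_dvd_one)]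
    refine ⟨{χ₀}, S.B \ {χ₀}, ?_, Set.disjoint_sdiff_right, ?_, ?_, fun ψ hψ ψ' hψ' g hg =>
      (heq ψ hψ.1 g hg).trans (heq ψ' hψ'.1 g hg).symm, fun _ => 1, -1, fun _ _ => Or.inl rfl,
      Or.inr rfl, fun ψ hψ g hg => ?_, fun χ hχ χ' hχ' => ?_, fun ψ hψ χ hχ => ?_⟩
    · rw [Set.union_diff_cancel (Set.singleton_subset_iff.2 hχ₀)]
    · rw [Nat.card_coe_set_eq, Set.ncard_singleton, he1]
    · rw [Nat.card_coe_set_eq, Set.ncard_diff_singleton_of_mem hχ₀, ← Nat.card_coe_set_eq, hk, he1]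
      omega
    · rw [finsum_mem_singleton, heq ψ hψ.1 g hg]
      push_cast
      ring
    · rw [Set.mem_singleton_iff] at hχ hχ'
      rw [hχ, hχ']
    · rw [Set.mem_singleton_iff] at hχ
      rw [hχ, hdeg ψ hψ.1, he1]
      push_cast
      ring_nf
      rfl
  have hp2 : p ≠ 2 := fun h => he1 (S.eq_two_of_even h)
  obtain ⟨R⟩ := S.nonempty_signedRows hp2
  have hone : ¬ p ∣ orderOf (1 : G) := by rw [orderOf_one]; exact (Fact.out : p.Prime).not_dvd_one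
  have hfin : ∀ f : Cfsg.IrrCharacter G → ℂ,
      ∑ᶠ χ ∈ (↑R.X : Set (Cfsg.IrrCharacter G)), f χ = ∑ χ ∈ R.X, f χ :=
    fun f => finsum_mem_coe_finset f R.X
  have hcongr : ∀ χ ∈ R.X, ∀ χ' ∈ R.X, R.δ χ * (Cfsg.charDegree (χ : G → ℂ) : ℤ) ≡
      R.δ χ' * (Cfsg.charDegree (χ' : G → ℂ) : ℤ) [ZMOD (p : ℤ) ^ S.a] := by
    intro χ hχ χ' hχ'
    rcases eq_or_ne χ χ' with rfl | hne
    · rfl
    let w : Cfsg.IrrCharacter G → ℤ := fun φ =>
      if φ = χ' then R.δ χ' else if φ = χ then -R.δ χ else 0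
    have hsum : ∀ f : Cfsg.IrrCharacter G → ℂ, ∑ φ ∈ S.B.toFinite.toFinset, (w φ : ℂ) * f φ =
        (R.δ χ' : ℂ) * f χ' - (R.δ χ : ℂ) * f χ := by
      intro f
      rw [← Finset.sum_subset (s₁ := {χ', χ})
        (fun φ hφ => by
          rcases Finset.mem_insert.1 hφ with rfl | hφ
          · simpa using R.hXB φ hχ'
          · rw [Finset.mem_singleton] at hφ; subst hφ; simpa using R.hXB φ hχ)
        (fun φ _ hφ => by
          simp only [Finset.mem_insert, Finset.mem_singleton, not_or] at hφ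
          simp [w, hφ.1, hφ.2]),
        Finset.sum_pair hne.symm]
      simp [w, hne]
      ring
    have hdvd := S.dvd_sum_degree w fun i hi => by
      rw [hsum fun φ => S.col φ i, R.hcol χ i hi, R.hcol χ' i hi]
      have htr : ∀ φ ∈ R.X, (R.δ φ : ℂ) * S.tr (R.d φ) i =
          S.tr (fun l => if l = 0 then 0 else 1) i := by
        intro φ hφ
        unfold CfsgLib.Block.CycBlock.tr
        rw [Finset.mul_sum]
        refine Finset.sum_congr rfl fun l _ => ?_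
        rcases eq_or_ne l 0 with rfl | hl
        · simp [R.hd0]
        · dsimp only
          rw [R.hfull φ hφ l hl, if_neg hl]
          rcases R.hδ φ with h | h <;> simp [h]
      linear_combination R.c i * htr χ' hχ' - R.c i * htr χ hχ
    have hrw : ∑ φ ∈ S.B.toFinite.toFinset, w φ * (Cfsg.charDegree (φ : G → ℂ) : ℤ) =
        R.δ χ' * (Cfsg.charDegree (χ' : G → ℂ) : ℤ) - R.δ χ * (Cfsg.charDegree (χ : G → ℂ) : ℤ) := by
      apply Int.cast_injective (α := ℂ)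
      have h := hsum fun φ => ((Cfsg.charDegree (φ : G → ℂ) : ℕ) : ℂ)
      push_cast
      exact h
    rw [hrw] at hdvd
    exact Int.modEq_of_dvd hdvd
  have hrelZ : ∀ ψ ∈ S.B, ψ ∉ R.X → R.δ₀ * (Cfsg.charDegree (ψ : G → ℂ) : ℤ) +
      ∑ χ ∈ R.X, R.δ χ * (Cfsg.charDegree (χ : G → ℂ) : ℤ) = 0 := by
    intro ψ hψ hψX
    apply Int.cast_injective (α := ℂ)
    have h := R.hrel 1 hone ψ hψ hψX
    push_cast
    simp only [CfsgLib.Block.charDegree_cast (CfsgLib.Char.irr_isCharacter (Subtype.prop _))]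
    exact h
  refine ⟨↑R.X, S.B \ ↑R.X, ?_, Set.disjoint_sdiff_right, ?_, ?_, fun ψ hψ ψ' hψ' g hg => ?_,
    R.δ, R.δ₀, fun χ _ => R.hδ χ, R.hδ₀, fun ψ hψ g hg => ?_, hcongr, fun ψ hψ χ hχ => ?_⟩
  · rw [Set.union_diff_cancel (fun χ hχ => R.hXB χ hχ)]
  · rw [Nat.card_coe_set_eq, Set.ncard_coe_finset, R.hXcard]
  · rw [Nat.card_coe_set_eq, Set.ncard_diff (fun χ hχ => R.hXB χ hχ) (Finset.finite_toSet _),
      Set.ncard_coe_finset, R.hXcard, ← Nat.card_coe_set_eq, hk]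
    omega
  · have h1 := R.hrel g hg ψ hψ.1 hψ.2
    have h2 := R.hrel g hg ψ' hψ'.1 hψ'.2
    have h0 : (R.δ₀ : ℂ) ≠ 0 := by rcases R.hδ₀ with h | h <;> simp [h]
    exact mul_left_cancel₀ h0 (by linear_combination h1 - h2)
  · rw [hfin]
    exact R.hrel g hg ψ hψ.1 hψ.2
  · set m : ℤ := (p : ℤ) ^ S.a
    have h1 : ∑ φ ∈ R.X, R.δ φ * (Cfsg.charDegree (φ : G → ℂ) : ℤ) ≡
        (S.e : ℤ) * (R.δ χ * (Cfsg.charDegree (χ : G → ℂ) : ℤ)) [ZMOD m] := by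
      rw [Int.modEq_iff_dvd, ← R.hXcard, ← nsmul_eq_mul, ← Finset.sum_const,
        ← Finset.sum_sub_distrib]
      exact Finset.dvd_sum fun φ hφ => (hcongr φ hφ χ hχ).dvd
    have h2 := hrelZ ψ hψ.1 hψ.2
    have h3 : (Cfsg.charDegree (ψ : G → ℂ) : ℤ) =
        -(R.δ₀ * ∑ φ ∈ R.X, R.δ φ * (Cfsg.charDegree (φ : G → ℂ) : ℤ)) := by
      rcases R.hδ₀ with h | h <;> rw [h] at h2 ⊢ <;> omega
    rw [h3]
    refine (h1.mul_left R.δ₀).neg.trans ?_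
    rw [show -(R.δ₀ * ((S.e : ℤ) * (R.δ χ * (Cfsg.charDegree (χ : G → ℂ) : ℤ)))) =
      -((S.e : ℤ) * R.δ₀ * R.δ χ * (Cfsg.charDegree (χ : G → ℂ) : ℤ)) by ring]

end Cfsg.Agent.S4696
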