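import Cfsg.Statements.S4697
import Cfsg.Agent.Lib.BlockA.AbelianRankCount
import Mathlib.GroupTheory.Rank

set_option autoImplicit false
open Cfsg

namespace Cfsg.Agent.S4697

/-- Let p be a prime, M a maximal ideal of the algebraic integers containing p, and B a p-block of the finite group G with an abelian defect group D of order p^d. If D has rank 2 (its least number of generators is 2) then B contains at most p^d irreducible characters; if D has rank 3 then the number k of irreducible characters in B satisfies k^3 ≤ p^(5d). -/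
theorem result {G : Type*} [Group G] [Finite G] (p : ℕ) [Fact p.Prime] (M : Ideal Cfsg.AlgInt) (hM : Cfsg.IsPModular p M) (B : Set (Cfsg.IrrCharacter G)) (hB : Cfsg.IsPBlock M B) (D : Subgroup G) (hBD : Cfsg.IsDefectGroup p M B D) (hab : IsMulCommutative D) (d : ℕ) (hDd : Nat.card D = p ^ d) : (Group.rank D = 2 → Nat.card B ≤ p ^ d) ∧ (Group.rank D = 3 → Nat.card B ^ 3 ≤ p ^ (5 * d)) := by
  classical
  have := hM.2.1.isPrime
  have habD : ∀ x ∈ D, ∀ y ∈ D, x * y = y * x := fun x hx y hy =>
    congrArg Subtype.val (hab.is_comm.comm (⟨x, hx⟩ : D) ⟨y, hy⟩)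
  have hgenD : ∀ S : Finset D, Subgroup.closure (S : Set D) = ⊤ →
      D ≤ Subgroup.closure ((fun s : D => (s : G)) '' (S : Set D)) := by
    intro S hS
    have h := congrArg (Subgroup.map D.subtype) hS
    rw [MonoidHom.map_closure, ← MonoidHom.range_eq_map, Subgroup.range_subtype] at h
    exact h.ge
  obtain ⟨S, hScard, hSgen⟩ := Group.rank_spec D
  refine ⟨fun hr => ?_, fun hr => ?_⟩
  · rw [hr, Finset.card_eq_two] at hScard
    obtain ⟨a, b, -, rfl⟩ := hScard
    have hgen := hgenD _ hSgen
    rw [Finset.coe_pair, Set.image_pair] at hgen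
    rw [← hDd]
    exact CfsgLib.BlockA.AbelianRankCount.card_le_of_two hM hB hBD habD a.2 b.2 hgen
  · rw [hr, Finset.card_eq_three] at hScard
    obtain ⟨a, b, c, -, -, -, rfl⟩ := hScard
    have hgen := hgenD _ hSgen
    simp only [Finset.coe_insert, Finset.coe_singleton, Set.image_insert_eq,
      Set.image_singleton] at hgen
    rw [mul_comm, pow_mul, ← hDd]
    by_cases h1 : orderOf (b : G) ≤ orderOf (a : G) ∧ orderOf (c : G) ≤ orderOf (a : G)
    · exact CfsgLib.BlockA.AbelianRankCount.card_pow_three_le hM hB hBD habD a.2 b.2 c.2 hgen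
        h1.1 h1.2
    by_cases h2 : orderOf (a : G) ≤ orderOf (b : G) ∧ orderOf (c : G) ≤ orderOf (b : G)
    · exact CfsgLib.BlockA.AbelianRankCount.card_pow_three_le hM hB hBD habD b.2 a.2 c.2
        (by rwa [Set.insert_comm] at hgen) h2.1 h2.2
    · exact CfsgLib.BlockA.AbelianRankCount.card_pow_three_le hM hB hBD habD c.2 a.2 b.2
        (by rwa [Set.pair_comm (b : G), Set.insert_comm (a : G)] at hgen) (by omega) (by omega)

end Cfsg.Agent.S4697
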