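import Cfsg.Statements.S4701
import Cfsg.Agent.Lib.Block.BRTheorem

set_option autoImplicit false
open Cfsg

namespace Cfsg.Agent.S4701

/-- Let G be a finite perfect group and p a prime dividing the order of G with p^3 larger than the order of G. Suppose a Sylow p-subgroup of G is not normal and G has no normal subgroup of order 2. Then p > 3 and G is isomorphic to PSL(2, p), or to SL(2, 2^m) with p = 2^m + 1. -/
theorem result {G : Type*} [Group G] [Finite G] (hperf : commutator G = ⊤) (p : ℕ) [Fact p.Prime] (hdvd : p ∣ Nat.card G) (hbig : Nat.card G < p ^ 3) (P : Sylow p G) (hP : ¬ (P : Subgroup G).Normal) (h2 : ∀ N : Subgroup G, N.Normal → Nat.card N ≠ 2) : (∃ (F : Type) (_ : Field F) (_ : Fintype F), Fintype.card F = p ∧ 3 < p ∧ Nonempty (G ≃* Matrix.ProjectiveSpecialLinearGroup (Fin 2) F)) ∨ (∃ (m : ℕ) (F : Type) (_ : Field F) (_ : Fintype F), Fintype.card F = 2 ^ m ∧ p = 2 ^ m + 1 ∧ 3 < p ∧ Nonempty (G ≃* Matrix.SpecialLinearGroup (Fin 2) F)) := by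
  obtain ⟨hPc, n, hN, hF⟩ :=
    CfsgLib.Block.BrauerReynolds.sylow_data_of_lt_cube hperf hdvd hbig P hP
  have hn := CfsgLib.Solvable.pPrimeCore_normal (G := G) p
  have h3 := (CfsgLib.Block.BrauerReynolds.main hperf P hPc hN hF hn).2.1
  rw [Subgroup.card_eq_card_quotient_mul_card_subgroup (Cfsg.pPrimeCore p G)] at hbig
  have hlt : Nat.card (Cfsg.pPrimeCore p G) < 3 := by
    refine Nat.lt_of_mul_lt_mul_left (a := Nat.card (G ⧸ Cfsg.pPrimeCore p G)) ?_
    linarith
  have h0 : 0 < Nat.card (Cfsg.pPrimeCore p G) := Nat.card_pos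
  have := h2 _ hn
  exact CfsgLib.Block.BrauerReynolds.main_of_core_eq_bot hperf P hPc hN hF
    (Subgroup.card_eq_one.1 (by omega))

end Cfsg.Agent.S4701
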