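import Cfsg.Statements.S4702
import Cfsg.Agent.S0727
import Cfsg.Agent.Lib.Perm.SharplyThree

set_option autoImplicit false
open Cfsg

namespace Cfsg.Agent.S4702

/-- Let G be a triply transitive permutation group on a finite set of odd size m ≥ 3 in which only the identity fixes three or more points. Then m = 2^a + 1 for some a ≥ 1 and G is isomorphic to SL(2, 2^a). -/
theorem result {α : Type*} [Fintype α] [DecidableEq α] (hm : 3 ≤ Fintype.card α) (hodd : Odd (Fintype.card α)) (G : Subgroup (Equiv.Perm α)) (h3 : MulAction.IsMultiplyPretransitive G α 3) (hfix : ∀ g : G, 3 ≤ Nat.card (MulAction.fixedBy α g) → g = 1) : ∃ a : ℕ, 1 ≤ a ∧ Fintype.card α = 2 ^ a + 1 ∧ ∃ (F : Type) (_ : Field F) (_ : Fintype F), Fintype.card F = 2 ^ a ∧ Nonempty (G ≃* Matrix.SpecialLinearGroup (Fin 2) F) := by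
  classical
  have hsharp : ∀ x : Fin 3 ↪ α, MulAction.stabilizer G x = ⊥ := by
    intro x
    rw [Subgroup.eq_bot_iff_forall]
    intro g hg
    refine hfix g ?_
    have hmem : ∀ i, x i ∈ MulAction.fixedBy α g := fun i => congrArg (fun f : Fin 3 ↪ α => f i) hg
    have h1 := Nat.card_le_card_of_injective (fun i : Fin 3 => (⟨x i, hmem i⟩ : MulAction.fixedBy α g))
      (fun i j e => x.injective (congrArg Subtype.val e))
    rwa [Nat.card_fin] at h1
  obtain ⟨i⟩ : Nonempty α := Fintype.card_pos_iff.1 (by omega)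
  obtain ⟨-, p, j, hp, hcard, -, -, -, -, -⟩ := CfsgLib.Perm.sharply_three_kernel G h3 hsharp hm i
  have hj : 1 ≤ j := by
    rcases Nat.eq_zero_or_pos j with h0 | h0
    · rw [h0, pow_zero] at hcard; omega
    · exact h0
  have hp2 : p = 2 := by
    rcases hp.eq_two_or_odd' with h | h
    · exact h
    · exfalso
      rw [hcard, Nat.odd_add_one] at hodd
      exact hodd h.pow
  subst hp2
  obtain ⟨F, iF, iFF, hF, ⟨e⟩⟩ := Cfsg.Agent.S0727.result hj hcard G h3 hsharp
  refine ⟨j, hj, hcard, F, iF, iFF, hF, ?_⟩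
  have hs : Function.Surjective (Matrix.ProjectiveSpecialLinearGroup.toPGL (n := Fin 2) (R := F)) := by
    refine Matrix.ProjectiveSpecialLinearGroup.toPGL_surj_of_roots fun r => ⟨r ^ 2 ^ (j - 1), ?_⟩
    rw [Fintype.card_fin, ← pow_mul, ← pow_succ, Nat.sub_add_cancel hj, ← hF]
    exact Units.ext (by rw [Units.val_pow_eq_pow_val, FiniteField.pow_card])
  have hc : Subgroup.center (Matrix.SpecialLinearGroup (Fin 2) F) = ⊥ := by
    haveI : CharP F 2 := ringChar.of_eq (FiniteField.even_card_iff_char_two.2 (by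
      rw [hF, ← Nat.sub_add_cancel hj, pow_succ, Nat.mul_mod_left]))
    rw [Subgroup.eq_bot_iff_forall]
    intro A hA
    obtain ⟨r, hr, hr'⟩ := Matrix.SpecialLinearGroup.mem_center_iff.1 hA
    rw [Fintype.card_fin] at hr
    have hr1 : r = 1 := by
      rcases sq_eq_one_iff.1 hr with h | h
      · exact h
      · rw [h, CharTwo.neg_eq]
    rw [hr1, map_one] at hr'
    exact Subtype.ext hr'.symm
  exact ⟨((e.trans (MulEquiv.ofBijective _ ⟨Matrix.ProjectiveSpecialLinearGroup.toPGL_injective, hs⟩).symm).trans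
    (QuotientGroup.quotientMulEquivOfEq hc)).trans QuotientGroup.quotientBot⟩

end Cfsg.Agent.S4702
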