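import Cfsg.Statements.S4705
import Cfsg.Agent.Lib.Block.SmallCenter
import Cfsg.Agent.Lib.Block.BTOrderClassify

set_option autoImplicit false
open Cfsg

namespace Cfsg.Agent.S4705

open CfsgLib CfsgLib.Block CfsgLib.Block.SmallShape CfsgLib.Block.BrauerTuan

/-- Let G be a finite group with centre Z and p > 5 a prime such that a Sylow p-subgroup of G has order p and is not normal. If G has a faithful irreducible character of degree p − 2, then p = 2^a + 1 for some a and G is isomorphic to the direct product of SL(2, 2^a) with Z. -/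
theorem result {G : Type*} [Group G] [Finite G] (p : ℕ) [Fact p.Prime] (hp : 5 < p) (P : Sylow p G) (hP : Nat.card P = p) (hnn : ¬ (P : Subgroup G).Normal) (ζ : G → ℂ) (hζ : Cfsg.IsIrrCharacter G ζ) (hfaith : ∀ g : G, ζ g = ζ 1 → g = 1) (hdeg : Cfsg.charDegree ζ = p - 2) : ∃ (a : ℕ) (F : Type) (_ : Field F) (_ : Fintype F), p = 2 ^ a + 1 ∧ Fintype.card F = 2 ^ a ∧ Nonempty (G ≃* Matrix.SpecialLinearGroup (Fin 2) F × Subgroup.center G) := by
  classical
  have := Fintype.ofFinite G
  have hp' : p.Prime := Fact.out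
  have hodd : p % 2 = 1 := hp'.eq_two_or_odd.resolve_left (by omega)
  have hQc : Nat.card (P : Subgroup G) = p := hP
  have hsq : ¬ p ^ 2 ∣ Nat.card G := fun h => by
    rw [← (P : Subgroup G).card_mul_index, hQc, sq] at h
    exact P.not_dvd_index (Nat.dvd_of_mul_dvd_mul_left hp'.pos h)
  obtain ⟨⟨x, hxP⟩, hxgen⟩ := exists_prime_orderOf_dvd_card' (G := (P : Subgroup G)) p (by rw [hQc])
  have hxo : orderOf x = p := by rwa [Subgroup.orderOf_mk] at hxgen
  have hPx : (P : Subgroup G) = Subgroup.zpowers x :=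
    (Subgroup.eq_of_le_of_card_ge (Subgroup.zpowers_le.2 hxP) (by rw [Nat.card_zpowers, hxo, hQc])).symm
  rw [hPx] at hnn
  obtain ⟨hirr, hxZK, hnormal, hperf, -⟩ := core_facts hp hxo hsq hnn hζ hfaith hdeg
  set K := Subgroup.normalClosure ({x} : Set G) with hK
  have hxK : x ∈ K := Subgroup.subset_normalClosure rfl
  set x' : K := ⟨x, hxK⟩
  have hxo' : orderOf x' = p := (Subgroup.orderOf_mk x hxK).trans hxo
  have hsqK : ¬ p ^ 2 ∣ Nat.card K := fun h => hsq (h.trans (Subgroup.card_subgroup_dvd_card K))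
  have hfaithK : ∀ k : K, ζ k = ζ (1 : K) → k = 1 := fun k hk => Subtype.ext (hfaith k hk)
  have hZK : Subgroup.center K = ⊥ :=
    center_eq_bot hp hxo' hsqK hperf hnormal hxZK hirr hfaithK hdeg
  obtain ⟨hC, ⟨n, hn⟩, hN, s, hs, hval⟩ := local_sub_two hp hxo' hsqK hxZK hirr hfaithK hdeg
  have hCK : Subgroup.centralizer ({x'} : Set K) = Subgroup.zpowers x' := by
    refine le_antisymm (fun c hc => ?_)
      (Subgroup.zpowers_le.2 (Subgroup.mem_centralizer_singleton_iff.2 rfl))
    obtain ⟨i, hi⟩ := hC c hc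
    rw [hZK, Subgroup.mem_bot, inv_mul_eq_one] at hi
    rw [← hi]
    exact pow_mem (Subgroup.mem_zpowers x') i
  haveI : IsSimpleGroup K := by
    haveI : Nontrivial K := ⟨⟨x', 1, fun h => hxZK (h ▸ one_mem _)⟩⟩
    refine ⟨fun R hR => ?_⟩
    rcases hnormal R hR with h | h
    · exact Or.inl (le_bot_iff.1 (hZK ▸ h))
    · exact Or.inr h
  have hPKc : Nat.card (Subgroup.zpowers x') = p ^ (Nat.card K).factorization p := by
    rw [Nat.card_zpowers, hxo']
    have h1 : p ∣ Nat.card K := hxo' ▸ orderOf_dvd_natCard x'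
    have h2 := (hp'.dvd_iff_one_le_factorization Nat.card_pos.ne').1 h1
    have h3 : ¬ 2 ≤ (Nat.card K).factorization p := fun h =>
      hsqK ((hp'.pow_dvd_iff_le_factorization Nat.card_pos.ne').2 h)
    rw [show (Nat.card K).factorization p = 1 by omega, pow_one]
  let PK : Sylow p K := Sylow.ofCard (Subgroup.zpowers x') hPKc
  have hPK : Nat.card PK = p := (Nat.card_zpowers x').trans hxo'
  have hCPK : Subgroup.centralizer ((PK : Subgroup K) : Set K) = (PK : Subgroup K) := by
    change Subgroup.centralizer ((Subgroup.zpowers x' : Subgroup K) : Set K) = Subgroup.zpowers x'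
    rw [DefectOne.centralizer_zpowers, hCK]
  -- an involution inverting `x`
  have hn2 : n * n ∈ Subgroup.zpowers x' := by
    rw [← hCK, Subgroup.mem_centralizer_singleton_iff]
    refine mul_inv_eq_iff_eq_mul.1 ?_
    rw [show n * n * x' * (n * n)⁻¹ = n * (n * x' * n⁻¹) * n⁻¹ by group, hn, ← conj_inv, hn, inv_inv]
  have hzo : orderOf (n ^ p) = 2 := by
    refine orderOf_eq_prime ?_ fun h => ?_
    · rw [← pow_mul, mul_comm, pow_mul, sq]
      obtain ⟨j, hj⟩ := Subgroup.mem_zpowers_iff.1 hn2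
      rw [← hj, ← zpow_natCast, ← zpow_mul, mul_comm, zpow_mul, zpow_natCast, ← hxo', pow_orderOf_eq_one,
        one_zpow]
    · have h1 : orderOf n ∣ p := orderOf_dvd_of_pow_eq_one h
      have hx2 : x' = x'⁻¹ := by
        rcases hp'.eq_one_or_self_of_dvd _ h1 with h2 | h2
        · rwa [orderOf_eq_one_iff.1 h2, one_mul, inv_one, mul_one] at hn
        · have hmem : n ∈ Subgroup.zpowers x' := by
            obtain ⟨a, ha⟩ := exists_pow_eq_self_of_coprime (x := n) (n := 2) (by
              rw [h2]; exact (Nat.coprime_primes Nat.prime_two hp').2 (by omega))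
            rw [← ha, sq]; exact pow_mem hn2 a
          obtain ⟨j, rfl⟩ := Subgroup.mem_zpowers_iff.1 hmem
          rwa [← (Commute.zpow_right (Commute.refl x') j).eq, mul_inv_cancel_right] at hn
      have h5 : orderOf x' ∣ 2 := orderOf_dvd_of_pow_eq_one (by
        rw [sq]; nth_rewrite 2 [hx2]; exact mul_inv_cancel x')
      have := Nat.le_of_dvd (by omega) (hxo' ▸ h5)
      omega
  have hzx : n ^ p * x' * (n ^ p)⁻¹ = x'⁻¹ := by
    obtain ⟨k, hk⟩ : Odd p := Nat.odd_iff.2 hodd
    have hc : (n * n) ^ k * x' * ((n * n) ^ k)⁻¹ = x' := mul_inv_eq_iff_eq_mul.2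
      (Subgroup.mem_centralizer_singleton_iff.1 (pow_mem (hCK ▸ hn2) k))
    rw [hk, pow_succ', pow_mul, sq, show n * (n * n) ^ k * x' * (n * (n * n) ^ k)⁻¹ =
      n * ((n * n) ^ k * x' * ((n * n) ^ k)⁻¹) * n⁻¹ by group, hc, hn]
  obtain ⟨M, hM⟩ := BlockB.exists_isPModular (p := p) hp'
  obtain ⟨e, t, d₀, σ, CF, YF, ε, D⟩ := exists_rowData hperf hM PK hPK
  obtain rfl : e = 2 := D.e_eq.symm.trans (relIndex_eq_two hp PK hPK rfl hCK hzo hzx hN)
  have hte := D.hte
  obtain ⟨-, -, hσ, -, -, hcover, hYdeg, hmod, -, -⟩ := D.exc (by omega)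
  set χK : IrrCharacter K := ⟨_, hirr⟩
  have hdK : charDegree (χK : K → ℂ) = p - 2 := hdeg
  have hblock : χK ∈ principalBlock M K := by
    by_contra hB
    have := Fintype.ofFinite (IrrCharacter K)
    have h0 : ∀ i : ZMod p, i ≠ 0 → (χK : K → ℂ) (x' ^ i.val) = 0 := fun i hi => by
      refine BrauerReynolds.apply_eq_zero_of_not_principal hPK hCPK hM χK hB
        (pow_mem (Subgroup.mem_zpowers x') _) fun h => hi ?_
      rw [← orderOf_dvd_iff_pow_eq_one, hxo', ← CharP.cast_eq_zero_iff (ZMod p) p,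
        ZMod.natCast_zmod_val] at h
      exact h
    have h1 : ∑ i : ZMod p, (χK : K → ℂ) (x' ^ i.val) = (p : ℂ) := by
      have e : ∀ i : ZMod p, (χK : K → ℂ) (x' ^ i.val) = (∑ r : ZMod p, ZMod.stdAddChar (r * i)) -
          (ZMod.stdAddChar (s * i) + ZMod.stdAddChar (-(s * i))) := hval
      have horth : ∀ a : ZMod p, ∑ i : ZMod p, ZMod.stdAddChar (a * i) = if a = 0 then (p : ℂ) else 0 :=
        fun a => by
        rw [Finset.sum_congr rfl fun i _ => congrArg _ (mul_comm a i),
          AddChar.sum_mulShift a (ZMod.isPrimitive_stdAddChar p), ZMod.card]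
        split_ifs <;> simp
      rw [Finset.sum_congr rfl fun i _ => e i, Finset.sum_sub_distrib, Finset.sum_add_distrib,
        Finset.sum_comm, Finset.sum_congr rfl fun r _ => horth r, horth,
        Finset.sum_congr rfl fun i _ => congrArg ZMod.stdAddChar (neg_mul s i).symm, horth,
        if_neg hs, if_neg (neg_ne_zero.2 hs)]
      simp
    rw [← Finset.add_sum_erase _ _ (Finset.mem_univ (0 : ZMod p)),
      Finset.sum_eq_zero fun i hi => h0 i (Finset.mem_erase.1 hi).1, add_zero, ZMod.val_zero, pow_zero,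
      ← BlockB.irr_degree_cast χK, hdK] at h1
    have : p - 2 = p := by exact_mod_cast h1
    omega
  have hY : χK ∈ YF := by
    refine (hcover χK hblock).resolve_left fun hCF => ?_
    have h := D.CF_mod χK hCF
    rw [hdK] at h
    rcases D.eps_pm χK hCF with he | he <;> rw [he] at h
    · obtain ⟨c, hc⟩ := h
      have h2 : (p : ℤ) ∣ 3 := ⟨c + 1, by rw [Nat.cast_sub (by omega)] at hc; push_cast at hc; linarith⟩
      have := Int.le_of_dvd (by norm_num) h2
      omega
    · obtain ⟨c, hc⟩ := h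
      have h2 : (p : ℤ) ∣ 1 := ⟨c + 1, by rw [Nat.cast_sub (by omega)] at hc; push_cast at hc; linarith⟩
      have := Int.le_of_dvd (by norm_num) h2
      omega
  have hd₀ : d₀ = p - 2 := (hYdeg χK hY).symm.trans hdK
  obtain rfl : σ = -1 := by
    refine hσ.resolve_left ?_
    rintro rfl
    obtain ⟨c, hc⟩ := hmod
    have h2 : (p : ℤ) ∣ 4 := ⟨c + 1, by
      rw [hd₀, Nat.cast_sub (by omega)] at hc; push_cast at hc; linarith⟩
    have := Int.le_of_dvd (by norm_num) h2
    omega
  obtain ⟨m, F, iF, iF', hF, hpm, ⟨φ⟩⟩ := sl_two_of_e_two hperf (by omega) hM PK hPK hCPK D hd₀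
  -- the direct product
  have hxZ : x ∉ Subgroup.center G := fun h => hxZK (Subgroup.mem_center_iff.2 fun k =>
    Subtype.ext (Subgroup.mem_center_iff.1 h k))
  obtain ⟨hCG, -, hNG, -⟩ := local_sub_two hp hxo hsq hxZ hζ hfaith hdeg
  let f : K × Subgroup.center G →* G :=
    MonoidHom.noncommCoprod K.subtype (Subgroup.center G).subtype fun k c =>
      (Subgroup.mem_center_iff.1 c.2 (k : G) : (k : G) * c = c * k)
  have hfapp : ∀ a, f a = (a.1 : G) * (a.2 : G) := fun a => rfl
  have hinj : Function.Injective f := by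
    refine (injective_iff_map_eq_one f).2 fun a ha => ?_
    rw [hfapp] at ha
    have h1 : a.1 ∈ Subgroup.center K := Subgroup.mem_center_iff.2 fun k => Subtype.ext (by
      change (k : G) * (a.1 : G) = (a.1 : G) * k
      rw [mul_eq_one_iff_eq_inv.1 ha]
      exact Subgroup.mem_center_iff.1 (inv_mem a.2.2) k)
    rw [hZK, Subgroup.mem_bot] at h1
    rw [h1, Subgroup.coe_one, one_mul] at ha
    exact Prod.ext h1 (Subtype.ext ha)
  have hsurj : Function.Surjective f := fun g => by
    let y : K := ⟨g * x * g⁻¹, Subgroup.normalClosure_normal.conj_mem x hxK g⟩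
    have hyo : orderOf y = p := by
      rw [Subgroup.orderOf_mk, show orderOf (g * x * g⁻¹) = orderOf x from
        orderOf_injective (MulAut.conj g).toMonoidHom (MulAut.conj g).injective x, hxo]
    obtain ⟨Q, hQ⟩ := (IsPGroup.of_card (n := 1)
      (show Nat.card (Subgroup.zpowers y) = p ^ 1 by rw [Nat.card_zpowers, hyo, pow_one])).exists_le_sylow
    obtain ⟨a, ha⟩ := MulAction.exists_smul_eq K Q PK
    have hmem : a * y * a⁻¹ ∈ (PK : Subgroup K) := by
      rw [← ha]
      exact Subgroup.mem_map_of_mem _ (hQ (Subgroup.mem_zpowers y))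
    have hmemG : (a : G) * g * x * ((a : G) * g)⁻¹ ∈ Subgroup.zpowers x := by
      obtain ⟨j, hj⟩ := Subgroup.mem_zpowers_iff.1
        (show a * y * a⁻¹ ∈ Subgroup.zpowers x' from hmem)
      refine Subgroup.mem_zpowers_iff.2 ⟨j, ?_⟩
      have h := congrArg Subtype.val hj
      push_cast at h
      change x ^ j = (a : G) * (g * x * g⁻¹) * (a : G)⁻¹ at h
      rw [h]
      group
    obtain ⟨b, hb⟩ : ∃ b : K, (b : G) * g ∈ Subgroup.centralizer ({x} : Set G) := by
      rcases hNG _ hmemG with h | h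
      · exact ⟨a, Subgroup.mem_centralizer_singleton_iff.2 (mul_inv_eq_iff_eq_mul.1 h)⟩
      · refine ⟨n * a, Subgroup.mem_centralizer_singleton_iff.2 (mul_inv_eq_iff_eq_mul.1 ?_)⟩
        have hnG : (n : G) * x * (n : G)⁻¹ = x⁻¹ := congrArg Subtype.val hn
        rw [Subgroup.coe_mul, show (n : G) * (a : G) * g * x * ((n : G) * (a : G) * g)⁻¹ =
          (n : G) * ((a : G) * g * x * ((a : G) * g)⁻¹) * (n : G)⁻¹ by group, h, ← conj_inv, hnG, inv_inv]
    obtain ⟨i, hi⟩ := hCG _ hb
    refine ⟨(b⁻¹ * x' ^ i, ⟨_, hi⟩), ?_⟩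
    rw [hfapp]
    change (b : G)⁻¹ * x ^ i * ((x ^ i)⁻¹ * ((b : G) * g)) = g
    group
  exact ⟨m, F, iF, iF', hpm, hF,
    ⟨(MulEquiv.ofBijective f ⟨hinj, hsurj⟩).symm.trans (φ.prodCongr (MulEquiv.refl _))⟩⟩

end Cfsg.Agent.S4705
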