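import Cfsg.Statements.S4707
import Cfsg.Agent.Lib.Block.BTPermRow
import Cfsg.Agent.Lib.Block.BTOrderClassify
import Cfsg.Agent.Lib.Transfer.HallComplement
import Cfsg.Agent.S0713
import Cfsg.Agent.S0720

set_option autoImplicit false
open Cfsg

namespace Cfsg.Agent.S4707

open CfsgLib CfsgLib.Block
open scoped Pointwise

/-- Let p > 3 be a prime and G a primitive permutation group of degree 2p that is not doubly transitive. If a Sylow p-subgroup of G has normalizer of order 2p, then p = 5 and G is isomorphic to the alternating group of degree 5. -/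
theorem result {α : Type*} [Fintype α] [DecidableEq α] {p : ℕ} [Fact p.Prime] (hp : 3 < p) (hα : Fintype.card α = 2 * p) (G : Subgroup (Equiv.Perm α)) (hprim : MulAction.IsPreprimitive G α) (hnot2 : ¬ MulAction.IsMultiplyPretransitive G α 2) (P : Sylow p G) (hN : Nat.card (Subgroup.normalizer ((P : Subgroup G) : Set G)) = 2 * p) : p = 5 ∧ Nonempty (G ≃* alternatingGroup (Fin 5)) := by
  classical
  have hpp : p.Prime := Fact.out
  have hp5 : 5 ≤ p := by
    by_contra hlt
    obtain rfl : p = 4 := by omega
    exact absurd hpp (by norm_num)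
  have hpodd : p % 2 = 1 := hpp.eq_two_or_odd.resolve_left (by omega)
  haveI := hprim
  haveI : FaithfulSMul G α := ⟨fun {g k} h => Subtype.ext (Equiv.ext h)⟩
  obtain ⟨a₀⟩ : Nonempty α := Fintype.card_pos_iff.1 (by omega)
  -- the Sylow subgroup has order `p`
  have hdvd : p ∣ Nat.card G := (dvd_mul_left p 2).trans (hN ▸ Subgroup.card_subgroup_dvd_card _)
  have hPc : Nat.card P = p := by
    obtain ⟨k, hk⟩ := IsPGroup.iff_card.1 P.isPGroup'
    have h1 : p ∣ Nat.card P := P.dvd_card_of_dvd_card hdvd
    have h2 : Nat.card P ∣ 2 * p := hN ▸ Subgroup.card_dvd_of_le Subgroup.le_normalizer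
    have h3 : (p ^ k).Coprime 2 := Nat.Coprime.pow_left _ ((Nat.coprime_primes hpp Nat.prime_two).2 (by omega))
    rw [hk] at h1 h2 ⊢
    exact Nat.dvd_antisymm (h3.dvd_of_dvd_mul_left h2) h1
  set Q := (P : Subgroup G) with hQdef
  have hQc : Nat.card Q = p := hPc
  set N := Subgroup.normalizer (Q : Set G) with hNdef
  have hidx : (Q.subgroupOf N).index = 2 := by
    have h := (Q.subgroupOf N).card_mul_index
    rw [Nat.card_congr (Subgroup.subgroupOfEquivOfLe Subgroup.le_normalizer).toEquiv, hQc, hN,
      mul_comm 2 p] at h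
    exact Nat.eq_of_mul_eq_mul_left hpp.pos h
  have hQab : ∀ a ∈ Q, ∀ c ∈ Q, a * c = c * a := fun a ha c hc => by
    have : IsCyclic Q := isCyclic_of_prime_card hQc
    let : CommGroup Q := IsCyclic.commGroup
    exact congrArg Subtype.val (mul_comm (⟨a, ha⟩ : Q) ⟨c, hc⟩)
  -- nontrivial normal subgroups are transitive
  have htrans : ∀ K : Subgroup G, K.Normal → K ≠ ⊥ → 2 * p ∣ Nat.card K := fun K hK hne => by
    have hfix : MulAction.fixedPoints K α ≠ Set.univ := fun h => hne ((Subgroup.eq_bot_iff_forall _).2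
      fun k hk => Subtype.ext (Equiv.ext fun a =>
        MulAction.mem_fixedPoints.1 (h ▸ Set.mem_univ a) (⟨k, hk⟩ : K)))
    haveI := MulAction.IsQuasiPreprimitive.isPretransitive_of_normal (N := K) hfix
    refine ⟨Nat.card (MulAction.stabilizer K a₀), ?_⟩
    rw [CfsgLib.Perm.natCard_eq_mul_stabilizer (G := K) a₀, Nat.card_eq_fintype_card (α := α), hα]
  have hC : Subgroup.centralizer (Q : Set G) = Q := by
    have hle : Q ≤ Subgroup.centralizer (Q : Set G) := fun u hu =>
      Subgroup.mem_centralizer_iff.2 fun v hv => hQab v hv u hu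
    by_contra hne
    have hNC : N ≤ Subgroup.centralizer (Q : Set G) := by
      have h1 : Nat.card (Subgroup.centralizer (Q : Set G)) ∣ 2 * p :=
        hN ▸ Subgroup.card_dvd_of_le (Subgroup.centralizer_le_normalizer _)
      obtain ⟨c, hc⟩ := Subgroup.card_dvd_of_le hle
      rw [hQc] at hc
      rw [hc, mul_comm 2 p] at h1
      rcases (Nat.dvd_prime Nat.prime_two).1 (Nat.dvd_of_mul_dvd_mul_left hpp.pos h1) with rfl | rfl
      · exact absurd (Subgroup.eq_of_le_of_card_ge hle (by rw [hc, hQc, mul_one])).symm hne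
      · refine (Subgroup.eq_of_le_of_card_ge (Subgroup.centralizer_le_normalizer _) ?_).ge
        rw [hc, hN, mul_comm]
    have hHall : (Nat.card Q).Coprime Q.index := by
      rw [hQc]
      exact (hpp.coprime_iff_not_dvd).2 P.not_dvd_index
    obtain ⟨K, hK, hKQ⟩ :=
      CfsgLib.Transfer.exists_normal_complement_of_normalizer_le_centralizer Q hHall hNC
    rcases eq_or_ne K ⊥ with rfl | hK0
    · have h := hKQ.card_mul
      rw [Subgroup.card_bot, one_mul, hQc] at h
      have := htrans ⊤ inferInstance (fun h' => by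
        rw [← Subgroup.card_top, h', Subgroup.card_bot] at h; omega)
      rw [Subgroup.card_top, ← h] at this
      have := Nat.le_of_dvd hpp.pos this
      omega
    · have h := htrans K hK hK0
      have h2 : p * p ∣ Nat.card G := by
        rw [← hKQ.card_mul, hQc]
        exact mul_dvd_mul ((dvd_mul_left p 2).trans h) dvd_rfl
      rw [← Q.card_mul_index, hQc] at h2
      exact P.not_dvd_index (Nat.dvd_of_mul_dvd_mul_left hpp.pos h2)
  haveI hGnt : Nontrivial G := Finite.one_lt_card_iff_nontrivial.1
    (lt_of_lt_of_le hpp.one_lt (Nat.le_of_dvd Nat.card_pos hdvd))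
  haveI : IsSimpleGroup G := ⟨fun K hK => by
    by_contra hcon
    push Not at hcon
    obtain ⟨hK0, hK1⟩ := hcon
    have hpK : p ∣ Nat.card K := (dvd_mul_left p 2).trans (htrans K hK hK0)
    -- `K` contains `P`
    have hQK : Q ≤ K := by
      obtain ⟨k, hk⟩ := exists_prime_orderOf_dvd_card' (G := K) p hpK
      obtain ⟨R, hR⟩ := (IsPGroup.of_card (n := 1) (G := Subgroup.zpowers (k : G))
        (by rw [Nat.card_zpowers, Subgroup.orderOf_coe, hk, pow_one])).exists_le_sylow
      have hRK : (R : Subgroup G) ≤ K := by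
        have e : Subgroup.zpowers (k : G) = (R : Subgroup G) := Subgroup.eq_of_le_of_card_ge hR (by
          rw [Nat.card_zpowers, Subgroup.orderOf_coe, hk]
          exact (Nat.card_congr (Sylow.equiv R P).toEquiv).trans_le hPc.le)
        exact e ▸ Subgroup.zpowers_le.2 k.2
      obtain ⟨x, hx⟩ := MulAction.exists_smul_eq G R P
      intro u hu
      have hu' : u ∈ (x • R : Sylow p G) := hx.symm ▸ hu
      change u ∈ MulAut.conj x • (R : Subgroup G) at hu'
      rw [Subgroup.mem_pointwise_smul_iff_inv_smul_mem] at hu'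
      have h := hK.conj_mem _ (hRK hu') x
      simpa [mul_assoc] using h
    let PK : Sylow p K := P.subtype hQK
    have hPKc : Nat.card (PK : Subgroup K) = p :=
      (Nat.card_congr (Subgroup.subgroupOfEquivOfLe hQK).toEquiv).trans hQc
    have hsup : Subgroup.normalizer (Q : Set G) ⊔ K = ⊤ := by
      haveI := hK
      have h := Sylow.normalizer_sup_eq_top (N := K) PK
      rwa [show (PK : Subgroup K).map K.subtype = Q from Subgroup.map_subgroupOf_eq_of_le hQK] at h
    by_cases hlt : N ≤ K
    · rw [sup_eq_right.2 hlt] at hsup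
      exact hK1 hsup
    · -- `N_K(P) = P`: a normal complement in `K`
      have hQKN : Q ≤ N ⊓ K := le_inf Subgroup.le_normalizer hQK
      have hNK : N ⊓ K = Q := by
        refine (Subgroup.eq_of_le_of_card_ge hQKN ?_).symm
        have h1 : Nat.card (N ⊓ K : Subgroup G) ∣ 2 * p := hN ▸ Subgroup.card_dvd_of_le inf_le_left
        obtain ⟨c, hc⟩ := Subgroup.card_dvd_of_le hQKN
        rw [hQc] at hc
        rw [hc, mul_comm 2 p] at h1
        rcases (Nat.dvd_prime Nat.prime_two).1 (Nat.dvd_of_mul_dvd_mul_left hpp.pos h1) with rfl | rfl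
        · rw [hc, hQc, mul_one]
        · exact absurd (inf_eq_left.1 (Subgroup.eq_of_le_of_card_ge inf_le_left
            (by rw [hc, hN, mul_comm]))) hlt
      have hNK' : Subgroup.normalizer ((PK : Subgroup K) : Set K) ≤
          Subgroup.centralizer ((PK : Subgroup K) : Set K) := by
        intro k hk
        have hkN : (k : G) ∈ N := by
          rw [hNdef, Subgroup.mem_normalizer_iff]
          intro u
          have hk' := Subgroup.mem_normalizer_iff.1 hk
          constructor
          · intro hu
            exact (hk' ⟨u, hQK hu⟩).1 hu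
          · intro hu
            have huK : u ∈ K := by
              have h := hK.conj_mem _ (hQK hu) (k : G)⁻¹
              simpa [mul_assoc] using h
            exact (hk' ⟨u, huK⟩).2 hu
        have hkQ : (k : G) ∈ Q := hNK ▸ ⟨hkN, k.2⟩
        exact Subgroup.mem_centralizer_iff.2 fun v hv => Subtype.ext (hQab _ hv _ hkQ)
      have hHall : (Nat.card (PK : Subgroup K)).Coprime (PK : Subgroup K).index := PK.card_coprime_index
      obtain ⟨H, hH, hHQ⟩ :=
        CfsgLib.Transfer.exists_normal_complement_of_normalizer_le_centralizer _ hHall hNK'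
      have hcopH : (Nat.card H).Coprime p := by
        rw [← hHQ.index_eq_card]
        refine (hpp.coprime_iff_not_dvd.2 ?_).symm
        exact PK.not_dvd_index
      -- `H` is normal in `G`
      haveI := hH
      have hHchar : H.Characteristic := by
        refine Subgroup.characteristic_iff_map_le.2 fun φ => ?_
        intro y hy
        obtain ⟨x, hx, rfl⟩ := Subgroup.mem_map.1 hy
        have hidxH : H.index = p := by
          rw [hHQ.symm.index_eq_card, hPKc]
        have h1 : ((QuotientGroup.mk' H) (φ x)) ^ p = 1 := by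
          have := pow_card_eq_one' (x := QuotientGroup.mk' H (φ x))
          rwa [← Subgroup.index_eq_card, hidxH] at this
        have h2 : ((QuotientGroup.mk' H) (φ x)) ^ Nat.card H = 1 := by
          rw [← map_pow, ← map_pow, show x ^ Nat.card H = 1 from
            congrArg Subtype.val (pow_card_eq_one' (x := (⟨x, hx⟩ : H))), map_one, map_one]
        have h3 := pow_gcd_eq_one.2 ⟨h1, h2⟩
        rw [Nat.Coprime.gcd_eq_one hcopH.symm, pow_one] at h3
        exact (QuotientGroup.eq_one_iff _).1 h3
      haveI := hK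
      have hHn : (H.map K.subtype).Normal := inferInstance
      rcases eq_or_ne (H.map K.subtype) ⊥ with hb | hb
      · have h1 : Nat.card (H.map K.subtype) = Nat.card H :=
          (Nat.card_congr (H.equivMapOfInjective _ K.subtype_injective).toEquiv).symm
        rw [hb, Subgroup.card_bot] at h1
        have h2 := hHQ.card_mul
        rw [← h1, one_mul, hPKc] at h2
        have := htrans K hK hK0
        rw [← h2] at this
        have := Nat.le_of_dvd hpp.pos this
        omega
      · have h := (dvd_mul_left p 2).trans (htrans _ hHn hb)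
        rw [← Nat.card_congr (H.equivMapOfInjective _ K.subtype_injective).toEquiv] at h
        exact (hpp.coprime_iff_not_dvd.1 hcopH.symm) h⟩
  have hperf : commutator G = ⊤ := by
    rcases (inferInstance : (commutator G).Normal).eq_bot_or_eq_top with h | h
    · exfalso
      have hc : ∀ u : G, u ∈ Subgroup.centralizer (Q : Set G) := fun u =>
        Subgroup.mem_centralizer_iff.2 fun v _ => by
          have hg := (Subgroup.commutator_eq_bot_iff_le_centralizer).1
            (h : ⁅(⊤ : Subgroup G), (⊤ : Subgroup G)⁆ = ⊥) (Subgroup.mem_top u)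
          exact Subgroup.mem_centralizer_iff.1 hg v (Subgroup.mem_top v)
      have hNtop : N ≤ Q := hC ▸ fun u _ => hc u
      have := Subgroup.card_le_of_le hNtop
      rw [hN, hQc] at this
      omega
    · exact h
  -- the Sylow subgroup has no fixed points
  have hfree : ∀ y ∈ Q, y ≠ 1 → ∀ a : α, (y • a : α) ≠ a := by
    intro y hy hy1 a ha
    have hord : orderOf (y : Equiv.Perm α) = p := by
      rw [Subgroup.orderOf_coe]
      have h1 := orderOf_dvd_natCard (⟨y, hy⟩ : Q)
      rw [Subgroup.orderOf_mk, hQc] at h1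
      exact (hpp.eq_one_or_self_of_dvd _ h1).resolve_left fun h => hy1 (orderOf_eq_one_iff.1 h)
    have hlt : (y : Equiv.Perm α).support.card < 2 * p := by
      rw [← hα]
      exact Finset.card_lt_univ_of_notMem (x := a) (by rw [Equiv.Perm.notMem_support]; exact ha)
    have hcyc : (y : Equiv.Perm α).IsCycle :=
      Equiv.Perm.isCycle_of_prime_order (hord.symm ▸ hpp) (hord.symm ▸ hlt)
    have hcard : (y : Equiv.Perm α).support.card = p := hcyc.orderOf.symm.trans hord
    have hle := Cfsg.Agent.S0713.result G hprim hpp (by omega) (by omega) hcyc hcard y.2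
    apply hnot2
    haveI := alternatingGroup.isMultiplyPretransitive α
    haveI h2 : MulAction.IsMultiplyPretransitive (alternatingGroup α) α 2 :=
      MulAction.isMultiplyPretransitive_of_le (n := Nat.card α - 2)
        (by rw [Nat.card_eq_fintype_card]; omega) (by rw [Nat.card_eq_fintype_card]; omega)
    rw [MulAction.is_two_pretransitive_iff]
    intro a b c d hab hcd
    obtain ⟨σ, h1, h2⟩ := CfsgLib.Perm.exists_smul_pair (G := alternatingGroup α) h2 hab hcd
    exact ⟨⟨σ, hle σ.2⟩, h1, h2⟩
  obtain ⟨M, hM⟩ := BlockB.exists_isPModular (p := p) hpp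
  obtain ⟨e, t, d₀, σ, CF, YF, ε, D⟩ := BrauerTuan.exists_rowData hperf hM P hPc
  obtain rfl : e = 2 := by rw [← D.e_eq, hC]; exact hidx
  obtain ⟨rfl, hd₀⟩ := BrauerTuan.row_of_degree_two_p hperf hp5 hM P hPc hC D α
    (by rw [Nat.card_eq_fintype_card, hα]) hfree hnot2
  obtain ⟨m, F, iF, iF', hF, hpm, ⟨φ⟩⟩ := BrauerTuan.sl_two_of_e_two hperf hp5 hM P hPc hC D hd₀
  obtain ⟨-, a, ha, hpa, -⟩ :=
    (Cfsg.Agent.S0720.result hpp hα G hprim a₀).resolve_left hnot2
  -- the only such prime is 5
  have hp5eq : p = 5 := by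
    have h : 2 ^ m = 2 * (a * (a + 1)) := by
      have h' : 2 ^ m + 1 = 2 * a ^ 2 + 2 * a + 1 := hpm.symm.trans hpa
      linarith [h', (by ring : 2 * (a * (a + 1)) = 2 * a ^ 2 + 2 * a)]
    have h1 : a ∣ 2 ^ m := h ▸ Dvd.dvd.mul_left (dvd_mul_right a _) 2
    have h2 : a + 1 ∣ 2 ^ m := h ▸ Dvd.dvd.mul_left (dvd_mul_left _ a) 2
    have ha1 : a = 1 := by
      rcases Nat.even_or_odd a with he | ho
      · have hcop : (a + 1).Coprime (2 ^ m) :=
          (Nat.coprime_two_right.2 he.add_one).pow_right _
        have := Nat.eq_one_of_dvd_coprimes hcop dvd_rfl h2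
        omega
      · exact Nat.eq_one_of_dvd_coprimes ((Nat.coprime_two_right.2 ho).pow_right m) dvd_rfl h1
    rw [hpa, ha1]; norm_num
  refine ⟨hp5eq, ?_⟩
  have hm4 : Fintype.card F = 4 := by omega
  have hG60 : Nat.card G = 60 := by
    rw [Nat.card_congr φ.toEquiv, CfsgLib.Classical.card_sl_two_eq (F := F), hm4]; norm_num
  exact CfsgLib.Geom.equiv_altFive_of_simple_sixty hG60

end Cfsg.Agent.S4707
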