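import Cfsg.Statements.S4708
import Cfsg.Agent.Lib.BlockB.PrincipalLambda
import Cfsg.Agent.Lib.Solvable.PCore

set_option autoImplicit false
open Cfsg

namespace Cfsg.Agent.S4708

/-- Let p be a prime, M a maximal ideal of the algebraic integers containing p, G a finite group and H a normal subgroup. Write λ(X) for the sum of the squares of the degrees of the irreducible characters in the principal p-block of a group X. Then λ(H) ≤ λ(G) ≤ [G : H]·λ(H). -/
theorem result {G : Type*} [Group G] [Finite G] (p : ℕ) [Fact p.Prime] (M : Ideal Cfsg.AlgInt) (hM : Cfsg.IsPModular p M) (H : Subgroup G) [H.Normal] : (∑ᶠ θ ∈ Cfsg.principalBlock M H, Cfsg.charDegree (θ : H → ℂ) ^ 2) ≤ (∑ᶠ χ ∈ Cfsg.principalBlock M G, Cfsg.charDegree (χ : G → ℂ) ^ 2) ∧ (∑ᶠ χ ∈ Cfsg.principalBlock M G, Cfsg.charDegree (χ : G → ℂ) ^ 2) ≤ H.index * ∑ᶠ θ ∈ Cfsg.principalBlock M H, Cfsg.charDegree (θ : H → ℂ) ^ 2 := by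
  classical
  have := CfsgLib.Block.isPrime_of_pmodular hM
  have := Fintype.ofFinite G
  have := Fintype.ofFinite H
  have := Fintype.ofFinite (Cfsg.IrrCharacter G)
  have := Fintype.ofFinite (Cfsg.IrrCharacter H)
  set BG := (Cfsg.principalBlock M G).toFinite.toFinset with hBG
  set BH := (Cfsg.principalBlock M H).toFinite.toFinset with hBH
  rw [finsum_mem_eq_finite_toFinset_sum _ (Cfsg.principalBlock M G).toFinite,
    finsum_mem_eq_finite_toFinset_sum _ (Cfsg.principalBlock M H).toFinite, ← hBG, ← hBH]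
  have hnat : ∀ (χ : Cfsg.IrrCharacter G) (θ : Cfsg.IrrCharacter H), ∃ m : ℕ,
      Cfsg.classInner (fun h : H => (χ : G → ℂ) h) (θ : H → ℂ) = m := fun χ θ =>
    CfsgLib.Char.classInner_isCharacter_nat
      (CfsgLib.Char.isCharacter_restrict (CfsgLib.Char.irr_isCharacter χ.2) H)
      (CfsgLib.Char.irr_isCharacter θ.2)
  choose m hm using hnat
  have hdG : ∀ χ : Cfsg.IrrCharacter G, ((Cfsg.charDegree (χ : G → ℂ) : ℕ) : ℂ) = (χ : G → ℂ) 1 :=
    fun χ => CfsgLib.Block.charDegree_cast (CfsgLib.Char.irr_isCharacter χ.2)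
  have hdH : ∀ θ : Cfsg.IrrCharacter H, ((Cfsg.charDegree (θ : H → ℂ) : ℕ) : ℂ) = (θ : H → ℂ) 1 :=
    fun θ => CfsgLib.Block.charDegree_cast (CfsgLib.Char.irr_isCharacter θ.2)
  -- the degree of `χ` is spread over the principal block of `H`
  have hdeg : ∀ χ ∈ BG, Cfsg.charDegree (χ : G → ℂ) =
      ∑ θ ∈ BH, m χ θ * Cfsg.charDegree (θ : H → ℂ) := by
    intro χ hχ
    have hcf : Cfsg.IsClassFunction H (fun h : H => (χ : G → ℂ) h) :=
      CfsgLib.Char.isCharacter_isClassFunction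
        (CfsgLib.Char.isCharacter_restrict (CfsgLib.Char.irr_isCharacter χ.2) H)
    have h1 := CfsgLib.Char.classFunction_apply_eq_sum hcf (1 : H)
    have h2 : (Cfsg.charDegree (χ : G → ℂ) : ℂ) =
        ((∑ θ ∈ BH, m χ θ * Cfsg.charDegree (θ : H → ℂ) : ℕ) : ℂ) := by
      rw [hdG, show (χ : G → ℂ) 1 = (χ : G → ℂ) ((1 : H) : G) from rfl, h1, Nat.cast_sum,
        Finset.sum_subset (Finset.subset_univ BH) (fun θ _ hθ => by
          have h0 : m χ θ = 0 := by
            by_contra h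
            refine hθ ((Set.Finite.mem_toFinset _).2
              (CfsgLib.BlockB.constituent_mem_principalBlock H hM ((Set.Finite.mem_toFinset _).1 hχ) ?_))
            rw [hm]
            exact_mod_cast h
          simp [h0])]
      refine Finset.sum_congr rfl fun θ _ => ?_
      rw [hm, Nat.cast_mul, hdH]
    exact_mod_cast h2
  -- multiplicities over a fixed `θ`
  have hind : ∀ θ : Cfsg.IrrCharacter H, ∑ χ ∈ BG, m χ θ * Cfsg.charDegree (χ : G → ℂ) ≤
      H.index * Cfsg.charDegree (θ : H → ℂ) := by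
    intro θ
    refine (Finset.sum_le_univ_sum_of_nonneg (fun χ => Nat.zero_le _)).trans_eq ?_
    have h1 := CfsgLib.Char.classFunction_apply_eq_sum
      (CfsgLib.Char.indFun_isClassFunction H (θ : H → ℂ)) (1 : G)
    rw [CfsgLib.Char.indFun_apply_one] at h1
    have h2 : ((∑ χ : Cfsg.IrrCharacter G, m χ θ * Cfsg.charDegree (χ : G → ℂ) : ℕ) : ℂ) =
        ((H.index * Cfsg.charDegree (θ : H → ℂ) : ℕ) : ℂ) := by
      rw [Nat.cast_sum, Nat.cast_mul, hdH, h1]
      refine Finset.sum_congr rfl fun χ _ => ?_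
      rw [CfsgLib.Char.frobenius_reciprocity H _ _ (CfsgLib.Char.irr_isClassFunction χ.2),
        ← CfsgLib.Char.classInner_conj_symm, hm, map_natCast, Nat.cast_mul, hdG]
    exact_mod_cast h2
  have hG : ∑ χ ∈ BG, Cfsg.charDegree (χ : G → ℂ) ^ 2 =
      ∑ θ ∈ BH, Cfsg.charDegree (θ : H → ℂ) * ∑ χ ∈ BG, m χ θ * Cfsg.charDegree (χ : G → ℂ) := by
    simp only [Finset.mul_sum]
    rw [Finset.sum_comm]
    refine Finset.sum_congr rfl fun χ hχ => ?_
    rw [pow_two]
    nth_rw 1 [hdeg χ hχ]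
    rw [Finset.sum_mul]
    exact Finset.sum_congr rfl fun θ _ => by ring
  rw [hG]
  constructor
  · refine Finset.sum_le_sum fun θ hθ => ?_
    rw [pow_two]
    refine Nat.mul_le_mul_left _ ?_
    obtain ⟨χ, hχ, hne⟩ :=
      CfsgLib.BlockB.exists_over_mem_principalBlock H hM ((Set.Finite.mem_toFinset _).1 hθ)
    have hm1 : 1 ≤ m χ θ := by
      rw [hm] at hne
      exact Nat.one_le_iff_ne_zero.2 (by exact_mod_cast hne)
    have hχ' : χ ∈ BG := (Set.Finite.mem_toFinset _).2 hχ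
    refine le_trans ?_ (Finset.single_le_sum (fun ψ _ => Nat.zero_le _) hχ')
    have h3 : Cfsg.charDegree (θ : H → ℂ) ≤ Cfsg.charDegree (χ : G → ℂ) := by
      rw [hdeg χ hχ']
      exact le_trans (Nat.le_mul_of_pos_left _ hm1)
        (Finset.single_le_sum (f := fun φ => m χ φ * Cfsg.charDegree (φ : H → ℂ))
          (fun ψ _ => Nat.zero_le _) hθ)
    exact h3.trans (Nat.le_mul_of_pos_left _ hm1)
  · rw [Finset.mul_sum]
    refine Finset.sum_le_sum fun θ _ => ?_
    calc Cfsg.charDegree (θ : H → ℂ) * ∑ χ ∈ BG, m χ θ * Cfsg.charDegree (χ : G → ℂ)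
        ≤ Cfsg.charDegree (θ : H → ℂ) * (H.index * Cfsg.charDegree (θ : H → ℂ)) :=
          Nat.mul_le_mul_left _ (hind θ)
      _ = H.index * Cfsg.charDegree (θ : H → ℂ) ^ 2 := by ring

end Cfsg.Agent.S4708
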