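import Cfsg.Statements.S4709
import Cfsg.Agent.Lib.BlockB.FrobPrincipal
-- import your own Cfsg.Agent.* helpers here

set_option autoImplicit false
open Cfsg

namespace Cfsg.Agent.S4709

/-- Let p be a prime, M a maximal ideal of the algebraic integers containing p, and G a finite group with a nontrivial abelian Sylow p-subgroup P; put N = N_G(P), C = C_G(P). Suppose N/C is cyclic of order m with 1 < m < #P − 1 (C has index m in N and N is generated by C and one element), and C_G(y) ∩ N = C for every non-identity y ∈ P. Put r = (#P − 1)/m. Then there is s ≤ m such that the principal p-block is the disjoint union of a set X of s characters containing the principal character and a set Y of r characters, with integers a_χ ≠ 0 (χ ∈ X), d and a sign δ = ±1, such that: every χ ∈ X takes the value a_χ at every element whose p-part is a non-identity element of P; there is a map ζ from the non-principal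 linear characters ψ of P onto Y, constant on N-conjugacy classes, with ζ_ψ(z) = d + δ·Σ ψ'(y) for every z whose p-part y is a non-identity element of P, the sum running over the N-conjugates ψ' of ψ; (d − δ)^2 + (r − 1) d^2 + Σ_{χ ∈ X} a_χ^2 = m + 1; all members of Y agree on p-regular elements; and (r d − δ) η(g) + Σ_{χ ∈ X} a_χ χ(g) = 0 for every η ∈ Y and every p-regular g. -/
theorem result {G : Type*} [Group G] [Finite G] (p : ℕ) [Fact p.Prime] (M : Ideal Cfsg.AlgInt) (hM : Cfsg.IsPModular p M) (P : Sylow p G) (hab : IsMulCommutative P) (hP1 : Nat.card P ≠ 1) (m : ℕ) (hm1 : 1 < m) (hm2 : m + 1 < Nat.card P) (hCN : (Subgroup.centralizer ((P : Subgroup G) : Set G)).relIndex (Subgroup.normalizer ((P : Subgroup G) : Set G)) = m) (hcyc : ∃ g : G, g ∈ Subgroup.normalizer ((P : Subgroup G) : Set G) ∧ Subgroup.centralizer ((P : Subgroup G) : Set G) ⊔ Subgroup.zpowers g = Subgroup.normalizer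 ((P : Subgroup G) : Set G)) (hfrob : ∀ y : G, y ∈ (P : Subgroup G) → y ≠ 1 → Subgroup.centralizer ({y} : Set G) ⊓ Subgroup.normalizer ((P : Subgroup G) : Set G) = Subgroup.centralizer ((P : Subgroup G) : Set G)) : ∃ (s : ℕ) (X Y : Set (Cfsg.IrrCharacter G)), s ≤ m ∧ Cfsg.principalBlock M G = X ∪ Y ∧ Disjoint X Y ∧ Nat.card X = s ∧ Nat.card Y = (Nat.card P - 1) / m ∧ (∃ χ₁ ∈ X, (χ₁ : G → ℂ) = fun _ => 1) ∧ ∃ (a : Cfsg.IrrCharacter G → ℤ) (d δ : ℤ) (ζ : (↥(P : Subgroup G) →* ℂˣ) → Cfsg.IrrCharacter G), (δ = 1 ∨ δ = -1) ∧ (∀ χ ∈ X, a χ ≠ 0 ∧ ∀ z y : G, Cfsg.IsPPart p z y → y ∈ (P : Subgroup G) → y ≠ 1 → (χ : G → ℂ) z = (a χ : ℂ)) ∧ (∀ ψ : ↥(P : Subgroup G) →* ℂˣ, ψ ≠ 1 → ζ ψ ∈ Y) ∧ (∀ η ∈ Y, ∃ ψ : ↥(P : Subgroup G) →* ℂˣ, ψ ≠ 1 ∧ ζ ψ = η) ∧ (∀ ψ ψ' : ↥(P : Subgroup G) →* ℂˣ, ψ ≠ 1 → (∃ n : G, n ∈ Subgroup.normalizer ((P : Subgroup G) : Set G) ∧ ∀ w w' : ↥(P : Subgroup G), (w' : G) = n *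 w * n⁻¹ → ψ' w' = ψ w) → ζ ψ' = ζ ψ) ∧ (∀ ψ : ↥(P : Subgroup G) →* ℂˣ, ψ ≠ 1 → ∀ (z : G) (y : ↥(P : Subgroup G)), Cfsg.IsPPart p z (y : G) → (y : G) ≠ 1 → (ζ ψ : G → ℂ) z = (d : ℂ) + (δ : ℂ) * ∑ᶠ ψ' ∈ {ψ' : ↥(P : Subgroup G) →* ℂˣ | ∃ n : G, n ∈ Subgroup.normalizer ((P : Subgroup G) : Set G) ∧ ∀ w w' : ↥(P : Subgroup G), (w' : G) = n * w * n⁻¹ → ψ' w' = ψ w}, ((ψ' y : ℂˣ) : ℂ)) ∧ ((d - δ) ^ 2 + ((Nat.card P - 1) / m - 1 : ℤ) * d ^ 2 + ∑ᶠ χ ∈ X, a χ ^ 2 = (m : ℤ) + 1) ∧ (∀ η ∈ Y, ∀ η' ∈ Y, ∀ g : G, ¬ p ∣ orderOf g → (η : G → ℂ) g = (η' : G → ℂ) g) ∧ (∀ η ∈ Y, ∀ g : G, ¬ p ∣ orderOf g → ((((Nat.card P - 1) / m : ℕ) : ℂ) * d - δ) * (η : G → ℂ) g + ∑ᶠ χ ∈ X, (a χ : ℂ) * (χ : G → ℂ) g = 0) := by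
  classical
  obtain ⟨r, ε, d, a, ζ, X, Y, D⟩ :=
    CfsgLib.BlockB.FrobP.exists_data hM hab hP1 hfrob hCN hm1 hm2
  have hr : (Nat.card P - 1) / m = r := by
    have h : r * m + 1 = Nat.card P := D.card_eq
    rw [← h, Nat.add_sub_cancel, Nat.mul_div_cancel _ (by omega)]
  have hs : Nat.card X ≤ m := by
    have hfin : X.Finite := Set.toFinite X
    have hn := D.norm
    rw [finsum_mem_eq_finite_toFinset_sum _ hfin] at hn
    have h1 : (hfin.toFinset.card : ℤ) ≤ ∑ χ ∈ hfin.toFinset, a χ ^ 2 := by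
      rw [Finset.card_eq_sum_ones, Nat.cast_sum]
      refine Finset.sum_le_sum fun χ hχ => ?_
      have h := D.a_ne χ (hfin.mem_toFinset.1 hχ)
      have := mul_self_pos.2 h
      push_cast
      nlinarith
    have h2 : (1 : ℤ) ≤ (d - ε) ^ 2 + ((r : ℤ) - 1) * d ^ 2 := by
      have := D.two_le
      have hr1 : (1 : ℤ) ≤ (r : ℤ) - 1 := by omega
      rcases eq_or_ne d 0 with rfl | hd
      · rcases D.sign with h | h <;> subst h <;> norm_num
      · have := mul_self_pos.2 hd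
        nlinarith [sq_nonneg (d - ε), sq_nonneg d]
    rw [Nat.card_eq_card_finite_toFinset hfin]
    omega
  refine ⟨Nat.card X, X, Y, hs, D.union, D.disj, rfl, by rw [hr]; exact D.card_Y,
    ⟨_, D.one_mem, rfl⟩, a, d, ε, ζ, D.sign,
    fun χ hχ => ⟨D.a_ne χ hχ, fun z y hz hy h1 =>
      D.val_X χ hχ z ⟨y, hy⟩ hz (fun h => h1 (congrArg Subtype.val h))⟩,
    fun ψ hψ => (D.mem_Y _).2 ⟨ψ, hψ, rfl⟩, fun η hη => (D.mem_Y η).1 hη, ?_, ?_, ?_, D.regular,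
    ?_⟩
  · intro ψ ψ' hψ h
    obtain ⟨n, hn⟩ := (CfsgLib.BlockB.FrobP.exists_cl_iff P ψ ψ').1 h
    have hψ' : ψ' ≠ 1 := fun e => hψ ((CfsgLib.BlockB.FrobP.cl_eq_one_iff n ψ).1 (hn ▸ e))
    exact ((D.zeta_eq ψ ψ' hψ hψ').2 ⟨n, hn⟩).symm
  · intro ψ hψ z y hz hy
    rw [D.val_Y ψ hψ z y hz (fun h => hy (by rw [h]; rfl))]
    simp only [CfsgLib.BlockB.FrobP.exists_cl_iff]
  · have hrz : ((Nat.card P : ℤ) - 1) / (m : ℤ) = r := by
      have h : r * m + 1 = Nat.card P := D.card_eq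
      rw [← h]
      push_cast
      rw [add_sub_cancel_right, Int.mul_ediv_cancel _ (by omega)]
    rw [hrz]
    exact D.norm
  · intro η hη g hg
    rw [hr]
    exact D.relation η hη g hg

end Cfsg.Agent.S4709
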