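import Cfsg.Statements.S4714
import Cfsg.Agent.Lib.BlockB.StarNilpotent
import Cfsg.Agent.Lib.Clifford.Degrees
import Cfsg.Agent.Lib.BlockA.NormalBlock

set_option autoImplicit false
open Cfsg

namespace Cfsg.Agent.S4714

/-- Let p be a prime, M a maximal ideal of the algebraic integers containing p, D a p-subgroup of the finite group G with G = D·C_G(D), and B a p-block with defect group D. Let χ be a member of B having D in its kernel (there is exactly one, the canonical character of B). Then the irreducible characters in B are exactly the functions θ on G for which there is an irreducible character ζ of D such that θ(yx) = ζ(y)χ(x) whenever y ∈ D, x has order prime to p and x commutes with y, and θ(z) = 0 whenever the p-part of z does not lie in D. -/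
theorem result {G : Type*} [Group G] [Finite G] (p : ℕ) [Fact p.Prime] (M : Ideal Cfsg.AlgInt) (hM : Cfsg.IsPModular p M) (D : Subgroup G) (hD : IsPGroup p D) (hG : D ⊔ Subgroup.centralizer (D : Set G) = ⊤) (B : Set (Cfsg.IrrCharacter G)) (hB : Cfsg.IsPBlock M B) (hBD : Cfsg.IsDefectGroup p M B D) (χ : Cfsg.IrrCharacter G) (hχ : χ ∈ B) (hχD : ∀ y ∈ D, (χ : G → ℂ) y = (χ : G → ℂ) 1) : (∀ θ : Cfsg.IrrCharacter G, θ ∈ B ↔ ∃ ζ : Cfsg.IrrCharacter D, (∀ (y : D) (x : G), ¬ p ∣ orderOf x → Commute (y : G) x → (θ : G → ℂ) ((y : G) * x) = (ζ : D → ℂ) y * (χ : G → ℂ) x) ∧ (∀ z : G, (∀ y : G, Cfsg.IsPPart p z y → y ∉ D) → (θ : G → ℂ) z = 0)) ∧ ∀ ζ : Cfsg.IrrCharacter D, ∃ θ ∈ B, (∀ (y : D) (x : G), ¬ p ∣ orderOf x → Commute (y : G) x → (θ : G → ℂ) ((y : G) * x) = (ζ : D → ℂ) y * (χ : G → ℂ) x) ∧ (∀ z : G, (∀ y : G, Cfsg.IsPPart p z y → y ∉ D) → (θ : G → ℂ) z = 0) := by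
  classical
  have := Fintype.ofFinite G
  have := CfsgLib.Block.isPrime_of_pmodular hM
  have hnorm : ∀ g : G, ∃ d ∈ D, ∃ c ∈ Subgroup.centralizer (D : Set G), d * c = g := by
    intro g
    have hle : D ≤ Subgroup.normalizer ((Subgroup.centralizer (D : Set G) : Subgroup G) : Set G) :=
      (Subgroup.le_normalizer).trans (CfsgLib.BlockA.normalizer_le_normalizer_centralizer hM D)
    have hg : g ∈ ((D ⊔ Subgroup.centralizer (D : Set G) : Subgroup G) : Set G) := by
      rw [hG]; trivial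
    rw [Subgroup.coe_mul_of_left_le_normalizer_right D _ hle] at hg
    exact Set.mem_mul.1 hg
  have hDn : D.Normal := ⟨fun n hn g => by
    obtain ⟨d, hd, c, hc, rfl⟩ := hnorm g
    have h1 : d * c * n * (d * c)⁻¹ = d * n * d⁻¹ := by
      calc d * c * n * (d * c)⁻¹ = d * (c * n) * c⁻¹ * d⁻¹ := by group
        _ = d * (n * c) * c⁻¹ * d⁻¹ := by rw [Subgroup.mem_centralizer_iff.1 hc n hn]
        _ = _ := by group
    rw [h1]
    exact D.mul_mem (D.mul_mem hd hn) (D.inv_mem hd)⟩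
  have hidx : ∃ k : ℕ, (Subgroup.centralizer (D : Set G)).index = p ^ k := by
    obtain ⟨n, hn⟩ := IsPGroup.iff_card.1 hD
    have h1 : (Subgroup.centralizer (D : Set G)).relIndex D = (Subgroup.centralizer (D : Set G)).index := by
      rw [← Subgroup.relIndex_sup_right, hG, Subgroup.relIndex_top_right]
    obtain ⟨k, -, hk⟩ := (Nat.dvd_prime_pow (Fact.out : p.Prime)).1
      (hn ▸ Subgroup.relIndex_dvd_card (Subgroup.centralizer (D : Set G)) D)
    exact ⟨k, by rw [← h1, hk]⟩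
  have hnil : Cfsg.IsNilpotentBlock p M B := by
    refine ⟨hB, fun Q f hf x _ _ hreg => ?_⟩
    have hxC := CfsgLib.Block.mem_of_regular_of_index hM hidx hreg
    obtain ⟨c, hc, hc0⟩ : ∃ c ∈ Subgroup.centralizer (Q : Set G),
        (CfsgLib.Block.blkIdem M B : MonoidAlgebra (CfsgLib.Block.kres M) G).coeff c ≠ 0 := by
      obtain ⟨ξ, hξ⟩ := CfsgLib.Block.isPBlock_nonempty hf.1.2
      have hv := (CfsgLib.BlockA.isBrauerPairOf_iff hM hf.1 hB hξ).1 hf
      by_contra h
      push Not at h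
      have h0 : CfsgLib.Block.resSub (Subgroup.centralizer (Q : Set G))
          (CfsgLib.Block.blkIdem M B : MonoidAlgebra (CfsgLib.Block.kres M) G) = 0 := by
        ext c
        rw [CfsgLib.Block.coeff_resSub]
        simpa using h c c.2
      rw [CfsgLib.BlockA.pairVal_eq ξ (CfsgLib.BlockA.isCInv_of_isClassCoeff
        (CfsgLib.Block.isClassCoeff_center (CfsgLib.Block.blkIdem M B)))] at hv
      simp only [h0] at hv
      exact zero_ne_one ((map_zero (CfsgLib.Block.lam M ξ)).symm.trans hv)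
    obtain ⟨a, ha⟩ := (CfsgLib.Block.exists_le_conj_iff_coeff hM hB hBD hf.1.1).1 ⟨c, hc, hc0⟩
    have hQD : Q ≤ D := fun q hq => by
      obtain ⟨d, hd, e⟩ := ha hq
      rw [← e]
      exact hDn.conj_mem d hd a
    exact Subgroup.centralizer_le hQD hxC
  obtain ⟨e, hmax⟩ := CfsgLib.BlockA.DefectOneStar.exists_maximal_pair hM hB hBD
  have hχ0 : Cfsg.blockHeight p B (χ : G → ℂ) = 0 := by
    obtain ⟨ψ, hψ, hχψ⟩ := CfsgLib.Char.isIrr_quotient_lift D χ.2 hχD
    have hdeg : Cfsg.charDegree (χ : G → ℂ) = Cfsg.charDegree ψ := by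
      have h1 := CfsgLib.Block.charDegree_cast (CfsgLib.Char.irr_isCharacter χ.2)
      have h2 := CfsgLib.Block.charDegree_cast (CfsgLib.Char.irr_isCharacter hψ)
      have h3 : (χ : G → ℂ) 1 = ψ 1 := by
        rw [hχψ]
        show ψ ((1 : G) : G ⧸ D) = ψ 1
        rw [QuotientGroup.mk_one]
      rw [← h1, ← h2] at h3
      exact_mod_cast h3
    have hdvd : Cfsg.charDegree ψ ∣ Nat.card (G ⧸ D) := CfsgLib.Clifford.Degrees.charDegree_dvd_card hψ
    have hfac := (Nat.factorization_le_iff_dvd (hdeg ▸ CfsgLib.Block.charDegree_ne_zero χ.2)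
      Nat.card_pos.ne').2 hdvd p
    rw [← hdeg, ← Subgroup.index_eq_card] at hfac
    have hcard : D.index.factorization p + Cfsg.blockDefect p B =
        (Nat.card G).factorization p := by
      rw [← D.index_mul_card, Nat.factorization_mul Subgroup.index_ne_zero_of_finite
        Nat.card_pos.ne', Finsupp.add_apply, CfsgLib.Block.natCard_defectGroup hM hB hBD,
        (Fact.out : p.Prime).factorization_pow, Finsupp.single_eq_same]
    unfold Cfsg.blockDefect at hcard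
    have hle : sInf ((fun ψ : Cfsg.IrrCharacter G =>
        (Cfsg.charDegree (ψ : G → ℂ)).factorization p) '' B) ≤
        (Cfsg.charDegree (χ : G → ℂ)).factorization p := Nat.sInf_le ⟨χ, hχ, rfl⟩
    unfold Cfsg.blockHeight
    omega
  obtain ⟨Φ, hΦ⟩ := CfsgLib.BlockB.Star.exists_star_equiv hM hmax hnil hχ hχ0
  -- the values of the products
  have hst : ∀ ζ : Cfsg.IrrCharacter D,
      CfsgLib.BlockB.Star.IsStable p M D e (ζ : D → ℂ) := fun ζ =>
    CfsgLib.BlockB.Star.isStable_of_nilpotent hM hmax hnil (CfsgLib.Char.irr_isClassFunction ζ.2)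
  have hval : ∀ (ζ : Cfsg.IrrCharacter D) (g y : G), Cfsg.IsPPart p g y →
      CfsgLib.BlockB.Star.star p M D e (χ : G → ℂ) (ζ : D → ℂ) g =
        if hy : y ∈ D then (ζ : D → ℂ) ⟨y, hy⟩ * (χ : G → ℂ) g else 0 := by
    intro ζ g y hy
    have hkey : ∀ (lam : D → ℂ), Cfsg.IsClassFunction D lam →
        CfsgLib.BlockB.Star.IsStable p M D e lam → ∀ β,
        CfsgLib.BlockB.Star.L p M D e lam y β =
          if hy : y ∈ D then lam ⟨y, hy⟩ *
            CfsgLib.BlockB.Star.L p M D e (fun _ => 1) y β else 0 := by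
      intro lam hlam hs β
      by_cases h : ∃ z, CfsgLib.BlockB.Star.Rep p M D e y β z
      · obtain ⟨z, hz⟩ := h
        rw [CfsgLib.BlockB.Star.L_eq hM hmax.1.1 hs hz,
          CfsgLib.BlockB.Star.L_eq hM hmax.1.1 (fun _ _ _ _ _ => rfl) hz]
        obtain ⟨a, f, ha, -, -⟩ := hz
        rw [dif_pos (ha ▸ hDn.conj_mem z z.2 a), mul_one]
        obtain ⟨d, hd, c, hc, rfl⟩ := hnorm a
        rw [← hlam z ⟨d, hd⟩]
        congr 1
        apply Subtype.ext
        show d * (z : G) * d⁻¹ = y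
        rw [← ha]
        calc d * (z : G) * d⁻¹ = d * ((z : G) * c) * c⁻¹ * d⁻¹ := by group
          _ = d * (c * (z : G)) * c⁻¹ * d⁻¹ := by rw [Subgroup.mem_centralizer_iff.1 hc z z.2]
          _ = _ := by group
      · push Not at h
        rw [CfsgLib.BlockB.Star.L_eq_zero hM hmax.1.1 h,
          CfsgLib.BlockB.Star.L_eq_zero hM hmax.1.1 h]
        simp
    have h1 := congrFun (CfsgLib.BlockB.Star.star_one hM hmax hχ) g
    unfold CfsgLib.BlockB.Star.star at h1 ⊢
    rw [CfsgLib.BlockB.Star.ppart_eq hM.1 hy] at h1 ⊢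
    by_cases hyD : y ∈ D
    · rw [dif_pos hyD, ← h1, Finset.mul_sum]
      refine Finset.sum_congr rfl fun β _ => ?_
      rw [hkey _ (CfsgLib.Char.irr_isClassFunction ζ.2) (hst ζ) β, dif_pos hyD, mul_assoc]
    · rw [dif_neg hyD]
      refine Finset.sum_eq_zero fun β _ => ?_
      rw [hkey _ (CfsgLib.Char.irr_isClassFunction ζ.2) (hst ζ) β, dif_neg hyD, zero_mul]
  have hpart : ∀ (y : D) (x : G), ¬ p ∣ orderOf x → Commute (y : G) x →
      Cfsg.IsPPart p ((y : G) * x) (y : G) := fun y x hx hc => by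
    obtain ⟨k, hk⟩ := IsPGroup.iff_orderOf.1 hD y
    exact ⟨x, rfl, hc, ⟨k, by rw [Subgroup.orderOf_coe, hk]⟩, hx⟩
  have hker : ∀ (y : D) (x : G), (χ : G → ℂ) ((y : G) * x) = (χ : G → ℂ) x := by
    intro y x
    obtain ⟨ψ, -, hχψ⟩ := CfsgLib.Char.isIrr_quotient_lift D χ.2 hχD
    rw [hχψ]
    show ψ (QuotientGroup.mk' D ((y : G) * x)) = ψ (QuotientGroup.mk' D x)
    rw [map_mul, show QuotientGroup.mk' D (y : G) = 1 from (QuotientGroup.eq_one_iff _).2 y.2,
      one_mul]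
  have hform : ∀ ζ : Cfsg.IrrCharacter D,
      (∀ (y : D) (x : G), ¬ p ∣ orderOf x → Commute (y : G) x →
        ((Φ ζ : B) : Cfsg.IrrCharacter G).1 ((y : G) * x) = (ζ : D → ℂ) y * (χ : G → ℂ) x) ∧
      (∀ z : G, (∀ y : G, Cfsg.IsPPart p z y → y ∉ D) →
        ((Φ ζ : B) : Cfsg.IrrCharacter G).1 z = 0) := by
    intro ζ
    refine ⟨fun y x hx hc => ?_, fun z hz => ?_⟩
    · rw [hΦ ζ, hval ζ _ _ (hpart y x hx hc), dif_pos y.2, hker y x]
    · obtain ⟨y, hy⟩ := CfsgLib.Block.exists_isPPart (Fact.out : p.Prime) z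
      rw [hΦ ζ, hval ζ _ _ hy, dif_neg (hz y hy)]
  refine ⟨fun θ => ⟨fun hθ => ?_, fun hθ => ?_⟩, fun ζ => ⟨_, (Φ ζ).2, hform ζ⟩⟩
  · obtain ⟨ζ, hζ⟩ := Φ.surjective ⟨θ, hθ⟩
    have h := hform ζ
    rw [hζ] at h
    exact ⟨ζ, h⟩
  · obtain ⟨ζ, h1, h2⟩ := hθ
    have heq : θ = ((Φ ζ : B) : Cfsg.IrrCharacter G) := Subtype.ext (funext fun z => by
      obtain ⟨y, hy⟩ := CfsgLib.Block.exists_isPPart (Fact.out : p.Prime) z
      by_cases hyD : y ∈ D
      · obtain ⟨x, hxz, hc, -, hx⟩ := id hy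
        have e1 := h1 ⟨y, hyD⟩ x hx hc
        have e2 := (hform ζ).1 ⟨y, hyD⟩ x hx hc
        rw [← hxz]
        exact e1.trans e2.symm
      · have hall : ∀ y' : G, Cfsg.IsPPart p z y' → y' ∉ D := fun y' hy' => by
          rwa [CfsgLib.Block.isPPart_unique hM.1 hy' hy]
        rw [h2 z hall, (hform ζ).2 z hall])
    rw [heq]
    exact (Φ ζ).2

end Cfsg.Agent.S4714
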