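import Cfsg.Statements.S4715
import Cfsg.Agent.Lib.BlockB.HeightBound
-- import your own Cfsg.Agent.* helpers here

set_option autoImplicit false
open Cfsg

namespace Cfsg.Agent.S4715

/-- Let p be a prime, M a maximal ideal of the algebraic integers containing p, B a p-block of the finite group G with defect group D of order p^d, H = D·C_G(D), b a block of H inducing B, T the stabilizer of b in N_G(D) and e = [T : H] the inertial index of B; let n be the integer with p^n ≤ e < p^(n+1) and p^c the order of the centre of D. Then every irreducible character in B has height h with h + c ≤ n + d. -/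
theorem result {G : Type*} [Group G] [Finite G] (p : ℕ) [Fact p.Prime] (M : Ideal Cfsg.AlgInt) (hM : Cfsg.IsPModular p M) (B : Set (Cfsg.IrrCharacter G)) (hB : Cfsg.IsPBlock M B) (D : Subgroup G) (hBD : Cfsg.IsDefectGroup p M B D) (d : ℕ) (hDd : Nat.card D = p ^ d) (H : Subgroup G) (hH : H = D ⊔ Subgroup.centralizer (D : Set G)) (b : Set (Cfsg.IrrCharacter H)) (hind : Cfsg.IsInducedBlock M H b B) (T : Subgroup G) (hT : ∀ g : G, g ∈ T ↔ (g ∈ Subgroup.normalizer (D : Set G) ∧ ∀ θ ∈ b, ∀ θ' : Cfsg.IrrCharacter H, (∀ h h' : H, (h' : G) = g * h * g⁻¹ → (θ' : H → ℂ) h' = (θ : H → ℂ) h) → θ' ∈ b)) (e : ℕ) (he : H.relIndex T = e) (n : ℕ) (hn : p ^ n ≤ e ∧ e < p ^ (n + 1)) (c : ℕ) (hc : Nat.card (Subgroup.center D) = p ^ c) : ∀ χ ∈ B, Cfsg.blockHeight p B (χ : G → ℂ) + c ≤ n + d := by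
  classical
  have := CfsgLib.Block.isPrime_of_pmodular hM
  have := Fintype.ofFinite G
  have hDp := CfsgLib.Block.isPGroup_defectGroup hM hB hBD
  have hDH : D ≤ H := hH ▸ le_sup_left
  have hCH : Subgroup.centralizer (D : Set G) ≤ H := hH ▸ le_sup_right
  have hHN : H ≤ Subgroup.normalizer (D : Set G) :=
    hH ▸ sup_le Subgroup.le_normalizer (Subgroup.centralizer_le_normalizer _)
  have hnor : (D.subgroupOf H).Normal :=
    CfsgLib.BlockB.PiKer.normal_subgroupOf_of_le_normalizer hHN
  obtain ⟨E, hE⟩ := CfsgLib.Block.exists_isDefectGroup hM hind.1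
  have hle := CfsgLib.Block.normal_le_defectGroup (Q := D.subgroupOf H) hM
    (hDp.comap_subtype : IsPGroup p (D.subgroupOf H)) hind.1 hE
  obtain ⟨x, hx, hx0⟩ := CfsgLib.BlockB.PiKer.exists_coeff_defect hM hind.1 hE
    (hDp.comap_subtype : IsPGroup p (D.subgroupOf H)) hle
  have hmap : (D.subgroupOf H).map H.subtype = D := by
    rw [Subgroup.subgroupOf_map_subtype, inf_eq_left.2 hDH]
  replace hx : x ∈ Subgroup.centralizer (D : Set G) := by rw [← hmap]; exact hx
  obtain ⟨f, hf, -, hlam⟩ :=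
    CfsgLib.BlockB.exists_below hM hDp hDH hCH hind.1 ⟨x, hx, hx0⟩
  obtain ⟨B', hB', hpair⟩ := CfsgLib.BlockB.exists_induced hM hDp hDH hCH hind.1 hf hlam
  obtain rfl : B' = B := CfsgLib.Block.isInducedBlock_unique H hB' hind
  have hmax := CfsgLib.BlockA.isMaximal_of_card hM hpair hBD le_rfl
  have hd : Cfsg.blockDefect p B' = d := by
    have h := CfsgLib.Block.natCard_defectGroup hM hB hBD
    rw [hDd] at h
    exact (Nat.pow_right_injective (Fact.out : p.Prime).two_le h).symm
  have hstab : ∀ t ∈ CfsgLib.BlockA.pairStab M D f, t ∈ T := by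
    intro t ht
    refine (hT t).2 ⟨ht.1, fun θ hθ θ' hθ' =>
      CfsgLib.BlockB.HeightBound.mem_of_pairStab hM hf.2 hCH hind.1 hlam ht ?_ hθ hθ'⟩
    rw [hH, Subgroup.map_sup, CfsgLib.BlockA.map_conj_centralizer,
      CfsgLib.BlockA.map_conj_of_mem_normalizer ht.1]
  intro χ hχ
  have key := CfsgLib.BlockB.HeightBound.height_le hM hmax (m := e) ?_ hχ hc
  · rw [hd] at key
    have hp1 := (Fact.out : p.Prime).one_lt
    have hlt : p ^ (c + Cfsg.blockHeight p B' (χ : G → ℂ)) < p ^ (n + 1 + d) := by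
      rw [pow_add p (n + 1) d]
      exact key.trans_lt (mul_lt_mul_of_pos_right hn.2 (pow_pos (Fact.out : p.Prime).pos d))
    have := (Nat.pow_lt_pow_iff_right hp1).1 hlt
    omega
  · intro z hz hzc
    have hHz : ∀ h ∈ H, h * z * h⁻¹ = z := by
      intro h hh
      have : H ≤ Subgroup.centralizer ({z} : Set G) := by
        rw [hH]
        refine sup_le (fun w hw => Subgroup.mem_centralizer_singleton_iff.2 (hzc w hw))
          (fun w hw => Subgroup.mem_centralizer_singleton_iff.2
            (Subgroup.mem_centralizer_iff.1 hw z hz).symm)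
      rw [Subgroup.mem_centralizer_singleton_iff.1 (this hh), mul_inv_cancel_right]
    let F : T ⧸ H.subgroupOf T → G := Quotient.lift (fun t : T => (t : G) * z * (t : G)⁻¹) (by
      intro a b hab
      have hab' : (a : G)⁻¹ * b ∈ H := Subgroup.mem_subgroupOf.1 (QuotientGroup.leftRel_apply.1 hab)
      show (a : G) * z * (a : G)⁻¹ = (b : G) * z * (b : G)⁻¹
      conv_lhs => rw [← hHz _ hab']
      group)
    have := Fintype.ofFinite (T ⧸ H.subgroupOf T)
    refine ⟨Finset.univ.image F, ?_, fun t ht =>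
      Finset.mem_image.2 ⟨((⟨t, hstab t ht⟩ : T) : T ⧸ H.subgroupOf T), Finset.mem_univ _, rfl⟩⟩
    refine Finset.card_image_le.trans (le_of_eq ?_)
    rw [Finset.card_univ, ← Nat.card_eq_fintype_card, ← he]
    rfl

end Cfsg.Agent.S4715
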