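import Cfsg.Statements.S4717
import Cfsg.Agent.Lib.BlockB.InducingDefect
import Cfsg.Agent.S0936

set_option autoImplicit false
open Cfsg

namespace Cfsg.Agent.S4717

/-- Let p be a prime, M a maximal ideal of the algebraic integers containing p, and r a natural number; say that a finite group X has deficiency class r when X has no non-principal p-block of defect ≥ r. If G has deficiency class r then so does the centralizer of every p-element of G; conversely, if r > 0 and the centralizer of every element of order p has deficiency class r, then G has deficiency class r. -/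
theorem result {G : Type*} [Group G] [Finite G] (p : ℕ) [Fact p.Prime] (M : Ideal Cfsg.AlgInt) (hM : Cfsg.IsPModular p M) (r : ℕ) : ((∀ B' : Set (Cfsg.IrrCharacter G), Cfsg.IsPBlock M B' → B' ≠ Cfsg.principalBlock M G → Cfsg.blockDefect p B' < r) → ∀ y : G, (∃ k : ℕ, orderOf y = p ^ k) → (∀ B' : Set (Cfsg.IrrCharacter ↥(Subgroup.centralizer ({y} : Set G))), Cfsg.IsPBlock M B' → B' ≠ Cfsg.principalBlock M ↥(Subgroup.centralizer ({y} : Set G)) → Cfsg.blockDefect p B' < r)) ∧ (0 < r → (∀ y : G, orderOf y = p → (∀ B' : Set (Cfsg.IrrCharacter ↥(Subgroup.centralizer ({y} : Set G))), Cfsg.IsPBlock M B' → B' ≠ Cfsg.principalBlock M ↥(Subgroup.centralizer ({y} : Set G)) → Cfsg.blockDefect p B' < r)) → (∀ B' : Set (Cfsg.IrrCharacter G), Cfsg.IsPBlock M B' → B' ≠ Cfsg.principalBlock M G → Cfsg.blockDefect p B' < r)) := by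
  classical
  have := CfsgLib.Block.isPrime_of_pmodular hM
  have hfacts : ∀ y : G, Subgroup.centralizer ((Subgroup.zpowers y : Subgroup G) : Set G) ≤
      Subgroup.centralizer ({y} : Set G) ∧ Subgroup.centralizer ({y} : Set G) ≤
        Subgroup.normalizer ((Subgroup.zpowers y : Subgroup G) : Set G) ∧
      Subgroup.zpowers y ≤ Subgroup.centralizer ({y} : Set G) := by
    intro y
    refine ⟨fun c hc => Subgroup.mem_centralizer_singleton_iff.2
      (Subgroup.mem_centralizer_iff.1 hc y (Subgroup.mem_zpowers y)).symm, ?_,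
      Subgroup.zpowers_le.2 (Subgroup.mem_centralizer_singleton_iff.2 rfl)⟩
    intro c hc
    refine Subgroup.centralizer_le_normalizer _ ?_
    rw [Subgroup.mem_centralizer_iff]
    rintro _ ⟨n, rfl⟩
    exact ((show Commute c y from Subgroup.mem_centralizer_singleton_iff.1 hc).symm.zpow_left n).eq
  refine ⟨fun hG y hy b hb hne => ?_, fun hr hC B hB hne => ?_⟩
  · by_contra hlt
    push Not at hlt
    obtain ⟨hCH, hHN, hPH⟩ := hfacts y
    have hP : IsPGroup p (Subgroup.zpowers y) := by
      obtain ⟨k, hk⟩ := hy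
      exact IsPGroup.of_card (n := k) (by rw [Nat.card_zpowers, hk])
    obtain ⟨B, hB⟩ := CfsgLib.Block.exists_isInducedBlock_of_normalizer hM hP hPH hCH hHN hb
    refine absurd (hG B hB.2.1 fun e => hne ?_)
      (not_lt.2 (hlt.trans (CfsgLib.BlockB.blockDefect_le_of_induced hM hB)))
    exact (Cfsg.Agent.S0936.result p M hM _ b ⟨B, hB⟩).1 (e ▸ hB)
  · by_contra hlt
    push Not at hlt
    obtain ⟨D, hD⟩ := CfsgLib.Block.exists_isDefectGroup hM hB
    have hDp := CfsgLib.Block.isPGroup_defectGroup hM hB hD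
    have hDc := CfsgLib.Block.natCard_defectGroup hM hB hD
    have hD1 : Nontrivial D := by
      rw [← Finite.one_lt_card_iff_nontrivial, hDc]
      exact Nat.one_lt_pow (by omega) hM.1.one_lt
    have := hDp.center_nontrivial
    obtain ⟨y, hy⟩ := exists_prime_orderOf_dvd_card' (G := Subgroup.center D) p (by
      obtain ⟨j, hj⟩ := IsPGroup.iff_card.1 (hDp.to_subgroup (Subgroup.center D))
      rw [hj]
      refine dvd_pow_self p fun e => ?_
      rw [e, pow_zero] at hj
      exact Finite.one_lt_card.ne' hj)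
    rw [Subgroup.orderOf_coe (y : Subgroup.center D) |>.symm,
      ← Subgroup.orderOf_coe (y : D)] at hy
    obtain ⟨hCH, hHN, hPH⟩ := hfacts ((y : D) : G)
    have hDH : D ≤ Subgroup.centralizer ({((y : D) : G)} : Set G) := fun d hd =>
      Subgroup.mem_centralizer_singleton_iff.2
        (congrArg Subtype.val (Subgroup.mem_center_iff.1 y.2 ⟨d, hd⟩))
    obtain ⟨c, hc, hcne⟩ := (CfsgLib.Block.exists_le_conj_iff_coeff hM hB hD hDp).2
      ⟨1, by rw [CfsgLib.Block.map_conj_one]⟩
    have hcP : c ∈ Subgroup.centralizer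
        ((Subgroup.zpowers ((y : D) : G) : Subgroup G) : Set G) := by
      rw [Subgroup.mem_centralizer_iff]
      intro u hu
      exact Subgroup.mem_centralizer_iff.1 hc u (Subgroup.zpowers_le.2 (y : D).2 hu)
    obtain ⟨b, hb, E, hE, hle⟩ := CfsgLib.BlockB.exists_inducing_ge hM
      (IsPGroup.of_card (n := 1) (by rw [Nat.card_zpowers, hy, pow_one])) hPH hCH hHN hB hcP hcne
      hDp hDH hc
    rw [hDc, CfsgLib.Block.natCard_defectGroup hM hb.1 hE,
      Nat.pow_le_pow_iff_right hM.1.one_lt] at hle
    refine absurd (hC _ hy b hb.1 fun e => hne ?_) (not_lt.2 (hlt.trans hle))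
    exact CfsgLib.Block.isInducedBlock_unique _ hb
      ((Cfsg.Agent.S0936.result p M hM _ b ⟨B, hb⟩).2 e)

end Cfsg.Agent.S4717
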