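import Cfsg.Statements.S4718
import Cfsg.Agent.Lib.BlockB.Landau
import Cfsg.Agent.Lib.BlockA.HeightZero
import Cfsg.Agent.Lib.BlockA.Regular

set_option autoImplicit false
universe u
open Cfsg

namespace Cfsg.Agent.S4718

/-- Let p be a prime and a a natural number. There is a bound N such that every finite group whose Sylow p-subgroups have order p^a and whose only p-block (relative to a maximal ideal of the algebraic integers containing p) is the principal block has order at most N. -/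
theorem result (p : ℕ) [Fact p.Prime] (a : ℕ) : ∃ N : ℕ, ∀ (G : Type u) [Group G] [Finite G] (M : Ideal Cfsg.AlgInt), Cfsg.IsPModular p M → (Nat.card G).factorization p = a → (∀ B : Set (Cfsg.IrrCharacter G), Cfsg.IsPBlock M B → B = Cfsg.principalBlock M G) → Nat.card G ≤ N := by
  obtain ⟨N, hN⟩ := CfsgLib.BlockB.exists_bound_of_classCount.{u} (p ^ a * p ^ a)
  refine ⟨N, fun G _ _ M hM ha hone => hN G ?_⟩
  classical
  have := Fintype.ofFinite G
  have := Fintype.ofFinite (Cfsg.IrrCharacter G)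
  have := CfsgLib.Block.isPrime_of_pmodular hM
  set B := Cfsg.principalBlock M G
  have hB : Cfsg.IsPBlock M B := CfsgLib.Block.isPBlock_principalBlock
  let χ0 : Cfsg.IrrCharacter G := CfsgLib.Block.trivIrr
  have hχ0 : χ0 ∈ B := CfsgLib.Block.one_mem_principalBlock
  have hall : ∀ ξ : Cfsg.IrrCharacter G, ξ ∈ B := fun ξ =>
    hone _ (CfsgLib.Block.isPBlock_blockOf ξ) ▸ CfsgLib.Block.mem_blockOf_self ξ
  have hdeg : (Cfsg.charDegree (χ0 : G → ℂ)).factorization p = 0 := by
    have h : Cfsg.charDegree (χ0 : G → ℂ) = 1 := by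
      simp [Cfsg.charDegree, χ0, CfsgLib.Block.trivIrr]
    simp [h]
  have h0 : Cfsg.blockHeight p B (χ0 : G → ℂ) = 0 := by
    unfold Cfsg.blockHeight
    rw [hdeg, Nat.zero_sub]
  set q : ℕ := p ^ a with hq
  let θ : G → ℂ := fun g => (q : ℂ) * CfsgLib.BlockA.regInd p g
  have hθ : Cfsg.IsGeneralizedCharacter G θ := by
    have h := CfsgLib.BlockA.isGeneralized_regInd (G := G) (p := p)
    rwa [ha] at h
  choose c hc using fun ξ : Cfsg.IrrCharacter G =>
    CfsgLib.Char.classInner_isGeneralized_int hθ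
      (CfsgLib.Char.isGeneralized_of_isCharacter (CfsgLib.Char.irr_isCharacter ξ.2))
  have hcne : ∀ ξ, c ξ ≠ 0 := fun ξ hc0 => by
    have hreg := (CfsgLib.BlockA.not_memLocalIdeal_regPair_iff hM hB hχ0 (hall ξ)).2 h0
    apply hreg
    have h1 : CfsgLib.BlockA.regPair p (χ0 : G → ℂ) (ξ : G → ℂ) = 0 := by
      have h2 := hc ξ
      rw [hc0, Int.cast_zero, CfsgLib.Char.classInner_def, mul_eq_zero] at h2
      have h3 := h2.resolve_left (inv_ne_zero CfsgLib.Char.natCard_ne_zero)
      simp only [θ, mul_assoc, ← Finset.mul_sum, mul_eq_zero] at h3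
      have hq0 : (q : ℂ) ≠ 0 := by exact_mod_cast (pow_pos hM.1.pos a).ne'
      rw [← h3.resolve_left hq0, CfsgLib.BlockA.regPair]
      refine Finset.sum_congr rfl fun g _ => ?_
      rw [CfsgLib.Char.char_inv (CfsgLib.Char.irr_isCharacter ξ.2) g]
      simp [χ0, CfsgLib.Block.trivIrr]
    rw [h1, zero_div]
    exact CfsgLib.Block.memLocalIdeal_zero
  have hpars : ((∑ ξ : Cfsg.IrrCharacter G, c ξ ^ 2 : ℤ) : ℂ) = Cfsg.classInner θ θ := by
    conv_rhs => arg 2; rw [CfsgLib.Char.classFunction_eq_sum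
      (CfsgLib.Char.isGeneralized_isClassFunction hθ)]
    rw [CfsgLib.Char.classInner_sum_right, Int.cast_sum]
    refine Finset.sum_congr rfl fun ξ _ => ?_
    rw [CfsgLib.Char.classInner_smul_right, hc ξ, map_intCast]
    push_cast
    ring
  have hbound : (∑ ξ : Cfsg.IrrCharacter G, c ξ ^ 2 : ℤ) ≤ (q * q : ℕ) := by
    have h2 := congrArg Complex.re hpars
    rw [CfsgLib.Char.classInner_self_eq_norm, Complex.intCast_re, Complex.ofReal_re] at h2
    have h3 : (∑ g : G, ‖θ g‖ ^ 2) ≤ (Nat.card G : ℝ) * (q : ℝ) ^ 2 := by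
      refine (Finset.sum_le_card_nsmul _ _ ((q : ℝ) ^ 2) fun g _ => ?_).trans_eq ?_
      · simp only [θ, CfsgLib.BlockA.regInd]
        split_ifs <;> simp
      · rw [Finset.card_univ, nsmul_eq_mul, Nat.card_eq_fintype_card]
    have hG0 : (0 : ℝ) < Nat.card G := by exact_mod_cast Nat.card_pos
    have h4 : ((∑ ξ : Cfsg.IrrCharacter G, c ξ ^ 2 : ℤ) : ℝ) ≤ ((q * q : ℕ) : ℝ) := by
      rw [h2, inv_mul_le_iff₀ hG0]
      push_cast
      rw [← sq]
      exact h3
    exact_mod_cast h4
  have hcard : (Fintype.card (Cfsg.IrrCharacter G) : ℤ) ≤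
      ∑ ξ : Cfsg.IrrCharacter G, c ξ ^ 2 := by
    rw [← Finset.card_univ, Finset.cast_card]
    refine Finset.sum_le_sum fun ξ _ => ?_
    have : 0 < c ξ ^ 2 := by have := hcne ξ; positivity
    exact this
  rw [← CfsgLib.Char.irr_card_eq, Nat.card_eq_fintype_card]
  exact_mod_cast hcard.trans hbound

end Cfsg.Agent.S4718
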