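import Cfsg.Statements.S4719
import Cfsg.Agent.Lib.BlockB.FourBound
import Cfsg.Agent.Lib.BlockB.InducingDefect
import Cfsg.Agent.Lib.Comp.Subnormal
import Cfsg.Agent.S0936
import Cfsg.Agent.S4718

set_option autoImplicit false
universe u
open Cfsg

namespace Cfsg.Agent.S4719

/-- For every natural number a there is a bound N with the following property. Let G be a finite group with Sylow 2-subgroups of order 2^a and r ≥ 0 such that G has no non-principal 2-block (relative to a maximal ideal of the algebraic integers containing 2) of defect ≥ r, and suppose a Sylow 2-subgroup of G contains an elementary abelian subgroup of order 2^(r+1). Then the order of G is at most N. -/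
theorem result (a : ℕ) : ∃ N : ℕ, ∀ (G : Type u) [Group G] [Finite G] (M : Ideal Cfsg.AlgInt) (r : ℕ) (P : Sylow 2 G), Cfsg.IsPModular 2 M → Nat.card P = 2 ^ a → (∀ B : Set (Cfsg.IrrCharacter G), Cfsg.IsPBlock M B → B ≠ Cfsg.principalBlock M G → Cfsg.blockDefect 2 B < r) → (∃ E : Subgroup G, E ≤ (P : Subgroup G) ∧ IsMulCommutative E ∧ (∀ x ∈ E, x * x = 1) ∧ Nat.card E = 2 ^ (r + 1)) → Nat.card G ≤ N := by
  classical
  choose f hf using fun a' : ℕ => Cfsg.Agent.S4718.result.{u} 2 a'
  choose F hF using CfsgLib.BlockB.exists_fourGroup_bound.{u} a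
  let g : ℕ → ℕ := fun k =>
    Nat.rec (∑ i ∈ Finset.range (a + 1), f i) (fun _ t => t + F t) k
  refine ⟨g a, fun G _ _ M r P hM hP hdef ⟨E, hEP, hEc, hE2, hEcard⟩ => ?_⟩
  have := CfsgLib.Block.isPrime_of_pmodular hM
  have hGa : (Nat.card G).factorization 2 = a := by
    rw [P.card_eq_multiplicity] at hP
    exact Nat.pow_right_injective le_rfl hP
  have hle : ∀ H : Subgroup G, (Nat.card H).factorization 2 ≤ a := fun H => hGa ▸
    (Nat.factorization_le_iff_dvd Nat.card_pos.ne' Nat.card_pos.ne').2
      (Subgroup.card_subgroup_dvd_card H) 2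
  have hcomm : ∀ x ∈ E, ∀ y ∈ E, Commute x y := fun x hx y hy =>
    congrArg Subtype.val (hEc.is_comm.comm ⟨x, hx⟩ ⟨y, hy⟩)
  have hQC : ∀ Q : Subgroup G, Q ≤ E → Q ≤ Subgroup.centralizer (Q : Set G) := fun Q hQ x hx =>
    Subgroup.mem_centralizer_iff.2 fun y hy => (hcomm y (hQ hy) x (hQ hx)).eq
  have hQ2 : ∀ Q : Subgroup G, Q ≤ E → IsPGroup 2 Q := fun Q hQ =>
    P.isPGroup'.to_le (hQ.trans hEP)
  have base : ∀ Q : Subgroup G, Q ≤ E → 2 ^ r ≤ Nat.card Q →
      Nat.card (Subgroup.centralizer (Q : Set G)) ≤ g 0 := by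
    intro Q hQ hQr
    set H := Subgroup.centralizer (Q : Set G) with hH
    have hQH : Q ≤ H := hQC Q hQ
    have : (Q.subgroupOf H).Normal := ⟨fun q hq c => by
      rw [Subgroup.mem_subgroupOf] at hq ⊢
      simp only [Subgroup.coe_mul, InvMemClass.coe_inv]
      rw [← Subgroup.mem_centralizer_iff.1 c.2 _ hq, mul_inv_cancel_right]
      exact hq⟩
    have hone : ∀ b : Set (Cfsg.IrrCharacter H), Cfsg.IsPBlock M b →
        b = Cfsg.principalBlock M H := by
      intro b hb
      by_contra hne
      obtain ⟨D, hD⟩ := CfsgLib.Block.exists_isDefectGroup hM hb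
      have h1 := Subgroup.card_le_of_le (CfsgLib.Block.normal_le_defectGroup hM
        (IsPGroup.of_equiv (hQ2 Q hQ) (Subgroup.subgroupOfEquivOfLe hQH).symm) hb hD)
      rw [CfsgLib.Block.natCard_defectGroup hM hb hD,
        Nat.card_congr (Subgroup.subgroupOfEquivOfLe hQH).toEquiv] at h1
      have h2 : r ≤ Cfsg.blockDefect 2 b :=
        (Nat.pow_le_pow_iff_right one_lt_two).1 (hQr.trans h1)
      obtain ⟨B, hB⟩ := CfsgLib.Block.exists_isInducedBlock_of_normalizer hM (hQ2 Q hQ) hQH le_rfl
        (Subgroup.centralizer_le_normalizer _) hb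
      refine absurd (hdef B hB.2.1 fun e => hne ?_)
        (not_lt.2 (h2.trans (CfsgLib.BlockB.blockDefect_le_of_induced hM hB)))
      exact (Cfsg.Agent.S0936.result 2 M hM _ b ⟨B, hB⟩).1 (e ▸ hB)
    refine (hf _ H M hM rfl hone).trans ?_
    exact Finset.single_le_sum (f := f) (fun _ _ => Nat.zero_le _)
      (Finset.mem_range.2 (Nat.lt_succ_of_le (hle H)))
  have main : ∀ k : ℕ, ∀ Q : Subgroup G, Q ≤ E → 2 ^ r ≤ 2 ^ k * Nat.card Q →
      Nat.card (Subgroup.centralizer (Q : Set G)) ≤ g k := by
    intro k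
    induction k with
    | zero => intro Q hQ h; exact base Q hQ (by simpa using h)
    | succ k ih =>
      intro Q hQ h
      by_cases hk : 2 ^ r ≤ 2 ^ k * Nat.card Q
      · exact (ih Q hQ hk).trans (Nat.le_add_right _ _)
      push Not at hk
      have hlt : 2 * Nat.card Q < Nat.card E := by
        have h0 : Nat.card Q ≤ 2 ^ k * Nat.card Q := Nat.le_mul_of_pos_left _ (by positivity)
        rw [hEcard, pow_succ]
        omega
      have hnorm : ∀ x ∈ E, Subgroup.zpowers x ≤ Subgroup.normalizer (Q : Set G) :=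
        fun x hx => (Subgroup.zpowers_le.2 (Subgroup.mem_centralizer_iff.2 fun y hy =>
          (hcomm y (hQ hy) x hx).eq : x ∈ Subgroup.centralizer (Q : Set G))).trans
            (Subgroup.centralizer_le_normalizer _)
      have hbig : ∀ x ∈ E, x ∉ Q →
          2 * Nat.card Q ≤ Nat.card ↥(Q ⊔ Subgroup.zpowers x) := by
        intro x hx hxQ
        obtain ⟨c, hc⟩ := Subgroup.card_dvd_of_le
          (le_sup_left : Q ≤ Q ⊔ Subgroup.zpowers x)
        rw [hc, mul_comm (Nat.card Q) c]
        refine Nat.mul_le_mul_right _ ?_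
        rcases c with _ | _ | c
        · exact absurd (hc.trans (Nat.mul_zero _)) Nat.card_pos.ne'
        · exfalso
          apply hxQ
          have hQe := Subgroup.eq_of_le_of_card_ge
            (le_sup_left : Q ≤ Q ⊔ Subgroup.zpowers x) (by rw [hc]; simp)
          rw [hQe]
          exact Subgroup.mem_sup_right (Subgroup.mem_zpowers x)
        · omega
      obtain ⟨x, hx, hxQ⟩ : ∃ x ∈ E, x ∉ Q := by
        by_contra hall
        push Not at hall
        have := Subgroup.card_le_of_le (H := E) (K := Q) hall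
        omega
      have hxle : Nat.card ↥(Q ⊔ Subgroup.zpowers x) ≤ 2 * Nat.card Q := by
        refine (Nat.le_of_dvd (Nat.mul_pos Nat.card_pos Nat.card_pos)
          (CfsgLib.Comp.card_sup_dvd_mul (hnorm x hx))).trans ?_
        rw [mul_comm 2, Nat.card_zpowers]
        exact Nat.mul_le_mul_left _
          (Nat.le_of_dvd two_pos (orderOf_dvd_of_pow_eq_one (by rw [pow_two, hE2 x hx])))
      obtain ⟨y, hy, hyQ⟩ : ∃ y ∈ E, y ∉ Q ⊔ Subgroup.zpowers x := by
        by_contra hall
        push Not at hall
        have := Subgroup.card_le_of_le (H := E) (K := Q ⊔ Subgroup.zpowers x) hall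
        omega
      have hxyQ : x * y ∉ Q := fun hm => hyQ (by
        have h1 := mul_mem (Subgroup.mem_sup_right
          (inv_mem (Subgroup.mem_zpowers x)) : x⁻¹ ∈ Q ⊔ Subgroup.zpowers x)
          (Subgroup.mem_sup_left hm)
        rwa [inv_mul_cancel_left] at h1)
      set C := Subgroup.centralizer (Q : Set G) with hC
      have hEC : E ≤ C := fun z hz =>
        Subgroup.mem_centralizer_iff.2 fun w hw => (hcomm w (hQ hw) z hz).eq
      have hcen : ∀ (z : G) (hz : z ∈ E), z ∉ Q →
          Nat.card (Subgroup.centralizer ({(⟨z, hEC hz⟩ : C)} : Set C)) ≤ g k := by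
        intro z hz hzQ
        refine le_trans ?_ (ih (Q ⊔ Subgroup.zpowers z) (sup_le hQ (Subgroup.zpowers_le.2 hz)) ?_)
        · rw [← Subgroup.card_subtype C]
          refine Subgroup.card_le_of_le ?_
          rintro _ ⟨c, hc, rfl⟩
          have h1 : Q ⊔ Subgroup.zpowers z ≤
              Subgroup.centralizer ({((c : C) : G)} : Set G) := by
            refine sup_le (fun q hq => Subgroup.mem_centralizer_singleton_iff.2
              (Subgroup.mem_centralizer_iff.1 c.2 q hq)) (Subgroup.zpowers_le.2
              (Subgroup.mem_centralizer_singleton_iff.2 ?_))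
            exact (congrArg Subtype.val (Subgroup.mem_centralizer_singleton_iff.1 hc)).symm
          exact Subgroup.mem_centralizer_iff.2 fun w hw =>
            Subgroup.mem_centralizer_singleton_iff.1 (h1 hw)
        · refine h.trans ?_
          rw [pow_succ, mul_assoc]
          exact Nat.mul_le_mul_left _ (hbig z hz hzQ)
      refine le_trans (hF (g k) C ⟨x, hEC hx⟩ ⟨y, hEC hy⟩ (hle C) (Subtype.ext (hE2 x hx))
        (Subtype.ext (hE2 y hy)) (Subtype.ext (hcomm x hx y hy).eq) ?_ ?_ ?_
        (hcen x hx hxQ) (hcen y hy fun e => hyQ (Subgroup.mem_sup_left e))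
        (hcen (x * y) (mul_mem hx hy) hxyQ)) (Nat.le_add_left _ _)
      · intro e
        exact hxQ (by rw [show x = 1 from congrArg Subtype.val e]; exact one_mem Q)
      · intro e
        exact hyQ (by rw [show y = 1 from congrArg Subtype.val e]; exact one_mem _)
      · intro e
        exact hyQ (by
          rw [← show x = y from congrArg Subtype.val e]
          exact Subgroup.mem_sup_right (Subgroup.mem_zpowers x))
  have hra : r ≤ a := by
    have h1 := (Subgroup.card_le_of_le hEP).trans_eq hP
    rw [hEcard, Nat.pow_le_pow_iff_right one_lt_two] at h1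
    omega
  have h := main a ⊥ bot_le (by
    rw [Subgroup.card_bot, mul_one]; exact Nat.pow_le_pow_right two_pos hra)
  rwa [show Subgroup.centralizer ((⊥ : Subgroup G) : Set G) = ⊤ from eq_top_iff.2 fun c _ =>
    Subgroup.mem_centralizer_iff.2 fun w hw => by
      rw [Subgroup.mem_bot.1 hw, one_mul, mul_one], Subgroup.card_top] at h

end Cfsg.Agent.S4719
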