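import Cfsg.Statements.S4720
import Cfsg.Agent.Lib.BlockB.PrincipalSum

set_option autoImplicit false
open Cfsg

namespace Cfsg.Agent.S4720

/-- Let p be a prime, M a maximal ideal of the algebraic integers containing p, P a p-subgroup of the finite group G, N a subgroup with P ≤ N ≤ N_G(P), and U a nonempty subset of P normalized by N such that an element of U and an element of P that are conjugate in G are already conjugate in N, and such that λ(C_G(y)) = w·#C_N(y) for every y ∈ U with one rational number w, where λ(X) denotes the sum of the squares of the degrees of the irreducible characters in the principal p-block of X. For a complex function θ on P and χ in the principal block of G put a_χ(θ) = #P⁻¹ Σ_{y ∈ P} χ(y) θ(y⁻¹). Then for generalized characters θ, η of P with θ vanishing outside U, Σ_χ a_χ(θ)·conj(a_χ(η)) = (w/#P²)·Σ_{y ∈ P} θ(y)·conj(Σ_{x ∈ N} η(x y x⁻¹)) (η extended by zero off P; the conjugates lie in P), the first sum over the principal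 p-block of G. -/
theorem result {G : Type*} [Group G] [Finite G] (p : ℕ) [Fact p.Prime] (M : Ideal Cfsg.AlgInt) (hM : Cfsg.IsPModular p M) (P : Subgroup G) (hP : IsPGroup p P) (N : Subgroup G) (hPN : P ≤ N) (hNN : N ≤ Subgroup.normalizer (P : Set G)) (U : Set G) (hUne : U.Nonempty) (hUP : U ⊆ (P : Set G)) (hUN : ∀ n ∈ N, ∀ u ∈ U, n * u * n⁻¹ ∈ U) (hfus : ∀ u ∈ U, ∀ g : G, g * u * g⁻¹ ∈ (P : Set G) → ∃ n ∈ N, n * u * n⁻¹ = g * u * g⁻¹) (w : ℚ) (hw : ∀ y ∈ U, ((∑ᶠ ψ ∈ Cfsg.principalBlock M ↥(Subgroup.centralizer ({y} : Set G)), Cfsg.charDegree (ψ : ↥(Subgroup.centralizer ({y} : Set G)) → ℂ) ^ 2) : ℚ) = w * Nat.card ↥(N ⊓ Subgroup.centralizer ({y} : Set G))) (θ η : ↥P → ℂ) (hθ : Cfsg.IsGeneralizedCharacter ↥P θ) (hη : Cfsg.IsGeneralizedCharacter ↥P η) (hθU : ∀ y : ↥P, (y : G) ∉ U → θ y = 0) : ∑ᶠ χ ∈ Cfsg.principalBlock M G, ((Nat.card ↥P : ℂ)⁻¹ * ∑ᶠ y : ↥P, (χ : G → ℂ) (y : G) * θ y⁻¹) * (starRingEnd ℂ) ((Nat.card ↥P : ℂ)⁻¹ * ∑ᶠ y : ↥P, (χ : G → ℂ) (y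 : G) * η y⁻¹) = ((w : ℂ) / ((Nat.card ↥P : ℂ) ^ 2)) * ∑ᶠ y : ↥P, θ y * (starRingEnd ℂ) (∑ᶠ x : ↥N, Cfsg.extendByZero P η ((x : G) * (y : G) * (x : G)⁻¹)) := by
  classical
  have := CfsgLib.Block.isPrime_of_pmodular hM
  have := Fintype.ofFinite G
  have := Fintype.ofFinite (Cfsg.IrrCharacter G)
  have := Fintype.ofFinite ↥P
  have := Fintype.ofFinite ↥N
  have hpel : ∀ y : P, ∃ k : ℕ, orderOf (y : G) = p ^ k := fun y => by
    obtain ⟨k, hk⟩ := (IsPGroup.iff_orderOf.1 hP) y
    exact ⟨k, by rw [Subgroup.orderOf_coe]; exact hk⟩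
  set B := Cfsg.principalBlock M G with hB
  have hBb : Cfsg.IsPBlock M B := CfsgLib.Block.isPBlock_principalBlock
  let lam : G → ℕ := fun y => ∑ᶠ ψ ∈ Cfsg.principalBlock M (Subgroup.centralizer ({y} : Set G)),
    Cfsg.charDegree (ψ : Subgroup.centralizer ({y} : Set G) → ℂ) ^ 2
  let S : G → G → ℂ := fun z y =>
    ∑ χ : Cfsg.IrrCharacter G, if χ ∈ B then (χ : G → ℂ) z * (starRingEnd ℂ) ((χ : G → ℂ) y) else 0
  have hfs : ∀ f : Cfsg.IrrCharacter G → ℂ, ∑ᶠ χ ∈ B, f χ = ∑ χ, if χ ∈ B then f χ else 0 := by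
    intro f
    rw [finsum_mem_def, finsum_eq_sum_of_fintype]
    simp only [Set.indicator_apply]
  have hS : ∀ z y : P, S z y = if IsConj (z : G) y then (lam y : ℂ) else 0 := by
    intro z y
    by_cases hc : IsConj (z : G) (y : G)
    · rw [if_pos hc]
      have h := CfsgLib.BlockB.sum_principal_normSq_pElt hM (hpel y)
      rw [hfs] at h
      refine Eq.trans (Finset.sum_congr rfl fun χ _ => ?_) h
      rw [CfsgLib.Char.isClassFunction_isConj (CfsgLib.Char.irr_isClassFunction χ.2) hc]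
    · rw [if_neg hc]
      have h := CfsgLib.BlockB.sum_block_pElt_eq_zero hM hBb (hpel z) (hpel y) hc
      rw [hfs] at h
      exact h
  have hrev : ∀ (χ : Cfsg.IrrCharacter G), ∑ᶠ y : P, (χ : G → ℂ) (y : G) * θ y⁻¹ =
      ∑ y : P, (starRingEnd ℂ) ((χ : G → ℂ) (y : G)) * θ y := fun χ => by
    rw [finsum_eq_sum_of_fintype, ← Equiv.sum_comp (Equiv.inv P)
      (fun y : P => (starRingEnd ℂ) ((χ : G → ℂ) (y : G)) * θ y)]
    refine Finset.sum_congr rfl fun y _ => ?_
    simp only [Equiv.inv_apply, InvMemClass.coe_inv,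
      CfsgLib.Char.char_inv (CfsgLib.Char.irr_isCharacter χ.2), Complex.conj_conj]
  have hrev' : ∀ (χ : Cfsg.IrrCharacter G),
      (starRingEnd ℂ) (∑ᶠ y : P, (χ : G → ℂ) (y : G) * η y⁻¹) =
      ∑ z : P, (χ : G → ℂ) (z : G) * (starRingEnd ℂ) (η z) := fun χ => by
    rw [finsum_eq_sum_of_fintype, map_sum, ← Equiv.sum_comp (Equiv.inv P)
      (fun z : P => (χ : G → ℂ) (z : G) * (starRingEnd ℂ) (η z))]
    refine Finset.sum_congr rfl fun z _ => ?_
    simp only [Equiv.inv_apply, InvMemClass.coe_inv, map_mul,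
      CfsgLib.Char.char_inv (CfsgLib.Char.irr_isCharacter χ.2)]
  have hN : ∀ y : P, ∀ x : N, (x : G) * (y : G) * (x : G)⁻¹ ∈ P := fun y x =>
    (Subgroup.mem_normalizer_iff.1 (hNN x.2) (y : G)).1 y.2
  have hkey : ∀ y : P, θ y * ∑ z : P, (starRingEnd ℂ) (η z) * S z y =
      (w : ℂ) * (θ y * (starRingEnd ℂ)
        (∑ᶠ x : N, Cfsg.extendByZero P η ((x : G) * (y : G) * (x : G)⁻¹))) := by
    intro y
    by_cases hyU : (y : G) ∈ U
    swap
    · rw [hθU y hyU]; simp
    rw [mul_left_comm (w : ℂ)]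
    congr 1
    simp only [hS, mul_ite, mul_zero]
    rw [← Finset.sum_filter, ← Finset.sum_mul, finsum_eq_sum_of_fintype, map_sum, Finset.mul_sum]
    have hext : ∀ x : N, Cfsg.extendByZero P η ((x : G) * (y : G) * (x : G)⁻¹) =
        η ⟨_, hN y x⟩ := fun x =>
      Subtype.val_injective.extend_apply η 0 ⟨_, hN y x⟩
    simp only [hext]
    rw [Finset.sum_mul, ← Finset.sum_fiberwise_of_maps_to
      (t := Finset.univ.filter fun z : P => IsConj (z : G) y)
      (g := fun x : N => (⟨_, hN y x⟩ : P))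
      (fun x _ => Finset.mem_filter.2 ⟨Finset.mem_univ _,
        (isConj_iff.2 ⟨(x : G), rfl⟩ : IsConj (y : G) _).symm⟩)
      (fun x : N => (w : ℂ) * (starRingEnd ℂ) (η ⟨_, hN y x⟩))]
    refine Finset.sum_congr rfl fun z hz => ?_
    obtain ⟨g, hg⟩ := isConj_iff.1 ((Finset.mem_filter.1 hz).2).symm
    obtain ⟨n, hn, hng⟩ := hfus (y : G) hyU g (hg ▸ z.2)
    rw [hg] at hng
    rw [Finset.sum_congr rfl (g := fun _ => (w : ℂ) * (starRingEnd ℂ) (η z)) (fun x hx => by
      rw [(Finset.mem_filter.1 hx).2]), Finset.sum_const, nsmul_eq_mul]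
    have hcard : (Finset.univ.filter fun x : N => (⟨_, hN y x⟩ : P) = z).card =
        Nat.card ↥(N ⊓ Subgroup.centralizer ({(y : G)} : Set G)) := by
      rw [Nat.card_eq_fintype_card, ← Finset.card_univ]
      refine Finset.card_bij' (fun x _ => (⟨n⁻¹ * (x : G), ?_⟩ :
          ↥(N ⊓ Subgroup.centralizer ({(y : G)} : Set G))))
        (fun c _ => (⟨n * (c : G), mul_mem hn c.2.1⟩ : N)) (fun _ _ => Finset.mem_univ _) ?_ ?_ ?_
      · rename_i hx
        have h1 : (x : G) * (y : G) * (x : G)⁻¹ = n * (y : G) * n⁻¹ :=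
          (congrArg Subtype.val (Finset.mem_filter.1 hx).2).trans hng.symm
        refine Subgroup.mem_inf.2 ⟨N.mul_mem (N.inv_mem hn) x.2,
          Subgroup.mem_centralizer_singleton_iff.2 ?_⟩
        calc n⁻¹ * (x : G) * y = n⁻¹ * ((x : G) * y * (x : G)⁻¹) * x := by group
          _ = (y : G) * (n⁻¹ * x) := by rw [h1]; group
      · intro c _
        refine Finset.mem_filter.2 ⟨Finset.mem_univ _, Subtype.ext ?_⟩
        simp only
        rw [← hng, mul_inv_rev]
        calc n * (c : G) * y * ((c : G)⁻¹ * n⁻¹) = n * ((c : G) * y) * (c : G)⁻¹ * n⁻¹ := by group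
          _ = n * (y : G) * n⁻¹ := by
            rw [Subgroup.mem_centralizer_singleton_iff.1 c.2.2]; group
      · intro x _
        exact Subtype.ext (by simp)
      · intro c _
        exact Subtype.ext (by simp)
    rw [hcard]
    have hlam : (lam (y : G) : ℂ) = (w : ℂ) *
        (Nat.card ↥(N ⊓ Subgroup.centralizer ({(y : G)} : Set G)) : ℂ) := by
      have hfinC := Finite.of_injective (Subtype.val : Cfsg.principalBlock M
        ↥(Subgroup.centralizer ({(y : G)} : Set G)) → _) Subtype.val_injective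
      have h := hw (y : G) hyU
      have h1 : ((lam y : ℕ) : ℚ) =
          (w * Nat.card ↥(N ⊓ Subgroup.centralizer ({(y : G)} : Set G)) : ℚ) := by
        rw [← h, show lam (y : G) = ∑ᶠ ψ ∈ Cfsg.principalBlock M
          ↥(Subgroup.centralizer ({(y : G)} : Set G)), Cfsg.charDegree
            (ψ : ↥(Subgroup.centralizer ({(y : G)} : Set G)) → ℂ) ^ 2 from rfl,
          Nat.cast_finsum_mem (Set.toFinite _)]
        exact finsum_mem_congr rfl fun ψ _ => Nat.cast_pow _ _
      exact_mod_cast congrArg (fun q : ℚ => (q : ℂ)) h1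
    rw [hlam]
    ring
  rw [hfs]
  simp only [map_mul, hrev, hrev', map_inv₀, map_natCast]
  calc (∑ χ : Cfsg.IrrCharacter G, if χ ∈ B then
        (Nat.card P : ℂ)⁻¹ * (∑ y : P, (starRingEnd ℂ) ((χ : G → ℂ) (y : G)) * θ y) *
          ((Nat.card P : ℂ)⁻¹ * ∑ z : P, (χ : G → ℂ) (z : G) * (starRingEnd ℂ) (η z)) else 0)
      = ((Nat.card P : ℂ) ^ 2)⁻¹ * ∑ y : P, θ y * ∑ z : P, (starRingEnd ℂ) (η z) * S z y := by
        simp only [S, Finset.mul_sum]
        symm
        conv_lhs => arg 2; intro y; rw [Finset.sum_comm]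
        rw [Finset.sum_comm]
        refine Finset.sum_congr rfl fun χ _ => ?_
        symm
        simp only [Finset.sum_mul]
        split_ifs with hχ
        · rw [Finset.sum_comm]
          refine Finset.sum_congr rfl fun y _ => Finset.sum_congr rfl fun z _ => ?_
          field_simp
        · simp
    _ = _ := by
        rw [finsum_eq_sum_of_fintype, Finset.sum_congr rfl (fun y _ => hkey y), ← Finset.mul_sum]
        ring

end Cfsg.Agent.S4720
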