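import Cfsg.Statements.S4721
import Cfsg.Agent.Lib.BlockB.FrobPrincipalThree
-- import your own Cfsg.Agent.* helpers here

set_option autoImplicit false
set_option maxHeartbeats 1000000
open Cfsg

namespace Cfsg.Agent.S4721

open CfsgLib.BlockB.FrobP CfsgLib.Block CfsgLib.Char
open scoped ComplexConjugate

universe u

variable {G : Type u} [Group G] [Finite G] {p : ℕ} [Fact p.Prime] {P : Sylow p G}
  {B : Set (Cfsg.IrrCharacter G)} {r : ℕ} {ε : ℤ} {a : Cfsg.IrrCharacter G → ℤ}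
  {ζ : Lam P → Cfsg.IrrCharacter G} {X Y : Set (Cfsg.IrrCharacter G)}

section Sums

variable (hab : IsMulCommutative P)
  (hfrob : ∀ y : G, y ∈ (P : Subgroup G) → y ≠ 1 →
    Subgroup.centralizer ({y} : Set G) ⊓ nP P = Subgroup.centralizer ((P : Subgroup G) : Set G))
  (hCN : (Subgroup.centralizer ((P : Subgroup G) : Set G)).relIndex (nP P) = 3)

include hab hfrob hCN

theorem orbit_sum_one {ψ : Lam P} (hψ : ψ ≠ 1) :
    ∑ᶠ ψ' ∈ orbSet P ψ, ((ψ' (1 : (P : Subgroup G)) : ℂˣ) : ℂ) = 3 := by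
  have := Fintype.ofFinite (nP P)
  have := Fintype.ofFinite (cP P)
  have h := orbit_sum_eq hab hfrob hψ (1 : (P : Subgroup G))
  simp only [map_one, Units.val_one, Finset.sum_const, Finset.card_univ, nsmul_eq_mul, mul_one]
    at h ⊢
  rw [← Nat.card_eq_fintype_card, card_nP hCN, Nat.cast_mul, mul_comm ((3 : ℕ) : ℂ)] at h
  simpa using mul_left_cancel₀ (natCard_ne_zero (G := cP P)) h

theorem sum_orbit_sum [Fintype (P : Subgroup G)] {ψ : Lam P} (hψ : ψ ≠ 1) :
    ∑ y : (P : Subgroup G), ∑ᶠ ψ' ∈ orbSet P ψ, ((ψ' y : ℂˣ) : ℂ) = 0 := by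
  classical
  have := Fintype.ofFinite (nP P)
  have := Fintype.ofFinite (cP P)
  refine mul_left_cancel₀ (natCard_ne_zero (G := cP P)) ?_
  rw [mul_zero, Finset.mul_sum]
  simp only [orbit_sum_eq hab hfrob hψ]
  rw [Finset.sum_comm, Finset.sum_eq_zero]
  intro n _
  rw [(Fintype.sum_equiv (cj P n).toEquiv (fun y => ((ψ (cj P n y) : ℂˣ) : ℂ))
    (fun y => ((ψ y : ℂˣ) : ℂ)) (fun y => rfl)), sum_apply hab, if_neg hψ]

theorem sum_orbit_lam [Fintype (Lam P)] [DecidableEq (Lam P)] {y : (P : Subgroup G)} (hy : y ≠ 1) :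
    ∑ ψ ∈ (Finset.univ : Finset (Lam P)).erase 1, ∑ᶠ ψ' ∈ orbSet P ψ, ((ψ' y : ℂˣ) : ℂ) = -3 := by
  classical
  have := Fintype.ofFinite (nP P)
  have := Fintype.ofFinite (cP P)
  refine mul_left_cancel₀ (natCard_ne_zero (G := cP P)) ?_
  rw [Finset.mul_sum, Finset.sum_congr rfl fun ψ hψ =>
    orbit_sum_eq hab hfrob (Finset.mem_erase.1 hψ).1 y, Finset.sum_comm,
    Finset.sum_congr rfl (g := fun _ => (-1 : ℂ)), Finset.sum_const, Finset.card_univ,
    nsmul_eq_mul, ← Nat.card_eq_fintype_card, card_nP hCN]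
  · push_cast; ring
  · intro n _
    have h := sum_lam hab (cj P n y)
    rw [if_neg (fun e => hy ((cj P n).injective (e.trans (map_one _).symm))),
      ← Finset.add_sum_erase _ _ (Finset.mem_univ (1 : Lam P))] at h
    simp only [MonoidHom.one_apply, Units.val_one] at h
    linear_combination h

theorem sum_orbit_cube [Fintype (Lam P)] [DecidableEq (Lam P)] {x y : (P : Subgroup G)}
    (hy : y ≠ 1) (hx : x * x = 1) (hxy : ∀ n : nP P, cj P n x ≠ y) :
    ∑ ψ ∈ (Finset.univ : Finset (Lam P)).erase 1,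
      (∑ᶠ ψ' ∈ orbSet P ψ, ((ψ' x : ℂˣ) : ℂ)) * (∑ᶠ ψ' ∈ orbSet P ψ, ((ψ' x : ℂˣ) : ℂ)) *
        (∑ᶠ ψ' ∈ orbSet P ψ, ((ψ' y⁻¹ : ℂˣ) : ℂ)) = -27 := by
  classical
  have := Fintype.ofFinite (nP P)
  have := Fintype.ofFinite (cP P)
  set c : ℂ := (Nat.card (cP P) : ℂ) with hc
  have hc0 : c ≠ 0 := natCard_ne_zero
  refine mul_left_cancel₀ (mul_ne_zero (mul_ne_zero hc0 hc0) hc0) ?_
  rw [Finset.mul_sum, Finset.sum_congr rfl (g := fun ψ : Lam P => ∑ n : nP P, ∑ k : nP P, ∑ j : nP P,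
    ((ψ (cj P n x * cj P k x * cj P j y⁻¹) : ℂˣ) : ℂ))]
  · rw [Finset.sum_comm, Finset.sum_congr rfl (g := fun _ => -(((3 : ℂ) * c) * (3 * c))),
      Finset.sum_const, Finset.card_univ, nsmul_eq_mul, ← Nat.card_eq_fintype_card, card_nP hCN]
    · push_cast; rw [← hc]; ring
    · intro n _
      rw [Finset.sum_comm, Finset.sum_congr rfl (g := fun _ => -((3 : ℂ) * c)), Finset.sum_const,
        Finset.card_univ, nsmul_eq_mul, ← Nat.card_eq_fintype_card, card_nP hCN]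
      · push_cast; rw [← hc]; ring
      · intro k _
        rw [Finset.sum_comm, Finset.sum_congr rfl (g := fun _ => (-1 : ℂ)), Finset.sum_const,
          Finset.card_univ, nsmul_eq_mul, ← Nat.card_eq_fintype_card, card_nP hCN]
        · push_cast; rw [← hc]; ring
        · intro j _
          have hne : cj P n x * cj P k x * cj P j y⁻¹ ≠ 1 := by
            rw [map_inv, Ne, mul_inv_eq_one]
            intro e
            rcases cj_mul_cj hab hfrob hCN hx n k with h | ⟨l, hl⟩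
            · exact hy ((cj P j).injective ((e.symm.trans h).trans (map_one _).symm))
            · refine hxy (j⁻¹ * l) ?_
              rw [cj_mul, ← hl, e, ← cj_mul, inv_mul_cancel]
              exact Subtype.ext (by simp [coe_cj])
          have h := sum_lam hab (cj P n x * cj P k x * cj P j y⁻¹)
          rw [if_neg hne, ← Finset.add_sum_erase _ _ (Finset.mem_univ (1 : Lam P))] at h
          simp only [MonoidHom.one_apply, Units.val_one] at h
          linear_combination h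
  · intro ψ hψ
    have hψ1 := (Finset.mem_erase.1 hψ).1
    calc _ = (c * ∑ᶠ ψ' ∈ orbSet P ψ, ((ψ' x : ℂˣ) : ℂ)) *
          (c * ∑ᶠ ψ' ∈ orbSet P ψ, ((ψ' x : ℂˣ) : ℂ)) *
          (c * ∑ᶠ ψ' ∈ orbSet P ψ, ((ψ' y⁻¹ : ℂˣ) : ℂ)) := by ring
      _ = _ := by
        rw [hc]
        simp only [orbit_sum_eq hab hfrob hψ1, Finset.sum_mul_sum]
        simp only [Finset.sum_mul, Finset.mul_sum, map_mul, Units.val_mul]
        exact Finset.sum_congr rfl fun n _ => Finset.sum_comm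

theorem exists_outside (hP : 4 < Nat.card (P : Subgroup G)) (x : (P : Subgroup G)) (hx : x ≠ 1) :
    ∃ y : (P : Subgroup G), y ≠ 1 ∧ ∀ n : nP P, cj P n x ≠ y := by
  classical
  have := Fintype.ofFinite (nP P)
  have := Fintype.ofFinite (cP P)
  have := Fintype.ofFinite (P : Subgroup G)
  set O := Finset.univ.image fun n : nP P => cj P n x with hO
  have h : O.card = 3 := by
    have h := Finset.card_eq_sum_card_image (fun n : nP P => cj P n x) Finset.univ
    rw [Finset.sum_congr rfl (g := fun _ => Nat.card (cP P)), Finset.sum_const, smul_eq_mul,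
      Finset.card_univ, ← Nat.card_eq_fintype_card, card_nP hCN, ← hO] at h
    · exact (Nat.eq_of_mul_eq_mul_right Nat.card_pos h).symm
    · intro φ hφ
      obtain ⟨n₀, -, rfl⟩ := Finset.mem_image.1 hφ
      exact fibre_cj hfrob hx n₀
  obtain ⟨y, -, hy⟩ := Finset.exists_mem_notMem_of_card_lt_card
    (s := insert 1 O) (t := (Finset.univ : Finset (P : Subgroup G))) (by
      rw [Finset.card_univ, ← Nat.card_eq_fintype_card]
      have := Finset.card_insert_le 1 O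
      omega)
  rw [Finset.mem_insert, not_or] at hy
  exact ⟨y, hy.1, fun n e => hy.2 (Finset.mem_image.2 ⟨n, Finset.mem_univ _, e⟩)⟩

end Sums

theorem exists_pair (hX : Nat.card X = 3) (h1 : (trivIrr : Cfsg.IrrCharacter G) ∈ X) :
    ∃ b c : Cfsg.IrrCharacter G, b ≠ c ∧ b ≠ trivIrr ∧ c ≠ trivIrr ∧ X = {trivIrr, b, c} := by
  obtain ⟨x, y, z, hxy, hxz, hyz, rfl⟩ := Set.ncard_eq_three.1 (by rw [← Nat.card_coe_set_eq]; exact hX)
  rcases h1 with h | h | h
  · subst h; exact ⟨y, z, hyz, hxy.symm, hxz.symm, rfl⟩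
  · subst h; exact ⟨x, z, hxz, hxy, hyz.symm, Set.insert_comm _ _ _⟩
  · rw [Set.mem_singleton_iff] at h; subst h
    exact ⟨x, y, hxy, hxz, hyz, by ext w; simp; tauto⟩

/-- The two conditions of an involution normally generating the group. -/
theorem involution_part {M : Ideal Cfsg.AlgInt} (hM : Cfsg.IsPModular p M)
    (hab : IsMulCommutative P) (hfrob : ∀ y : G, y ∈ (P : Subgroup G) → y ≠ 1 →
      Subgroup.centralizer ({y} : Set G) ⊓ nP P = Subgroup.centralizer ((P : Subgroup G) : Set G))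
    (hCN : (Subgroup.centralizer ((P : Subgroup G) : Set G)).relIndex (nP P) = 3)
    (hP : 4 < Nat.card (P : Subgroup G))
    (D : Data P (Cfsg.principalBlock M G) 3 r ε 0 a ζ X Y) (hX : Nat.card X = 3)
    (hsq : ∀ χ ∈ X, a χ = 1 ∨ a χ = -1) {t : G} (ht : orderOf t = 2)
    (hgen : ∀ K : Subgroup G, K.Normal → t ∈ K → K = ⊤) :
    Nat.card {χ : Cfsg.IrrCharacter G // χ ∈ X ∧ (χ : G → ℂ) ≠ (fun _ => 1) ∧ a χ = -1} +
        (if ε = 1 then 1 else 0) = 2 ∧
      ∀ η ∈ Y, IsSquare (Cfsg.charDegree (η : G → ℂ) *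
        ∏ᶠ χ ∈ {χ : Cfsg.IrrCharacter G | χ ∈ X ∧ (χ : G → ℂ) ≠ fun _ => 1},
          Cfsg.charDegree (χ : G → ℂ)) := by
  classical
  have := CfsgLib.Block.isPrime_of_pmodular hM
  have := Fintype.ofFinite G
  have := Fintype.ofFinite (P : Subgroup G)
  have := finite_lam P
  have := Fintype.ofFinite (Lam P)
  have hp : p.Prime := Fact.out
  obtain ⟨b, c, hbc, hb1, hc1, hXeq⟩ := exists_pair hX D.one_mem
  have hbX : b ∈ X := by rw [hXeq]; simp
  have hcX : c ∈ X := by rw [hXeq]; simp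
  obtain ⟨η₀, hη₀⟩ : ∃ η, η ∈ Y := by
    by_contra h
    push Not at h
    have : Nat.card Y = 0 := by rw [Set.eq_empty_iff_forall_notMem.2 h]; simp
    rw [D.card_Y] at this
    have := D.two_le
    omega
  have hYY : ∀ g : G, ¬ p ∣ orderOf g → ∀ η ∈ Y,
      (η : G → ℂ) g = (η₀ : G → ℂ) g := fun g hg η hη => D.regular η hη η₀ hη₀ g hg
  have h1reg : ¬ p ∣ orderOf (1 : G) := by simpa using hp.one_lt.ne'
  have hdeg : ∀ η ∈ Y, Cfsg.charDegree (η : G → ℂ) = Cfsg.charDegree (η₀ : G → ℂ) := fun η hη => by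
    have h := hYY 1 h1reg η hη
    rw [← charDegree_cast (irr_isCharacter η.2), ← charDegree_cast (irr_isCharacter η₀.2)] at h
    exact_mod_cast h
  have hsumX : ∀ f : Cfsg.IrrCharacter G → ℂ, ∑ᶠ χ ∈ X, f χ = f trivIrr + (f b + f c) := fun f => by
    rw [hXeq, finsum_mem_insert _ (by simp [hb1.symm, hc1.symm]) (Set.toFinite _),
      finsum_mem_pair hbc]
  obtain ⟨f, hf⟩ : ∃ f, f = fun χ : Cfsg.IrrCharacter G => Cfsg.charDegree (χ : G → ℂ) :=
    ⟨_, rfl⟩
  have hfc : ∀ χ : Cfsg.IrrCharacter G, (χ : G → ℂ) 1 = ((f χ : ℤ) : ℂ) := fun χ => by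
    rw [hf]; push_cast; rw [charDegree_cast (irr_isCharacter χ.2)]
  have hf0 : ∀ χ : Cfsg.IrrCharacter G, (0 : ℤ) < f χ := fun χ => by
    rw [hf]; exact_mod_cast Nat.pos_of_ne_zero (CfsgLib.BlockB.irr_degree_ne_zero χ)
  have hrel1 : (1 : ℤ) + a b * f b + a c * f c - ε * f η₀ = 0 := by
    have h := D.relation η₀ hη₀ 1 h1reg
    rw [hsumX, D.one_a, hfc b, hfc c, hfc η₀] at h
    simp only [trivIrr] at h
    rw [← Int.cast_inj (α := ℂ)]
    push_cast at h ⊢
    linear_combination h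
  -- the value at an element of `P`
  have hval : ∀ χ ∈ X, ∀ y : (P : Subgroup G), y ≠ 1 → (χ : G → ℂ) y = (a χ : ℂ) :=
    fun χ hχ y hy => D.val_X χ hχ _ y (isPPart_self (isPPow y) hp) hy
  have hvalY : ∀ ψ : Lam P, ψ ≠ 1 → ∀ y : (P : Subgroup G), y ≠ 1 →
      (ζ ψ : G → ℂ) y = (ε : ℂ) * ∑ᶠ ψ' ∈ orbSet P ψ, ((ψ' y : ℂˣ) : ℂ) := fun ψ hψ y hy => by
    rw [D.val_Y ψ hψ _ y (isPPart_self (isPPow y) hp) hy, Int.cast_zero, zero_add]
    rfl
  have hconj : ∀ (χ : Cfsg.IrrCharacter G) (y : (P : Subgroup G)),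
      conj ((χ : G → ℂ) y) = (χ : G → ℂ) ((y⁻¹ : (P : Subgroup G)) : G) := fun χ y => by
    rw [irr_conj_eq χ.2, InvMemClass.coe_inv]
  have hε2 : (ε : ℂ) * ε = 1 := by rcases D.sign with h | h <;> simp [h]
  -- splitting the class multiplication sum
  have hsplit : ∀ y : (P : Subgroup G), y ≠ 1 →
      (∀ u w : G, Cfsg.IsPPart p (t * (u * t * u⁻¹)) w → ¬ IsConj (y : G) w) →
      1 + ((b : G → ℂ) t * (b : G → ℂ) t * (a b : ℂ) / ((f b : ℤ) : ℂ) +
        (c : G → ℂ) t * (c : G → ℂ) t * (a c : ℂ) / ((f c : ℤ) : ℂ)) +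
        (∑ᶠ η ∈ Y, (η : G → ℂ) t * (η : G → ℂ) t * conj ((η : G → ℂ) y)) /
          ((f η₀ : ℤ) : ℂ) = 0 := by
    intro y hy hno
    have h := involution_equation hM t (y : G) (isPPow y) hno
    rw [D.union, finsum_mem_union D.disj (Set.toFinite _) (Set.toFinite _), hsumX] at h
    rw [hval b hbX y hy, hval c hcX y hy, hval _ D.one_mem y hy, D.one_a, hfc b, hfc c,
      map_intCast, map_intCast, map_intCast] at h
    simp only [trivIrr, Int.cast_one, mul_one, div_one] at h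
    rw [← h]
    congr 1
    rw [div_eq_mul_inv, finsum_mem_mul' _ _ (Set.toFinite Y)]
    refine finsum_congr fun η => finsum_congr fun hη => ?_
    rw [div_eq_mul_inv, hfc η]
    congr 3
    rw [hf]
    exact_mod_cast (hdeg η hη).symm
  have h3 : ∀ F : Cfsg.IrrCharacter G → ℂ,
      ∑ ψ ∈ (Finset.univ : Finset (Lam P)).erase 1, F (ζ ψ) = (3 : ℂ) * ∑ᶠ η ∈ Y, F η := fun F => by
    have := sum_Y hab hfrob D hCN F
    exact_mod_cast this
  -- the prime is odd
  have hp2 : p ≠ 2 := by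
    rintro rfl
    obtain ⟨R, hR⟩ := (IsPGroup.of_card (p := 2) (n := 1) (G := Subgroup.zpowers t)
      (by rw [Nat.card_zpowers, ht, pow_one])).exists_le_sylow
    obtain ⟨g, hg⟩ := MulAction.exists_smul_eq G R P
    have hxP : g * t * g⁻¹ ∈ (P : Subgroup G) := by
      rw [← hg, Sylow.coe_subgroup_smul]
      exact Subgroup.smul_mem_pointwise_smul t (MulAut.conj g) (R : Subgroup G)
        (hR (Subgroup.mem_zpowers t))
    obtain ⟨x, hx⟩ : ∃ x : (P : Subgroup G), (x : G) = g * t * g⁻¹ := ⟨⟨_, hxP⟩, rfl⟩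
    have htx : IsConj t (x : G) := isConj_iff.2 ⟨g, hx.symm⟩
    have htt : t * t = 1 := by rw [← pow_two, ← ht, pow_orderOf_eq_one]
    have hxx : x * x = 1 := Subtype.ext (by
      simp only [Subgroup.coe_mul, OneMemClass.coe_one, hx]
      rw [show g * t * g⁻¹ * (g * t * g⁻¹) = g * (t * t) * g⁻¹ by group, htt]
      group)
    have hx1 : x ≠ 1 := fun e => by
      rw [e] at hx
      have : t = 1 := by
        rw [OneMemClass.coe_one] at hx
        rw [show t = g⁻¹ * (g * t * g⁻¹) * g by group, ← hx]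
        group
      rw [this, orderOf_one] at ht
      omega
    obtain ⟨y, hy, hxy⟩ := exists_outside hab hfrob hCN hP x hx1
    have hE := hsplit y hy (no_product hab hfrob hM hCN ht hy (Or.inr ⟨x, rfl, htx, hxy⟩))
    have ht' : ∀ χ : Cfsg.IrrCharacter G, (χ : G → ℂ) t = (χ : G → ℂ) x := fun χ =>
      isClassFunction_isConj (irr_isClassFunction χ.2) htx
    have hY : ∑ᶠ η ∈ Y, (η : G → ℂ) t * (η : G → ℂ) t * conj ((η : G → ℂ) y) = -9 * (ε : ℂ) := by
      refine mul_left_cancel₀ (three_ne_zero (α := ℂ)) ?_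
      rw [← h3, Finset.sum_congr rfl fun ψ hψ => by
        rw [ht', hconj, hvalY ψ (Finset.mem_erase.1 hψ).1 x hx1,
          hvalY ψ (Finset.mem_erase.1 hψ).1 y⁻¹ (inv_ne_one.2 hy)]]
      rw [Finset.sum_congr rfl (g := fun ψ : Lam P => (ε : ℂ) *
        ((∑ᶠ ψ' ∈ orbSet P ψ, ((ψ' x : ℂˣ) : ℂ)) * (∑ᶠ ψ' ∈ orbSet P ψ, ((ψ' x : ℂˣ) : ℂ)) *
          (∑ᶠ ψ' ∈ orbSet P ψ, ((ψ' y⁻¹ : ℂˣ) : ℂ)))) fun ψ _ => by
          linear_combination ((ε : ℂ) * (∑ᶠ ψ' ∈ orbSet P ψ, ((ψ' x : ℂˣ) : ℂ)) *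
            (∑ᶠ ψ' ∈ orbSet P ψ, ((ψ' x : ℂˣ) : ℂ)) *
            (∑ᶠ ψ' ∈ orbSet P ψ, ((ψ' y⁻¹ : ℂˣ) : ℂ))) * hε2, ← Finset.mul_sum,
        sum_orbit_cube hab hfrob hCN hy hxx hxy]
      ring
    rw [hY, ht' b, ht' c, hval b hbX x hx1, hval c hcX x hx1] at hE
    -- degrees
    obtain ⟨q, hq⟩ : ∃ q : ℤ, q = (Nat.card (P : Subgroup G) : ℤ) := ⟨_, rfl⟩
    have hmodX : ∀ χ ∈ X, ∃ k : ℤ, (f χ : ℤ) - a χ = q * k := by
      intro χ hχ
      obtain ⟨k, hk⟩ := exists_nat_coef χ (1 : Lam P)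
      refine ⟨(k : ℤ) - a χ, ?_⟩
      rw [coef, ← Finset.add_sum_erase _ _ (Finset.mem_univ (1 : (P : Subgroup G))),
        Finset.sum_congr rfl (g := fun _ => (a χ : ℂ)) (fun z hz => by
          rw [hval χ hχ z (Finset.mem_erase.1 hz).1]; simp), Finset.sum_const, nsmul_eq_mul,
        Finset.card_erase_of_mem (Finset.mem_univ _), Finset.card_univ,
        ← Nat.card_eq_fintype_card, inv_mul_eq_iff_eq_mul₀ natCard_ne_zero] at hk
      simp only [OneMemClass.coe_one, inv_one, MonoidHom.one_apply, Units.val_one, mul_one,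
        hfc χ] at hk
      rw [Nat.cast_sub (by omega)] at hk
      rw [← Int.cast_inj (α := ℂ), hq]
      push_cast at hk ⊢
      linear_combination hk
    obtain ⟨k₀, hk₀⟩ : ∃ k : ℤ, (f η₀ : ℤ) - 3 * ε = q * k := by
      obtain ⟨ψ, hψ, rfl⟩ := (D.mem_Y η₀).1 hη₀
      obtain ⟨k, hk⟩ := exists_nat_coef (ζ ψ) (1 : Lam P)
      refine ⟨k, ?_⟩
      have h0 : ∑ z ∈ (Finset.univ : Finset (P : Subgroup G)).erase 1,
          ∑ᶠ ψ' ∈ orbSet P ψ, ((ψ' z : ℂˣ) : ℂ) = -3 := by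
        have h := sum_orbit_sum hab hfrob hCN hψ
        rw [← Finset.add_sum_erase _ _ (Finset.mem_univ (1 : (P : Subgroup G))),
          orbit_sum_one hab hfrob hCN hψ] at h
        linear_combination h
      rw [coef, ← Finset.add_sum_erase _ _ (Finset.mem_univ (1 : (P : Subgroup G))),
        Finset.sum_congr rfl (g := fun z => (ε : ℂ) * ∑ᶠ ψ' ∈ orbSet P ψ, ((ψ' z : ℂˣ) : ℂ))
          (fun z hz => by rw [hvalY ψ hψ z (Finset.mem_erase.1 hz).1]; simp), ← Finset.mul_sum, h0,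
        inv_mul_eq_iff_eq_mul₀ natCard_ne_zero] at hk
      simp only [OneMemClass.coe_one, inv_one, MonoidHom.one_apply, Units.val_one, mul_one,
        hfc (ζ ψ)] at hk
      rw [← Int.cast_inj (α := ℂ), hq]
      push_cast at hk ⊢
      linear_combination hk
    have hq16 : 16 ≤ q := by
      obtain ⟨k, hk⟩ := IsPGroup.iff_card.1 P.2
      rw [hk] at hP
      have h2 : 3 ≤ k := by
        by_contra h
        have := Nat.pow_le_pow_right (show 0 < 2 by norm_num) (show k ≤ 2 by omega)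
        omega
      have h8 : k ≠ 3 := fun h => by
        subst h
        have := D.card_eq
        rw [hk] at this
        norm_num at this
        omega
      rw [hq, hk]
      exact_mod_cast Nat.pow_le_pow_right (show 0 < 2 by norm_num) (show 4 ≤ k by omega)
    -- the signed degrees
    have hFX : ∀ χ ∈ X, χ ≠ trivIrr → 15 ≤ |a χ * (f χ : ℤ)| := by
      intro χ hχ hne
      obtain ⟨k, hk⟩ := hmodX χ hχ
      have hval' := hval χ hχ x hx1
      have hfa : (f χ : ℤ) ≠ a χ := fun e => apply_ne_one_of_normal_generator hgen hne (by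
        rw [ht', hval', hfc χ, e])
      rcases hsq χ hχ with h | h <;> rw [h] at hk hfa ⊢
      · have hk0 : k ≠ 0 := fun e => by rw [e, mul_zero] at hk; omega
        rcases lt_or_gt_of_ne hk0 with h' | h'
        · have : q * k ≤ q * (-1) := mul_le_mul_of_nonneg_left (by omega) (by omega)
          rw [one_mul, abs_of_pos (hf0 χ)]
          have := hf0 χ
          omega
        · have : q * 1 ≤ q * k := mul_le_mul_of_nonneg_left (by omega) (by omega)
          rw [one_mul, abs_of_pos (hf0 χ)]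
          omega
      · have h0 : 0 < k := by
          by_contra h'
          have : q * k ≤ 0 := mul_nonpos_of_nonneg_of_nonpos (by omega) (by omega)
          have := hf0 χ
          omega
        have : q * 1 ≤ q * k := mul_le_mul_of_nonneg_left (by omega) (by omega)
        rw [abs_mul, abs_neg, abs_one, one_mul, abs_of_pos (hf0 χ)]
        omega
    have hb15 := hFX b hbX hb1
    have hc15 := hFX c hcX hc1
    obtain ⟨Fb, hFb⟩ : ∃ F : ℤ, F = a b * f b := ⟨_, rfl⟩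
    obtain ⟨Fc, hFc⟩ : ∃ F : ℤ, F = a c * f c := ⟨_, rfl⟩
    obtain ⟨F, hF⟩ : ∃ F : ℤ, F = ε * f η₀ := ⟨_, rfl⟩
    rw [← hFb] at hb15
    rw [← hFc] at hc15
    have hF3 : F = 3 ∨ 13 ≤ |F| := by
      rcases eq_or_ne k₀ 0 with rfl | hk0
      · left
        rcases D.sign with h | h <;> rw [h] at hk₀ hF
        · omega
        · have := hf0 η₀; omega
      · right
        have hf' := hf0 η₀
        rcases lt_or_gt_of_ne hk0 with h' | h'
        · have : q * k₀ ≤ q * (-1) := mul_le_mul_of_nonneg_left (by omega) (by omega)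
          rw [hF, abs_mul, abs_of_pos hf']
          rcases D.sign with h | h <;> rw [h] at hk₀ <;> rw [h] <;> norm_num <;> omega
        · have : q * 1 ≤ q * k₀ := mul_le_mul_of_nonneg_left (by omega) (by omega)
          rw [hF, abs_mul, abs_of_pos hf']
          rcases D.sign with h | h <;> rw [h] at hk₀ <;> rw [h] <;> norm_num <;> omega
    have hasq : ∀ χ ∈ X, a χ * a χ = 1 := fun χ hχ => by rcases hsq χ hχ with h | h <;> simp [h]
    have hinvc : ∀ (s : ℤ) (n : ℤ), s * s = 1 → (s : ℂ) / (n : ℂ) = 1 / ((s * n : ℤ) : ℂ) := by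
      intro s n hs
      rcases Int.eq_one_or_neg_one_of_mul_eq_one hs with h | h <;> subst h <;>
        simp [neg_div, div_neg]
    have hεz : ε * ε = 1 := by rcases D.sign with h | h <;> simp [h]
    have hE' : (1 : ℝ) + (1 / (Fb : ℝ) + 1 / (Fc : ℝ)) = 9 / (F : ℝ) := by
      have e1 : (a b : ℂ) * (a b : ℂ) * (a b : ℂ) = (a b : ℂ) := by
        rw [show (a b : ℂ) * (a b : ℂ) = 1 by exact_mod_cast hasq b hbX, one_mul]
      have e2 : (a c : ℂ) * (a c : ℂ) * (a c : ℂ) = (a c : ℂ) := by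
        rw [show (a c : ℂ) * (a c : ℂ) = 1 by exact_mod_cast hasq c hcX, one_mul]
      rw [e1, e2, hinvc _ _ (hasq b hbX), hinvc _ _ (hasq c hcX), ← hFb, ← hFc,
        show -9 * (ε : ℂ) / ((f η₀ : ℤ) : ℂ) = -9 * ((ε : ℂ) / ((f η₀ : ℤ) : ℂ)) from
          mul_div_assoc _ _ _, hinvc _ _ hεz, ← hF] at hE
      have : (((1 : ℝ) + (1 / (Fb : ℝ) + 1 / (Fc : ℝ)) - 9 / (F : ℝ) : ℝ) : ℂ) = ((0 : ℝ) : ℂ) := by
        push_cast
        linear_combination hE
      exact sub_eq_zero.1 (Complex.ofReal_inj.1 this)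
    have hb' : |(1 : ℝ) / (Fb : ℝ)| ≤ 1 / 15 := by
      rw [abs_div, abs_one]
      exact one_div_le_one_div_of_le (by norm_num) (by exact_mod_cast hb15)
    have hc' : |(1 : ℝ) / (Fc : ℝ)| ≤ 1 / 15 := by
      rw [abs_div, abs_one]
      exact one_div_le_one_div_of_le (by norm_num) (by exact_mod_cast hc15)
    have hb'' := abs_le.1 hb'
    have hc'' := abs_le.1 hc'
    rcases hF3 with h | h
    · rw [h] at hE'
      push_cast at hE'
      norm_num at hE' hb'' hc''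
      linarith
    · have hF' : |(9 : ℝ) / (F : ℝ)| ≤ 9 / 13 := by
        rw [abs_div, abs_of_pos (by norm_num : (0 : ℝ) < 9)]
        exact div_le_div_of_nonneg_left (by norm_num) (by norm_num) (by exact_mod_cast h)
      have := (abs_le.1 hF').2
      norm_num at this hb'' hc'' hE'
      linarith
  -- odd prime
  have htreg : ¬ p ∣ orderOf t := by
    rw [ht]
    exact fun h => hp2 ((Nat.prime_dvd_prime_iff_eq hp Nat.prime_two).1 h)
  obtain ⟨y, hy⟩ : ∃ y : (P : Subgroup G), y ≠ 1 := by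
    by_contra h
    push Not at h
    have : Subsingleton (P : Subgroup G) := ⟨fun a b => (h a).trans (h b).symm⟩
    rw [Nat.card_of_subsingleton (1 : (P : Subgroup G))] at hP
    omega
  have hy2 : y * y ≠ 1 := fun e => by
    obtain ⟨k, hk⟩ := isPPow y
    have h2 : orderOf (y : G) ∣ 2 := orderOf_dvd_of_pow_eq_one (by
      rw [pow_two]; exact congrArg Subtype.val e)
    rcases Nat.eq_zero_or_pos k with rfl | hk0
    · exact hy (orderOf_eq_one_iff.1 (by rw [← Subgroup.orderOf_coe, hk, pow_zero]))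
    · exact hp2 ((Nat.prime_dvd_prime_iff_eq hp Nat.prime_two).1
        ((dvd_pow_self p hk0.ne').trans (hk ▸ h2)))
  have hE := hsplit y hy (no_product hab hfrob hM hCN ht hy (Or.inl hy2))
  have hY : ∑ᶠ η ∈ Y, (η : G → ℂ) t * (η : G → ℂ) t * conj ((η : G → ℂ) y) =
      -(ε : ℂ) * ((η₀ : G → ℂ) t * (η₀ : G → ℂ) t) := by
    rw [finsum_mem_congr rfl (g := fun η : Cfsg.IrrCharacter G => (η₀ : G → ℂ) t * (η₀ : G → ℂ) t *
      conj ((η : G → ℂ) y)) (fun η hη => by rw [hYY t htreg η hη]),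
      ← mul_finsum_mem' _ _ (Set.toFinite Y),
      show ∑ᶠ η ∈ Y, conj ((η : G → ℂ) y) = -(ε : ℂ) from ?_]
    · ring
    · refine mul_left_cancel₀ (three_ne_zero (α := ℂ)) ?_
      rw [← h3, Finset.sum_congr rfl fun ψ hψ => by
        rw [hconj, hvalY ψ (Finset.mem_erase.1 hψ).1 y⁻¹ (inv_ne_one.2 hy)], ← Finset.mul_sum,
        sum_orbit_lam hab hfrob hCN (inv_ne_one.2 hy)]
      ring
  obtain ⟨Xb, hXb⟩ := exists_int_apply_of_orderOf_two b ht
  obtain ⟨Xc, hXc⟩ := exists_int_apply_of_orderOf_two c ht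
  obtain ⟨Xe, hXe⟩ := exists_int_apply_of_orderOf_two η₀ ht
  have hrelt : (1 : ℤ) + a b * Xb + a c * Xc - ε * Xe = 0 := by
    have h := D.relation η₀ hη₀ t htreg
    rw [hsumX, D.one_a, hXb, hXc, hXe] at h
    simp only [trivIrr] at h
    rw [← Int.cast_inj (α := ℂ)]
    push_cast at h ⊢
    linear_combination h
  rw [hY, hXb, hXc, hXe] at hE
  have hab2 : a b * a b = 1 := by rcases hsq b hbX with h | h <;> simp [h]
  have hac2 : a c * a c = 1 := by rcases hsq c hcX with h | h <;> simp [h]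
  have hεz : ε * ε = 1 := by rcases D.sign with h | h <;> simp [h]
  have he : (f b : ℤ) * f c * f η₀ + Xb ^ 2 * a b * f c * f η₀ + Xc ^ 2 * a c * f b * f η₀ -
      ε * Xe ^ 2 * f b * f c = 0 := by
    rw [← Int.cast_inj (α := ℂ)]
    push_cast at hE ⊢
    have n1 : ((f b : ℕ) : ℂ) ≠ 0 := by exact_mod_cast (hf0 b).ne'
    have n2 : ((f c : ℕ) : ℂ) ≠ 0 := by exact_mod_cast (hf0 c).ne'
    have n3 : ((f η₀ : ℕ) : ℂ) ≠ 0 := by exact_mod_cast (hf0 η₀).ne'
    field_simp at hE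
    linear_combination hE
  have hne : ∀ (χ : Cfsg.IrrCharacter G) (X' : ℤ), (χ : G → ℂ) t = X' → χ ≠ trivIrr →
      ∀ s : ℤ, s * s = 1 → s * (f χ : ℤ) ≠ s * X' := by
    intro χ X' hX' hne s hs e
    refine apply_ne_one_of_normal_generator hgen hne ?_
    rw [hX', hfc χ, mul_left_cancel₀ (fun h0 : s = 0 => by rw [h0] at hs; simp at hs) e]
  have hη1 : η₀ ≠ trivIrr := fun e => Set.disjoint_left.1 D.disj D.one_mem (e ▸ hη₀)
  obtain ⟨hsg, hsquare⟩ := three_signs (fa := a b * f b) (fb := a c * f c) (fc := -ε * f η₀)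
    (xa := a b * Xb) (xb := a c * Xc) (xc := -ε * Xe) (by linarith) (by linarith)
    (by linear_combination (-(a b * a c * ε)) * he +
      (-(ε * (a b * Xb ^ 2 * a c * f c * f η₀))) * 0 +
      0 * hab2 + 0 * hac2 + 0 * hεz)
    (mul_ne_zero (fun h => by rw [h] at hab2; simp at hab2) (hf0 b).ne')
    (mul_ne_zero (fun h => by rw [h] at hac2; simp at hac2) (hf0 c).ne')
    (mul_ne_zero (fun h => by rw [neg_eq_zero] at h; rw [h] at hεz; simp at hεz) (hf0 η₀).ne')
    (hne c Xc hXc hc1 _ hac2) (hne η₀ Xe hXe hη1 _ (by rw [neg_mul_neg]; exact hεz))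
  have hsetX : {χ : Cfsg.IrrCharacter G | χ ∈ X ∧ (χ : G → ℂ) ≠ fun _ => 1} = {b, c} := by
    ext χ
    rw [hXeq]
    simp only [Set.mem_setOf_eq, Set.mem_insert_iff, Set.mem_singleton_iff]
    constructor
    · rintro ⟨rfl | h, hne'⟩
      · exact absurd rfl hne'
      · exact h
    · rintro (rfl | rfl)
      · exact ⟨Or.inr (Or.inl rfl), fun e => hb1 (Subtype.ext e)⟩
      · exact ⟨Or.inr (Or.inr rfl), fun e => hc1 (Subtype.ext e)⟩
  have hfb := hf0 b
  have hfc' := hf0 c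
  have hfe := hf0 η₀
  refine ⟨?_, fun η hη => ?_⟩
  · have e : {χ : Cfsg.IrrCharacter G | χ ∈ X ∧ (χ : G → ℂ) ≠ (fun _ => 1) ∧ a χ = -1} =
        {χ ∈ ({b, c} : Set (Cfsg.IrrCharacter G)) | a χ = -1} := by
      rw [← hsetX]; ext χ; simp [and_assoc]
    show Nat.card ({χ : Cfsg.IrrCharacter G | χ ∈ X ∧ (χ : G → ℂ) ≠ (fun _ => 1) ∧ a χ = -1} :
      Set _) + _ = 2
    rw [e, Nat.card_coe_set_eq]
    rcases hsq b hbX with h1 | h1 <;> rcases hsq c hcX with h2 | h2 <;>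
      rcases D.sign with h3 | h3 <;> rw [h1, h2, h3] at hsg <;> simp only [h3] <;>
      first
        | omega
        | (rw [show {χ ∈ ({b, c} : Set (Cfsg.IrrCharacter G)) | a χ = -1} = {b} by
              ext χ; simp only [Set.mem_setOf_eq, Set.mem_insert_iff, Set.mem_singleton_iff]
              exact ⟨fun ⟨h, h'⟩ => h.elim id (fun e => by rw [e, h2] at h'; omega),
                fun e => ⟨Or.inl e, by rw [e, h1]⟩⟩, Set.ncard_singleton]; norm_num)
        | (rw [show {χ ∈ ({b, c} : Set (Cfsg.IrrCharacter G)) | a χ = -1} = {c} by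
              ext χ; simp only [Set.mem_setOf_eq, Set.mem_insert_iff, Set.mem_singleton_iff]
              exact ⟨fun ⟨h, h'⟩ => h.elim (fun e => by rw [e, h1] at h'; omega) id,
                fun e => ⟨Or.inr e, by rw [e, h2]⟩⟩, Set.ncard_singleton]; norm_num)
        | (rw [show {χ ∈ ({b, c} : Set (Cfsg.IrrCharacter G)) | a χ = -1} = {b, c} by
              ext χ; simp only [Set.mem_setOf_eq, Set.mem_insert_iff, Set.mem_singleton_iff]
              exact ⟨fun h => h.1, fun e => ⟨e, by rcases e with e | e <;> rw [e]; exacts [h1, h2]⟩⟩,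
            Set.ncard_pair hbc]; norm_num)
  · rw [hsetX, finprod_mem_pair hbc, hdeg η hη]
    obtain ⟨k, hk⟩ := hsquare
    refine ⟨k.natAbs, ?_⟩
    have h := congrArg Int.natAbs hk
    simp only [Int.natAbs_mul, Int.natAbs_natCast, Int.natAbs_neg] at h
    have e1 : (a b).natAbs = 1 := by rcases hsq b hbX with h | h <;> simp [h]
    have e2 : (a c).natAbs = 1 := by rcases hsq c hcX with h | h <;> simp [h]
    have e3 : ε.natAbs = 1 := by rcases D.sign with h | h <;> simp [h]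
    rw [e1, e2, e3, one_mul, one_mul, one_mul, hf] at h
    simp only at h
    rw [← h]; ring

/-- Let p be a prime, M a maximal ideal of the algebraic integers containing p, and G a finite group with a nontrivial abelian Sylow p-subgroup P, N = N_G(P), C = C_G(P), such that N/C is cyclic of order 3, #P > 4, and C_G(y) ∩ N = C for every non-identity y ∈ P. Then the principal p-block is the disjoint union of a set X of exactly 3 characters containing the principal character and a set Y of (#P − 1)/3 characters, with signs a_χ = ±1 (χ ∈ X, a = 1 at the principal character) and δ = ±1 such that every χ ∈ X takes the value a_χ at every element whose p-part is a non-identity element of P, and there is a map ζ from the non-principal linear characters of P onto Y, constant on N-conjugacy classes, with ζ_ψ(z) = δ·Σ ψ'(y) over the N-orbit of ψ, for z with p-part y ≠ 1 in P. If moreover G has an involution lying in no proper normal subgroup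 of G, then exactly two of the three numbers −δ and a_χ (χ ∈ X non-principal) equal −1, and the product of the degrees of the two non-principal members of X and of any member of Y is a perfect square. -/
theorem result {G : Type*} [Group G] [Finite G] (p : ℕ) [Fact p.Prime] (M : Ideal Cfsg.AlgInt) (hM : Cfsg.IsPModular p M) (P : Sylow p G) (hab : IsMulCommutative P) (hP1 : Nat.card P ≠ 1) (hCN : (Subgroup.centralizer ((P : Subgroup G) : Set G)).relIndex (Subgroup.normalizer ((P : Subgroup G) : Set G)) = 3) (hcyc : ∃ g : G, g ∈ Subgroup.normalizer ((P : Subgroup G) : Set G) ∧ Subgroup.centralizer ((P : Subgroup G) : Set G) ⊔ Subgroup.zpowers g = Subgroup.normalizer ((P : Subgroup G) : Set G)) (hm2 : 3 + 1 < Nat.card P) (hfrob : ∀ y : G, y ∈ (P : Subgroup G) → y ≠ 1 → Subgroup.centralizer ({y} : Set G) ⊓ Subgroup.normalizer ((P : Subgroup G) : Set G) = Subgroup.centralizer ((P : Subgroup G) : Set G)) : ∃ (X Y : Set (Cfsg.IrrCharacter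 G)), Cfsg.principalBlock M G = X ∪ Y ∧ Disjoint X Y ∧ Nat.card X = 3 ∧ Nat.card Y = (Nat.card P - 1) / 3 ∧ (∃ χ₁ ∈ X, (χ₁ : G → ℂ) = fun _ => 1) ∧ ∃ (a : Cfsg.IrrCharacter G → ℤ) (δ : ℤ) (ζ : (↥(P : Subgroup G) →* ℂˣ) → Cfsg.IrrCharacter G), (δ = 1 ∨ δ = -1) ∧ (∀ χ ∈ X, (a χ = 1 ∨ a χ = -1) ∧ ∀ z y : G, Cfsg.IsPPart p z y → y ∈ (P : Subgroup G) → y ≠ 1 → (χ : G → ℂ) z = (a χ : ℂ)) ∧ (∀ ψ : ↥(P : Subgroup G) →* ℂˣ, ψ ≠ 1 → ζ ψ ∈ Y) ∧ (∀ η ∈ Y, ∃ ψ : ↥(P : Subgroup G) →* ℂˣ, ψ ≠ 1 ∧ ζ ψ = η) ∧ (∀ ψ ψ' : ↥(P : Subgroup G) →* ℂˣ, ψ ≠ 1 → (∃ n : G, n ∈ Subgroup.normalizer ((P : Subgroup G) : Set G) ∧ ∀ w w' : ↥(P : Subgroup G), (w' : G) = n * w * n⁻¹ → ψ' w' = ψ w) → ζ ψ' = ζ ψ) ∧ (∀ ψ : ↥(P : Subgroup G) →* ℂˣ, ψ ≠ 1 → ∀ (z : G) (y : ↥(P : Subgroup G)), Cfsg.IsPPart p z (y : G) → (y : G) ≠ 1 → (ζ ψ : G → ℂ) z = (δ : ℂ) * ∑ᶠ ψ' ∈ {ψ' : ↥(P : Subgroup G) →* ℂˣ | ∃ n : G, n ∈ Subgroup.normalizer ((P : Subgroup G) : Set G) ∧ ∀ w w' :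 ↥(P : Subgroup G), (w' : G) = n * w * n⁻¹ → ψ' w' = ψ w}, ((ψ' y : ℂˣ) : ℂ)) ∧ ((∃ t : G, orderOf t = 2 ∧ ∀ K : Subgroup G, K.Normal → t ∈ K → K = ⊤) → Nat.card {χ : Cfsg.IrrCharacter G // χ ∈ X ∧ (χ : G → ℂ) ≠ (fun _ => 1) ∧ a χ = -1} + (if δ = 1 then 1 else 0) = 2 ∧ ∀ η ∈ Y, IsSquare (Cfsg.charDegree (η : G → ℂ) * ∏ᶠ χ ∈ {χ : Cfsg.IrrCharacter G | χ ∈ X ∧ (χ : G → ℂ) ≠ fun _ => 1}, Cfsg.charDegree (χ : G → ℂ))) := by
  classical
  obtain ⟨r, ε₀, d, a, ζ₀, X, Y, D₀⟩ :=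
    exists_data hM hab hP1 hfrob hCN (by omega) hm2
  obtain ⟨ε, ζ, D⟩ := exists_data_zero hab hfrob hCN D₀
  have hfin : X.Finite := Set.toFinite X
  have hsum : ∑ χ ∈ hfin.toFinset, a χ ^ 2 = 3 := by
    have hn := D.norm
    rw [finsum_mem_eq_finite_toFinset_sum _ hfin] at hn
    rcases D.sign with h | h <;> rw [h] at hn <;> norm_num at hn <;> linarith
  have hsq : ∀ χ ∈ X, a χ = 1 ∨ a χ = -1 := by
    intro χ hχ
    have h1 : a χ ^ 2 ≤ 3 := hsum ▸ Finset.single_le_sum (f := fun χ => a χ ^ 2)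
      (fun χ _ => sq_nonneg _) (hfin.mem_toFinset.2 hχ)
    have h2 : -1 ≤ a χ ∧ a χ ≤ 1 := by constructor <;> nlinarith
    have := D.a_ne χ hχ
    omega
  have hX : Nat.card X = 3 := by
    rw [Nat.card_eq_card_finite_toFinset hfin]
    have : (hfin.toFinset.card : ℤ) = 3 := by
      rw [← hsum, Finset.card_eq_sum_ones, Nat.cast_sum]
      refine Finset.sum_congr rfl fun χ hχ => ?_
      rcases hsq χ (hfin.mem_toFinset.1 hχ) with h | h <;> rw [h] <;> norm_num
    exact_mod_cast this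
  have hr : (Nat.card P - 1) / 3 = r := by
    have h : r * 3 + 1 = Nat.card P := D.card_eq
    rw [← h, Nat.add_sub_cancel, Nat.mul_div_cancel _ (by omega)]
  refine ⟨X, Y, D.union, D.disj, hX, by rw [hr]; exact D.card_Y, ⟨_, D.one_mem, rfl⟩, a, ε, ζ,
    D.sign, fun χ hχ => ⟨hsq χ hχ, fun z y hz hy h1 =>
      D.val_X χ hχ z ⟨y, hy⟩ hz (fun h => h1 (congrArg Subtype.val h))⟩,
    fun ψ hψ => (D.mem_Y _).2 ⟨ψ, hψ, rfl⟩, fun η hη => (D.mem_Y η).1 hη, ?_, ?_, ?_⟩
  · intro ψ ψ' hψ h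
    obtain ⟨n, hn⟩ := (exists_cl_iff P ψ ψ').1 h
    have hψ' : ψ' ≠ 1 := fun e => hψ ((cl_eq_one_iff n ψ).1 (hn ▸ e))
    exact ((D.zeta_eq ψ ψ' hψ hψ').2 ⟨n, hn⟩).symm
  · intro ψ hψ z y hz hy
    rw [D.val_Y ψ hψ z y hz (fun h => hy (by rw [h]; rfl)), Int.cast_zero, zero_add]
    simp only [exists_cl_iff]
  · rintro ⟨t, ht, hgen⟩
    exact involution_part hM hab hfrob hCN hm2 D hX hsq ht hgen

end Cfsg.Agent.S4721
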