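import Cfsg.Statements.S4722
import Cfsg.Agent.Lib.BlockB.PrincipalSum
import Cfsg.Agent.Lib.BlockB.ClassMul
import Cfsg.Agent.Lib.Solvable.PCore

set_option autoImplicit false
open Cfsg

namespace Cfsg.Agent.S4722

/-- Let M be a maximal ideal of the algebraic integers containing 2, P a 2-subgroup of the finite group G, U a subset of P, and t an involution of G such that no element of U is inverted by any conjugate of t. Let θ be a generalized character of P vanishing outside U, and for χ in the principal 2-block B₀ put a_χ = #P⁻¹ Σ_{y ∈ P} χ(y) θ(y⁻¹). Then Σ_{χ ∈ B₀} a_χ χ(t)^2/χ(1) = 0, Σ_{χ ∈ B₀} a_χ χ(1) = 0 and Σ_{χ ∈ B₀} a_χ χ(t) = 0. If moreover #P⁻¹ Σ_{y ∈ P} θ(y) ≠ 0, then either at least two of the a_χ have positive real part and at least two have negative real part, or G has a proper normal subgroup containing O_2'(G) and t. -/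
theorem result {G : Type*} [Group G] [Finite G] (M : Ideal Cfsg.AlgInt) (hM : Cfsg.IsPModular 2 M) (P : Subgroup G) (hP : IsPGroup 2 P) (U : Set G) (hUP : U ⊆ (P : Set G)) (t : G) (ht : orderOf t = 2) (hinv : ∀ u ∈ U, ∀ g : G, (g * t * g⁻¹) * u * (g * t * g⁻¹)⁻¹ ≠ u⁻¹) (θ : ↥P → ℂ) (hθ : Cfsg.IsGeneralizedCharacter ↥P θ) (hθU : ∀ y : ↥P, (y : G) ∉ U → θ y = 0) : (∑ᶠ χ ∈ Cfsg.principalBlock M G, ((Nat.card ↥P : ℂ)⁻¹ * ∑ᶠ y : ↥P, (χ : G → ℂ) (y : G) * θ y⁻¹) * (χ : G → ℂ) t ^ 2 / (χ : G → ℂ) 1 = 0) ∧ (∑ᶠ χ ∈ Cfsg.principalBlock M G, ((Nat.card ↥P : ℂ)⁻¹ * ∑ᶠ y : ↥P, (χ : G → ℂ) (y : G) * θ y⁻¹) * (χ : G → ℂ) 1 = 0) ∧ (∑ᶠ χ ∈ Cfsg.principalBlock M G, ((Nat.card ↥P : ℂ)⁻¹ * ∑ᶠ y : ↥P, (χ : G → ℂ) (y : G) * θ y⁻¹) * (χ : G → ℂ) t = 0) ∧ ((Nat.card ↥P : ℂ)⁻¹ * ∑ᶠ y : ↥P, θ y ≠ 0 → (2 ≤ Nat.card {χ : Cfsg.IrrCharacter G // χ ∈ Cfsg.principalBlock M G ∧ 0 < (((Nat.card ↥P : ℂ)⁻¹ * ∑ᶠ y : ↥P, (χ : G → ℂ) (y : G) * θ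 y⁻¹)).re} ∧ 2 ≤ Nat.card {χ : Cfsg.IrrCharacter G // χ ∈ Cfsg.principalBlock M G ∧ (((Nat.card ↥P : ℂ)⁻¹ * ∑ᶠ y : ↥P, (χ : G → ℂ) (y : G) * θ y⁻¹)).re < 0}) ∨ ∃ K : Subgroup G, K.Normal ∧ K ≠ ⊤ ∧ Cfsg.pPrimeCore 2 G ≤ K ∧ t ∈ K) := by
  classical
  have := CfsgLib.Block.isPrime_of_pmodular hM
  have := Fintype.ofFinite G
  have := Fintype.ofFinite (Cfsg.IrrCharacter G)
  have := Fintype.ofFinite ↥P
  set B := Cfsg.principalBlock M G with hB
  have hBb : Cfsg.IsPBlock M B := CfsgLib.Block.isPBlock_principalBlock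
  have htt : t * t = 1 := by rw [← pow_two, ← ht, pow_orderOf_eq_one]
  have htinv : t⁻¹ = t := inv_eq_of_mul_eq_one_right htt
  have hfs : ∀ f : Cfsg.IrrCharacter G → ℂ, ∑ᶠ χ ∈ B, f χ = ∑ χ, if χ ∈ B then f χ else 0 := by
    intro f
    rw [finsum_mem_def, finsum_eq_sum_of_fintype]
    simp only [Set.indicator_apply]
  have hno : ∀ u ∈ U, ∀ s : G, s * t * s⁻¹ * u * (s * t * s⁻¹)⁻¹ ≠ u⁻¹ := hinv
  have hP2 : ∀ u ∈ U, ∃ k : ℕ, orderOf u = 2 ^ k := fun u hu => by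
    obtain ⟨k, hk⟩ := (IsPGroup.iff_orderOf.1 hP) ⟨u, hUP hu⟩
    exact ⟨k, by rw [← hk, ← Subgroup.orderOf_coe]⟩
  have ht2 : ∃ k : ℕ, orderOf t = 2 ^ k := ⟨1, by rw [ht, pow_one]⟩
  -- strong orthogonality against an element of `U`
  have hK : ∀ (g u : G), u ∈ U → (∀ w, Cfsg.IsPPart 2 g w → ¬ IsConj w u) →
      (∑ χ : Cfsg.IrrCharacter G,
        if χ ∈ B then (χ : G → ℂ) g * (starRingEnd ℂ) ((χ : G → ℂ) u) else 0) = 0 := by
    intro g u hu hw
    obtain ⟨w, hgw⟩ := CfsgLib.Block.exists_isPPart (p := 2) hM.1 g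
    rw [← hfs]
    exact CfsgLib.Block.sum_block_eq_zero hM hBb hgw
      (CfsgLib.BlockB.isPPart_self hM (hP2 u hu)) (hw w hgw)
  have hne1 : ∀ u ∈ U, ∀ w, Cfsg.IsPPart 2 (1 : G) w → ¬ IsConj w u := by
    intro u hu w hw hc
    rw [CfsgLib.Block.isPPart_unique hM.1 hw (CfsgLib.Block.isPPart_one_of_regular (by
      rw [orderOf_one]; exact hM.1.not_dvd_one)), isConj_one_right] at hc
    exact hno u hu 1 (by rw [hc]; group)
  have hnet : ∀ u ∈ U, ∀ w, Cfsg.IsPPart 2 t w → ¬ IsConj w u := by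
    intro u hu w hw hc
    rw [CfsgLib.Block.isPPart_unique hM.1 hw (CfsgLib.BlockB.isPPart_self hM ht2)] at hc
    obtain ⟨s, hs⟩ := isConj_iff.1 hc
    apply hno u hu s
    rw [← hs]
    calc s * t * s⁻¹ * (s * t * s⁻¹) * (s * t * s⁻¹)⁻¹ = s * t * s⁻¹ := by group
      _ = (s * t * s⁻¹)⁻¹ := by rw [mul_inv_rev, mul_inv_rev, inv_inv, htinv]; group
  have hinvdual : ∀ u ∈ U, ∀ (s g w : G), IsConj (t * (s * t * s⁻¹)) g →
      Cfsg.IsPPart 2 g w → ¬ IsConj w u := by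
    intro u hu s g w hg hw hc
    obtain ⟨c, rfl⟩ := isConj_iff.1 hg
    obtain ⟨d, rfl⟩ := isConj_iff.1 hc
    set g₀ := t * (s * t * s⁻¹) with hg₀
    have hw₀ : Cfsg.IsPPart 2 g₀ (c⁻¹ * w * c) := by
      have h := CfsgLib.Block.isPPart_conj hw c⁻¹
      rw [inv_inv] at h
      rwa [show c⁻¹ * (c * g₀ * c⁻¹) * c = g₀ by group] at h
    set w₀ := c⁻¹ * w * c with hw₀'
    have h1 : Cfsg.IsPPart 2 g₀⁻¹ (t * w₀ * t⁻¹) := by
      have h := CfsgLib.Block.isPPart_conj hw₀ t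
      have e : t * g₀ * t⁻¹ = g₀⁻¹ := by
        calc t * g₀ * t⁻¹ = (t * t) * (s * t * s⁻¹) * t⁻¹ := by rw [hg₀]; group
          _ = (s * t⁻¹ * s⁻¹) * t⁻¹ := by rw [htt, one_mul, htinv]
          _ = g₀⁻¹ := by rw [hg₀]; group
      rwa [e] at h
    have h2 : Cfsg.IsPPart 2 g₀⁻¹ w₀⁻¹ := by
      obtain ⟨y, hy, hcy, ⟨k, hk⟩, hy2⟩ := hw₀
      exact ⟨y⁻¹, by rw [← hy, ← mul_inv_rev, hcy.eq], hcy.inv_inv, ⟨k, by rw [orderOf_inv, hk]⟩,
        by rwa [orderOf_inv]⟩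
    have h3 : t * w₀ * t⁻¹ = w₀⁻¹ := CfsgLib.Block.isPPart_unique hM.1 h1 h2
    apply hno _ hu (d * c)
    calc (d * c) * t * (d * c)⁻¹ * (d * w * d⁻¹) * ((d * c) * t * (d * c)⁻¹)⁻¹
        = (d * c) * (t * w₀ * t⁻¹) * (d * c)⁻¹ := by rw [hw₀']; group
      _ = (d * w * d⁻¹)⁻¹ := by rw [h3, hw₀']; group
  let cf : Cfsg.IrrCharacter G → ℂ := fun χ => (χ : G → ℂ) t ^ 2 / (χ : G → ℂ) 1
  have hf0 : ∀ u ∈ U, ∀ g : G,
      (∑ χ : Cfsg.IrrCharacter G, cf χ * (starRingEnd ℂ) ((χ : G → ℂ) g)) ≠ 0 →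
      ∀ w, Cfsg.IsPPart 2 g w → ¬ IsConj w u := by
    intro u hu g hg w hw
    have hex : ∃ s : G, IsConj (t * (s * t * s⁻¹)) g := by
      by_contra hcon
      push Not at hcon
      apply hg
      let θg : G → ℂ := fun x => if IsConj x g then 1 else 0
      have hθg : Cfsg.IsClassFunction G θg := fun x h => by
        simp only [θg]
        refine if_congr ⟨fun e => (isConj_iff.2 ⟨h, rfl⟩).trans e,
          fun e => (isConj_iff.2 ⟨h, rfl⟩).symm.trans e⟩ rfl rfl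
      have hci : ∀ χ : Cfsg.IrrCharacter G, Cfsg.classInner θg (χ : G → ℂ) =
          ((Nat.card G : ℂ)⁻¹ * (Finset.univ.filter fun x => IsConj x g).card) *
            (starRingEnd ℂ) ((χ : G → ℂ) g) := by
        intro χ
        rw [CfsgLib.Char.classInner_def]
        simp only [θg, ite_mul, one_mul, zero_mul]
        rw [← Finset.sum_filter, Finset.sum_congr rfl (g := fun _ => (starRingEnd ℂ) ((χ : G → ℂ) g))
          (fun x hx => by rw [CfsgLib.Char.isClassFunction_isConj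
            (CfsgLib.Char.irr_isClassFunction χ.2) (Finset.mem_filter.1 hx).2]),
          Finset.sum_const, nsmul_eq_mul, mul_assoc]
      have h := CfsgLib.BlockB.sum_classFun_mul_conj hθg t t
      rw [Finset.sum_eq_zero fun s _ => by simp only [θg, if_neg (hcon s)],
        Finset.sum_congr rfl (g := fun χ : Cfsg.IrrCharacter G =>
          ((Nat.card G : ℂ)⁻¹ * (Finset.univ.filter fun x => IsConj x g).card) *
            (cf χ * (starRingEnd ℂ) ((χ : G → ℂ) g)))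
          (fun χ _ => by rw [hci]; simp only [cf]; ring), ← Finset.mul_sum, ← mul_assoc,
        ← mul_assoc, mul_inv_cancel₀ CfsgLib.Char.natCard_ne_zero, one_mul, eq_comm,
        mul_eq_zero] at h
      refine h.resolve_left (Nat.cast_ne_zero.2 (Finset.card_ne_zero.2 ⟨g, ?_⟩))
      exact Finset.mem_filter.2 ⟨Finset.mem_univ _, IsConj.refl g⟩
    obtain ⟨s, hs⟩ := hex
    exact hinvdual u hu s g w hs hw
  have hsum0 : ∀ u ∈ U, (∑ χ : Cfsg.IrrCharacter G,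
      if χ ∈ B then cf χ * (starRingEnd ℂ) ((χ : G → ℂ) u) else 0) = 0 := by
    intro u hu
    have h0 : ∑ g : G, (∑ χ : Cfsg.IrrCharacter G, cf χ * (starRingEnd ℂ) ((χ : G → ℂ) g)) *
        (∑ ψ : Cfsg.IrrCharacter G,
          if ψ ∈ B then (ψ : G → ℂ) g * (starRingEnd ℂ) ((ψ : G → ℂ) u) else 0) = 0 := by
      refine Finset.sum_eq_zero fun g _ => ?_
      by_cases hg : (∑ χ : Cfsg.IrrCharacter G, cf χ * (starRingEnd ℂ) ((χ : G → ℂ) g)) = 0
      · rw [hg, zero_mul]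
      · rw [hK g u hu (hf0 u hu g hg), mul_zero]
    have h1 : ∑ g : G, (∑ χ : Cfsg.IrrCharacter G, cf χ * (starRingEnd ℂ) ((χ : G → ℂ) g)) *
        (∑ ψ : Cfsg.IrrCharacter G,
          if ψ ∈ B then (ψ : G → ℂ) g * (starRingEnd ℂ) ((ψ : G → ℂ) u) else 0) =
        (Nat.card G : ℂ) * ∑ χ : Cfsg.IrrCharacter G,
          if χ ∈ B then cf χ * (starRingEnd ℂ) ((χ : G → ℂ) u) else 0 := by
      simp only [Finset.sum_mul]
      simp only [Finset.mul_sum]
      rw [Finset.sum_comm]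
      refine Finset.sum_congr rfl fun χ _ => ?_
      rw [Finset.sum_comm, Finset.sum_eq_single χ]
      · split_ifs with hχ
        · have h2 := CfsgLib.Char.irr_classInner_self χ.2
          rw [CfsgLib.Char.classInner_def, inv_mul_eq_one₀ CfsgLib.Char.natCard_ne_zero] at h2
          rw [h2, Finset.sum_mul]
          exact Finset.sum_congr rfl fun g _ => by ring
        · simp
      · intro ψ _ hψ
        have h2 := CfsgLib.Char.irr_classInner_ne ψ.2 χ.2 fun e => hψ (Subtype.ext e)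
        rw [CfsgLib.Char.classInner_def, mul_eq_zero] at h2
        have h3 := h2.resolve_left (inv_ne_zero CfsgLib.Char.natCard_ne_zero)
        split_ifs
        · calc ∑ g : G, cf χ * (starRingEnd ℂ) ((χ : G → ℂ) g) *
              ((ψ : G → ℂ) g * (starRingEnd ℂ) ((ψ : G → ℂ) u))
              = cf χ * (starRingEnd ℂ) ((ψ : G → ℂ) u) *
                ∑ g : G, (ψ : G → ℂ) g * (starRingEnd ℂ) ((χ : G → ℂ) g) := by
                rw [Finset.mul_sum]; exact Finset.sum_congr rfl fun g _ => by ring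
            _ = 0 := by rw [h3, mul_zero]
        · simp
      · exact fun h => absurd (Finset.mem_univ χ) h
    rw [h1, mul_eq_zero] at h0
    exact h0.resolve_left CfsgLib.Char.natCard_ne_zero
  let a : Cfsg.IrrCharacter G → ℂ := fun χ =>
    (Nat.card ↥P : ℂ)⁻¹ * ∑ᶠ y : ↥P, (χ : G → ℂ) (y : G) * θ y⁻¹
  have hgen : ∀ c : Cfsg.IrrCharacter G → ℂ,
      (∀ u ∈ U, (∑ χ : Cfsg.IrrCharacter G,
        if χ ∈ B then c χ * (starRingEnd ℂ) ((χ : G → ℂ) u) else 0) = 0) →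
      ∑ χ : Cfsg.IrrCharacter G, (if χ ∈ B then a χ * c χ else 0) = 0 := by
    intro c hc
    have h1 : ∀ χ : Cfsg.IrrCharacter G, (if χ ∈ B then a χ * c χ else 0) =
        ∑ y : ↥P, (Nat.card ↥P : ℂ)⁻¹ * θ y *
          (if χ ∈ B then c χ * (starRingEnd ℂ) ((χ : G → ℂ) (y : G)) else 0) := by
      intro χ
      split_ifs with hχ
      · simp only [a, finsum_eq_sum_of_fintype, Finset.mul_sum, Finset.sum_mul]
        refine Fintype.sum_equiv (Equiv.inv ↥P) _ _ fun y => ?_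
        simp only [Equiv.inv_apply, InvMemClass.coe_inv,
          CfsgLib.Char.char_inv (CfsgLib.Char.irr_isCharacter χ.2), Complex.conj_conj]
        ring
      · simp
    rw [Finset.sum_congr rfl fun χ _ => h1 χ, Finset.sum_comm]
    refine Finset.sum_eq_zero fun y _ => ?_
    rw [← Finset.mul_sum]
    by_cases hy : (y : G) ∈ U
    · rw [hc _ hy, mul_zero]
    · rw [hθU y hy]; simp
  have e1 : ∑ χ : Cfsg.IrrCharacter G, (if χ ∈ B then a χ * cf χ else 0) = 0 := hgen cf hsum0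
  have e2 : ∑ χ : Cfsg.IrrCharacter G, (if χ ∈ B then a χ * (χ : G → ℂ) 1 else 0) = 0 :=
    hgen (fun χ => (χ : G → ℂ) 1) fun u hu => hK 1 u hu (hne1 u hu)
  have e3 : ∑ χ : Cfsg.IrrCharacter G, (if χ ∈ B then a χ * (χ : G → ℂ) t else 0) = 0 :=
    hgen (fun χ => (χ : G → ℂ) t) fun u hu => hK t u hu (hnet u hu)
  refine ⟨?_, (hfs _).trans e2, (hfs _).trans e3, fun hm => ?_⟩
  · rw [hfs]
    refine Eq.trans (Finset.sum_congr rfl fun χ _ => ?_) e1
    simp only [a, cf, mul_div_assoc]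
  -- the sign statement
  by_contra hcon
  push Not at hcon
  obtain ⟨hcount, hnoK⟩ := hcon
  let d : Cfsg.IrrCharacter G → ℝ := fun χ => (Cfsg.charDegree (χ : G → ℂ) : ℝ)
  let e : Cfsg.IrrCharacter G → ℝ := fun χ => ((χ : G → ℂ) t).re
  have hd : ∀ χ : Cfsg.IrrCharacter G, (χ : G → ℂ) 1 = ((d χ : ℝ) : ℂ) := fun χ => by
    rw [← CfsgLib.Block.charDegree_cast (CfsgLib.Char.irr_isCharacter χ.2)]; simp [d]
  have hdpos : ∀ χ : Cfsg.IrrCharacter G, 0 < d χ := fun χ => by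
    rcases Nat.eq_zero_or_pos (Cfsg.charDegree (χ : G → ℂ)) with h | h
    · exact absurd (by rw [hd χ]; simp [d, h]) (CfsgLib.Char.irr_apply_one_ne_zero χ.2)
    · simp only [d]; exact_mod_cast h
  have he : ∀ χ : Cfsg.IrrCharacter G, (χ : G → ℂ) t = ((e χ : ℝ) : ℂ) := fun χ => by
    refine ((Complex.conj_eq_iff_re).1 ?_).symm
    rw [← CfsgLib.Char.char_inv (CfsgLib.Char.irr_isCharacter χ.2), htinv]
  let A : Cfsg.IrrCharacter G → ℝ := fun χ => if χ ∈ B then (a χ).re else 0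
  have hA : ∀ (c : Cfsg.IrrCharacter G → ℝ),
      (∑ χ : Cfsg.IrrCharacter G, (if χ ∈ B then a χ * (c χ : ℂ) else 0)) = 0 →
      ∑ χ : Cfsg.IrrCharacter G, A χ * c χ = 0 := fun c hc => by
    rw [← Complex.zero_re, ← hc, Complex.re_sum]
    refine Finset.sum_congr rfl fun χ _ => ?_
    simp only [A]
    split_ifs <;> simp
  have a1 : ∑ χ, A χ * d χ = 0 := hA d (by
    refine Eq.trans (Finset.sum_congr rfl fun χ _ => ?_) e2; simp only [hd])
  have a2 : ∑ χ, A χ * e χ = 0 := hA e (by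
    refine Eq.trans (Finset.sum_congr rfl fun χ _ => ?_) e3; simp only [he])
  have a3 : ∑ χ, A χ * (e χ ^ 2 / d χ) = 0 := hA (fun χ => e χ ^ 2 / d χ) (by
    refine Eq.trans (Finset.sum_congr rfl fun χ _ => ?_) e1
    simp only [cf, hd, he, Complex.ofReal_div, Complex.ofReal_pow])
  set χ₀ : Cfsg.IrrCharacter G := CfsgLib.Block.trivIrr with hχ₀
  have hA0 : A χ₀ ≠ 0 := by
    obtain ⟨k, hk⟩ := CfsgLib.Char.classInner_isGeneralized_int hθ
      (CfsgLib.Char.isGeneralized_of_isCharacter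
        (CfsgLib.Char.irr_isCharacter CfsgLib.Char.isIrrCharacter_one))
    have h1 : a χ₀ = (Nat.card ↥P : ℂ)⁻¹ * ∑ᶠ y : ↥P, θ y := by
      simp only [a, χ₀, CfsgLib.Block.trivIrr, one_mul, finsum_eq_sum_of_fintype]
      congr 1
      exact Equiv.sum_comp (Equiv.inv ↥P) θ
    have h2 : a χ₀ = (k : ℂ) := by
      rw [h1, ← hk, CfsgLib.Char.classInner_def, finsum_eq_sum_of_fintype]
      simp
    simp only [A]
    rw [if_pos (show χ₀ ∈ B from CfsgLib.Block.one_mem_principalBlock)]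
    rw [h2, Complex.intCast_re]
    intro h0
    apply hm
    rw [← h1, h2, Int.cast_eq_zero.1 h0, Int.cast_zero]
  have hd0 : d χ₀ = 1 ∧ e χ₀ = 1 := by
    simp [d, e, χ₀, CfsgLib.Block.trivIrr, Cfsg.charDegree]
  have main : ∀ F : Cfsg.IrrCharacter G → ℝ, (∀ χ, F χ ≠ 0 → χ ∈ B) → F χ₀ ≠ 0 →
      ∑ χ, F χ * d χ = 0 → ∑ χ, F χ * e χ = 0 → ∑ χ, F χ * (e χ ^ 2 / d χ) = 0 →
      (Finset.univ.filter fun χ => 0 < F χ).card ≤ 1 → False := by
    intro F hFB hF0 b1 b2 b3 hcard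
    rcases (Finset.univ.filter fun χ => 0 < F χ).eq_empty_or_nonempty with he' | ⟨χp, hχp⟩
    · have hle : ∀ χ, F χ ≤ 0 := fun χ => not_lt.1 fun h =>
        Finset.notMem_empty χ (he' ▸ Finset.mem_filter.2 ⟨Finset.mem_univ χ, h⟩)
      have h := (Finset.sum_eq_zero_iff_of_nonpos fun χ _ =>
        mul_nonpos_of_nonpos_of_nonneg (hle χ) (hdpos χ).le).1 b1 χ₀ (Finset.mem_univ _)
      exact hF0 ((mul_eq_zero.1 h).resolve_right (hdpos _).ne')
    set s := e χp / d χp with hs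
    have hq : ∑ χ, F χ * ((e χ - s * d χ) ^ 2 / d χ) = 0 := by
      rw [show (fun χ => F χ * ((e χ - s * d χ) ^ 2 / d χ)) = fun χ =>
          F χ * (e χ ^ 2 / d χ) - 2 * s * (F χ * e χ) + s ^ 2 * (F χ * d χ) from funext fun χ => by
        have := (hdpos χ).ne'
        field_simp
        ring]
      rw [Finset.sum_add_distrib, Finset.sum_sub_distrib, ← Finset.mul_sum, ← Finset.mul_sum,
        b1, b2, b3]
      ring
    have hnonpos : ∀ χ, F χ * ((e χ - s * d χ) ^ 2 / d χ) ≤ 0 := fun χ => by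
      by_cases hχ : 0 < F χ
      · rw [Finset.card_le_one.1 hcard χ (Finset.mem_filter.2 ⟨Finset.mem_univ χ, hχ⟩) χp hχp, hs,
          div_mul_cancel₀ _ (hdpos χp).ne']
        simp
      · exact mul_nonpos_of_nonpos_of_nonneg (not_lt.1 hχ)
          (div_nonneg (sq_nonneg _) (hdpos χ).le)
    have heq : ∀ χ, F χ ≠ 0 → e χ = s * d χ := fun χ hχ => by
      have h := (Finset.sum_eq_zero_iff_of_nonpos fun χ _ => hnonpos χ).1 hq χ (Finset.mem_univ _)
      have h2 := (div_eq_zero_iff.1 ((mul_eq_zero.1 h).resolve_left hχ)).resolve_right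
        (hdpos χ).ne'
      exact sub_eq_zero.1 ((pow_eq_zero_iff two_ne_zero).1 h2)
    have hs1 : s = 1 := by
      have := heq χ₀ hF0
      rw [hd0.1, hd0.2, mul_one] at this
      exact this.symm
    obtain ⟨χ, hχne, hχF⟩ : ∃ χ, χ ≠ χ₀ ∧ F χ ≠ 0 := by
      by_contra hall
      push Not at hall
      apply hF0
      rw [Finset.sum_eq_single χ₀ (fun χ _ h => by rw [hall χ h, zero_mul])
        (fun h => absurd (Finset.mem_univ _) h), hd0.1, mul_one] at b1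
      exact b1
    refine hnoK (CfsgLib.Block.kerIrr χ) inferInstance (fun hKtop => hχne ?_) ?_ ?_
    · have hc : (χ : G → ℂ) = fun _ => (χ : G → ℂ) 1 := funext fun g => by
        rw [← CfsgLib.Block.mem_kerIrr, hKtop]; trivial
      refine Subtype.ext ?_
      by_contra hne'
      have h := CfsgLib.Char.irr_classInner_ne χ.2 χ₀.2 hne'
      rw [hc] at h
      simp only [χ₀, CfsgLib.Block.trivIrr, CfsgLib.Char.classInner_def, map_one, mul_one,
        Finset.sum_const, Finset.card_univ, ← Nat.card_eq_fintype_card, nsmul_eq_mul, ← mul_assoc,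
        inv_mul_cancel₀ CfsgLib.Char.natCard_ne_zero, one_mul] at h
      exact CfsgLib.Char.irr_apply_one_ne_zero χ.2 h
    · have := CfsgLib.Solvable.pPrimeCore_normal 2 G
      refine CfsgLib.Block.le_kerIrr_of_mem_principalBlock hM ?_ (hFB χ hχF)
      rw [← hM.1.coprime_iff_not_dvd]
      exact (CfsgLib.Solvable.pPrimeCore_coprime 2).symm
    · rw [CfsgLib.Block.mem_kerIrr, he, hd, heq χ hχF, hs1, one_mul]
  have hcnt : ∀ (pr : ℝ → Prop), Nat.card {χ : Cfsg.IrrCharacter G // χ ∈ B ∧ pr (a χ).re} =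
      (Finset.univ.filter fun χ : Cfsg.IrrCharacter G => χ ∈ B ∧ pr (a χ).re).card := fun pr => by
    rw [Nat.card_eq_fintype_card, Fintype.card_subtype]
  have hAB : ∀ χ, A χ ≠ 0 → χ ∈ B := fun χ h => by
    by_contra hn
    exact h (if_neg hn)
  by_cases hpos : 2 ≤ Nat.card {χ : Cfsg.IrrCharacter G // χ ∈ B ∧ 0 < (a χ).re}
  · have hneg : Nat.card {χ : Cfsg.IrrCharacter G // χ ∈ B ∧ (a χ).re < 0} < 2 := hcount hpos
    rw [hcnt (· < 0)] at hneg
    refine main (fun χ => -A χ) (fun χ h => hAB χ (by simpa using h)) (by simpa using hA0)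
      (by simp only [neg_mul, Finset.sum_neg_distrib, a1, neg_zero])
      (by simp only [neg_mul, Finset.sum_neg_distrib, a2, neg_zero])
      (by simp only [neg_mul, Finset.sum_neg_distrib, a3, neg_zero]) ?_
    refine le_trans (Finset.card_le_card fun χ hχ => ?_) (Nat.lt_succ_iff.1 hneg)
    rw [Finset.mem_filter] at hχ ⊢
    have h1 := hχ.2
    simp only [A, neg_pos] at h1
    split_ifs at h1 with hB'
    · exact ⟨hχ.1, hB', h1⟩
    · exact absurd h1 (lt_irrefl 0)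
  · rw [hcnt (0 < ·)] at hpos
    refine main A hAB hA0 a1 a2 a3 ?_
    refine le_trans (Finset.card_le_card fun χ hχ => ?_) (Nat.lt_succ_iff.1 (not_le.1 hpos))
    rw [Finset.mem_filter] at hχ ⊢
    have h1 := hχ.2
    simp only [A] at h1
    split_ifs at h1 with hB'
    · exact ⟨hχ.1, hB', h1⟩
    · exact absurd h1 (lt_irrefl 0)

end Cfsg.Agent.S4722
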