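import Cfsg.Statements.S4723
import Cfsg.Agent.Lib.BlockA.NormalBlock
import Cfsg.Agent.S4491

set_option autoImplicit false
open Cfsg

namespace Cfsg.Agent.S4723

/-- Let p be a prime, M a maximal ideal of the algebraic integers containing p, H a normal subgroup of the finite group G and b a p-block of H. Let T be the stabilizer of b in G. Then b contains a character θ of height zero whose own stabilizer in G (the elements g with θ(g h g⁻¹) = θ(h) for all h ∈ H) has index prime to p in T, i.e. contains a Sylow p-subgroup of T. -/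
theorem result {G : Type*} [Group G] [Finite G] (p : ℕ) [Fact p.Prime] (M : Ideal Cfsg.AlgInt) (hM : Cfsg.IsPModular p M) (H : Subgroup G) [H.Normal] (b : Set (Cfsg.IrrCharacter ↥H)) (hb : Cfsg.IsPBlock M b) (T : Subgroup G) (hT : (∀ g : G, g ∈ T ↔ ∀ θ ∈ b, ∀ θ' : Cfsg.IrrCharacter ↥H, (∀ h h' : ↥H, (h' : G) = g * h * g⁻¹ → (θ' : ↥H → ℂ) h' = (θ : ↥H → ℂ) h) → θ' ∈ b)) : ∃ θ ∈ b, Cfsg.blockHeight p b (θ : ↥H → ℂ) = 0 ∧ ∃ S : Subgroup G, S ≤ T ∧ (∀ g : G, g ∈ S ↔ (g ∈ T ∧ ∀ h h' : ↥H, (h' : G) = g * h * g⁻¹ → (θ : ↥H → ℂ) h' = (θ : ↥H → ℂ) h)) ∧ ¬ p ∣ S.relIndex T := by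
  classical
  have := Fact.mk hM.1
  have := Fintype.ofFinite G
  have := Fintype.ofFinite H
  have := CfsgLib.Block.isPrime_of_pmodular hM
  have := Fintype.ofFinite (Cfsg.IrrCharacter H)
  -- membership in the stabiliser
  have hTc : ∀ g : G, g ∈ T → ∀ θ ∈ b, CfsgLib.Block.conjIrr H θ g⁻¹ ∈ b := by
    intro g hg θ hθ
    refine (hT g).1 hg θ hθ _ fun h h' hh => ?_
    rw [CfsgLib.Block.conjIrr_apply]
    exact congrArg (θ : H → ℂ) (Subtype.ext (by simp [hh, mul_assoc]))
  have hHT : H ≤ T := by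
    intro g hg
    refine (hT g).2 fun θ hθ θ' hθ' => ?_
    have e : θ' = θ := Subtype.ext (funext fun h => by
      have h1 := hθ' (⟨g, hg⟩⁻¹ * h * ⟨g, hg⟩) h (by simp [mul_assoc])
      rw [h1]
      have h2 := CfsgLib.Char.irr_isClassFunction θ.2 h (⟨g, hg⟩⁻¹ : H)
      rwa [inv_inv] at h2)
    rwa [e]
  -- a Sylow subgroup of the stabiliser and its trace on `H`
  obtain ⟨S0⟩ := (inferInstance : Nonempty (Sylow p T))
  set S : Subgroup G := (S0 : Subgroup T).map T.subtype with hSdef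
  have hST : S ≤ T := Subgroup.map_subtype_le _
  have hSp : IsPGroup p S := S0.2.map _
  set P : Subgroup H := S.subgroupOf H with hPdef
  have hPp : IsPGroup p P := hSp.comap_of_injective _ H.subtype_injective
  have hPconj : ∀ s ∈ S, ∀ z : P, (⟨s⁻¹ * ((z : H) : G) * s⁻¹⁻¹,
      (inferInstance : H.Normal).conj_mem _ (z : H).2 _⟩ : H) ∈ P := by
    intro s hs z
    refine Subgroup.mem_subgroupOf.2 ?_
    exact S.mul_mem (S.mul_mem (S.inv_mem hs) (Subgroup.mem_subgroupOf.1 z.2))
      (S.inv_mem (S.inv_mem hs))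
  have := Fintype.ofFinite P
  -- multiplicities of the principal character of `P`
  choose m hm using fun θ : Cfsg.IrrCharacter H => CfsgLib.Char.classInner_isCharacter_nat
    (CfsgLib.Char.isCharacter_restrict (CfsgLib.Char.irr_isCharacter θ.2) P)
    CfsgLib.Char.isCharacter_one
  have hmsum : ∀ θ : Cfsg.IrrCharacter H,
      (Nat.card P : ℂ) * (m θ : ℂ) = ∑ z : P, (θ : H → ℂ) (z : H) := by
    intro θ
    rw [← hm θ, CfsgLib.Char.classInner_def, ← mul_assoc,
      mul_inv_cancel₀ (Nat.cast_ne_zero.2 Nat.card_pos.ne'), one_mul]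
    simp
  let f : Cfsg.IrrCharacter H → ℕ := fun θ => m θ * Cfsg.charDegree (θ : H → ℂ)
  have hb' : ∀ θ, θ ∈ b.toFinite.toFinset ↔ θ ∈ b := fun θ => Set.Finite.mem_toFinset _
  have hident : Nat.card P * ∑ θ ∈ b.toFinite.toFinset, f θ =
      ∑ᶠ θ ∈ b, Cfsg.charDegree (θ : H → ℂ) ^ 2 := by
    rw [finsum_mem_eq_finite_toFinset_sum _ b.toFinite]
    have h1 : ((Nat.card P * ∑ θ ∈ b.toFinite.toFinset, f θ : ℕ) : ℂ) =
        ((∑ θ ∈ b.toFinite.toFinset, Cfsg.charDegree (θ : H → ℂ) ^ 2 : ℕ) : ℂ) := by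
      push_cast
      simp only [f, Nat.cast_mul, Finset.mul_sum, ← mul_assoc, hmsum]
      simp only [Finset.sum_mul]
      rw [Finset.sum_comm, Finset.sum_eq_single (1 : P)]
      · refine Finset.sum_congr rfl fun θ _ => ?_
        rw [OneMemClass.coe_one, ← CfsgLib.Block.charDegree_cast (CfsgLib.Char.irr_isCharacter θ.2),
          sq]
      · intro z _ hz
        have hsing : p ∣ orderOf ((z : H)) := by
          obtain ⟨k, hk⟩ := IsPGroup.iff_orderOf.1 hPp z
          rw [Subgroup.orderOf_coe, hk]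
          rcases Nat.eq_zero_or_pos k with rfl | hk0
          · exact absurd (orderOf_eq_one_iff.1 (by rw [hk, pow_zero])) hz
          · exact dvd_pow_self p hk0.ne'
        have h2 := CfsgLib.Block.sum_block_eq_zero_of_regular_singular hM hb
          (g := (1 : H)) (by rw [orderOf_one]; exact hM.1.not_dvd_one) hsing
        rw [finsum_mem_eq_finite_toFinset_sum _ b.toFinite] at h2
        have h3 := congrArg (starRingEnd ℂ) h2
        rw [map_zero, map_sum] at h3
        rw [← h3]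
        refine Finset.sum_congr rfl fun θ _ => ?_
        rw [map_mul, Complex.conj_conj,
          ← CfsgLib.Block.charDegree_cast (CfsgLib.Char.irr_isCharacter θ.2), Complex.conj_natCast,
          mul_comm]
      · intro h; exact absurd (Finset.mem_univ _) h
    exact_mod_cast h1
  -- valuations
  set n := sInf ((fun ψ : Cfsg.IrrCharacter H => (Cfsg.charDegree (ψ : H → ℂ)).factorization p) '' b)
    with hn
  have hsd := CfsgLib.Block.sInf_degree_add_blockDefect hM hb
  have hPcard : (Nat.card P).factorization p = (Nat.card H).factorization p := by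
    refine le_antisymm ((Nat.factorization_le_iff_dvd Nat.card_pos.ne' Nat.card_pos.ne').2
      (Subgroup.card_subgroup_dvd_card P) p) ?_
    set A : Subgroup T := (S0 : Subgroup T) with hA
    set H' : Subgroup T := H.subgroupOf T with hH'
    have hn : H'.Normal := inferInstance
    have h1 : Nat.card (H'.subgroupOf A) = Nat.card P := by
      refine Nat.card_congr ⟨fun x => ⟨⟨((x : A) : T), Subgroup.mem_subgroupOf.1
        (Subgroup.mem_subgroupOf.1 x.2)⟩, Subgroup.mem_subgroupOf.2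
          (Subgroup.mem_map_of_mem _ (x : A).2)⟩,
        fun z => ⟨⟨⟨((z : H) : G), hHT (z : H).2⟩, ?_⟩, ?_⟩, fun x => rfl, fun z => rfl⟩
      · obtain ⟨t, ht, e⟩ := Subgroup.mem_subgroupOf.1 z.2
        have : (⟨((z : H) : G), hHT (z : H).2⟩ : T) = t := Subtype.ext e.symm
        rw [this]; exact ht
      · exact Subgroup.mem_subgroupOf.2 (Subgroup.mem_subgroupOf.2 (z : H).2)
    have h2 : Nat.card H' = Nat.card H :=
      Nat.card_congr (Subgroup.subgroupOfEquivOfLe hHT).toEquiv
    have h3 : (Nat.card A).factorization p = (Nat.card T).factorization p := by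
      rw [hA, Sylow.card_eq_multiplicity, (Fact.out : p.Prime).factorization_pow,
        Finsupp.single_eq_same]
    have h4 : H'.relIndex A ∣ H'.index := Subgroup.relIndex_dvd_index_of_normal _ _
    have h5 : (H'.relIndex A).factorization p ≤ H'.index.factorization p :=
      (Nat.factorization_le_iff_dvd Subgroup.index_ne_zero_of_finite
        Subgroup.index_ne_zero_of_finite).2 h4 p
    have h6 : (H'.relIndex A).factorization p + (Nat.card P).factorization p =
        (Nat.card A).factorization p := by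
      conv_rhs => rw [← (H'.subgroupOf A).index_mul_card]
      rw [Nat.factorization_mul Subgroup.index_ne_zero_of_finite Nat.card_pos.ne',
        Finsupp.add_apply, h1]
      rfl
    have h7 : H'.index.factorization p + (Nat.card H).factorization p =
        (Nat.card T).factorization p := by
      conv_rhs => rw [← H'.index_mul_card]
      rw [Nat.factorization_mul Subgroup.index_ne_zero_of_finite Nat.card_pos.ne',
        Finsupp.add_apply, h2]
    omega
  have hsq := Cfsg.Agent.S4491.result p M hM b hb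
  rw [← hident] at hsq
  have hsum0 : ∑ θ ∈ b.toFinite.toFinset, f θ ≠ 0 := by
    intro h
    rw [h, mul_zero, finsum_mem_eq_finite_toFinset_sum _ b.toFinite] at hident
    obtain ⟨θ, hθ⟩ := CfsgLib.Block.isPBlock_nonempty hb
    exact CfsgLib.Block.charDegree_ne_zero θ.2
      (pow_eq_zero_iff (two_ne_zero) |>.1 ((Finset.sum_eq_zero_iff).1 hident.symm θ ((hb' θ).2 hθ)))
  rw [Nat.factorization_mul Nat.card_pos.ne' hsum0, Finsupp.add_apply, hPcard] at hsq
  have hval : (∑ θ ∈ b.toFinite.toFinset, f θ).factorization p = n := by omega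
  have hdiv : ∀ θ ∈ b, p ^ n ∣ f θ := fun θ hθ =>
    dvd_mul_of_dvd_right ((Fact.out : p.Prime).pow_dvd_iff_le_factorization
      (CfsgLib.Block.charDegree_ne_zero θ.2) |>.2 (Nat.sInf_le (Set.mem_image_of_mem (fun ψ : Cfsg.IrrCharacter H => (Cfsg.charDegree (ψ : H → ℂ)).factorization p) hθ))) _
  -- the action of `S` on the block
  let _ : MulAction S b :=
    { smul := fun s θ => ⟨CfsgLib.Block.conjIrr H θ.1 (s : G)⁻¹, hTc s (hST s.2) θ.1 θ.2⟩
      one_smul := fun θ => Subtype.ext (by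
        show CfsgLib.Block.conjIrr H θ.1 ((1 : S) : G)⁻¹ = θ.1
        rw [OneMemClass.coe_one, inv_one, CfsgLib.Block.conjIrr_one])
      mul_smul := fun s t θ => Subtype.ext (by
        show CfsgLib.Block.conjIrr H θ.1 ((s * t : S) : G)⁻¹ =
          CfsgLib.Block.conjIrr H (CfsgLib.Block.conjIrr H θ.1 (t : G)⁻¹) (s : G)⁻¹
        rw [CfsgLib.Block.conjIrr_conjIrr, Subgroup.coe_mul, mul_inv_rev]) }
  have hfinv : ∀ (s : S) (θ : b), f (s • θ).1 = f θ.1 := by
    intro s θ
    show f (CfsgLib.Block.conjIrr H θ.1 (s : G)⁻¹) = f θ.1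
    have hd : Cfsg.charDegree ((CfsgLib.Block.conjIrr H θ.1 (s : G)⁻¹ : Cfsg.IrrCharacter H) : H → ℂ)
        = Cfsg.charDegree (θ.1 : H → ℂ) := by
      have h1 := CfsgLib.Block.charDegree_cast (CfsgLib.Char.irr_isCharacter
        (CfsgLib.Block.conjIrr H θ.1 (s : G)⁻¹).2)
      have h2 := CfsgLib.Block.charDegree_cast (CfsgLib.Char.irr_isCharacter θ.1.2)
      rw [CfsgLib.Block.conjIrr_apply] at h1
      simp only [OneMemClass.coe_one, mul_one, mul_inv_cancel] at h1
      rw [show (⟨(1 : G), H.one_mem⟩ : H) = 1 from rfl, ← h2] at h1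
      exact_mod_cast h1
    have hmm : m (CfsgLib.Block.conjIrr H θ.1 (s : G)⁻¹) = m θ.1 := by
      have h1 : (Nat.card P : ℂ) * (m (CfsgLib.Block.conjIrr H θ.1 (s : G)⁻¹) : ℂ) =
          (Nat.card P : ℂ) * (m θ.1 : ℂ) := by
        rw [hmsum, hmsum]
        simp only [CfsgLib.Block.conjIrr_apply]
        refine Finset.sum_bij (fun z _ => (⟨_, hPconj (s : G) s.2 z⟩ : P)) (fun _ _ => Finset.mem_univ _)
          (fun z _ z' _ h => ?_) (fun z _ => ?_) fun z _ => rfl
        · have h' := congrArg (fun w : P => ((w : H) : G)) h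
          simpa using h'
        · refine ⟨⟨_, hPconj (s : G)⁻¹ (S.inv_mem s.2) z⟩, Finset.mem_univ _, ?_⟩
          exact Subtype.ext (Subtype.ext (by simp [mul_assoc]))
      exact_mod_cast mul_left_cancel₀ (Nat.cast_ne_zero.2 Nat.card_pos.ne') h1
    simp only [f, hd, hmm]
  -- some fixed character has height zero
  obtain ⟨θ, hfix, hnd⟩ : ∃ θ : b, θ ∈ MulAction.fixedPoints S b ∧
      ((f θ.1 / p ^ n : ℕ) : ZMod p) ≠ 0 := by
    by_contra hcon
    push Not at hcon
    have := Fintype.ofFinite b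
    have h1 := CfsgLib.Block.sum_eq_sum_fixed hSp (N := ZMod p)
      (fun v => by rw [nsmul_eq_mul, ZMod.natCast_self, zero_mul])
      (fun θ : b => ((f θ.1 / p ^ n : ℕ) : ZMod p)) (fun s θ => by simp only [hfinv s θ])
    rw [Finset.sum_eq_zero (s := Finset.univ.filter _)
      (fun θ hθ => hcon θ (Finset.mem_filter.1 hθ).2), ← Nat.cast_sum,
      ZMod.natCast_eq_zero_iff] at h1
    have h2 : ∑ θ ∈ b.toFinite.toFinset, f θ = p ^ n * ∑ θ : b, f θ.1 / p ^ n := by
      rw [Finset.mul_sum, Finset.sum_congr rfl fun (θ : b) _ => Nat.mul_div_cancel' (hdiv θ.1 θ.2)]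
      exact Finset.sum_subtype _ hb' f
    have h3 : p ^ (n + 1) ∣ ∑ θ ∈ b.toFinite.toFinset, f θ := by
      rw [h2, pow_succ]
      exact mul_dvd_mul_left _ h1
    have h4 := ((Fact.out : p.Prime).pow_dvd_iff_le_factorization hsum0).1 h3
    omega
  have hh0 : Cfsg.blockHeight p b (θ.1 : H → ℂ) = 0 := by
    rw [CfsgLib.Block.blockHeight_eq_zero_iff hM hb θ.2]
    refine le_antisymm ?_ (Nat.sInf_le ⟨θ.1, θ.2, rfl⟩)
    by_contra h
    push Not at h
    apply hnd
    rw [ZMod.natCast_eq_zero_iff, Nat.dvd_div_iff_mul_dvd (hdiv θ.1 θ.2), ← pow_succ]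
    exact dvd_mul_of_dvd_right ((Fact.out : p.Prime).pow_dvd_iff_le_factorization
      (CfsgLib.Block.charDegree_ne_zero θ.1.2) |>.2 h) _
  let Sθ : Subgroup G :=
    { carrier := {g | g ∈ T ∧ CfsgLib.Block.conjIrr H θ.1 g = θ.1}
      one_mem' := ⟨T.one_mem, CfsgLib.Block.conjIrr_one _⟩
      mul_mem' := fun {x y} hx hy => ⟨T.mul_mem hx.1 hy.1, by
        rw [← CfsgLib.Block.conjIrr_conjIrr, hx.2, hy.2]⟩
      inv_mem' := fun {x} hx => ⟨T.inv_mem hx.1, by
        conv_lhs => rw [← hx.2]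
        rw [CfsgLib.Block.conjIrr_conjIrr, mul_inv_cancel, CfsgLib.Block.conjIrr_one]⟩ }
  refine ⟨θ.1, θ.2, hh0, Sθ, fun g hg => hg.1, fun g => ⟨fun hg => ⟨hg.1, fun h h' hh => ?_⟩,
    fun hg => ⟨hg.1, Subtype.ext (funext fun h => ?_)⟩⟩, ?_⟩
  · have h1 := congrFun (congrArg Subtype.val hg.2) h
    rw [CfsgLib.Block.conjIrr_apply] at h1
    rw [← h1]
    exact congrArg (θ.1 : H → ℂ) (Subtype.ext hh)
  · rw [CfsgLib.Block.conjIrr_apply]
    exact hg.2 h _ rfl
  · have hle : S ≤ Sθ := fun s hs => ⟨hST hs, by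
      have h1 := congrArg Subtype.val (hfix ⟨s⁻¹, S.inv_mem hs⟩)
      change CfsgLib.Block.conjIrr H θ.1 (s⁻¹)⁻¹ = θ.1 at h1
      rwa [inv_inv] at h1⟩
    intro h
    apply S0.not_dvd_index
    have h7 : S.relIndex T = (S0 : Subgroup T).index := by
      rw [hSdef, Subgroup.relIndex, Subgroup.subgroupOf,
        Subgroup.comap_map_eq_self_of_injective T.subtype_injective]
    rw [← h7]
    exact h.trans (Subgroup.relIndex_dvd_of_le_left T hle)

end Cfsg.Agent.S4723
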