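import Cfsg.Statements.S4725
import Cfsg.Agent.Lib.BlockB.InducedDegree

set_option autoImplicit false
open Cfsg

namespace Cfsg.Agent.S4725

/-- Let p be a prime, M a maximal ideal of the algebraic integers containing p, H a subgroup of the finite group G, and b a p-block of H inducing the p-block B of G, with b and B of the same defect. Then for every height-zero ζ ∈ b there is a height-zero χ ∈ B whose multiplicity in the character induced from ζ is not divisible by p. -/
theorem result {G : Type*} [Group G] [Fintype G] (p : ℕ) [Fact p.Prime] (M : Ideal Cfsg.AlgInt) (hM : Cfsg.IsPModular p M) (H : Subgroup G) (b : Set (Cfsg.IrrCharacter ↥H)) (B : Set (Cfsg.IrrCharacter G)) (hind : Cfsg.IsInducedBlock M H b B) (hdef : Cfsg.blockDefect p b = Cfsg.blockDefect p B) (ζ : Cfsg.IrrCharacter ↥H) (hζ : ζ ∈ b) (hζ0 : Cfsg.blockHeight p b (ζ : ↥H → ℂ) = 0) : ∃ χ ∈ B, Cfsg.blockHeight p B (χ : G → ℂ) = 0 ∧ ∃ a : ℕ, Cfsg.classInner (Cfsg.indFun H (ζ : ↥H → ℂ)) (χ : G → ℂ) = (a : ℂ) ∧ ¬ p ∣ a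 := by
  classical
  have := CfsgLib.Block.isPrime_of_pmodular hM
  obtain ⟨a, ha, -, hv⟩ := CfsgLib.BlockB.exists_indFun_blockDegree hM hind hζ
  have hB := hind.2.1
  have hb := hind.1
  set sB := sInf ((fun χ : Cfsg.IrrCharacter G =>
    (Cfsg.charDegree (χ : G → ℂ)).factorization p) '' B) with hsB
  have h1 := CfsgLib.Block.sInf_degree_add_blockDefect hM hB
  have h2 := CfsgLib.Block.sInf_degree_add_blockDefect hM hb
  have hζs : (Cfsg.charDegree (ζ : H → ℂ)).factorization p =
      sInf ((fun χ : Cfsg.IrrCharacter H => (Cfsg.charDegree (χ : H → ℂ)).factorization p) '' b) :=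
    le_antisymm (Nat.sub_eq_zero_iff_le.1 hζ0) (Nat.sInf_le ⟨ζ, hζ, rfl⟩)
  have hidx : H.index.factorization p + (Nat.card H).factorization p =
      (Nat.card G).factorization p := by
    rw [← Finsupp.add_apply,
      ← Nat.factorization_mul Subgroup.index_ne_zero_of_finite Nat.card_pos.ne', H.index_mul_card]
  have hp : p.Prime := Fact.out
  set N := ∑ χ ∈ B.toFinite.toFinset, a χ * Cfsg.charDegree (χ : G → ℂ) with hN
  have hvN : N.factorization p = sB := by
    rw [hv, Nat.factorization_mul Subgroup.index_ne_zero_of_finite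
      (CfsgLib.Block.charDegree_ne_zero ζ.2), Finsupp.add_apply, hζs]
    omega
  have hN0 : N ≠ 0 := by
    intro e
    obtain ⟨a', ha', hmod, -⟩ := CfsgLib.BlockB.exists_indFun_blockDegree hM hind hζ
    have : a' = a := funext fun χ => Nat.cast_injective (R := ℂ) (by rw [← ha', ← ha])
    rw [this, ← hN, e, Nat.cast_zero, zero_div, zero_sub] at hmod
    exact CfsgLib.Block.not_memLocalIdeal_one (M := M)
      (by simpa using CfsgLib.Block.memLocalIdeal_neg hmod)
  by_contra hcon
  push Not at hcon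
  apply (Nat.pow_succ_factorization_not_dvd hN0 hp)
  rw [hvN]
  refine Finset.dvd_sum fun χ hχ => ?_
  have hχB := B.toFinite.mem_toFinset.1 hχ
  have hd0 : Cfsg.charDegree (χ : G → ℂ) ≠ 0 := CfsgLib.Block.charDegree_ne_zero χ.2
  have hle : sB ≤ (Cfsg.charDegree (χ : G → ℂ)).factorization p := Nat.sInf_le ⟨χ, hχB, rfl⟩
  by_cases hh : Cfsg.blockHeight p B (χ : G → ℂ) = 0
  · rw [pow_succ']
    exact mul_dvd_mul (hcon χ hχB hh (a χ) (ha χ)) ((hp.pow_dvd_iff_le_factorization hd0).2 hle)
  · refine dvd_mul_of_dvd_right ((hp.pow_dvd_iff_le_factorization hd0).2 ?_) _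
    simp only [Cfsg.blockHeight, ← hsB] at hh
    omega

end Cfsg.Agent.S4725
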