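import Cfsg.Statements.S4726
import Cfsg.Agent.Lib.BlockB.CenInduce

set_option autoImplicit false
open Cfsg

namespace Cfsg.Agent.S4726

/-- Let p be a prime, M a maximal ideal of the algebraic integers containing p, H a subgroup of the finite group G and b a p-block of H with defect group D₀ such that C_G(D₀) ≤ H. Then b induces a block of G, and for every block B of G induced by b there is a defect group D of B with Z(D) ≤ Z(D₀) ≤ D₀ ≤ D (as subgroups of G). In particular, if the defect groups of B are abelian then D₀ is a defect group of B. -/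
theorem result {G : Type*} [Group G] [Finite G] (p : ℕ) [Fact p.Prime] (M : Ideal Cfsg.AlgInt) (hM : Cfsg.IsPModular p M) (H : Subgroup G) (b : Set (Cfsg.IrrCharacter ↥H)) (hb : Cfsg.IsPBlock M b) (D₀ : Subgroup ↥H) (hD₀ : Cfsg.IsDefectGroup p M b D₀) (hC : Subgroup.centralizer ((D₀.map H.subtype : Subgroup G) : Set G) ≤ H) : Cfsg.InducedBlockDefined M H b ∧ ∀ B : Set (Cfsg.IrrCharacter G), Cfsg.IsInducedBlock M H b B → (∃ D : Subgroup G, Cfsg.IsDefectGroup p M B D ∧ (Subgroup.center ↥D).map D.subtype ≤ ((Subgroup.center ↥D₀).map D₀.subtype).map H.subtype ∧ ((Subgroup.center ↥D₀).map D₀.subtype).map H.subtype ≤ D₀.map H.subtype ∧ D₀.map H.subtype ≤ D) ∧ (∀ D : Subgroup G, Cfsg.IsDefectGroup p M B D → IsMulCommutative ↥D → Cfsg.IsDefectGroup p M B (D₀.map H.subtype)) := by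
  classical
  have := CfsgLib.Block.isPrime_of_pmodular hM
  set D := D₀.map H.subtype with hDdef
  have hD₀p : IsPGroup p D₀ := CfsgLib.Block.isPGroup_defectGroup hM hb hD₀
  have hDp : IsPGroup p D := hD₀p.map _
  have hDH : D ≤ H := Subgroup.map_subtype_le D₀
  have hne : ∃ c ∈ Subgroup.centralizer (D : Set G), (CfsgLib.BlockA.sIdem M H b).coeff c ≠ 0 := by
    obtain ⟨c, hc, hc0⟩ := (CfsgLib.Block.exists_le_conj_iff_coeff hM hb hD₀ hD₀p).2
      ⟨1, le_of_eq (CfsgLib.Block.map_conj_one D₀).symm⟩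
    refine ⟨(c : G), ?_, by
      rwa [CfsgLib.BlockA.sIdem, CfsgLib.Block.coeff_inclSub_of_mem]⟩
    rw [Subgroup.mem_centralizer_iff]
    rintro _ ⟨u, hu, rfl⟩
    exact congrArg Subtype.val (Subgroup.mem_centralizer_iff.1 hc u hu)
  obtain ⟨e, he, hmul, hlam⟩ := CfsgLib.BlockB.exists_below hM hDp hDH hC hb hne
  obtain ⟨B₀, hind₀, hpair⟩ := CfsgLib.BlockB.exists_induced hM hDp hDH hC hb he hlam
  refine ⟨⟨B₀, hind₀⟩, fun B hind => ?_⟩
  obtain rfl : B = B₀ := CfsgLib.Block.isInducedBlock_unique H hind hind₀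
  obtain ⟨E, g, hmax, hle⟩ := CfsgLib.BlockA.exists_maximal_ge hM _ D e hpair rfl
  have hE := (CfsgLib.BlockA.maximal_core hM hmax).1
  have hEp : IsPGroup p E := CfsgLib.Block.isPGroup_defectGroup hM hind.2.1 hE
  have hDE : D ≤ E := (CfsgLib.BlockB.exists_coeff_central hM hmax.1.1 hle E.one_mem
    (Subgroup.one_mem _)).1
  have hzD : ∀ z ∈ E, (∀ y ∈ E, y * z = z * y) → z ∈ D := by
    intro z hzE hzc
    have hzcE : z ∈ Subgroup.centralizer (E : Set G) := Subgroup.mem_centralizer_iff.2 hzc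
    obtain ⟨-, c, hc, hzcomm, hc0⟩ := CfsgLib.BlockB.exists_coeff_central hM hmax.1.1 hle hzE hzcE
    have hzcD : z ∈ Subgroup.centralizer (D : Set G) :=
      Subgroup.centralizer_le (fun _ h => hDE h) hzcE
    have hzH : z ∈ H := hC hzcD
    set X := D ⊔ Subgroup.zpowers z with hX
    have hXp : IsPGroup p X := hEp.to_le (sup_le hDE (Subgroup.zpowers_le.2 hzE))
    have hXH : X ≤ H := sup_le hDH (Subgroup.zpowers_le.2 hzH)
    have hcX : c ∈ Subgroup.centralizer (X : Set G) := by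
      have : X ≤ Subgroup.centralizer ({c} : Set G) :=
        sup_le (fun u hu => Subgroup.mem_centralizer_singleton_iff.2
          (Subgroup.mem_centralizer_iff.1 hc u hu))
          (Subgroup.zpowers_le.2 (Subgroup.mem_centralizer_singleton_iff.2 hzcomm))
      rw [Subgroup.mem_centralizer_iff]
      exact fun u hu => Subgroup.mem_centralizer_singleton_iff.1 (this hu)
    have hinv : CfsgLib.Block.IsPInv X
        (CfsgLib.BlockA.sIdem M (Subgroup.centralizer (D : Set G)) e) := by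
      have hle' : X ≤ CfsgLib.BlockA.pairStab M D e := sup_le (CfsgLib.BlockA.le_pairStab D e)
        (Subgroup.zpowers_le.2 (CfsgLib.BlockA.centralizer_le_pairStab D e hzcD))
      exact fun u hu => CfsgLib.BlockA.isPInv_sIdem_pairStab D e u (hle' hu)
    obtain ⟨x, hx, hx0⟩ := CfsgLib.BlockB.exists_coeff_of_mul hM hDp hXp le_sup_left hinv
      (fun u hu => CfsgLib.BlockB.isPInv_sIdem_self b u (hXH hu)) hmul hcX hc0
    have hxH : x ∈ H := hC (Subgroup.centralizer_le (fun _ h => Subgroup.mem_sup_left h) hx)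
    rw [CfsgLib.BlockA.sIdem, show x = ((⟨x, hxH⟩ : H) : G) from rfl,
      CfsgLib.Block.coeff_inclSub_of_mem] at hx0
    obtain ⟨y, hy⟩ := (CfsgLib.Block.exists_le_conj_iff_coeff hM hb hD₀
      (R := X.subgroupOf H) (hXp.of_equiv (Subgroup.subgroupOfEquivOfLe hXH).symm)).1
        ⟨⟨x, hxH⟩, by
          rw [Subgroup.mem_centralizer_iff]
          intro u hu
          exact Subtype.ext (Subgroup.mem_centralizer_iff.1 hx u hu), hx0⟩
    have hcard := Subgroup.card_le_of_le hy
    rw [CfsgLib.Block.natCard_map_conj,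
      Nat.card_congr (Subgroup.subgroupOfEquivOfLe hXH).toEquiv,
      ← Subgroup.card_map_of_injective (K := D₀) H.subtype_injective] at hcard
    have hXD : D = X := Subgroup.eq_of_le_of_card_ge le_sup_left hcard
    rw [hXD]
    exact Subgroup.mem_sup_right (Subgroup.mem_zpowers z)
  refine ⟨⟨E, hE, ?_, ?_, hDE⟩, fun D' hD' hab => ?_⟩
  · rintro _ ⟨⟨z, hzE⟩, hzc, rfl⟩
    have hzc' : ∀ y ∈ E, y * z = z * y := fun y hy =>
      congrArg Subtype.val (Subgroup.mem_center_iff.1 hzc ⟨y, hy⟩)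
    obtain ⟨u, hu, huz⟩ := hzD z hzE hzc'
    refine ⟨u, ⟨⟨u, hu⟩, Subgroup.mem_center_iff.2 fun w => ?_, rfl⟩, huz⟩
    refine Subtype.ext (Subtype.ext ?_)
    show ((w : H) : G) * (u : G) = (u : G) * ((w : H) : G)
    rw [show (u : G) = z from huz]
    exact hzc' _ (hDE ⟨(w : H), w.2, rfl⟩)
  · rintro _ ⟨_, ⟨u, -, rfl⟩, rfl⟩
    exact ⟨u, u.2, rfl⟩
  · obtain ⟨x, hx⟩ := CfsgLib.Block.defectGroup_exists_conj hM hind.2.1 hD' hE
    have hED : E = D := by
      refine le_antisymm (fun z hz => hzD z hz fun y hy => ?_) hDE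
      rw [hx] at hy hz
      obtain ⟨y', hy', rfl⟩ := hy
      obtain ⟨z', hz', rfl⟩ := hz
      rw [← map_mul, ← map_mul]
      exact congrArg _ (congrArg Subtype.val
        (mul_comm' (⟨y', hy'⟩ : D') ⟨z', hz'⟩))
    rw [← hED]
    exact hE

end Cfsg.Agent.S4726
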