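import Cfsg.Statements.S4727
import Cfsg.Agent.Lib.BlockB.PiKer
-- import your own Cfsg.Agent.* helpers here

set_option autoImplicit false
set_option maxHeartbeats 1000000
open Cfsg

namespace Cfsg.Agent.S4727

/-- Let p be a prime, π a set of primes containing p, M a maximal ideal of the algebraic integers containing p, and B a p-block of the finite group G with defect group D; let B₁ be the block of N_G(D) with defect group D that induces B (the Brauer correspondent of B). Suppose every element of O_π'(N_G(D)), the largest normal subgroup of N_G(D) whose order has no prime divisor in π, lies in the kernel of every member of B₁. If y is a p-element whose centralizer C has a normal Hall π'-subgroup (every element of C whose order has no prime divisor in π lies in O_π'(C)), then χ(y x) = χ(y) for every χ ∈ B and every x ∈ C whose order has no prime divisor in π. -/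
theorem result {G : Type*} [Group G] [Finite G] (p : ℕ) [Fact p.Prime] (M : Ideal Cfsg.AlgInt) (hM : Cfsg.IsPModular p M) (π : Set ℕ) (hpπ : p ∈ π) (B : Set (Cfsg.IrrCharacter G)) (hB : Cfsg.IsPBlock M B) (D : Subgroup G) (hBD : Cfsg.IsDefectGroup p M B D) (B₁ : Set (Cfsg.IrrCharacter ↥(Subgroup.normalizer (D : Set G)))) (hB₁ : Cfsg.IsInducedBlock M (Subgroup.normalizer (D : Set G)) B₁ B) (hB₁D : Cfsg.IsDefectGroup p M B₁ (D.subgroupOf (Subgroup.normalizer (D : Set G)))) (hker : ∀ n : ↥(Subgroup.normalizer (D : Set G)), n ∈ Cfsg.piCore {q | q ∉ π} ↥(Subgroup.normalizer (D : Set G)) → n ∈ Cfsg.blockKer B₁) (y : G) (hy : ∃ k : ℕ, orderOf y = p ^ k) (hC : ∀ x : ↥(Subgroup.centralizer ({y} : Set G)), (∀ q : ℕ, q.Prime → q ∣ orderOf x → q ∉ π) → x ∈ Cfsg.piCore {q | q ∉ π} ↥(Subgroup.centralizer ({y} : Set G))) : ∀ χ ∈ B, ∀ x : G, x ∈ Subgroup.centralizer ({y} : Set G) → (∀ q : ℕ, q.Prime → q ∣ orderOf x → q ∉ π) → (χ : G → ℂ) (y * x) = (χ : G → ℂ) y := by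
  classical
  have := CfsgLib.Block.isPrime_of_pmodular hM
  have hpκ : p ∉ {q : ℕ | q ∉ π} := fun h => h hpπ
  obtain ⟨e, hmax, hiff⟩ :=
    CfsgLib.BlockB.PiKer.exists_maximal_correspondent hM hpκ hBD hB₁ hB₁D
  have hgood := hiff.1 fun ξ hξ n hn => hker n hn ξ hξ
  intro χ hχ x hx hxπ
  set H := Subgroup.centralizer ({y} : Set G) with hH
  have := Fintype.ofFinite H
  have hyH : y ∈ H := Subgroup.mem_centralizer_singleton_iff.2 rfl
  have hxo : ∀ q : ℕ, q.Prime → q ∣ orderOf (⟨x, hx⟩ : H) → q ∉ π := fun q hq hd =>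
    hxπ q hq (by rwa [Subgroup.orderOf_mk] at hd)
  have hxreg : ¬ p ∣ orderOf (⟨x, hx⟩ : H) := fun h => hxo p hM.1 h hpπ
  have hcl : Cfsg.IsClassFunction H (fun c : H => (χ : G → ℂ) (y * (c : G))) := fun c h => by
    have h1 : (h : G) * y = y * (h : G) := Subgroup.mem_centralizer_singleton_iff.1 h.2
    have h2 : y * ((h * c * h⁻¹ : H) : G) = (h : G) * (y * (c : G)) * (h : G)⁻¹ := by
      push_cast
      calc y * ((h : G) * c * (h : G)⁻¹) = (y * (h : G)) * c * (h : G)⁻¹ := by group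
        _ = _ := by rw [← h1]; group
    simp only [h2]
    exact CfsgLib.Char.irr_isClassFunction χ.2 _ _
  have e1 := CfsgLib.Block.sum_blockPart (M := M) hcl (⟨x, hx⟩ : H)
  have e2 := CfsgLib.Block.sum_blockPart (M := M) hcl (1 : H)
  simp only [OneMemClass.coe_one, mul_one] at e1 e2
  rw [← e1, ← e2]
  refine Finset.sum_congr rfl fun b hb => ?_
  rw [CfsgLib.Block.mem_allBlocks] at hb
  by_cases hind : Cfsg.IsInducedBlock M H b B
  swap
  · rw [CfsgLib.Block.blockPart_centralizer_eq_zero hM hy hB hχ hb hind hxreg,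
      CfsgLib.Block.blockPart_centralizer_eq_zero hM hy hB hχ hb hind
        (by simpa using hM.1.one_lt.ne')]
  obtain ⟨D₀, hD₀⟩ := CfsgLib.Block.exists_isDefectGroup hM hb
  have : (Subgroup.zpowers (⟨y, hyH⟩ : H)).Normal := ⟨fun n hn g => by
    obtain ⟨k, rfl⟩ := Subgroup.mem_zpowers_iff.1 hn
    have hc : Commute g (⟨y, hyH⟩ : H) :=
      Subtype.ext (Subgroup.mem_centralizer_singleton_iff.1 g.2)
    rw [(hc.zpow_right k).eq, mul_inv_cancel_right]
    exact hn⟩
  obtain ⟨k, hk⟩ := hy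
  have hyD : (⟨y, hyH⟩ : H) ∈ D₀ := CfsgLib.Block.normal_le_defectGroup hM
    (IsPGroup.of_card (n := k) (by rw [Nat.card_zpowers, Subgroup.orderOf_mk, hk])) hb hD₀
    (Subgroup.mem_zpowers _)
  have hC' : Subgroup.centralizer ((D₀.map H.subtype : Subgroup G) : Set G) ≤ H := fun c hc =>
    Subgroup.mem_centralizer_singleton_iff.2
      (Subgroup.mem_centralizer_iff.1 hc y ⟨_, hyD, rfl⟩).symm
  have hk' := CfsgLib.BlockB.PiKer.core_le_ker hM hpκ hmax hgood hind hD₀ hC'
  unfold Cfsg.blockPart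
  refine finsum_mem_congr rfl fun ψ hψ => ?_
  rw [CfsgLib.Block.mem_kerIrr.1 (hk' ψ hψ (hC ⟨x, hx⟩ hxo))]

end Cfsg.Agent.S4727
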