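import Cfsg.Statements.S4728
import Cfsg.Agent.Lib.BlockB.PiKer
-- import your own Cfsg.Agent.* helpers here

set_option autoImplicit false
set_option maxHeartbeats 1000000
open Cfsg

namespace Cfsg.Agent.S4728

/-- Let p be a prime, π a set of primes containing p, M a maximal ideal of the algebraic integers containing p, B a p-block of the finite group G with defect group D, and B₁ the block of N_G(D) with defect group D inducing B. Let D₀ be a p-subgroup, H₀ = D₀·C_G(D₀), and b a block of H₀ inducing B. Write O_π'(X) for the largest normal subgroup of X whose order has no prime divisor in π. Suppose that O_π'(C_G(D₀)) is a normal Hall π'-subgroup of C_G(D₀) (it contains every element of C_G(D₀) whose order has no prime divisor in π) and that every element of it lies in the kernel of every member of b. Then every element of O_π'(N_G(D)) lies in the kernel of every member of B₁. -/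
theorem result {G : Type*} [Group G] [Finite G] (p : ℕ) [Fact p.Prime] (M : Ideal Cfsg.AlgInt) (hM : Cfsg.IsPModular p M) (π : Set ℕ) (hpπ : p ∈ π) (B : Set (Cfsg.IrrCharacter G)) (hB : Cfsg.IsPBlock M B) (D : Subgroup G) (hBD : Cfsg.IsDefectGroup p M B D) (B₁ : Set (Cfsg.IrrCharacter ↥(Subgroup.normalizer (D : Set G)))) (hB₁ : Cfsg.IsInducedBlock M (Subgroup.normalizer (D : Set G)) B₁ B) (hB₁D : Cfsg.IsDefectGroup p M B₁ (D.subgroupOf (Subgroup.normalizer (D : Set G)))) (D₀ : Subgroup G) (hD₀ : IsPGroup p D₀) (H₀ : Subgroup G) (hH₀ : H₀ = D₀ ⊔ Subgroup.centralizer (D₀ : Set G)) (b : Set (Cfsg.IrrCharacter ↥H₀)) (hb : Cfsg.IsInducedBlock M H₀ b B) (hcompl : ∀ x : ↥(Subgroup.centralizer (D₀ : Set G)), (∀ q : ℕ, q.Prime → q ∣ orderOf x → q ∉ π) → x ∈ Cfsg.piCore {q | q ∉ π} ↥(Subgroup.centralizer (D₀ : Set G))) (hkerb : ∀ x : ↥(Subgroup.centralizer (D₀ : Set G)), x ∈ Cfsg.piCore {q | q ∉ π} ↥(Subgroup.centralizer (D₀ : Set G)) → ∀ θ ∈ b,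 ∀ h : ↥H₀, (h : G) = (x : G) → (θ : ↥H₀ → ℂ) h = (θ : ↥H₀ → ℂ) 1) : ∀ n : ↥(Subgroup.normalizer (D : Set G)), n ∈ Cfsg.piCore {q | q ∉ π} ↥(Subgroup.normalizer (D : Set G)) → n ∈ Cfsg.blockKer B₁ := by
  classical
  have := CfsgLib.Block.isPrime_of_pmodular hM
  have hpκ : p ∉ {q : ℕ | q ∉ π} := fun h => h hpπ
  obtain ⟨e, hmax, hiff⟩ :=
    CfsgLib.BlockB.PiKer.exists_maximal_correspondent hM hpκ hBD hB₁ hB₁D
  have hD₀H : D₀ ≤ H₀ := hH₀ ▸ le_sup_left
  have hCH : Subgroup.centralizer (D₀ : Set G) ≤ H₀ := hH₀ ▸ le_sup_right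
  have hn : (D₀.subgroupOf H₀).Normal := by
    refine CfsgLib.BlockB.PiKer.normal_subgroupOf_of_le_normalizer ?_
    rw [hH₀]
    exact sup_le Subgroup.le_normalizer (Subgroup.centralizer_le_normalizer _)
  obtain ⟨E, hE⟩ := CfsgLib.Block.exists_isDefectGroup hM hb.1
  have hle := CfsgLib.Block.normal_le_defectGroup (Q := D₀.subgroupOf H₀) hM
    (hD₀.comap_subtype : IsPGroup p (D₀.subgroupOf H₀)) hb.1 hE
  obtain ⟨c, hc, hc0⟩ := CfsgLib.BlockB.PiKer.exists_coeff_defect hM hb.1 hE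
    (hD₀.comap_subtype : IsPGroup p (D₀.subgroupOf H₀)) hle
  obtain ⟨f, hf, htr⟩ := CfsgLib.BlockB.PiKer.exists_pair_sub hM hpκ hb.1 hD₀ hD₀H hCH
    ⟨c, Subgroup.mem_centralizer_iff.2 fun d hd =>
      Subgroup.mem_centralizer_iff.1 hc d ⟨⟨d, hD₀H hd⟩, hd, rfl⟩, hc0⟩ hb
  set U := Cfsg.piCoreOf {q : ℕ | q ∉ π} (Subgroup.centralizer (D₀ : Set G)) with hU
  have hUC : U ≤ Subgroup.centralizer (D₀ : Set G) := CfsgLib.OddLocal.piCoreOf_le _ _
  have hUH : (U.subgroupOf H₀).Normal :=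
    CfsgLib.BlockB.PiKer.normal_subgroupOf_of_le_normalizer fun g hg =>
      CfsgLib.OddLocal.map_conj_piCoreOf _
        (CfsgLib.BlockA.normalizer_le_normalizer_centralizer hM D₀
          ((hH₀.le.trans (sup_le Subgroup.le_normalizer (Subgroup.centralizer_le_normalizer _))) hg))
  have hUCn : (U.subgroupOf (Subgroup.centralizer (D₀ : Set G))).Normal :=
    CfsgLib.BlockB.PiKer.normal_subgroupOf_of_le_normalizer fun g hg =>
      CfsgLib.OddLocal.map_conj_piCoreOf _ (Subgroup.le_normalizer hg)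
  have hUeq : U.subgroupOf (Subgroup.centralizer (D₀ : Set G)) =
      Cfsg.piCore {q : ℕ | q ∉ π} ↥(Subgroup.centralizer (D₀ : Set G)) :=
    Subgroup.comap_map_eq_self_of_injective (Subgroup.subtype_injective _) _
  have hgood : CfsgLib.BlockB.PiKer.Good {q : ℕ | q ∉ π} D₀ f := by
    intro ξ hξ
    obtain ⟨η, hη⟩ := CfsgLib.Block.isPBlock_nonempty hb.1
    rw [← hUeq]
    refine (htr U (CfsgLib.OddLocal.piCoreOf_spec _ _) (hUC.trans hCH) hUH ξ hξ η hη).1 ?_
    intro h hh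
    obtain ⟨x, hx, hxh⟩ := Subgroup.mem_subgroupOf.1 hh
    exact hkerb x hx η hη h hxh.symm
  intro n hn η hη
  exact hiff.2 (CfsgLib.BlockB.PiKer.good_maximal hM hpκ hmax hf hgood hcompl) η hη hn

end Cfsg.Agent.S4728
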