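import Cfsg.Statements.S4729
import Cfsg.Agent.Lib.BlockB.PrincipalKer
import Cfsg.Agent.Lib.Block.DefectOrder
import Cfsg.Agent.Lib.Char.Diag

set_option autoImplicit false
open Cfsg

namespace Cfsg.Agent.S4729

open CfsgLib Module

/-- An element of a perfect group whose powers have character values `a + p λ^k` has `λ^p = 1`. -/
theorem pow_eq_one_of_values {G : Type*} [Group G] [Finite G] (hperf : commutator G = ⊤) {n : ℕ}
    (ρ : Representation ℂ G (Fin n → ℂ)) (r : G) (a p : ℕ) (l : ℂ) (hl : l ^ orderOf r = 1)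
    (h : ∀ k : ℕ, ρ.character (r ^ k) = (a : ℂ) + (p : ℂ) * l ^ k) : l ^ p = 1 := by
  classical
  rcases eq_or_ne l 1 with rfl | hl1
  · exact one_pow p
  obtain ⟨ι, hι, b, μ, h1, h2, h3, -⟩ := Char.exists_char_eigen ρ r
  have hm := orderOf_pos r
  have hm0 : (orderOf r : ℂ) ≠ 0 := by exact_mod_cast hm.ne'
  have hgeo : ∀ z : ℂ, z ^ orderOf r = 1 →
      ∑ k ∈ Finset.range (orderOf r), z ^ k = if z = 1 then (orderOf r : ℂ) else 0 := by
    intro z hz
    split_ifs with hz1
    · simp [hz1]
    · rw [geom_sum_eq hz1, hz, sub_self, zero_div]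
  have hcount : ∀ ω : ℂ, ω ^ orderOf r = 1 → ((Finset.univ.filter fun i => μ i = ω).card : ℂ) =
      (a : ℂ) * (if ω = 1 then 1 else 0) + (p : ℂ) * (if ω = l then 1 else 0) := by
    intro ω hω
    have hω0 : ω ≠ 0 := fun h => by rw [h, zero_pow hm.ne'] at hω; exact zero_ne_one hω
    have e1 : ∑ k ∈ Finset.range (orderOf r), ρ.character (r ^ k) * (ω⁻¹) ^ k =
        (orderOf r : ℂ) * ((Finset.univ.filter fun i => μ i = ω).card : ℂ) := by
      simp only [h3, Finset.sum_mul, ← mul_pow]
      rw [Finset.sum_comm, Finset.sum_congr rfl (g := fun i => if μ i = ω then (orderOf r : ℂ) else 0)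
        (fun i _ => by
          rw [hgeo _ (by rw [mul_pow, h2 i, inv_pow, hω, inv_one, one_mul])]
          simp only [mul_inv_eq_one₀ hω0]), ← Finset.sum_filter, Finset.sum_const, nsmul_eq_mul,
        mul_comm]
    have e2 : ∑ k ∈ Finset.range (orderOf r), ρ.character (r ^ k) * (ω⁻¹) ^ k =
        (orderOf r : ℂ) * ((a : ℂ) * (if ω = 1 then 1 else 0) + (p : ℂ) * (if ω = l then 1 else 0)) := by
      simp only [h, add_mul, mul_assoc, ← mul_pow]
      rw [Finset.sum_add_distrib, ← Finset.mul_sum, ← Finset.mul_sum,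
        hgeo _ (by rw [inv_pow, hω, inv_one]),
        hgeo _ (by rw [mul_pow, hl, inv_pow, hω, inv_one, one_mul])]
      simp only [mul_inv_eq_one₀ hω0, inv_eq_one, eq_comm (a := l)]
      split_ifs <;> ring
    exact mul_left_cancel₀ hm0 (e1.symm.trans e2)
  have hA : (Finset.univ.filter fun i => μ i = 1).card = a := by
    have := hcount 1 (one_pow _)
    rw [if_pos rfl, if_neg (Ne.symm hl1)] at this
    simpa using this
  have hL : (Finset.univ.filter fun i => μ i = l).card = p := by
    have := hcount l hl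
    rw [if_neg hl1, if_pos rfl] at this
    simpa using this
  have hprod : ∏ i, μ i = l ^ p := by
    have hne : ∀ i, μ i = 1 ∨ μ i = l := by
      intro i
      by_contra hcon
      push Not at hcon
      have := hcount (μ i) (h2 i)
      rw [if_neg hcon.1, if_neg hcon.2, mul_zero, mul_zero, add_zero, Nat.cast_eq_zero,
        Finset.card_eq_zero] at this
      exact (Finset.eq_empty_iff_forall_notMem.1 this i) (Finset.mem_filter.2 ⟨Finset.mem_univ _, rfl⟩)
    rw [← Finset.prod_filter_mul_prod_filter_not Finset.univ (fun i => μ i = l),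
      Finset.prod_congr rfl (g := fun _ => l) (fun i hi => (Finset.mem_filter.1 hi).2),
      Finset.prod_const, hL, Finset.prod_eq_one (fun i hi => (hne i).resolve_right
        (Finset.mem_filter.1 hi).2), mul_one]
  have hdet : LinearMap.det (ρ r) = ∏ i, μ i := by
    rw [← LinearMap.det_toMatrix b,
      show LinearMap.toMatrix b b (ρ r) = Matrix.diagonal μ from by
        ext i j
        rw [LinearMap.toMatrix_apply, h1, map_smul, Basis.repr_self, Finsupp.smul_single,
          Matrix.diagonal_apply, Finsupp.single_apply, smul_eq_mul, mul_one]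
        by_cases hij : i = j
        · subst hij; simp
        · rw [if_neg (Ne.symm hij), if_neg hij],
      Matrix.det_diagonal]
  let f : G →* ℂˣ := (LinearMap.det.comp (ρ : G →* Module.End ℂ (Fin n → ℂ))).toHomUnits
  have hf : r ∈ f.ker :=
    (hperf ▸ Abelianization.commutator_subset_ker f : (⊤ : Subgroup G) ≤ f.ker) (Subgroup.mem_top r)
  rw [← hprod, ← hdet]
  exact congrArg Units.val (MonoidHom.mem_ker.1 hf)

/-- Let p be a prime, M a maximal ideal of the algebraic integers containing p, G a finite perfect group and P a Sylow p-subgroup. If the principal p-block of G contains a faithful irreducible character of degree less than 2p, then the centralizer of P is a p-group. -/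
theorem result {G : Type*} [Group G] [Finite G] (p : ℕ) [Fact p.Prime] (M : Ideal Cfsg.AlgInt) (hM : Cfsg.IsPModular p M) (hperf : commutator G = ⊤) (P : Sylow p G) (χ : Cfsg.IrrCharacter G) (hχ : χ ∈ Cfsg.principalBlock M G) (hfaith : ∀ g : G, (χ : G → ℂ) g = (χ : G → ℂ) 1 → g = 1) (hdeg : Cfsg.charDegree (χ : G → ℂ) < 2 * p) : IsPGroup p ↥(Subgroup.centralizer ((P : Subgroup G) : Set G)) := by
  classical
  have := Block.isPrime_of_pmodular hM
  have hp : p.Prime := hM.1
  have := Fact.mk hp
  have hreg : ∀ r ∈ Subgroup.centralizer ((P : Subgroup G) : Set G), ¬ p ∣ orderOf r → r = 1 := by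
    intro r hr hrp
    have := Fintype.ofFinite G
    let R := Subgroup.zpowers r
    have := Fintype.ofFinite R
    have hRcard : ¬ p ∣ Nat.card R := by rwa [Nat.card_zpowers]
    have hidx : ∀ x : R, ¬ p ∣ (Subgroup.centralizer ({(x : G)} : Set G)).index := by
      intro x
      refine fun h => P.not_dvd_index (h.trans (Subgroup.index_dvd_of_le fun y hy => ?_))
      obtain ⟨i, hi⟩ := x.2
      rw [Subgroup.mem_centralizer_singleton_iff, ← hi]
      exact (Commute.zpow_right (Subgroup.mem_centralizer_iff.1 hr y hy) i).eq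
    -- `χ` is congruent to its degree on `R`
    have hmem : ∀ x : R, Cfsg.MemLocalIdeal M ((χ : G → ℂ) (x : G) - (χ : G → ℂ) 1) := by
      intro x
      have h := hχ (x : G)
      have hI : Cfsg.centralChar (fun _ : G => (1 : ℂ)) (x : G) =
          ((Subgroup.centralizer ({(x : G)} : Set G)).index : ℂ) := by simp [Cfsg.centralChar]
      rw [hI, Cfsg.centralChar] at h
      have h2 := Block.memLocalIdeal_mul_left
        (Block.memLocalRing_mul (Block.memLocalRing_inv_natCast hM (hidx x))
          (Block.memLocalRing_irr_apply χ 1)) (Block.memLocalIdeal_neg h)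
      have hi0 : ((Subgroup.centralizer ({(x : G)} : Set G)).index : ℂ) ≠ 0 := by
        exact_mod_cast Subgroup.index_ne_zero_of_finite
      have h10 := Char.irr_apply_one_ne_zero χ.2
      convert h2 using 1
      field_simp
      ring
    have := Fintype.ofFinite (Cfsg.IrrCharacter R)
    have hcR : ∀ a b : R, a * b = b * a := fun a b => mul_comm' a b
    have hres := Char.isCharacter_restrict (Char.irr_isCharacter χ.2) R
    choose m hm using fun β : Cfsg.IrrCharacter R =>
      Char.classInner_isCharacter_nat hres (Char.irr_isCharacter β.2)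
    have hdiv : ∀ β : Cfsg.IrrCharacter R, (β : R → ℂ) ≠ (fun _ => 1) → p ∣ m β := by
      intro β hβ
      rw [← Block.memLocalIdeal_natCast_iff hM, ← hm]
      have h0 := Char.irr_classInner_ne Char.isIrrCharacter_one β.2 (Ne.symm hβ)
      rw [Char.classInner_def] at h0 ⊢
      simp only [one_mul] at h0
      have h1 := (mul_eq_zero.1 h0).resolve_left (inv_ne_zero Char.natCard_ne_zero)
      have e : ∑ x : R, (χ : G → ℂ) x * (starRingEnd ℂ) ((β : R → ℂ) x) =
          ∑ x : R, ((χ : G → ℂ) x - (χ : G → ℂ) 1) * (starRingEnd ℂ) ((β : R → ℂ) x) := by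
        simp only [sub_mul, Finset.sum_sub_distrib, ← Finset.mul_sum, h1, mul_zero, sub_zero]
      rw [e]
      refine Block.memLocalIdeal_mul_left (Block.memLocalRing_inv_natCast hM hRcard)
        (Block.memLocalIdeal_sum _ _ fun x _ => Block.memLocalIdeal_mul_right ?_ (hmem x))
      rw [Block.irr_conj_eq β.2]
      exact Block.memLocalRing_irr_apply β _
    have hcf := Char.isCharacter_isClassFunction hres
    have hexp : ∀ x : R, (χ : G → ℂ) (x : G) =
        ∑ β : Cfsg.IrrCharacter R, (m β : ℂ) * (β : R → ℂ) x := fun x => by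
      have h := Char.classFunction_apply_eq_sum hcf x
      beta_reduce at h
      rw [h]
      exact Finset.sum_congr rfl fun β _ => by rw [hm]
    have htot : Cfsg.charDegree (χ : G → ℂ) = ∑ β : Cfsg.IrrCharacter R, m β := by
      have h := hexp 1
      simp only [Char.irr_degree_one_of_comm hcR (Subtype.prop _), mul_one] at h
      rw [OneMemClass.coe_one, ← Block.charDegree_cast (Char.irr_isCharacter χ.2)] at h
      exact_mod_cast h
    by_contra hr1
    have hrR : r ∈ R := Subgroup.mem_zpowers r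
    -- a nonprincipal constituent
    obtain ⟨β, hβ, hmβ⟩ : ∃ β : Cfsg.IrrCharacter R, (β : R → ℂ) ≠ (fun _ => 1) ∧ m β ≠ 0 := by
      by_contra hcon
      push Not at hcon
      refine hr1 (hfaith r ?_)
      rw [show (χ : G → ℂ) r = (χ : G → ℂ) ((⟨r, hrR⟩ : R) : G) from rfl, hexp,
        ← Block.charDegree_cast (Char.irr_isCharacter χ.2), htot, Nat.cast_sum]
      refine Finset.sum_congr rfl fun β _ => ?_
      rcases eq_or_ne (β : R → ℂ) (fun _ => 1) with hb | hb
      · simp [hb]
      · simp [hcon β hb]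
    have hone : ∀ γ : Cfsg.IrrCharacter R, γ ≠ β → (γ : R → ℂ) ≠ (fun _ => 1) → m γ = 0 := by
      intro γ hγ hγ1
      by_contra hne
      have h1 := Nat.le_of_dvd (Nat.pos_of_ne_zero hmβ) (hdiv β hβ)
      have h2 := Nat.le_of_dvd (Nat.pos_of_ne_zero hne) (hdiv γ hγ1)
      have h3 : ∑ x ∈ {β, γ}, m x ≤ ∑ x : Cfsg.IrrCharacter R, m x :=
        Finset.sum_le_univ_sum_of_nonneg fun x => Nat.zero_le _
      rw [Finset.sum_pair hγ.symm, ← htot] at h3
      omega
    set triv : Cfsg.IrrCharacter R := ⟨fun _ => 1, Char.isIrrCharacter_one⟩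
    have htb : triv ≠ β := fun e => hβ (congrArg Subtype.val e).symm
    have hzero : ∀ γ : Cfsg.IrrCharacter R, γ ∉ ({triv, β} : Finset _) → m γ = 0 := by
      intro γ hγ
      simp only [Finset.mem_insert, Finset.mem_singleton, not_or] at hγ
      exact hone γ hγ.2 fun e => hγ.1 (Subtype.ext e)
    have hm2 : m β = p := by
      obtain ⟨c, hc⟩ := hdiv β hβ
      have h3 : m β ≤ ∑ x : Cfsg.IrrCharacter R, m x :=
        Finset.single_le_sum (fun x _ => Nat.zero_le _) (Finset.mem_univ β)
      rw [← htot] at h3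
      have : c = 1 := by
        rcases c with _ | _ | c
        · omega
        · rfl
        · exfalso
          have : p * (c + 1 + 1) ≥ p * 2 := Nat.mul_le_mul_left p (by omega)
          omega
      rw [hc, this, mul_one]
    obtain ⟨l, hl⟩ := Char.exists_hom_of_degree_one (Char.irr_isCharacter β.2)
      (Char.irr_degree_one_of_comm hcR β.2)
    have hlpow : ∀ k : ℕ, (β : R → ℂ) (⟨r, hrR⟩ ^ k) = (l ⟨r, hrR⟩ : ℂ) ^ k := fun k => by
      rw [hl]
      show ((l ((⟨r, hrR⟩ : R) ^ k) : ℂˣ) : ℂ) = _
      rw [map_pow, Units.val_pow_eq_pow_val]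
    obtain ⟨n, ρ, hρ, hρχ⟩ := χ.2
    have hlp : (l ⟨r, hrR⟩ : ℂ) ^ p = 1 := by
      refine pow_eq_one_of_values hperf ρ r (m triv) p _ ?_ fun k => ?_
      · rw [← Units.val_pow_eq_pow_val, ← map_pow,
          show (⟨r, hrR⟩ : R) ^ orderOf r = 1 from Subtype.ext (by simp [pow_orderOf_eq_one]),
          map_one, Units.val_one]
      · rw [hρχ, show r ^ k = (((⟨r, hrR⟩ : R) ^ k : R) : G) by simp, hexp,
          ← Finset.sum_subset (Finset.subset_univ {triv, β}) (fun γ _ hγ => by
            rw [hzero γ hγ, Nat.cast_zero, zero_mul]), Finset.sum_pair htb, hm2, hlpow]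
        simp [triv]
    have hl1 : l ⟨r, hrR⟩ = 1 := by
      have h1 : l ⟨r, hrR⟩ ^ p = 1 := Units.ext (by simpa using hlp)
      have h2 : l ⟨r, hrR⟩ ^ orderOf r = 1 := by
        rw [← map_pow, show (⟨r, hrR⟩ : R) ^ orderOf r = 1 from
          Subtype.ext (by simp [pow_orderOf_eq_one]), map_one]
      have hg : l ⟨r, hrR⟩ ^ Nat.gcd p (orderOf r) = 1 := pow_gcd_eq_one.2 ⟨h1, h2⟩
      rwa [(hp.coprime_iff_not_dvd.2 hrp), pow_one] at hg
    refine hβ (funext fun x => ?_)
    obtain ⟨i, hi⟩ := x.2
    rw [hl, show x = (⟨r, hrR⟩ : R) ^ i from Subtype.ext (by simpa using hi.symm)]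
    show ((l ((⟨r, hrR⟩ : R) ^ i) : ℂˣ) : ℂ) = 1
    rw [map_zpow, hl1, one_zpow, Units.val_one]
  intro g
  obtain ⟨e, he⟩ : ∃ e : ℕ, g ^ p ^ e = 1 := by
    refine ⟨(orderOf g).factorization p, ?_⟩
    set x := ((g : Subgroup.centralizer ((P : Subgroup G) : Set G)) : G)
    have hx : (x ^ p ^ (orderOf g).factorization p) = 1 := by
      refine hreg _ (Subgroup.pow_mem _ g.2 _) ?_
      have ho : orderOf x = orderOf g := Subgroup.orderOf_coe g
      rw [orderOf_pow, ho, Nat.gcd_eq_right (Nat.ordProj_dvd _ _)]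
      exact Nat.not_dvd_ordCompl hp (orderOf_pos g).ne'
    exact Subtype.ext (by simpa [x] using hx)
  exact ⟨e, he⟩

end Cfsg.Agent.S4729
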