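import Cfsg.Statements.S4730
import Cfsg.Agent.Lib.Block.DefectOrder
import Cfsg.Agent.Lib.Char.Invariants
import Cfsg.Agent.Lib.Char.Integral
import Cfsg.Agent.Lib.Char.Diag

set_option autoImplicit false
open Cfsg

namespace Cfsg.Agent.S4730

/-- A faithful irreducible character of degree prime to the class size vanishes off the centre. -/
theorem eq_zero_of_coprime {G : Type*} [Group G] [Finite G] (χ : Cfsg.IrrCharacter G)
    (hfaith : ∀ g : G, (χ : G → ℂ) g = (χ : G → ℂ) 1 → g = 1) (g : G)
    (hg : g ∉ Subgroup.center G)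
    (hcop : (Cfsg.charDegree (χ : G → ℂ)).Coprime
      (Subgroup.centralizer ({g} : Set G)).index) : (χ : G → ℂ) g = 0 := by
  obtain ⟨χ, k, ρ, hρ, rfl⟩ := χ
  simp only at hfaith hcop ⊢
  have hd : Cfsg.charDegree ρ.character = Module.finrank ℂ (Fin k → ℂ) := by
    simp [Cfsg.charDegree, Representation.char_one]
  rw [hd] at hcop
  refine (CfsgLib.Char.char_eq_zero_or_norm_of_coprime ρ g hcop).resolve_right fun hn => hg ?_
  obtain ⟨ω, hω⟩ := (CfsgLib.Char.norm_char_eq_iff ρ g).mp hn
  rw [Subgroup.mem_center_iff]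
  intro x
  have h1 : ρ (g * x) = ρ (x * g) := by ext v; simp [map_mul, hω]
  have h2 : g * x * (x * g)⁻¹ = 1 := hfaith _ (by
    simp only [Representation.character]
    rw [map_mul, h1, ← map_mul, mul_inv_cancel])
  exact (mul_inv_eq_one.1 h2).symm

/-- Let p be a prime, M a maximal ideal of the algebraic integers containing p, and G a finite group with trivial centre, Sylow p-subgroup P of order p^a and centre Z(P) of order p^b. If χ is a faithful irreducible character of G whose degree is a power of p, then the p-block of χ has defect at most a − b; in particular, if P is abelian then χ lies in a block of defect zero. -/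
theorem result {G : Type*} [Group G] [Finite G] (p : ℕ) [Fact p.Prime] (M : Ideal Cfsg.AlgInt) (hM : Cfsg.IsPModular p M) (hZ : Subgroup.center G = ⊥) (P : Sylow p G) (a b : ℕ) (ha : Nat.card P = p ^ a) (hb : Nat.card (Subgroup.center ↥(P : Subgroup G)) = p ^ b) (χ : Cfsg.IrrCharacter G) (hfaith : ∀ g : G, (χ : G → ℂ) g = (χ : G → ℂ) 1 → g = 1) (n : ℕ) (hdeg : Cfsg.charDegree (χ : G → ℂ) = p ^ n) : Cfsg.blockDefect p (Cfsg.blockOf M (χ : G → ℂ)) ≤ a - b ∧ (IsMulCommutative ↥(P : Subgroup G) → Cfsg.blockDefect p (Cfsg.blockOf M (χ : G → ℂ)) = 0) := by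
  classical
  have := CfsgLib.Block.isPrime_of_pmodular hM
  have hp : p.Prime := Fact.out
  have hfac : (Nat.card G).factorization p = a := by
    have h := P.card_eq_multiplicity
    rw [ha] at h
    exact (Nat.pow_right_injective hp.two_le h).symm
  set Z : Subgroup G := (Subgroup.center ↥(P : Subgroup G)).map (P : Subgroup G).subtype with hZdef
  have hZcard : Nat.card Z = p ^ b := by
    rw [hZdef, Subgroup.card_map_of_injective (Subgroup.subtype_injective _), hb]
  have hPnd : ¬ p ∣ (P : Subgroup G).index := P.not_dvd_index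
  have hidx : ∀ z ∈ Z, ¬ p ∣ (Subgroup.centralizer ({z} : Set G)).index := by
    intro z hz
    obtain ⟨w, hw, rfl⟩ := Subgroup.mem_map.1 hz
    refine fun h => hPnd (h.trans (Subgroup.index_dvd_of_le fun x hx => ?_))
    rw [Subgroup.mem_centralizer_singleton_iff]
    exact congrArg Subtype.val (Subgroup.mem_center_iff.1 hw ⟨x, hx⟩)
  have hzero : ∀ z ∈ Z, z ≠ 1 → (χ : G → ℂ) z = 0 := by
    intro z hz hz1
    refine eq_zero_of_coprime χ hfaith z (by rw [hZ]; simpa using hz1) ?_
    rw [hdeg]
    exact (hp.coprime_iff_not_dvd.2 (hidx z hz)).pow_left n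
  have hge : ∀ ψ ∈ Cfsg.blockOf M (χ : G → ℂ),
      b ≤ (Cfsg.charDegree (ψ : G → ℂ)).factorization p := by
    intro ψ hψ
    by_contra hlt
    push Not at hlt
    have := Fintype.ofFinite G
    obtain ⟨k, ρ, hρ, hρψ⟩ := ψ.2
    have hne : (ψ : G → ℂ) 1 ≠ 0 := CfsgLib.Char.irr_apply_one_ne_zero ψ.2
    set m := Module.finrank ℂ (Representation.invariants
      (ρ.comp Z.subtype : Representation ℂ Z (Fin k → ℂ))) with hm
    have hsum : ∑ z : Z, (ψ : G → ℂ) z = ((p ^ b * m : ℕ) : ℂ) := by
      have h := CfsgLib.Char.classInner_res_one ρ Z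
      rw [CfsgLib.Char.classInner_def, hρψ] at h
      simp only [map_one, mul_one] at h
      rw [Nat.cast_mul, ← hZcard, hm, ← h, mul_inv_cancel_left₀]
      exact_mod_cast Nat.card_pos.ne'
    have hterm : ∀ z : Z, z ≠ 1 →
        Cfsg.MemLocalIdeal M ((ψ : G → ℂ) z / (ψ : G → ℂ) 1) := by
      intro z hz1
      have h := hψ (z : G)
      rw [Cfsg.centralChar, Cfsg.centralChar, hzero z z.2 (by simpa using hz1)] at h
      simp only [mul_zero, zero_div, zero_sub] at h
      have h2 := CfsgLib.Block.memLocalIdeal_mul_left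
        (CfsgLib.Block.memLocalRing_inv_natCast hM (hidx z z.2)) (CfsgLib.Block.memLocalIdeal_neg h)
      have hi : ((Subgroup.centralizer ({(z : G)} : Set G)).index : ℂ) ≠ 0 := by
        exact_mod_cast Subgroup.index_ne_zero_of_finite
      convert h2 using 1
      field_simp
    have hall : Cfsg.MemLocalIdeal M
        (((p ^ b * m : ℕ) : ℂ) / (Cfsg.charDegree (ψ : G → ℂ) : ℂ)) := by
      refine CfsgLib.Block.memLocalIdeal_natCast_div hM (CfsgLib.Block.charDegree_ne_zero ψ.2) ?_
      rcases Nat.eq_zero_or_pos m with h0 | h0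
      · exact Or.inl (by rw [h0, mul_zero])
      · refine Or.inr ?_
        rw [Nat.factorization_mul (pow_ne_zero _ hp.ne_zero) h0.ne', hp.factorization_pow]
        simp only [Finsupp.coe_add, Pi.add_apply, Finsupp.single_eq_same]
        omega
    rw [CfsgLib.Block.charDegree_cast (CfsgLib.Char.irr_isCharacter ψ.2), ← hsum, Finset.sum_div,
      ← Finset.add_sum_erase _ _ (Finset.mem_univ (1 : Z))] at hall
    have hrest : Cfsg.MemLocalIdeal M
        (∑ z ∈ (Finset.univ : Finset Z).erase 1, (ψ : G → ℂ) z / (ψ : G → ℂ) 1) :=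
      CfsgLib.Block.memLocalIdeal_sum _ _ fun z hz => hterm z (Finset.mem_erase.1 hz).1
    refine CfsgLib.Block.not_memLocalIdeal_one (M := M) ?_
    have h3 := CfsgLib.Block.memLocalIdeal_sub hall hrest
    rwa [add_sub_cancel_right, OneMemClass.coe_one, div_self hne] at h3
  have hdef : Cfsg.blockDefect p (Cfsg.blockOf M (χ : G → ℂ)) ≤ a - b := by
    rw [Cfsg.blockDefect, hfac]
    refine Nat.sub_le_sub_left (le_csInf ?_ ?_) a
    · exact ⟨_, χ, CfsgLib.Block.mem_blockOf_self χ, rfl⟩
    · rintro _ ⟨ψ, hψ, rfl⟩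
      exact hge ψ hψ
  refine ⟨hdef, fun hab => ?_⟩
  have hba : b = a := by
    have htop : Subgroup.center ↥(P : Subgroup G) = ⊤ :=
      eq_top_iff.2 fun x _ => Subgroup.mem_center_iff.2 fun y => mul_comm' y x
    rw [htop, Subgroup.card_top] at hb
    exact Nat.pow_right_injective hp.two_le (hb.symm.trans ha)
  omega

end Cfsg.Agent.S4730
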