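import Cfsg.Statements.S4731
import Cfsg.Agent.Lib.Block.Orthogonality
import Cfsg.Agent.Lib.Char.Diag
import Cfsg.Agent.Lib.Block.DefectOrder

set_option autoImplicit false
open Cfsg
open scoped ComplexConjugate

namespace Cfsg.Agent.S4731

/-- Let p ≠ q be primes, M_p and M_q maximal ideals of the algebraic integers containing p and q respectively, and G a finite group with no element of order pq; let q^b be the q-part of the order of G. For a p-block B_p (relative to M_p), a q-block B_q (relative to M_q) and a p-singular element y, the sum of χ(1)χ(y) over the irreducible characters χ lying in both B_p and B_q is q^b times an algebraic integer. -/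
theorem result {G : Type*} [Group G] [Finite G] (p q : ℕ) [Fact p.Prime] [Fact q.Prime] (hpq : p ≠ q) (Mp Mq : Ideal Cfsg.AlgInt) (hMp : Cfsg.IsPModular p Mp) (hMq : Cfsg.IsPModular q Mq) (hno : ∀ g : G, orderOf g ≠ p * q) (b : ℕ) (hb : (Nat.card G).factorization q = b) (Bp : Set (Cfsg.IrrCharacter G)) (hBp : Cfsg.IsPBlock Mp Bp) (Bq : Set (Cfsg.IrrCharacter G)) (hBq : Cfsg.IsPBlock Mq Bq) (y : G) (hy : p ∣ orderOf y) : ∃ ω : Cfsg.AlgInt, ∑ᶠ χ ∈ Bp ∩ Bq, (Cfsg.charDegree (χ : G → ℂ) : ℂ) * (χ : G → ℂ) y = (q : ℂ) ^ b * (ω : ℂ) := by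
  classical
  have := Fintype.ofFinite G
  have := Fintype.ofFinite (IrrCharacter G)
  have := CfsgLib.Block.isPrime_of_pmodular hMp
  have := CfsgLib.Block.isPrime_of_pmodular hMq
  let Sp : Finset (IrrCharacter G) := Finset.univ.filter (fun χ => χ ∈ Bp)
  let Spq : Finset (IrrCharacter G) := Finset.univ.filter (fun χ => χ ∈ Bp ∩ Bq)
  let Sq : Finset (IrrCharacter G) := Finset.univ.filter (fun χ => χ ∈ Bq)
  have hfp : ∀ (f : IrrCharacter G → ℂ), ∑ᶠ χ ∈ Bp, f χ = ∑ χ ∈ Sp, f χ := fun f => by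
    rw [finsum_mem_eq_finite_toFinset_sum _ Bp.toFinite]
    exact Finset.sum_congr (by ext; simp [Sp]) fun _ _ => rfl
  have hfq : ∀ (f : IrrCharacter G → ℂ), ∑ᶠ χ ∈ Bq, f χ = ∑ χ ∈ Sq, f χ := fun f => by
    rw [finsum_mem_eq_finite_toFinset_sum _ Bq.toFinite]
    exact Finset.sum_congr (by ext; simp [Sq]) fun _ _ => rfl
  let F : G → ℂ := fun g => ∑ χ ∈ Sp, (χ : G → ℂ) y * conj ((χ : G → ℂ) g)
  obtain ⟨u, hu⟩ := CfsgLib.Block.exists_isPPart (p := p) (Fact.out : p.Prime) y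
  have hu1 : u ≠ 1 := by
    obtain ⟨v, hv, -, -, hv'⟩ := id hu
    rintro rfl
    rw [one_mul] at hv
    exact hv' (hv ▸ hy)
  have hF : ∀ g : G, q ∣ orderOf g → F g = 0 := by
    intro g hg
    obtain ⟨w, hw⟩ := CfsgLib.Block.exists_isPPart (p := p) (Fact.out : p.Prime) g
    rw [show F g = ∑ᶠ χ ∈ Bp, (χ : G → ℂ) y * conj ((χ : G → ℂ) g) from
      (hfp fun χ => (χ : G → ℂ) y * conj ((χ : G → ℂ) g)).symm]
    refine CfsgLib.Block.sum_block_eq_zero hMp hBp hu hw fun hc => ?_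
    obtain ⟨v, hv, hcv, ⟨k, hk⟩, hv'⟩ := id hw
    have hk0 : k ≠ 0 := by
      rintro rfl
      rw [pow_zero, orderOf_eq_one_iff] at hk
      subst hk
      obtain ⟨c, hc'⟩ := isConj_iff.1 hc
      exact hu1 (by simpa [mul_assoc] using congrArg (fun z => c⁻¹ * z * c) hc')
    have hpg : p ∣ orderOf g := by
      rw [← hv, hcv.orderOf_mul_eq_mul_orderOf_of_coprime (by
        rw [hk]
        exact Nat.Coprime.pow_left k ((Fact.out : p.Prime).coprime_iff_not_dvd.2 hv')), hk]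
      exact Dvd.dvd.mul_right (dvd_pow_self p hk0) _
    have hpq' : p * q ∣ orderOf g :=
      ((Nat.coprime_primes (Fact.out : p.Prime) (Fact.out : q.Prime)).2 hpq).mul_dvd_of_dvd_of_dvd
        hpg hg
    exact hno (g ^ (orderOf g / (p * q))) (orderOf_pow_orderOf_div (orderOf_pos g).ne' hpq')
  have hinner : ∀ χ : IrrCharacter G, ∑ h : G, F h * (χ : G → ℂ) h =
      if χ ∈ Bp then (Nat.card G : ℂ) * (χ : G → ℂ) y else 0 := by
    intro χ
    simp only [F, Finset.sum_mul]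
    rw [Finset.sum_comm]
    have horth : ∀ ψ : IrrCharacter G, ∑ h : G, conj ((ψ : G → ℂ) h) * (χ : G → ℂ) h =
        if χ = ψ then (Nat.card G : ℂ) else 0 := fun ψ => by
      have h1 := CfsgLib.Char.irr_classInner χ.2 ψ.2
      rw [CfsgLib.Char.classInner_def, if_congr Subtype.coe_inj rfl rfl] at h1
      rw [Finset.sum_congr rfl fun h _ => mul_comm _ _]
      have hn : (Nat.card G : ℂ) ≠ 0 := Nat.cast_ne_zero.2 Nat.card_pos.ne'
      field_simp at h1
      rw [h1]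
      split_ifs <;> simp
    rw [Finset.sum_congr rfl fun ψ _ => by
      rw [Finset.sum_congr rfl fun h _ => mul_assoc _ _ _, ← Finset.mul_sum, horth ψ]]
    simp only [mul_ite, mul_zero, Finset.sum_ite_eq]
    by_cases h : χ ∈ Bp <;> simp [Sp, h, mul_comm]
  let Fq : G → ℂ := fun g => ∑ χ ∈ Spq, (χ : G → ℂ) y * conj ((χ : G → ℂ) g)
  have hFq : ∀ g : G, q ∣ orderOf g → Fq g = 0 := by
    intro g hg
    have h1 : (Nat.card G : ℂ) * Fq g =
        ∑ h : G, F h * ∑ χ ∈ Sq, (χ : G → ℂ) h * conj ((χ : G → ℂ) g) := by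
      simp only [Fq, Finset.mul_sum, ← mul_assoc]
      conv_rhs => rw [Finset.sum_comm, Finset.sum_congr rfl fun χ _ => (Finset.sum_mul _ _ _).symm,
        Finset.sum_congr rfl fun χ _ => by rw [hinner χ]]
      simp only [ite_mul, zero_mul]
      rw [← Finset.sum_filter]
      exact Finset.sum_congr (by ext; simp [Spq, Sq, and_comm]) fun _ _ => rfl
    have h2 : ∑ h : G, F h * ∑ χ ∈ Sq, (χ : G → ℂ) h * conj ((χ : G → ℂ) g) = 0 := by
      refine Finset.sum_eq_zero fun h _ => ?_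
      by_cases hh : q ∣ orderOf h
      · rw [hF h hh, zero_mul]
      · rw [← hfq fun χ => (χ : G → ℂ) h * conj ((χ : G → ℂ) g),
          CfsgLib.Block.sum_block_eq_zero_of_regular_singular hMq hBq hh hg, mul_zero]
    rw [h2] at h1
    exact (mul_eq_zero.1 h1).resolve_left (Nat.cast_ne_zero.2 Nat.card_pos.ne')
  obtain ⟨Q⟩ := (inferInstance : Nonempty (Sylow q G))
  choose m hm using fun χ : IrrCharacter G => CfsgLib.Char.classInner_isCharacter_nat
    CfsgLib.Char.isCharacter_one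
    (CfsgLib.Char.isCharacter_restrict (CfsgLib.Char.irr_isCharacter χ.2) (Q : Subgroup G))
  have hint : ∀ χ : IrrCharacter G, (m χ : ℂ) * (χ : G → ℂ) y ∈ AlgInt := by
    intro χ
    obtain ⟨n, ρ, -, hρ⟩ := id χ.2
    rw [← hρ]
    exact AlgInt.mul_mem (natCast_mem _ _) (CfsgLib.Char.char_isIntegral ρ y)
  refine ⟨⟨∑ χ ∈ Spq, (m χ : ℂ) * (χ : G → ℂ) y, sum_mem fun χ _ => hint χ⟩, ?_⟩
  have hQ : (Nat.card (Q : Subgroup G) : ℂ) = (q : ℂ) ^ b := by
    rw [Sylow.card_eq_multiplicity, hb, Nat.cast_pow]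
  have hsum : ∑ z : (Q : Subgroup G), Fq z = Fq 1 := by
    rw [Finset.sum_eq_single (1 : (Q : Subgroup G))]
    · rfl
    · intro z _ hz
      refine hFq _ ?_
      obtain ⟨k, hk⟩ := IsPGroup.iff_orderOf.1 Q.2 z
      rw [Subgroup.orderOf_coe, hk]
      rcases Nat.eq_zero_or_pos k with rfl | hk0
      · exact absurd (orderOf_eq_one_iff.1 (by rw [hk, pow_zero])) hz
      · exact dvd_pow_self q hk0.ne'
    · intro h; exact absurd (Finset.mem_univ _) h
  have hleft : ∑ᶠ χ ∈ Bp ∩ Bq, (charDegree (χ : G → ℂ) : ℂ) * (χ : G → ℂ) y = Fq 1 := by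
    rw [finsum_mem_eq_finite_toFinset_sum _ (Bp ∩ Bq).toFinite]
    refine Finset.sum_congr (by ext; simp [Spq]) fun χ _ => ?_
    rw [← CfsgLib.Block.charDegree_cast (CfsgLib.Char.irr_isCharacter χ.2), Complex.conj_natCast,
      mul_comm]
  rw [hleft, ← hsum]
  simp only [Fq]
  rw [Finset.sum_comm, Finset.mul_sum]
  refine Finset.sum_congr rfl fun χ _ => ?_
  rw [← Finset.mul_sum, ← hQ, ← hm χ, CfsgLib.Char.classInner_def, ← mul_assoc, ← mul_assoc,
    mul_inv_cancel₀ (Nat.cast_ne_zero.2 Nat.card_pos.ne'), one_mul, mul_comm]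
  simp only [one_mul]

end Cfsg.Agent.S4731
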