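import Cfsg.Statements.S4732
import Cfsg.Agent.Lib.BlockB.JordanLinear
-- import your own Cfsg.Agent.* helpers here

set_option autoImplicit false
universe u v
open Cfsg

namespace Cfsg.Agent.S4732

/-- Let p be a prime. There is a function f of two natural-number arguments such that every finite group G admitting a faithful representation of degree n over a field of characteristic p, with Sylow p-subgroups of order p^m, has a normal abelian subgroup A with [G : A] < f(m, n). -/
theorem result (p : ℕ) [Fact p.Prime] : ∃ f : ℕ → ℕ → ℕ, ∀ (G : Type u) [Group G] [Finite G] (F : Type v) [Field F] [CharP F p] (n : ℕ) (ρ : Representation F G (Fin n → F)), Function.Injective ρ → ∀ m : ℕ, (Nat.card G).factorization p = m → ∃ A : Subgroup G, A.Normal ∧ IsMulCommutative A ∧ A.index < f m n := by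
  choose J hJ using fun m n : ℕ => (show ∃ J : ℕ, ∀ (G : Type u) [Group G] [Finite G] (F : Type v)
      [Field F] [CharP F p] (ρ : Representation F G (Fin n → F)), Function.Injective ρ →
      (Nat.card G).factorization p ≤ m → ∃ A : Subgroup G, IsMulCommutative A ∧ A.index ≤ J from by
    by_cases h : ∃ (F : Type v) (_ : Field F), CharP F p
    swap
    · exact ⟨0, fun G _ _ F _ hF _ _ _ => absurd ⟨F, inferInstance, hF⟩ h⟩
    obtain ⟨B, hB⟩ : ∃ B : ℕ, ∀ (K : Type v) [Field K] [IsAlgClosed K] [CharP K p]
        (G : Type u) [Group G] [Finite G] (ρ : Representation K G (Fin n → K)),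
        Function.Injective ρ → (Nat.card G).factorization p ≤ m →
        ∃ A : Subgroup G, IsMulCommutative A ∧ A.index ≤ B := by
      obtain ⟨B, hB⟩ := CfsgLib.BlockB.JordanLinear.exists_bounded_all.{u, v} p m n
      exact ⟨B, fun K _ _ _ G _ _ ρ hρ hm => hB K G (Fin n → K) ρ hρ (by simp) hm⟩
    refine ⟨B, fun G _ _ F _ hF ρ hρ hm => ?_⟩
    let Ka := AlgebraicClosure F
    have : CharP Ka p := charP_of_injective_algebraMap (algebraMap F Ka).injective p
    let Φ : Module.End F (Fin n → F) →+* Module.End Ka (Fin n → Ka) :=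
      (Matrix.toLinAlgEquiv' (R := Ka) (n := Fin n)).toRingEquiv.toRingHom.comp
        ((RingHom.mapMatrix (algebraMap F Ka)).comp
          (Matrix.toLinAlgEquiv' (R := F) (n := Fin n)).symm.toRingEquiv.toRingHom)
    have hΦ : Function.Injective Φ := (Matrix.toLinAlgEquiv' (R := Ka) (n := Fin n)).injective.comp
      ((Matrix.map_injective (algebraMap F Ka).injective).comp
        (Matrix.toLinAlgEquiv' (R := F) (n := Fin n)).symm.injective)
    exact hB Ka G (Φ.toMonoidHom.comp ρ) (hΦ.comp hρ) hm)
  refine ⟨fun m n => (J m n).factorial + 1, fun G _ _ F _ _ n ρ hρ m hm => ?_⟩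
  obtain ⟨A, hA, hAi⟩ := hJ m n G F ρ hρ hm.le
  refine ⟨A.normalCore, inferInstance, ?_, Nat.lt_succ_of_le
    ((CfsgLib.BlockB.JordanLinear.index_normalCore_le A).trans (Nat.factorial_le hAi))⟩
  constructor; constructor
  intro a b
  exact Subtype.ext (congrArg Subtype.val (hA.is_comm.comm ⟨(a : G), Subgroup.normalCore_le _ a.2⟩
    ⟨(b : G), Subgroup.normalCore_le _ b.2⟩) : _)

end Cfsg.Agent.S4732
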