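import Cfsg.Statements.S4735
import Cfsg.Agent.Lib.BlockB.PrincipalLambda
import Cfsg.Agent.Lib.Solvable.PCore
import Cfsg.Agent.Lib.BlockB.PrincipalKer
import Cfsg.Agent.Lib.Char.Column

set_option autoImplicit false
open Cfsg

namespace Cfsg.Agent.S4735

/-- Let p be a prime, M a maximal ideal of the algebraic integers containing p, G a finite group, H = O_p'(G) and Ḡ = G/H. For x ∈ G write λ(G, x) for the sum of |χ(x)|^2 over the irreducible characters χ in the principal p-block of G. Then λ(G, x) is a positive integer, λ(G, x) = λ(Ḡ, x̄) where x̄ is the image of x, and λ(G, x) ≤ #C_Ḡ(x̄). Moreover λ(G, 1) = [G : H] if and only if the principal block is the only p-block of Ḡ. -/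
theorem result {G : Type*} [Group G] [Finite G] (p : ℕ) [Fact p.Prime] (M : Ideal Cfsg.AlgInt) (hM : Cfsg.IsPModular p M) (x : G) : (∃ n : ℕ, 0 < n ∧ ∑ᶠ χ ∈ Cfsg.principalBlock M G, Complex.normSq ((χ : G → ℂ) x) = n) ∧ ∑ᶠ χ ∈ Cfsg.principalBlock M G, Complex.normSq ((χ : G → ℂ) x) = ∑ᶠ ψ ∈ Cfsg.principalBlock M (G ⧸ Cfsg.pPrimeCore p G), Complex.normSq ((ψ : G ⧸ Cfsg.pPrimeCore p G → ℂ) (QuotientGroup.mk x)) ∧ ∑ᶠ χ ∈ Cfsg.principalBlock M G, Complex.normSq ((χ : G → ℂ) x) ≤ (Nat.card ↥(Subgroup.centralizer ({(QuotientGroup.mk x : G ⧸ Cfsg.pPrimeCore p G)} : Set (G ⧸ Cfsg.pPrimeCore p G))) : ℝ) ∧ ((∑ᶠ χ ∈ Cfsg.principalBlock M G, Cfsg.charDegree (χ : G → ℂ) ^ 2) = (Cfsg.pPrimeCore p G).index ↔ ∀ B : Set (Cfsg.IrrCharacter (G ⧸ Cfsg.pPrimeCore p G)), Cfsg.IsPBlock M B → B = Cfsg.principalBlock M (G ⧸ Cfsg.pPrimeCore p G)) := by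
  classical
  have hp := hM.1
  have := Fact.mk hp
  have := CfsgLib.Block.isPrime_of_pmodular hM
  have := Fintype.ofFinite G
  have hHn := CfsgLib.Solvable.pPrimeCore_normal p G
  set H := Cfsg.pPrimeCore p G with hH
  have hHp : ¬ p ∣ Nat.card H :=
    hp.coprime_iff_not_dvd.1 (CfsgLib.Solvable.pPrimeCore_coprime p).symm
  have := Fintype.ofFinite (G ⧸ H)
  set BG := (Cfsg.principalBlock M G).toFinite.toFinset with hBG
  set BQ := (Cfsg.principalBlock M (G ⧸ H)).toFinite.toFinset with hBQ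
  have hker : ∀ χ ∈ BG, ∀ h ∈ H, (χ : G → ℂ) h = (χ : G → ℂ) 1 := fun χ hχ =>
    CfsgLib.BlockB.normal_le_ker_principal hM H hHp ((Set.Finite.mem_toFinset _).1 hχ)
  -- inflation
  have hinfl : ∀ f : ℂ → ℝ, ∀ y : G, ∑ χ ∈ BG, f ((χ : G → ℂ) y) =
      ∑ ψ ∈ BQ, f ((ψ : G ⧸ H → ℂ) (QuotientGroup.mk y)) := by
    intro f y
    symm
    refine Finset.sum_bij (fun ψ _ => (CfsgLib.BlockB.quotIrrEquiv H ψ).1) ?_ ?_ ?_ ?_
    · intro ψ hψ
      exact (Set.Finite.mem_toFinset _).2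
        ((CfsgLib.BlockB.quotIrrEquiv_mem_iff hM H hHp ψ).2 ((Set.Finite.mem_toFinset _).1 hψ))
    · intro a _ b _ h
      exact (CfsgLib.BlockB.quotIrrEquiv H).injective (Subtype.ext h)
    · intro χ hχ
      obtain ⟨ψ, hψ⟩ := (CfsgLib.BlockB.quotIrrEquiv H).surjective ⟨χ, hker χ hχ⟩
      refine ⟨ψ, (Set.Finite.mem_toFinset _).2 ?_, congrArg Subtype.val hψ⟩
      rw [← CfsgLib.BlockB.quotIrrEquiv_mem_iff hM H hHp ψ, hψ]
      exact (Set.Finite.mem_toFinset _).1 hχ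
    · intro ψ _
      rw [CfsgLib.BlockB.quotIrrEquiv_apply]
  rw [finsum_mem_eq_finite_toFinset_sum _ (Cfsg.principalBlock M G).toFinite,
    finsum_mem_eq_finite_toFinset_sum _ (Cfsg.principalBlock M (G ⧸ H)).toFinite,
    finsum_mem_eq_finite_toFinset_sum _ (Cfsg.principalBlock M G).toFinite, ← hBG, ← hBQ]
  refine ⟨?_, hinfl Complex.normSq x, ?_, ?_⟩
  · -- a positive integer
    set n := Nat.card G with hn
    have hn0 : n ≠ 0 := Nat.card_pos.ne'
    let F : ℕ → ℂ := fun k => ∑ χ ∈ BG, (χ : G → ℂ) (x ^ k) * (χ : G → ℂ) (x⁻¹ ^ k)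
    have hF : CfsgLib.BlockB.IsCyclo n F := CfsgLib.BlockB.IsCyclo.sum _ fun χ _ =>
      (CfsgLib.BlockB.isCyclo_char (CfsgLib.Char.irr_isCharacter χ.2) x).mul
        (CfsgLib.BlockB.isCyclo_char (CfsgLib.Char.irr_isCharacter χ.2) x⁻¹)
    have hgal : ∀ k : ℕ, k.Coprime n → F k = F 1 := by
      intro k hk
      refine Finset.sum_bij (fun χ _ => CfsgLib.BlockB.galIrr hk χ) ?_ ?_ ?_ ?_
      · intro χ hχ
        exact (Set.Finite.mem_toFinset _).2
          (CfsgLib.BlockB.galIrr_mem_principalBlock hM hk ((Set.Finite.mem_toFinset _).1 hχ))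
      · intro a _ b _ h
        exact CfsgLib.BlockB.galIrr_injective hk h
      · intro χ hχ
        obtain ⟨e, he⟩ := CfsgLib.BlockB.exists_galIrr_perm hk BG (fun φ hφ =>
          (Set.Finite.mem_toFinset _).2
            (CfsgLib.BlockB.galIrr_mem_principalBlock hM hk ((Set.Finite.mem_toFinset _).1 hφ)))
        obtain ⟨φ, hφ⟩ := e.surjective ⟨χ, hχ⟩
        exact ⟨φ.1, φ.2, by rw [← he φ, hφ]⟩
      · intro χ _
        show _ = (χ : G → ℂ) ((x ^ 1) ^ k) * (χ : G → ℂ) ((x⁻¹ ^ 1) ^ k)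
        rw [pow_one, pow_one]
    obtain ⟨z, hz⟩ := hF.exists_int hn0 hgal
    have hreal : ((∑ χ ∈ BG, Complex.normSq ((χ : G → ℂ) x) : ℝ) : ℂ) = (z : ℂ) := by
      rw [← hz, Complex.ofReal_sum]
      refine Finset.sum_congr rfl fun χ _ => ?_
      rw [pow_one, pow_one, ← CfsgLib.Block.irr_conj_eq χ.2, Complex.mul_conj]
    have hz' : (∑ χ ∈ BG, Complex.normSq ((χ : G → ℂ) x) : ℝ) = (z : ℝ) := by exact_mod_cast hreal
    have hpos : (1 : ℝ) ≤ ∑ χ ∈ BG, Complex.normSq ((χ : G → ℂ) x) := by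
      refine le_trans ?_ (Finset.single_le_sum
        (f := fun χ : Cfsg.IrrCharacter G => Complex.normSq ((χ : G → ℂ) x))
        (fun χ _ => Complex.normSq_nonneg _)
        (a := ⟨fun _ => 1, CfsgLib.Char.isIrrCharacter_one⟩)
        ((Set.Finite.mem_toFinset _).2 CfsgLib.Block.one_mem_principalBlock))
      simp
    rw [hz'] at hpos ⊢
    have hz1 : (1 : ℤ) ≤ z := by exact_mod_cast hpos
    refine ⟨z.toNat, by omega, ?_⟩
    rw [← Int.cast_natCast, Int.toNat_of_nonneg (by omega)]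
  · -- at most the centraliser
    rw [hinfl Complex.normSq x]
    have := Fintype.ofFinite (Cfsg.IrrCharacter (G ⧸ H))
    have h := CfsgLib.Char.column_orthogonality (QuotientGroup.mk x : G ⧸ H) (QuotientGroup.mk x)
    rw [if_pos (IsConj.refl _)] at h
    refine (Finset.sum_le_univ_sum_of_nonneg (fun ψ => Complex.normSq_nonneg _)).trans_eq ?_
    simp only [Complex.mul_conj, ← Complex.ofReal_sum] at h
    exact_mod_cast h
  · -- equality at one
    have hsq : ∀ {X : Type _} [Group X] [Finite X] (χ : Cfsg.IrrCharacter X),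
        ((Cfsg.charDegree (χ : X → ℂ) ^ 2 : ℕ) : ℝ) = Complex.normSq ((χ : X → ℂ) 1) := by
      intro X _ _ χ
      rw [← CfsgLib.Block.charDegree_cast (CfsgLib.Char.irr_isCharacter χ.2),
        Complex.normSq_natCast, Nat.cast_pow, pow_two]
    have hdeg : ∑ χ ∈ BG, Cfsg.charDegree (χ : G → ℂ) ^ 2 =
        ∑ ψ ∈ BQ, Cfsg.charDegree (ψ : G ⧸ H → ℂ) ^ 2 := by
      have h : ((∑ χ ∈ BG, Cfsg.charDegree (χ : G → ℂ) ^ 2 : ℕ) : ℝ) =
          ((∑ ψ ∈ BQ, Cfsg.charDegree (ψ : G ⧸ H → ℂ) ^ 2 : ℕ) : ℝ) := by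
        rw [Nat.cast_sum, Nat.cast_sum, Finset.sum_congr rfl (fun χ _ => hsq χ),
          Finset.sum_congr rfl (fun ψ _ => hsq ψ), hinfl Complex.normSq 1]
        rfl
      exact_mod_cast h
    have := Fintype.ofFinite (Cfsg.IrrCharacter (G ⧸ H))
    have hall : ∑ ψ : Cfsg.IrrCharacter (G ⧸ H), Cfsg.charDegree (ψ : G ⧸ H → ℂ) ^ 2 = H.index := by
      have h := CfsgLib.Char.sum_irr_sq (G := G ⧸ H)
      rw [← Subgroup.index_eq_card] at h
      have h2 : ((∑ ψ : Cfsg.IrrCharacter (G ⧸ H), Cfsg.charDegree (ψ : G ⧸ H → ℂ) ^ 2 : ℕ) : ℂ) =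
          (H.index : ℂ) := by
        rw [← h, Nat.cast_sum]
        refine Finset.sum_congr rfl fun ψ _ => ?_
        rw [Nat.cast_pow, CfsgLib.Block.charDegree_cast (CfsgLib.Char.irr_isCharacter ψ.2)]
      exact_mod_cast h2
    rw [hdeg, ← hall]
    constructor
    · intro h B hB
      have hfull : ∀ ψ : Cfsg.IrrCharacter (G ⧸ H), ψ ∈ Cfsg.principalBlock M (G ⧸ H) := by
        intro ψ
        by_contra hψ
        refine absurd h (ne_of_lt (Finset.sum_lt_sum_of_subset (Finset.subset_univ BQ)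
          (Finset.mem_univ ψ) (fun hm => hψ ((Set.Finite.mem_toFinset _).1 hm)) ?_
          fun _ _ _ => Nat.zero_le _))
        exact pow_pos (Nat.pos_of_ne_zero (CfsgLib.Block.charDegree_ne_zero ψ.2)) 2
      obtain ⟨φ, hφ⟩ := hB
      rw [hφ]
      exact (CfsgLib.Block.isPBlock_eq_blockOf CfsgLib.Block.isPBlock_principalBlock (hfull φ)).symm
    · intro h
      refine Finset.sum_congr ?_ fun _ _ => rfl
      refine Finset.eq_univ_of_forall fun ψ => (Set.Finite.mem_toFinset _).2 ?_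
      rw [← h _ (CfsgLib.Block.isPBlock_blockOf ψ)]
      exact CfsgLib.Block.mem_blockOf_self ψ

end Cfsg.Agent.S4735
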