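import Cfsg.Statements.S4736
import Cfsg.Agent.Lib.BlockB.ItoPSolvable
import Cfsg.Agent.Lib.BlockB.PrincipalKer
import Cfsg.Agent.Lib.BlockA.PrincipalType
import Cfsg.Agent.Lib.Block.KerNormal
import Cfsg.Agent.Lib.Comp.PComponent
-- import your own Cfsg.Agent.* helpers here

set_option autoImplicit false
open Cfsg

namespace Cfsg.Agent.S4736

/-- Let p be a prime, M a maximal ideal of the algebraic integers containing p, and G a finite p-solvable group with Sylow p-subgroup P. Then P is abelian if and only if every irreducible character in the principal p-block of G has height zero. -/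
theorem result {G : Type*} [Group G] [Finite G] (p : ℕ) [Fact p.Prime] (M : Ideal Cfsg.AlgInt) (hM : Cfsg.IsPModular p M) (hsolv : Cfsg.IsPSolvable p G) (P : Sylow p G) : IsMulCommutative P ↔ ∀ χ ∈ Cfsg.principalBlock M G, Cfsg.blockHeight p (Cfsg.principalBlock M G) (χ : G → ℂ) = 0 := by
  classical
  have hp := (Fact.out : p.Prime)
  have := CfsgLib.Block.isPrime_of_pmodular hM
  have := Fintype.ofFinite G
  set K := Cfsg.pPrimeCore p G with hKdef
  have hKn : K.Normal := CfsgLib.Solvable.pPrimeCore_normal p G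
  have := Fintype.ofFinite K
  have hKc : (Nat.card K).Coprime p := CfsgLib.Solvable.pPrimeCore_coprime p
  have hKp : ¬ p ∣ Nat.card K := hp.coprime_iff_not_dvd.1 hKc.symm
  have hsq : Cfsg.IsPSolvable p (G ⧸ K) := CfsgLib.StructC.isPSolvable_quotient K hsolv
  have hcore : Cfsg.pPrimeCore p (G ⧸ K) = ⊥ := CfsgLib.Comp.pPrimeCore_quotient_eq_bot p G
  have hcons := CfsgLib.Block.centralizer_pCore_le_of_isPSolvable hsq hcore
  obtain ⟨B, hB, hBmem, -, -, -⟩ := CfsgLib.BlockA.principalType (K := K) hM hcons hKc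
    CfsgLib.Block.trivIrr (fun g => CfsgLib.Block.conjIrr_trivIrr g)
  have hB0 : B = Cfsg.principalBlock M G := by
    refine CfsgLib.Block.isPBlock_eq_of_mem hB CfsgLib.Block.isPBlock_principalBlock
      ((hBmem ⟨fun _ => 1, CfsgLib.Char.isIrrCharacter_one⟩).2 ?_) CfsgLib.Block.one_mem_principalBlock
    exact (CfsgLib.Block.le_kerIrr_iff_constituent _).1 fun x _ => rfl
  let infl : Cfsg.IrrCharacter (G ⧸ K) → Cfsg.IrrCharacter G := fun ψ =>
    ⟨_, CfsgLib.Char.isIrrCharacter_comp_surjective ψ.2 (QuotientGroup.mk' K)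
      (QuotientGroup.mk'_surjective K)⟩
  have hmem : ∀ ψ, infl ψ ∈ Cfsg.principalBlock M G := fun ψ => by
    rw [← hB0, hBmem]
    refine (CfsgLib.Block.le_kerIrr_iff_constituent _).1 fun x hx => ?_
    show (ψ : G ⧸ K → ℂ) (x : G ⧸ K) = (ψ : G ⧸ K → ℂ) ((1 : G) : G ⧸ K)
    rw [(QuotientGroup.eq_one_iff x).2 hx, QuotientGroup.mk_one]
  set Pb := P.mapSurjective (QuotientGroup.mk'_surjective K)
  have hinj : ∀ a ∈ (P : Subgroup G), ∀ b ∈ (P : Subgroup G),
      (a : G ⧸ K) = (b : G ⧸ K) → a = b := by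
    intro a ha b hb he
    have hm : a⁻¹ * b ∈ (P : Subgroup G) := mul_mem (inv_mem ha) hb
    obtain ⟨k, hk⟩ := P.isPGroup' ⟨_, hm⟩
    have h1 : orderOf (a⁻¹ * b) ∣ p ^ k := orderOf_dvd_of_pow_eq_one (congrArg Subtype.val hk :)
    have h2 : orderOf (a⁻¹ * b) ∣ Nat.card K := by
      rw [← Subgroup.orderOf_mk _ (QuotientGroup.eq.1 he)]; exact orderOf_dvd_natCard _
    exact inv_mul_eq_one.1 (orderOf_eq_one_iff.1
      (Nat.eq_one_of_dvd_coprimes (hKc.pow_right k) h2 h1))
  constructor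
  · intro hPc χ hχ
    rw [CfsgLib.BlockB.principal_height_zero_iff hp]
    -- the Sylow subgroup of `G ⧸ K` is normal and abelian
    have hPbc : IsMulCommutative Pb := by
      constructor; constructor
      rintro ⟨_, a, ha, rfl⟩ ⟨_, b, hb, rfl⟩
      exact Subtype.ext (congrArg (fun t : (P : Subgroup G) => QuotientGroup.mk' K (t : G))
        (hPc.is_comm.comm ⟨a, ha⟩ ⟨b, hb⟩) |> fun h => by simpa using h)
    have hle : (Pb : Subgroup (G ⧸ K)) ≤ Cfsg.pCore p (G ⧸ K) := by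
      refine le_trans ?_ hcons
      intro x hx
      refine Subgroup.mem_centralizer_iff.2 fun y hy => ?_
      exact congrArg Subtype.val
        (hPbc.is_comm.comm ⟨y, CfsgLib.Solvable.pCore_le_sylow Pb hy⟩ ⟨x, hx⟩)
    have hPbn : (Pb : Subgroup (G ⧸ K)).Normal := by
      rw [le_antisymm hle (CfsgLib.Solvable.pCore_le_sylow Pb)]
      exact CfsgLib.Solvable.pCore_normal p (G ⧸ K)
    obtain ⟨ψ, hψ, he⟩ := CfsgLib.Char.isIrr_quotient_lift K χ.2
      (CfsgLib.BlockB.normal_le_ker_principal hM K hKp hχ)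
    rw [he]
    exact CfsgLib.BlockB.ItoPSolvable.not_dvd_of_normal_comm Pb hPbn hPbc ⟨ψ, hψ⟩
  · intro h
    have hPbc := (CfsgLib.BlockB.ItoPSolvable.normal_and_comm _ (G ⧸ K) le_rfl hsq (fun ψ =>
      show ¬ p ∣ Cfsg.charDegree (infl ψ : G → ℂ) from
        (CfsgLib.BlockB.principal_height_zero_iff hp).1 (h (infl ψ) (hmem ψ))) Pb).2
    constructor; constructor
    intro a b
    exact Subtype.ext (hinj _ (a * b).2 _ (b * a).2
      (congrArg Subtype.val (hPbc.is_comm.comm ⟨_, ⟨a, a.2, rfl⟩⟩ ⟨_, ⟨b, b.2, rfl⟩⟩)))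

end Cfsg.Agent.S4736
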