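import Cfsg.Statements.S4737
import Cfsg.Agent.Lib.BlockB.InvolutionSum
import Cfsg.Agent.Lib.BlockB.PModular
import Mathlib.LinearAlgebra.Matrix.Rank
-- import your own Cfsg.Agent.* helpers here

set_option autoImplicit false
open Cfsg

namespace Cfsg.Agent.S4737

/-- Let G be a finite group of order divisible by 6. Then the number of irreducible characters of G whose degree has the same 2-part as the order of G (the characters of 2-defect zero, each forming a 2-block of defect zero on its own) is at least the number of conjugacy classes of elements of order 3 that normalize no nontrivial 2-subgroup of G. In particular G has a 2-block of defect zero as soon as some element of order 3 normalizes no nontrivial 2-subgroup. -/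
theorem result {G : Type*} [Group G] [Finite G] (h6 : 6 ∣ Nat.card G) : Nat.card {C : ConjClasses G // ∃ g ∈ C.carrier, orderOf g = 3 ∧ ∀ Q : Subgroup G, IsPGroup 2 ↥Q → g ∈ Subgroup.normalizer (Q : Set G) → Q = ⊥} ≤ Nat.card {χ : Cfsg.IrrCharacter G // (Cfsg.charDegree (χ : G → ℂ)).factorization 2 = (Nat.card G).factorization 2} := by
  classical
  have := Fintype.ofFinite G
  have := Fintype.ofFinite (Cfsg.IrrCharacter G)
  obtain ⟨M, hM⟩ := CfsgLib.BlockB.exists_isPModular Nat.prime_two
  have := CfsgLib.Block.isPrime_of_pmodular hM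
  have : Finite (ConjClasses G) := Finite.of_surjective _ ConjClasses.mk_surjective
  let I := {C : ConjClasses G // ∃ g ∈ C.carrier, orderOf g = 3 ∧
    ∀ Q : Subgroup G, IsPGroup 2 ↥Q → g ∈ Subgroup.normalizer (Q : Set G) → Q = ⊥}
  let J := {χ : Cfsg.IrrCharacter G //
    (Cfsg.charDegree (χ : G → ℂ)).factorization 2 = (Nat.card G).factorization 2}
  change Nat.card I ≤ Nat.card J
  have := Fintype.ofFinite I
  have := Fintype.ofFinite J
  choose x hxC hx3 hxN using fun C : I => C.2
  have hx1 : ∀ C, x C * x C * x C = 1 := fun C => by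
    rw [← pow_three', ← hx3 C, pow_orderOf_eq_one]
  have hodd : ∀ C, ¬ 2 ∣ Nat.card (Subgroup.centralizer ({x C} : Set G)) := by
    intro C hd
    obtain ⟨z, hz⟩ := exists_prime_orderOf_dvd_card' 2 hd
    have hz' : orderOf (z : G) = 2 := by rw [Subgroup.orderOf_coe, hz]
    have hzc : (z : G) * x C = x C * z := Subgroup.mem_centralizer_singleton_iff.1 z.2
    have h := hxN C (Subgroup.zpowers (z : G)) (IsPGroup.of_card (n := 1)
      (by rw [Nat.card_zpowers, hz', pow_one])) (by
      refine Subgroup.centralizer_le_normalizer _ (Subgroup.mem_centralizer_iff.2 ?_)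
      rintro w ⟨n, rfl⟩
      exact ((show Commute (z : G) (x C) from hzc).zpow_left n).eq)
    rw [Subgroup.zpowers_eq_bot] at h
    rw [h, orderOf_one] at hz'
    omega
  -- the key count
  have hkey : ∀ C D : I, ∀ t : G, (x C * (t * (x D)⁻¹ * t⁻¹)) * (x C * (t * (x D)⁻¹ * t⁻¹)) = 1 ↔
      C = D ∧ t ∈ Subgroup.centralizer ({x C} : Set G) := by
    intro C D t
    constructor
    swap
    · rintro ⟨rfl, ht⟩
      have h := Subgroup.mem_centralizer_singleton_iff.1 ht
      rw [show t * (x C)⁻¹ * t⁻¹ = (x C)⁻¹ by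
        rw [← conj_inv, h]; group]
      group
    intro hu
    set b := t * x D * t⁻¹ with hb
    set u := x C * (t * (x D)⁻¹ * t⁻¹) with hu'
    have hub : u * b = x C := by rw [hu', hb]; group
    have hb3 : b * b * b = 1 := by
      rw [show b * b * b = t * (x D * x D * x D) * t⁻¹ by rw [hb]; group, hx1]; group
    have hu1 : u = 1 := by
      by_contra hne
      set u₁ := b * u * b⁻¹ with hu₁
      set u₂ := b * b * u * (b * b)⁻¹ with hu₂
      have h123 : u * u₁ * u₂ = 1 := by
        calc u * u₁ * u₂ = (u * b) * (u * b) * (u * b) * (b * b * b)⁻¹ := by rw [hu₁, hu₂]; group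
          _ = 1 := by rw [hub, hx1, hb3, inv_one, one_mul]
      have h11 : u₁ * u₁ = 1 := by
        rw [show u₁ * u₁ = b * (u * u) * b⁻¹ by rw [hu₁]; group, hu]; group
      have h22 : u₂ * u₂ = 1 := by
        rw [show u₂ * u₂ = b * b * (u * u) * (b * b)⁻¹ by rw [hu₂]; group, hu]; group
      have h12 : u * u₁ = u₂ := by
        rw [mul_eq_one_iff_eq_inv] at h123
        rw [h123]; exact inv_eq_of_mul_eq_one_right h22
      have hcomm : u₁ * u = u * u₁ := by
        have e := h22
        rw [← h12] at e
        have e2 := eq_inv_of_mul_eq_one_right e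
        rw [mul_inv_rev, inv_eq_of_mul_eq_one_right hu, inv_eq_of_mul_eq_one_right h11] at e2
        exact e2.symm
      let Q : Subgroup G :=
        { carrier := {1, u, u₁, u₂}
          one_mem' := Or.inl rfl
          mul_mem' := by
            have ha : u * u₂ = u₁ := by rw [← h12, ← mul_assoc, hu, one_mul]
            have hb' : u₂ * u = u₁ := by rw [← h12, mul_assoc, hcomm, ← mul_assoc, hu, one_mul]
            have hc : u₁ * u₂ = u := by rw [← h12, ← hcomm, ← mul_assoc, h11, one_mul]
            have hd : u₂ * u₁ = u := by rw [← h12, mul_assoc, h11, mul_one]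
            rintro a c (rfl | rfl | rfl | rfl) (rfl | rfl | rfl | rfl) <;>
              simp [hu, h11, h22, h12, hcomm, ha, hb', hc, hd]
          inv_mem' := by
            rintro a (rfl | rfl | rfl | rfl) <;>
              simp [inv_eq_of_mul_eq_one_right hu, inv_eq_of_mul_eq_one_right h11,
                inv_eq_of_mul_eq_one_right h22] }
      have hQ : IsPGroup 2 Q := by
        refine IsPGroup.iff_orderOf.2 fun a => ?_
        have ha : (a : G) * a = 1 := by
          obtain ⟨a, ha | ha | ha | ha⟩ := a <;> subst ha <;> simp [hu, h11, h22]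
        obtain ⟨i, -, hi⟩ := (Nat.dvd_prime_pow Nat.prime_two).1
          (orderOf_dvd_of_pow_eq_one (x := a) (n := 2 ^ 1) (by rw [pow_one, pow_two]; exact Subtype.ext ha))
        exact ⟨i, hi⟩
      have hconjle : Q.map (MulAut.conj b).toMonoidHom = Q := by
        refine Subgroup.eq_of_le_of_card_ge ?_
          (Subgroup.card_map_of_injective (MulAut.conj b).injective).ge
        rintro _ ⟨a, ha, rfl⟩
        simp only [MulEquiv.coe_toMonoidHom, MulAut.conj_apply]
        rcases ha with rfl | rfl | rfl | rfl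
        · left; group
        · right; right; left; rw [hu₁]
        · right; right; right
          change b * u₁ * b⁻¹ = u₂
          rw [hu₁, hu₂]; group
        · right; left
          change b * u₂ * b⁻¹ = u
          rw [hu₂, show b * (b * b * u * (b * b)⁻¹) * b⁻¹ = (b * b * b) * u * (b * b * b)⁻¹ by group,
            hb3]
          group
      have hbQ : b ∈ Subgroup.normalizer (Q : Set G) := by
        refine Subgroup.mem_normalizer_iff.2 fun a => ?_
        conv_rhs => rw [← hconjle]
        exact (Subgroup.mem_map_iff_mem (MulAut.conj b).injective (K := Q)).symm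
      have hQ' : Q.map (MulAut.conj t⁻¹).toMonoidHom = ⊥ := by
        refine hxN D _ (hQ.map _) ?_
        have := Subgroup.mem_map_of_mem (MulAut.conj t⁻¹).toMonoidHom hbQ
        rw [Subgroup.map_normalizer_eq_of_bijective _ (MulAut.conj t⁻¹).bijective] at this
        convert this using 1
        simp [hb, mul_assoc]
      apply hne
      have : MulAut.conj t⁻¹ u ∈ Q.map (MulAut.conj t⁻¹).toMonoidHom :=
        Subgroup.mem_map_of_mem _ (Or.inr (Or.inl rfl) : u ∈ Q)
      rw [hQ', Subgroup.mem_bot] at this
      exact (MulEquiv.map_eq_one_iff _).1 this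
    rw [hu1, one_mul] at hub
    have hCD : C = D := Subtype.ext (by
      rw [← ConjClasses.mem_carrier_iff_mk_eq.1 (hxC C), ← ConjClasses.mem_carrier_iff_mk_eq.1 (hxC D)]
      exact (ConjClasses.mk_eq_mk_iff_isConj.2 (isConj_iff.2 ⟨t, hub⟩)).symm)
    subst hCD
    exact ⟨rfl, Subgroup.mem_centralizer_singleton_iff.2 (mul_inv_eq_iff_eq_mul.1 hub)⟩
  -- the character formula for the count
  have hform : ∀ C D : I, (if C = D then (Nat.card (Subgroup.centralizer ({x C} : Set G)) : ℂ) else 0) =
      ∑ χ : Cfsg.IrrCharacter G, CfsgLib.BlockB.invSum (χ : G → ℂ) * (χ : G → ℂ) (x C) *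
        (χ : G → ℂ) (x D)⁻¹ := by
    intro C D
    let θ : G → ℂ := fun g => if g * g = 1 then 1 else 0
    have hθ : Cfsg.IsClassFunction G θ := by
      intro g h
      have e : h * g * h⁻¹ * (h * g * h⁻¹) = h * (g * g) * h⁻¹ := by group
      simp only [θ, e, conj_eq_one_iff]
    have h1 := CfsgLib.BlockB.sum_classFun_mul_conj hθ (x C) (x D)⁻¹
    have hl : ∑ t : G, θ (x C * (t * (x D)⁻¹ * t⁻¹)) =
        if C = D then (Nat.card (Subgroup.centralizer ({x C} : Set G)) : ℂ) else 0 := by
      simp only [θ, hkey]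
      split_ifs with h
      · simp only [h, true_and]
        rw [← Finset.sum_filter, Finset.sum_const, nsmul_eq_mul, mul_one, Nat.card_eq_fintype_card,
          Fintype.card_subtype]
      · simp [h]
    rw [← hl, h1, Finset.mul_sum]
    refine Finset.sum_congr rfl fun χ _ => ?_
    have hc : Cfsg.classInner θ (χ : G → ℂ) =
        (Nat.card G : ℂ)⁻¹ * (CfsgLib.BlockB.invSum (χ : G → ℂ) * (χ : G → ℂ) 1) := by
      rw [CfsgLib.Char.classInner_def, CfsgLib.BlockB.invSum,
        div_mul_cancel₀ _ (CfsgLib.Char.irr_apply_one_ne_zero χ.2), Finset.sum_filter]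
      congr 1
      refine Finset.sum_congr rfl fun g _ => ?_
      simp only [θ]
      split_ifs with hg
      · rw [one_mul, ← CfsgLib.Char.char_inv (CfsgLib.Char.irr_isCharacter χ.2),
          inv_eq_of_mul_eq_one_right hg]
      · rw [zero_mul]
    rw [hc]
    have := CfsgLib.Char.irr_apply_one_ne_zero χ.2
    field_simp
  have hmem : ∀ χ : Cfsg.IrrCharacter G, ∀ g : G, Cfsg.MemLocalRing M ((χ : G → ℂ) g) := fun χ g =>
    CfsgLib.Block.memLocalRing_of_isIntegral (CfsgLib.BlockB.irr_isIntegral χ g)
  have hS : ∀ χ : Cfsg.IrrCharacter G, Cfsg.MemLocalRing M (CfsgLib.BlockB.invSum (χ : G → ℂ)) :=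
    fun χ => CfsgLib.Block.memLocalRing_of_isIntegral (CfsgLib.BlockB.invSum_isIntegral χ)
  let red := CfsgLib.Block.redC M
  let A : Matrix I J (CfsgLib.Block.kres M) := fun C χ =>
    red (CfsgLib.BlockB.invSum (χ.1 : G → ℂ) * (χ.1 : G → ℂ) (x C))
  let B : Matrix J I (CfsgLib.Block.kres M) := fun χ D => red ((χ.1 : G → ℂ) (x D)⁻¹)
  have hAB : A * B = 1 := by
    ext C D
    rw [Matrix.mul_apply, Matrix.one_apply]
    let f : Cfsg.IrrCharacter G → CfsgLib.Block.lring M := fun χ =>
      ⟨_, CfsgLib.Block.memLocalRing_mul (CfsgLib.Block.memLocalRing_mul (hS χ) (hmem χ (x C)))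
        (hmem χ (x D)⁻¹)⟩
    have h1 : ∀ χ : J, A C χ * B χ D = CfsgLib.Block.red M (f χ.1) := by
      intro χ
      simp only [A, B, red]
      rw [← CfsgLib.Block.redC_mul (CfsgLib.Block.memLocalRing_mul (hS _) (hmem _ _)) (hmem _ _),
        CfsgLib.Block.redC_eq]
    simp only [h1]
    rw [← map_sum]
    have h2 : CfsgLib.Block.red M (∑ χ : J, f χ.1) = CfsgLib.Block.red M (∑ χ, f χ) := by
      rw [map_sum, map_sum]
      refine Eq.trans ?_ (Finset.sum_subset (Finset.subset_univ (Finset.univ.filter
        fun χ : Cfsg.IrrCharacter G =>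
          (Cfsg.charDegree (χ : G → ℂ)).factorization 2 = (Nat.card G).factorization 2)) ?_)
      · exact (Finset.sum_subtype _ (by simp) (fun χ => CfsgLib.Block.red M (f χ))).symm
      · intro χ _ hχ
        rw [CfsgLib.Block.red_eq_zero]
        exact CfsgLib.Block.memLocalIdeal_mul_right (hmem χ _)
          (CfsgLib.Block.memLocalIdeal_mul_right (hmem χ _)
            (CfsgLib.BlockB.memLocalIdeal_invSum hM χ (by simpa using hχ)))
    rw [h2]
    split_ifs with hCD
    · rw [← map_one (CfsgLib.Block.red M), CfsgLib.Block.red_eq_red, AddSubmonoidClass.coe_finset_sum]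
      simp only [f]
      rw [← hform C D, if_pos hCD]
      obtain ⟨k, hk⟩ := Nat.odd_iff.2 (Nat.two_dvd_ne_zero.1 (hodd C))
      rw [hk]
      push_cast
      rw [add_sub_cancel_right]
      simpa using (CfsgLib.Block.memLocalIdeal_natCast_iff hM (2 * k)).2 (dvd_mul_right 2 k)
    · rw [CfsgLib.Block.red_eq_zero, AddSubmonoidClass.coe_finset_sum]
      simp only [f]
      rw [← hform C D, if_neg hCD]
      exact CfsgLib.Block.memLocalIdeal_zero
  rw [Nat.card_eq_fintype_card, Nat.card_eq_fintype_card]
  calc Fintype.card I = (A * B).rank := by rw [hAB, Matrix.rank_one]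
    _ ≤ A.rank := Matrix.rank_mul_le_left A B
    _ ≤ Fintype.card J := A.rank_le_card_width

end Cfsg.Agent.S4737
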