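import Cfsg.Statements.S4738
import Cfsg.Agent.Lib.BlockB.DefectCount
-- import your own Cfsg.Agent.* helpers here

set_option autoImplicit false
open Cfsg

namespace Cfsg.Agent.S4738

/-- Let p be an odd prime and G a finite group of even order containing no element of order 2p. Then either G has an irreducible character of p-defect zero (its degree has the same p-part as the order of G), or every Sylow p-subgroup of G is abelian and all involutions of G are conjugate. -/
theorem result {G : Type*} [Group G] [Finite G] (p : ℕ) [Fact p.Prime] (hp2 : p ≠ 2) (hG : Even (Nat.card G)) (h2p : ∀ g : G, orderOf g ≠ 2 * p) : (∃ χ : Cfsg.IrrCharacter G, (Cfsg.charDegree (χ : G → ℂ)).factorization p = (Nat.card G).factorization p) ∨ ((∀ P : Sylow p G, IsMulCommutative ↥(P : Subgroup G)) ∧ ∀ s t : G, orderOf s = 2 → orderOf t = 2 → IsConj s t) := by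
  refine Classical.or_iff_not_imp_left.2 fun hno => ?_
  push Not at hno
  have hsI : ∀ s : G, orderOf s = 2 → s * s = 1 := fun s hs => by
    rw [← pow_two, ← hs, pow_orderOf_eq_one]
  refine ⟨fun P => ?_, fun s t hs ht => ?_⟩
  · obtain ⟨s, hs⟩ := exists_prime_orderOf_dvd_card' 2 (even_iff_two_dvd.1 hG)
    obtain ⟨Q, hQ, -⟩ := CfsgLib.BlockB.exists_sylow_inverted hp2 hno h2p hs
    have := CfsgLib.BlockB.isMulCommutative_of_inverted (hsI s hs) hQ
    refine ⟨⟨fun a b => (Sylow.equiv P Q).injective ?_⟩⟩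
    rw [map_mul, map_mul]
    exact this.1.1 _ _
  · obtain ⟨P, hP, hP1⟩ := CfsgLib.BlockB.exists_sylow_inverted hp2 hno h2p hs
    obtain ⟨Q, hQ, -⟩ := CfsgLib.BlockB.exists_sylow_inverted hp2 hno h2p ht
    obtain ⟨g, hg⟩ := MulAction.exists_smul_eq G Q P
    set t' := g * t * g⁻¹ with ht'
    have htinv : t'⁻¹ = t' := by
      rw [ht']
      simp only [mul_inv_rev, inv_inv, inv_eq_of_mul_eq_one_right (hsI t ht), mul_assoc]
    have hsinv : s⁻¹ = s := inv_eq_of_mul_eq_one_right (hsI s hs)
    have ht2 : t' * t' = 1 := by rw [mul_eq_one_iff_eq_inv, htinv]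
    have htP : ∀ x ∈ (P : Subgroup G), t' * x * t' = x⁻¹ := by
      intro x hx
      rw [← hg, Sylow.coe_subgroup_smul, Subgroup.mem_pointwise_smul_iff_inv_smul_mem] at hx
      have := congrArg (fun w => g * w * g⁻¹) (hQ _ hx)
      simp only [MulAut.smul_def, MulAut.conj_inv_apply] at this
      rw [ht']
      convert this using 1 <;> group
    obtain ⟨c, hc⟩ : ∃ c, c = t' * s := ⟨_, rfl⟩
    have hcC : c ∈ Subgroup.centralizer ((P : Subgroup G) : Set G) := by
      rw [Subgroup.mem_centralizer_iff]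
      intro x hx
      have h1 : c * x * c⁻¹ = x := by
        calc c * x * c⁻¹ = t' * (s * x * s) * t' := by
              simp only [hc, mul_inv_rev, hsinv, htinv, mul_assoc]
          _ = x := by rw [hP x hx, htP _ (inv_mem hx), inv_inv]
      exact (mul_inv_eq_iff_eq_mul.1 h1).symm
    have hodd : Odd (orderOf c) := by
      rw [← Nat.not_even_iff_odd]
      intro he
      obtain ⟨j, hj⟩ := exists_prime_orderOf_dvd_card' (G := Subgroup.zpowers c) 2
        (by rw [Nat.card_zpowers]; exact even_iff_two_dvd.1 he)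
      obtain ⟨n, hn⟩ := P.2.card_eq_or_dvd.elim
        (fun e => absurd (Subgroup.card_eq_one.1 e) hP1) (fun e => exists_prime_orderOf_dvd_card' p e)
      have hjC : (j : G) ∈ Subgroup.centralizer ((P : Subgroup G) : Set G) :=
        (Subgroup.zpowers_le.2 hcC) j.2
      have hcm : Commute (j : G) (n : G) := (Subgroup.mem_centralizer_iff.1 hjC n n.2).symm
      refine h2p ((j : G) * n) ?_
      have cop : Nat.Coprime (orderOf (j : G)) (orderOf (n : G)) := by
        rw [Subgroup.orderOf_coe, Subgroup.orderOf_coe, hj, hn]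
        exact (Nat.coprime_primes Nat.prime_two Fact.out).2 (Ne.symm hp2)
      rw [hcm.orderOf_mul_eq_mul_orderOf_of_coprime cop, Subgroup.orderOf_coe, Subgroup.orderOf_coe,
        hj, hn]
    obtain ⟨k, hk⟩ := hodd
    have hscs : s * c * s = c⁻¹ := by
      rw [hc, mul_inv_rev, hsinv, htinv, mul_assoc, mul_assoc, hsI s hs, mul_one]
    have h1 : IsConj t t' := isConj_iff.2 ⟨g, rfl⟩
    refine IsConj.trans ?_ h1.symm
    refine isConj_iff.2 ⟨c ^ (k + 1), ?_⟩
    have hsck : s * (c ^ (k + 1))⁻¹ = c ^ (k + 1) * s := by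
      have h3 := congrArg (fun w => w ^ (k + 1)) hscs
      simp only [inv_pow, show s * c * s = s * c * s⁻¹ by rw [hsinv], conj_pow, hsinv] at h3
      rw [← h3]
      simp only [← mul_assoc, hsI s hs, one_mul]
    rw [mul_assoc, hsck, ← mul_assoc, ← pow_add,
      show k + 1 + (k + 1) = (2 * k + 1) + 1 by ring, ← hk, pow_succ, pow_orderOf_eq_one, one_mul,
      hc, mul_assoc, hsI s hs, mul_one]

end Cfsg.Agent.S4738
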