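import Cfsg.Statements.S4740
import Cfsg.Agent.Lib.BlockB.ClassMul
-- import your own Cfsg.Agent.* helpers here

set_option autoImplicit false
open Cfsg

namespace Cfsg.Agent.S4740

/-- Let p be an odd prime, G a finite group of even order, x an involution of G and P a subgroup of G of order p ^ c such that no conjugate of x inverts a non-identity element of P. If p ^ a is the p-part of the order of C_G(x), then some irreducible character of G has degree divisible by p ^ (c - a). -/
theorem result {G : Type*} [Group G] [Finite G] (p : ℕ) [Fact p.Prime] (hp2 : p ≠ 2) (hG : Even (Nat.card G)) (x : G) (hx : orderOf x = 2) (P : Subgroup G) (c : ℕ) (hP : Nat.card ↥P = p ^ c) (hinv : ∀ g : G, IsConj x g → ∀ z ∈ P, z ≠ 1 → g * z * g⁻¹ ≠ z⁻¹) (a : ℕ) (ha : (Nat.card ↥(Subgroup.centralizer ({x} : Set G))).factorization p = a) : ∃ χ : Cfsg.IrrCharacter G, p ^ (c - a) ∣ Cfsg.charDegree (χ : G → ℂ) := by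
  classical
  have := Fintype.ofFinite G
  have := Fintype.ofFinite (Cfsg.IrrCharacter G)
  have hp : p.Prime := Fact.out
  have hp0 : (p : ℂ) ≠ 0 := by exact_mod_cast hp.ne_zero
  by_contra hne
  push Not at hne
  have hca : a < c := by
    by_contra hh
    exact hne ⟨fun _ => 1, CfsgLib.Char.isIrrCharacter_one⟩
      (by rw [Nat.sub_eq_zero_of_le (not_lt.1 hh), pow_zero]; exact one_dvd _)
  have hx2 : x * x = 1 := by rw [← pow_two, ← hx, pow_orderOf_eq_one]
  have hxi : x⁻¹ = x := inv_eq_of_mul_eq_one_right hx2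
  have h1 := CfsgLib.BlockB.sum_conjMemCount P x x
  choose k hk using fun χ : Cfsg.IrrCharacter G => CfsgLib.BlockB.sum_conj_subgroup_eq P χ
  simp only [hk] at h1
  have h2 : ∑ t : G, (CfsgLib.BlockB.conjMemCount P (x * (t * x * t⁻¹)) : ℂ) =
      (Nat.card G : ℂ) * (Nat.card (Subgroup.centralizer ({x} : Set G)) : ℂ) := by
    have e : ∀ t : G, CfsgLib.BlockB.conjMemCount P (x * (t * x * t⁻¹)) =
        if t ∈ Subgroup.centralizer ({x} : Set G) then Nat.card G else 0 := by
      intro t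
      by_cases ht : t ∈ Subgroup.centralizer ({x} : Set G)
      · rw [if_pos ht]
        have h : t * x * t⁻¹ = x := by
          rw [Subgroup.mem_centralizer_singleton_iff.1 ht, mul_inv_cancel_right]
        rw [h, hx2]
        simp [CfsgLib.BlockB.conjMemCount, Nat.card_eq_fintype_card]
      · rw [if_neg ht, CfsgLib.BlockB.conjMemCount, Finset.card_eq_zero, Finset.filter_eq_empty_iff]
        intro s _ hs
        apply ht
        have hti : (t * x * t⁻¹)⁻¹ = t * x * t⁻¹ := by simp [hxi, mul_assoc]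
        have h3 : ∀ w : G, x * (x * w) = w := fun w => by rw [← mul_assoc, hx2, one_mul]
        have hinvx : (s⁻¹ * x * s) * (s⁻¹ * (x * (t * x * t⁻¹)) * s) * (s⁻¹ * x * s)⁻¹ =
            (s⁻¹ * (x * (t * x * t⁻¹)) * s)⁻¹ := by
          simp only [mul_inv_rev, inv_inv, hti, hxi, mul_assoc, mul_inv_cancel_left, h3]
        have hu : s⁻¹ * (x * (t * x * t⁻¹)) * s = 1 := by
          by_contra hu
          exact hinv _ (isConj_iff.2 ⟨s⁻¹, by rw [inv_inv]⟩) _ hs hu hinvx
        rw [mul_eq_one_iff_eq_inv, mul_eq_left, mul_eq_one_iff_inv_eq, hxi] at hu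
        exact Subgroup.mem_centralizer_singleton_iff.2 (mul_inv_eq_iff_eq_mul.1 hu.symm)
    rw [Nat.card_eq_fintype_card (α := Subgroup.centralizer ({x} : Set G)), Fintype.card_subtype,
      ← Nat.cast_sum, Finset.sum_congr rfl fun t _ => e t, ← Finset.sum_filter, Finset.sum_const,
      smul_eq_mul]
    push_cast
    ring
  rw [h2] at h1
  have h3 := mul_left_cancel₀ CfsgLib.Char.natCard_ne_zero h1
  rw [hP, Nat.cast_pow] at h3
  set C := Nat.card (Subgroup.centralizer ({x} : Set G)) with hC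
  set m := Nat.card G / p ^ (Nat.card G).factorization p with hm
  have hm' : p ^ (Nat.card G).factorization p * m = Nat.card G :=
    Nat.ordProj_mul_ordCompl_eq_self _ _
  have hG0 : Nat.card G ≠ 0 := Nat.card_pos.ne'
  have hpm : ¬ p ∣ m := Nat.not_dvd_ordCompl hp hG0
  obtain ⟨d, hd⟩ : ∃ d, c = a + 1 + d := ⟨c - a - 1, by omega⟩
  have hdvd : ∀ χ : Cfsg.IrrCharacter G, Cfsg.charDegree (χ : G → ℂ) ∣ p ^ d * m := by
    intro χ
    have hn := hne χ
    rw [hd, show a + 1 + d - a = d + 1 by omega] at hn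
    have h0 := CfsgLib.BlockB.irr_degree_ne_zero χ
    obtain ⟨i, u, hu, he⟩ := Nat.exists_eq_pow_mul_and_not_dvd h0 p hp.ne_one
    have hi : i ≤ d := by
      by_contra hh
      exact hn (he ▸ (pow_dvd_pow p (by omega : d + 1 ≤ i)).trans (dvd_mul_right _ _))
    have hum : u ∣ m := by
      have : u ∣ Nat.card G := (he ▸ dvd_mul_left u _).trans (CfsgLib.BlockB.irr_degree_dvd_card χ)
      rw [← hm'] at this
      exact (Nat.Coprime.pow_right _ ((hp.coprime_iff_not_dvd).2 hu).symm).dvd_of_dvd_mul_left this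
    rw [he]
    exact Nat.mul_dvd_mul (pow_dvd_pow p hi) hum
  have h4 : p ^ (a + 1) ∣ C * m := by
    refine CfsgLib.Char.dvd_of_isIntegral_div (pow_pos hp.pos _) ?_
    have e : ((C * m : ℕ) : ℂ) / ((p ^ (a + 1) : ℕ) : ℂ) = ∑ χ : Cfsg.IrrCharacter G,
        (((p ^ d * m : ℕ) : ℂ) / (χ : G → ℂ) 1) * k χ * (χ : G → ℂ) x * (χ : G → ℂ) x := by
      push_cast
      rw [h3, Finset.sum_mul, Finset.sum_div]
      refine Finset.sum_congr rfl fun χ _ => ?_
      rw [hd, pow_add]
      field_simp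
    rw [e]
    refine IsIntegral.sum _ fun χ _ => ?_
    obtain ⟨j, hj⟩ := hdvd χ
    rw [← CfsgLib.BlockB.irr_degree_cast χ, hj, Nat.cast_mul,
      mul_div_cancel_left₀ _ (by exact_mod_cast CfsgLib.BlockB.irr_degree_ne_zero χ), ← Nat.cast_mul]
    have h7 : IsIntegral ℤ ((j * k χ : ℕ) : ℂ) := by
      simpa using isIntegral_algebraMap (R := ℤ) (A := ℂ) (x := ((j * k χ : ℕ) : ℤ))
    exact (h7.mul (CfsgLib.BlockB.irr_isIntegral χ x)).mul (CfsgLib.BlockB.irr_isIntegral χ x)
  have h5 : p ^ (a + 1) ∣ C :=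
    (Nat.Coprime.pow_left _ ((hp.coprime_iff_not_dvd).2 hpm)).dvd_of_dvd_mul_right h4
  have h6 := (hp.pow_dvd_iff_le_factorization (hC ▸ Nat.card_pos.ne')).1 h5
  omega

end Cfsg.Agent.S4740
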