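import Cfsg.Statements.S4741
import Cfsg.Agent.Lib.BlockB.PEltInd
import Cfsg.Agent.Lib.BlockB.ClassMul
import Cfsg.Agent.Lib.Block.DefectOrder

set_option autoImplicit false
open Cfsg

namespace Cfsg.Agent.S4741

open CfsgLib CfsgLib.Block

/-- The class identity restricted to the `p`-elements. -/
theorem class_identity {G : Type*} [Group G] [Fintype G] [Fintype (Cfsg.IrrCharacter G)] (p : ℕ)
    {r : ℕ} (x : Fin r → G) (hx : ∀ i j : Fin r, IsConj (x i) (x j) → i = j)
    (hsep : ∀ i j : Fin r, ∀ g h : G, IsConj (x i) g → IsConj (x j) h →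
      ∀ k : ℕ, 0 < k → orderOf (g * h⁻¹) ≠ p ^ k) (i j : Fin r) :
    ∑ χ : Cfsg.IrrCharacter G, Cfsg.classInner (BlockB.pEltInd p) (χ : G → ℂ) *
      (χ : G → ℂ) (x i)⁻¹ * Cfsg.centralChar (χ : G → ℂ) (x j) =
        if i = j then 1 else 0 := by
  classical
  have h := BlockB.sum_classFun_mul_conj (BlockB.pEltInd_isClassFunction (G := G) p) (x i)⁻¹ (x j)
  have hone : ∀ t : G, BlockB.IsPElt p ((x i)⁻¹ * (t * x j * t⁻¹)) ↔ t * x j * t⁻¹ = x i := by
    intro t
    refine ⟨fun ⟨k, hk⟩ => ?_, fun e => ⟨0, by rw [e, inv_mul_cancel, orderOf_one, pow_zero]⟩⟩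
    rcases Nat.eq_zero_or_pos k with rfl | h0
    · rw [pow_zero, orderOf_eq_one_iff, inv_mul_eq_one] at hk
      exact hk.symm
    · refine absurd ?_ (hsep j i (t * x j * t⁻¹) (x i) (isConj_iff.2 ⟨t, rfl⟩) (IsConj.refl _) k h0)
      rw [← hk, show t * x j * t⁻¹ * (x i)⁻¹ = x i * ((x i)⁻¹ * (t * x j * t⁻¹)) * (x i)⁻¹ by group]
      exact MulEquiv.orderOf_eq (MulAut.conj (x i)) _
  have hlhs : ∑ t : G, BlockB.pEltInd p ((x i)⁻¹ * (t * x j * t⁻¹)) =
      if i = j then (Nat.card (Subgroup.centralizer ({x j} : Set G)) : ℂ) else 0 := by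
    have h1 : ∀ t : G, BlockB.pEltInd p ((x i)⁻¹ * (t * x j * t⁻¹)) =
        if t * x j * t⁻¹ = x i then (1 : ℂ) else 0 := fun t => by
      simp only [BlockB.pEltInd, hone t]
    rw [Finset.sum_congr rfl (fun t _ => h1 t), Finset.sum_boole]
    split_ifs with hij
    · subst hij
      rw [Nat.card_eq_fintype_card]
      congr 1
      symm
      refine Fintype.card_of_subtype _ fun t => ?_
      rw [Finset.mem_filter, Subgroup.mem_centralizer_singleton_iff, mul_inv_eq_iff_eq_mul]
      simp [eq_comm]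
    · have he : (Finset.univ.filter fun t : G => t * x j * t⁻¹ = x i) = ∅ := by
        refine Finset.filter_eq_empty_iff.2 fun t _ e => hij (hx j i (isConj_iff.2 ⟨t, e⟩)).symm
      rw [he]; simp
  rw [hlhs] at h
  have hC0 : (Nat.card (Subgroup.centralizer ({x j} : Set G)) : ℂ) ≠ 0 := by
    exact_mod_cast Nat.card_pos.ne'
  refine mul_left_cancel₀ hC0 ?_
  rw [mul_ite, mul_one, mul_zero, h, Finset.mul_sum, Finset.mul_sum]
  refine Finset.sum_congr rfl fun χ _ => ?_
  rw [Cfsg.centralChar, ← Subgroup.index_mul_card (Subgroup.centralizer ({x j} : Set G)),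
    Nat.cast_mul]
  ring

/-- Let p be a prime, M a maximal ideal of the algebraic integers containing p, and D a subgroup of the finite group G. Let x₁, …, x_r be pairwise non-conjugate elements of G such that D is a Sylow p-subgroup of the centralizer of each xᵢ, and such that for any conjugates g of some xᵢ and h of some xⱼ the element g h⁻¹ is never a non-identity p-element. Then there are r distinct p-blocks B₁, …, B_r of G, each having D as a defect group, such that for every choice of characters χᵢ ∈ Bᵢ of height zero the determinant of the r × r matrix (χᵢ(xⱼ)) does not lie in the local ideal at M. -/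
theorem result {G : Type*} [Group G] [Finite G] (p : ℕ) [Fact p.Prime] (M : Ideal Cfsg.AlgInt) (hM : Cfsg.IsPModular p M) (D : Subgroup G) {r : ℕ} (x : Fin r → G) (hx : ∀ i j : Fin r, IsConj (x i) (x j) → i = j) (hD : ∀ i : Fin r, ∃ S : Sylow p ↥(Subgroup.centralizer ({x i} : Set G)), (S : Subgroup ↥(Subgroup.centralizer ({x i} : Set G))).map (Subgroup.centralizer ({x i} : Set G)).subtype = D) (hsep : ∀ i j : Fin r, ∀ g h : G, IsConj (x i) g → IsConj (x j) h → ∀ k : ℕ, 0 < k → orderOf (g * h⁻¹) ≠ p ^ k) : ∃ B : Fin r → Set (Cfsg.IrrCharacter G), Function.Injective B ∧ (∀ i : Fin r, Cfsg.IsPBlock M (B i) ∧ Cfsg.IsDefectGroup p M (B i) D) ∧ ∀ χ : Fin r → Cfsg.IrrCharacter G, (∀ i : Fin r, χ i ∈ B i ∧ Cfsg.blockHeight p (B i) (χ i : G → ℂ) = 0) → ¬ Cfsg.MemLocalIdeal M (Matrix.det (Matrix.of fun i j : Fin r => (χ i : G → ℂ) (x j))) := by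
  classical
  have := isPrime_of_pmodular hM
  have := Fintype.ofFinite G
  have := Fintype.ofFinite (Cfsg.IrrCharacter G)
  have hp : p.Prime := hM.1
  have := Fact.mk hp
  set a := (Nat.card G).factorization p with ha
  set d := (Nat.card D).factorization p with hd
  have hdj : ∀ j, (Nat.card (Subgroup.centralizer ({x j} : Set G))).factorization p = d := by
    intro j
    obtain ⟨S, hS⟩ := hD j
    rw [hd, ← hS]
    show _ = (Nat.card (cenSub (x j) (S : Subgroup (Subgroup.centralizer ({x j} : Set G))))).factorization p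
    rw [natCard_cenSub, hp.factorization_pow, Finsupp.single_eq_same]
  have hidx : ∀ j, (Subgroup.centralizer ({x j} : Set G)).index.factorization p + d = a := fun j => by
    rw [← hdj j]; exact factorization_index_add (x j)
  -- coefficients
  obtain ⟨N, hN, hgen⟩ := BlockB.exists_isGeneralized_pEltInd (G := G) hp
  have hN0 : (N : ℂ) ≠ 0 := by
    exact_mod_cast fun h : N = 0 => hN (h ▸ dvd_zero p)
  have hc : ∀ χ : Cfsg.IrrCharacter G,
      Cfsg.MemLocalRing M (Cfsg.classInner (BlockB.pEltInd p) (χ : G → ℂ)) := by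
    intro χ
    obtain ⟨z, hz⟩ := Char.classInner_isGeneralized_int hgen
      (Char.isGeneralized_of_isCharacter (Char.irr_isCharacter χ.2))
    have e : Cfsg.classInner (BlockB.pEltInd p) (χ : G → ℂ) = (N : ℂ)⁻¹ * (z : ℂ) := by
      rw [← hz, show (fun g : G => (N : ℂ) * BlockB.pEltInd p g) = (N : ℂ) • BlockB.pEltInd p from rfl,
        Char.classInner_smul_left, inv_mul_cancel_left₀ hN0]
    rw [e]
    exact memLocalRing_mul (memLocalRing_inv_natCast hM hN) (memLocalRing_intCast z)
  let row : Cfsg.IrrCharacter G → (Fin r → kres M) := fun χ j => lam M χ (classSumZ (kres M) (x j))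
  set T : Finset (Cfsg.IrrCharacter G) :=
    Finset.univ.filter fun χ => d ≤ Cfsg.blockDefect p (Cfsg.blockOf M (χ : G → ℂ)) with hT
  -- small defect kills the coefficient
  have hsmall : ∀ χ : Cfsg.IrrCharacter G, χ ∉ T → ∀ i, Cfsg.MemLocalIdeal M ((χ : G → ℂ) (x i)⁻¹) := by
    intro χ hχ i
    have hlt : Cfsg.blockDefect p (Cfsg.blockOf M (χ : G → ℂ)) < d := not_le.1 fun h =>
      hχ (Finset.mem_filter.2 ⟨Finset.mem_univ _, h⟩)
    have hadd := sInf_degree_add_blockDefect hM (isPBlock_blockOf (M := M) χ)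
    have hle : sInf ((fun φ : Cfsg.IrrCharacter G => (Cfsg.charDegree (φ : G → ℂ)).factorization p) ''
        Cfsg.blockOf M (χ : G → ℂ)) ≤ (Cfsg.charDegree (χ : G → ℂ)).factorization p :=
      Nat.sInf_le ⟨χ, mem_blockOf_self χ, rfl⟩
    have h1 := factorization_index_inv (p := p) (x i)
    have h2 := hidx i
    set I := (Subgroup.centralizer ({(x i)⁻¹} : Set G)).index with hI
    have hI0 : I ≠ 0 := Subgroup.index_ne_zero_of_finite
    have e : (χ : G → ℂ) (x i)⁻¹ =
        Cfsg.centralChar (χ : G → ℂ) (x i)⁻¹ * ((Cfsg.charDegree (χ : G → ℂ) : ℂ) / (I : ℂ)) := by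
      rw [centralChar_eq_div, ← hI]
      have : (I : ℂ) ≠ 0 := by exact_mod_cast hI0
      have : (Cfsg.charDegree (χ : G → ℂ) : ℂ) ≠ 0 := by exact_mod_cast charDegree_ne_zero χ.2
      field_simp
    rw [e]
    exact memLocalIdeal_mul_left (memLocalRing_centralChar χ.2 _)
      (memLocalIdeal_natCast_div hM hI0 (Or.inr (by omega)))
  -- the rows of large defect span everything
  have hterm : ∀ (χ : Cfsg.IrrCharacter G) (i : Fin r),
      Cfsg.MemLocalRing M (Cfsg.classInner (BlockB.pEltInd p) (χ : G → ℂ) * (χ : G → ℂ) (x i)⁻¹) :=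
    fun χ i => memLocalRing_mul (hc χ) (memLocalRing_irr_apply χ _)
  have hid : ∀ i j, (∑ χ : Cfsg.IrrCharacter G,
      redC M (Cfsg.classInner (BlockB.pEltInd p) (χ : G → ℂ) * (χ : G → ℂ) (x i)⁻¹) * row χ j) =
      if i = j then 1 else 0 := by
    intro i j
    have h := congrArg (redC M) (class_identity p x hx hsep i j)
    have hsum : ∀ s : Finset (Cfsg.IrrCharacter G), redC M (∑ χ ∈ s,
        Cfsg.classInner (BlockB.pEltInd p) (χ : G → ℂ) * (χ : G → ℂ) (x i)⁻¹ *
          Cfsg.centralChar (χ : G → ℂ) (x j)) = ∑ χ ∈ s,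
        redC M (Cfsg.classInner (BlockB.pEltInd p) (χ : G → ℂ) * (χ : G → ℂ) (x i)⁻¹) * row χ j := by
      intro s
      induction s using Finset.induction_on with
      | empty => simpa using redC_zero
      | insert χ s hχ ih =>
        rw [Finset.sum_insert hχ, Finset.sum_insert hχ, redC_add
          (memLocalRing_mul (hterm χ i) (memLocalRing_centralChar χ.2 _))
          (memLocalRing_sum _ _ fun φ _ => memLocalRing_mul (hterm φ i) (memLocalRing_centralChar φ.2 _)),
          ih, redC_mul (hterm χ i) (memLocalRing_centralChar χ.2 _)]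
        simp only [row, lam_classSumZ]
    rw [hsum] at h
    rw [h]
    split_ifs
    · exact redC_one
    · exact redC_zero
  have hspan : Submodule.span (kres M) (row '' (T : Set (Cfsg.IrrCharacter G))) = ⊤ := by
    refine eq_top_iff.2 fun v _ => ?_
    have hv : v = ∑ i, v i • ∑ χ ∈ T,
        redC M (Cfsg.classInner (BlockB.pEltInd p) (χ : G → ℂ) * (χ : G → ℂ) (x i)⁻¹) • row χ := by
      funext j
      simp only [Finset.sum_apply, Pi.smul_apply, smul_eq_mul]
      rw [Finset.sum_eq_single j]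
      · have h := hid j j
        rw [if_pos rfl, ← Finset.sum_subset (Finset.subset_univ T) (fun χ _ hχ => by
          rw [(redC_eq_zero_iff (hterm χ j)).2 (memLocalIdeal_mul_left (hc χ) (hsmall χ hχ j)),
            zero_mul])] at h
        rw [h, mul_one]
      · intro i _ hij
        have h := hid i j
        rw [if_neg hij, ← Finset.sum_subset (Finset.subset_univ T) (fun χ _ hχ => by
          rw [(redC_eq_zero_iff (hterm χ i)).2 (memLocalIdeal_mul_left (hc χ) (hsmall χ hχ i)),
            zero_mul])] at h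
        rw [h, mul_zero]
      · simp
    rw [hv]
    exact Submodule.sum_mem _ fun i _ => Submodule.smul_mem _ _ (Submodule.sum_mem _ fun χ hχ =>
      Submodule.smul_mem _ _ (Submodule.subset_span ⟨χ, hχ, rfl⟩))
  obtain ⟨b, hbsub, hbspan, hbli⟩ :=
    exists_linearIndependent (kres M) (row '' (T : Set (Cfsg.IrrCharacter G)))
  rw [hspan] at hbspan
  have hbas := Module.Basis.mk hbli (by rw [Subtype.range_coe]; exact hbspan.ge)
  have : Finite b := ((T.finite_toSet.image row).subset hbsub).to_subtype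
  have : Fintype b := Fintype.ofFinite b
  have hcard : Fintype.card b = r := by
    rw [← Module.finrank_eq_card_basis hbas, Module.finrank_pi, Fintype.card_fin]
  let e : Fin r ≃ b := (Fintype.equivFinOfCardEq hcard).symm
  choose φ hφT hφ using fun i : Fin r => hbsub (e i).2
  have hrow : ∀ i, row (φ i) = ((e i : b) : Fin r → kres M) := hφ
  have hli : LinearIndependent (kres M) (fun i => row (φ i)) := by
    simp only [hrow]
    exact hbli.comp e e.injective
  have hblock : ∀ (χ ψ : Cfsg.IrrCharacter G), Cfsg.SameBlock M (χ : G → ℂ) (ψ : G → ℂ) →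
      row χ = row ψ := fun χ ψ h => funext fun j => by
    simp only [row]; rw [lam_eq_of_sameBlock h]
  refine ⟨fun i => Cfsg.blockOf M (φ i : G → ℂ), fun i j hij => ?_, fun i => ⟨isPBlock_blockOf _, ?_⟩, ?_⟩
  · apply hli.injective
    exact hblock _ _ (show Cfsg.SameBlock M (φ i : G → ℂ) (φ j : G → ℂ) from
      (show φ j ∈ Cfsg.blockOf M (φ i : G → ℂ) by
        rw [show Cfsg.blockOf M (φ i : G → ℂ) = Cfsg.blockOf M (φ j : G → ℂ) from hij]
        exact mem_blockOf_self _))
  · -- the defect group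
    obtain ⟨j, hj⟩ : ∃ j, lam M (φ i) (classSumZ (kres M) (x j)) ≠ 0 := by
      by_contra hcon
      push Not at hcon
      exact hli.ne_zero i (funext hcon)
    obtain ⟨g, hg⟩ := exists_isDefectClass hM (isPBlock_blockOf (M := M) (φ i))
    let P : Sylow p (Subgroup.centralizer ({g} : Set G)) := Classical.arbitrary _
    obtain ⟨S, hS⟩ := hD j
    obtain ⟨y, hy⟩ := exists_defect_le_conj hM (isPBlock_blockOf (M := M) (φ i)) hg P
      (mem_blockOf_self _) hj S
    have hDG : Cfsg.IsDefectGroup p M (Cfsg.blockOf M (φ i : G → ℂ))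
        (cenSub g (P : Subgroup (Subgroup.centralizer ({g} : Set G)))) := ⟨g, hg, P, rfl⟩
    have heq : cenSub g (P : Subgroup (Subgroup.centralizer ({g} : Set G))) =
        D.map (MulAut.conj y).toMonoidHom := by
      rw [show cenSub (x j) (S : Subgroup (Subgroup.centralizer ({x j} : Set G))) = D from hS] at hy
      refine Subgroup.eq_of_le_of_card_ge hy ?_
      rw [natCard_map_conj, natCard_defectGroup hM (isPBlock_blockOf _) hDG]
      have hDc : Nat.card D = p ^ d := by
        rw [← hS]
        show Nat.card (cenSub (x j) (S : Subgroup (Subgroup.centralizer ({x j} : Set G)))) = _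
        rw [natCard_cenSub, hdj j]
      rw [hDc]
      exact Nat.pow_le_pow_right hp.pos (Finset.mem_filter.1 (hφT i)).2
    have hfin := defectGroup_conj hM (isPBlock_blockOf (M := M) (φ i)) hDG y⁻¹
    rw [heq, map_conj_map_conj, inv_mul_cancel, map_conj_one] at hfin
    exact hfin
  · intro ψ hψ
    have hψrow : ∀ i, row (ψ i) = row (φ i) := fun i => (hblock _ _ (hψ i).1).symm
    have hA : ∀ i j, Cfsg.MemLocalRing M ((ψ i : G → ℂ) (x j)) := fun i j => memLocalRing_irr_apply _ _
    let A : Matrix (Fin r) (Fin r) (lring M) := fun i j => ⟨(ψ i : G → ℂ) (x j), hA i j⟩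
    have hdet : (Matrix.of fun i j : Fin r => (ψ i : G → ℂ) (x j)).det = ((A.det : lring M) : ℂ) := by
      rw [← Subring.coe_subtype, RingHom.map_det]
      rfl
    rw [hdet, ← red_eq_zero, RingHom.map_det]
    -- row and column scalars
    let q : ℂ := ((p ^ (a - d) : ℕ) : ℂ)
    let u : Fin r → kres M := fun i => redC M ((Cfsg.charDegree (ψ i : G → ℂ) : ℂ) / q)
    let v : Fin r → kres M := fun j =>
      redC M (q / ((Subgroup.centralizer ({x j} : Set G)).index : ℂ))
    have hqf : (p ^ (a - d)).factorization p = a - d := by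
      rw [hp.factorization_pow, Finsupp.single_eq_same]
    have hdeg : ∀ i, (Cfsg.charDegree (ψ i : G → ℂ)).factorization p = a - d := by
      intro i
      have hBi := isPBlock_blockOf (M := M) (φ i)
      have h := (blockHeight_eq_zero_iff hM hBi (hψ i).1).1 (hψ i).2
      have hadd := sInf_degree_add_blockDefect hM hBi
      have h2 := (Finset.mem_filter.1 (hφT i)).2
      have h3 : ∃ j, lam M (φ i) (classSumZ (kres M) (x j)) ≠ 0 := by
        by_contra hcon
        push Not at hcon
        exact hli.ne_zero i (funext hcon)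
      obtain ⟨j, hj⟩ := h3
      rw [lam_classSumZ, Ne, redC_eq_zero_iff (memLocalRing_centralChar (φ i).2 _)] at hj
      obtain ⟨ψ0, hψ0, he0⟩ : ∃ ψ0 ∈ Cfsg.blockOf M (φ i : G → ℂ),
          sInf ((fun ψ : Cfsg.IrrCharacter G => (Cfsg.charDegree (ψ : G → ℂ)).factorization p) ''
            Cfsg.blockOf M (φ i : G → ℂ)) = (Cfsg.charDegree (ψ0 : G → ℂ)).factorization p :=
        ⟨ψ i, (hψ i).1, h.symm⟩
      have h4 : (Subgroup.centralizer ({x j} : Set G)).index.factorization p ≤
          (Cfsg.charDegree (ψ i : G → ℂ)).factorization p := by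
        refine index_le_degree hM hBi (hψ i).1 fun hm => hj ?_
        have h5 := sameBlock_of_mem hBi (mem_blockOf_self (φ i)) (hψ i).1 (x j)
        simpa using memLocalIdeal_add h5 hm
      have h5 := hidx j
      omega
    have hu : ∀ i, Cfsg.MemLocalRing M ((Cfsg.charDegree (ψ i : G → ℂ) : ℂ) / q) ∧ u i ≠ 0 := by
      intro i
      have h1 : Cfsg.MemLocalRing M ((Cfsg.charDegree (ψ i : G → ℂ) : ℂ) / q) :=
        memLocalRing_natCast_div hM (pow_ne_zero _ hp.ne_zero) (Or.inr (by rw [hqf, hdeg]))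
      have h2 : Cfsg.MemLocalRing M (q / (Cfsg.charDegree (ψ i : G → ℂ) : ℂ)) :=
        memLocalRing_natCast_div hM (charDegree_ne_zero (ψ i).2) (Or.inr (by rw [hqf, hdeg]))
      refine ⟨h1, fun h0 => ?_⟩
      have h3 := memLocalIdeal_mul_left h2 ((redC_eq_zero_iff h1).1 h0)
      have h4 : (Cfsg.charDegree (ψ i : G → ℂ) : ℂ) ≠ 0 := by exact_mod_cast charDegree_ne_zero (ψ i).2
      rw [div_mul_div_cancel₀ h4, div_self (show q ≠ 0 by
        exact Nat.cast_ne_zero.2 (pow_ne_zero _ hp.ne_zero))] at h3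
      exact not_memLocalIdeal_one h3
    have hv : ∀ j, Cfsg.MemLocalRing M (q / ((Subgroup.centralizer ({x j} : Set G)).index : ℂ)) ∧
        v j ≠ 0 := by
      intro j
      have h5 := hidx j
      have h0 : (Subgroup.centralizer ({x j} : Set G)).index ≠ 0 := Subgroup.index_ne_zero_of_finite
      have h1 : Cfsg.MemLocalRing M (q / ((Subgroup.centralizer ({x j} : Set G)).index : ℂ)) :=
        memLocalRing_natCast_div hM h0 (Or.inr (by rw [hqf]; omega))
      have h2 : Cfsg.MemLocalRing M (((Subgroup.centralizer ({x j} : Set G)).index : ℂ) / q) :=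
        memLocalRing_natCast_div hM (pow_ne_zero _ hp.ne_zero) (Or.inr (by rw [hqf]; omega))
      refine ⟨h1, fun h => ?_⟩
      have h3 := memLocalIdeal_mul_left h2 ((redC_eq_zero_iff h1).1 h)
      have h4 : ((Subgroup.centralizer ({x j} : Set G)).index : ℂ) ≠ 0 := by exact_mod_cast h0
      have hq0 : q ≠ 0 := Nat.cast_ne_zero.2 (pow_ne_zero _ hp.ne_zero)
      rw [div_mul_div_cancel₀ hq0, div_self h4] at h3
      exact not_memLocalIdeal_one h3
    have hfac : (red M).mapMatrix A = Matrix.diagonal u * Matrix.of (fun i => row (φ i)) *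
        Matrix.diagonal v := by
      ext i j
      rw [Matrix.mul_diagonal, Matrix.diagonal_mul, RingHom.mapMatrix_apply, Matrix.map_apply]
      show red M ⟨_, hA i j⟩ = _
      rw [← redC_eq (hA i j), Matrix.of_apply, ← hψrow i]
      show _ = u i * lam M (ψ i) (classSumZ (kres M) (x j)) * v j
      rw [lam_classSumZ, ← redC_mul (hu i).1 (memLocalRing_centralChar (ψ i).2 _),
        ← redC_mul (memLocalRing_mul (hu i).1 (memLocalRing_centralChar (ψ i).2 _)) (hv j).1]
      congr 1
      rw [centralChar_eq_div]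
      have h4 : ((Subgroup.centralizer ({x j} : Set G)).index : ℂ) ≠ 0 := by
        exact_mod_cast Subgroup.index_ne_zero_of_finite
      have h6 : (Cfsg.charDegree (ψ i : G → ℂ) : ℂ) ≠ 0 := by exact_mod_cast charDegree_ne_zero (ψ i).2
      have hq0 : q ≠ 0 := Nat.cast_ne_zero.2 (pow_ne_zero _ hp.ne_zero)
      field_simp
    rw [hfac, Matrix.det_mul, Matrix.det_mul, Matrix.det_diagonal, Matrix.det_diagonal]
    have hM' : IsUnit (Matrix.of (fun i => row (φ i))) :=
      Matrix.linearIndependent_rows_iff_isUnit.1 hli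
    exact mul_ne_zero (mul_ne_zero (Finset.prod_ne_zero_iff.2 fun i _ => (hu i).2)
      ((Matrix.isUnit_iff_isUnit_det _).1 hM').ne_zero) (Finset.prod_ne_zero_iff.2 fun j _ => (hv j).2)

end Cfsg.Agent.S4741
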