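import Cfsg.Statements.S4742
import Cfsg.Agent.Lib.BlockB.DefectCount
-- import your own Cfsg.Agent.* helpers here

set_option autoImplicit false
open Cfsg

namespace Cfsg.Agent.S4742

/-- Let p ≠ q be primes dividing the order of the finite group G, and suppose the centralizer of every non-identity p-element of G has order prime to q. Then either G has an irreducible character of p-defect zero, or for every non-identity q-element z of G there are conjugates g, h of z such that g h⁻¹ is a non-identity p-element. -/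
theorem result {G : Type*} [Group G] [Finite G] (p q : ℕ) [Fact p.Prime] [Fact q.Prime] (hppq : p ≠ q) (hpG : p ∣ Nat.card G) (hqG : q ∣ Nat.card G) (hC : ∀ g : G, g ≠ 1 → (∃ k : ℕ, orderOf g = p ^ k) → ¬ q ∣ Nat.card ↥(Subgroup.centralizer ({g} : Set G))) : (∃ χ : Cfsg.IrrCharacter G, (Cfsg.charDegree (χ : G → ℂ)).factorization p = (Nat.card G).factorization p) ∨ ∀ z : G, z ≠ 1 → (∃ k : ℕ, orderOf z = q ^ k) → ∃ g h : G, IsConj z g ∧ IsConj z h ∧ g * h⁻¹ ≠ 1 ∧ ∃ k : ℕ, orderOf (g * h⁻¹) = p ^ k := by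
  refine Classical.or_iff_not_imp_left.2 fun hno => ?_
  push Not at hno
  intro z hz hzq
  obtain ⟨k, hk⟩ := hzq
  have hqz : q ∣ orderOf z := by
    rw [hk]
    refine dvd_pow_self q ?_
    rintro rfl
    exact hz (orderOf_eq_one_iff.1 (by simpa using hk))
  have hcz : ¬ p ∣ Nat.card (Subgroup.centralizer ({z} : Set G)) := by
    intro hd
    obtain ⟨g, hg⟩ := exists_prime_orderOf_dvd_card' p hd
    have hgG : orderOf (g : G) = p := by rw [Subgroup.orderOf_coe, hg]
    refine hC g (fun e => (Fact.out : p.Prime).ne_one (by rw [← hgG, e, orderOf_one]))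
      ⟨1, by rw [hgG, pow_one]⟩ ?_
    have hmem : z ∈ Subgroup.centralizer ({(g : G)} : Set G) :=
      Subgroup.mem_centralizer_singleton_iff.2 (Subgroup.mem_centralizer_singleton_iff.1 g.2).symm
    exact hqz.trans (Subgroup.orderOf_mk z hmem ▸ orderOf_dvd_natCard _)
  obtain ⟨t, ht, hp⟩ := CfsgLib.BlockB.exists_conj_quotient_pElt hno z hcz
  refine ⟨t * z * t⁻¹, z, isConj_iff.2 ⟨t, rfl⟩, IsConj.refl z, ?_, ?_⟩
  · exact fun e => ht (mul_inv_eq_one.1 e)
  · obtain ⟨j, hj⟩ := (CfsgLib.BlockB.isPElt_conj _ z).2 hp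
    refine ⟨j, ?_⟩
    rw [← hj]
    congr 1
    group

end Cfsg.Agent.S4742
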