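import Cfsg.Statements.S4744
import Cfsg.Agent.Lib.BlockB.DefectCount
-- import your own Cfsg.Agent.* helpers here

set_option autoImplicit false
open Cfsg

namespace Cfsg.Agent.S4744

/-- Let p be an odd prime and G a finite group of even order divisible by p in which the centralizer of every non-identity p-element has odd order. Then either G has an irreducible character of p-defect zero, or the normalizer of every Sylow p-subgroup P of G has even order and P is abelian. -/
theorem result {G : Type*} [Group G] [Finite G] (p : ℕ) [Fact p.Prime] (hp2 : p ≠ 2) (hpG : p ∣ Nat.card G) (h2G : 2 ∣ Nat.card G) (hC : ∀ g : G, g ≠ 1 → (∃ k : ℕ, orderOf g = p ^ k) → Odd (Nat.card ↥(Subgroup.centralizer ({g} : Set G)))) : (∃ χ : Cfsg.IrrCharacter G, (Cfsg.charDegree (χ : G → ℂ)).factorization p = (Nat.card G).factorization p) ∨ ∀ P : Sylow p G, Even (Nat.card ↥(Subgroup.normalizer ((P : Subgroup G) : Set G))) ∧ IsMulCommutative ↥(P : Subgroup G) := by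
  refine Classical.or_iff_not_imp_left.2 fun hno => ?_
  push Not at hno
  have hp : p.Prime := Fact.out
  have h2p : ∀ g : G, orderOf g ≠ 2 * p := by
    intro g hg
    have h2 : orderOf (g ^ 2) = p := by
      rw [orderOf_pow_of_dvd (by norm_num) (hg ▸ dvd_mul_right 2 p), hg]
      exact Nat.mul_div_cancel_left p (by norm_num)
    have hodd := hC (g ^ 2) (fun e => hp.ne_one (by rw [← h2, e, orderOf_one])) ⟨1, by rw [h2, pow_one]⟩
    have hmem : g ∈ Subgroup.centralizer ({g ^ 2} : Set G) :=
      Subgroup.mem_centralizer_singleton_iff.2 (Commute.self_pow g 2).eq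
    have := hodd.of_dvd_nat
      (Subgroup.orderOf_mk g hmem ▸ orderOf_dvd_natCard (⟨g, hmem⟩ : Subgroup.centralizer ({g ^ 2} : Set G)))
    rw [hg] at this
    exact Nat.not_even_iff_odd.2 this (even_two_mul p)
  intro P
  obtain ⟨s, hs⟩ := exists_prime_orderOf_dvd_card' 2 h2G
  obtain ⟨Q, hQ, -⟩ := CfsgLib.BlockB.exists_sylow_inverted hp2 hno h2p hs
  have hs2 : s * s = 1 := by rw [← pow_two, ← hs, pow_orderOf_eq_one]
  have hsn : s ∈ Subgroup.normalizer ((Q : Subgroup G) : Set G) := by
    refine Subgroup.mem_normalizer_iff.2 fun x => ?_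
    rw [inv_eq_of_mul_eq_one_right hs2]
    constructor
    · intro hx; rw [hQ x hx]; exact inv_mem hx
    · intro hx
      have := inv_mem (s := (Q : Subgroup G)) hx
      rw [← hQ _ hx] at this
      have h3 : ∀ w : G, s * (s * w) = w := fun w => by rw [← mul_assoc, hs2, one_mul]
      simpa only [mul_assoc, h3, hs2, mul_one, SetLike.mem_coe] using this
  obtain ⟨g, hg⟩ := MulAction.exists_smul_eq G Q P
  refine ⟨?_, ?_⟩
  · have hmem : g * s * g⁻¹ ∈ Subgroup.normalizer ((P : Subgroup G) : Set G) := by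
      refine Sylow.smul_eq_iff_mem_normalizer.1 ?_
      rw [← hg, ← mul_smul, inv_mul_cancel_right, mul_smul,
        Sylow.smul_eq_iff_mem_normalizer.2 hsn]
    refine even_iff_two_dvd.2 ?_
    have h1 : orderOf (g * s * g⁻¹) = 2 := hs ▸ MulEquiv.orderOf_eq (MulAut.conj g) s
    exact h1 ▸ Subgroup.orderOf_mk _ hmem ▸ orderOf_dvd_natCard _
  · have := CfsgLib.BlockB.isMulCommutative_of_inverted hs2 hQ
    refine ⟨⟨fun a b => (Sylow.equiv P Q).injective ?_⟩⟩
    rw [map_mul, map_mul]
    exact this.1.1 _ _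

end Cfsg.Agent.S4744
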