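import Cfsg.Statements.S4745
import Cfsg.Agent.S4738
import Cfsg.Agent.Lib.Amalgam.InvolutionPoints

set_option autoImplicit false
set_option linter.style.haveILetI false
open Cfsg
open scoped Pointwise
open CfsgLib.Amalgam.InvolutionPoints

namespace Cfsg.Agent.S4745

/-- Let p be an odd prime and G a finite group of even order divisible by p in which the centralizer of every non-identity p-element has odd order, and suppose G acts faithfully and transitively on a set with p ^ r elements, r ≥ 1. Then either G has an irreducible character of p-defect zero, or G is p-solvable and has an irreducible character of 2-defect zero. -/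
theorem result {G Ω : Type*} [Group G] [Finite G] [MulAction G Ω] [FaithfulSMul G Ω] [Fintype Ω] (htr : MulAction.IsPretransitive G Ω) (p : ℕ) [Fact p.Prime] (hp2 : p ≠ 2) (hpG : p ∣ Nat.card G) (h2G : 2 ∣ Nat.card G) (hC : ∀ g : G, g ≠ 1 → (∃ k : ℕ, orderOf g = p ^ k) → Odd (Nat.card ↥(Subgroup.centralizer ({g} : Set G)))) (r : ℕ) (hr : 1 ≤ r) (hΩ : Fintype.card Ω = p ^ r) : (∃ χ : Cfsg.IrrCharacter G, (Cfsg.charDegree (χ : G → ℂ)).factorization p = (Nat.card G).factorization p) ∨ (Cfsg.IsPSolvable p G ∧ ∃ χ : Cfsg.IrrCharacter G, (Cfsg.charDegree (χ : G → ℂ)).factorization 2 = (Nat.card G).factorization 2) := by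
  classical
  refine Classical.or_iff_not_imp_left.2 fun hno => ?_
  have hp : p.Prime := Fact.out
  have hpodd : Odd p := hp.odd_of_ne_two hp2
  haveI : Fact (Nat.Prime 2) := ⟨Nat.prime_two⟩
  have hinv : ∀ u : G, orderOf u = 2 → u * u = 1 := fun u hu => by
    rw [← pow_two, ← hu, pow_orderOf_eq_one]
  have h2p : ∀ g : G, orderOf g ≠ 2 * p := by
    intro g hg
    have ho : orderOf (g ^ 2) = p := by
      rw [orderOf_pow, hg, Nat.gcd_eq_right (dvd_mul_right 2 p), Nat.mul_div_cancel_left p (by norm_num)]
    have h1 : orderOf (g ^ p) = 2 := by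
      rw [orderOf_pow, hg, Nat.gcd_eq_right (dvd_mul_left p 2), Nat.mul_div_cancel 2 hp.pos]
    have hne : g ^ 2 ≠ 1 := fun e => by rw [e, orderOf_one] at ho; exact hp.one_lt.ne ho
    have hodd := hC _ hne ⟨1, by rw [pow_one]; exact ho⟩
    have hmem : g ^ p ∈ Subgroup.centralizer ({g ^ 2} : Set G) :=
      Subgroup.mem_centralizer_singleton_iff.2 ((Commute.refl g).pow_pow p 2).eq
    exact Nat.not_even_iff_odd.2 hodd
      (even_iff_two_dvd.2 ((dvd_of_eq h1.symm).trans (Subgroup.orderOf_dvd_natCard _ hmem)))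
  obtain ⟨hab, hconj⟩ := (Cfsg.Agent.S4738.result p hp2 (even_iff_two_dvd.2 h2G) h2p).resolve_left hno
  have hno' : ∀ χ : Cfsg.IrrCharacter G,
      (Cfsg.charDegree (χ : G → ℂ)).factorization p ≠ (Nat.card G).factorization p := by
    intro χ hχ; exact hno ⟨χ, hχ⟩
  -- regularity of the Sylow subgroups
  have hcomm : ∀ (P : Sylow p G), ∀ x ∈ (P : Subgroup G), ∀ y ∈ (P : Subgroup G), x * y = y * x :=
    fun P x hx y hy => congrArg Subtype.val ((hab P).is_comm.comm ⟨x, hx⟩ ⟨y, hy⟩)
  have hreg : ∀ (P : Sylow p G), ∀ x ∈ (P : Subgroup G), ∀ o : Ω, x • o = o → x = 1 := by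
    intro P x hx o ho
    refine eq_of_smul_eq_smul (α := Ω) fun w => ?_
    obtain ⟨y, hy, rfl⟩ := sylow_transitive htr hΩ P o w
    rw [one_smul, ← mul_smul, hcomm P x hx y hy, mul_smul, ho]
  have hfree : ∀ x : G, (∃ k, orderOf x = p ^ k) → ∀ o : Ω, x • o = o → x = 1 := by
    rintro x ⟨k, hk⟩ o ho
    obtain ⟨P, hP⟩ := (IsPGroup.of_card (p := p) (G := Subgroup.zpowers x) (n := k)
      (by rw [Nat.card_zpowers, hk])).exists_le_sylow
    exact hreg P x (hP (Subgroup.mem_zpowers x)) o ho
  -- every involution fixes exactly one point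
  have hfix : ∀ u : G, orderOf u = 2 → ∃ o : Ω, u • o = o ∧ ∀ o', u • o' = o' → o' = o := by
    intro u hu
    have hnd : ¬ 2 ∣ Fintype.card Ω := by
      rw [hΩ]
      exact fun h => hp2 ((Nat.prime_dvd_prime_iff_eq Nat.prime_two hp).1
        (Nat.prime_two.dvd_of_dvd_pow h)).symm
    let σ : Equiv.Perm Ω := MulAction.toPermHom G Ω u
    have hσ : σ ^ 2 ^ 1 = 1 := by
      rw [← map_pow, pow_one, pow_two, hinv u hu, map_one]
    obtain ⟨o, ho⟩ := Equiv.Perm.exists_fixed_point_of_prime hnd hσ
    refine ⟨o, ho, fun o' ho' => ?_⟩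
    obtain ⟨P, hP, -⟩ := CfsgLib.BlockB.exists_sylow_inverted hp2 hno' h2p hu
    obtain ⟨x, hx, rfl⟩ := sylow_transitive htr hΩ P o o'
    have h1 : u * x = x⁻¹ * u := by
      rw [← hP x hx, mul_assoc, hinv u hu, mul_one]
    have ho1 : u • o = o := ho
    rw [← mul_smul, h1, mul_smul, ho1] at ho'
    have h2 : (x * x) • o = o := by
      have := congrArg (fun w => x • w) ho'
      simp only [smul_inv_smul] at this
      rw [mul_smul]; exact this.symm
    have h3 := hreg P _ (mul_mem hx hx) o h2
    rw [← pow_two] at h3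
    obtain ⟨k, hk⟩ := IsPGroup.iff_orderOf.1 P.isPGroup' ⟨x, hx⟩
    rw [Subgroup.orderOf_mk] at hk
    have h4 : orderOf x = 1 := Nat.eq_one_of_dvd_coprimes
      ((Nat.coprime_primes Nat.prime_two hp).2 (Ne.symm hp2) |>.pow_right k)
      (orderOf_dvd_of_pow_eq_one h3) (hk ▸ dvd_rfl)
    rw [orderOf_eq_one_iff.1 h4, one_smul]
  choose pt hpt hptu using hfix
  have hptc : ∀ (u : G) (hu : orderOf u = 2) (g : G), g * u = u * g → g • pt u hu = pt u hu := by
    intro u hu g hg
    refine hptu u hu _ ?_
    rw [← mul_smul, ← hg, mul_smul, hpt u hu]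
  have hshare : ∀ (u w : G) (hu : orderOf u = 2) (hw : orderOf w = 2), u * w = w * u →
      pt w hw = pt u hu := fun u w hu hw h => hptu u hu _ (hptc w hw u h)
  -- products of involutions with different points
  have key : ∀ (u v : G) (hu : orderOf u = 2) (hv : orderOf v = 2), pt u hu ≠ pt v hv →
      ∀ o : Ω, (u * v) • o ≠ o := by
    intro u v hu hv hne o ho
    set y := u * v with hy
    have hu2 := hinv u hu
    have hv2 := hinv v hv
    have hui : u⁻¹ = u := inv_eq_of_mul_eq_one_right hu2
    have hvi : v⁻¹ = v := inv_eq_of_mul_eq_one_right hv2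
    have hy1 : y ≠ 1 := fun e => by
      have : u = v := by rw [← hvi]; exact eq_inv_of_mul_eq_one_left e
      subst this; exact hne rfl
    have huy : u * y * u = y⁻¹ := by
      rw [hy, mul_inv_rev, hui, hvi, ← mul_assoc, hu2, one_mul]
    have hvuy : v = u * y := by rw [hy, ← mul_assoc, hu2, one_mul]
    set C := Subgroup.centralizer ({y} : Set G) with hCdef
    have hnC : ∀ c ∈ C, u * c * u ∈ C := by
      intro c hc
      rw [hCdef, Subgroup.mem_centralizer_singleton_iff] at hc ⊢
      have h' : c * y⁻¹ = y⁻¹ * c := ((Commute.inv_right (show Commute c y from hc))).eq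
      have h3 : ∀ w : G, u * (u * w) = w := fun w => by rw [← mul_assoc, hu2, one_mul]
      have huy' : u * y = y⁻¹ * u := by rw [← huy, mul_assoc, hu2, mul_one]
      have huy'' : u * y⁻¹ = y * u := by
        rw [← huy]; simp only [mul_assoc, h3]
      calc u * c * u * y = u * c * (u * y) := by simp only [mul_assoc]
        _ = u * (c * y⁻¹) * u := by rw [huy']; simp only [mul_assoc]
        _ = u * (y⁻¹ * c) * u := by rw [h']
        _ = (u * y⁻¹) * (c * u) := by simp only [mul_assoc]
        _ = y * (u * c * u) := by rw [huy'']; simp only [mul_assoc]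
    have hCodd : Odd (Nat.card C) := by
      rw [← Nat.not_even_iff_odd]
      intro he
      obtain ⟨w, hwC, hw, huw⟩ := exists_involution_fixed hu2 hnC he
      have hwy : w * y = y * w := Subgroup.mem_centralizer_singleton_iff.1 hwC
      have hvw : v * w = w * v := by
        rw [hvuy, mul_assoc, ← hwy, ← mul_assoc, huw, mul_assoc]
      exact hne ((hshare u w hu hw huw).symm.trans (hshare v w hv hw hvw))
    -- some `p`-element commutes with `y`
    have hpC : p ∣ Nat.card C := by
      have h := dvd_card_pairs hno' u u y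
      rw [card_pairs] at h
      have hcu : ¬ p ∣ Nat.card (Subgroup.centralizer ({u} : Set G)) := by
        intro hd
        obtain ⟨z, hz⟩ := exists_prime_orderOf_dvd_card' p hd
        rw [← Subgroup.orderOf_coe] at hz
        have hcm : Commute u (z : G) := (Subgroup.mem_centralizer_singleton_iff.1 z.2).symm
        exact h2p (u * z) (by
          rw [hcm.orderOf_mul_eq_mul_orderOf_of_coprime
            (by rw [hu, hz]; exact (Nat.coprime_primes Nat.prime_two hp).2 (Ne.symm hp2)), hu, hz])
      have h' := (hp.dvd_mul.1 h).resolve_left fun h' => (hp.dvd_mul.1 h').elim hcu hcu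
      refine (h'.trans ?_).trans (dvd_refl _)
      refine dvd_trans (dvd_of_eq (Nat.card_congr ?_)) (card_inverted hu2 hnC hCodd)
      have hconjC : ∀ c : G, c ∈ C → u * c * u = c⁻¹ → IsConj u (u * c) := by
        intro c hc hcu'
        refine hconj u _ hu (orderOf_eq_prime ?_ ?_)
        · rw [pow_two, ← mul_assoc, hcu', inv_mul_cancel]
        · intro e
          have hc' : c = u := by rw [← hui]; exact eq_inv_of_mul_eq_one_right e
          subst hc'
          exact Nat.not_even_iff_odd.2 hCodd
            (even_iff_two_dvd.2 (hu ▸ Subgroup.orderOf_dvd_natCard _ hc))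
      have hord : ∀ z : G, IsConj u z → orderOf z = 2 := fun z hz => by
        obtain ⟨k, rfl⟩ := isConj_iff.1 hz
        rw [← hu]; exact MulEquiv.orderOf_eq (MulAut.conj k) u
      exact
        { toFun := fun z => ⟨u * z, by
            obtain ⟨z, hz1, hz2⟩ := z
            have h1 := hinv z (hord z hz1)
            have h2 := hinv _ (hord _ hz2)
            have hzi : z⁻¹ = z := inv_eq_of_mul_eq_one_right h1
            rw [hzi] at h2
            have hzy : z * y = y⁻¹ * z := by
              have := inv_eq_of_mul_eq_one_right h2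
              rw [mul_inv_rev, hzi] at this
              exact this.symm
            have h3 : ∀ w : G, u * (u * w) = w := fun w => by rw [← mul_assoc, hu2, one_mul]
            have huy'' : u * y⁻¹ = y * u := by
              rw [← huy]; simp only [mul_assoc, h3]
            refine ⟨Subgroup.mem_centralizer_singleton_iff.2 ?_, ?_⟩
            · calc u * z * y = u * y⁻¹ * z := by rw [mul_assoc, hzy, mul_assoc]
                _ = y * (u * z) := by rw [huy'', mul_assoc]
            · show u * (u * z) * u = (u * z)⁻¹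
              rw [mul_inv_rev, hzi, hui, ← mul_assoc, hu2, one_mul]⟩
          invFun := fun c => ⟨u * c, hconjC c c.2.1 c.2.2, by
            have h4 := hconjC c c.2.1 c.2.2
            have h5 : (u * (c : G))⁻¹ = u * c := inv_eq_of_mul_eq_one_right (hinv _ (hord _ h4))
            rw [h5]
            refine hconj u _ hu (orderOf_eq_prime ?_ ?_)
            · have hcy : (c : G) * y = y * c := Subgroup.mem_centralizer_singleton_iff.1 c.2.1
              have h3 : ∀ w : G, u * (u * w) = w := fun w => by rw [← mul_assoc, hu2, one_mul]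
              calc (u * (c : G) * y) ^ 2 = u * ((c : G) * y) * (u * ((c : G) * y)) := by
                    rw [pow_two, mul_assoc u]
                _ = (u * (c : G) * u) * (u * y * u) * ((c : G) * y) := by
                    simp only [mul_assoc, h3]
                _ = 1 := by rw [c.2.2, huy, hcy]; group
            · intro e
              have hu' : u = ((c : G) * y)⁻¹ := eq_inv_of_mul_eq_one_left (by rw [← mul_assoc]; exact e)
              have : u ∈ C := by
                rw [hu']
                exact inv_mem (mul_mem c.2.1 (Subgroup.mem_centralizer_singleton_iff.2 rfl))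
              exact Nat.not_even_iff_odd.2 hCodd
                (even_iff_two_dvd.2 (hu ▸ Subgroup.orderOf_dvd_natCard _ this))⟩
          left_inv := fun z => Subtype.ext (show u * (u * (z : G)) = z by
            rw [← mul_assoc, hu2, one_mul])
          right_inv := fun c => Subtype.ext (show u * (u * (c : G)) = c by
            rw [← mul_assoc, hu2, one_mul]) }
    -- an element `x` of order `p` commuting with `y`, inverted by `u`
    obtain ⟨x₀, hx₀⟩ := exists_prime_orderOf_dvd_card' p hpC
    have hcs : ¬ p ∣ Nat.card (Subgroup.centralizer ({u} : Set G)) := by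
      intro hd
      obtain ⟨z, hz⟩ := exists_prime_orderOf_dvd_card' p hd
      rw [← Subgroup.orderOf_coe] at hz
      have hcm : Commute u (z : G) := (Subgroup.mem_centralizer_singleton_iff.1 z.2).symm
      exact h2p (u * z) (by
        rw [hcm.orderOf_mul_eq_mul_orderOf_of_coprime
          (by rw [hu, hz]; exact (Nat.coprime_primes Nat.prime_two hp).2 (Ne.symm hp2)), hu, hz])
    obtain ⟨R, hRC, hRn⟩ : ∃ R : Sylow p C, True ∧
        ∀ c ∈ (R : Subgroup C).map C.subtype, u * c * u ∈ (R : Subgroup C).map C.subtype := by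
      let α : MulAut C :=
        { toFun := fun c => ⟨u * c * u, hnC c c.2⟩
          invFun := fun c => ⟨u * c * u, hnC c c.2⟩
          left_inv := fun c => Subtype.ext (by
            show u * (u * (c : G) * u) * u = c
            rw [← mul_assoc, ← mul_assoc, hu2, one_mul, mul_assoc, hu2, mul_one])
          right_inv := fun c => Subtype.ext (by
            show u * (u * (c : G) * u) * u = c
            rw [← mul_assoc, ← mul_assoc, hu2, one_mul, mul_assoc, hu2, mul_one])
          map_mul' := fun a b => Subtype.ext (by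
            show u * ((a : G) * b) * u = u * a * u * (u * b * u)
            rw [show u * (a : G) * u * (u * b * u) = u * a * (u * u) * b * u by group, hu2, mul_one]
            simp only [mul_assoc]) }
      have hα2 : α * α = 1 := MulEquiv.ext fun c => Subtype.ext (by
        show u * (u * (c : G) * u) * u = c
        rw [← mul_assoc, ← mul_assoc, hu2, one_mul, mul_assoc, hu2, mul_one])
      haveI := Fintype.ofFinite (Sylow p C)
      let σ : Equiv.Perm (Sylow p C) := MulAction.toPermHom (MulAut C) (Sylow p C) α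
      have hσ : σ ^ 2 ^ 1 = 1 := by rw [← map_pow, pow_one, pow_two, hα2, map_one]
      obtain ⟨S₀⟩ := Sylow.nonempty (p := p) (G := C)
      have hnd : ¬ 2 ∣ Fintype.card (Sylow p C) := by
        rw [← Nat.card_eq_fintype_card]
        exact fun h => Nat.not_even_iff_odd.2 hCodd (even_iff_two_dvd.2
          (h.trans ((Sylow.card_dvd_index S₀).trans (Subgroup.index_dvd_card _))))
      obtain ⟨R, hR⟩ := Equiv.Perm.exists_fixed_point_of_prime hnd hσ
      refine ⟨R, trivial, ?_⟩
      rintro _ ⟨c, hc, rfl⟩
      refine ⟨α c, ?_, rfl⟩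
      have : α c ∈ ((α • R : Sylow p C) : Subgroup C) := Subgroup.smul_mem_pointwise_smul c α _ hc
      rwa [show α • R = R from hR] at this
    have hRinv := CfsgLib.BlockB.inverts_of_normalizes hu2 hcs (R.isPGroup'.map C.subtype) hRn
    have hRne : (R : Subgroup C) ≠ ⊥ := R.ne_bot_of_dvd_card hpC
    obtain ⟨x, hxR, hx1⟩ : ∃ x ∈ (R : Subgroup C).map C.subtype, x ≠ 1 := by
      obtain ⟨⟨x, hx⟩, hx1⟩ := Subgroup.bot_or_exists_ne_one (R : Subgroup C) |>.resolve_left hRne
      exact ⟨x, ⟨⟨x, hx⟩, hx1.1, rfl⟩, fun e => hx1.2 (Subtype.ext e)⟩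
    have hxy : x * y = y * x := by
      obtain ⟨c, -, rfl⟩ := hxR
      exact Subgroup.mem_centralizer_singleton_iff.1 c.2
    have hxp : ∃ k, orderOf x = p ^ k := by
      obtain ⟨k, hk⟩ := IsPGroup.iff_orderOf.1 (R.isPGroup'.map C.subtype) ⟨x, hxR⟩
      exact ⟨k, by rwa [Subgroup.orderOf_mk] at hk⟩
    have hux : u * x * u = x⁻¹ := hRinv x hxR
    -- the Sylow subgroup is normal in the centralizer of `x`
    set D := Subgroup.centralizer ({x} : Set G) with hDdef
    have hDodd := hC x hx1 hxp
    haveI : Group.IsSolvable D := Cfsg.Agent.S0205.result hDodd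
    obtain ⟨P, hP⟩ := (IsPGroup.of_card (p := p) (G := Subgroup.zpowers x) (n := hxp.choose)
      ((Nat.card_zpowers x).trans hxp.choose_spec)).exists_le_sylow
    have hxP : x ∈ (P : Subgroup G) := hP (Subgroup.mem_zpowers x)
    have hPD : (P : Subgroup G) ≤ D := fun z hz =>
      Subgroup.mem_centralizer_singleton_iff.2 (hcomm P z hz x hxP)
    have hcore : Cfsg.pPrimeCore p D = ⊥ := by
      haveI := Cfsg.pPrimeCore_normal p D
      rw [eq_bot_iff]
      intro k hk
      rw [Subgroup.mem_bot]
      refine Subtype.ext (eq_of_smul_eq_smul (α := Ω) fun m => ?_)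
      rw [Subgroup.coe_one, one_smul]
      obtain ⟨z, hz, hzm⟩ := sylow_transitive htr hΩ P m ((k : G) • m)
      let z' : D := ⟨z, hPD hz⟩
      have hh : ((z'⁻¹ * k : D) : G) • m = m := by
        rw [Subgroup.coe_mul, mul_smul, ← hzm, Subgroup.coe_inv, inv_smul_smul]
      have hnp : ¬ p ∣ orderOf ((z'⁻¹ * k : D) : G) := by
        intro hd
        set h := ((z'⁻¹ * k : D) : G)
        have ho : orderOf (h ^ (orderOf h / p)) = p :=
          orderOf_pow_orderOf_div (orderOf_pos h).ne' hd
        have hfixm : (h ^ (orderOf h / p)) • m = m :=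
          MulAction.mem_stabilizer_iff.1 (pow_mem (MulAction.mem_stabilizer_iff.2 hh) _)
        rw [hfree _ ⟨1, by rw [pow_one]; exact ho⟩ m hfixm, orderOf_one] at ho
        exact hp.one_lt.ne ho
      let q := QuotientGroup.mk' (Cfsg.pPrimeCore p D)
      have hk1 : q k = 1 := (QuotientGroup.eq_one_iff k).2 hk
      have h1 : orderOf (q z'⁻¹) ∣ orderOf ((z'⁻¹ * k : D) : G) := by
        rw [Subgroup.orderOf_coe]
        have := orderOf_map_dvd q (z'⁻¹ * k)
        rwa [map_mul, hk1, mul_one] at this
      obtain ⟨e, he⟩ := IsPGroup.iff_orderOf.1 P.isPGroup' ⟨z, hz⟩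
      rw [Subgroup.orderOf_mk] at he
      have h2 : orderOf (q z'⁻¹) ∣ p ^ e := by
        refine (orderOf_map_dvd q _).trans ?_
        rw [orderOf_inv, ← Subgroup.orderOf_coe, ← he]
      have hz'1 : z'⁻¹ ∈ Cfsg.pPrimeCore p D := (QuotientGroup.eq_one_iff _).1
        (orderOf_eq_one_iff.1 (Nat.eq_one_of_dvd_coprimes
          ((hp.coprime_iff_not_dvd.2 hnp).pow_left e) h2 h1))
      have h3 : orderOf z' = 1 := by
        refine Nat.eq_one_of_dvd_coprimes (((CfsgLib.Solvable.pPrimeCore_coprime (G := D) p).symm).pow_left e)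
          (by rw [← Subgroup.orderOf_coe, ← he]) ?_
        exact Subgroup.orderOf_dvd_natCard _ (by simpa using inv_mem hz'1)
      have hz1 : z = 1 := congrArg Subtype.val (orderOf_eq_one_iff.1 h3)
      rw [hz1, one_smul] at hzm
      exact hzm.symm
    have hPn : ((P.subtype hPD : Sylow p D) : Subgroup D).Normal := by
      have hle := IsPGroup.le_sylow_of_normal
        (CfsgLib.Solvable.pCore_isPGroup (G := D) p) (P.subtype hPD)
      have hge : ((P.subtype hPD : Sylow p D) : Subgroup D) ≤ Cfsg.pCore p D := by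
        refine le_trans ?_ (CfsgLib.Solvable.centralizer_pCore_le p hcore)
        intro a ha
        rw [Subgroup.mem_centralizer_iff]
        intro b hb
        exact Subtype.ext (hcomm P _ (hle hb) _ ha)
      rw [le_antisymm hge hle]
      exact Cfsg.pCore_normal p D
    have hyD : y ∈ D := Subgroup.mem_centralizer_singleton_iff.2 hxy.symm
    have huD : ∀ z ∈ D, u * z * u ∈ D := by
      intro z hz
      rw [hDdef, Subgroup.mem_centralizer_singleton_iff] at hz ⊢
      have hz' : z * x⁻¹ = x⁻¹ * z := ((Commute.inv_right (show Commute z x from hz))).eq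
      rw [← hux] at hz'
      calc u * z * u * x = u * (z * (u * x * u)) * u := by
            simp only [mul_assoc, hu2, mul_one]
        _ = u * (u * x * u * z) * u := by rw [hz']
        _ = x * (u * z * u) := by simp only [← mul_assoc, hu2, one_mul]
    have huP : ∀ z ∈ (P : Subgroup G), u * z * u ∈ (P : Subgroup G) := by
      intro z hz
      have hzp : IsPGroup p (Subgroup.zpowers (⟨u * z * u, huD z (hPD hz)⟩ : D)) := by
        obtain ⟨e, he⟩ := IsPGroup.iff_orderOf.1 P.isPGroup' ⟨z, hz⟩
        refine IsPGroup.of_card (n := e) ?_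
        rw [Nat.card_zpowers, ← Subgroup.orderOf_coe]
        rw [Subgroup.orderOf_mk] at he
        show orderOf (u * z * u) = p ^ e
        rw [← he]
        conv_lhs => rw [show u * z * u = u * z * u⁻¹ by rw [hui]]
        exact MulEquiv.orderOf_eq (MulAut.conj u) z
      obtain ⟨Q, hQ⟩ := hzp.exists_le_sylow
      haveI := Sylow.unique_of_normal (P.subtype hPD) hPn
      have hQe : Q = P.subtype hPD := Subsingleton.elim _ _
      rw [hQe] at hQ
      exact hQ (Subgroup.mem_zpowers _)
    have hPinv := CfsgLib.BlockB.inverts_of_normalizes hu2 hcs P.isPGroup' huP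
    -- the point of `u` as origin
    set m := pt u hu with hm
    obtain ⟨z, hz, hzm⟩ := sylow_transitive htr hΩ P m (y • m)
    set l := z⁻¹ * y with hl
    have hlm : l • m = m := by rw [hl, mul_smul, ← hzm, inv_smul_smul]
    have hlP : ∀ a ∈ (P : Subgroup G), l * a * l⁻¹ ∈ (P : Subgroup G) := by
      intro a ha
      have hlD : l ∈ D := mul_mem (inv_mem (hPD hz)) hyD
      exact hPn.conj_mem ⟨a, hPD ha⟩ ha ⟨l, hlD⟩
    -- `u` commutes with `l`
    have hulm : (u * l * u * l⁻¹) • m = m := by
      have hli : l⁻¹ • m = m := inv_smul_eq_iff.2 hlm.symm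
      have hum : u • m = m := hpt u hu
      rw [mul_smul, mul_smul, mul_smul, hli, hum, hlm, hum]
    have hulc : ∀ a ∈ (P : Subgroup G), (u * l * u * l⁻¹) * a = a * (u * l * u * l⁻¹) := by
      intro a ha
      have hla : l⁻¹ * a * l ∈ (P : Subgroup G) := by
        have hlD : l⁻¹ ∈ D := inv_mem (mul_mem (inv_mem (hPD hz)) hyD)
        have := hPn.conj_mem ⟨a, hPD ha⟩ ha ⟨l⁻¹, hlD⟩
        simpa [Subgroup.mem_subgroupOf] using this
      have h1 := hPinv _ hla
      have h2 := hPinv _ (inv_mem ha)
      have h3 : ∀ w : G, u * (u * w) = w := fun w => by rw [← mul_assoc, hu2, one_mul]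
      have : u * l * u * l⁻¹ * a * (u * l * u * l⁻¹)⁻¹ = a := by
        calc u * l * u * l⁻¹ * a * (u * l * u * l⁻¹)⁻¹
            = u * (l * (u * (l⁻¹ * a * l) * u) * l⁻¹) * u := by
              simp only [mul_inv_rev, inv_inv, hui, mul_assoc]
          _ = u * (l * (l⁻¹ * a⁻¹ * l) * l⁻¹) * u := by rw [h1]; simp only [mul_inv_rev, inv_inv, mul_assoc]
          _ = a := by
              rw [show l * (l⁻¹ * a⁻¹ * l) * l⁻¹ = a⁻¹ by group, h2, inv_inv]
      exact mul_inv_eq_iff_eq_mul.1 this
    have hulu : u * l * u = l := by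
      have h1 : u * l * u * l⁻¹ = 1 := by
        refine eq_of_smul_eq_smul (α := Ω) fun w => ?_
        obtain ⟨a, ha, rfl⟩ := sylow_transitive htr hΩ P m w
        rw [one_smul, ← mul_smul, hulc a ha, mul_smul, hulm]
      exact mul_inv_eq_one.1 h1
    -- so `l = 1` and `y` lies in `P`
    have hyzl : y = z * l := by rw [hl, mul_inv_cancel_left]
    have h1 : z⁻¹ * l = l⁻¹ * z⁻¹ := by
      have := huy
      rw [hyzl, mul_inv_rev] at this
      rw [← this, ← hPinv z hz]
      conv_lhs => rw [← hulu]
      simp only [mul_assoc, show ∀ w : G, u * (u * w) = w from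
        fun w => by rw [← mul_assoc, hu2, one_mul]]
    have hl2 : l * l ∈ (P : Subgroup G) := by
      have h4 : l * l = l * (z * (l⁻¹ * z⁻¹)) := by rw [← h1, mul_inv_cancel_left]
      rw [h4, show l * (z * (l⁻¹ * z⁻¹)) = (l * z * l⁻¹) * z⁻¹ by group]
      exact mul_mem (hlP z hz) (inv_mem hz)
    have hl2' : l * l = 1 := hreg P _ hl2 m (by rw [mul_smul, hlm, hlm])
    have hl1 : l = 1 := by
      have hlD : l ∈ D := mul_mem (inv_mem (hPD hz)) hyD
      refine orderOf_eq_one_iff.1 (Nat.eq_one_of_dvd_coprimes hDodd.coprime_two_left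
        (orderOf_dvd_of_pow_eq_one (by rw [pow_two]; exact hl2')) (Subgroup.orderOf_dvd_natCard _ hlD))
    rw [hl1, mul_one] at hyzl
    exact hy1 (hyzl ▸ hreg P z hz o (hyzl ▸ ho))
  -- each point is the point of exactly one involution
  obtain ⟨s, hs⟩ := exists_prime_orderOf_dvd_card' 2 h2G
  have hord : ∀ (g t : G), orderOf t = 2 → orderOf (g * t * g⁻¹) = 2 := fun g t ht => by
    rw [← ht]; exact MulEquiv.orderOf_eq (MulAut.conj g) t
  have hex : ∀ w : Ω, ∃ (t : G) (ht : orderOf t = 2), pt t ht = w := by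
    intro w
    obtain ⟨g, hg⟩ := htr.exists_smul_eq (pt s hs) w
    refine ⟨g * s * g⁻¹, hord g s hs, (hptu _ (hord g s hs) w ?_).symm⟩
    rw [← hg, ← mul_smul, inv_mul_cancel_right, mul_smul, hpt s hs]
  choose iv hiv hivp using hex
  have huniq : ∀ (t : G) (ht : orderOf t = 2), t = iv (pt t ht) := by
    intro t ht
    refine eq_of_smul_eq_smul (α := Ω) fun o => ?_
    rcases eq_or_ne o (pt t ht) with rfl | hne
    · rw [hpt t ht]
      conv_rhs => arg 2; rw [← hivp (pt t ht) ]
      rw [hpt]
      exact (hivp _).symm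
    let f : {w : Ω // w ≠ o} → {w : Ω // w ≠ o} := fun w =>
      ⟨iv w.1 • o, fun e => w.2 (by
        rw [← hivp w.1]; exact (hptu _ (hiv _) o e).symm)⟩
    have hinj : Function.Injective f := by
      intro a b hab'
      by_contra hne'
      have he : iv a.1 • o = iv b.1 • o := congrArg Subtype.val hab'
      refine key _ _ (hiv a.1) (hiv b.1) (by
        rw [hivp, hivp]; exact fun e => hne' (Subtype.ext e)) o ?_
      rw [mul_smul, ← he, ← mul_smul, hinv _ (hiv _), one_smul]
    have hto : t • o ≠ o := fun e => hne (hptu t ht o e)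
    obtain ⟨w, hw⟩ := (Finite.injective_iff_surjective.1 hinj) ⟨t • o, hto⟩
    have hw' : iv w.1 • o = t • o := congrArg Subtype.val hw
    by_cases hwm : w.1 = pt t ht
    · rw [← hw', hwm]
    · exfalso
      refine key _ _ (hiv w.1) ht (by rw [hivp]; exact hwm) o ?_
      rw [mul_smul, ← hw', ← mul_smul, hinv _ (hiv _), one_smul]
  -- the involutions form the coset `P s`
  obtain ⟨P, hP, hP1⟩ := CfsgLib.BlockB.exists_sylow_inverted hp2 hno' h2p hs
  have hsi : s⁻¹ = s := inv_eq_of_mul_eq_one_right (hinv s hs)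
  have hPs : ∀ t : G, orderOf t = 2 → ∃ x ∈ (P : Subgroup G), t = x * s * x⁻¹ := by
    intro t ht
    obtain ⟨x, hx, hxw⟩ := sylow_transitive htr hΩ P (pt s hs) (pt t ht)
    refine ⟨x, hx, ?_⟩
    have h1 : pt (x * s * x⁻¹) (hord x s hs) = pt t ht := by
      refine (hptu _ (hord x s hs) _ ?_).symm
      rw [← hxw, ← mul_smul, inv_mul_cancel_right, mul_smul, hpt s hs]
    rw [huniq t ht, huniq _ (hord x s hs), h1]
  have hxsq : ∀ x ∈ (P : Subgroup G), x * s * x⁻¹ = x * x * s := by
    intro x hx
    have h1 := hP x hx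
    calc x * s * x⁻¹ = x * (s * (s * x * s)) := by rw [h1, mul_assoc]
      _ = x * x * s := by
        rw [← mul_assoc s, ← mul_assoc s, hinv s hs, one_mul, ← mul_assoc]
  have hnorm : (P : Subgroup G).Normal := by
    refine ⟨fun a ha g => ?_⟩
    have hprod : ∀ t₁ t₂ : G, orderOf t₁ = 2 → orderOf t₂ = 2 → t₁ * t₂ ∈ (P : Subgroup G) := by
      intro t₁ t₂ ht₁ ht₂
      obtain ⟨b, hb, rfl⟩ := hPs t₁ ht₁
      obtain ⟨c, hc, rfl⟩ := hPs t₂ ht₂
      rw [hxsq b hb, hxsq c hc]
      have h2 : s * (c * c) * s = (c * c)⁻¹ := hP _ (mul_mem hc hc)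
      rw [show b * b * s * (c * c * s) = b * b * (s * (c * c) * s) by simp only [mul_assoc], h2]
      exact mul_mem (mul_mem hb hb) (inv_mem (mul_mem hc hc))
    have has : orderOf (a * s) = 2 := by
      refine orderOf_eq_prime ?_ ?_
      · rw [pow_two, show a * s * (a * s) = a * (s * a * s) by simp only [mul_assoc], hP a ha,
          mul_inv_cancel]
      · intro e
        have hs' : s ∈ (P : Subgroup G) := by
          rw [eq_inv_of_mul_eq_one_right e]; exact inv_mem ha
        have := hreg P s hs' _ (hpt s hs)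
        rw [this, orderOf_one] at hs
        exact absurd hs (by norm_num)
    have e : g * a * g⁻¹ = (g * (a * s) * g⁻¹) * (g * s * g⁻¹) := by
      rw [show (g * (a * s) * g⁻¹) * (g * s * g⁻¹) = g * a * (s * s) * g⁻¹ by group, hinv s hs,
        mul_one]
    rw [e]
    exact hprod _ _ (hord g _ has) (hord g _ hs)
  refine ⟨?_, ?_⟩
  · refine ⟨2, ![⊥, (P : Subgroup G), ⊤], rfl, rfl, ?_, ?_, ?_⟩
    · refine Fin.monotone_iff_le_succ.2 fun i => ?_
      fin_cases i
      · exact bot_le
      · exact le_top
    · intro i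
      fin_cases i
      · exact (inferInstance : (⊥ : Subgroup G).Normal)
      · exact hnorm
      · exact (inferInstance : (⊤ : Subgroup G).Normal)
    · intro i
      fin_cases i
      · left
        refine ⟨(Nat.card G).factorization p, ?_⟩
        show (⊥ : Subgroup G).relIndex P = _
        rw [Subgroup.relIndex_bot_left, P.card_eq_multiplicity]
      · right
        show ((P : Subgroup G).relIndex ⊤).Coprime p
        rw [Subgroup.relIndex_top_right]
        exact (hp.coprime_iff_not_dvd.2 P.not_dvd_index).symm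
  · obtain ⟨x, hx, hx1⟩ := (Subgroup.bot_or_exists_ne_one (P : Subgroup G)).resolve_left hP1
    have hxp : ∃ k, orderOf x = p ^ k := by
      obtain ⟨k, hk⟩ := IsPGroup.iff_orderOf.1 P.isPGroup' ⟨x, hx⟩
      exact ⟨k, by rwa [Subgroup.orderOf_mk] at hk⟩
    haveI := hnorm
    refine exists_two_defect_zero (hC x hx1 hxp) (hcomm P) hx ?_
    rw [P.card_eq_multiplicity]
    exact hpodd.pow

end Cfsg.Agent.S4745
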