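import Cfsg.Statements.S4746
import Cfsg.Agent.Lib.BlockB.DefectCount
import Cfsg.Agent.Lib.BlockB.SqrtCount
import Cfsg.Agent.Lib.BlockB.ClassMul
import Cfsg.Agent.Lib.BlockB.PModular
import Cfsg.Agent.Lib.Block.Blocks

set_option autoImplicit false
open Cfsg

namespace Cfsg.Agent.S4746

/-- Let p be an odd prime and G a finite group of even order divisible by p in which the centralizer of every non-identity p-element has odd order. Then G has an irreducible character of p-defect zero or an irreducible character of even degree. -/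
theorem result {G : Type*} [Group G] [Finite G] (p : ℕ) [Fact p.Prime] (hp2 : p ≠ 2) (hpG : p ∣ Nat.card G) (h2G : 2 ∣ Nat.card G) (hC : ∀ g : G, g ≠ 1 → (∃ k : ℕ, orderOf g = p ^ k) → Odd (Nat.card ↥(Subgroup.centralizer ({g} : Set G)))) : (∃ χ : Cfsg.IrrCharacter G, (Cfsg.charDegree (χ : G → ℂ)).factorization p = (Nat.card G).factorization p) ∨ ∃ χ : Cfsg.IrrCharacter G, Even (Cfsg.charDegree (χ : G → ℂ)) := by
  classical
  refine Classical.or_iff_not_imp_left.2 fun hno => ?_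
  push Not at hno
  by_contra hodd
  push Not at hodd
  have := Fintype.ofFinite G
  have := Fintype.ofFinite (Cfsg.IrrCharacter G)
  have hp : p.Prime := Fact.out
  have h2p : ∀ g : G, orderOf g ≠ 2 * p := by
    intro g hg
    have h2 : orderOf (g ^ 2) = p := by
      rw [orderOf_pow_of_dvd (by norm_num) (hg ▸ dvd_mul_right 2 p), hg]
      exact Nat.mul_div_cancel_left p (by norm_num)
    have hC2 := hC (g ^ 2) (fun e => hp.ne_one (by rw [← h2, e, orderOf_one]))
      ⟨1, by rw [h2, pow_one]⟩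
    have hmem : g ∈ Subgroup.centralizer ({g ^ 2} : Set G) :=
      Subgroup.mem_centralizer_singleton_iff.2 (Commute.self_pow g 2).eq
    have := hC2.of_dvd_nat (Subgroup.orderOf_mk g hmem ▸
      orderOf_dvd_natCard (⟨g, hmem⟩ : Subgroup.centralizer ({g ^ 2} : Set G)))
    rw [hg] at this
    exact Nat.not_even_iff_odd.2 this (even_two_mul p)
  obtain ⟨s, hs⟩ := exists_prime_orderOf_dvd_card' 2 h2G
  obtain ⟨Q, hQ, -⟩ := CfsgLib.BlockB.exists_sylow_inverted hp2 hno h2p hs
  -- a real element with centralizer of odd order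
  obtain ⟨u, huQ, hu1⟩ : ∃ u ∈ (Q : Subgroup G), u ≠ 1 := by
    by_contra hall
    push Not at hall
    have h1 : Nat.card ↥(Q : Subgroup G) = 1 :=
      Subgroup.card_eq_one.2 ((Subgroup.eq_bot_iff_forall _).2 hall)
    rw [Q.card_eq_multiplicity] at h1
    have := Nat.Prime.factorization_pos_of_dvd hp Nat.card_pos.ne' hpG
    exact absurd h1 (Nat.one_lt_pow this.ne' hp.one_lt).ne'
  have hureal : IsConj u u⁻¹ := by
    refine isConj_iff.2 ⟨s, ?_⟩
    have hs2 : s * s = 1 := by rw [← pow_two, ← hs, pow_orderOf_eq_one]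
    rw [inv_eq_of_mul_eq_one_right hs2]
    exact hQ u huQ
  have hup : ∃ k : ℕ, orderOf u = p ^ k := by
    obtain ⟨k, hk⟩ := (IsPGroup.iff_orderOf.1 Q.isPGroup') ⟨u, huQ⟩
    exact ⟨k, by rw [← hk, ← Subgroup.orderOf_coe]⟩
  have huC : Odd (Nat.card (Subgroup.centralizer ({u} : Set G))) := hC u hu1 hup
  have hreal : ∀ χ : Cfsg.IrrCharacter G,
      (starRingEnd ℂ) ((χ : G → ℂ) u) = (χ : G → ℂ) u := fun χ => by
    rw [← CfsgLib.Char.char_inv (CfsgLib.Char.irr_isCharacter χ.2)]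
    exact (CfsgLib.Char.isClassFunction_isConj (CfsgLib.Char.irr_isClassFunction χ.2) hureal).symm
  have hsq : CfsgLib.BlockB.sqrtCount u = 1 := by
    obtain ⟨m, hm⟩ : Odd (orderOf u) := huC.of_dvd_nat (by
      have hmem : u ∈ Subgroup.centralizer ({u} : Set G) :=
        Subgroup.mem_centralizer_singleton_iff.2 rfl
      exact Subgroup.orderOf_mk u hmem ▸
        orderOf_dvd_natCard (⟨u, hmem⟩ : Subgroup.centralizer ({u} : Set G)))
    have hroot : (u ^ (m + 1)) * (u ^ (m + 1)) = u := by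
      rw [← pow_add, show m + 1 + (m + 1) = 2 * m + 1 + 1 by omega, pow_succ, ← hm,
        pow_orderOf_eq_one, one_mul]
    simp only [CfsgLib.BlockB.sqrtCount]
    rw [Nat.cast_eq_one, Finset.card_eq_one]
    refine ⟨u ^ (m + 1), Finset.eq_singleton_iff_unique_mem.2
      ⟨Finset.mem_filter.2 ⟨Finset.mem_univ _, hroot⟩, fun x hx => ?_⟩⟩
    have hxu : x * x = u := (Finset.mem_filter.1 hx).2
    have hxC : x ∈ Subgroup.centralizer ({u} : Set G) :=
      Subgroup.mem_centralizer_singleton_iff.2 (by rw [← hxu]; group)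
    have hox : Odd (orderOf x) :=
      huC.of_dvd_nat (Subgroup.orderOf_mk x hxC ▸
        orderOf_dvd_natCard (⟨x, hxC⟩ : Subgroup.centralizer ({u} : Set G)))
    obtain ⟨n, hn⟩ := hox
    have h1 : x = u ^ (n + 1) := by
      rw [← hxu, ← pow_two, ← pow_mul, show 2 * (n + 1) = 2 * n + 1 + 1 by omega, pow_succ,
        ← hn, pow_orderOf_eq_one, one_mul]
    have hc : Commute x (u ^ (m + 1)) := by rw [h1]; exact Commute.pow_pow_self u _ _
    have hd2 : (x * (u ^ (m + 1))⁻¹) * (x * (u ^ (m + 1))⁻¹) = 1 := by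
      rw [mul_assoc, ← mul_assoc _ x, ← (hc.inv_right).eq, mul_assoc x, ← mul_inv_rev, hroot,
        ← mul_assoc, hxu, mul_inv_cancel]
    have hdC : x * (u ^ (m + 1))⁻¹ ∈ Subgroup.centralizer ({u} : Set G) :=
      mul_mem hxC (inv_mem (pow_mem (Subgroup.mem_centralizer_singleton_iff.2 rfl) _))
    have hd1 : orderOf (x * (u ^ (m + 1))⁻¹) ∣ 2 :=
      orderOf_dvd_of_pow_eq_one (by rw [pow_two, hd2])
    rcases (Nat.dvd_prime Nat.prime_two).1 hd1 with h | h
    · exact mul_inv_eq_one.1 (orderOf_eq_one_iff.1 h)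
    · have h3 := huC.of_dvd_nat (Subgroup.orderOf_mk _ hdC ▸ orderOf_dvd_natCard
        (⟨_, hdC⟩ : Subgroup.centralizer ({u} : Set G)))
      rw [h] at h3
      exact absurd h3 (by decide)
  obtain ⟨M, hM⟩ := CfsgLib.BlockB.exists_isPModular Nat.prime_two
  let q := Ideal.Quotient.mk M
  have h2q : q 2 = 0 := Ideal.Quotient.eq_zero_iff_mem.2 hM.2.2
  let val : Cfsg.IrrCharacter G → Cfsg.AlgInt := fun χ =>
    ⟨(χ : G → ℂ) u, CfsgLib.BlockB.irr_isIntegral χ u⟩
  let nu : Cfsg.IrrCharacter G → ℤ := fun χ =>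
    if CfsgLib.BlockB.fsInd χ = 1 then 1 else if CfsgLib.BlockB.fsInd χ = -1 then -1 else 0
  have hnu : ∀ χ, ((nu χ : ℤ) : ℂ) = CfsgLib.BlockB.fsInd χ := fun χ => by
    simp only [nu]
    rcases CfsgLib.BlockB.fsInd_cases χ with ⟨h, -⟩ | ⟨h | h, -⟩ <;> rw [h] <;> norm_num
  let F : Cfsg.IrrCharacter G → Cfsg.AlgInt := fun χ =>
    ((Cfsg.charDegree (χ : G → ℂ) : ℤ) - nu χ : ℤ) * val χ
  let σ : Cfsg.IrrCharacter G → Cfsg.IrrCharacter G := fun χ =>
    ⟨fun g => (starRingEnd ℂ) ((χ : G → ℂ) g), CfsgLib.Char.isIrrCharacter_conj χ.2⟩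
  have hdeg : ∀ χ : Cfsg.IrrCharacter G,
      ((Cfsg.charDegree (χ : G → ℂ) : ℕ) : ℂ) = (χ : G → ℂ) 1 := fun χ =>
    CfsgLib.BlockB.charDegree_cast (CfsgLib.Char.irr_isCharacter χ.2)
  have hσd : ∀ χ, Cfsg.charDegree (σ χ : G → ℂ) = Cfsg.charDegree (χ : G → ℂ) := fun χ => by
    simp [σ, Cfsg.charDegree]
  have hsum : ∑ χ, q (F χ) = 0 := by
    refine Finset.sum_involution (fun χ _ => σ χ) (fun χ _ => ?_) (fun χ _ hne => ?_)
      (fun χ _ => Finset.mem_univ _) (fun χ _ => ?_)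
    · have hv : val (σ χ) = val χ := Subtype.ext (hreal χ)
      have hnuσ : nu (σ χ) = nu χ := by
        apply Int.cast_injective (α := ℂ)
        rw [hnu, hnu]
        rcases CfsgLib.BlockB.fsInd_cases χ with ⟨h, hi⟩ | ⟨-, hr⟩
        · rcases CfsgLib.BlockB.fsInd_cases (σ χ) with ⟨h', -⟩ | ⟨-, hr'⟩
          · rw [h, h']
          · exact absurd (fun g => by simpa [σ] using hr' g) hi
        · have : σ χ = χ := Subtype.ext (funext fun g => Complex.conj_eq_iff_im.2 (hr g))
          rw [this]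
      rw [show F (σ χ) = F χ from by simp only [F, hσd, hv, hnuσ], ← two_mul,
        ← map_ofNat q 2, h2q, zero_mul]
    · intro hfix
      apply hne
      have hr : ∀ g, ((χ : G → ℂ) g).im = 0 := fun g =>
        Complex.conj_eq_iff_im.1 (congrFun (congrArg Subtype.val hfix) g)
      have hd : Odd (Cfsg.charDegree (χ : G → ℂ)) := Nat.not_even_iff_odd.1 (hodd χ)
      have hn : Odd (nu χ) := by
        rcases CfsgLib.BlockB.fsInd_cases χ with ⟨-, hi⟩ | ⟨h | h, -⟩
        · exact absurd hr hi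
        · simp only [nu, if_pos h]; decide
        · simp only [nu, h]; norm_num
      obtain ⟨k, hk⟩ := (((Int.odd_coe_nat _).2 hd).sub_odd hn)
      simp only [F, hk, ← two_mul, Int.cast_mul, Int.cast_ofNat, map_mul, h2q, zero_mul]
    · exact Subtype.ext (funext fun g => Complex.conj_conj _)
  have hone : ∑ χ, F χ = -1 := by
    apply Subtype.ext
    push_cast [AddSubmonoidClass.coe_finsetSum, F, val]
    rw [Finset.sum_congr rfl (g := fun χ : Cfsg.IrrCharacter G =>
        (χ : G → ℂ) u * (starRingEnd ℂ) ((χ : G → ℂ) 1) -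
          CfsgLib.BlockB.fsInd χ * (χ : G → ℂ) u) (fun χ _ => by
      rw [hnu, ← hdeg χ, map_natCast]; ring), Finset.sum_sub_distrib,
      ← CfsgLib.BlockB.sqrtCount_eq_sum, hsq, CfsgLib.Char.column_orthogonality, if_neg]
    · norm_num
    · rw [isConj_one_left]; exact hu1
  rw [← map_sum, hone, map_neg, map_one, neg_eq_zero] at hsum
  have := hM.2.1.isPrime
  exact one_ne_zero hsum

end Cfsg.Agent.S4746
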