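import Cfsg.Statements.S4748
import Cfsg.Agent.Lib.BlockB.PSolvableCentralizer
import Cfsg.Agent.Lib.BlockB.FpfClassTwo
import Cfsg.Agent.Lib.BlockB.ClassMul
import Cfsg.Agent.Lib.Coprime.Action
import Cfsg.Agent.Lib.Coprime.Sylow

set_option autoImplicit false
open scoped Pointwise
open Cfsg

namespace Cfsg.Agent.S4748

/-- Let G be a finite p-solvable group whose Sylow p-subgroup P meets each conjugate g P g⁻¹ with g outside N_G(P) trivially, and let χ be a faithful character of G (χ g = χ 1 only for g = 1) whose degree d satisfies d² ≤ |P|. Then P is normal in G. -/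
theorem result {G : Type*} [Group G] [Finite G] (p : ℕ) [Fact p.Prime] (hsolv : Cfsg.IsPSolvable p G) (P : Sylow p G) (hTI : ∀ g : G, g ∉ Subgroup.normalizer ((P : Subgroup G) : Set G) → (P : Subgroup G) ⊓ (MulAut.conj g • (P : Subgroup G)) = ⊥) (χ : G → ℂ) (hχ : Cfsg.IsCharacter G χ) (hfaith : ∀ g : G, χ g = χ 1 → g = 1) (hdeg : Cfsg.charDegree χ ^ 2 ≤ Nat.card ↥(P : Subgroup G)) : (P : Subgroup G).Normal := by
  classical
  have := Fintype.ofFinite G
  have hp : p.Prime := Fact.out
  by_contra hPn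
  set Pg : Subgroup G := (P : Subgroup G) with hPg
  have hPn' : ∀ g : G, g ∈ Subgroup.normalizer (Pg : Set G) ∨
      ∀ z, z ∈ Pg → g⁻¹ * z * g ∈ Pg → z = 1 := by
    intro g
    by_cases hg : g ∈ Subgroup.normalizer (Pg : Set G)
    · exact Or.inl hg
    · refine Or.inr fun z hz hz' => ?_
      have h : z ∈ Pg ⊓ (MulAut.conj g • Pg) := ⟨hz, by
        show z ∈ MulAut.conj g • Pg
        rw [Subgroup.mem_pointwise_smul_iff_inv_smul_mem, MulAut.smul_def, MulAut.conj_inv_apply]
        exact hz'⟩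
      rwa [hTI g hg, Subgroup.mem_bot] at h
  -- the `p`-core is trivial
  have hpc : Cfsg.pCore p G = ⊥ := by
    by_contra hne
    obtain ⟨z, hz, hz1⟩ : ∃ z ∈ Cfsg.pCore p G, z ≠ 1 := by
      by_contra h
      push Not at h
      exact hne ((Subgroup.eq_bot_iff_forall _).2 h)
    apply hPn
    refine Subgroup.normalizer_eq_top_iff.1 (eq_top_iff.2 fun g _ => (hPn' g).resolve_right ?_)
    intro h
    refine hz1 (h z (CfsgLib.Solvable.pCore_le_sylow P hz) (CfsgLib.Solvable.pCore_le_sylow P ?_))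
    have := CfsgLib.Solvable.pCore_normal p G
    have h3 := this.conj_mem z hz g⁻¹
    rwa [inv_inv] at h3
  set K := Cfsg.pPrimeCore p G with hK
  have hKn : K.Normal := CfsgLib.Solvable.pPrimeCore_normal p G
  have hPK : Pg ⊓ K = ⊥ := by
    obtain ⟨k, hk⟩ := IsPGroup.iff_card.1 P.isPGroup'
    refine Subgroup.inf_eq_bot_of_coprime (hk ▸ (Nat.Coprime.pow_left _ ?_))
    exact (CfsgLib.Solvable.pPrimeCore_coprime p).symm
  have hPnorm : ∀ H : Subgroup G, H.Normal → Pg ≤ Subgroup.normalizer (H : Set G) := fun H hH => by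
    rw [Subgroup.normalizer_eq_top_iff.2 hH]; exact le_top
  have hP1 : Pg ≠ ⊥ := fun e => hPn (by show Pg.Normal; rw [e]; infer_instance)
  have hKP : ¬ K ≤ Subgroup.centralizer (Pg : Set G) := fun h => by
    apply hP1
    have h1 : Pg ≤ K := (Subgroup.le_centralizer_iff.1 h).trans
      (CfsgLib.BlockB.centralizer_pPrimeCore_le_of_isPSolvable hsolv hpc)
    rw [← hPK, inf_eq_left.2 h1]
  -- centralizers in `K` of nontrivial elements of `P`
  have hCK : ∀ x ∈ Pg, x ≠ 1 → ∀ c ∈ K, c * x = x * c → c ∈ Subgroup.centralizer (Pg : Set G) := by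
    intro x hx hx1 c hc hcx
    have hcN : c ∈ Subgroup.normalizer (Pg : Set G) := (hPn' c).resolve_right fun h =>
      hx1 (h x hx (by rw [mul_assoc, ← hcx, inv_mul_cancel_left]; exact hx))
    rw [Subgroup.mem_centralizer_iff]
    intro y hy
    have h1 : c * y * c⁻¹ * y⁻¹ ∈ Pg ⊓ K := ⟨Pg.mul_mem
      ((Subgroup.mem_normalizer_iff.1 hcN y).1 hy) (Pg.inv_mem hy), by
        rw [show c * y * c⁻¹ * y⁻¹ = c * (y * c⁻¹ * y⁻¹) by group]
        exact mul_mem hc (hKn.conj_mem _ (inv_mem hc) y)⟩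
    rw [hPK, Subgroup.mem_bot, mul_inv_eq_one, mul_inv_eq_iff_eq_mul] at h1
    exact h1.symm
  have hsP : Group.IsSolvable Pg := by
    have := P.isPGroup'.isNilpotent
    infer_instance
  have hcopK : (Nat.card Pg).Coprime (Nat.card K) := by
    obtain ⟨k, hk⟩ := IsPGroup.iff_card.1 P.isPGroup'
    rw [hk]
    exact Nat.Coprime.pow_left _ (CfsgLib.Solvable.pPrimeCore_coprime p).symm
  -- an invariant nilpotent subgroup of `K` not centralised by `P`
  obtain ⟨R₀, hR₀⟩ : ∃ R : Subgroup G, R ≤ K ∧ Pg ≤ Subgroup.normalizer (R : Set G) ∧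
      Group.IsNilpotent R ∧ ¬ R ≤ Subgroup.centralizer (Pg : Set G) := by
    by_contra hall
    push Not at hall
    apply hKP
    have hdvd : Nat.card K ∣ Nat.card ↥(K ⊓ Subgroup.centralizer (Pg : Set G)) := by
      refine (Nat.dvd_iff_prime_pow_dvd_dvd _ _).2 fun q k hq hqk => ?_
      have := Fact.mk hq
      obtain ⟨Q, hQ⟩ := CfsgLib.Coprime.exists_invariant_sylow (hPnorm K hKn) hcopK (Or.inl hsP) q
      have hnil : Group.IsNilpotent ↥((Q : Subgroup K).map K.subtype) :=
        (Q.isPGroup'.map _).isNilpotent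
      have hle : (Q : Subgroup K).map K.subtype ≤ K ⊓ Subgroup.centralizer (Pg : Set G) :=
        le_inf (Subgroup.map_subtype_le _) (hall _ (Subgroup.map_subtype_le _) hQ hnil)
      refine dvd_trans ?_ (Subgroup.card_dvd_of_le hle)
      rw [Subgroup.card_subtype, Q.card_eq_multiplicity]
      exact pow_dvd_pow q ((Nat.Prime.pow_dvd_iff_le_factorization hq Nat.card_pos.ne').1 hqk)
    exact inf_eq_left.1 (Subgroup.eq_of_le_of_card_ge inf_le_left
      (Nat.le_of_dvd Nat.card_pos hdvd))
  obtain ⟨⟨R, hRK, hPR, hRnil, hRC⟩, hmin⟩ := @Finite.exists_min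
    {R : Subgroup G // R ≤ K ∧ Pg ≤ Subgroup.normalizer (R : Set G) ∧ Group.IsNilpotent R ∧
      ¬ R ≤ Subgroup.centralizer (Pg : Set G)} ℕ _ ⟨⟨R₀, hR₀⟩⟩ _ (fun R => Nat.card R.1)
  have hsmall : ∀ S : Subgroup G, S ≤ R → Pg ≤ Subgroup.normalizer (S : Set G) → S ≠ R →
      S ≤ Subgroup.centralizer (Pg : Set G) := by
    intro S hSR hS hne
    by_contra hSC
    have hnil : Group.IsNilpotent S := Group.nilpotent_of_mulEquiv (Subgroup.subgroupOfEquivOfLe hSR)
    exact hne (Subgroup.eq_of_le_of_card_ge hSR (hmin ⟨S, hSR.trans hRK, hS, hnil, hSC⟩))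
  have hcopR : (Nat.card Pg).Coprime (Nat.card R) :=
    hcopK.coprime_dvd_right (Subgroup.card_dvd_of_le hRK)
  have hcommR : ∀ y ∈ Pg, ∀ r ∈ R, y * r * y⁻¹ ∈ R := fun y hy r hr =>
    (Subgroup.mem_normalizer_iff.1 (hPR hy) r).1 hr
  have hmapR : ∀ y ∈ Pg, R.map (MulAut.conj y).toMonoidHom = R := fun y hy =>
    Subgroup.eq_of_le_of_card_ge (by
      rintro _ ⟨r, hr, rfl⟩; exact hcommR y hy r hr)
      (le_of_eq (Subgroup.card_map_of_injective (MulAut.conj y).injective).symm)
  have hinv : ∀ S : Subgroup G, (∀ y ∈ Pg, S.map (MulAut.conj y).toMonoidHom = S) →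
      Pg ≤ Subgroup.normalizer (S : Set G) := by
    intro S hS y hy
    rw [Subgroup.mem_normalizer_iff]
    intro z
    constructor
    · intro hz
      rw [← hS y hy]
      exact Subgroup.mem_map_of_mem _ hz
    · intro hz
      rw [← hS y hy, Subgroup.mem_map] at hz
      obtain ⟨w, hw, hwz⟩ := hz
      rwa [(MulAut.conj y).injective hwz] at hw
  have hmapP : ∀ y ∈ Pg, Pg.map (MulAut.conj y).toMonoidHom = Pg := fun y hy =>
    Subgroup.eq_of_le_of_card_ge (by
      rintro _ ⟨r, hr, rfl⟩; exact mul_mem (mul_mem hy hr) (inv_mem hy))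
      (le_of_eq (Subgroup.card_map_of_injective (MulAut.conj y).injective).symm)
  have hRP : ⁅R, Pg⁆ = R := by
    have hle : ⁅R, Pg⁆ ≤ R := Subgroup.commutator_le.2 fun r hr y hy => by
      rw [commutatorElement_def, mul_assoc, mul_assoc, ← mul_assoc y r⁻¹]
      exact mul_mem hr (hcommR y hy _ (inv_mem hr))
    by_contra hne
    apply hRC
    have h1 : ⁅R, Pg⁆ ≤ Subgroup.centralizer (Pg : Set G) := hsmall _ hle
      (hinv _ fun y hy => by rw [Subgroup.map_commutator, hmapR y hy, hmapP y hy]) hne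
    have h2 := CfsgLib.Coprime.commutator_commutator_eq hPR hcopR (Or.inl hsP)
    rw [Subgroup.commutator_eq_bot_iff_le_centralizer.2 h1, eq_comm,
      Subgroup.commutator_eq_bot_iff_le_centralizer] at h2
    exact h2
  have hD : ⁅R, R⁆ ≤ Subgroup.centralizer (Pg : Set G) := by
    refine hsmall _ (Subgroup.commutator_le.2 fun a ha b hb => by
      rw [commutatorElement_def]; exact mul_mem (mul_mem (mul_mem ha hb) (inv_mem ha)) (inv_mem hb))
      (hinv _ fun y hy => by rw [Subgroup.map_commutator, hmapR y hy]) ?_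
    intro e
    have : Nontrivial R := by
      rw [Subgroup.nontrivial_iff_ne_bot]
      exact fun e => hRC (e ▸ bot_le)
    refine (Group.IsSolvable.commutator_lt_top_of_nontrivial R).ne ?_
    apply Subgroup.map_injective R.subtype_injective
    rw [R.map_subtype_commutator, e, ← MonoidHom.range_eq_map, R.range_subtype]
  -- `C_R(P)` is central in `R`
  have hCcen : ∀ c ∈ R ⊓ Subgroup.centralizer (Pg : Set G), ∀ r ∈ R, c * r = r * c := by
    have h3 : ⁅⁅R, Pg⁆, R ⊓ Subgroup.centralizer (Pg : Set G)⁆ = ⊥ := by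
      refine Subgroup.commutator_commutator_eq_bot_of_rotate ?_ ?_
      · rw [Subgroup.commutator_comm Pg,
          Subgroup.commutator_eq_bot_iff_le_centralizer.2 inf_le_right,
          Subgroup.commutator_bot_left]
      · rw [Subgroup.commutator_eq_bot_iff_le_centralizer]
        exact (Subgroup.commutator_mono inf_le_left le_rfl).trans hD
    rw [hRP, Subgroup.commutator_eq_bot_iff_le_centralizer] at h3
    intro c hc r hr
    exact Subgroup.mem_centralizer_iff.1 (h3 hr) c hc
  let C : Subgroup R := (Subgroup.centralizer (Pg : Set G)).subgroupOf R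
  have hCle : C ≤ Subgroup.center R := fun c hc => Subgroup.mem_center_iff.2 fun r =>
    Subtype.ext (hCcen (c : G) ⟨c.2, hc⟩ r r.2).symm
  have hCcomm : ∀ a b : R, a * b * a⁻¹ * b⁻¹ ∈ C := fun a b => hD
    (Subgroup.commutator_mem_commutator a.2 b.2)
  let α : Pg →* MulAut R :=
    { toFun := fun y =>
        { toFun := fun r => ⟨(y : G) * r * (y : G)⁻¹, hcommR y y.2 r r.2⟩
          invFun := fun r => ⟨(y : G)⁻¹ * r * (y : G), by
            have := hcommR _ (inv_mem y.2) r r.2
            rwa [inv_inv] at this⟩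
          left_inv := fun r => Subtype.ext (by simp [mul_assoc])
          right_inv := fun r => Subtype.ext (by simp [mul_assoc])
          map_mul' := fun r s => Subtype.ext (by simp [mul_assoc]) }
      map_one' := MulEquiv.ext fun r => Subtype.ext (by simp)
      map_mul' := fun y z => MulEquiv.ext fun r => Subtype.ext (by simp [mul_assoc]) }
  have hαC : ∀ y : Pg, ∀ c ∈ C, α y c = c := fun y c hc => Subtype.ext (by
    change (y : G) * c * (y : G)⁻¹ = c
    have h1 : (y : G) * (c : G) = (c : G) * y := Subgroup.mem_centralizer_iff.1 hc (y : G) y.2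
    rw [h1, mul_inv_cancel_right])
  have hfpf : ∀ y : Pg, y ≠ 1 → ∀ r : R, r⁻¹ * α y r ∈ C → r ∈ C := by
    intro y hy r hr
    set N := R ⊓ Subgroup.centralizer (Pg : Set G) with hN
    have hy' : (y : G) ≠ 1 := fun e => hy (Subtype.ext e)
    have hA : Subgroup.zpowers (y : G) ≤ Pg := Subgroup.zpowers_le.2 y.2
    have hAN : Subgroup.zpowers (y : G) ≤ Subgroup.normalizer (N : Set G) := by
      refine le_trans hA (hinv N fun z hz => ?_)
      refine Subgroup.eq_of_le_of_card_ge ?_
        (le_of_eq (Subgroup.card_map_of_injective (MulAut.conj z).injective).symm)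
      rintro _ ⟨w, hw, rfl⟩
      simp only [MulEquiv.coe_toMonoidHom, MulAut.conj_apply]
      rw [Subgroup.mem_centralizer_iff.1 hw.2 z hz, mul_inv_cancel_right]
      exact hw
    have hcoset : ∀ a ∈ Subgroup.zpowers (y : G), (r : G)⁻¹ * a * r * a⁻¹ ∈ N := by
      intro a ha
      rw [← mem_powers_iff_mem_zpowers] at ha
      obtain ⟨k, rfl⟩ := Submonoid.mem_powers_iff _ _ |>.1 ha
      induction k with
      | zero => simp [N.one_mem]
      | succ k ih =>
        have hk : (y : G) ^ k ∈ Pg := pow_mem y.2 k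
        have h1 : (r : G)⁻¹ * y * r * (y : G)⁻¹ ∈ N := by
          have : (r : G)⁻¹ * y * r * (y : G)⁻¹ = ((r⁻¹ * α y r : R) : G) := by
            simp [α, mul_assoc]
          rw [this]
          exact ⟨(r⁻¹ * α y r).2, hr⟩
        have h2 : (y : G) ^ k * ((r : G)⁻¹ * y * r * (y : G)⁻¹) * ((y : G) ^ k)⁻¹ ∈ N := by
          rw [Subgroup.mem_centralizer_iff.1 h1.2 _ hk, mul_inv_cancel_right]
          exact h1
        have h3 := mul_mem (ih ((mem_powers_iff_mem_zpowers).2 ⟨k, zpow_natCast _ _⟩)) h2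
        convert h3 using 1
        rw [pow_succ]; group
    obtain ⟨n, hn, hgn⟩ := CfsgLib.Coprime.exists_mem_centralizer_of_coset (hA.trans hPR) hAN
      inf_le_left (hcopR.coprime_dvd_left (Subgroup.card_dvd_of_le hA))
      (Or.inl (by
        have := (P.isPGroup'.to_le hA).isNilpotent
        infer_instance)) r.2 hcoset
    have hc1 : (r : G) * n ∈ Subgroup.centralizer (Pg : Set G) :=
      hCK y y.2 hy' _ (mul_mem (hRK r.2) (hRK hn.1))
        (Subgroup.mem_centralizer_iff.1 hgn y (Subgroup.mem_zpowers _)).symm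
    have h3 := mul_mem hc1 (inv_mem hn.2)
    rwa [mul_inv_cancel_right] at h3
  -- the restriction of `χ`
  have := Fintype.ofFinite R
  have := Fintype.ofFinite (Cfsg.IrrCharacter R)
  have hres : Cfsg.IsCharacter R (fun r : R => χ r) := CfsgLib.Char.isCharacter_restrict hχ R
  choose n hn using fun θ : Cfsg.IrrCharacter R =>
    CfsgLib.Char.classInner_isCharacter_nat hres (CfsgLib.Char.irr_isCharacter θ.2)
  have hexp : ∀ r : R, χ r = ∑ θ : Cfsg.IrrCharacter R, (n θ : ℂ) * (θ : R → ℂ) r := fun r => by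
    refine (CfsgLib.Char.classFunction_apply_eq_sum
      (CfsgLib.Char.isCharacter_isClassFunction hres) r).trans (Finset.sum_congr rfl fun θ _ => ?_)
    rw [hn]
  have hd : ∑ θ : Cfsg.IrrCharacter R, n θ * Cfsg.charDegree (θ : R → ℂ) = Cfsg.charDegree χ := by
    have h1 := hexp 1
    rw [OneMemClass.coe_one, ← CfsgLib.BlockB.charDegree_cast hχ,
      Finset.sum_congr rfl fun θ _ => by rw [← CfsgLib.BlockB.irr_degree_cast θ]] at h1
    exact_mod_cast h1.symm
  obtain ⟨ψ, hψn, hψ1⟩ : ∃ ψ : Cfsg.IrrCharacter R, n ψ ≠ 0 ∧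
      ¬ ∀ r, (ψ : R → ℂ) r = (ψ : R → ℂ) 1 := by
    by_contra hall
    push Not at hall
    apply hRC
    intro r hr
    have hr1 : r = 1 := hfaith r (by
      have h1 := hexp ⟨r, hr⟩
      have h2 := hexp 1
      rw [OneMemClass.coe_one] at h2
      rw [show χ r = χ ((⟨r, hr⟩ : R) : G) from rfl, h1, h2]
      refine Finset.sum_congr rfl fun θ _ => ?_
      by_cases h : n θ = 0
      · simp [h]
      · rw [hall θ h ⟨r, hr⟩])
    rw [hr1]; exact one_mem _
  let act : Pg → Cfsg.IrrCharacter R := fun y => ⟨(ψ : R → ℂ) ∘ (α y).toMonoidHom,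
    CfsgLib.Char.isIrrCharacter_comp_surjective ψ.2 _ (α y).surjective⟩
  let S : Subgroup Pg :=
    { carrier := {y | ∀ r, (ψ : R → ℂ) (α y r) = (ψ : R → ℂ) r}
      one_mem' := fun r => by simp
      mul_mem' := fun {a b} ha hb r => by rw [map_mul, MulAut.mul_apply, ha, hb]
      inv_mem' := fun {a} ha r => by
        rw [← ha (α a⁻¹ r), ← MulAut.mul_apply, ← map_mul, mul_inv_cancel, map_one,
          MulAut.one_apply] }
  set O : Finset (Cfsg.IrrCharacter R) := Finset.univ.image act with hO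
  have horb : Nat.card Pg ≤ Nat.card S * O.card := by
    have := Fintype.ofFinite S
    rw [Nat.card_eq_fintype_card, ← Finset.card_univ, hO]
    refine (Finset.card_le_mul_card_image (f := act) (s := (Finset.univ : Finset Pg))
      (n := Nat.card S) fun θ hθ => ?_)
    obtain ⟨y₀, -, rfl⟩ := Finset.mem_image.1 hθ
    rw [Nat.card_eq_fintype_card, ← Finset.card_univ]
    refine Finset.card_le_card_of_injOn
      (fun y => if h : y * y₀⁻¹ ∈ S then ⟨_, h⟩ else 1) (fun _ _ => by simp) ?_
    have hmem : ∀ {y : Pg}, act y = act y₀ → y * y₀⁻¹ ∈ S := by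
      intro y he r
      have h1 : (ψ : R → ℂ) (α y (α y₀⁻¹ r)) = (ψ : R → ℂ) (α y₀ (α y₀⁻¹ r)) :=
        congrFun (congrArg Subtype.val he) (α y₀⁻¹ r)
      rwa [← MulAut.mul_apply, ← MulAut.mul_apply, ← map_mul, ← map_mul, mul_inv_cancel, map_one,
        MulAut.one_apply] at h1
    intro a ha b hb hab
    simp only [Finset.coe_filter, Finset.mem_univ, true_and] at ha hb
    simp only [dif_pos (hmem ha), dif_pos (hmem hb), Subtype.mk.injEq, mul_left_inj] at hab
    exact hab
  have hOdeg : O.card * Cfsg.charDegree (ψ : R → ℂ) ≤ Cfsg.charDegree χ := by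
    rw [← hd, ← smul_eq_mul]
    refine le_trans ?_ (Finset.sum_le_sum_of_subset (Finset.subset_univ O))
    refine Finset.card_nsmul_le_sum _ _ _ fun θ hθ => ?_
    obtain ⟨y, -, rfl⟩ := Finset.mem_image.1 hθ
    have hny : n (act y) = n ψ := by
      apply Nat.cast_injective (R := ℂ)
      rw [← hn, ← hn, CfsgLib.Char.classInner_def, CfsgLib.Char.classInner_def]
      congr 1
      refine Fintype.sum_equiv (α y).toEquiv _ _ fun r => ?_
      simp only [act, MulEquiv.toEquiv_eq_coe, MulEquiv.coe_toEquiv, Function.comp_apply,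
        MulEquiv.coe_toMonoidHom]
      congr 1
      exact (CfsgLib.Char.isCharacter_isClassFunction hχ (r : G) (y : G)).symm
    have hdy : Cfsg.charDegree (act y : R → ℂ) = Cfsg.charDegree (ψ : R → ℂ) := by
      simp [act, Cfsg.charDegree]
    rw [hny, hdy]
    exact Nat.le_mul_of_pos_left _ (Nat.pos_of_ne_zero hψn)
  have hlin : Cfsg.charDegree (ψ : R → ℂ) = 1 → Nat.card S = 1 := by
    intro h1
    rw [Subgroup.card_eq_one, Subgroup.eq_bot_iff_forall]
    intro y hy
    by_contra hy1
    apply hψ1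
    obtain ⟨ψf, m, ρ, hρ, rfl⟩ := ψ
    simp only at h1 ⊢
    have hm : m = 1 := by simpa [Cfsg.charDegree, Representation.char_one] using h1
    subst hm
    have hmul : ∀ a b : R, ρ.character (a * b) = ρ.character a * ρ.character b := fun a b => by
      have hscal : ∀ T : (Fin 1 → ℂ) →ₗ[ℂ] (Fin 1 → ℂ),
          T = LinearMap.trace ℂ (Fin 1 → ℂ) T • LinearMap.id := fun T => by
        refine LinearMap.ext fun v => funext fun i => ?_
        rw [LinearMap.trace_eq_matrix_trace ℂ (Pi.basisFun ℂ (Fin 1)), Matrix.trace]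
        fin_cases i
        simp only [Fin.zero_eta, Finset.univ_unique, Fin.default_eq_zero, Matrix.diag_apply,
          Finset.sum_singleton, LinearMap.toMatrix_apply, Pi.basisFun_apply, Pi.basisFun_repr,
          LinearMap.smul_apply, LinearMap.id_coe, id_eq, Pi.smul_apply, smul_eq_mul]
        have hv : v = v 0 • (Pi.single 0 1 : Fin 1 → ℂ) := funext fun j => by
          fin_cases j; simp
        conv_lhs => rw [hv, map_smul]
        simp [mul_comm]
      simp only [Representation.character, map_mul]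
      conv_lhs => rw [hscal (ρ a)]
      simp only [smul_mul_assoc, map_smul, smul_eq_mul, ← Module.End.one_eq_id, one_mul]
    have h11 : ρ.character 1 = 1 := by simp [Representation.char_one]
    let f : R →* ℂ := { toFun := ρ.character, map_one' := h11, map_mul' := hmul }
    have := Fintype.ofFinite Pg
    let Nm : R →* ℂ :=
      { toFun := fun r => ∏ z : Pg, f (α z r)
        map_one' := by simp
        map_mul' := fun a b => by simp only [map_mul, Finset.prod_mul_distrib] }
    have hNm : ∀ r, Nm r = 1 := by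
      have hk : R ≤ Nm.ker.map R.subtype := by
        conv_lhs => rw [← hRP]
        refine Subgroup.commutator_le.2 fun a ha z hz => ?_
        have hinv1 : ∀ b : R, Nm (α ⟨z, hz⟩ b) = Nm b := fun b => by
          show ∏ w : Pg, f (α w (α ⟨z, hz⟩ b)) = ∏ w : Pg, f (α w b)
          refine Fintype.prod_equiv (Equiv.mulRight (⟨z, hz⟩ : Pg)) _ _ fun w => ?_
          simp only [Equiv.coe_mulRight, map_mul, MulAut.mul_apply]
        refine ⟨⟨a, ha⟩ * α ⟨z, hz⟩ ⟨a, ha⟩⁻¹, ?_, ?_⟩
        · rw [SetLike.mem_coe, MonoidHom.mem_ker, map_mul, hinv1, ← map_mul, mul_inv_cancel,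
            map_one]
        · simp [α, commutatorElement_def, mul_assoc]
      intro r
      obtain ⟨r', hr', he⟩ := hk r.2
      rw [← Subtype.ext he]
      exact hr'
    intro r
    obtain ⟨s, c, hc, rfl⟩ := CfsgLib.BlockB.exists_eq_inv_mul_mul C hCle hCcomm (α y)
      (fun c hc => by rw [hαC y c hc]; exact hc) (hfpf y hy1) r
    rw [h11]
    show f (s⁻¹ * α y s * c) = 1
    have hfy : f (α y s) = f s := hy s
    rw [map_mul, map_mul, hfy, ← map_mul, inv_mul_cancel, map_one, one_mul]
    have hc1 : (f c) ^ Nat.card Pg = 1 := by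
      rw [← hNm c]
      show _ = ∏ z : Pg, f (α z c)
      simp [hαC _ c hc, Nat.card_eq_fintype_card]
    have hc2 : (f c) ^ Nat.card R = 1 := by rw [← map_pow, pow_card_eq_one', map_one]
    have := pow_gcd_eq_one.2 ⟨hc1, hc2⟩
    rwa [hcopR.gcd_eq_one, pow_one] at this
  have hP2 : 1 < Nat.card Pg := Finite.one_lt_card_iff_nontrivial.2
    (Subgroup.nontrivial_iff_ne_bot _ |>.2 hP1)
  have hmpos : 0 < Cfsg.charDegree (ψ : R → ℂ) := by
    rcases Nat.eq_zero_or_pos (Cfsg.charDegree (ψ : R → ℂ)) with h | h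
    · exact absurd (by rw [← CfsgLib.BlockB.irr_degree_cast ψ, h, Nat.cast_zero])
        (CfsgLib.Char.irr_apply_one_ne_zero ψ.2)
    · exact h
  rcases (Nat.succ_le_iff.2 hmpos).eq_or_lt with h | h
  · have h' : Cfsg.charDegree (ψ : R → ℂ) = 1 := h.symm
    rw [hlin h', one_mul] at horb
    rw [h', mul_one] at hOdeg
    nlinarith
  · have hS := CfsgLib.BlockB.card_lt_degree_sq C hCle hCcomm (α.comp S.subtype)
      (fun y c hc => by
        show α (y : Pg) c ∈ C
        rw [hαC _ c hc]; exact hc)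
      (fun y hy => hfpf (y : Pg) (fun e => hy (Subtype.ext e))) ψ (fun y r => y.2 r) h
    have hOpos : 0 < O.card := Finset.card_pos.2 ⟨act 1, Finset.mem_image_of_mem _ (Finset.mem_univ _)⟩
    have h1 : Nat.card Pg < O.card * Cfsg.charDegree (ψ : R → ℂ) ^ 2 :=
      lt_of_le_of_lt horb (by rw [mul_comm]; exact Nat.mul_lt_mul_of_pos_left hS hOpos)
    have h2 := Nat.pow_le_pow_left hOdeg 2
    rw [mul_pow] at h2
    have h3 : O.card * Cfsg.charDegree (ψ : R → ℂ) ^ 2 ≤
        O.card ^ 2 * Cfsg.charDegree (ψ : R → ℂ) ^ 2 :=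
      Nat.mul_le_mul_right _ (Nat.le_self_pow two_ne_zero _)
    exact absurd (h1.trans_le ((h3.trans h2).trans hdeg)) (lt_irrefl _)

end Cfsg.Agent.S4748
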