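import Cfsg.Statements.S4751
import Cfsg.Agent.Lib.BlockB.RootSingularFour

set_option autoImplicit false
open Cfsg

namespace Cfsg.Agent.S4751

/-- Let χ be a faithful, non-linear irreducible character of the finite group G (χ g = χ 1 only for g = 1, χ 1 ≠ 1) whose value at every element of order divisible by p is a root of unity, and suppose P = O_p(G) ≠ 1. Then either P is an elementary abelian Sylow p-subgroup of G, C_G(P) is the internal direct product of P and Z(G), G acts transitively by conjugation on the non-principal linear characters of P, and χ 1 = |P| − 1; or p = 2 and G is the internal direct product of a subgroup isomorphic to the symmetric group S₄ and the centre Z(G), which has odd order. -/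
theorem result {G : Type*} [Group G] [Finite G] (p : ℕ) [Fact p.Prime] (χ : Cfsg.IrrCharacter G) (hfaith : ∀ g : G, (χ : G → ℂ) g = (χ : G → ℂ) 1 → g = 1) (hnl : (χ : G → ℂ) 1 ≠ 1) (hroot : ∀ g : G, p ∣ orderOf g → ∃ n : ℕ, 0 < n ∧ ((χ : G → ℂ) g) ^ n = 1) (hP : Cfsg.pCore p G ≠ ⊥) : ((Nat.card ↥(Cfsg.pCore p G)).factorization p = (Nat.card G).factorization p ∧ Cfsg.IsElementaryAbelian p (Cfsg.pCore p G) ∧ Subgroup.centralizer ((Cfsg.pCore p G : Subgroup G) : Set G) = Cfsg.pCore p G ⊔ Subgroup.center G ∧ Cfsg.pCore p G ⊓ Subgroup.center G = ⊥ ∧ (∀ lam mu : ↥(Cfsg.pCore p G) → ℂ, Cfsg.IsCharacter ↥(Cfsg.pCore p G) lam → lam 1 = 1 → lam ≠ (fun _ => (1 : ℂ)) → Cfsg.IsCharacter ↥(Cfsg.pCore p G) mu → mu 1 = 1 → mu ≠ (fun _ => (1 : ℂ)) → ∃ g : G, ∀ (x : G) (hx : x ∈ Cfsg.pCore p G) (hgx : g * x * g⁻¹ ∈ Cfsg.pCore p G), mu ⟨x, hx⟩ = lam ⟨g * x * g⁻¹, hgx⟩) ∧ (χ : G → ℂ) 1 = (Nat.card ↥(Cfsg.pCore p G) : ℂ) - 1) ∨ (p = 2 ∧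 Odd (Nat.card ↥(Subgroup.center G)) ∧ ∃ H : Subgroup G, Nonempty (↥H ≃* Equiv.Perm (Fin 4)) ∧ H ⊓ Subgroup.center G = ⊥ ∧ H ⊔ Subgroup.center G = ⊤) := by
  classical
  have := Fintype.ofFinite G
  have h : CfsgLib.BlockB.RootSingular.Hyp p (χ : G → ℂ) := ⟨χ.2, hfaith, hnl, hroot⟩
  have := CfsgLib.Amalgam.normal_pCore (G := G) (p := p)
  have hPp : IsPGroup p (Cfsg.pCore p G) := CfsgLib.Amalgam.isPGroup_pCore
  have := Fintype.ofFinite (Cfsg.pCore p G)
  have hmax : ∀ R : Subgroup G, R.Normal → IsPGroup p R → R ≤ Cfsg.pCore p G :=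
    fun R hR hRp => CfsgLib.Amalgam.le_pCore hR hRp
  let S : Sylow p G := default
  rcases (CfsgLib.Amalgam.pCore_le_sylow S).lt_or_eq with hlt | heq
  · exact Or.inr (h.exceptional _ hPp hP hmax S hlt)
  · refine Or.inl ?_
    have hab := h.core_comm _ hPp hP
    obtain ⟨hd, -⟩ := h.abelian_normal _ hPp hab hP
    obtain ⟨hC, hZ⟩ := h.centralizer_core _ hPp hP hmax
    refine ⟨?_, ⟨⟨⟨hab⟩⟩, h.core_exponent _ hPp hab hP⟩, hC, hZ, ?_, ?_⟩
    · rw [heq, S.card_eq_multiplicity, (Fact.out : p.Prime).factorization_pow]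
      simp
    · intro lam mu hlam hl1 hlne hmu hm1 hmne
      obtain ⟨l, rfl⟩ := CfsgLib.Char.exists_hom_of_degree_one hlam hl1
      obtain ⟨m, rfl⟩ := CfsgLib.Char.exists_hom_of_degree_one hmu hm1
      obtain ⟨g, hg⟩ := h.transitive _ hPp hab hP ⟨_, CfsgLib.Char.isIrrCharacter_linear l⟩
        ⟨_, CfsgLib.Char.isIrrCharacter_linear m⟩ hlne hmne
      exact ⟨g, fun x hx hgx => (congrFun hg ⟨x, hx⟩).symm⟩
    · rw [← CfsgLib.BlockB.charDegree_cast (CfsgLib.Char.irr_isCharacter χ.2), ← hd]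
      push_cast
      ring

end Cfsg.Agent.S4751
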