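import Cfsg.Statements.S4754
import Cfsg.Agent.Lib.BlockB.Convolution

set_option autoImplicit false
open Cfsg

namespace Cfsg.Agent.S4754

/-- For elements x, y of a finite group G, the conjugacy class of x y equals the set of all products of a conjugate of x with a conjugate of y if and only if χ(1) χ(a x a⁻¹ b y b⁻¹) = χ(x) χ(y) for all a, b ∈ G and every irreducible character χ. -/
theorem result {G : Type*} [Group G] [Finite G] (x y : G) : (∀ z : G, IsConj (x * y) z ↔ ∃ a b : G, z = a * x * a⁻¹ * (b * y * b⁻¹)) ↔ ∀ (a b : G) (χ : Cfsg.IrrCharacter G), (χ : G → ℂ) 1 * (χ : G → ℂ) (a * x * a⁻¹ * (b * y * b⁻¹)) = (χ : G → ℂ) x * (χ : G → ℂ) y := by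
  classical
  have := Fintype.ofFinite G
  have hcard : (Nat.card G : ℂ) ≠ 0 := CfsgLib.Char.natCard_ne_zero
  constructor
  · intro h a b χ
    have hconst : ∀ a b : G, (χ : G → ℂ) (a * x * a⁻¹ * (b * y * b⁻¹)) = (χ : G → ℂ) (x * y) :=
      fun a b => (CfsgLib.Char.isClassFunction_isConj (CfsgLib.Char.irr_isClassFunction χ.2)
        ((h _).mpr ⟨a, b, rfl⟩)).symm
    have h1 := CfsgLib.BlockB.sum_irr_mul_conj χ x y
    have h2 : ∀ t : G, (χ : G → ℂ) (x * (t * y * t⁻¹)) = (χ : G → ℂ) (x * y) := fun t => by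
      simpa using hconst 1 t
    simp only [h2, Finset.sum_const, Finset.card_univ, nsmul_eq_mul,
      ← Nat.card_eq_fintype_card] at h1
    rw [hconst]
    have h1ne := CfsgLib.Char.irr_apply_one_ne_zero χ.2
    field_simp at h1
    linear_combination h1
  · intro h z
    constructor
    · intro hz
      obtain ⟨c, rfl⟩ := isConj_iff.mp hz
      exact ⟨c, c, by simp [mul_assoc]⟩
    · rintro ⟨a, b, rfl⟩
      rw [CfsgLib.Char.isConj_iff_forall_irr]
      intro χ
      have h1 := h 1 1 χ
      simp only [one_mul, inv_one, mul_one] at h1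
      exact mul_left_cancel₀ (CfsgLib.Char.irr_apply_one_ne_zero χ.2) (h1.trans (h a b χ).symm)

end Cfsg.Agent.S4754
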