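import Cfsg.Statements.S4755
import Cfsg.Agent.Lib.BlockB.Convolution
import Cfsg.Agent.Lib.Char.Linear

set_option autoImplicit false
open Cfsg
open scoped commutatorElement

namespace Cfsg.Agent.S4755

/-- Let x, y be non-identity elements of the finite group G such that χ(x' y') = χ(x') χ(y') for all conjugates x' of x, y' of y and every irreducible character χ. Then the conjugacy class of x y is the set of all products of a conjugate of x with a conjugate of y; every irreducible character of degree greater than 1 vanishes at x y; and the conjugacy class of x y is the coset of the commutator subgroup containing x y. -/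
theorem result {G : Type*} [Group G] [Finite G] (x y : G) (hx : x ≠ 1) (hy : y ≠ 1) (h : ∀ (a b : G) (χ : Cfsg.IrrCharacter G), (χ : G → ℂ) (a * x * a⁻¹ * (b * y * b⁻¹)) = (χ : G → ℂ) (a * x * a⁻¹) * (χ : G → ℂ) (b * y * b⁻¹)) : (∀ z : G, IsConj (x * y) z ↔ ∃ a b : G, z = a * x * a⁻¹ * (b * y * b⁻¹)) ∧ (∀ χ : Cfsg.IrrCharacter G, (χ : G → ℂ) 1 ≠ 1 → (χ : G → ℂ) (x * y) = 0) ∧ (∀ z : G, IsConj (x * y) z ↔ (x * y)⁻¹ * z ∈ commutator G) := by
  classical
  have := Fintype.ofFinite G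
  have := Fintype.ofFinite (Cfsg.IrrCharacter G)
  have hcf : ∀ (χ : Cfsg.IrrCharacter G) (a u : G),
      (χ : G → ℂ) (a * u * a⁻¹) = (χ : G → ℂ) u := fun χ a u =>
    CfsgLib.Char.irr_isClassFunction χ.2 u a
  have hprod : ∀ (a b : G) (χ : Cfsg.IrrCharacter G),
      (χ : G → ℂ) (a * x * a⁻¹ * (b * y * b⁻¹)) = (χ : G → ℂ) x * (χ : G → ℂ) y := fun a b χ => by
    rw [h a b χ, hcf, hcf]
  have hxy : ∀ χ : Cfsg.IrrCharacter G,
      (χ : G → ℂ) (x * y) = (χ : G → ℂ) x * (χ : G → ℂ) y := fun χ => by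
    simpa using hprod 1 1 χ
  have hzero : ∀ χ : Cfsg.IrrCharacter G, (χ : G → ℂ) 1 ≠ 1 → (χ : G → ℂ) (x * y) = 0 := by
    intro χ hχ
    have h1 := CfsgLib.BlockB.sum_irr_mul_conj χ x y
    have h2 : ∀ t : G, (χ : G → ℂ) (x * (t * y * t⁻¹)) = (χ : G → ℂ) x * (χ : G → ℂ) y :=
      fun t => by simpa using hprod 1 t χ
    simp only [h2, Finset.sum_const, Finset.card_univ, nsmul_eq_mul,
      ← Nat.card_eq_fintype_card] at h1
    have h1ne := CfsgLib.Char.irr_apply_one_ne_zero χ.2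
    have hcard : (Nat.card G : ℂ) ≠ 0 := CfsgLib.Char.natCard_ne_zero
    field_simp at h1
    rw [hxy]
    by_contra hne
    exact hχ (mul_left_cancel₀ hne (by linear_combination h1))
  refine ⟨fun z => ⟨fun hz => ?_, ?_⟩, hzero, fun z => ⟨fun hz => ?_, fun hz => ?_⟩⟩
  · obtain ⟨c, rfl⟩ := isConj_iff.mp hz
    exact ⟨c, c, by simp [mul_assoc]⟩
  · rintro ⟨a, b, rfl⟩
    rw [CfsgLib.Char.isConj_iff_forall_irr]
    intro χ
    rw [hprod, hxy]
  · obtain ⟨c, rfl⟩ := isConj_iff.mp hz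
    have : (x * y)⁻¹ * (c * (x * y) * c⁻¹) = ⁅(x * y)⁻¹, c⁆ := by
      simp [commutatorElement_def, mul_assoc]
    rw [this]
    exact Subgroup.commutator_mem_commutator (Subgroup.mem_top _) (Subgroup.mem_top _)
  · have hsum : ∀ χ : Cfsg.IrrCharacter G,
        (χ : G → ℂ) z * starRingEnd ℂ ((χ : G → ℂ) (x * y)) =
          (χ : G → ℂ) (x * y) * starRingEnd ℂ ((χ : G → ℂ) (x * y)) := fun χ => by
      by_cases h1 : (χ : G → ℂ) 1 = 1
      · obtain ⟨lam, hlam⟩ :=
          CfsgLib.Char.exists_hom_of_degree_one (CfsgLib.Char.irr_isCharacter χ.2) h1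
        have h2 : lam ((x * y)⁻¹ * z) = 1 :=
          MonoidHom.mem_ker.mp (Abelianization.commutator_subset_ker lam hz)
        rw [map_mul, map_inv, inv_mul_eq_one] at h2
        simp [hlam, h2]
      · rw [hzero χ h1, map_zero, mul_zero, mul_zero]
    have h3 := CfsgLib.Char.column_orthogonality z (x * y)
    rw [Finset.sum_congr rfl (fun χ _ => hsum χ), CfsgLib.Char.column_orthogonality,
      if_pos (IsConj.refl _)] at h3
    by_contra hn
    rw [if_neg (fun h => hn h.symm)] at h3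
    exact absurd h3 (by exact_mod_cast Nat.card_pos.ne')

end Cfsg.Agent.S4755
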