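import Cfsg.Statements.S4757
import Cfsg.Agent.Lib.Char.Column
import Cfsg.Agent.Lib.Char.Linear
import Cfsg.Agent.Lib.Char.Inner
import Cfsg.Agent.Lib.Transfer.Frobenius
import Cfsg.Agent.Lib.ClassK.Core
-- import your own Cfsg.Agent.* helpers here

set_option autoImplicit false
open Cfsg

namespace Cfsg.Agent.S4757

/-- Let u ≠ 1 be an element of the finite group G and c a complex number such that every non-principal irreducible character χ satisfies χ(1) − χ(u) = c or χ(u) = 0. Then the following are equivalent: (a) u has order 2, G is generated by u together with O(G), the largest normal subgroup of G of odd order, and the centralizer of u is {1, u}; (b) G is not perfect; (c) c = 2. -/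
theorem result {G : Type*} [Group G] [Finite G] (u : G) (hu : u ≠ 1) (c : ℂ) (hyp : ∀ χ : Cfsg.IrrCharacter G, (χ : G → ℂ) ≠ (fun _ => (1 : ℂ)) → ((χ : G → ℂ) 1 - (χ : G → ℂ) u = c ∨ (χ : G → ℂ) u = 0)) : ((orderOf u = 2 ∧ Subgroup.zpowers u ⊔ Cfsg.oddCore G = ⊤ ∧ Subgroup.centralizer ({u} : Set G) = Subgroup.zpowers u) ↔ commutator G ≠ ⊤) ∧ (commutator G ≠ ⊤ ↔ c = 2) := by
  classical
  have := Fintype.ofFinite G
  have := Fintype.ofFinite (Cfsg.IrrCharacter G)
  let triv : Cfsg.IrrCharacter G := ⟨fun _ => (1 : ℂ), CfsgLib.Char.isIrrCharacter_one⟩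
  have hsum : ∑ χ : Cfsg.IrrCharacter G, (χ : G → ℂ) 1 * (χ : G → ℂ) u = 0 := by
    rw [CfsgLib.Char.sum_irr_mul_degree u, if_neg hu]
  have hne1 : ∀ χ : Cfsg.IrrCharacter G, χ ≠ triv → (χ : G → ℂ) ≠ (fun _ => (1 : ℂ)) :=
    fun χ h h' => h (Subtype.ext h')
  -- a nontrivial linear character takes the value -1 at u, and c = 2
  have hlin : ∀ lam : G →* ℂˣ, lam ≠ 1 → (lam u : ℂ) = -1 ∧ c = 2 := by
    intro lam hlam
    have hval : ∀ μ : G →* ℂˣ, μ ≠ 1 → 1 - (μ u : ℂ) = c := by
      intro μ hμ
      have hne : (fun g => (μ g : ℂ)) ≠ (fun _ => (1 : ℂ)) := fun h => hμ (MonoidHom.ext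
        fun g => Units.ext (by simpa using congrFun h g))
      rcases hyp ⟨_, CfsgLib.Char.isIrrCharacter_linear μ⟩ hne with h | h
      · simpa using h
      · exact absurd h (Units.ne_zero _)
    have hc0 : c ≠ 0 := by
      intro hc
      have h1 : ∀ χ : Cfsg.IrrCharacter G,
          0 ≤ ((χ : G → ℂ) 1 * (χ : G → ℂ) u).re := by
        intro χ
        obtain ⟨d, hd⟩ := CfsgLib.Char.char_apply_one_eq_nat
          (CfsgLib.Char.irr_isCharacter χ.2)
        by_cases ht : χ = triv
        · subst ht; simp [triv]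
        · rcases hyp χ (hne1 χ ht) with h | h
          · rw [hc, sub_eq_zero] at h
            rw [← h, hd, ← Nat.cast_mul, Complex.natCast_re]
            positivity
          · rw [h]; simp
      have h2 : (1 : ℝ) ≤ (∑ χ : Cfsg.IrrCharacter G, (χ : G → ℂ) 1 * (χ : G → ℂ) u).re := by
        rw [Complex.re_sum]
        refine le_trans ?_ (Finset.single_le_sum (fun χ _ => h1 χ) (Finset.mem_univ triv))
        simp [triv]
      rw [hsum] at h2
      norm_num at h2
    have h0 := hval lam hlam
    have hne : (lam u : ℂ) ≠ 1 := by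
      intro h; rw [h, sub_self] at h0; exact hc0 h0.symm
    by_cases h2 : lam * lam = 1
    · have h3 : (lam u : ℂ) * (lam u : ℂ) = 1 := by
        rw [← Units.val_mul, ← MonoidHom.mul_apply, h2]; rfl
      have h4 : (lam u : ℂ) = -1 := (mul_self_eq_one_iff.1 h3).resolve_left hne
      refine ⟨h4, ?_⟩
      rw [← h0, h4]; norm_num
    · exfalso
      have h3 := hval _ h2
      rw [MonoidHom.mul_apply, Units.val_mul] at h3
      have h4 : (lam u : ℂ) * (lam u : ℂ) = (lam u : ℂ) * 1 := by
        linear_combination h0 - h3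
      exact hne (mul_left_cancel₀ (Units.ne_zero _) h4)
  have hex : commutator G ≠ ⊤ → ∃ lam : G →* ℂˣ, lam ≠ 1 := by
    intro h
    by_contra hno
    push_neg at hno
    have : Subsingleton (G →* ℂˣ) := ⟨fun a b => by rw [hno a, hno b]⟩
    exact h (Subgroup.index_eq_one.1 (by
      rw [← CfsgLib.Char.natCard_linear]
      exact Nat.card_of_subsingleton 1))
  have hconv : (∃ lam : G →* ℂˣ, lam ≠ 1) → commutator G ≠ ⊤ := by
    rintro ⟨lam, hlam⟩ h
    refine hlam (MonoidHom.ext fun g => ?_)
    have : g ∈ lam.ker := Abelianization.commutator_subset_ker lam (h ▸ Subgroup.mem_top g)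
    simpa using this
  refine ⟨⟨?_, fun hG => ?_⟩, ⟨fun hG => ?_, fun hc => ?_⟩⟩
  · -- group theoretic condition gives G' ≠ ⊤
    rintro ⟨ho, hgen, -⟩ h
    have hN : (Cfsg.pPrimeCore 2 G).Normal :=
      have := CfsgLib.ClassK.pPrimeCore_characteristic (p := 2) (G := G)
      inferInstance
    let π := QuotientGroup.mk' (Cfsg.pPrimeCore 2 G)
    have htop : Subgroup.zpowers (π u) = ⊤ := by
      have h1 := congrArg (Subgroup.map π) hgen
      rw [Subgroup.map_sup, MonoidHom.map_zpowers, QuotientGroup.map_mk'_self,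
        sup_bot_eq, Subgroup.map_top_of_surjective _ (QuotientGroup.mk'_surjective _)] at h1
      exact h1
    have hle : commutator G ≤ π.ker := by
      rw [commutator_def, Subgroup.commutator_le]
      intro a _ b _
      rw [MonoidHom.mem_ker, map_commutatorElement, commutatorElement_eq_one_iff_mul_comm]
      obtain ⟨i, hi⟩ := Subgroup.mem_zpowers_iff.1 (htop.symm ▸ Subgroup.mem_top (π a))
      obtain ⟨j, hj⟩ := Subgroup.mem_zpowers_iff.1 (htop.symm ▸ Subgroup.mem_top (π b))
      rw [← hi, ← hj, ← zpow_add, ← zpow_add, add_comm]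
    rw [h, QuotientGroup.ker_mk'] at hle
    have hodd := CfsgLib.ClassK.coprime_card_pPrimeCore (p := 2) (G := G)
    rw [top_le_iff.1 hle, Subgroup.card_top] at hodd
    have h2 : 2 ∣ Nat.card G := ho ▸ orderOf_dvd_natCard u
    have := (Nat.Prime.coprime_iff_not_dvd Nat.prime_two).1 hodd.symm
    exact this h2
  · -- G' ≠ ⊤ gives the group theoretic condition
    obtain ⟨lam, hlam⟩ := hex hG
    obtain ⟨hlamu, hc⟩ := hlin lam hlam
    have hterm : ∀ χ : Cfsg.IrrCharacter G, (χ : G → ℂ) u * (starRingEnd ℂ) ((χ : G → ℂ) u) =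
        (if χ = triv then 2 else 0) - (χ : G → ℂ) 1 * (χ : G → ℂ) u := by
      intro χ
      by_cases ht : χ = triv
      · subst ht; norm_num [triv]
      rw [if_neg ht, zero_sub]
      by_cases hu0 : (χ : G → ℂ) u = 0
      · simp [hu0]
      have hv : (χ : G → ℂ) 1 - (χ : G → ℂ) u = 2 :=
        hc ▸ (hyp χ (hne1 χ ht)).resolve_right hu0
      have h1 : (χ : G → ℂ) 1 = 1 := by
        let χ' : Cfsg.IrrCharacter G :=
          ⟨_, CfsgLib.Char.isIrrCharacter_mul_linear χ.2 lam⟩
        by_cases ht' : χ' = triv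
        · simpa [χ', triv] using congrFun (congrArg Subtype.val ht') 1
        · exfalso
          rcases hyp χ' (hne1 χ' ht') with h | h <;>
            simp only [χ', hlamu, map_one, Units.val_one, one_mul, hc] at h
          · exact hu0 (by linear_combination (1 / 2 : ℂ) * h - (1 / 2 : ℂ) * hv)
          · exact hu0 (by linear_combination -h)
      have h2 : (χ : G → ℂ) u = -1 := by linear_combination h1 - hv
      rw [h1, h2]; simp
    have hcard : Nat.card (Subgroup.centralizer ({u} : Set G)) = 2 := by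
      have h := CfsgLib.Char.column_orthogonality u u
      rw [if_pos (IsConj.refl u), Finset.sum_congr rfl (fun χ _ => hterm χ),
        Finset.sum_sub_distrib, hsum, sub_zero, Finset.sum_ite_eq' Finset.univ triv] at h
      simp only [Finset.mem_univ, if_true] at h
      exact_mod_cast h.symm
    have hzle : Subgroup.zpowers u ≤ Subgroup.centralizer ({u} : Set G) :=
      Subgroup.zpowers_le.2 (Subgroup.mem_centralizer_singleton_iff.2 rfl)
    have ho : orderOf u = 2 := by
      have hd : orderOf u ∣ 2 := by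
        rw [← Nat.card_zpowers, ← hcard]
        exact Subgroup.card_dvd_of_le hzle
      rcases (Nat.dvd_prime Nat.prime_two).1 hd with h | h
      · exact absurd (orderOf_eq_one_iff.1 h) hu
      · exact h
    have hceq : Subgroup.centralizer ({u} : Set G) = Subgroup.zpowers u :=
      (Subgroup.eq_of_le_of_card_ge hzle (by rw [hcard, Nat.card_zpowers, ho])).symm
    refine ⟨ho, ?_, hceq⟩
    have : Fact (Nat.Prime 2) := ⟨Nat.prime_two⟩
    have hzp : IsPGroup 2 (Subgroup.zpowers u) :=
      IsPGroup.of_card (n := 1) (by rw [Nat.card_zpowers, ho, pow_one])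
    obtain ⟨P, hP⟩ := hzp.exists_le_sylow
    have huP : u ∈ (P : Subgroup G) := hP (Subgroup.mem_zpowers u)
    have hPle : (P : Subgroup G) ≤ Subgroup.zpowers u := by
      have : Nontrivial (P : Subgroup G) :=
        ⟨⟨⟨u, huP⟩, 1, fun h => hu (congrArg Subtype.val h)⟩⟩
      have := P.isPGroup'.center_nontrivial
      obtain ⟨z, hz⟩ := exists_ne (1 : Subgroup.center (P : Subgroup G))
      have hzu : ((z : (P : Subgroup G)) : G) ∈ Subgroup.zpowers u := by
        rw [← hceq, Subgroup.mem_centralizer_singleton_iff]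
        exact (congrArg Subtype.val (Subgroup.mem_center_iff.1 z.2 ⟨u, huP⟩)).symm
      have hzeq : ((z : (P : Subgroup G)) : G) = u := by
        obtain ⟨i, hi⟩ := Subgroup.mem_zpowers_iff.1 hzu
        rw [← zpow_mod_orderOf, ho] at hi
        rcases Int.emod_two_eq i with h | h
        · rw [show ((2 : ℕ) : ℤ) = 2 from rfl, h, zpow_zero] at hi
          exact absurd (Subtype.ext (Subtype.ext hi.symm)) hz
        · rw [show ((2 : ℕ) : ℤ) = 2 from rfl, h, zpow_one] at hi
          exact hi.symm
      intro x hx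
      rw [← hceq, Subgroup.mem_centralizer_singleton_iff, ← hzeq]
      exact (congrArg Subtype.val (Subgroup.mem_center_iff.1 z.2 ⟨x, hx⟩))
    have hPeq : (P : Subgroup G) = Subgroup.zpowers u := le_antisymm hPle hP
    have hnc : Subgroup.normalizer ((P : Subgroup G) : Set G) ≤
        Subgroup.centralizer ((P : Subgroup G) : Set G) := by
      intro n hn
      rw [hPeq] at hn ⊢
      have h2 := (Subgroup.mem_normalizer_iff.1 hn u).1 (Subgroup.mem_zpowers u)
      obtain ⟨i, hi⟩ := Subgroup.mem_zpowers_iff.1 h2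
      have h3 : n * u * n⁻¹ = u := by
        rw [← zpow_mod_orderOf, ho] at hi
        rcases Int.emod_two_eq i with h | h
        · rw [show ((2 : ℕ) : ℤ) = 2 from rfl, h, zpow_zero] at hi
          exact absurd (conj_eq_one_iff.1 hi.symm) hu
        · rw [show ((2 : ℕ) : ℤ) = 2 from rfl, h, zpow_one] at hi
          exact hi.symm
      refine Subgroup.mem_centralizer_iff.2 fun x hx => ?_
      obtain ⟨k, rfl⟩ := Subgroup.mem_zpowers_iff.1 hx
      have hcom : Commute n u := mul_inv_eq_iff_eq_mul.1 h3
      exact (hcom.zpow_right k).eq.symm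
    obtain ⟨Q, N, hN, hcompl⟩ :=
      CfsgLib.Transfer.hasNormalPComplement_of_normalizer_le_centralizer P hnc
    have hQ : Nat.card (Q : Subgroup G) = Nat.card (P : Subgroup G) :=
      (Sylow.card_eq_multiplicity Q).trans (Sylow.card_eq_multiplicity P).symm
    have hNle : N ≤ Cfsg.oddCore G := by
      refine CfsgLib.ClassK.le_pPrimeCore hN ((Nat.Prime.coprime_iff_not_dvd Nat.prime_two).2
        fun hd => ?_).symm
      have h1 : Nat.card N = (Q : Subgroup G).index := hcompl.card_left.symm ▸ rfl
      exact Sylow.not_dvd_index Q (h1 ▸ hd)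
    have : N.Normal := hN
    have hsupc : N ⊔ Subgroup.zpowers u = ⊤ := by
      rw [← hPeq]
      refine (Subgroup.isComplement'_of_coprime ?_ ?_).sup_eq_top
      · rw [← hQ]; exact hcompl.card_mul
      · rw [Nat.coprime_comm, ← hQ]
        exact (Sylow.card_coprime_index Q).coprime_dvd_right
          (by rw [← hcompl.index_eq_card])
    rw [eq_top_iff, ← hsupc, sup_comm]
    exact sup_le_sup le_rfl hNle
  · obtain ⟨lam, hlam⟩ := hex hG
    exact (hlin lam hlam).2
  · -- c = 2 gives a nontrivial linear character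
    refine hconv ?_
    by_contra hno
    push_neg at hno
    have h1 : ∀ χ : Cfsg.IrrCharacter G,
        0 ≤ ((χ : G → ℂ) 1 * (χ : G → ℂ) u).re := by
      intro χ
      obtain ⟨d, hd⟩ := CfsgLib.Char.char_apply_one_eq_nat (CfsgLib.Char.irr_isCharacter χ.2)
      by_cases ht : χ = triv
      · subst ht; simp [triv]
      rcases hyp χ (hne1 χ ht) with h | h
      · have hd2 : 2 ≤ d := by
          by_contra hlt
          push_neg at hlt
          interval_cases d
          · exact CfsgLib.Char.irr_apply_one_ne_zero χ.2 (by simpa using hd)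
          · obtain ⟨μ, hμ⟩ := CfsgLib.Char.exists_hom_of_degree_one
              (CfsgLib.Char.irr_isCharacter χ.2) (by simpa using hd)
            exact hne1 χ ht (by rw [hμ, hno μ]; simp)
        rw [show (χ : G → ℂ) u = (d : ℂ) - 2 by rw [← hd, ← hc, ← h]; ring, hd]
        rw [show ((d : ℂ) * ((d : ℂ) - 2)) = (((d : ℝ) * ((d : ℝ) - 2) : ℝ) : ℂ) by push_cast; ring,
          Complex.ofReal_re]
        have : (2 : ℝ) ≤ d := by exact_mod_cast hd2
        nlinarith
      · rw [h]; simp
    have h2 : (1 : ℝ) ≤ (∑ χ : Cfsg.IrrCharacter G, (χ : G → ℂ) 1 * (χ : G → ℂ) u).re := by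
      rw [Complex.re_sum]
      refine le_trans ?_ (Finset.single_le_sum (fun χ _ => h1 χ) (Finset.mem_univ triv))
      simp [triv]
    rw [hsum] at h2
    norm_num at h2

end Cfsg.Agent.S4757
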