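import Cfsg.Statements.S4759
import Cfsg.Agent.Lib.BlockB.Dade.Main
import Cfsg.Agent.Lib.FT.OddOrder
import Cfsg.Agent.Lib.Transfer.Extraspecial
import Cfsg.Agent.Lib.Clifford.ExtendCoprime

set_option autoImplicit false
open Cfsg CfsgLib CfsgLib.Clifford
open scoped commutatorElement

namespace Cfsg.Agent.S4759

/-- Let G be a finite group that is the semidirect product of a normal extraspecial 2-subgroup E and a complement H acting faithfully on E (no non-identity element of H centralizes E), and suppose H has a normal subgroup K of odd order with [E, K] = E. Then every faithful irreducible character θ of E (there is exactly one) extends to G: some irreducible character of G restricts to θ on E. -/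
theorem result {G : Type*} [Group G] [Finite G] (E H : Subgroup G) [E.Normal] (hE : Cfsg.IsExtraspecial 2 ↥E) (hEH : E ⊓ H = ⊥) (hEHtop : E ⊔ H = ⊤) (hfaith : ∀ h ∈ H, (∀ e ∈ E, h * e = e * h) → h = 1) (K : Subgroup G) (hKH : K ≤ H) (hKn : ∀ h ∈ H, ∀ k ∈ K, h * k * h⁻¹ ∈ K) (hKodd : Odd (Nat.card ↥K)) (hEK : ⁅E, K⁆ = E) (θ : Cfsg.IrrCharacter ↥E) (hθ : ∀ e : ↥E, (θ : ↥E → ℂ) e = (θ : ↥E → ℂ) 1 → e = 1) : ∃ χ : Cfsg.IrrCharacter G, ∀ e : ↥E, (χ : G → ℂ) e = (θ : ↥E → ℂ) e := by
  classical
  have : Fintype E := Fintype.ofFinite E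
  have hc2 : Nat.card (Subgroup.center E) = 2 := hE.2
  obtain ⟨⟨z, hzc⟩, hz1⟩ : ∃ z : Subgroup.center E, z ≠ 1 := by
    have : Nontrivial (Subgroup.center E) := Finite.one_lt_card_iff_nontrivial.mp (by omega)
    exact exists_ne 1
  have hzne : z ≠ 1 := fun h => hz1 (Subtype.ext h)
  have hcz : Subgroup.center E = Subgroup.zpowers z :=
    Transfer.extraspecial_center_eq_zpowers hE hzc hzne
  have hmem : ∀ x, x ∈ Subgroup.center E → x = 1 ∨ x = z := by
    intro x hx
    by_contra hc
    push Not at hc
    have h3 : ({1, ⟨z, hzc⟩, ⟨x, hx⟩} : Finset (Subgroup.center E)).card ≤ 2 := by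
      rw [← hc2, Nat.card_eq_fintype_card]; exact Finset.card_le_univ _
    rw [Finset.card_insert_of_notMem (by
        simp only [Finset.mem_insert, Finset.mem_singleton, Subtype.ext_iff, OneMemClass.coe_one]
        rintro (h | h)
        exacts [hzne (Subtype.ext h.symm), hc.1 (Subtype.ext h.symm)]),
      Finset.card_pair (fun h => hc.2 (Subtype.ext_iff.mp h).symm)] at h3
    omega
  have hS : BlockB.Dade.Sympl z := {
    ne_one := hzne
    sq := by
      have h := pow_card_eq_one' (x := (⟨z, hzc⟩ : Subgroup.center E))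
      rw [hc2, pow_two] at h
      exact congr_arg Subtype.val h
    central := fun e => (Subgroup.mem_center_iff.mp hzc e).symm
    comm := fun a b => by
      have hab : ⁅a, b⁆ ∈ Subgroup.center E := by
        rw [← hE.1.2.2, commutator_def]
        exact Subgroup.commutator_mem_commutator (Subgroup.mem_top a) (Subgroup.mem_top b)
      rw [commutatorElement_def] at hab
      rcases hmem _ hab with h | h
      · left
        rw [mul_inv_eq_one, mul_inv_eq_iff_eq_mul] at h
        exact h
      · right
        rw [mul_inv_eq_iff_eq_mul, mul_inv_eq_iff_eq_mul, mul_assoc] at h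
        exact h
    nondeg := fun x hx => hmem x (Subgroup.mem_center_iff.mpr fun y => (hx y).symm) }
  obtain ⟨d, σ, hσi, hσχ⟩ := θ.2
  have := hσi
  -- `z` acts as `-1`
  have hσz : σ z = -1 := by
    obtain ⟨c, hc⟩ := BlockB.Dade.exists_scalar σ (σ z) fun e => by
      rw [← map_mul, ← map_mul, hS.central e]
    have h2 : c * c = 1 := by
      have h := congr_arg σ hS.sq
      rw [map_mul, map_one, hc, smul_mul_smul_comm, one_mul] at h
      have := Char.nontrivial_of_isIrreducible σ
      exact (smul_left_injective ℂ (one_ne_zero (α := Module.End ℂ (Fin d → ℂ)))).eq_iff.mp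
        (h.trans (one_smul _ _).symm)
    rcases mul_self_eq_one_iff.mp h2 with rfl | rfl
    · exfalso
      refine hzne (hθ z ?_)
      rw [← hσχ]
      change LinearMap.trace ℂ _ (σ z) = LinearMap.trace ℂ _ (σ 1)
      rw [hc, one_smul, show σ 1 = 1 from map_one σ]
    · rw [hc]
      exact LinearMap.ext fun v => by simp
  -- invariance
  have hgz : ∀ g : G, conjN g z = z := by
    intro g
    have h1 : (MulAut.conjNormal g : MulAut E) z ∈ Subgroup.center E := by
      refine Subgroup.mem_center_iff.mpr fun y => ?_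
      rw [← (MulAut.conjNormal g : MulAut E).apply_symm_apply y, ← map_mul, ← map_mul, hS.central]
    have h2 : (MulAut.conjNormal g : MulAut E) z = conjN g z := Subtype.ext (by simp)
    rw [h2] at h1
    refine (hmem _ h1).resolve_left fun h => hzne ?_
    rw [← h2] at h
    exact (MulAut.conjNormal g : MulAut E).injective (h.trans (map_one _).symm)
  have hinv : ∀ (g : G) (m : E), σ.character (conjN g m) = σ.character m := by
    intro g m
    rw [BlockB.Dade.char_eq hS hσz, BlockB.Dade.char_eq hS hσz]
    have h1 : conjN g m = 1 ↔ m = 1 := by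
      constructor
      · intro h
        have := congr_arg Subtype.val h
        simpa [conjN] using this
      · rintro rfl; exact Subtype.ext (by simp [conjN])
    have h2 : conjN g m = z ↔ m = z := by
      constructor
      · intro h
        rw [← hgz g] at h
        have := congr_arg Subtype.val h
        simp only [conjN] at this
        exact Subtype.ext (mul_left_cancel (mul_right_cancel this))
      · rintro rfl; exact hgz g
    simp only [h1, h2]
  have hsurj : Function.Surjective (proj σ) := proj_surjective σ hinv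
  have hE2 : IsPGroup 2 E := hE.1.1
  -- the lift for a Sylow 2-subgroup of the complement
  let cH : H →* MulAut E := (MulAut.conjNormal).comp H.subtype
  let cK : K →* MulAut E := (MulAut.conjNormal).comp K.subtype
  have : Group.IsSolvable K := FT.odd_order_solvable hKodd
  have : Group.IsSolvable cK.range :=
    Group.isSolvable_of_surjective cK.rangeRestrict_surjective
  have hfix : ∀ x ∈ BlockB.Dade.fixSub cK.range, x = 1 ∨ x = z := by
    intro x hx
    refine hS.nondeg x fun y => ?_
    have hle : ⁅E, K⁆ ≤ (BlockB.Dade.sgn hS x).ker.map E.subtype := by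
      refine Subgroup.commutator_le.mpr fun e he k hk => ?_
      have h1 := hx (cK ⟨k, hk⟩) ⟨_, rfl⟩
      refine ⟨⟨e, he⟩ * ((cK ⟨k, hk⟩) (⟨e, he⟩ : E))⁻¹, MonoidHom.mem_ker.mpr ?_, ?_⟩
      · rw [map_mul, BlockB.Dade.sgn_inv, BlockB.Dade.sgn_apply_aut hS _ h1, ← pow_two,
          Int.units_sq]
      · simp [cK, commutatorElement_def, mul_assoc]
    rw [hEK] at hle
    obtain ⟨y', hy', hyy⟩ := hle y.2
    rw [Subgroup.coe_subtype] at hyy
    rw [← Subtype.ext hyy]
    exact ((BlockB.Dade.sgn_eq_one_iff hS).mp (MonoidHom.mem_ker.mp hy')).symm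
  suffices h : (1 : ℤ) ∈ splitExps σ by
    obtain ⟨χ, hχ, hres⟩ := exists_irr_extension σ hinv h
    exact ⟨⟨χ, hχ⟩, fun e => by rw [← hσχ]; exact hres e⟩
  refine one_mem_of_forall_prime fun r hr => ?_
  have : Fact r.Prime := ⟨hr⟩
  by_cases hr2 : r = 2
  · subst hr2
    let P : Sylow 2 H := default
    let φ : (P : Subgroup H) →* MulAut E := cH.comp (P : Subgroup H).subtype
    have hφz : ∀ t, φ t z = z := fun t => by
      refine Eq.trans (Subtype.ext ?_) (hgz ((t : H) : G))
      simp [φ, cH]
    have hlift := BlockB.Dade.liftsBelow (Nat.card E) E le_rfl z hS (P : Subgroup H) P.2 φ hφz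
      cK.range (hKodd.of_dvd_nat (Subgroup.card_range_dvd cK))
      (by rintro _ ⟨k, rfl⟩; exact Eq.trans (Subtype.ext (by simp [cK])) (hgz (k : G)))
      (by
        rintro t _ ⟨k, rfl⟩
        refine ⟨⟨((t : H) : G) * k * ((t : H) : G)⁻¹, hKn _ (t : H).2 k k.2⟩, ?_⟩
        simp [φ, cH, cK, map_mul, map_inv])
      hfix
    obtain ⟨L, hL⟩ := hlift (Fin d → ℂ) σ hσi hσz
    let i : (P : Subgroup H) →* G := H.subtype.comp (P : Subgroup H).subtype
    let π : E ⋊[φ] (P : Subgroup H) →* G :=
      SemidirectProduct.lift E.subtype i fun t => MonoidHom.ext fun e => by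
        simp [φ, cH, i]
    let Λ : E ⋊[φ] (P : Subgroup H) →* (Module.End ℂ (Fin d → ℂ))ˣ :=
      SemidirectProduct.lift (repUnits σ) L fun t => MonoidHom.ext fun e => by
        refine eq_mul_inv_of_mul_eq (Units.ext ?_)
        simpa using (hL t e).symm
    have hπ : Function.Injective π := by
      rw [injective_iff_map_eq_one]
      rintro ⟨e, t⟩ h
      simp only [π, SemidirectProduct.lift, MonoidHom.coe_mk, OneHom.coe_mk, i,
        MonoidHom.comp_apply, Subgroup.coe_subtype] at h
      have hb : ((t : H) : G) ∈ E ⊓ H := by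
        refine ⟨?_, (t : H).2⟩
        have := inv_mem e.2
        rwa [inv_eq_of_mul_eq_one_right h] at this
      rw [hEH, Subgroup.mem_bot] at hb
      rw [hb, mul_one] at h
      exact SemidirectProduct.ext (Subtype.ext h) (Subtype.ext (Subtype.ext hb))
    let eq := MonoidHom.ofInjective hπ
    let σ' : Representation ℂ π.range (Fin d → ℂ) :=
      (Units.coeHom _).comp (Λ.comp eq.symm.toMonoidHom)
    have hER : E ≤ π.range := fun e he => ⟨SemidirectProduct.inl ⟨e, he⟩, by simp [π]⟩
    refine ⟨_, index_mem_splitExps σ hsurj π.range hER σ' (fun m => ?_), ?_⟩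
    · have h1 : eq.symm ⟨m, hER m.2⟩ = SemidirectProduct.inl m := by
        rw [MulEquiv.symm_apply_eq]
        exact Subtype.ext (by simp [eq, π, MonoidHom.ofInjective_apply])
      simp [σ', h1, Λ]
    · rw [Int.natCast_dvd_natCast]
      have h1 : Nat.card π.range = Nat.card E * Nat.card (P : Subgroup H) := by
        rw [← Nat.card_congr eq.toEquiv, Nat.card_congr SemidirectProduct.equivProd, Nat.card_prod]
      have h2 : Nat.card G = Nat.card E * Nat.card H :=
        ((Subgroup.isComplement'_of_disjoint_and_mul_eq_univ (disjoint_iff.mpr hEH) (by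
          rw [← Subgroup.normal_mul, hEHtop, Subgroup.coe_top])).card_mul).symm
      have h3 := Subgroup.card_mul_index π.range
      rw [h1, h2, ← Subgroup.card_mul_index (P : Subgroup H), ← mul_assoc] at h3
      rw [Nat.eq_of_mul_eq_mul_left (Nat.mul_pos Nat.card_pos Nat.card_pos) h3]
      exact P.not_dvd_index
  · -- odd primes: the order is coprime to the index
    let Q : Sylow r G := default
    let R : Subgroup G := E ⊔ (Q : Subgroup G)
    have hER : E ≤ R := le_sup_left
    have : (E.subgroupOf R).Normal := inferInstance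
    have hcop : (Nat.card (E.subgroupOf R)).Coprime (E.subgroupOf R).index := by
      obtain ⟨a, ha⟩ := hE2.exists_card_eq
      rw [Nat.card_congr (Subgroup.subgroupOfEquivOfLe hER).toEquiv, ha]
      have h1 : (E.subgroupOf R).index ∣ Nat.card (Q : Subgroup G) := by
        rw [show (E.subgroupOf R).index = E.relIndex R from rfl, show R = E ⊔ (Q : Subgroup G) from rfl, Subgroup.relIndex_sup_left]
        exact Subgroup.relIndex_dvd_card E (Q : Subgroup G)
      obtain ⟨b, hb⟩ := Q.2.exists_card_eq
      rw [hb] at h1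
      refine Nat.Coprime.coprime_dvd_right h1 (Nat.Coprime.pow a b ?_)
      exact (Nat.coprime_primes Nat.prime_two hr).mpr (Ne.symm hr2)
    let θR : ↥(E.subgroupOf R) → ℂ := fun m => σ.character ⟨((m : R) : G), m.2⟩
    let j : ↥(E.subgroupOf R) →* E := (Subgroup.subgroupOfEquivOfLe hER).toMonoidHom
    have hirr : Cfsg.IsIrrCharacter ↥(E.subgroupOf R) θR := by
      let τ : Representation ℂ ↥(E.subgroupOf R) (Fin d → ℂ) := σ.comp j
      have : τ.IsIrreducible :=
        Char.isIrreducible_comp_surjective σ j (Subgroup.subgroupOfEquivOfLe hER).surjective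
      exact Char.isIrrCharacter_of_rep τ
    obtain ⟨Θ, hΘ, hΘres⟩ := ExtendCoprime.exists_extension (E.subgroupOf R) hcop hirr
      (fun g m => hinv (g : G) ⟨((m : R) : G), m.2⟩)
    obtain ⟨σ', hσ'⟩ := exists_rep_extension σ hER (Char.irr_isCharacter hΘ) fun m =>
      hΘres ⟨⟨m, hER m.2⟩, m.2⟩
    refine ⟨_, index_mem_splitExps σ hsurj R hER σ' hσ', ?_⟩
    rw [Int.natCast_dvd_natCast]
    exact fun h => Q.not_dvd_index (h.trans (Subgroup.index_dvd_of_le le_sup_right))

end Cfsg.Agent.S4759
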