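import Cfsg.Statements.S4762
import Cfsg.Agent.S0894
import Cfsg.Agent.Lib.Transfer.Extraspecial
import Cfsg.Agent.Lib.Transfer.ClassTwo
import Cfsg.Agent.Lib.Transfer.PPrimeAut
import Cfsg.Agent.Lib.OddLocal.FittingHall
import Cfsg.Agent.Lib.Char.CliffordApps
import Cfsg.Agent.Lib.Char.Linear
import Cfsg.Agent.Lib.Block.DefectOrder
import Cfsg.Agent.Lib.BlockB.PEltValue

set_option autoImplicit false
open Cfsg

namespace Cfsg.Agent.S4762

open CfsgLib
open scoped commutatorElement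

/-- A nilpotent group with a unique irreducible character of degree divisible by `p` is a `p`-group. -/
theorem isPGroup_of_unique {G : Type*} [Group G] [Finite G] [Group.IsNilpotent G] {p : ℕ}
    [hp : Fact p.Prime] (χ : Cfsg.IrrCharacter G) (hχ : p ∣ Cfsg.charDegree (χ : G → ℂ))
    (huniq : ∀ ψ : Cfsg.IrrCharacter G, p ∣ Cfsg.charDegree (ψ : G → ℂ) → ψ = χ) :
    IsPGroup p G := by
  classical
  have := Fintype.ofFinite G
  let P : Sylow p G := default
  have hPn : (P : Subgroup G).Normal :=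
    Sylow.normal_of_normalizerCondition Group.normalizerCondition_of_isNilpotent P
  have hcop : Nat.Coprime (Nat.card P) (P : Subgroup G).index := by
    obtain ⟨n, hn⟩ := IsPGroup.iff_card.1 P.isPGroup'
    rw [hn]
    exact Nat.Coprime.pow_left _ (hp.out.coprime_iff_not_dvd.2 P.not_dvd_index)
  obtain ⟨H, hH⟩ := Subgroup.exists_right_complement'_of_coprime (N := (P : Subgroup G)) hcop
  have hHcard : Nat.card H = (P : Subgroup G).index := hH.symm.index_eq_card.symm
  have hcomm : ∀ a ∈ (P : Subgroup G), ∀ b ∈ H, a * b = b * a := by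
    intro a ha b hb
    refine (OddLocal.commute_of_coprime_of_isNilpotent ‹_› ?_).eq
    exact Nat.Coprime.of_dvd (Subgroup.orderOf_dvd_natCard _ ha)
      (hHcard ▸ Subgroup.orderOf_dvd_natCard _ hb) hcop
  have hdec : ∀ g : G, ∃ a ∈ (P : Subgroup G), ∃ b ∈ H, a * b = g := fun g => by
    obtain ⟨⟨a, b⟩, hab⟩ := hH.2 g
    exact ⟨a, a.2, b, b.2, hab⟩
  have hHn : H.Normal := ⟨fun h hh g => by
    obtain ⟨a, ha, b, hb, rfl⟩ := hdec g
    rw [show a * b * h * (a * b)⁻¹ = a * (b * h * b⁻¹) * a⁻¹ by group,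
      hcomm a ha _ (H.mul_mem (H.mul_mem hb hh) (H.inv_mem hb)), mul_inv_cancel_right]
    exact H.mul_mem (H.mul_mem hb hh) (H.inv_mem hb)⟩
  obtain ⟨m, ρ, hρ, hρχ⟩ := χ.2
  have hdeg : Cfsg.charDegree (χ : G → ℂ) = Module.finrank ℂ (Fin m → ℂ) := by
    rw [← hρχ]; simp [Cfsg.charDegree, Representation.char_one]
  -- `χ` comes from `G ⧸ H ≅ P`
  have hχH : ∀ h ∈ H, (χ : G → ℂ) h = (χ : G → ℂ) 1 := by
    have hnc : ¬ ∀ a b : G ⧸ H, a * b = b * a := by
      intro hc
      refine P.not_dvd_index (hχ.trans (hdeg ▸ Char.ito_degree_dvd_index ρ _ fun a ha b hb => ?_))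
      have h1 : ((a * b)⁻¹ * (b * a)) ∈ H :=
        QuotientGroup.eq.1 (by rw [QuotientGroup.mk_mul, QuotientGroup.mk_mul, hc])
      have h2 : (a * b)⁻¹ * (b * a) ∈ (P : Subgroup G) :=
        P.mul_mem (P.inv_mem (P.mul_mem ha hb)) (P.mul_mem hb ha)
      exact inv_mul_eq_one.1 (Subgroup.mem_bot.1 (hH.disjoint.le_bot ⟨h2, h1⟩))
    rw [Char.comm_iff_forall_degree_one, not_forall] at hnc
    obtain ⟨ψ, hψ⟩ := hnc
    obtain ⟨k, σ, hσ, hσψ⟩ := ψ.2
    have hψd : Cfsg.charDegree (ψ : G ⧸ H → ℂ) = Module.finrank ℂ (Fin k → ℂ) := by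
      rw [← hσψ]; simp [Cfsg.charDegree, Representation.char_one]
    have hcardQ : Nat.card (G ⧸ H) = Nat.card P := by
      rw [← Subgroup.index_eq_card, hH.index_eq_card]
    have hdvd : p ∣ Cfsg.charDegree (ψ : G ⧸ H → ℂ) := by
      obtain ⟨n, hn⟩ := IsPGroup.iff_card.1 P.isPGroup'
      have h1 := hψd ▸ Char.degree_dvd_card σ
      rw [hcardQ, hn] at h1
      obtain ⟨i, -, hi⟩ := (Nat.dvd_prime_pow hp.out).1 h1
      rcases Nat.eq_zero_or_pos i with rfl | h0
      · refine absurd ?_ hψ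
        rw [← Block.charDegree_cast (Char.irr_isCharacter ψ.2), hi, pow_zero, Nat.cast_one]
      · exact hi ▸ dvd_pow_self p h0.ne'
    have he := huniq (BlockB.quotIrrEquiv H ψ).1 (by
      unfold Cfsg.charDegree at hdvd ⊢
      rw [BlockB.quotIrrEquiv_apply]
      exact hdvd)
    intro h hh
    rw [← he]
    exact (BlockB.quotIrrEquiv H ψ).2 h hh
  by_contra hnp
  have hP : (P : Subgroup G) ≠ ⊤ := fun h =>
    hnp (P.isPGroup'.of_equiv ((MulEquiv.subgroupCongr h).trans Subgroup.topEquiv))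
  have : Nontrivial (G ⧸ (P : Subgroup G)) := QuotientGroup.nontrivial_iff.2 hP
  have hlt : commutator (G ⧸ (P : Subgroup G)) < ⊤ :=
    Group.IsSolvable.commutator_lt_top_of_nontrivial _
  have h2 := Char.natCard_linear (G := G ⧸ (P : Subgroup G))
  obtain ⟨lam, hlam⟩ : ∃ lam : G ⧸ (P : Subgroup G) →* ℂˣ, lam ≠ 1 := by
    by_contra hcon
    push Not at hcon
    have : Subsingleton (G ⧸ (P : Subgroup G) →* ℂˣ) := ⟨fun a b => by rw [hcon a, hcon b]⟩
    rw [Nat.card_of_subsingleton 1] at h2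
    exact hlt.ne (Subgroup.index_eq_one.1 h2.symm)
  let l : G →* ℂˣ := lam.comp (QuotientGroup.mk' _)
  refine hlam (QuotientGroup.monoidHom_ext _ (MonoidHom.ext fun g => Units.ext ?_))
  show (l g : ℂ) = 1
  obtain ⟨a, ha, b, hb, rfl⟩ := hdec g
  have hla : l a = 1 := by
    show lam (a : G ⧸ (P : Subgroup G)) = 1
    rw [(QuotientGroup.eq_one_iff a).2 ha, map_one]
  rw [map_mul, hla, one_mul]
  let ψ : Cfsg.IrrCharacter G :=
    ⟨fun g => (l g : ℂ) * (χ : G → ℂ) g, Char.isIrrCharacter_mul_linear χ.2 l⟩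
  have he := huniq ψ (by
    show p ∣ Cfsg.charDegree (fun g => (l g : ℂ) * (χ : G → ℂ) g)
    simpa [Cfsg.charDegree] using hχ)
  have h3 : (l b : ℂ) * (χ : G → ℂ) b = (χ : G → ℂ) b := congrFun (congrArg Subtype.val he) b
  rw [hχH b hb] at h3
  exact (mul_eq_right₀ (Char.irr_apply_one_ne_zero χ.2)).1 h3

/-- A `p`-group with a unique nonlinear irreducible character is an extraspecial `2`-group. -/
theorem extraspecial_of_unique {G : Type*} [Group G] [Finite G] {p : ℕ} [hp : Fact p.Prime]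
    (hG : IsPGroup p G) (χ : Cfsg.IrrCharacter G) (hχ : p ∣ Cfsg.charDegree (χ : G → ℂ))
    (huniq : ∀ ψ : Cfsg.IrrCharacter G, p ∣ Cfsg.charDegree (ψ : G → ℂ) → ψ = χ) :
    p = 2 ∧ Cfsg.IsExtraspecial 2 G := by
  classical
  have := Fintype.ofFinite G
  have := Fintype.ofFinite (Cfsg.IrrCharacter G)
  have hd1 : (χ : G → ℂ) 1 ≠ 1 := by
    intro h
    rw [Cfsg.charDegree, h] at hχ
    simp at hχ
    exact hp.out.ne_one hχ
  have hlin : ∀ ψ : Cfsg.IrrCharacter G, ψ ≠ χ → (ψ : G → ℂ) 1 = 1 := by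
    intro ψ hψ
    by_contra h1
    obtain ⟨k, σ, hσ, hσψ⟩ := ψ.2
    obtain ⟨n, hn⟩ := IsPGroup.iff_card.1 hG
    have h2 := Char.degree_dvd_card σ
    rw [hn] at h2
    obtain ⟨i, -, hi⟩ := (Nat.dvd_prime_pow hp.out).1 h2
    have hd : Cfsg.charDegree (ψ : G → ℂ) = p ^ i := by
      rw [← hσψ, ← hi]; simp [Cfsg.charDegree, Representation.char_one]
    rcases Nat.eq_zero_or_pos i with rfl | h0
    · exact h1 (by rw [← Block.charDegree_cast (Char.irr_isCharacter ψ.2), hd, pow_zero,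
        Nat.cast_one])
    · exact hψ (huniq ψ (hd ▸ dvd_pow_self p h0.ne'))
  have hvan : ∀ g : G, g ∉ commutator G → (χ : G → ℂ) g = 0 := by
    intro g hg
    by_contra h0
    have h1 : (Abelianization.of g) ≠ 1 := fun h => hg ((QuotientGroup.eq_one_iff g).1 h)
    have : Finite (Abelianization G) := inferInstanceAs (Finite (G ⧸ commutator G))
    have : NeZero (Monoid.exponent (Abelianization G) : ℂ) :=
      ⟨by exact_mod_cast Monoid.exponent_ne_zero_of_finite⟩
    obtain ⟨φ, hφ⟩ := CommGroup.exists_apply_ne_one_of_hasEnoughRootsOfUnity (Abelianization G) ℂ h1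
    let l : G →* ℂˣ := φ.comp Abelianization.of
    have he := huniq ⟨fun g => (l g : ℂ) * (χ : G → ℂ) g, Char.isIrrCharacter_mul_linear χ.2 l⟩
      (by
        show p ∣ Cfsg.charDegree (fun g => (l g : ℂ) * (χ : G → ℂ) g)
        simpa [Cfsg.charDegree] using hχ)
    have h3 : (l g : ℂ) * (χ : G → ℂ) g = (χ : G → ℂ) g := congrFun (congrArg Subtype.val he) g
    exact hφ (Units.ext ((mul_eq_right₀ h0).1 h3))
  have hnlin := Char.natCard_linearIrr (G := G)
  have hset : Nat.card {ψ : Cfsg.IrrCharacter G // (ψ : G → ℂ) 1 = 1} =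
      ((Finset.univ : Finset (Cfsg.IrrCharacter G)).erase χ).card := by
    rw [Nat.card_eq_fintype_card]
    exact Fintype.card_of_subtype _ fun ψ => by
      simp only [Finset.mem_erase, Finset.mem_univ, and_true]
      exact ⟨hlin ψ, fun h e => hd1 (e ▸ h)⟩
  have hsum : (χ : G → ℂ) 1 ^ 2 + ((commutator G).index : ℂ) = (Nat.card G : ℂ) := by
    have h := Char.sum_irr_sq (G := G)
    rw [← Finset.add_sum_erase _ _ (Finset.mem_univ χ), Finset.sum_congr rfl (g := fun _ => (1 : ℂ))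
      (fun ψ hψ => by rw [hlin ψ (Finset.mem_erase.1 hψ).1, one_pow]), Finset.sum_const,
      ← hset, hnlin, nsmul_eq_mul, mul_one] at h
    exact h
  obtain ⟨m, ρ, hρ, hρχ⟩ := χ.2
  obtain ⟨n, hn⟩ := IsPGroup.iff_card.1 hG
  obtain ⟨j, -, hj⟩ := (Nat.dvd_prime_pow hp.out).1 (hn ▸ Char.degree_dvd_card ρ)
  obtain ⟨i, hi⟩ := IsPGroup.iff_card.1 (hG.to_subgroup (commutator G))
  obtain ⟨a, ha⟩ := hG.index (commutator G)
  have h1 : p ^ (2 * j) + p ^ a = p ^ a * p ^ i := by
    have hx : (χ : G → ℂ) 1 = ((p ^ j : ℕ) : ℂ) := by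
      rw [← hρχ, Representation.char_one, hj]
    rw [hx, ← Nat.cast_pow, ← Nat.cast_add, Nat.cast_inj, ← (commutator G).index_mul_card, ha, hi,
      ← pow_mul, mul_comm j 2] at hsum
    exact hsum
  have hp0 := hp.out.pos
  have hi0 : i ≠ 0 := by
    rintro rfl
    have := pow_pos hp0 (2 * j)
    rw [pow_zero, mul_one] at h1
    omega
  have h2 : p ^ i - 1 = 1 := by
    have hdvd : p ^ i - 1 ∣ p ^ (2 * j) :=
      Dvd.intro_left (p ^ a) (by rw [Nat.mul_sub, mul_one]; omega)
    obtain ⟨t, -, ht⟩ := (Nat.dvd_prime_pow hp.out).1 hdvd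
    rcases Nat.eq_zero_or_pos t with rfl | h0
    · rw [ht, pow_zero]
    · have hd := Nat.dvd_sub (dvd_pow_self p hi0) (ht ▸ dvd_pow_self p h0.ne' : p ∣ p ^ i - 1)
      rw [show p ^ i - (p ^ i - 1) = 1 by have := pow_pos hp0 i; omega, Nat.dvd_one] at hd
      exact absurd hd hp.out.ne_one
  have h3 : p ^ i = 2 := by omega
  have hp2 : p = 2 := (Nat.prime_dvd_prime_iff_eq hp.out Nat.prime_two).1
    (h3 ▸ dvd_pow_self p hi0)
  subst hp2
  have hi1 : Nat.card (commutator G) = 2 := hi.trans h3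
  have hcz : commutator G ≤ Subgroup.center G := by
    intro x hx
    refine Subgroup.mem_center_iff.2 fun g => ?_
    rcases eq_or_ne x 1 with rfl | hx1
    · simp
    have hmem : g * x * g⁻¹ ∈ commutator G :=
      (inferInstance : (commutator G).Normal).conj_mem x hx g
    obtain ⟨y, hy, hall⟩ := (Nat.card_eq_two_iff' (1 : commutator G)).1 hi1
    have e1 := hall ⟨x, hx⟩ fun e => hx1 (congrArg Subtype.val e)
    have e2 := hall ⟨_, hmem⟩ fun e => hx1 (by simpa using congrArg Subtype.val e)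
    exact mul_inv_eq_iff_eq_mul.1 (congrArg Subtype.val (e2.trans e1.symm))
  have hzc : Subgroup.center G ≤ commutator G := by
    intro z hz
    by_contra hzn
    have h := Char.column_orthogonality z z
    rw [if_pos (IsConj.refl _), ← Finset.add_sum_erase _ _ (Finset.mem_univ χ), hvan z hzn,
      zero_mul, zero_add, Finset.sum_congr rfl (g := fun _ => (1 : ℂ)) (fun ψ hψ => by
        obtain ⟨l, hl⟩ := Char.exists_hom_of_degree_one (Char.irr_isCharacter ψ.2)
          (hlin ψ (Finset.mem_erase.1 hψ).1)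
        have hz1 : l z ^ orderOf z = 1 := by rw [← map_pow, pow_orderOf_eq_one, map_one]
        rw [hl, Complex.mul_conj', Complex.norm_eq_one_of_pow_eq_one
          (by rw [← Units.val_pow_eq_pow_val, hz1, Units.val_one]) (orderOf_pos z).ne']
        norm_num),
      Finset.sum_const, ← hset, hnlin, nsmul_eq_mul, mul_one, Nat.cast_inj,
      Subgroup.centralizer_eq_top_iff_subset.2 (Set.singleton_subset_iff.2 hz),
      Subgroup.card_top, ← (commutator G).index_mul_card, hi1] at h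
    have := Nat.pos_of_ne_zero (Subgroup.index_ne_zero_of_finite (H := commutator G))
    omega
  have hZ : commutator G = Subgroup.center G := le_antisymm hcz hzc
  refine ⟨rfl, ⟨hG, le_antisymm ?_ ?_, hZ⟩, hZ ▸ hi1⟩
  · have hct : ∀ x y : G, ⁅x, y⁆ ∈ commutator G := fun x y =>
      Subgroup.commutator_mem_commutator (Subgroup.mem_top x) (Subgroup.mem_top y)
    refine CfsgLib.Transfer.frattini_le_of_elementary_quotient (p := 2) _
      (fun x y => hcz (hct x y)) fun x => Subgroup.mem_center_iff.2 fun y => ?_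
    have hc : ⁅x, y⁆ ∈ Subgroup.center G := hcz (hct x y)
    have hsq : ⁅x, y⁆ * ⁅x, y⁆ = 1 := by
      have h := pow_card_eq_one' (x := (⟨⁅x, y⁆, hct x y⟩ : commutator G))
      rw [hi1, pow_two] at h
      exact congrArg Subtype.val h
    have hxy : x * y = ⁅x, y⁆ * y * x := by rw [commutatorElement_def]; group
    rw [pow_two]
    symm
    calc x * x * y = x * (x * y) := mul_assoc x x y
      _ = x * (⁅x, y⁆ * y * x) := by rw [hxy]
      _ = ⁅x, y⁆ * (x * y) * x := by
          rw [← mul_assoc, ← mul_assoc, Subgroup.mem_center_iff.1 hc x]; group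
      _ = (⁅x, y⁆ * ⁅x, y⁆) * y * x * x := by rw [hxy]; group
      _ = y * (x * x) := by rw [hsq, one_mul, mul_assoc]
  · rw [← hZ]
    exact CfsgLib.Transfer.commutator_le_frattini_pgroup hG

/-- Let p be a prime and G a finite nilpotent group. Then G has exactly one irreducible complex character of degree divisible by p if and only if p = 2 and G is an extraspecial 2-group. -/
theorem result {G : Type*} [Group G] [Finite G] [Group.IsNilpotent G] (p : ℕ) [Fact p.Prime] : Nat.card {χ : Cfsg.IrrCharacter G // p ∣ Cfsg.charDegree (χ : G → ℂ)} = 1 ↔ (p = 2 ∧ Cfsg.IsExtraspecial 2 G) := by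
  classical
  constructor
  · intro h
    obtain ⟨⟨⟨χ, hχ⟩, hall⟩⟩ : Nonempty (Σ' x : {χ : Cfsg.IrrCharacter G //
        p ∣ Cfsg.charDegree (χ : G → ℂ)}, ∀ y, y = x) := by
      obtain ⟨x, hx⟩ := Nat.card_eq_one_iff_exists.1 h
      exact ⟨⟨x, hx⟩⟩
    have huniq : ∀ ψ : Cfsg.IrrCharacter G, p ∣ Cfsg.charDegree (ψ : G → ℂ) → ψ = χ :=
      fun ψ hψ => congrArg Subtype.val (hall ⟨ψ, hψ⟩)
    exact extraspecial_of_unique (isPGroup_of_unique χ hχ huniq) χ hχ huniq
  · rintro ⟨rfl, hE⟩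
    obtain ⟨n, hn, hcard⟩ := CfsgLib.Transfer.extraspecial_card hE
    obtain ⟨hdeg, hnum⟩ := Cfsg.Agent.S0894.result 2 n hE hcard
    refine (Nat.card_congr (Equiv.subtypeEquivRight fun χ => ?_)).trans hnum
    constructor
    · intro h
      refine (hdeg χ).resolve_left fun h1 => ?_
      rw [Cfsg.charDegree, h1] at h
      simp at h
    · intro h
      rw [Cfsg.charDegree, h]
      rw [show ((2 : ℕ) : ℂ) ^ n = ((2 ^ n : ℕ) : ℂ) by push_cast; ring, Complex.natCast_re,
        Nat.floor_natCast]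
      exact dvd_pow_self 2 (by omega)

end Cfsg.Agent.S4762
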