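import Cfsg.Statements.S4763
import Cfsg.Agent.Lib.BlockB.RelMcKay
import Cfsg.Agent.Lib.Clifford.Degrees
import Cfsg.Agent.Lib.Block.DegreeAux
import Cfsg.Agent.Lib.Clifford.Correspondence
import Cfsg.Agent.Lib.Clifford.CosetAvg
import Cfsg.Agent.Lib.KnownB.SL2McKay
import Cfsg.Agent.Lib.Char.Fixed
import Cfsg.Agent.Lib.StructB.Misc

set_option autoImplicit false
open Cfsg

namespace Cfsg.Agent.S4763

universe u

variable {G : Type u} [Group G] [Finite G] {p : ℕ} [Fact p.Prime]

/-- Every element of the Sylow normalizer centralises the Sylow subgroup, if it is abelian and has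
a normal complement. -/
theorem normalizer_centralizes (N : Subgroup G) [N.Normal] (hN : (Nat.card N).Coprime p)
    (P : Sylow p G) (hsup : ∀ g : G, ∃ n ∈ N, ∃ u ∈ (P : Subgroup G), n * u = g)
    (hab : ∀ a ∈ (P : Subgroup G), ∀ b ∈ (P : Subgroup G), a * b = b * a) {x : G}
    (hx : x ∈ Subgroup.normalizer ((P : Subgroup G) : Set G)) {u : G} (hu : u ∈ (P : Subgroup G)) :
    x * u = u * x := by
  obtain ⟨n, hn, q, hq, rfl⟩ := hsup x
  have hnn : n ∈ Subgroup.normalizer ((P : Subgroup G) : Set G) := by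
    have := Subgroup.mul_mem _ hx (Subgroup.inv_mem _ (Subgroup.le_normalizer hq))
    rwa [mul_inv_cancel_right] at this
  have h1 : n * u * n⁻¹ * u⁻¹ ∈ (P : Subgroup G) :=
    P.1.mul_mem ((Subgroup.mem_normalizer_iff.1 hnn u).1 hu) (P.1.inv_mem hu)
  have h2 : n * u * n⁻¹ * u⁻¹ ∈ N := by
    rw [mul_assoc, mul_assoc, ← mul_assoc u]
    exact N.mul_mem hn ((inferInstance : N.Normal).conj_mem _ (N.inv_mem hn) u)
  obtain ⟨k, hk⟩ := IsPGroup.iff_orderOf.1 P.2 ⟨_, h1⟩
  rw [Subgroup.orderOf_mk] at hk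
  have h3 : orderOf (n * u * n⁻¹ * u⁻¹) ∣ Nat.card N := N.orderOf_dvd_natCard h2
  have h4 : n * u * n⁻¹ * u⁻¹ = 1 := by
    rw [← orderOf_eq_one_iff]
    exact Nat.eq_one_of_dvd_coprimes (Nat.Coprime.pow_right k hN) h3 hk.dvd
  have h5 : n * u = u * n := mul_inv_eq_iff_eq_mul.1 (mul_inv_eq_one.1 h4)
  rw [mul_assoc, hab q hq u hu, ← mul_assoc, h5, mul_assoc]

/-- The classes of size prime to `p` are those of the Sylow normalizer. -/
theorem natCard_good_classes (P : Sylow p G)
    (hc : ∀ x ∈ Subgroup.normalizer ((P : Subgroup G) : Set G), ∀ u ∈ (P : Subgroup G),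
      x * u = u * x) :
    Nat.card {C : ConjClasses G // ¬ p ∣ Nat.card C.carrier} =
      Nat.card (ConjClasses ↥(Subgroup.normalizer ((P : Subgroup G) : Set G))) := by
  classical
  have := Fintype.ofFinite G
  set X := Subgroup.normalizer ((P : Subgroup G) : Set G)
  have hgood : ∀ x : X, ¬ p ∣ Nat.card (ConjClasses.mk (x : G)).carrier := by
    intro x
    rw [CfsgLib.Char.natCard_carrier_eq_index]
    intro h
    have hle : (P : Subgroup G) ≤ Subgroup.centralizer ({(x : G)} : Set G) := fun u hu =>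
      Subgroup.mem_centralizer_singleton_iff.2 (hc x x.2 u hu).symm
    exact P.not_dvd_index (h.trans (Subgroup.index_dvd_of_le hle))
  let T : ConjClasses X → {C : ConjClasses G // ¬ p ∣ Nat.card C.carrier} := fun c =>
    ⟨ConjClasses.map X.subtype c, by
      obtain ⟨x, rfl⟩ := ConjClasses.mk_surjective c
      exact hgood x⟩
  symm
  refine Nat.card_congr (Equiv.ofBijective T ⟨fun c d h => ?_, fun C => ?_⟩)
  · obtain ⟨x, rfl⟩ := ConjClasses.mk_surjective c
    obtain ⟨y, rfl⟩ := ConjClasses.mk_surjective d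
    have h' : IsConj (x : G) (y : G) := ConjClasses.mk_eq_mk_iff_isConj.1 (congrArg Subtype.val h)
    obtain ⟨g, hg⟩ := isConj_iff.1 h'
    set C := Subgroup.centralizer ({(y : G)} : Set G)
    have h1 : (P : Subgroup G) ≤ C := fun u hu =>
      Subgroup.mem_centralizer_singleton_iff.2 (hc y y.2 u hu).symm
    have h2 : ((g • P : Sylow p G) : Subgroup G) ≤ C := by
      intro u hu
      rw [Sylow.coe_subgroup_smul] at hu
      obtain ⟨v, hv, rfl⟩ := hu
      rw [Subgroup.mem_centralizer_singleton_iff]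
      simp only [MulDistribMulAction.toMonoidEnd_apply, MulDistribMulAction.toMonoidHom_apply,
        MulAut.smul_def, MulAut.conj_apply]
      rw [← hg]
      calc g * v * g⁻¹ * (g * (x : G) * g⁻¹) = g * (v * x) * g⁻¹ := by group
        _ = g * ((x : G) * v) * g⁻¹ := by rw [hc x x.2 v hv]
        _ = _ := by group
    obtain ⟨a, ha⟩ := MulAction.exists_smul_eq C ((g • P).subtype h2) (P.subtype h1)
    have hfix : (((a : G) * g) • P : Sylow p G) = P := by
      rw [mul_smul]
      rw [Sylow.smul_subtype] at ha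
      exact Sylow.subtype_injective ha
    rw [Sylow.smul_eq_iff_mem_normalizer] at hfix
    refine ConjClasses.mk_eq_mk_iff_isConj.2 (isConj_iff.2 ⟨⟨_, hfix⟩, Subtype.ext ?_⟩)
    show (a : G) * g * x * ((a : G) * g)⁻¹ = y
    calc (a : G) * g * x * ((a : G) * g)⁻¹ = (a : G) * (g * x * g⁻¹) * (a : G)⁻¹ := by group
      _ = (a : G) * y * (a : G)⁻¹ := by rw [hg]
      _ = y := by rw [Subgroup.mem_centralizer_singleton_iff.1 a.2, mul_inv_cancel_right]
  · obtain ⟨C, hC⟩ := C
    obtain ⟨g, rfl⟩ := ConjClasses.mk_surjective C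
    rw [CfsgLib.Char.natCard_carrier_eq_index] at hC
    obtain ⟨Q⟩ := (inferInstance : Nonempty (Sylow p (Subgroup.centralizer ({g} : Set G))))
    obtain ⟨R, hR⟩ := (Q.2.map (Subgroup.centralizer ({g} : Set G)).subtype).exists_le_sylow
    have hRC : (R : Subgroup G) ≤ Subgroup.centralizer ({g} : Set G) := by
      have hcard : Nat.card (R : Subgroup G) ≤
          Nat.card ((Q : Subgroup (Subgroup.centralizer ({g} : Set G))).map
            (Subgroup.centralizer ({g} : Set G)).subtype) := by
        rw [Nat.card_congr (Subgroup.equivMapOfInjective _ _ Subtype.val_injective).symm.toEquiv,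
          Sylow.card_eq_multiplicity, Sylow.card_eq_multiplicity]
        refine le_of_eq ?_
        congr 1
        conv_lhs => rw [← (Subgroup.centralizer ({g} : Set G)).index_mul_card]
        rw [Nat.factorization_mul Subgroup.index_ne_zero_of_finite Nat.card_pos.ne',
          Finsupp.add_apply, Nat.factorization_eq_zero_of_not_dvd hC, zero_add]
      rw [← Subgroup.eq_of_le_of_card_ge hR hcard]
      exact Subgroup.map_subtype_le _
    obtain ⟨b, hb⟩ := MulAction.exists_smul_eq G R P
    have hmem : b * g * b⁻¹ ∈ X := by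
      rw [Subgroup.mem_normalizer_iff]
      have hcen : ∀ v ∈ (P : Subgroup G), b * g * b⁻¹ * v * (b * g * b⁻¹)⁻¹ = v := by
        intro v hv
        rw [← hb, Sylow.coe_subgroup_smul] at hv
        obtain ⟨r, hr, rfl⟩ := hv
        simp only [MulDistribMulAction.toMonoidEnd_apply, MulDistribMulAction.toMonoidHom_apply,
          MulAut.smul_def, MulAut.conj_apply]
        calc b * g * b⁻¹ * (b * r * b⁻¹) * (b * g * b⁻¹)⁻¹ = b * (g * r) * g⁻¹ * b⁻¹ := by group
          _ = b * (r * g) * g⁻¹ * b⁻¹ := by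
            rw [Subgroup.mem_centralizer_singleton_iff.1 (hRC hr)]
          _ = _ := by group
      refine fun v => ⟨fun hv => by rw [hcen v hv]; exact hv, fun hv => ?_⟩
      have := hcen _ hv
      have e : b * g * b⁻¹ * v * (b * g * b⁻¹)⁻¹ = v := mul_left_cancel (a := b * g * b⁻¹)
        (mul_right_cancel (b := (b * g * b⁻¹)⁻¹) this)
      rwa [e] at hv
    exact ⟨ConjClasses.mk ⟨_, hmem⟩,
      Subtype.ext (ConjClasses.mk_eq_mk_iff_isConj.2 (isConj_iff.2 ⟨b, rfl⟩).symm)⟩

/-- Invariant characters make the complement central. -/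
theorem commute_of_invariant (N : Subgroup G) [N.Normal] (hN : (Nat.card N).Coprime p)
    (P : Sylow p G) (hinv : ∀ θ : Cfsg.IrrCharacter N, ∀ g : G,
      CfsgLib.Clifford.conjFn g (θ : N → ℂ) = (θ : N → ℂ)) :
    ∀ n ∈ N, ∀ u ∈ (P : Subgroup G), u * n = n * u := by
  classical
  have := Fintype.ofFinite N
  let cj : G → (N ≃* N) := fun g => CfsgLib.Block.conjEquiv N g
  have hfixcls : ∀ (g : G) (n : N), IsConj (cj g n) n := by
    intro g n
    have h := CfsgLib.Char.natCard_fixed_irr_eq (G := N) (fun x => cj g x)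
      fun χ h => CfsgLib.Char.isIrrCharacter_comp_surjective h (cj g).toMonoidHom (cj g).surjective
    rw [Nat.card_congr (Equiv.subtypeUnivEquiv fun θ : Cfsg.IrrCharacter N => funext fun x => by
      have := congrFun (hinv θ g) x
      rw [CfsgLib.Clifford.conjFn_apply] at this
      refine Eq.trans ?_ this
      rfl), CfsgLib.Char.irr_card_eq] at h
    have hb : Function.Bijective (Subtype.val :
        {C : ConjClasses N // ∀ x, ConjClasses.mk x = C → IsConj (cj g x) x} → ConjClasses N) :=
      (Nat.bijective_iff_injective_and_card _).2 ⟨Subtype.val_injective, h.symm⟩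
    obtain ⟨⟨C, hC⟩, e⟩ := hb.2 (ConjClasses.mk n)
    exact hC n e.symm
  set C := (Subgroup.centralizer ((P : Subgroup G) : Set G)).subgroupOf N
  have hC : C = ⊤ := by
    refine CfsgLib.StructB.eq_top_of_conj_cover C fun n => ?_
    let X := {m : N // IsConj n m}
    let _ : MulAction (P : Subgroup G) X :=
      { smul := fun u m => ⟨cj u m.1, m.2.trans (hfixcls u m.1).symm⟩
        one_smul := fun m => Subtype.ext (Subtype.ext (show ((1 : (P : Subgroup G)) : G) * m.1 *
          ((1 : (P : Subgroup G)) : G)⁻¹ = m.1 by simp))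
        mul_smul := fun a b m => Subtype.ext (Subtype.ext (show ((a * b : (P : Subgroup G)) : G) *
          m.1 * ((a * b : (P : Subgroup G)) : G)⁻¹ =
            (a : G) * ((b : G) * m.1 * (b : G)⁻¹) * (a : G)⁻¹ by simp [mul_assoc])) }
    have hdvd : ¬ p ∣ Nat.card X := by
      have e : Nat.card X = (Subgroup.centralizer ({n} : Set N)).index := by
        rw [← CfsgLib.Char.natCard_carrier_eq_index n]
        exact Nat.card_congr (Equiv.subtypeEquivRight fun y => by
          rw [ConjClasses.mem_carrier_iff_mk_eq, ConjClasses.mk_eq_mk_iff_isConj]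
          exact ⟨IsConj.symm, IsConj.symm⟩)
      rw [e]
      exact fun h => (Fact.out : p.Prime).one_lt.ne' (Nat.eq_one_of_dvd_coprimes hN
        (h.trans (Subgroup.index_dvd_card _)) dvd_rfl)
    obtain ⟨⟨m, hm⟩, hfix⟩ := P.2.nonempty_fixed_point_of_prime_not_dvd_card X hdvd
    obtain ⟨x, hx⟩ := isConj_iff.1 hm
    refine ⟨x, ?_⟩
    rw [hx, Subgroup.mem_subgroupOf, Subgroup.mem_centralizer_iff]
    intro u hu
    have h1 : u * (m : G) * u⁻¹ = (m : G) := congrArg Subtype.val (congrArg Subtype.val (hfix ⟨u, hu⟩))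
    exact mul_inv_eq_iff_eq_mul.1 h1
  intro n hn u hu
  have h1 : (⟨n, hn⟩ : N) ∈ C := hC ▸ Subgroup.mem_top _
  exact Subgroup.mem_centralizer_iff.1 (Subgroup.mem_subgroupOf.1 h1) u hu

/-- Let p be a prime and G a finite group that is not nilpotent and has a normal p-complement (a normal subgroup of order prime to p and index a power of p). If G has exactly one irreducible complex character of degree divisible by p, then G has exactly one conjugacy class whose size is divisible by p. -/
theorem result {G : Type*} [Group G] [Finite G] (p : ℕ) [Fact p.Prime] (hnil : ¬ Group.IsNilpotent G) (N : Subgroup G) [N.Normal] (hN : (Nat.card N).Coprime p) (hidx : ∃ k : ℕ, N.index = p ^ k) (hone : Nat.card {χ : Cfsg.IrrCharacter G // p ∣ Cfsg.charDegree (χ : G → ℂ)} = 1) : Nat.card {C : ConjClasses G // p ∣ Nat.card C.carrier} = 1 := by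
  classical
  have := Fintype.ofFinite G
  have := Fintype.ofFinite N
  obtain ⟨k, hk⟩ := hidx
  have hp : p.Prime := Fact.out
  obtain ⟨P⟩ := (inferInstance : Nonempty (Sylow p G))
  have hidxP : Nat.card (P : Subgroup G) = N.index := by
    rw [Sylow.card_eq_multiplicity, ← N.index_mul_card, hk,
      Nat.factorization_mul (pow_ne_zero _ hp.ne_zero) Nat.card_pos.ne', Finsupp.add_apply,
      hp.factorization_pow, Finsupp.single_eq_same,
      Nat.factorization_eq_zero_of_not_dvd (fun h => hp.one_lt.ne'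
        (Nat.eq_one_of_dvd_coprimes hN h dvd_rfl)), add_zero]
  let π : (P : Subgroup G) →* G ⧸ N := (QuotientGroup.mk' N).comp (P : Subgroup G).subtype
  have hπi : Function.Injective π := by
    rw [← MonoidHom.ker_eq_bot_iff, Subgroup.eq_bot_iff_forall]
    intro u hu
    have h1 : (u : G) ∈ N := (QuotientGroup.eq_one_iff _).1 hu
    obtain ⟨j, hj⟩ := IsPGroup.iff_orderOf.1 P.2 u
    rw [← orderOf_eq_one_iff]
    refine Nat.eq_one_of_dvd_coprimes (Nat.Coprime.pow_right j hN) ?_ hj.dvd
    rw [← Subgroup.orderOf_coe]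
    exact N.orderOf_dvd_natCard h1
  have hπb : Function.Bijective π := (Nat.bijective_iff_injective_and_card _).2
    ⟨hπi, by rw [hidxP, Subgroup.index_eq_card]⟩
  have hsup : ∀ g : G, ∃ n ∈ N, ∃ u ∈ (P : Subgroup G), n * u = g := by
    intro g
    obtain ⟨u, hu⟩ := hπb.2 (g : G ⧸ N)
    have h1 : (u : G)⁻¹ * g ∈ N := QuotientGroup.eq.1 hu
    refine ⟨g * (u : G)⁻¹, ?_, u, u.2, by group⟩
    have := (inferInstance : N.Normal).conj_mem _ h1 (u : G)
    rwa [show (u : G) * ((u : G)⁻¹ * g) * (u : G)⁻¹ = g * (u : G)⁻¹ by group] at this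
  by_cases hab : ∀ a ∈ (P : Subgroup G), ∀ b ∈ (P : Subgroup G), a * b = b * a
  · -- abelian Sylow subgroup
    set X := Subgroup.normalizer ((P : Subgroup G) : Set G) with hX
    have hc := fun x hx u hu => normalizer_centralizes N hN P hsup hab (x := x) hx (u := u) hu
    have hsol : Cfsg.IsPSolvable p G := by
      refine ⟨2, ![⊥, N, ⊤], rfl, rfl, ?_, ?_, ?_⟩
      · refine Fin.monotone_iff_le_succ.2 fun i => ?_
        fin_cases i <;> simp
      · intro i; fin_cases i <;> simp <;> infer_instance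
      · intro i
        fin_cases i
        · right; simpa using hN
        · left; exact ⟨k, by simpa using hk⟩
    have := Fintype.ofFinite (⊥ : Subgroup G)
    have := Fintype.ofFinite X
    have hone' : Cfsg.IsIrrCharacter (⊥ : Subgroup G) (fun _ => (1 : ℂ)) :=
      CfsgLib.Char.isIrrCharacter_one
    have hMc := CfsgLib.BlockB.McKay.main_all ((⊥ : Subgroup G).index + 1) G hsol ⊥ P X
      (by rw [hX, bot_sup_eq]) bot_le (fun _ => (1 : ℂ)) hone' (fun _ _ _ _ _ => rfl)
      (Nat.lt_succ_self _)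
    have hover : ∀ {A : Type _} [Group A] [Finite A] (f : (⊥ : Subgroup G) → A),
        f 1 = 1 → ∀ (χ : Cfsg.IrrCharacter A),
        Cfsg.classInner ((χ : A → ℂ) ∘ f) (fun _ => (1 : ℂ)) ≠ 0 := by
      intro A _ _ f hf χ
      rw [CfsgLib.Char.classInner_def, Finset.sum_eq_single (1 : (⊥ : Subgroup G))]
      · simpa [hf] using CfsgLib.Char.irr_apply_one_ne_zero χ.2
      · intro b _ hb; exact absurd (Subtype.ext (Subgroup.mem_bot.1 b.2)) hb
      · intro h; exact absurd (Finset.mem_univ _) h
    replace hMc : Nat.card {χ : Cfsg.IrrCharacter G // ¬ p ∣ Cfsg.charDegree (χ : G → ℂ)} =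
        Nat.card {χ : Cfsg.IrrCharacter X // ¬ p ∣ Cfsg.charDegree (χ : X → ℂ)} :=
      (Nat.card_congr (Equiv.subtypeEquivRight fun χ =>
        (and_iff_left (hover (fun l : (⊥ : Subgroup G) => (l : G)) rfl χ)))).symm.trans
        (hMc.trans (Nat.card_congr (Equiv.subtypeEquivRight fun χ =>
          (and_iff_left (hover (Subgroup.inclusion bot_le) (map_one _) χ)))))
    have hPn : ((P : Subgroup G).subgroupOf X).Normal := by
      rw [hX]; exact Subgroup.normal_in_normalizer
    have hall : ∀ χ : Cfsg.IrrCharacter X, ¬ p ∣ Cfsg.charDegree (χ : X → ℂ) := fun χ h => by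
      have h1 := h.trans (CfsgLib.KnownB.charDegree_dvd_index ((P : Subgroup G).subgroupOf X)
        (fun a ha b hb => Subtype.ext (hab a ha b hb)) χ)
      exact P.not_dvd_index (h1.trans (Subgroup.relIndex_dvd_index_of_le
        (hX ▸ Subgroup.le_normalizer)))
    rw [Nat.card_congr (Equiv.subtypeUnivEquiv hall), CfsgLib.Char.irr_card_eq,
      ← natCard_good_classes P hc] at hMc
    have := Fintype.ofFinite (Cfsg.IrrCharacter G)
    have : Finite (ConjClasses G) := Finite.of_surjective _ ConjClasses.mk_surjective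
    have := Fintype.ofFinite (ConjClasses G)
    have h1 : Nat.card {χ : Cfsg.IrrCharacter G // p ∣ Cfsg.charDegree (χ : G → ℂ)} +
        Nat.card {χ : Cfsg.IrrCharacter G // ¬ p ∣ Cfsg.charDegree (χ : G → ℂ)} =
        Nat.card (Cfsg.IrrCharacter G) := by
      rw [← Nat.card_sum, Nat.card_congr (Equiv.sumCompl _)]
    have h2 : Nat.card {C : ConjClasses G // p ∣ Nat.card C.carrier} +
        Nat.card {C : ConjClasses G // ¬ p ∣ Nat.card C.carrier} = Nat.card (ConjClasses G) := by
      rw [← Nat.card_sum, Nat.card_congr (Equiv.sumCompl _)]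
    have h3 : Nat.card (Cfsg.IrrCharacter G) = Nat.card (ConjClasses G) := CfsgLib.Char.irr_card_eq
    omega
  · -- nonabelian Sylow subgroup: the group is nilpotent
    exfalso
    obtain ⟨⟨χ₀, hχ₀⟩, huniq⟩ := Nat.card_eq_one_iff_exists.1 hone
    -- a nonlinear character of the quotient
    have hquot : ∃ ψ : Cfsg.IrrCharacter G, p ∣ Cfsg.charDegree (ψ : G → ℂ) ∧
        ∀ n ∈ N, ∀ g : G, (ψ : G → ℂ) (n * g) = (ψ : G → ℂ) g := by
      obtain ⟨η, hη⟩ : ∃ η : Cfsg.IrrCharacter (P : Subgroup G), (η : ↥(P : Subgroup G) → ℂ) 1 ≠ 1 := by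
        by_contra h
        push Not at h
        exact hab fun a ha b hb =>
          congrArg Subtype.val ((CfsgLib.Char.comm_iff_forall_degree_one).2 h ⟨a, ha⟩ ⟨b, hb⟩)
      let e := MulEquiv.ofBijective π hπb
      refine ⟨⟨_, CfsgLib.Char.isIrrCharacter_comp_surjective η.2
        (e.symm.toMonoidHom.comp (QuotientGroup.mk' N))
        (e.symm.surjective.comp (QuotientGroup.mk'_surjective N))⟩, ?_, fun n hn g => ?_⟩
      · have hdeg : Cfsg.charDegree (η : ↥(P : Subgroup G) → ℂ) ∣ Nat.card (P : Subgroup G) :=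
          CfsgLib.Clifford.Degrees.charDegree_dvd_card η.2
        obtain ⟨j, hj⟩ := IsPGroup.iff_card.1 P.2
        rw [hj] at hdeg
        obtain ⟨i, -, hi⟩ := (Nat.dvd_prime_pow hp).1 hdeg
        have hd : Cfsg.charDegree ((η : ↥(P : Subgroup G) → ℂ) ∘
            (e.symm.toMonoidHom.comp (QuotientGroup.mk' N))) = p ^ i := by
          rw [← hi]
          unfold Cfsg.charDegree
          rw [Function.comp_apply, map_one]
        rw [hd]
        refine dvd_pow_self p fun h0 => hη ?_
        rw [CfsgLib.Block.charDegree_spec (CfsgLib.Char.irr_isCharacter η.2), hi, h0, pow_zero,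
          Nat.cast_one]
      · show (η : ↥(P : Subgroup G) → ℂ) (e.symm (QuotientGroup.mk' N (n * g))) = _
        rw [map_mul, show QuotientGroup.mk' N n = 1 from (QuotientGroup.eq_one_iff n).2 hn, one_mul]
        rfl
    obtain ⟨ψ₀, hψp, hψN⟩ := hquot
    have huniq' : ∀ χ : Cfsg.IrrCharacter G, p ∣ Cfsg.charDegree (χ : G → ℂ) → χ = ψ₀ :=
      fun χ hχ => (congrArg Subtype.val (huniq ⟨χ, hχ⟩)).trans
        (congrArg Subtype.val (huniq ⟨ψ₀, hψp⟩)).symm
    -- every character of `N` is invariant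
    have hinv : ∀ θ : Cfsg.IrrCharacter N, ∀ g : G,
        CfsgLib.Clifford.conjFn g (θ : N → ℂ) = (θ : N → ℂ) := by
      intro θ g
      by_cases hθ1 : (θ : N → ℂ) = fun _ => 1
      · rw [hθ1]; rfl
      obtain ⟨χ, hχ, hχθ⟩ : ∃ χ : G → ℂ, Cfsg.IsIrrCharacter G χ ∧
          Cfsg.classInner (fun n : N => χ n) (θ : N → ℂ) ≠ 0 :=
        CfsgLib.Clifford.Degrees.exists_over N θ.2
      have hχp : ¬ p ∣ Cfsg.charDegree χ := by
        intro h
        have e := huniq' ⟨χ, hχ⟩ h
        apply hχθ
        have hconst : (fun n : N => χ n) = fun _ => χ 1 := funext fun n => by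
          have := hψN n n.2 1
          rw [← e, mul_one] at this
          exact this
        have h0 := CfsgLib.Char.irr_classInner_ne CfsgLib.Char.isIrrCharacter_one θ.2
          (Ne.symm hθ1)
        rw [CfsgLib.Char.classInner_def] at h0 ⊢
        rw [Finset.sum_congr rfl fun m _ => by rw [congrFun hconst m]]
        simp only [one_mul] at h0
        simp only [← Finset.mul_sum, mul_left_comm _ (χ 1), h0, mul_zero]
      set T := CfsgLib.Clifford.inertia (θ : N → ℂ)
      have := Fintype.ofFinite T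
      have hNT : N ≤ T := CfsgLib.Clifford.le_inertia (CfsgLib.Char.irr_isClassFunction θ.2)
      obtain ⟨φ, hφ, hind, -⟩ := CfsgLib.Clifford.exists_indFun_inertia (T := T) (hNT := hNT) θ.2
        (fun g => CfsgLib.Clifford.mem_inertia_iff_conjFn) hχ hχθ
      have hdeg : T.index ∣ Cfsg.charDegree χ := by
        refine ⟨Cfsg.charDegree φ, ?_⟩
        have h1 : χ 1 = (T.index : ℂ) * φ 1 := by
          rw [← hind]; exact CfsgLib.Char.indFun_apply_one T φ
        rw [CfsgLib.Block.charDegree_spec (CfsgLib.Char.irr_isCharacter hχ),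
          CfsgLib.Block.charDegree_spec (CfsgLib.Char.irr_isCharacter hφ), ← Nat.cast_mul] at h1
        exact_mod_cast h1
      obtain ⟨i, -, hi⟩ := (Nat.dvd_prime_pow hp).1 (hk ▸ Subgroup.index_dvd_of_le hNT)
      have hi0 : i = 0 := by
        by_contra h0
        exact hχp ((dvd_pow_self p h0).trans (hi ▸ hdeg))
      have hTtop : T = ⊤ := Subgroup.index_eq_one.1 (by rw [hi, hi0, pow_zero])
      refine CfsgLib.Clifford.mem_inertia_iff_conjFn.1 ?_
      show g ∈ T
      rw [hTtop]
      exact Subgroup.mem_top g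
    have hcomm := commute_of_invariant N hN P hinv
    -- the product decomposition
    have huniqdec : ∀ g : G, ∃ n : N, ∃ u : (P : Subgroup G), (n : G) * u = g := fun g => by
      obtain ⟨n, hn, u, hu, e⟩ := hsup g
      exact ⟨⟨n, hn⟩, ⟨u, hu⟩, e⟩
    let prod : N × (P : Subgroup G) →* G :=
      MonoidHom.noncommCoprod N.subtype (P : Subgroup G).subtype fun n u =>
        (hcomm n n.2 u u.2).symm
    have hprod : Function.Bijective prod := (Nat.bijective_iff_surjective_and_card _).2
      ⟨fun g => by obtain ⟨n, u, e⟩ := huniqdec g; exact ⟨(n, u), e⟩,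
        by rw [Nat.card_prod, hidxP, mul_comm, N.index_mul_card]⟩
    let E := MulEquiv.ofBijective prod hprod
    by_cases hN1 : N = ⊥
    · apply hnil
      have hGp : IsPGroup p G := IsPGroup.of_card (n := k) (by
        rw [← N.index_mul_card, hk, hN1, Subgroup.card_bot, mul_one])
      exact hGp.isNilpotent
    -- a second character of degree divisible by `p`
    obtain ⟨θ, hθ1⟩ : ∃ θ : Cfsg.IrrCharacter N, (θ : N → ℂ) ≠ fun _ => 1 := by
      by_contra h
      push Not at h
      have hs : Subsingleton (Cfsg.IrrCharacter N) := ⟨fun a b => Subtype.ext ((h a).trans (h b).symm)⟩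
      have h1 : Nat.card (ConjClasses N) ≤ 1 := by
        rw [← CfsgLib.Char.irr_card_eq]
        exact Finite.card_le_one_iff_subsingleton.2 hs
      have hs' := Finite.card_le_one_iff_subsingleton.1 h1
      apply hN1
      rw [Subgroup.eq_bot_iff_forall]
      intro x hx
      have := ConjClasses.mk_eq_mk_iff_isConj.1
        (Subsingleton.elim (ConjClasses.mk (⟨x, hx⟩ : N)) (ConjClasses.mk 1))
      exact congrArg Subtype.val (isConj_one_left.1 this)
    let q : G →* N := (MonoidHom.fst N (P : Subgroup G)).comp E.symm.toMonoidHom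
    have hq : ∀ n : N, q n = n := fun n => by
      have e : E (n, 1) = (n : G) := by
        show (n : G) * ((1 : (P : Subgroup G)) : G) = (n : G)
        rw [OneMemClass.coe_one, mul_one]
      show (E.symm (n : G)).1 = n
      rw [← e, E.symm_apply_apply]
    have hΘ : Cfsg.IsIrrCharacter G ((θ : N → ℂ) ∘ q) :=
      CfsgLib.Char.isIrrCharacter_comp_surjective θ.2 q fun n => ⟨n, hq n⟩
    have hres : (fun n : N => ((θ : N → ℂ) ∘ q) n) = (θ : N → ℂ) :=
      funext fun n => congrArg (θ : N → ℂ) (hq n)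
    have hmul := CfsgLib.Clifford.isIrrCharacter_mul_of_invariant (N := N)
      (CfsgLib.Char.irr_isCharacter hΘ) (by rw [hres]; exact θ.2) ψ₀.2 fun n g => hψN n n.2 g
    have hval : ((θ : N → ℂ) ∘ q * (ψ₀ : G → ℂ)) 1 = (θ : N → ℂ) 1 * (ψ₀ : G → ℂ) 1 := by
      simp
    have e := huniq' ⟨_, hmul⟩ (by
      have h1 := CfsgLib.Block.charDegree_spec (CfsgLib.Char.irr_isCharacter hmul)
      rw [hval, CfsgLib.Block.charDegree_spec (CfsgLib.Char.irr_isCharacter θ.2),
        CfsgLib.Block.charDegree_spec (CfsgLib.Char.irr_isCharacter ψ₀.2), ← Nat.cast_mul] at h1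
      rw [← Nat.cast_injective h1]
      exact dvd_mul_of_dvd_right hψp _)
    have hval' : ∀ n : N, (θ : N → ℂ) n * (ψ₀ : G → ℂ) 1 = (ψ₀ : G → ℂ) 1 := fun n => by
      have h := congrFun (congrArg Subtype.val e) (n : G)
      have h2 := hψN n n.2 1
      rw [mul_one] at h2
      simp only [Pi.mul_apply, Function.comp_apply, hq, h2] at h
      exact h
    exact hθ1 (funext fun n => by
      have h := hval' n
      exact mul_right_cancel₀ (CfsgLib.Char.irr_apply_one_ne_zero ψ₀.2) (h.trans (one_mul _).symm))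

end Cfsg.Agent.S4763
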