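import Cfsg.Statements.S4774
import Cfsg.Agent.Lib.BlockB.PSL2Degrees
-- import your own Cfsg.Agent.* helpers here

set_option autoImplicit false
open Cfsg

namespace Cfsg.Agent.S4774

/-- Let F be a finite field of odd characteristic t with q > 5 elements and let S be isomorphic to PSL(2,F) or to SL(2,F). Then the vertices of the character degree graph of S are the primes dividing q(q²−1); the prime t is adjacent to no vertex; two distinct primes dividing q² − 1 are adjacent exactly when one of them is 2, or both divide q + 1, or both divide q − 1. -/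
theorem result (F : Type*) [Field F] [Fintype F] (t : ℕ) [Fact t.Prime] [CharP F t] (ht : t ≠ 2) (q : ℕ) (hq : Fintype.card F = q) (h5 : 5 < q) {S : Type*} [Group S] [Finite S] (hS : Nonempty (S ≃* Matrix.ProjectiveSpecialLinearGroup (Fin 2) F) ∨ Nonempty (S ≃* Matrix.SpecialLinearGroup (Fin 2) F)) : Cfsg.degreePrimes S = {r : ℕ | r.Prime ∧ r ∣ q * (q ^ 2 - 1)} ∧ ∀ r s : ℕ, (Cfsg.degreeGraph S).Adj r s ↔ (r ≠ s ∧ r.Prime ∧ s.Prime ∧ r ∣ q ^ 2 - 1 ∧ s ∣ q ^ 2 - 1 ∧ (r = 2 ∨ s = 2 ∨ (r ∣ q + 1 ∧ s ∣ q + 1) ∨ (r ∣ q - 1 ∧ s ∣ q - 1))) := by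
  classical
  subst hq
  obtain ⟨n, -, hn⟩ := FiniteField.card F t
  have hodd : Odd (Fintype.card F) := hn ▸ ((Fact.out : t.Prime).odd_of_ne_two ht).pow
  obtain ⟨h1, h2⟩ := CfsgLib.BlockB.PSL2Degrees.degree_graph hS t Fact.out ⟨n, hn⟩
    (fun h => by have := Nat.le_of_dvd (by norm_num) h; obtain ⟨k, hk⟩ := hodd; omega)
    (fun h => by have := Nat.le_of_dvd (by norm_num) h; omega)
  have hsq : Fintype.card F ^ 2 - 1 = (Fintype.card F + 1) * (Fintype.card F - 1) := by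
    simpa using Nat.sq_sub_sq (Fintype.card F) 1
  refine ⟨h1, fun r s => (h2 r s).trans ⟨?_, ?_⟩⟩
  · rintro ⟨hne, hr, hs, h⟩
    refine ⟨hne, hr, hs, ?_, ?_, Or.inr (Or.inr h)⟩ <;> rw [hsq] <;> rcases h with h | h
    · exact dvd_mul_of_dvd_left h.1 _
    · exact dvd_mul_of_dvd_right h.1 _
    · exact dvd_mul_of_dvd_left h.2 _
    · exact dvd_mul_of_dvd_right h.2 _
  · rintro ⟨hne, hr, hs, hr1, hs1, h⟩
    refine ⟨hne, hr, hs, ?_⟩
    have h2p : 2 ∣ Fintype.card F + 1 := even_iff_two_dvd.1 hodd.add_one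
    have h2m : 2 ∣ Fintype.card F - 1 := even_iff_two_dvd.1 (Nat.Odd.sub_odd hodd odd_one)
    rw [hsq] at hr1 hs1
    rcases h with h | h | h
    · subst h
      exact (hs.dvd_mul.1 hs1).imp (fun h => ⟨h2p, h⟩) fun h => ⟨h2m, h⟩
    · subst h
      exact (hr.dvd_mul.1 hr1).imp (fun h => ⟨h, h2p⟩) fun h => ⟨h, h2m⟩
    · exact h

end Cfsg.Agent.S4774
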