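import Cfsg.Statements.S4776
import Cfsg.Agent.Lib.BlockB.RelDegreeComponents

set_option autoImplicit false
open Cfsg

namespace Cfsg.Agent.S4776

/-- Let N be a normal subgroup of the finite group G that is not perfect and is contained in the derived subgroup of G. Consider the common-divisor graph on the relative degree set cd(G|N) (the degrees of the irreducible complex characters of G whose kernel does not contain N; two distinct degrees adjacent when they have a common divisor greater than one). Then this graph has at most two connected components; and if a, b ∈ cd(G|N) lie in different components, then one of a, b is coprime to the index m of the derived subgroup of N in N while the other is divisible by every prime divisor of m. -/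
theorem result {G : Type*} [Group G] [Finite G] (N : Subgroup G) [N.Normal] (hN : ⁅N, N⁆ < N) (hNG : N ≤ commutator G) : Nat.card (Cfsg.commonDivisorGraph.induce (Cfsg.relCharDegrees N)).ConnectedComponent ≤ 2 ∧ ∀ (a b : ℕ) (ha : a ∈ Cfsg.relCharDegrees N) (hb : b ∈ Cfsg.relCharDegrees N), ¬ (Cfsg.commonDivisorGraph.induce (Cfsg.relCharDegrees N)).Reachable ⟨a, ha⟩ ⟨b, hb⟩ → (Nat.Coprime a (⁅N, N⁆.relIndex N) ∧ ∀ r : ℕ, r.Prime → r ∣ ⁅N, N⁆.relIndex N → r ∣ b) ∨ (Nat.Coprime b (⁅N, N⁆.relIndex N) ∧ ∀ r : ℕ, r.Prime → r ∣ ⁅N, N⁆.relIndex N → r ∣ a) := by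
  classical
  set m := ⁅N, N⁆.relIndex N with hm
  have hm1 : m ≠ 1 := fun h => hN.not_ge (Subgroup.relIndex_eq_one.1 h)
  have hpair : ∀ x y : ↥(Cfsg.relCharDegrees N),
      ((∃ r : ℕ, r.Prime ∧ r ∣ m ∧ ¬ r ∣ x.1) ↔ (∃ r : ℕ, r.Prime ∧ r ∣ m ∧ ¬ r ∣ y.1)) →
      (Cfsg.commonDivisorGraph.induce (Cfsg.relCharDegrees N)).Reachable x y := by
    intro x y hiff
    by_cases hx : ∃ r : ℕ, r.Prime ∧ r ∣ m ∧ ¬ r ∣ x.1
    · obtain ⟨r, hr, hrm, hrx⟩ := hx
      obtain ⟨t, ht, htm, hty⟩ := hiff.1 ⟨r, hr, hrm, hrx⟩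
      exact CfsgLib.BlockB.RelDegreeGraph.reachable_of_not_dvd hNG hr ht hrm htm hrx hty
    · have hy : ¬ ∃ r : ℕ, r.Prime ∧ r ∣ m ∧ ¬ r ∣ y.1 := fun h => hx (hiff.2 h)
      push Not at hx hy
      obtain ⟨r, hr, hrm⟩ := Nat.exists_prime_and_dvd hm1
      exact CfsgLib.BlockB.RelDegreeGraph.link_dvd hr.one_lt (hx r hr hrm) (hy r hr hrm)
        (CfsgLib.BlockB.RelDegreeGraph.ne_zero_of_mem x.2)
  refine ⟨?_, fun a b ha hb hne => ?_⟩
  · refine (Nat.card_le_card_of_injective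
      (fun c : (Cfsg.commonDivisorGraph.induce (Cfsg.relCharDegrees N)).ConnectedComponent =>
        decide (∃ r : ℕ, r.Prime ∧ r ∣ m ∧ ¬ r ∣ c.out.1)) fun c c' h => ?_).trans
      (by simp)
    have h' : (∃ r : ℕ, r.Prime ∧ r ∣ m ∧ ¬ r ∣ c.out.1) ↔
        ∃ r : ℕ, r.Prime ∧ r ∣ m ∧ ¬ r ∣ c'.out.1 := by simpa using h
    rw [← Quot.out_eq c, ← Quot.out_eq c']
    exact SimpleGraph.ConnectedComponent.sound (hpair _ _ h')
  · by_cases hX : ∃ r : ℕ, r.Prime ∧ r ∣ m ∧ ¬ r ∣ a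
    · have hY : ¬ ∃ r : ℕ, r.Prime ∧ r ∣ m ∧ ¬ r ∣ b := fun h =>
        hne (hpair ⟨a, ha⟩ ⟨b, hb⟩ ⟨fun _ => h, fun _ => hX⟩)
      push Not at hY
      refine Or.inl ⟨Nat.coprime_of_dvd fun r hr hra hrm => hne ?_, hY⟩
      exact CfsgLib.BlockB.RelDegreeGraph.link_dvd hr.one_lt hra (hY r hr hrm)
        (CfsgLib.BlockB.RelDegreeGraph.ne_zero_of_mem ha)
    · push Not at hX
      refine Or.inr ⟨Nat.coprime_of_dvd fun r hr hrb hrm => hne ?_, hX⟩
      exact CfsgLib.BlockB.RelDegreeGraph.link_dvd hr.one_lt (hX r hr hrm) hrb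
        (CfsgLib.BlockB.RelDegreeGraph.ne_zero_of_mem ha)

end Cfsg.Agent.S4776
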