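import Cfsg.Statements.S4782
import Cfsg.Agent.Lib.BlockB.TwoPrimeDegrees
-- import your own Cfsg.Agent.* helpers here

set_option autoImplicit false
open Cfsg

namespace Cfsg.Agent.S4782

/-- If the finite group G is not solvable, then at least three distinct primes each divide some irreducible complex character degree of G. -/
theorem result {G : Type*} [Group G] [Finite G] (hG : ¬ Group.IsSolvable G) : ∃ p q r : ℕ, p ≠ q ∧ q ≠ r ∧ p ≠ r ∧ p ∈ Cfsg.degreePrimes G ∧ q ∈ Cfsg.degreePrimes G ∧ r ∈ Cfsg.degreePrimes G := by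
  by_contra hcon
  refine hG ?_
  obtain ⟨p, q, hp, hq, hsub⟩ : ∃ p q : ℕ, p.Prime ∧ q.Prime ∧
      ∀ r ∈ Cfsg.degreePrimes G, r = p ∨ r = q := by
    by_cases h0 : ∃ a, a ∈ Cfsg.degreePrimes G
    · obtain ⟨a, ha⟩ := h0
      by_cases h1 : ∃ b ∈ Cfsg.degreePrimes G, b ≠ a
      · obtain ⟨b, hb, hba⟩ := h1
        refine ⟨a, b, ha.1, hb.1, fun r hr => ?_⟩
        by_contra hr'
        push Not at hr'
        exact hcon ⟨a, b, r, hba.symm, fun h => hr'.2 h.symm, fun h => hr'.1 h.symm, ha, hb, hr⟩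
      · exact ⟨a, a, ha.1, ha.1, fun r hr => Or.inl (by_contra fun h => h1 ⟨r, hr, h⟩)⟩
    · exact ⟨2, 2, Nat.prime_two, Nat.prime_two, fun r hr => absurd ⟨r, hr⟩ h0⟩
  exact CfsgLib.BlockB.TwoPrimeDegrees.isSolvable_of_two_primes p q hp hq _ G le_rfl hsub

end Cfsg.Agent.S4782
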