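import Cfsg.Statements.S4784
import Cfsg.Agent.Lib.BlockB.SqrtCount
import Cfsg.Agent.Lib.BlockB.Codegree
import Cfsg.Agent.Lib.BlockB.CosetSum

set_option autoImplicit false
open Cfsg

namespace Cfsg.Agent.S4784

/-- Let H be a subgroup of the finite group G and consider the permutation character of G on the cosets of H (the function induced from the principal character of H). Then exactly one irreducible constituent of it is real-valued with Frobenius–Schur indicator +1 (namely the principal character) if and only if the normal core of H has odd index in G. -/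
theorem result {G : Type*} [Group G] [Fintype G] (H : Subgroup G) : Nat.card {χ : Cfsg.IrrCharacter G // Cfsg.classInner (Cfsg.indFun H (fun _ : H => (1 : ℂ))) (χ : G → ℂ) ≠ 0 ∧ (∀ g : G, (starRingEnd ℂ) ((χ : G → ℂ) g) = (χ : G → ℂ) g) ∧ (Nat.card G : ℂ)⁻¹ * ∑ g : G, (χ : G → ℂ) (g * g) = 1} = 1 ↔ Odd H.normalCore.index := by
  classical
  have := Fintype.ofFinite (Cfsg.IrrCharacter G)
  have := Fintype.ofFinite H
  set π := Cfsg.indFun H (fun _ : H => (1 : ℂ)) with hπ
  have hπc : Cfsg.IsCharacter G π :=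
    CfsgLib.Char.isCharacter_indFun H CfsgLib.Char.isCharacter_one
  choose m hm using fun χ : Cfsg.IrrCharacter G =>
    CfsgLib.Char.classInner_isCharacter_nat hπc (CfsgLib.Char.irr_isCharacter χ.2)
  let χ0 : Cfsg.IrrCharacter G := ⟨fun _ => 1, CfsgLib.Char.isIrrCharacter_one⟩
  have hm0 : m χ0 = 1 := by
    have h := hm χ0
    rw [hπ, CfsgLib.Char.frobenius_reciprocity H _ _ (CfsgLib.Char.irr_isClassFunction χ0.2),
      CfsgLib.Char.irr_classInner_self CfsgLib.Char.isIrrCharacter_one] at h
    exact_mod_cast h.symm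
  have hν0 : CfsgLib.BlockB.fsInd χ0 = 1 := by
    simp [CfsgLib.BlockB.fsInd, χ0]
  let Q : Cfsg.IrrCharacter G → Prop := fun χ => Cfsg.classInner π (χ : G → ℂ) ≠ 0 ∧
    (∀ g : G, (starRingEnd ℂ) ((χ : G → ℂ) g) = (χ : G → ℂ) g) ∧ CfsgLib.BlockB.fsInd χ = 1
  have hQ0 : Q χ0 := ⟨by rw [hm, hm0]; simp, fun g => by simp [χ0], hν0⟩
  show Nat.card {χ : Cfsg.IrrCharacter G // Q χ} = 1 ↔ _
  constructor
  · intro hcard
    have huniq : ∀ χ, Q χ → χ = χ0 := fun χ hχ => by
      obtain ⟨hs, -⟩ := Nat.card_eq_one_iff_unique.1 hcard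
      exact congrArg Subtype.val (hs.elim ⟨χ, hχ⟩ ⟨χ0, hQ0⟩)
    -- every element squaring into `H` lies in `H`
    have hsum : ∑ h : H, CfsgLib.BlockB.sqrtCount (h : G) =
        (Nat.card H : ℂ) * ∑ χ : Cfsg.IrrCharacter G, CfsgLib.BlockB.fsInd χ * m χ := by
      simp only [CfsgLib.BlockB.sqrtCount_eq_sum]
      rw [Finset.sum_comm, Finset.mul_sum]
      refine Finset.sum_congr rfl fun χ _ => ?_
      have h := congrArg (starRingEnd ℂ) (hm χ)
      rw [hπ, CfsgLib.Char.frobenius_reciprocity H _ _ (CfsgLib.Char.irr_isClassFunction χ.2),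
        CfsgLib.Char.classInner_conj_symm, CfsgLib.Char.classInner_def, Complex.conj_natCast,
        inv_mul_eq_iff_eq_mul₀ CfsgLib.Char.natCard_ne_zero] at h
      simp only [map_one, mul_one] at h
      rw [← Finset.mul_sum, h]
      ring
    let T : Finset G := Finset.univ.filter fun s => s * s ∈ H
    have hT : ∑ h : H, CfsgLib.BlockB.sqrtCount (h : G) = (T.card : ℂ) := by
      rw [Finset.card_eq_sum_card_fiberwise (f := fun s => s * s)
        (t := Finset.univ.filter fun x => x ∈ H) (fun s hs => by simpa [T] using hs), Nat.cast_sum,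
        Finset.sum_subtype (Finset.univ.filter fun x => x ∈ H) (p := fun x => x ∈ H) (by simp)]
      refine Finset.sum_congr rfl fun h _ => ?_
      simp only [CfsgLib.BlockB.sqrtCount, Nat.cast_inj]
      congr 1
      ext s
      simp only [T, Finset.mem_filter, Finset.mem_univ, true_and]
      exact ⟨fun e => ⟨e ▸ h.2, e⟩, fun e => e.2⟩
    have hle : T.card ≤ Nat.card H := by
      have hre : (∑ χ : Cfsg.IrrCharacter G, CfsgLib.BlockB.fsInd χ * m χ).re ≤ 1 := by
        rw [Complex.re_sum, ← Finset.add_sum_erase _ _ (Finset.mem_univ χ0), hν0, hm0]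
        simp only [Nat.cast_one, mul_one, Complex.one_re, add_le_iff_nonpos_right]
        refine Finset.sum_nonpos fun χ hχ => ?_
        rcases CfsgLib.BlockB.fsInd_cases χ with ⟨h, -⟩ | ⟨h | h, hr⟩
        · simp [h]
        · by_cases hmχ : m χ = 0
          · simp [hmχ]
          · exact absurd (huniq χ ⟨by rw [hm]; exact_mod_cast hmχ,
              fun g => Complex.conj_eq_iff_im.2 (hr g), h⟩) (Finset.mem_erase.1 hχ).1
        · simp [h]
      have h2 := congrArg Complex.re (hT.symm.trans hsum)
      rw [Complex.natCast_re, ← Complex.ofReal_natCast (Nat.card H), Complex.re_ofReal_mul] at h2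
      have : (T.card : ℝ) ≤ (Nat.card H : ℝ) := by
        rw [h2]
        calc _ ≤ (Nat.card H : ℝ) * 1 := by gcongr
          _ = _ := mul_one _
      exact_mod_cast this
    have hTeq : (Finset.univ.filter fun s => s ∈ H) = T := by
      refine Finset.eq_of_subset_of_card_le (fun s hs => ?_) ?_
      · simp only [T, Finset.mem_filter, Finset.mem_univ, true_and] at hs ⊢
        exact H.mul_mem hs hs
      · calc T.card ≤ Nat.card H := hle
          _ = _ := by rw [Nat.card_eq_fintype_card, Fintype.card_subtype]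
    have hsq : ∀ s : G, s * s ∈ H → s ∈ H := fun s hs => by
      have : s ∈ T := by simp [T, hs]
      rw [← hTeq] at this
      simpa using this
    have h2el : ∀ (k : ℕ) (s : G), s ^ 2 ^ k = 1 → s ∈ H := by
      intro k
      induction k with
      | zero => intro s hs; rw [pow_zero, pow_one] at hs; exact hs ▸ H.one_mem
      | succ k ih =>
        intro s hs
        exact hsq s (ih _ (by rw [← pow_two, ← pow_mul, ← pow_succ', hs]))
    rw [← Nat.not_even_iff_odd, even_iff_two_dvd]
    intro hdvd
    have := Fact.mk Nat.prime_two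
    obtain ⟨P⟩ := Sylow.nonempty (p := 2) (G := G)
    have hPK : (P : Subgroup G) ≤ H.normalCore := fun s hs g => by
      obtain ⟨k, hk⟩ := IsPGroup.iff_orderOf.1 P.2 ⟨s, hs⟩
      rw [Subgroup.orderOf_mk] at hk
      refine h2el k _ ?_
      rw [conj_pow, ← hk, pow_orderOf_eq_one, mul_one, mul_inv_cancel]
    exact P.not_dvd_index (hdvd.trans (Subgroup.index_dvd_of_le hPK))
  · intro hodd
    rw [Nat.card_eq_one_iff_unique]
    refine ⟨⟨fun a b => Subtype.ext ?_⟩, ⟨⟨χ0, hQ0⟩⟩⟩
    suffices h : ∀ χ, Q χ → χ = χ0 by rw [h a.1 a.2, h b.1 b.2]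
    rintro χ ⟨hne, hreal, -⟩
    have hker : ∀ n ∈ H.normalCore, (χ : G → ℂ) n = (χ : G → ℂ) 1 := by
      by_contra hk
      push Not at hk
      obtain ⟨n, hn, hn'⟩ := hk
      have hFz : ∀ x : G, ∑ n : H.normalCore, (χ : G → ℂ) ((n : G) * x) = 0 :=
        CfsgLib.BlockB.sum_coset_irr_of_ker H.normalCore χ.2 ⟨⟨n, hn⟩, hn'⟩
      apply hne
      have hzero : ∑ h : H, (χ : G → ℂ) h = 0 := by
        have h1 : ∑ n : H.normalCore, ∑ h : H, (χ : G → ℂ) ((n : G) * h) =
            (Nat.card H.normalCore : ℂ) * ∑ h : H, (χ : G → ℂ) h := by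
          have e : ∀ n : H.normalCore,
              ∑ h : H, (χ : G → ℂ) ((n : G) * h) = ∑ h : H, (χ : G → ℂ) h := fun n =>
            Fintype.sum_equiv (Equiv.mulLeft (⟨n, H.normalCore_le n.2⟩ : H)) _
              (fun h : H => (χ : G → ℂ) h) fun h => rfl
          rw [Finset.sum_congr rfl (fun n _ => e n), Finset.sum_const, Finset.card_univ,
            nsmul_eq_mul, Nat.card_eq_fintype_card]
        rw [Finset.sum_comm, Finset.sum_eq_zero (fun (h : H) _ => hFz (h : G)), eq_comm,
          mul_eq_zero] at h1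
        exact h1.resolve_left CfsgLib.Char.natCard_ne_zero
      rw [hπ, CfsgLib.Char.frobenius_reciprocity H _ _ (CfsgLib.Char.irr_isClassFunction χ.2),
        CfsgLib.Char.classInner_def]
      simp only [one_mul, ← map_sum, hzero, map_zero, mul_zero]
    obtain ⟨ψ, hψ, he⟩ := CfsgLib.Char.isIrr_quotient_lift H.normalCore χ.2 hker
    have hψ1 := CfsgLib.Char.eq_one_of_real_odd (G := G ⧸ H.normalCore)
      (by rwa [← Subgroup.index_eq_card]) hψ (fun q => by
        obtain ⟨g, rfl⟩ := QuotientGroup.mk'_surjective H.normalCore q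
        have := hreal g
        rw [he] at this
        simpa [Complex.conj_eq_iff_im] using this)
    exact Subtype.ext (by rw [he, hψ1]; rfl)

end Cfsg.Agent.S4784
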