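import Cfsg.Statements.S4796
import Cfsg.Agent.Lib.BlockB.Codegree

set_option autoImplicit false
open Cfsg
open scoped Pointwise

namespace Cfsg.Agent.S4796

/-- Let G be a finite group with a faithful irreducible complex character χ whose codegree #G / χ(1) is a prime p (for a faithful character the kernel is trivial, so the codegree is #G / χ(1)). Then either G is cyclic of order p, or G is a Frobenius group whose Frobenius kernel has order p: some proper non-trivial subgroup H satisfies H ∩ gHg⁻¹ = 1 for every element g outside H, and the set of elements lying in no conjugate of H, together with the identity, has exactly p elements. -/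
theorem result {G : Type*} [Group G] [Finite G] (χ : Cfsg.IrrCharacter G) (hfaith : ∀ g : G, (χ : G → ℂ) g = (χ : G → ℂ) 1 → g = 1) (p : ℕ) (hp : p.Prime) (hcod : Nat.card G = p * Cfsg.charDegree (χ : G → ℂ)) : (IsCyclic G ∧ Nat.card G = p) ∨ ∃ H : Subgroup G, Cfsg.IsFrobeniusComplement H ∧ Nat.card ↥(Cfsg.frobeniusKernel H) = p := by
  classical
  have := Fact.mk hp
  obtain ⟨P, hPn, hP, hPi, hpd, hC⟩ :=
    CfsgLib.BlockB.exists_normal_of_prime_codeg χ hfaith hcod
  set d := Cfsg.charDegree (χ : G → ℂ) with hd
  by_cases hd1 : d = 1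
  · left
    rw [hd1, mul_one] at hcod
    exact ⟨isCyclic_of_prime_card hcod, hcod⟩
  · right
    obtain ⟨H, hH⟩ := Subgroup.exists_right_complement'_of_coprime (N := P) (by
      rw [hP, hPi]; exact (hp.coprime_iff_not_dvd).2 hpd)
    have hHc : Nat.card H = d := by rw [← hPi, hH.symm.index_eq_card]
    have hdisj : ∀ x, x ∈ P → x ∈ H → x = 1 := fun x hx hx' =>
      Subgroup.mem_bot.1 (hH.disjoint.le_bot ⟨hx, hx'⟩)
    have hcent : ∀ z ∈ H, ∀ y ∈ P, y ≠ 1 → z * y = y * z → z = 1 := by
      intro z hz y hy hy1 hzy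
      have hgen : Subgroup.zpowers y = P := by
        refine Subgroup.eq_of_le_of_card_ge (Subgroup.zpowers_le.2 hy) ?_
        rw [Nat.card_zpowers, hP]
        have h : orderOf y ∣ p := by
          rw [← hP, ← Subgroup.orderOf_mk y hy]; exact orderOf_dvd_natCard _
        rcases (Nat.dvd_prime hp).1 h with h | h
        · exact absurd (orderOf_eq_one_iff.1 h) hy1
        · rw [h]
      refine hdisj z ?_ hz
      rw [← hC, Subgroup.mem_centralizer_iff]
      intro w hw
      rw [SetLike.mem_coe, ← hgen] at hw
      obtain ⟨n, rfl⟩ := hw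
      exact ((show Commute y z from hzy.symm).zpow_left n).eq
    have hmem : ∀ (g w : G), w ∈ MulAut.conj g • H ↔ g⁻¹ * w * g ∈ H := fun g w => by
      rw [Subgroup.mem_pointwise_smul_iff_inv_smul_mem, ← map_inv, MulAut.smul_def,
        MulAut.conj_apply, inv_inv]
    have hfrob : Cfsg.IsFrobeniusComplement H := by
      refine ⟨fun h => hd1 ?_, fun h => hp.ne_one ?_, fun g hg => ?_⟩
      · rw [← hHc, h, Subgroup.card_bot]
      · have hc := hH.card_mul_card
        rw [h, Subgroup.card_top, hP] at hc
        exact Nat.eq_of_mul_eq_mul_right Nat.card_pos (by rw [one_mul]; exact hc)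
      · rw [Subgroup.eq_bot_iff_forall]
        intro x hx
        obtain ⟨⟨⟨y, hy⟩, ⟨h, hh⟩⟩, rfl⟩ := hH.surjective g
        have hy1 : y ≠ 1 := fun e => hg (by simpa [e] using hh)
        have hxg := (hmem _ _).1 hx.2
        have hz : y⁻¹ * x * y ∈ H := by
          have := H.mul_mem (H.mul_mem hh hxg) (H.inv_mem hh)
          simpa [mul_assoc] using this
        set z := y⁻¹ * x * y with hzdef
        have h1 : z⁻¹ * x ∈ P := by
          have e : z⁻¹ * x = (z⁻¹ * y * z) * y⁻¹ := by rw [hzdef]; group
          rw [e]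
          exact P.mul_mem (by simpa using hPn.conj_mem y hy z⁻¹) (P.inv_mem hy)
        have hzx : z = x := inv_mul_eq_one.1 (hdisj _ h1 (H.mul_mem (H.inv_mem hz) hx.1))
        refine hcent x hx.1 y hy hy1 ?_
        calc x * y = y * z := by rw [hzdef]; group
          _ = y * x := by rw [hzx]
    refine ⟨H, hfrob, ?_⟩
    have hset : Cfsg.frobeniusKernel H = (P : Set G) := by
      ext x
      constructor
      · rintro (rfl | hx)
        · exact P.one_mem
        · by_contra hxP
          obtain ⟨⟨⟨y, hy⟩, ⟨h, hh⟩⟩, rfl⟩ := hH.surjective x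
          have hh1 : h ≠ 1 := fun e => hxP (by simpa [e] using hy)
          let f : P → P := fun z => ⟨(z : G) * h * (z : G)⁻¹ * h⁻¹, by
            rw [show (z : G) * h * (z : G)⁻¹ * h⁻¹ = z * (h * (z : G)⁻¹ * h⁻¹) by group]
            exact P.mul_mem z.2 (hPn.conj_mem _ (P.inv_mem z.2) h)⟩
          have hinj : Function.Injective f := by
            rintro ⟨a, ha⟩ ⟨b, hb⟩ e
            have e' : a * h * a⁻¹ * h⁻¹ = b * h * b⁻¹ * h⁻¹ := congrArg Subtype.val e
            by_contra hab
            have hne : b⁻¹ * a ≠ 1 := fun e1 =>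
              hab (Subtype.ext (inv_mul_eq_one.1 e1).symm)
            refine hh1 (hcent h hh _ (P.mul_mem (P.inv_mem hb) ha) hne ?_)
            calc h * (b⁻¹ * a) = b⁻¹ * (b * h * b⁻¹ * h⁻¹) * h * a := by group
              _ = b⁻¹ * (a * h * a⁻¹ * h⁻¹) * h * a := by rw [e']
              _ = b⁻¹ * a * h := by group
          obtain ⟨w, hw⟩ := (Finite.injective_iff_surjective.1 hinj) ⟨y, hy⟩
          apply hx (w : G)
          rw [hmem]
          have hw' : (w : G) * h * (w : G)⁻¹ * h⁻¹ = y := congrArg Subtype.val hw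
          show (w : G)⁻¹ * (y * h) * w ∈ H
          rw [← hw']
          simpa [mul_assoc] using hh
      · intro hx
        by_cases h1 : x = 1
        · exact Or.inl h1
        · refine Or.inr fun g hg => h1 ?_
          have := hdisj _ (by simpa using hPn.conj_mem x hx g⁻¹) ((hmem g x).1 hg)
          calc x = g * (g⁻¹ * x * g) * g⁻¹ := by group
            _ = 1 := by rw [this]; group
    rw [hset]
    exact hP

end Cfsg.Agent.S4796
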