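import Cfsg.Statements.S4797
import Cfsg.Agent.Lib.BlockB.Codegree

set_option autoImplicit false
open Cfsg
open scoped commutatorElement

namespace Cfsg.Agent.S4797

/-- The codegree of an irreducible complex character χ of a finite group G is [G : ker χ] / χ(1), where ker χ is the set of elements at which χ takes the value χ(1). A non-trivial finite group is perfect if and only if no irreducible complex character of it has prime codegree. -/
theorem result {G : Type*} [Group G] [Finite G] [Nontrivial G] : commutator G = ⊤ ↔ ∀ χ : Cfsg.IrrCharacter G, ¬ ((Nat.card G / (Nat.card {g : G // (χ : G → ℂ) g = (χ : G → ℂ) 1} * Cfsg.charDegree (χ : G → ℂ)))).Prime := by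
  classical
  constructor
  · intro hperf χ hpr
    change (CfsgLib.BlockB.codeg χ).Prime at hpr
    have := Fact.mk hpr
    set K := CfsgLib.BlockB.charKer χ
    obtain ⟨ψ, -, hdeg, hfaith⟩ := CfsgLib.BlockB.exists_faithful_lift χ
    obtain ⟨P, hPn, hP, hPi, hpd, hC⟩ :=
      CfsgLib.BlockB.exists_normal_of_prime_codeg ψ hfaith (by
        rw [hdeg, ← Subgroup.index_eq_card, CfsgLib.BlockB.codeg_mul_degree χ])
    have hperf' : commutator (G ⧸ K) = ⊤ := by
      rw [commutator_def, ← Subgroup.map_top_of_surjective (QuotientGroup.mk' K)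
        (QuotientGroup.mk'_surjective K), ← Subgroup.map_commutator]
      congr 1
    -- the action on `P` is through an abelian group
    have hcyc : IsCyclic P := isCyclic_of_prime_card hP
    let f : G ⧸ K →* MulAut P := MulAut.conjNormal
    obtain ⟨a⟩ : Nonempty (MulAut P ≃* (ZMod (Nat.card P))ˣ) :=
      ⟨(IsCyclic.mulAutMulEquiv P).symm.symm⟩
    have hker : ∀ g : G ⧸ K, f g = 1 := fun g => by
      have h : g ∈ (a.toMonoidHom.comp f).ker :=
        Abelianization.commutator_subset_ker (a.toMonoidHom.comp f) (hperf' ▸ Subgroup.mem_top g)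
      exact a.injective (by simpa using h)
    have htop : Subgroup.centralizer (P : Set (G ⧸ K)) = ⊤ := by
      rw [eq_top_iff]
      intro g _
      rw [Subgroup.mem_centralizer_iff]
      intro y hy
      have := congrArg (fun F : MulAut P => ((F ⟨y, hy⟩ : P) : G ⧸ K)) (hker g)
      simp only [f, MulAut.conjNormal_apply, MulAut.one_apply] at this
      exact (mul_inv_eq_iff_eq_mul.1 this).symm
    rw [htop] at hC
    have hcomm : ∀ x y : G ⧸ K, x * y = y * x := fun x y =>
      congrArg Subtype.val (mul_comm' (⟨x, hC ▸ Subgroup.mem_top x⟩ : P) ⟨y, hC ▸ Subgroup.mem_top y⟩)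
    have hb : (⊤ : Subgroup (G ⧸ K)) = ⊥ := by
      rw [← hperf', eq_bot_iff, commutator_def, Subgroup.commutator_le]
      intro x _ y _
      exact Subgroup.mem_bot.2 (commutatorElement_eq_one_iff_mul_comm.2 (hcomm x y))
    rw [← hC, hb, Subgroup.card_bot] at hP
    exact hpr.ne_one hP.symm
  · intro h
    by_contra hne
    have h1 : (commutator G).index ≠ 1 := fun e => hne (Subgroup.index_eq_one.1 e)
    obtain ⟨q, hq, hqd⟩ := Nat.exists_prime_and_dvd h1
    have := Fact.mk hq
    rw [← CfsgLib.Char.natCard_linear] at hqd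
    obtain ⟨lam, hlam⟩ := exists_prime_orderOf_dvd_card' q hqd
    let χ : Cfsg.IrrCharacter G := ⟨fun g => (lam g : ℂ), CfsgLib.Char.isIrrCharacter_linear lam⟩
    refine h χ ?_
    change (CfsgLib.BlockB.codeg χ).Prime
    have hK : CfsgLib.BlockB.charKer χ = lam.ker := by
      ext g
      rw [CfsgLib.BlockB.mem_charKer, MonoidHom.mem_ker]
      simp [χ]
    have hd : Cfsg.charDegree (χ : G → ℂ) = 1 := by
      have := CfsgLib.BlockB.irr_degree_cast χ
      rw [show (χ : G → ℂ) 1 = 1 by simp [χ]] at this
      exact_mod_cast this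
    have hidx := CfsgLib.BlockB.codeg_mul_degree χ
    rw [hd, mul_one, hK, Subgroup.index_ker] at hidx
    rw [hidx]
    have hle : lam.range ≤ rootsOfUnity q ℂ := by
      rintro _ ⟨g, rfl⟩
      rw [mem_rootsOfUnity, ← MonoidHom.pow_apply, ← hlam, pow_orderOf_eq_one]
      rfl
    have hcard : Nat.card (rootsOfUnity q ℂ) = q := Complex.card_rootsOfUnity q
    have hdvd : Nat.card lam.range ∣ q := by
      have := Subgroup.card_dvd_of_le hle
      rwa [hcard] at this
    rcases (Nat.dvd_prime hq).1 hdvd with e | e
    · exfalso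
      have : lam = 1 := MonoidHom.range_eq_bot_iff.1 (Subgroup.card_eq_one.1 e)
      rw [this, orderOf_one] at hlam
      exact hq.ne_one hlam.symm
    · rw [e]; exact hq

end Cfsg.Agent.S4797
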