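import Cfsg.Statements.S4798
import Cfsg.Agent.Lib.BlockB.InduceConstituent

set_option autoImplicit false
open Cfsg

namespace Cfsg.Agent.S4798

/-- Let p be a prime and χ a faithful irreducible complex character of the finite group G (χ(g) = χ(1) only for g = 1), so that its codegree is #G / χ(1). Then #G / χ(1) is a power of p if and only if χ is induced from a character of a Sylow p-subgroup of G. -/
theorem result {G : Type*} [Group G] [Fintype G] (p : ℕ) [Fact p.Prime] (χ : Cfsg.IrrCharacter G) (hfaith : ∀ g : G, (χ : G → ℂ) g = (χ : G → ℂ) 1 → g = 1) : (∃ k : ℕ, Nat.card G = p ^ k * Cfsg.charDegree (χ : G → ℂ)) ↔ ∃ (P : Sylow p G) (θ : ↥(P : Subgroup G) → ℂ), Cfsg.IsCharacter ↥(P : Subgroup G) θ ∧ (χ : G → ℂ) = Cfsg.indFun (P : Subgroup G) θ := by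
  classical
  have hp : p.Prime := Fact.out
  constructor
  · rintro ⟨k, hk⟩
    obtain ⟨P⟩ := Sylow.nonempty (p := p) (G := G)
    set H : Subgroup G := (P : Subgroup G) with hH
    have := Fintype.ofFinite (Cfsg.IrrCharacter H)
    have hres : Cfsg.IsCharacter H (fun y : H => (χ : G → ℂ) y) :=
      CfsgLib.Char.isCharacter_restrict (CfsgLib.Char.irr_isCharacter χ.2) H
    choose m hm using fun φ : Cfsg.IrrCharacter H =>
      CfsgLib.Char.classInner_isCharacter_nat hres (CfsgLib.Char.irr_isCharacter φ.2)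
    have hsum := CfsgLib.Char.classFunction_apply_eq_sum
      (CfsgLib.Char.isCharacter_isClassFunction hres) (1 : H)
    simp only [hm, ← CfsgLib.BlockB.irr_degree_cast, Subgroup.coe_one] at hsum
    have hsum' : Cfsg.charDegree (χ : G → ℂ) =
        ∑ φ : Cfsg.IrrCharacter H, m φ * Cfsg.charDegree (φ : H → ℂ) := by exact_mod_cast hsum
    obtain ⟨a, ha⟩ := IsPGroup.iff_card.1 P.2
    have hmul := H.card_mul_index
    have hnd : ¬ p ∣ H.index := P.not_dvd_index
    rw [ha] at hmul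
    have hka : k ≤ a := by
      have h1 : p ^ k ∣ p ^ a * H.index := by rw [hmul, hk]; exact Dvd.intro _ rfl
      have h2 := (Nat.Coprime.pow_left k ((hp.coprime_iff_not_dvd).2 hnd)).dvd_of_dvd_mul_right h1
      exact (Nat.pow_dvd_pow_iff_le_right hp.one_lt).1 h2
    have hdeg : Cfsg.charDegree (χ : G → ℂ) = p ^ (a - k) * H.index := by
      have h1 : p ^ k * Cfsg.charDegree (χ : G → ℂ) = p ^ k * (p ^ (a - k) * H.index) := by
        rw [← hk, ← mul_assoc, ← pow_add, Nat.add_sub_cancel' hka, hmul]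
      exact Nat.eq_of_mul_eq_mul_left (pow_pos hp.pos _) h1
    obtain ⟨μ, hμ0, hμd⟩ : ∃ μ : Cfsg.IrrCharacter H, m μ ≠ 0 ∧
        Cfsg.charDegree (μ : H → ℂ) ≤ p ^ (a - k) := by
      by_contra hno
      push Not at hno
      have hdiv : p ^ (a - k + 1) ∣ Cfsg.charDegree (χ : G → ℂ) := by
        rw [hsum']
        refine Finset.dvd_sum fun φ _ => ?_
        by_cases h0 : m φ = 0
        · rw [h0, zero_mul]; exact dvd_zero _
        · refine Dvd.dvd.mul_left ?_ _
          have hd := CfsgLib.BlockB.irr_degree_dvd_card φ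
          rw [ha] at hd
          obtain ⟨i, -, hi⟩ := (Nat.dvd_prime_pow hp).1 hd
          have := hno φ h0
          rw [hi] at this ⊢
          exact pow_dvd_pow p (Nat.succ_le_of_lt ((Nat.pow_lt_pow_iff_right hp.one_lt).1 this))
      rw [hdeg, pow_succ] at hdiv
      exact hnd (Nat.dvd_of_mul_dvd_mul_left (pow_pos hp.pos _) hdiv)
    refine ⟨P, (μ : H → ℂ), CfsgLib.Char.irr_isCharacter μ.2,
      (CfsgLib.BlockB.eq_indFun_of_constituent H χ μ ?_ ?_).symm⟩
    · rw [hm]; exact_mod_cast hμ0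
    · rw [hdeg, mul_comm]; exact Nat.mul_le_mul_right _ hμd
  · rintro ⟨P, θ, hθ, he⟩
    have hd : Cfsg.charDegree (χ : G → ℂ) = (P : Subgroup G).index * Cfsg.charDegree θ := by
      rw [he, CfsgLib.BlockB.charDegree_indFun _ hθ]
    have hdiv := CfsgLib.BlockB.irr_degree_dvd_card χ
    have hmul := (P : Subgroup G).card_mul_index
    rw [hd, ← hmul, mul_comm (Nat.card _)] at hdiv
    obtain ⟨c, hc⟩ := Nat.dvd_of_mul_dvd_mul_left
      (Nat.pos_of_ne_zero Subgroup.index_ne_zero_of_finite) hdiv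
    obtain ⟨a, ha⟩ := IsPGroup.iff_card.1 P.2
    obtain ⟨i, -, hi⟩ := (Nat.dvd_prime_pow hp).1 (ha ▸ Dvd.intro_left _ hc.symm : c ∣ p ^ a)
    refine ⟨i, ?_⟩
    rw [hd, ← hmul, hc, ← hi]
    ring

end Cfsg.Agent.S4798
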