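import Cfsg.Statements.S4802
import Cfsg.Agent.Lib.BlockB.Convolution

set_option autoImplicit false
open Cfsg

namespace Cfsg.Agent.S4802

/-- Let N < M be normal subgroups of the finite group G and g ∈ M ∖ N. Then the conjugacy class of g is exactly M ∖ N if and only if every irreducible complex character of G whose kernel contains N takes the same value at all elements of M ∖ N, and every irreducible complex character of G whose kernel does not contain N vanishes at g. -/
theorem result {G : Type*} [Group G] [Finite G] (N M : Subgroup G) [N.Normal] [M.Normal] (hNM : N < M) (g : G) (hgM : g ∈ M) (hgN : g ∉ N) : {h : G | IsConj g h} = (M : Set G) \ (N : Set G) ↔ ((∀ χ : Cfsg.IrrCharacter G, (∀ x ∈ N, (χ : G → ℂ) x = (χ : G → ℂ) 1) → ∀ x ∈ M, x ∉ N → ∀ y ∈ M, y ∉ N → (χ : G → ℂ) x = (χ : G → ℂ) y) ∧ (∀ χ : Cfsg.IrrCharacter G, (∃ x ∈ N, (χ : G → ℂ) x ≠ (χ : G → ℂ) 1) → (χ : G → ℂ) g = 0)) := by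
  classical
  have := Fintype.ofFinite G
  have := Fintype.ofFinite (Cfsg.IrrCharacter G)
  constructor
  · intro hcl
    have hconj : ∀ x ∈ M, x ∉ N → IsConj g x := fun x hx hx' => by
      have : x ∈ {h : G | IsConj g h} := hcl ▸ ⟨hx, hx'⟩
      exact this
    refine ⟨fun χ _ x hx hx' y hy hy' => ?_, fun χ hχ => ?_⟩
    · exact CfsgLib.Char.isClassFunction_isConj (CfsgLib.Char.irr_isClassFunction χ.2)
        ((hconj x hx hx').symm.trans (hconj y hy hy'))
    · obtain ⟨χ, n, ρ, hρ, rfl⟩ := χ
      obtain ⟨x, hxN, hx⟩ := hχ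
      let f : G → ℂ := fun h => if h ∈ N then 1 else 0
      have hf : Cfsg.IsClassFunction G f := fun a b => by
        by_cases ha : a ∈ N
        · simp [f, ha, (inferInstance : N.Normal).conj_mem a ha b]
        · have hb : b * a * b⁻¹ ∉ N := fun hb => ha (by
            simpa [mul_assoc] using (inferInstance : N.Normal).conj_mem _ hb b⁻¹)
          simp [f, ha, hb]
      have hS := CfsgLib.Char.classOp_eq_scalar hf ρ
      set c : ℂ := (Nat.card G : ℂ) * Cfsg.classInner f ρ.character /
        (Module.finrank ℂ (Fin n → ℂ) : ℂ) with hc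
      have hxS : ρ x * CfsgLib.Char.classOp f ρ = CfsgLib.Char.classOp f ρ := by
        unfold CfsgLib.Char.classOp
        rw [Finset.mul_sum]
        refine Fintype.sum_equiv (Equiv.mulRight x⁻¹) _ _ fun a => ?_
        rw [mul_smul_comm, ← map_mul]
        have : f (a * x⁻¹) = f a := by
          simp only [f, Subgroup.mul_mem_cancel_right N (inv_mem hxN)]
        simp [this]
      rw [hS, mul_smul_comm, ← Module.End.one_eq_id, mul_one] at hxS
      have hc0 : c = 0 := by
        by_contra hc0
        apply hx
        have := smul_right_injective _ hc0 hxS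
        change ρ.character x = ρ.character 1
        simp [Representation.character, this]
      rw [hc0, zero_smul] at hS
      have h1 := congr_arg (fun F => LinearMap.trace ℂ (Fin n → ℂ) (ρ g * F)) hS
      simp only [CfsgLib.Char.classOp, Finset.mul_sum, map_sum, mul_smul_comm, map_smul, ← map_mul,
        smul_eq_mul, mul_zero, map_zero] at h1
      have h2 : ∀ a : G, f a * LinearMap.trace ℂ (Fin n → ℂ) (ρ (g * a⁻¹)) =
          f a * ρ.character g := by
        intro a
        by_cases ha : a ∈ N
        · congr 1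
          refine (CfsgLib.Char.isClassFunction_isConj (CfsgLib.Char.isCharacter_isClassFunction
            (CfsgLib.Char.isCharacter_of_rep ρ)) (hconj (g * a⁻¹) ?_ ?_)).symm
          · exact M.mul_mem hgM (M.inv_mem (hNM.le ha))
          · exact fun h => hgN ((Subgroup.mul_mem_cancel_right N (inv_mem ha)).mp h)
        · simp [f, ha]
      rw [Finset.sum_congr rfl (fun a _ => h2 a), ← Finset.sum_mul, mul_eq_zero] at h1
      refine h1.resolve_left ?_
      simp only [f, Finset.sum_boole, ne_eq, Nat.cast_eq_zero, Finset.card_eq_zero]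
      exact Finset.nonempty_iff_ne_empty.mp ⟨1, by simp⟩
  · rintro ⟨h1, h2⟩
    ext x
    constructor
    · intro hx
      obtain ⟨c, rfl⟩ := isConj_iff.mp hx
      refine ⟨(inferInstance : M.Normal).conj_mem g hgM c, fun h => hgN ?_⟩
      simpa [mul_assoc] using (inferInstance : N.Normal).conj_mem _ h c⁻¹
    · rintro ⟨hxM, hxN⟩
      have hsum : ∀ χ : Cfsg.IrrCharacter G, (χ : G → ℂ) x * starRingEnd ℂ ((χ : G → ℂ) g) =
          (χ : G → ℂ) g * starRingEnd ℂ ((χ : G → ℂ) g) := fun χ => by
        by_cases hker : ∀ y ∈ N, (χ : G → ℂ) y = (χ : G → ℂ) 1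
        · rw [h1 χ hker x hxM hxN g hgM hgN]
        · push Not at hker
          rw [h2 χ hker, map_zero, mul_zero, mul_zero]
      have h3 := CfsgLib.Char.column_orthogonality x g
      rw [Finset.sum_congr rfl (fun χ _ => hsum χ), CfsgLib.Char.column_orthogonality g g,
        if_pos (IsConj.refl g)] at h3
      by_contra hn
      rw [if_neg (fun h => hn h.symm)] at h3
      exact absurd h3 (by exact_mod_cast Nat.card_pos.ne')

end Cfsg.Agent.S4802
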