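import Cfsg.Statements.S4805
import Cfsg.Agent.Lib.BlockA.OneClassCommutator
import Cfsg.Agent.Lib.Char.LinearSum
import Cfsg.Agent.Lib.Char.Commutator

set_option autoImplicit false
open Cfsg

namespace Cfsg.Agent.S4805

/-- Let G be a finite group, g an element outside the centre of G, and χ an irreducible complex character of degree greater than one with χ(g) ≠ 0 such that every other irreducible character of degree greater than one vanishes at g. Then g lies in the derived subgroup G′ and χ(g) = −[G : G′]/χ(1); G′ is the union of the kernel of χ (the elements where χ takes the value χ(1)) and the conjugacy class of g, and χ vanishes outside G′; every irreducible character of degree greater than one whose kernel contains that of χ equals χ; and G is solvable. -/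
theorem result {G : Type*} [Group G] [Finite G] (g : G) (hg : g ∉ Subgroup.center G) (χ : Cfsg.IrrCharacter G) (hχ1 : Cfsg.charDegree (χ : G → ℂ) ≠ 1) (hχg : (χ : G → ℂ) g ≠ 0) (hother : ∀ ψ : Cfsg.IrrCharacter G, Cfsg.charDegree (ψ : G → ℂ) ≠ 1 → ψ ≠ χ → (ψ : G → ℂ) g = 0) : g ∈ commutator G ∧ (χ : G → ℂ) g = -(((commutator G).index : ℂ) / (χ : G → ℂ) 1) ∧ ((commutator G : Set G) = {x : G | (χ : G → ℂ) x = (χ : G → ℂ) 1} ∪ {h : G | IsConj g h}) ∧ (∀ x : G, x ∉ commutator G → (χ : G → ℂ) x = 0) ∧ (∀ ψ : Cfsg.IrrCharacter G, Cfsg.charDegree (ψ : G → ℂ) ≠ 1 → (∀ x : G, (χ : G → ℂ) x = (χ : G → ℂ) 1 → (ψ : G → ℂ) x = (ψ : G → ℂ) 1) → ψ = χ) ∧ Group.IsSolvable G := by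
  classical
  have := Fintype.ofFinite G
  have := Fintype.ofFinite (Cfsg.IrrCharacter G)
  have := Fintype.ofFinite (G →* ℂˣ)
  obtain ⟨m, ρ, hρ, hρc⟩ := χ.2
  -- degrees
  have hdeg : ∀ ψ : Cfsg.IrrCharacter G, Cfsg.charDegree (ψ : G → ℂ) ≠ 1 ↔ (ψ : G → ℂ) 1 ≠ 1 := by
    intro ψ
    obtain ⟨d, hd⟩ := CfsgLib.Char.char_apply_one_eq_nat (CfsgLib.Char.irr_isCharacter ψ.2)
    rw [Cfsg.charDegree, hd, Complex.natCast_re, Nat.floor_natCast, Nat.cast_ne_one]
  obtain ⟨n, hn⟩ := CfsgLib.Char.char_apply_one_eq_nat (CfsgLib.Char.irr_isCharacter χ.2)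
  have hn0 : (n : ℂ) ≠ 0 := hn ▸ CfsgLib.Char.irr_apply_one_ne_zero χ.2
  set a : ℂ := ((commutator G).index : ℂ) with hadef
  have ha0 : a ≠ 0 := by rw [hadef]; exact_mod_cast Subgroup.index_ne_zero_of_finite
  -- the column of `g`
  have hcol : ∀ x : G, ¬ IsConj x g →
      (if x * g⁻¹ ∈ commutator G then a else 0) + (χ : G → ℂ) x * starRingEnd ℂ ((χ : G → ℂ) g) = 0 := by
    intro x hx
    have h := CfsgLib.Char.column_orthogonality x g
    rw [if_neg hx, ← Finset.sum_filter_add_sum_filter_not Finset.univ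
      (fun ψ : Cfsg.IrrCharacter G => (ψ : G → ℂ) 1 = 1)] at h
    refine Eq.trans ?_ h
    congr 1
    · rw [← CfsgLib.Char.sum_linear_apply, Finset.sum_subtype (p := fun ψ : Cfsg.IrrCharacter G => (ψ : G → ℂ) 1 = 1)
        _ (fun ψ => by simp),
        ← CfsgLib.Char.linearIrrEquiv.sum_comp]
      refine Finset.sum_congr rfl fun l _ => ?_
      show _ = (l x : ℂ) * starRingEnd ℂ (l g : ℂ)
      rw [CfsgLib.Char.conj_linear_apply, map_mul, Units.val_mul, map_inv, MonoidHom.inv_apply]
    · symm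
      refine Finset.sum_eq_single_of_mem χ ?_ fun ψ hψ hne => ?_
      · rw [Finset.mem_filter]
        exact ⟨Finset.mem_univ _, (hdeg χ).mp hχ1⟩
      · rw [hother ψ ((hdeg ψ).mpr (Finset.mem_filter.mp hψ).2) hne, map_zero, mul_zero]
  have hg1 : ¬ IsConj (1 : G) g := fun h => hg (by
    rw [isConj_one_right.mp h]; exact one_mem _)
  have hconj : starRingEnd ℂ ((χ : G → ℂ) g) ≠ 0 := fun h => hχg (by simpa using h)
  have hgM : g ∈ commutator G := by
    by_contra hgM
    have h := hcol 1 hg1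
    rw [one_mul, if_neg (fun h' => hgM (by simpa using inv_mem h')), zero_add, hn] at h
    exact mul_ne_zero hn0 hconj h
  have hval : (χ : G → ℂ) g = -(a / (n : ℂ)) := by
    have h := hcol 1 hg1
    rw [one_mul, if_pos (inv_mem hgM), hn] at h
    have h2 : starRingEnd ℂ ((χ : G → ℂ) g) = -(a / (n : ℂ)) := by
      field_simp
      linear_combination h
    have h3 := congrArg (starRingEnd ℂ) h2
    rw [Complex.conj_conj] at h3
    rw [h3, hadef]
    simp
  have hcval : starRingEnd ℂ ((χ : G → ℂ) g) = -(a / (n : ℂ)) := by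
    rw [hval, hadef]; simp
  have hnconj : ∀ x : G, x ∉ commutator G → ¬ IsConj x g := fun x hx h => hx (by
    obtain ⟨u, rfl⟩ := isConj_iff.mp h.symm
    exact Subgroup.Normal.conj_mem inferInstance g hgM u)
  have hout : ∀ x : G, x ∉ commutator G → (χ : G → ℂ) x = 0 := by
    intro x hx
    have h := hcol x (hnconj x hx)
    rw [if_neg (fun h' => hx (by simpa using mul_mem h' hgM)), zero_add] at h
    exact (mul_eq_zero.mp h).resolve_right hconj
  have hin : ∀ x : G, x ∈ commutator G → ¬ IsConj x g → (χ : G → ℂ) x = (χ : G → ℂ) 1 := by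
    intro x hx hc
    have h := hcol x hc
    rw [if_pos (mul_mem hx (inv_mem hgM)), hcval] at h
    rw [hn]
    field_simp at h
    exact mul_left_cancel₀ ha0 (by linear_combination -h)
  -- the kernel
  set K : Subgroup G := MonoidHom.ker ρ with hKdef
  have hKmem : ∀ x : G, x ∈ K ↔ (χ : G → ℂ) x = (χ : G → ℂ) 1 := by
    intro x; rw [← hρc]; exact CfsgLib.Char.mem_ker_iff_char ρ x
  have hKM : K ≤ commutator G := by
    intro x hx
    by_contra hxM
    rw [hKmem, hout x hxM, hn] at hx
    exact hn0 hx.symm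
  have hgK : ∀ x : G, IsConj g x → x ∉ K := by
    intro x hx h
    rw [hKmem, ← CfsgLib.Char.isClassFunction_isConj (CfsgLib.Char.irr_isClassFunction χ.2) hx,
      hval, hn] at h
    have h' : ((commutator G).index : ℂ) + ((n * n : ℕ) : ℂ) = 0 := by
      push_cast
      rw [hadef] at h
      field_simp at h
      linear_combination -h
    rw [← Nat.cast_add, Nat.cast_eq_zero] at h'
    have hi := Subgroup.index_ne_zero_of_finite (H := commutator G)
    omega
  have hcl : ∀ x ∈ commutator G, x ∉ K → IsConj g x := by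
    intro x hx hxK
    by_contra hc
    exact hxK ((hKmem x).mpr (hin x hx fun h => hc h.symm))
  refine ⟨hgM, ?_, ?_, hout, ?_, ?_⟩
  · rw [hval, hn]
  · ext x
    simp only [Set.mem_union, Set.mem_setOf_eq, SetLike.mem_coe]
    refine ⟨fun hx => ?_, fun hx => ?_⟩
    · by_cases hxK : x ∈ K
      · exact Or.inl ((hKmem x).mp hxK)
      · exact Or.inr (hcl x hx hxK)
    · rcases hx with h | h
      · exact hKM ((hKmem x).mpr h)
      · obtain ⟨u, rfl⟩ := isConj_iff.mp h
        exact Subgroup.Normal.conj_mem inferInstance g hgM u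
  · intro ψ hψ1 hψK
    by_contra hne
    have hψg := hother ψ hψ1 hne
    have hψ : ∀ x ∈ commutator G, (ψ : G → ℂ) x = if x ∈ K then (ψ : G → ℂ) 1 else 0 := by
      intro x hx
      split_ifs with h
      · exact hψK x ((hKmem x).mp h)
      · rw [← CfsgLib.Char.isClassFunction_isConj (CfsgLib.Char.irr_isClassFunction ψ.2) (hcl x hx h), hψg]
    have h := CfsgLib.Char.sum_commutator_eq (ψ : G → ℂ)
    have h0 : ∀ l : G →* ℂˣ, Cfsg.classInner (ψ : G → ℂ) (fun x => (l x : ℂ)) = 0 := by
      intro l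
      refine CfsgLib.Char.irr_classInner_ne ψ.2 (CfsgLib.Char.isIrrCharacter_linear l) fun e => ?_
      apply (hdeg ψ).mp hψ1
      rw [e]; simp
    rw [Finset.sum_congr rfl (fun x hx => hψ x (Finset.mem_filter.mp hx).2), ← Finset.sum_filter,
      Finset.sum_const, nsmul_eq_mul] at h
    simp only [h0, Finset.sum_const_zero, mul_zero, mul_eq_zero, Nat.cast_eq_zero,
      Finset.card_eq_zero, Finset.filter_eq_empty_iff] at h
    rcases h with h | h
    · exact h (Finset.mem_filter.mpr ⟨Finset.mem_univ _, one_mem _⟩) (one_mem K)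
    · exact CfsgLib.Char.irr_apply_one_ne_zero ψ.2 h
  · refine CfsgLib.BlockA.OneClass.isSolvable_of_oneClass K hKM g hgM (hgK g (IsConj.refl g)) hcl ?_
    intro z hz
    by_contra hzM
    have hc := CfsgLib.Char.commute_eq_trace_scalar ρ (ρ z) (fun h => by
      have h1 : ρ (z * h * z⁻¹ * h⁻¹) = 1 := MonoidHom.mem_ker.mp (hz h)
      have h2 : z * h = (z * h * z⁻¹ * h⁻¹) * (h * z) := by group
      have h3 := congrArg ρ h2
      rw [map_mul, map_mul, h1, one_mul, map_mul] at h3
      rw [← Module.End.mul_eq_comp, ← Module.End.mul_eq_comp]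
      exact h3)
    have h0 := hout z hzM
    rw [← hρc] at h0 hn
    rw [show LinearMap.trace ℂ _ (ρ z) = 0 from h0, zero_div, zero_smul] at hc
    have h1 : ρ (z⁻¹ * z) = ρ z⁻¹ * ρ z := map_mul ρ _ _
    rw [inv_mul_cancel, map_one, hc, mul_zero] at h1
    have h2 := congrArg (LinearMap.trace ℂ (Fin m → ℂ)) h1
    rw [LinearMap.trace_one, map_zero] at h2
    rw [Representation.char_one, h2] at hn
    exact hn0 hn.symm

end Cfsg.Agent.S4805
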