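import Cfsg.Statements.S4814
import Cfsg.Agent.Lib.BlockB.Convolution

set_option autoImplicit false
open Cfsg

namespace Cfsg.Agent.S4814

/-- Let G be a finite group such that the sum, over the irreducible complex characters χ of G, of 1/χ(1)² is less than 2. Then every element of G is a product of two commutators. -/
theorem result {G : Type*} [Group G] [Finite G]
    (h : ∑ᶠ χ : Cfsg.IrrCharacter G, 1 / ‖(χ : G → ℂ) 1‖ ^ 2 < (2 : ℝ)) (g : G) :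
    ∃ a b c d : G, (a * b * a⁻¹ * b⁻¹) * (c * d * c⁻¹ * d⁻¹) = g := by
  classical
  have := Fintype.ofFinite G
  have := Fintype.ofFinite (Cfsg.IrrCharacter G)
  rw [finsum_eq_sum_of_fintype] at h
  by_contra hne
  push Not at hne
  have h0 := CfsgLib.BlockB.natCard_two_commutator_eq g
  have hE : IsEmpty {q : (G × G) × G × G //
      (q.1.1 * q.1.2 * q.1.1⁻¹ * q.1.2⁻¹) * (q.2.1 * q.2.2 * q.2.1⁻¹ * q.2.2⁻¹) = g} :=
    ⟨fun q => hne q.1.1.1 q.1.1.2 q.1.2.1 q.1.2.2 q.2⟩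
  rw [Nat.card_of_isEmpty, Nat.cast_zero, eq_comm, mul_eq_zero] at h0
  replace h0 := h0.resolve_left (pow_ne_zero _ CfsgLib.Char.natCard_ne_zero)
  let χ1 : Cfsg.IrrCharacter G := ⟨fun _ => 1, CfsgLib.Char.isIrrCharacter_one⟩
  have e1 : (χ1 : G → ℂ) = fun _ => 1 := rfl
  rw [← Finset.add_sum_erase _ _ (Finset.mem_univ χ1)] at h h0
  simp only [e1, one_pow, div_one, norm_one] at h h0
  set s := (Finset.univ : Finset (Cfsg.IrrCharacter G)).erase χ1 with hs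
  have h2 : ‖∑ χ ∈ s, (χ : G → ℂ) g⁻¹ / (χ : G → ℂ) 1 ^ 3‖ ≤
      ∑ χ ∈ s, 1 / ‖(χ : G → ℂ) 1‖ ^ 2 := by
    refine (norm_sum_le _ _).trans (Finset.sum_le_sum fun χ _ => ?_)
    have hpos : 0 < ‖(χ : G → ℂ) 1‖ := norm_pos_iff.mpr (CfsgLib.Char.irr_apply_one_ne_zero χ.2)
    rw [norm_div, norm_pow, div_le_div_iff₀ (by positivity) (by positivity), one_mul]
    calc ‖(χ : G → ℂ) g⁻¹‖ * ‖(χ : G → ℂ) 1‖ ^ 2 ≤ ‖(χ : G → ℂ) 1‖ * ‖(χ : G → ℂ) 1‖ ^ 2 := by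
          gcongr
          exact CfsgLib.BlockB.norm_irr_apply_le χ _
      _ = ‖(χ : G → ℂ) 1‖ ^ 3 := by ring
  rw [eq_neg_of_add_eq_zero_right h0, norm_neg, norm_one] at h2
  linarith

end Cfsg.Agent.S4814
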