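import Cfsg.Statements.S4825
import Cfsg.Agent.Lib.Block.Orthogonality
import Cfsg.Agent.Lib.BlockB.PEltValue
import Cfsg.Agent.Lib.Clifford.Degree
import Cfsg.Agent.Lib.Block.DefectOrder
-- import your own Cfsg.Agent.* helpers here

set_option autoImplicit false
open Cfsg

namespace Cfsg.Agent.S4825

theorem sq_two : ∀ a : ZMod 2, a ≠ 0 → 1 = a * a := by decide

theorem sq_three : ∀ a : ZMod 3, a ≠ 0 → 1 = a * a := by decide

/-- Let p be a prime, G a finite group with Sylow p-subgroup P, M a maximal ideal of the algebraic integers containing p, and B a p-block of G with defect group P. Let N be a normal subgroup of G not containing P and θ an irreducible character of N. Then the number of irreducible characters in B of degree prime to p lying over θ (having θ as a constituent on restriction to N) is either 0 or at least 2, and when p ≤ 3 it is divisible by p. -/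
theorem result {G : Type*} [Group G] [Fintype G] (p : ℕ) [Fact p.Prime] (P : Sylow p G) (M : Ideal Cfsg.AlgInt) (hM : Cfsg.IsPModular p M) (B : Set (Cfsg.IrrCharacter G)) (hB : Cfsg.IsPBlock M B) (hBP : Cfsg.IsDefectGroup p M B P) (N : Subgroup G) [N.Normal] [Fintype N] (hPN : ¬ (P : Subgroup G) ≤ N) (θ : Cfsg.IrrCharacter N) :
    (Nat.card {χ : Cfsg.IrrCharacter G // χ ∈ B ∧ ¬ p ∣ Cfsg.charDegree (χ : G → ℂ) ∧ Cfsg.classInner (fun n : N => (χ : G → ℂ) n) (θ : N → ℂ) ≠ 0} = 0 ∨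
      2 ≤ Nat.card {χ : Cfsg.IrrCharacter G // χ ∈ B ∧ ¬ p ∣ Cfsg.charDegree (χ : G → ℂ) ∧ Cfsg.classInner (fun n : N => (χ : G → ℂ) n) (θ : N → ℂ) ≠ 0}) ∧
    (p ≤ 3 → p ∣ Nat.card {χ : Cfsg.IrrCharacter G // χ ∈ B ∧ ¬ p ∣ Cfsg.charDegree (χ : G → ℂ) ∧ Cfsg.classInner (fun n : N => (χ : G → ℂ) n) (θ : N → ℂ) ≠ 0}) := by
  classical
  have := Fintype.ofFinite (Cfsg.IrrCharacter G)
  have hp : p.Prime := Fact.out
  have := CfsgLib.Block.isPrime_of_pmodular hM
  obtain ⟨x, hxP, hxN⟩ := SetLike.not_le_iff_exists.1 hPN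
  obtain ⟨kx, hkx⟩ := IsPGroup.iff_orderOf.1 P.2 ⟨x, hxP⟩
  rw [← Subgroup.orderOf_coe] at hkx
  -- multiplicities of `θ`
  have hm : ∀ χ : Cfsg.IrrCharacter G, ∃ m : ℕ,
      Cfsg.classInner (fun n : N => (χ : G → ℂ) n) (θ : N → ℂ) = m := fun χ =>
    CfsgLib.Char.classInner_isCharacter_nat
      (CfsgLib.Char.isCharacter_restrict (CfsgLib.Char.irr_isCharacter χ.2) N)
      (CfsgLib.Char.irr_isCharacter θ.2)
  choose m hm using hm
  let BS : Finset (Cfsg.IrrCharacter G) := Finset.univ.filter fun χ => χ ∈ B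
  -- the relation at `x`
  have hzero : ∀ n : N, ∑ χ ∈ BS, (χ : G → ℂ) n * (starRingEnd ℂ) ((χ : G → ℂ) x) = 0 := by
    intro n
    obtain ⟨u, hu⟩ := CfsgLib.Block.exists_isPPart (p := p) hp (n : G)
    obtain ⟨w, hw⟩ := CfsgLib.Block.exists_isPPart (p := p) hp x
    have hne : ¬ IsConj u w := by
      intro hc
      have key : ∀ g u' : G, Cfsg.IsPPart p g u' → (QuotientGroup.mk' N g = 1 →
          QuotientGroup.mk' N u' = 1) ∧ ((∃ k, orderOf g = p ^ k) → u' = g) := by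
        rintro g u' ⟨v, hv, hcv, ⟨k, hk⟩, hv'⟩
        constructor
        · intro hg
          rw [← hv, map_mul] at hg
          have h1 : orderOf (QuotientGroup.mk' N u') ∣ p ^ k := hk ▸ orderOf_map_dvd _ _
          have h2 : orderOf (QuotientGroup.mk' N u') ∣ orderOf v := by
            rw [eq_inv_of_mul_eq_one_left hg, orderOf_inv]
            exact orderOf_map_dvd _ _
          exact orderOf_eq_one_iff.1 (Nat.eq_one_of_dvd_coprimes
            ((hp.coprime_iff_not_dvd.2 hv').pow_left k) h1 h2)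
        · rintro ⟨j, hj⟩
          have h3 : orderOf v ∣ p ^ j := by
            have h5 := hcv.orderOf_mul_eq_mul_orderOf_of_coprime (by
              rw [hk]; exact (hp.coprime_iff_not_dvd.2 hv').pow_left k)
            rw [hv, hj] at h5
            exact Dvd.intro_left _ h5.symm
          have h4 : v = 1 := orderOf_eq_one_iff.1 (Nat.eq_one_of_dvd_coprimes
            ((hp.coprime_iff_not_dvd.2 hv').pow_left j) h3 dvd_rfl)
          rw [← hv, h4, mul_one]
      have hun := (key (n : G) u hu).1 ((QuotientGroup.eq_one_iff _).2 n.2)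
      rw [(key x w hw).2 ⟨kx, hkx⟩] at hc
      obtain ⟨c, hc'⟩ := isConj_iff.1 hc
      refine hxN ((QuotientGroup.eq_one_iff x).1 ?_)
      rw [← QuotientGroup.mk'_apply, ← hc', map_mul, map_mul, hun, mul_one, map_inv, mul_inv_cancel]
    have h := CfsgLib.Block.sum_block_eq_zero hM hB hu hw hne
    rw [finsum_mem_eq_finite_toFinset_sum _ B.toFinite] at h
    rw [← h]
    exact Finset.sum_congr (by ext; simp [BS]) fun _ _ => rfl
  let Ψ : G → ℂ := ∑ χ ∈ BS, (m χ) • (χ : G → ℂ)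
  have hΨ : Cfsg.IsCharacter G Ψ := CfsgLib.Char.isCharacter_sum _ fun χ _ =>
    CfsgLib.Char.isCharacter_nsmul (CfsgLib.Char.irr_isCharacter χ.2) _
  have hΨx : Ψ x = 0 := by
    have h1 : ∑ χ ∈ BS, (m χ : ℂ) * (starRingEnd ℂ) ((χ : G → ℂ) x) = 0 := by
      simp only [← hm, CfsgLib.Char.classInner_def, Finset.mul_sum, Finset.sum_mul]
      rw [Finset.sum_comm]
      refine Finset.sum_eq_zero fun n _ => ?_
      rw [Finset.sum_congr rfl (g := fun χ : Cfsg.IrrCharacter G =>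
        (Nat.card N : ℂ)⁻¹ * (starRingEnd ℂ) ((θ : N → ℂ) n) *
          ((χ : G → ℂ) n * (starRingEnd ℂ) ((χ : G → ℂ) x))) (fun χ _ => by ring),
        ← Finset.mul_sum, hzero n, mul_zero]
    have h2 := congrArg (starRingEnd ℂ) h1
    simp only [map_sum, map_mul, Complex.conj_natCast, Complex.conj_conj, map_zero] at h2
    rw [← h2]
    simp [Ψ, Finset.sum_apply]
  have hΨd : p ∣ Cfsg.charDegree Ψ := by
    by_contra hd
    exact CfsgLib.BlockB.char_ne_zero_of_not_dvd_degree hΨ hkx hd hΨx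
  have hdeg : Cfsg.charDegree Ψ = ∑ χ ∈ BS, m χ * Cfsg.charDegree (χ : G → ℂ) := by
    have h1 := CfsgLib.Block.charDegree_cast hΨ
    have h2 : Ψ 1 = ((∑ χ ∈ BS, m χ * Cfsg.charDegree (χ : G → ℂ) : ℕ) : ℂ) := by
      simp only [Ψ, Finset.sum_apply, Pi.smul_apply, Nat.cast_sum, Nat.cast_mul]
      refine Finset.sum_congr rfl fun χ _ => ?_
      rw [CfsgLib.Block.charDegree_cast (CfsgLib.Char.irr_isCharacter χ.2), nsmul_eq_mul]
    rw [h2] at h1
    exact_mod_cast h1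
  -- degrees over `θ`
  let T := CfsgLib.Clifford.inertia (θ : N → ℂ)
  have hNT : N ≤ T := CfsgLib.Clifford.le_inertia (CfsgLib.Char.irr_isClassFunction θ.2)
  have := Fintype.ofFinite T
  have hχdeg : ∀ χ : Cfsg.IrrCharacter G, m χ ≠ 0 →
      Cfsg.charDegree (χ : G → ℂ) = T.index * Cfsg.charDegree (θ : N → ℂ) * m χ := by
    intro χ hχ
    have hne : Cfsg.classInner (fun n : N => (χ : G → ℂ) n) (θ : N → ℂ) ≠ 0 := by
      rw [hm]; exact_mod_cast hχ
    obtain ⟨ψ, hψ, hind, hmult⟩ := CfsgLib.Clifford.exists_indFun_inertia T hNT θ.2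
      (fun g => CfsgLib.Clifford.mem_inertia_iff_conjFn) χ.2 hne
    have hres := CfsgLib.Clifford.restrict_eq_smul_inertia T hNT θ.2
      (fun g => CfsgLib.Clifford.mem_inertia_iff_conjFn) hψ (by rw [hmult]; exact hne)
    have h1 := congrFun hres 1
    rw [hmult, hm, Pi.smul_apply, smul_eq_mul] at h1
    have h2 : (χ : G → ℂ) 1 = (T.index : ℂ) * ((m χ : ℂ) * (θ : N → ℂ) 1) := by
      rw [← hind, CfsgLib.Char.indFun_apply_one, ← h1]
      rfl
    rw [← CfsgLib.Block.charDegree_cast (CfsgLib.Char.irr_isCharacter χ.2),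
      ← CfsgLib.Block.charDegree_cast (CfsgLib.Char.irr_isCharacter θ.2)] at h2
    have h3 : (Cfsg.charDegree (χ : G → ℂ) : ℂ) =
        ((T.index * Cfsg.charDegree (θ : N → ℂ) * m χ : ℕ) : ℂ) := by
      rw [h2]; push_cast; ring
    exact_mod_cast h3
  set S := BS.filter fun χ : Cfsg.IrrCharacter G => ¬ p ∣ Cfsg.charDegree (χ : G → ℂ) ∧ m χ ≠ 0 with hS
  have hcard : Nat.card {χ : Cfsg.IrrCharacter G // χ ∈ B ∧ ¬ p ∣ Cfsg.charDegree (χ : G → ℂ) ∧
      Cfsg.classInner (fun n : N => (χ : G → ℂ) n) (θ : N → ℂ) ≠ 0} = S.card := by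
    rw [Nat.card_eq_fintype_card]
    refine Fintype.card_of_subtype _ fun χ => ?_
    simp only [hS, BS, Finset.mem_filter, Finset.mem_univ, true_and, hm, ne_eq, Nat.cast_eq_zero]
  have hsum : p ∣ ∑ χ ∈ S, m χ * Cfsg.charDegree (χ : G → ℂ) := by
    have h := Finset.sum_filter_add_sum_filter_not BS
      (fun χ : Cfsg.IrrCharacter G => ¬ p ∣ Cfsg.charDegree (χ : G → ℂ) ∧ m χ ≠ 0)
      (fun χ : Cfsg.IrrCharacter G => m χ * Cfsg.charDegree (χ : G → ℂ))
    rw [← hdeg] at h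
    have h2 : p ∣ ∑ χ ∈ BS.filter (fun χ : Cfsg.IrrCharacter G => ¬ (¬ p ∣ Cfsg.charDegree (χ : G → ℂ) ∧ m χ ≠ 0)),
        m χ * Cfsg.charDegree (χ : G → ℂ) := Finset.dvd_sum fun χ hχ => by
      have h3 := (Finset.mem_filter.1 hχ).2
      rcases eq_or_ne (m χ) 0 with h0 | h0
      · rw [h0, zero_mul]; exact dvd_zero p
      · exact Dvd.dvd.mul_left (not_not.1 fun h4 => h3 ⟨h4, h0⟩) _
    rw [← h] at hΨd
    exact (Nat.dvd_add_left h2).1 hΨd
  have hmem : ∀ χ ∈ S, ¬ p ∣ m χ ∧ ¬ p ∣ T.index * Cfsg.charDegree (θ : N → ℂ) ∧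
      m χ * Cfsg.charDegree (χ : G → ℂ) = T.index * Cfsg.charDegree (θ : N → ℂ) * (m χ * m χ) := by
    intro χ hχ
    obtain ⟨hd, hm0⟩ := (Finset.mem_filter.1 hχ).2
    rw [hχdeg χ hm0] at hd
    exact ⟨fun h => hd (Dvd.dvd.mul_left h _), fun h => hd (Dvd.dvd.mul_right h _),
      by rw [hχdeg χ hm0]; ring⟩
  rw [hcard]
  have hS1 : S.card ≠ 1 := by
    intro h1
    obtain ⟨χ, hχ⟩ := Finset.card_eq_one.1 h1
    rw [hχ, Finset.sum_singleton] at hsum
    obtain ⟨h2, h3, h4⟩ := hmem χ (hχ ▸ Finset.mem_singleton_self χ)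
    rw [h4] at hsum
    exact (hp.dvd_mul.1 hsum).elim h3 fun h5 => (hp.dvd_mul.1 h5).elim h2 h2
  refine ⟨by omega, fun hp3 => ?_⟩
  rcases Finset.eq_empty_or_nonempty S with h0 | ⟨χ0, hχ0⟩
  · rw [h0, Finset.card_empty]; exact dvd_zero p
  have hc := (hmem χ0 hχ0).2.1
  rw [Finset.sum_congr rfl fun χ hχ => (hmem χ hχ).2.2, ← Finset.mul_sum] at hsum
  have h5 := (hp.dvd_mul.1 hsum).resolve_left hc
  rw [← ZMod.natCast_eq_zero_iff _ p, Nat.cast_sum] at h5
  rw [← ZMod.natCast_eq_zero_iff, ← h5, Finset.cast_card]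
  refine Finset.sum_congr rfl fun χ hχ => ?_
  have hmz : ((m χ : ℕ) : ZMod p) ≠ 0 := fun h =>
    (hmem χ hχ).1 ((ZMod.natCast_eq_zero_iff _ _).1 h)
  rw [Nat.cast_mul]
  have h2 := hp.two_le
  revert hmz
  generalize ((m χ : ℕ) : ZMod p) = a
  interval_cases p
  · exact sq_two a
  · exact sq_three a

end Cfsg.Agent.S4825
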