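import Cfsg.Statements.S4828
import Cfsg.Agent.Lib.BlockB.MaxPairCrit
-- import your own Cfsg.Agent.* helpers here

set_option autoImplicit false
set_option maxHeartbeats 1000000
open Cfsg

namespace Cfsg.Agent.S4828

/-- Let p be a prime, M a maximal ideal of the algebraic integers containing p, and (Q, e) a Brauer pair of the finite group G (Q a p-subgroup, e a block of C_G(Q)). Then (Q, e) is a maximal Brauer pair of some block of G if and only if e contains an irreducible character θ such that θ takes the value θ(1) at every element of Z(Q) = Q ∩ C_G(Q), the p-part of θ(1) times the p-part of the order of Z(Q) equals the p-part of the order of C_G(Q) (θ has defect zero as a character of C_G(Q)/Z(Q)), and every element of N_G(Q) of p-power order that stabilizes e lies in Q·C_G(Q) (the stabilizer of e in N_G(Q) has index prime to p over Q·C_G(Q)). -/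
theorem result {G : Type*} [Group G] [Finite G] (p : ℕ) [Fact p.Prime] (M : Ideal Cfsg.AlgInt) (hM : Cfsg.IsPModular p M) (Q : Subgroup G) (e : Set (Cfsg.IrrCharacter (Subgroup.centralizer (Q : Set G)))) (he : Cfsg.IsBrauerPair p M Q e) :
    (∃ B : Set (Cfsg.IrrCharacter G), Cfsg.IsMaximalBrauerPair p M B Q e) ↔
      ∃ θ ∈ e, (∀ z : Subgroup.centralizer (Q : Set G), (z : G) ∈ Q → (θ : Subgroup.centralizer (Q : Set G) → ℂ) z = (θ : Subgroup.centralizer (Q : Set G) → ℂ) 1) ∧
        (Cfsg.charDegree (θ : Subgroup.centralizer (Q : Set G) → ℂ)).factorization p + (Nat.card ↥(Q ⊓ Subgroup.centralizer (Q : Set G))).factorization p = (Nat.card (Subgroup.centralizer (Q : Set G))).factorization p ∧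
        (∀ g : G, g ∈ Subgroup.normalizer (Q : Set G) → Cfsg.StabilizesBlock (Subgroup.centralizer (Q : Set G)) e g → (∃ k : ℕ, orderOf g = p ^ k) → g ∈ Q ⊔ Subgroup.centralizer (Q : Set G)) := by
  classical
  have hpM : Nat.Prime p := hM.1
  have := CfsgLib.Block.isPrime_of_pmodular hM
  let Z : Subgroup (Subgroup.centralizer (Q : Set G)) :=
    (Q ⊓ (Subgroup.centralizer (Q : Set G))).subgroupOf (Subgroup.centralizer (Q : Set G))
  have hQp := he.1
  have hZp : IsPGroup p Z := (hQp.to_le inf_le_left).comap_subtype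
  have hZc : Z ≤ Subgroup.center (Subgroup.centralizer (Q : Set G)) := fun z hz => Subgroup.mem_center_iff.2 fun w =>
    Subtype.ext (Subgroup.mem_centralizer_iff.1 w.2 (z : G) hz.1).symm
  have hZcard : Nat.card Z = Nat.card ↥(Q ⊓ (Subgroup.centralizer (Q : Set G))) :=
    Nat.card_congr (Subgroup.subgroupOfEquivOfLe inf_le_right).toEquiv
  have hZmem : ∀ z : (Subgroup.centralizer (Q : Set G)), z ∈ Z ↔ (z : G) ∈ Q := fun z =>
    ⟨fun h => h.1, fun h => ⟨h, z.2⟩⟩
  constructor
  · rintro ⟨B, hmax⟩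
    -- a pair strictly above `(Q, e)` cannot exist
    have habove : ∀ (X : Subgroup G) (g), Cfsg.IsNormalSubpair p M Q e X g → X = Q := by
      intro X g hg
      have hle : Cfsg.SubpairLE p M Q e X g := Relation.ReflTransGen.single hg
      exact hmax.2 X g ((CfsgLib.BlockA.isBrauerPairOf_iff_of_le hM hg.2.1 hle hmax.1.2.1).2
        hmax.1) hle
    obtain ⟨D, hD⟩ := CfsgLib.Block.exists_isDefectGroup hM he.2
    have hDp := CfsgLib.Block.isPGroup_defectGroup hM he.2 hD
    have : Z.Normal := ⟨fun z hz g => by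
      rw [Subgroup.mem_center_iff.1 (hZc hz) g, mul_inv_cancel_right]; exact hz⟩
    have hDZ : D = Z := by
      refine le_antisymm ?_ (CfsgLib.Block.normal_le_defectGroup hM hZp he.2 hD)
      set D' := D.map (Subgroup.centralizer (Q : Set G)).subtype with hD'
      have hD'C : D' ≤ (Subgroup.centralizer (Q : Set G)) := Subgroup.map_subtype_le D
      obtain ⟨c, hc, hc0⟩ := (CfsgLib.Block.exists_le_conj_iff_coeff hM he.2 hD hDp).2
        ⟨1, le_of_eq (CfsgLib.Block.map_conj_one D).symm⟩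
      have hcX : (c : G) ∈ Subgroup.centralizer ((Q ⊔ D' : Subgroup G) : Set G) := by
        have hle : Q ⊔ D' ≤ Subgroup.centralizer ({(c : G)} : Set G) := by
          refine sup_le (fun u hu => Subgroup.mem_centralizer_singleton_iff.2
            (Subgroup.mem_centralizer_iff.1 c.2 u hu)) ?_
          rintro _ ⟨u, hu, rfl⟩
          exact Subgroup.mem_centralizer_singleton_iff.2
            (congrArg Subtype.val (Subgroup.mem_centralizer_iff.1 hc u hu))
        exact Subgroup.mem_centralizer_iff.2 fun u hu =>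
          Subgroup.mem_centralizer_singleton_iff.1 (hle hu)
      obtain ⟨g, hg⟩ := CfsgLib.BlockA.exists_normalSubpair_of_coeff hM he (X := Q ⊔ D')
        (hQp.to_sup_of_normal_left' (hDp.map _)
          (hD'C.trans (Subgroup.centralizer_le_normalizer _))) le_sup_left
        (sup_le (CfsgLib.BlockA.le_pairStab Q e)
          (hD'C.trans (CfsgLib.BlockA.centralizer_le_pairStab Q e))) hcX
        (by rwa [CfsgLib.BlockA.sIdem, CfsgLib.Block.coeff_inclSub_of_mem])
      intro u hu
      exact (hZmem u).2 (le_of_eq (habove _ g hg)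
        (Subgroup.mem_sup_right (Subgroup.mem_map_of_mem _ hu)))
    subst hDZ
    obtain ⟨θ, hθ, htriv, hdeg⟩ :=
      CfsgLib.BlockB.exists_trivial_of_central_defect hM he.2 hD hZc
    refine ⟨θ, hθ, fun z hz => htriv z ((hZmem z).2 hz), by rwa [← hZcard], ?_⟩
    intro x hxN hxst ⟨k, hk⟩
    have hx : x ∈ CfsgLib.BlockA.pairStab M Q e :=
      ⟨hxN, (CfsgLib.BlockA.stabilizesBlock_iff_coeff hM he.2 hxN).1 hxst⟩
    obtain ⟨c, y, hcomm, hc0⟩ := CfsgLib.BlockB.exists_stable_class hM he.2 hx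
      (IsPGroup.of_card ((Nat.card_zpowers x).trans hk))
    set w := (y : G) * x with hw
    obtain ⟨a, m, hm, hord⟩ := Nat.exists_eq_pow_mul_and_not_dvd
      (orderOf_pos w).ne' p hpM.ne_one
    have hwm : IsPGroup p (Subgroup.zpowers (w ^ m)) := by
      have h1 : (w ^ m) ^ p ^ a = 1 := by
        rw [← pow_mul, mul_comm, ← hord, pow_orderOf_eq_one]
      obtain ⟨j, -, hj⟩ := (Nat.dvd_prime_pow hpM).1 (orderOf_dvd_of_pow_eq_one h1)
      exact IsPGroup.of_card ((Nat.card_zpowers _).trans hj)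
    have hwS : w ^ m ∈ CfsgLib.BlockA.pairStab M Q e :=
      Subgroup.pow_mem _ (Subgroup.mul_mem _
        (CfsgLib.BlockA.centralizer_le_pairStab Q e y.2) hx) m
    have hcX : (c : G) ∈ Subgroup.centralizer
        ((Q ⊔ Subgroup.zpowers (w ^ m) : Subgroup G) : Set G) := by
      have hle : Q ⊔ Subgroup.zpowers (w ^ m) ≤ Subgroup.centralizer ({(c : G)} : Set G) :=
        sup_le (fun u hu => Subgroup.mem_centralizer_singleton_iff.2
          (Subgroup.mem_centralizer_iff.1 c.2 u hu)) (Subgroup.zpowers_le.2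
          (Subgroup.pow_mem _ (Subgroup.mem_centralizer_singleton_iff.2 hcomm) m))
      exact Subgroup.mem_centralizer_iff.2 fun u hu =>
        Subgroup.mem_centralizer_singleton_iff.1 (hle hu)
    obtain ⟨g, hg⟩ := CfsgLib.BlockA.exists_normalSubpair_of_coeff hM he
      (X := Q ⊔ Subgroup.zpowers (w ^ m))
      (hQp.to_sup_of_normal_left' hwm (Subgroup.zpowers_le.2 hwS.1)) le_sup_left
      (sup_le (CfsgLib.BlockA.le_pairStab Q e) (Subgroup.zpowers_le.2 hwS)) hcX hc0
    have hwQ : w ^ m ∈ Q := by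
      rw [← habove _ g hg]
      exact Subgroup.mem_sup_right (Subgroup.mem_zpowers _)
    set N := Subgroup.normalizer (Q : Set G) with hN
    have hQCN : Q ⊔ (Subgroup.centralizer (Q : Set G)) ≤ N := sup_le Subgroup.le_normalizer (Subgroup.centralizer_le_normalizer _)
    have : ((Q ⊔ (Subgroup.centralizer (Q : Set G))).subgroupOf N).Normal := by
      refine ⟨fun t ht n => ?_⟩
      have hmap : (Q ⊔ (Subgroup.centralizer (Q : Set G))).map (MulAut.conj (n : G)).toMonoidHom = Q ⊔ (Subgroup.centralizer (Q : Set G)) := by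
        rw [Subgroup.map_sup, CfsgLib.BlockA.map_conj_centralizer]
        have hQ : Q.map (MulAut.conj (n : G)).toMonoidHom = Q := by
          ext q
          rw [CfsgLib.Block.mem_map_conj_iff]
          exact (Subgroup.mem_normalizer_iff''.1 n.2 q).symm
        rw [hQ]
      show (n : G) * (t : G) * (n : G)⁻¹ ∈ Q ⊔ (Subgroup.centralizer (Q : Set G))
      rw [← hmap]
      exact ⟨(t : G), ht, rfl⟩
    let φ := QuotientGroup.mk' ((Q ⊔ (Subgroup.centralizer (Q : Set G))).subgroupOf N)
    have hy : φ ⟨(y : G), hQCN (Subgroup.mem_sup_right y.2)⟩ = 1 :=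
      (QuotientGroup.eq_one_iff _).2 (Subgroup.mem_sup_right y.2 : (y : G) ∈ Q ⊔ (Subgroup.centralizer (Q : Set G)))
    have hxm : φ ⟨x, hxN⟩ ^ m = 1 := by
      have h1 : φ (⟨(y : G), hQCN (Subgroup.mem_sup_right y.2)⟩ * ⟨x, hxN⟩) ^ m = 1 := by
        rw [← map_pow]
        exact (QuotientGroup.eq_one_iff _).2
          (Subgroup.mem_sup_left hwQ : w ^ m ∈ Q ⊔ (Subgroup.centralizer (Q : Set G)))
      rwa [map_mul, hy, one_mul] at h1
    have hxk : φ ⟨x, hxN⟩ ^ p ^ k = 1 := by
      rw [← map_pow, show (⟨x, hxN⟩ : N) ^ p ^ k = 1 from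
        Subtype.ext (by simp [← hk, pow_orderOf_eq_one]), map_one]
    have h1 : φ ⟨x, hxN⟩ = 1 := by
      have hcop : Nat.Coprime m (p ^ k) :=
        Nat.Coprime.pow_right _ (hpM.coprime_iff_not_dvd.2 hm).symm
      have := pow_gcd_eq_one.2 ⟨hxm, hxk⟩
      rwa [Nat.coprime_iff_gcd_eq_one.1 hcop, pow_one] at this
    exact (QuotientGroup.eq_one_iff (⟨x, hxN⟩ : N)).1 h1
  · rintro ⟨θ, hθ, htriv, hdeg, hstab⟩
    have hD : Cfsg.IsDefectGroup p M e Z :=
      CfsgLib.BlockB.isDefectGroup_of_trivial hM he.2 hZp hZc hθ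
        (fun z hz => htriv z ((hZmem z).1 hz)) (by rwa [hZcard])
    obtain ⟨B, hB, -⟩ := CfsgLib.BlockA.existsUnique_block hM he
    refine ⟨B, hB, fun R g hR hle => ?_⟩
    by_contra hne
    obtain ⟨R', g', hne', hs, -⟩ := CfsgLib.BlockA.exists_first_step hM hle (Ne.symm hne)
    obtain ⟨ξ, hξ⟩ := CfsgLib.Block.isPBlock_nonempty hs.2.1.2
    obtain ⟨hQR, hRN, hRst, hv⟩ :=
      (CfsgLib.BlockA.isNormalSubpair_iff hM hξ hs.2.1 hs.1).1 hs
    have hcoef : ∃ c ∈ Subgroup.centralizer (R' : Set G),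
        (CfsgLib.BlockA.sIdem M (Subgroup.centralizer (Q : Set G)) e).coeff c ≠ 0 := by
      by_contra hcon
      push Not at hcon
      rw [CfsgLib.BlockA.pairVal_eq ξ (CfsgLib.BlockA.isCInv_sIdem hM hQR e)] at hv
      refine zero_ne_one (((map_zero _).symm.trans (congrArg _ (Subtype.ext ?_))).trans hv)
      ext t
      rw [CfsgLib.Block.coeff_resSub]
      simpa using (hcon t t.2).symm
    obtain ⟨c, hc, hc0⟩ := hcoef
    have hcC : c ∈ (Subgroup.centralizer (Q : Set G)) := by
      by_contra h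
      exact hc0 (CfsgLib.BlockA.coeff_sIdem_of_not_mem e h)
    have hRp : IsPGroup p R' := hs.2.1.1
    obtain ⟨z, hz⟩ := (CfsgLib.Block.exists_le_conj_iff_coeff hM he.2 hD
      (R := R'.subgroupOf (Subgroup.centralizer (Q : Set G))) hRp.comap_subtype).1 ⟨⟨c, hcC⟩, by
        rw [Subgroup.mem_centralizer_iff]
        intro u hu
        exact Subtype.ext (Subgroup.mem_centralizer_iff.1 hc u hu), by
        rwa [← CfsgLib.Block.coeff_inclSub_of_mem (Subgroup.centralizer (Q : Set G))]⟩
    refine hne' (le_antisymm (fun r hr => ?_) hQR)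
    obtain ⟨j, hj⟩ := IsPGroup.iff_orderOf.1 hRp ⟨r, hr⟩
    obtain ⟨q, hq, c', hc', rfl⟩ := CfsgLib.BlockA.mem_sup_cen
      (hstab r (hRN hr) (hRst r hr) ⟨j, by rw [← hj, Subgroup.orderOf_mk]⟩)
    have hc'R : c' ∈ R' := by
      have := R'.mul_mem (R'.inv_mem (hQR hq)) hr
      rwa [inv_mul_cancel_left] at this
    obtain ⟨t, ht, hte⟩ := hz (show (⟨c', hc'⟩ : (Subgroup.centralizer (Q : Set G))) ∈ R'.subgroupOf (Subgroup.centralizer (Q : Set G)) from hc'R)
    have hc'Z : (⟨c', hc'⟩ : (Subgroup.centralizer (Q : Set G))) ∈ Z := by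
      rw [← hte]
      show z * t * z⁻¹ ∈ Z
      rw [Subgroup.mem_center_iff.1 (hZc ht) z, mul_inv_cancel_right]
      exact ht
    exact Q.mul_mem hq ((hZmem _).1 hc'Z)

end Cfsg.Agent.S4828
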