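import Cfsg.Statements.S4838
import Cfsg.Agent.Lib.BlockB.Gagola
import Cfsg.Agent.Lib.Solvable.PCore

set_option autoImplicit false
open Cfsg

namespace Cfsg.Agent.S4838

/-- Let G be a finite group of order greater than 2 with an irreducible character χ nonzero on exactly two conjugacy classes, N the normal p-subgroup of elements where χ is nonzero, and P a Sylow p-subgroup of G. Then (a) for every x outside N the centralizer of x in G has the same order as the centralizer of xN in G/N; (b) the centre of P lies in N, and equals N exactly when P is normal in G; (c) N, viewed inside P, is a term of the upper central series of P. -/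
theorem result {G : Type*} [Group G] [Finite G] (hG : 2 < Nat.card G) (χ : Cfsg.IrrCharacter G) (hχ : Nat.card {C : ConjClasses G // ∃ g ∈ C.carrier, (χ : G → ℂ) g ≠ 0} = 2) (p : ℕ) [Fact p.Prime] (N : Subgroup G) [N.Normal] (hN : ∀ g : G, g ∈ N ↔ (χ : G → ℂ) g ≠ 0) (hNp : IsPGroup p N) (hN1 : N ≠ ⊥) (P : Sylow p G) :
    (∀ x : G, x ∉ N → Nat.card (Subgroup.centralizer ({x} : Set G)) = Nat.card (Subgroup.centralizer ({(x : G ⧸ N)} : Set (G ⧸ N)))) ∧
      ((Subgroup.center ↥(P : Subgroup G)).map (P : Subgroup G).subtype ≤ N ∧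
        ((Subgroup.center ↥(P : Subgroup G)).map (P : Subgroup G).subtype = N ↔ (P : Subgroup G).Normal)) ∧
      (∃ i : ℕ, Subgroup.upperCentralSeries ↥(P : Subgroup G) i = N.subgroupOf (P : Subgroup G)) := by
  obtain ⟨c, hc⟩ := CfsgLib.BlockB.Gagola.exists_twoClass hG hχ
  have hp : p.Prime := Fact.out
  obtain ⟨n, k, hn0, hn, -, hGc⟩ := CfsgLib.BlockB.Gagola.exists_k hc hN hNp
  have hcardP : Nat.card P = p ^ (2 * k + n) := by
    rw [P.card_eq_multiplicity, CfsgLib.BlockB.Gagola.factorization_card hc hN hNp hn0 hn hGc]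
  have hNP : N ≤ (P : Subgroup G) := CfsgLib.Solvable.normal_pgroup_le_sylow hNp P
  have hZN : (Subgroup.center ↥(P : Subgroup G)).map (P : Subgroup G).subtype ≤ N := by
    rintro z hz
    obtain ⟨w, hw, rfl⟩ := Subgroup.mem_map.1 hz
    by_contra hzN
    have hle := CfsgLib.BlockB.Gagola.card_le_of_centralizes hc hN hn0 hn hGc hzN P.isPGroup'
      (fun y hy => by
        rw [Subgroup.mem_centralizer_singleton_iff]
        exact congrArg Subtype.val (Subgroup.mem_center_iff.1 hw ⟨y, hy⟩))
    rw [hcardP] at hle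
    have := (Nat.pow_le_pow_iff_right hp.one_lt).1 hle
    omega
  refine ⟨fun x hx => CfsgLib.BlockB.Gagola.card_centralizer_eq hc hN hx, ⟨hZN, fun hZ => ?_,
    fun hPn => ?_⟩, ?_⟩
  · -- `N` central in `P`, so `P` is the centralizer of `N`
    have hsyl : ∀ x ∈ N, x ≠ 1 → Subgroup.centralizer ({x} : Set G) = (P : Subgroup G) := by
      intro x hx hx1
      obtain ⟨Q, hQ⟩ := CfsgLib.BlockB.Gagola.exists_sylow_centralizer hc hN hNp hx hx1
      refine hQ.trans (P.is_maximal' Q.isPGroup' ?_)
      rw [← hQ]
      intro y hy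
      rw [Subgroup.mem_centralizer_singleton_iff]
      rw [← hZ] at hx
      obtain ⟨w, hw, rfl⟩ := Subgroup.mem_map.1 hx
      exact congrArg Subtype.val (Subgroup.mem_center_iff.1 hw ⟨y, hy⟩)
    have hcN : Subgroup.centralizer (N : Set G) = (P : Subgroup G) := by
      refine le_antisymm ((Subgroup.centralizer_le (Set.singleton_subset_iff.2
        (CfsgLib.BlockB.Gagola.c_mem hc hN))).trans
          (hsyl c (CfsgLib.BlockB.Gagola.c_mem hc hN) hc.1).le) fun y hy => ?_
      rw [Subgroup.mem_centralizer_iff]
      intro x hx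
      rcases eq_or_ne x 1 with rfl | hx1
      · simp
      · rw [← hsyl x hx hx1, Subgroup.mem_centralizer_singleton_iff] at hy
        exact hy.symm
    rw [← hcN]
    infer_instance
  · refine le_antisymm hZN fun x hx => ?_
    refine Subgroup.mem_map.2 ⟨⟨x, hNP hx⟩, Subgroup.mem_center_iff.2 fun y => ?_, rfl⟩
    rcases eq_or_ne x 1 with rfl | hx1
    · exact Subtype.ext (by simp)
    obtain ⟨Q, hQ⟩ := CfsgLib.BlockB.Gagola.exists_sylow_centralizer hc hN hNp hx hx1
    have hPQ : (P : Subgroup G) = Q := by
      obtain ⟨g, hg⟩ := MulAction.exists_smul_eq G P Q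
      rw [← hg, Sylow.coe_subgroup_smul]
      exact (@Subgroup.Normal.conj_smul_eq_self _ _ _ _ hPn).symm
    have hy : (y : G) ∈ Subgroup.centralizer ({x} : Set G) := by rw [hQ, ← hPQ]; exact y.2
    exact Subtype.ext (Subgroup.mem_centralizer_singleton_iff.1 hy)
  · -- the upper central series
    set N' := N.subgroupOf (P : Subgroup G) with hN'
    have hcardN' : Nat.card N' = p ^ n := by
      rw [hN', Nat.card_congr (Subgroup.subgroupOfEquivOfLe hNP).toEquiv, hn]
    have hstep : ∀ j, Subgroup.upperCentralSeries ↥(P : Subgroup G) j ≤ N' →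
        ¬ N' ≤ Subgroup.upperCentralSeries ↥(P : Subgroup G) j →
        Subgroup.upperCentralSeries ↥(P : Subgroup G) (j + 1) ≤ N' := by
      intro j hj hj' x hx
      by_contra hxN
      set Z := Subgroup.upperCentralSeries ↥(P : Subgroup G) j with hZdef
      have hlt : Nat.card Z < p ^ n := by
        rw [← hcardN', ← SetLike.coe_sort_coe Z, ← SetLike.coe_sort_coe N', Nat.card_coe_set_eq,
          Nat.card_coe_set_eq]
        exact Set.ncard_lt_ncard ⟨hj, hj'⟩
      rw [Subgroup.mem_upperCentralSeries_succ_iff] at hx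
      have := Fintype.ofFinite ↥(P : Subgroup G)
      have hclass : Nat.card (ConjClasses.mk x).carrier ≤ Nat.card Z := by
        have hmem : ∀ y ∈ (ConjClasses.mk x).carrier, y * x⁻¹ ∈ Z := by
          intro y hy
          rw [ConjClasses.mem_carrier_iff_mk_eq, ConjClasses.mk_eq_mk_iff_isConj] at hy
          obtain ⟨d, rfl⟩ := isConj_iff.1 hy.symm
          simpa [mul_assoc, commutatorElement_def] using Z.inv_mem (hx d)
        exact Nat.card_le_card_of_injective
          (fun y : (ConjClasses.mk x).carrier => (⟨y.1 * x⁻¹, hmem _ y.2⟩ : Z))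
          fun a b h => Subtype.ext (mul_right_cancel (congrArg Subtype.val h))
      have hle := CfsgLib.BlockB.Gagola.card_le_of_centralizes hc hN hn0 hn hGc
        (x := (x : G)) hxN
        (K := (Subgroup.centralizer ({x} : Set ↥(P : Subgroup G))).map (P : Subgroup G).subtype)
        ((P.isPGroup'.to_subgroup _).map _) (by
          rintro _ ⟨y, hy, rfl⟩
          rw [Subgroup.mem_centralizer_singleton_iff]
          exact congrArg Subtype.val (Subgroup.mem_centralizer_singleton_iff.1 hy))
      rw [Subgroup.card_map_of_injective (Subgroup.subtype_injective _)] at hle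
      have h := CfsgLib.Char.natCard_carrier_mul_centralizer x
      have h2 := Nat.mul_le_mul hclass hle
      rw [h, hcardP, pow_add, mul_comm (Nat.card Z)] at h2
      exact absurd ((Nat.mul_le_mul_left_iff (pow_pos hp.pos _)).1 h2) (not_le.2 hlt)
    obtain ⟨L, hL⟩ := (Group.isNilpotent_iff ↥(P : Subgroup G)).1 P.isPGroup'.isNilpotent
    classical
    have hex : ∃ i, N' ≤ Subgroup.upperCentralSeries ↥(P : Subgroup G) i := ⟨L, hL ▸ le_top⟩
    refine ⟨Nat.find hex, le_antisymm ?_ (Nat.find_spec hex)⟩
    have hall : ∀ i, i ≤ Nat.find hex → Subgroup.upperCentralSeries ↥(P : Subgroup G) i ≤ N' := by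
      intro i
      induction i with
      | zero => intro _; simp
      | succ j ih =>
        intro hj
        exact hstep j (ih (by omega)) (Nat.find_min hex (by omega))
    exact hall _ le_rfl

end Cfsg.Agent.S4838
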