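import Cfsg.Statements.S4839
import Cfsg.Agent.Lib.BlockB.Gagola
import Cfsg.Agent.Lib.Solvable.PCore
import Cfsg.Agent.Lib.Invol.BaerSuzuki
import Cfsg.Agent.Lib.Solvable.FrobeniusComplement
import Cfsg.Agent.Lib.Solvable.FrobeniusKernel

set_option autoImplicit false
open Cfsg

namespace Cfsg.Agent.S4839

/-- Two involutions whose product has two-power order generate a `2`-group. -/
theorem isPGroup_closure_pair {Q : Type*} [Group Q] [Finite Q] {u v : Q} (hu : u * u = 1)
    (hv : v * v = 1) {a : ℕ} (ht : orderOf (u * v) = 2 ^ a) :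
    IsPGroup 2 ↥(Subgroup.closure ({u, v} : Set Q)) := by
  have := Fact.mk Nat.prime_two
  have hui : u⁻¹ = u := inv_eq_of_mul_eq_one_right hu
  have hvi : v⁻¹ = v := inv_eq_of_mul_eq_one_right hv
  have hconj : u * (u * v) * u⁻¹ = (u * v)⁻¹ := by
    rw [mul_inv_rev, hui, hvi, ← mul_assoc, hu, one_mul]
  have hT : IsPGroup 2 ↥(Subgroup.zpowers (u * v)) :=
    IsPGroup.of_card (n := a) (by rw [Nat.card_zpowers, ht])
  have hU : IsPGroup 2 ↥(Subgroup.zpowers u) := by
    obtain ⟨j, -, hj⟩ := (Nat.dvd_prime_pow Nat.prime_two).1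
      (show orderOf u ∣ 2 ^ 1 from orderOf_dvd_iff_pow_eq_one.2 (by rw [pow_one, pow_two, hu]))
    exact IsPGroup.of_card (n := j) (by rw [Nat.card_zpowers, hj])
  have hnorm : Subgroup.zpowers u ≤ Subgroup.normalizer (Subgroup.zpowers (u * v) : Set Q) := by
    rw [Subgroup.zpowers_le, Subgroup.mem_normalizer_iff]
    have key : ∀ y ∈ Subgroup.zpowers (u * v), u * y * u⁻¹ ∈ Subgroup.zpowers (u * v) := by
      rintro _ ⟨i, rfl⟩
      exact ⟨-i, by simp only [zpow_neg, ← conj_zpow, hconj, inv_zpow]⟩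
    refine fun y => ⟨key y, fun hy => ?_⟩
    have h2 := key _ hy
    rwa [show u * (u * y * u⁻¹) * u⁻¹ = y by
      rw [hui]; calc u * (u * y * u) * u = (u * u) * y * (u * u) := by group
        _ = y := by rw [hu, one_mul, mul_one]] at h2
  refine (IsPGroup.to_sup_of_normal_right' hU hT hnorm).to_le ((Subgroup.closure_le _).2 ?_)
  rintro y (h' | h')
  · rw [h']; exact Subgroup.mem_sup_left (Subgroup.mem_zpowers _)
  · rw [h']
    have h := Subgroup.mul_mem (Subgroup.zpowers u ⊔ Subgroup.zpowers (u * v))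
      (Subgroup.mem_sup_left (Subgroup.mem_zpowers u))
      (Subgroup.mem_sup_right (Subgroup.mem_zpowers (u * v)))
    rwa [← mul_assoc, hu, one_mul] at h

open CfsgLib.BlockB in
/-- The key step: if `N = O_p(G)` then `N` is a Sylow subgroup. -/
theorem k_eq_zero {G : Type*} [Group G] [Finite G] {χ : Cfsg.IrrCharacter G} {c : G}
    (hc : Gagola.IsTwoClass χ c) {p : ℕ} [hp : Fact p.Prime] {N : Subgroup G} [N.Normal]
    (hN : ∀ g : G, g ∈ N ↔ (χ : G → ℂ) g ≠ 0) (hNp : IsPGroup p N) (hcore : N = Cfsg.pCore p G)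
    {n k : ℕ} (hn0 : 0 < n) (hn : Nat.card N = p ^ n)
    (hG : Nat.card G = p ^ (2 * k) * (Nat.card N - 1) * Nat.card N) : k = 0 := by
  classical
  by_contra hk
  obtain ⟨r, hr, -, hcomm, hpow⟩ := Gagola.exists_elementary hc hN
  have hcN := Gagola.c_mem hc hN
  have hrp : r = p := by
    obtain ⟨i, hi⟩ := hNp ⟨c, hcN⟩
    have h1 : orderOf c ∣ p ^ i := orderOf_dvd_iff_pow_eq_one.2 (congrArg Subtype.val hi)
    obtain ⟨j, -, hj⟩ := (Nat.dvd_prime_pow hp.out).1 h1
    have h2 : orderOf c ∣ r := orderOf_dvd_iff_pow_eq_one.2 (hpow c hcN)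
    rcases (Nat.dvd_prime hr).1 h2 with h3 | h3
    · exact absurd (orderOf_eq_one_iff.1 h3) hc.1
    · exact ((Nat.prime_dvd_prime_iff_eq hr hp.out).1
        (hr.dvd_of_dvd_pow (h3 ▸ h1)))
  subst hrp
  have hab : ∀ a ∈ N, ∀ b ∈ N, a * b = b * a := fun a ha b hb =>
    congrArg Subtype.val (mul_comm' (⟨a, ha⟩ : N) ⟨b, hb⟩)
  -- an element commuting with a nonidentity element of `N` is an `r`-element
  have hfix : ∀ g a : G, a ∈ N → g * a = a * g → a = 1 ∨ ∃ i : ℕ, g ^ r ^ i = 1 := by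
    intro g a ha hga
    refine or_iff_not_imp_left.2 fun ha1 => ?_
    obtain ⟨i, hi⟩ := Gagola.isPGroup_centralizer hc hN hNp ha ha1
      ⟨g, Subgroup.mem_centralizer_singleton_iff.2 hga⟩
    exact ⟨i, congrArg Subtype.val hi⟩
  have hCN : Subgroup.centralizer (N : Set G) ≤ N := by
    conv_rhs => rw [hcore]
    refine CfsgLib.Solvable.le_pCore inferInstance
      ((Gagola.isPGroup_centralizer hc hN hNp hcN hc.1).to_le ?_)
    exact Subgroup.centralizer_le (Set.singleton_subset_iff.2 hcN)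
  have hq : 1 < Nat.card N := hn ▸ Nat.one_lt_pow hn0.ne' hr.one_lt
  have hdN_pow : ∀ g ∈ N, g ^ Nat.card N = 1 := fun g hg =>
    congrArg Subtype.val (pow_card_eq_one' (x := (⟨g, hg⟩ : N)))
  rcases hr.eq_two_or_odd' with h2 | hodd
  · -- `p = 2`
    subst h2
    have hd2 : 2 ∣ Nat.card (G ⧸ N) := by
      have h := Subgroup.card_eq_card_quotient_mul_card_subgroup N
      rw [hG] at h
      rw [← Nat.eq_of_mul_eq_mul_right Nat.card_pos h]
      exact Dvd.dvd.mul_right (dvd_pow_self 2 (by omega)) _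
    obtain ⟨u, hu⟩ := exists_prime_orderOf_dvd_card' 2 hd2
    have huu : u * u = 1 := by rw [← pow_two, ← hu, pow_orderOf_eq_one]
    have hu1 : u ≠ 1 := fun h => by rw [h, orderOf_one] at hu; omega
    have hnot : u ∉ Cfsg.pCore 2 (G ⧸ N) := by
      intro hmem
      have hnor := CfsgLib.Solvable.pCore_normal 2 (G ⧸ N)
      have hle := CfsgLib.Solvable.le_pCore (hnor.comap (QuotientGroup.mk' N))
        ((CfsgLib.Solvable.pCore_isPGroup 2).comap_of_ker_isPGroup (QuotientGroup.mk' N)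
          (by rw [QuotientGroup.ker_mk']; exact hNp))
      rw [← hcore] at hle
      obtain ⟨g, rfl⟩ := QuotientGroup.mk'_surjective N u
      exact hu1 ((QuotientGroup.eq_one_iff g).2 (hle hmem))
    obtain ⟨g, hg⟩ : ∃ g : G ⧸ N,
        ¬ IsPGroup 2 ↥(Subgroup.closure ({u, g * u * g⁻¹} : Set (G ⧸ N))) := by
      by_contra hcon
      push Not at hcon
      exact hnot (CfsgLib.Invol.baer_suzuki_mem_pCore hcon)
    have hvv : (g * u * g⁻¹) * (g * u * g⁻¹) = 1 := by
      calc (g * u * g⁻¹) * (g * u * g⁻¹) = g * (u * u) * g⁻¹ := by group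
        _ = 1 := by rw [huu, mul_one, mul_inv_cancel]
    set t := u * (g * u * g⁻¹) with ht
    obtain ⟨a, b, hb, hab2⟩ := Nat.exists_eq_two_pow_mul_odd (orderOf_pos t).ne'
    have hui : u⁻¹ = u := inv_eq_of_mul_eq_one_right huu
    have hinv : u * t * u⁻¹ = t⁻¹ := by
      rw [ht, mul_inv_rev, hui, inv_eq_of_mul_eq_one_right hvv, ← mul_assoc, huu, one_mul]
    have hb1 : b ≠ 1 := by
      rintro rfl
      exact hg (isPGroup_closure_pair huu hvv (a := a) (by rw [← ht, hab2, mul_one]))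
    obtain ⟨s0, hs0⟩ := QuotientGroup.mk'_surjective N (t ^ 2 ^ a)
    obtain ⟨i, j, hj, hij⟩ := Nat.exists_eq_two_pow_mul_odd (orderOf_pos s0).ne'
    set s := s0 ^ 2 ^ i with hs
    have hsord : orderOf s = j := by
      rw [hs, orderOf_pow' _ (pow_ne_zero _ two_ne_zero), hij,
        Nat.gcd_eq_right (dvd_mul_right _ _), Nat.mul_div_cancel_left _ (by positivity)]
    have himg : (s : G ⧸ N) = (t ^ 2 ^ a) ^ 2 ^ i := by
      rw [hs, QuotientGroup.mk_pow]; exact congrArg (· ^ 2 ^ i) hs0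
    have hsN : s ∉ N := by
      intro h
      have h1 : (t ^ 2 ^ a) ^ 2 ^ i = 1 := by rw [← himg, (QuotientGroup.eq_one_iff s).2 h]
      rw [← pow_mul, ← orderOf_dvd_iff_pow_eq_one, hab2,
        Nat.mul_dvd_mul_iff_left (by positivity)] at h1
      exact hb1 (((Nat.Coprime.pow_right _
        (Nat.coprime_two_right.2 hb)).eq_one_of_dvd h1))
    have hs1 : ∀ m : G, m ∈ N → s * m = m * s → m = 1 := by
      intro m hm hsm
      refine (hfix s m hm hsm).resolve_right ?_
      rintro ⟨l, hl⟩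
      have h1 : orderOf s = 1 := by
        refine Nat.dvd_one.1 ?_
        rw [← (Nat.Coprime.pow_right l (Nat.coprime_two_right.2 hj) : Nat.gcd j (2 ^ l) = 1)]
        exact Nat.dvd_gcd hsord.dvd (orderOf_dvd_iff_pow_eq_one.2 hl)
      exact hsN (orderOf_eq_one_iff.1 h1 ▸ N.one_mem)
    obtain ⟨u0, hu0⟩ := QuotientGroup.mk'_surjective N u
    have hu0' : (u0 : G ⧸ N) = u := hu0
    have hd : u0 * s * u0⁻¹ * s ∈ N := by
      refine (QuotientGroup.eq_one_iff _).1 ?_
      rw [QuotientGroup.mk_mul, QuotientGroup.mk_mul, QuotientGroup.mk_mul, QuotientGroup.mk_inv,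
        hu0', himg, ← conj_pow, ← conj_pow, hinv, inv_pow, inv_pow, inv_mul_cancel]
    let φ : N → N := fun m => ⟨m * (s⁻¹ * (m : G)⁻¹ * s),
      N.mul_mem m.2 (by simpa using ‹N.Normal›.conj_mem _ (N.inv_mem m.2) s⁻¹)⟩
    have hφ : Function.Injective φ := by
      intro x y h
      have h' : (x : G) * (s⁻¹ * (x : G)⁻¹ * s) = y * (s⁻¹ * (y : G)⁻¹ * s) :=
        congrArg Subtype.val h
      have h2 := hs1 ((y : G)⁻¹ * x) (N.mul_mem (N.inv_mem y.2) x.2) ?_
      · exact Subtype.ext (inv_mul_eq_one.1 h2).symm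
      have hw : s⁻¹ * (x : G) * s ∈ N := by simpa using ‹N.Normal›.conj_mem _ x.2 s⁻¹
      have h3 : (y : G)⁻¹ * x = s⁻¹ * ((y : G)⁻¹ * x) * s := by
        calc (y : G)⁻¹ * x = (y : G)⁻¹ * ((x : G) * (s⁻¹ * (x : G)⁻¹ * s)) * (s⁻¹ * x * s) := by
              group
          _ = (y : G)⁻¹ * ((y : G) * (s⁻¹ * (y : G)⁻¹ * s)) * (s⁻¹ * x * s) := by rw [h']
          _ = s⁻¹ * ((y : G)⁻¹ * x) * s := by group
      calc s * ((y : G)⁻¹ * x) = s * (s⁻¹ * ((y : G)⁻¹ * x) * s) := by rw [← h3]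
        _ = (y : G)⁻¹ * x * s := by group
    obtain ⟨m, hm⟩ := (Finite.injective_iff_surjective.1 hφ) ⟨_, N.inv_mem hd⟩
    have hm' : (m : G) * (s⁻¹ * (m : G)⁻¹ * s) = (u0 * s * u0⁻¹ * s)⁻¹ := congrArg Subtype.val hm
    set x := (m : G) * u0 with hx
    have hxs : x * s * x⁻¹ = s⁻¹ := by
      have e := hab m m.2 _ hd
      calc x * s * x⁻¹ = (m : G) * (u0 * s * u0⁻¹ * s) * (s⁻¹ * (m : G)⁻¹ * s) * s⁻¹ := by
            rw [hx]; group
        _ = (u0 * s * u0⁻¹ * s) * ((m : G) * (s⁻¹ * (m : G)⁻¹ * s)) * s⁻¹ := by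
            rw [e]; group
        _ = s⁻¹ := by rw [hm', mul_inv_cancel, one_mul]
    have hxu : (x : G ⧸ N) = u := by
      rw [hx, QuotientGroup.mk_mul, (QuotientGroup.eq_one_iff (m : G)).2 m.2, one_mul, hu0']
    have hxN : x ∉ N := fun h => hu1 (hxu ▸ (QuotientGroup.eq_one_iff x).2 h)
    have hx2 : x * x = 1 := by
      refine hs1 _ ((QuotientGroup.eq_one_iff _).1 (by rw [QuotientGroup.mk_mul, hxu, huu])) ?_
      calc s * (x * x) = x * x * ((x * x)⁻¹ * s * (x * x)) := by group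
        _ = x * x * s := by
          congr 1
          have e2 : x⁻¹ * s * x = s⁻¹ := by
            calc x⁻¹ * s * x = x⁻¹ * (s⁻¹)⁻¹ * x := by rw [inv_inv]
              _ = x⁻¹ * (x * s * x⁻¹)⁻¹ * x := by rw [hxs]
              _ = s⁻¹ := by group
          calc (x * x)⁻¹ * s * (x * x) = x⁻¹ * (x⁻¹ * s * x) * x := by group
            _ = x⁻¹ * s⁻¹ * x := by rw [e2]
            _ = (x⁻¹ * s * x)⁻¹ := by group
            _ = s := by rw [e2, inv_inv]
    refine hxN (hCN (Subgroup.mem_centralizer_iff.2 fun a ha => ?_))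
    obtain ⟨w, hw⟩ := isConj_iff.1 (Gagola.isConj_mul_of_not_mem hc hN hxN ha)
    have h4 : (x * a) * (x * a) = 1 := by
      rw [← hw]
      calc w * x * w⁻¹ * (w * x * w⁻¹) = w * (x * x) * w⁻¹ := by group
        _ = 1 := by rw [hx2, mul_one, mul_inv_cancel]
    have ha2 : a * a = 1 := by rw [← pow_two]; exact hpow a ha
    calc a * x = (x * x) * (a * x) * (a * a) := by rw [hx2, ha2, one_mul, mul_one]
      _ = x * ((x * a) * (x * a)) * a := by group
      _ = x * a := by rw [h4, mul_one]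
  · -- `p` odd
    have hqodd : Odd (Nat.card N) := hn ▸ hodd.pow
    have hd2 : 2 ∣ Nat.card G := by
      rw [hG]
      exact dvd_mul_of_dvd_left (dvd_mul_of_dvd_right
        (even_iff_two_dvd.1 (Nat.Odd.sub_odd hqodd odd_one)) _) _
    have := Fact.mk Nat.prime_two
    obtain ⟨z, hz⟩ := exists_prime_orderOf_dvd_card' 2 hd2
    have hz1 : ∀ a ∈ N, z * a = a * z → a = 1 := by
      intro a ha hza
      refine (hfix z a ha hza).resolve_right ?_
      rintro ⟨i, hi⟩
      have h := orderOf_dvd_iff_pow_eq_one.2 hi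
      rw [hz] at h
      exact (Nat.not_even_iff_odd.2 hodd.pow) (even_iff_two_dvd.2 h)
    have hzz : z * z = 1 := by rw [← pow_two, ← hz, pow_orderOf_eq_one]
    have hzi : z⁻¹ = z := inv_eq_of_mul_eq_one_right hzz
    have hzinv : ∀ a ∈ N, z * a * z⁻¹ = a⁻¹ := by
      intro a ha
      have hb : z * a * z⁻¹ ∈ N := ‹N.Normal›.conj_mem _ ha z
      refine (inv_eq_of_mul_eq_one_right (hz1 _ (N.mul_mem ha hb) ?_)).symm
      calc z * (a * (z * a * z⁻¹)) = (z * a * z⁻¹) * (z * z * a) * z⁻¹ := by group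
        _ = (z * a * z⁻¹) * a * z⁻¹ := by rw [hzz, one_mul]
        _ = a * (z * a * z⁻¹) * z⁻¹ := by rw [hab _ hb _ ha]
        _ = a * (z * a * z⁻¹) * z := by rw [hzi]
    have hfr : ∀ g : G, ∃ m ∈ N, (m * g) * z = z * (m * g) := by
      intro g
      set d := g * z * g⁻¹ * z⁻¹ with hd
      have hdN : d ∈ N := by
        refine hCN (Subgroup.mem_centralizer_iff.2 fun a ha => ?_)
        have h1 : z⁻¹ * a * z = a⁻¹ := by
          have := hzinv a ha
          rw [hzi] at this ⊢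
          exact this
        have hga : g⁻¹ * a * g ∈ N := by simpa using ‹N.Normal›.conj_mem _ ha g⁻¹
        have h2 : d * a * d⁻¹ = a := by
          calc d * a * d⁻¹ = g * z * g⁻¹ * (z⁻¹ * a * z) * g * z⁻¹ * g⁻¹ := by rw [hd]; group
            _ = g * (z * (g⁻¹ * a * g)⁻¹ * z⁻¹) * g⁻¹ := by rw [h1]; group
            _ = a := by rw [hzinv _ (N.inv_mem hga), inv_inv]; group
        exact ((mul_inv_eq_iff_eq_mul.1 h2)).symm
      obtain ⟨j, hj⟩ := hqodd
      refine ⟨d⁻¹ ^ (j + 1), N.pow_mem (N.inv_mem hdN) _, ?_⟩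
      have hm2 : d⁻¹ ^ (j + 1) * d⁻¹ ^ (j + 1) = d⁻¹ := by
        rw [← pow_add, show j + 1 + (j + 1) = Nat.card N + 1 by omega, pow_succ,
          hdN_pow d⁻¹ (N.inv_mem hdN), one_mul]
      set m := d⁻¹ ^ (j + 1)
      have hmN : m ∈ N := N.pow_mem (N.inv_mem hdN) _
      have hgz : g * z = d * z * g := by rw [hd]; group
      calc m * g * z = m * (d * z * g) := by rw [mul_assoc, hgz]
        _ = (m * (d * (z * m⁻¹ * z⁻¹))) * z * (m * g) := by group
        _ = (m * m * d) * z * (m * g) := by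
            rw [hzinv _ (N.inv_mem hmN), inv_inv, hab _ hdN _ hmN, ← mul_assoc m m d]
        _ = z * (m * g) := by rw [hm2, inv_mul_cancel, one_mul]
    let P : Sylow r G := default
    have hNP : N ≤ (P : Subgroup G) := CfsgLib.Solvable.normal_pgroup_le_sylow hNp P
    have hcardP : Nat.card P = r ^ (2 * k + n) := by
      rw [P.card_eq_multiplicity, Gagola.factorization_card hc hN hNp hn0 hn hG]
    set K1 := (P : Subgroup G) ⊓ Subgroup.centralizer ({z} : Set G) with hK1
    have hle1 : Nat.card P ≤ Nat.card N * Nat.card K1 := by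
      rw [← Nat.card_prod]
      refine Nat.card_le_card_of_surjective (fun q : N × K1 =>
        (⟨q.1 * q.2, P.mul_mem (hNP q.1.2) q.2.2.1⟩ : (P : Subgroup G))) fun g => ?_
      obtain ⟨m, hm, hcm⟩ := hfr g
      exact ⟨(⟨m⁻¹, N.inv_mem hm⟩, ⟨m * g, (P : Subgroup G).mul_mem (hNP hm) g.2,
        Subgroup.mem_centralizer_singleton_iff.2 hcm⟩), Subtype.ext (by simp)⟩
    have hK1ge : r ^ (2 * k) ≤ Nat.card K1 := by
      rw [hcardP, hn, pow_add, mul_comm] at hle1
      exact Nat.le_of_mul_le_mul_left hle1 (pow_pos hr.pos _)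
    have hK1p : IsPGroup r K1 := P.isPGroup'.to_le inf_le_left
    have : Nontrivial K1 := Finite.one_lt_card_iff_nontrivial.1
      (lt_of_lt_of_le (Nat.one_lt_pow (by omega) hr.one_lt) hK1ge)
    have := hK1p.center_nontrivial
    obtain ⟨⟨⟨x, hxK⟩, hxc⟩, hx1⟩ := exists_ne (1 : Subgroup.center K1)
    have hxN : x ∉ N := fun h => hx1 (Subtype.ext (Subtype.ext
      (hz1 x h (Subgroup.mem_centralizer_singleton_iff.1 hxK.2).symm)))
    have : Nontrivial (P : Subgroup G) := Finite.one_lt_card_iff_nontrivial.1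
      (hcardP ▸ Nat.one_lt_pow (by omega) hr.one_lt)
    have := P.isPGroup'.center_nontrivial
    obtain ⟨⟨⟨w, hwP⟩, hwc⟩, hw1⟩ := exists_ne (1 : Subgroup.center (P : Subgroup G))
    have hwcomm : ∀ y ∈ (P : Subgroup G), y * w = w * y := fun y hy =>
      congrArg Subtype.val (Subgroup.mem_center_iff.1 hwc ⟨y, hy⟩)
    have hwN : w ∈ N := by
      by_contra hwN
      have h := Gagola.card_le_of_centralizes hc hN hn0 hn hG hwN P.isPGroup'
        (fun y hy => Subgroup.mem_centralizer_singleton_iff.2 (hwcomm y hy))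
      rw [hcardP] at h
      have := (Nat.pow_le_pow_iff_right hr.one_lt).1 h
      omega
    have hwK : w ∉ K1 := fun h => hw1 (Subtype.ext (Subtype.ext
      (hz1 w hwN (Subgroup.mem_centralizer_singleton_iff.1 h.2).symm)))
    have hKP : K1 ⊔ Subgroup.zpowers w ≤ (P : Subgroup G) :=
      sup_le inf_le_left (Subgroup.zpowers_le.2 hwP)
    have hKx : K1 ⊔ Subgroup.zpowers w ≤ Subgroup.centralizer ({x} : Set G) := by
      refine sup_le (fun y hy => Subgroup.mem_centralizer_singleton_iff.2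
        (congrArg Subtype.val (Subgroup.mem_center_iff.1 hxc ⟨y, hy⟩))) (Subgroup.zpowers_le.2 ?_)
      exact Subgroup.mem_centralizer_singleton_iff.2 (hwcomm x hxK.1).symm
    have h := Gagola.card_le_of_centralizes hc hN hn0 hn hG hxN (P.isPGroup'.to_le hKP) hKx
    have hlt : Nat.card K1 < Nat.card ↥(K1 ⊔ Subgroup.zpowers w) := by
      rw [← SetLike.coe_sort_coe K1, ← SetLike.coe_sort_coe (K1 ⊔ Subgroup.zpowers w),
        Nat.card_coe_set_eq, Nat.card_coe_set_eq]
      exact Set.ncard_lt_ncard ⟨le_sup_left (a := K1),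
        fun h => hwK (h (Subgroup.mem_sup_right (Subgroup.mem_zpowers w)))⟩
    omega

/-- Let G be a finite group of order greater than 2 with an irreducible character χ nonzero on exactly two conjugacy classes, and let N be the normal p-subgroup of elements where χ is nonzero. Then N is the whole p-core O_p(G) if and only if G is a doubly transitive Frobenius group with kernel N: G has a Frobenius complement H whose Frobenius kernel is N and whose order is one less than that of N. -/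
theorem result {G : Type*} [Group G] [Finite G] (hG : 2 < Nat.card G) (χ : Cfsg.IrrCharacter G) (hχ : Nat.card {C : ConjClasses G // ∃ g ∈ C.carrier, (χ : G → ℂ) g ≠ 0} = 2) (p : ℕ) [Fact p.Prime] (N : Subgroup G) [N.Normal] (hN : ∀ g : G, g ∈ N ↔ (χ : G → ℂ) g ≠ 0) (hNp : IsPGroup p N) (hN1 : N ≠ ⊥) :
    N = Cfsg.pCore p G ↔ ∃ H : Subgroup G, Cfsg.IsFrobeniusComplement H ∧ Cfsg.frobeniusKernel H = (N : Set G) ∧ Nat.card H + 1 = Nat.card N := by
  classical
  obtain ⟨c, hc⟩ := CfsgLib.BlockB.Gagola.exists_twoClass hG hχ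
  obtain ⟨n, k, hn0, hn, -, hGc⟩ := CfsgLib.BlockB.Gagola.exists_k hc hN hNp
  have hp : p.Prime := Fact.out
  have hq : 1 < Nat.card N := hn ▸ Nat.one_lt_pow hn0.ne' hp.one_lt
  have hcop : Nat.Coprime (Nat.card N) (Nat.card N - 1) :=
    (Nat.coprime_self_sub_right (by omega)).2 (Nat.coprime_one_right _)
  constructor
  · intro hcore
    have hk := k_eq_zero hc hN hNp hcore hn0 hn hGc
    rw [hk, mul_zero, pow_zero, one_mul] at hGc
    have hidx : N.index = Nat.card N - 1 := by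
      have h := N.index_mul_card
      rw [hGc] at h
      exact Nat.eq_of_mul_eq_mul_right Nat.card_pos h
    obtain ⟨H, hH⟩ := Subgroup.exists_right_complement'_of_coprime (N := N) (hidx ▸ hcop)
    have hcardH : Nat.card H + 1 = Nat.card N := by
      have h := hH.card_mul
      rw [hGc, mul_comm] at h
      have := Nat.eq_of_mul_eq_mul_right Nat.card_pos h
      omega
    have hH1 : H ≠ ⊥ := by
      intro h
      rw [h, Subgroup.card_bot] at hcardH
      rw [← hcardH] at hGc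
      omega
    have hfpf : ∀ h ∈ H, h ≠ 1 → N ⊓ Subgroup.centralizer {h} = ⊥ := by
      intro h hh hh1
      refine eq_bot_iff.2 fun a ha => Subgroup.mem_bot.2 ?_
      by_contra ha1
      obtain ⟨i, hi⟩ := CfsgLib.BlockB.Gagola.isPGroup_centralizer hc hN hNp ha.1 ha1
        ⟨h, Subgroup.mem_centralizer_singleton_iff.2
          (Subgroup.mem_centralizer_singleton_iff.1 ha.2).symm⟩
      have h1 : orderOf h ∣ p ^ i := orderOf_dvd_iff_pow_eq_one.2 (congrArg Subtype.val hi)
      have h2 : orderOf h ∣ Nat.card H := Subgroup.orderOf_dvd_natCard H hh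
      have h3 : Nat.Coprime (p ^ i) (Nat.card H) := by
        refine Nat.Coprime.pow_left _ ?_
        rw [show Nat.card H = Nat.card N - 1 by omega]
        exact Nat.Coprime.coprime_dvd_left (hn ▸ dvd_pow_self p hn0.ne') hcop
      exact hh1 (orderOf_eq_one_iff.1 (Nat.dvd_one.1 (h3 ▸ Nat.dvd_gcd h1 h2)))
    have hN1' : N ≠ ⊥ := hN1
    have hF : Cfsg.IsFrobeniusComplement H :=
      (CfsgLib.Solvable.isFrobeniusComplement_iff_fpf hH hN1' hH1).2 hfpf
    refine ⟨H, hF, (Set.eq_of_subset_of_ncard_le (fun a ha => ?_) ?_).symm, hcardH⟩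
    · refine or_iff_not_imp_left.2 fun ha1 g hg => ha1 ?_
      obtain ⟨y, hy, rfl⟩ := hg
      have hyN : y ∈ N := by
        simpa [mul_assoc] using ‹N.Normal›.conj_mem _ ha g⁻¹
      have : y = 1 := Subgroup.mem_bot.1 (hH.disjoint.le_bot ⟨hyN, hy⟩)
      simp [this]
    · rw [← Nat.card_coe_set_eq, ← Nat.card_coe_set_eq,
        CfsgLib.Solvable.card_kernel_of_isFrobeniusComplement hF, SetLike.coe_sort_coe,
        hH.index_eq_card]
  · rintro ⟨H, hF, hker, hcardH⟩
    have hidx : H.index = Nat.card N := by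
      rw [← CfsgLib.Solvable.card_kernel_of_isFrobeniusComplement hF, hker, SetLike.coe_sort_coe]
    have hcard := H.index_mul_card
    rw [hidx] at hcard
    have hle : N ≤ Cfsg.pCore p G := CfsgLib.Solvable.le_pCore inferInstance hNp
    refine Subgroup.eq_of_le_of_card_ge hle ?_
    obtain ⟨i, hi⟩ := IsPGroup.iff_card.1 (CfsgLib.Solvable.pCore_isPGroup (G := G) p)
    have hd : Nat.card (Cfsg.pCore p G) ∣ Nat.card N * Nat.card H :=
      hcard ▸ Subgroup.card_subgroup_dvd_card _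
    refine Nat.le_of_dvd Nat.card_pos (Nat.Coprime.dvd_of_dvd_mul_right ?_ hd)
    rw [hi]
    refine Nat.Coprime.pow_left _ ?_
    rw [show Nat.card H = Nat.card N - 1 by omega]
    exact Nat.Coprime.coprime_dvd_left (hn ▸ dvd_pow_self p hn0.ne') hcop

end Cfsg.Agent.S4839
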