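import Cfsg.Statements.S4840
import Cfsg.Agent.Lib.BlockB.Gagola
import Cfsg.Agent.Lib.BlockB.TransPStab
import Cfsg.Agent.Lib.Transfer.Frobenius
import Cfsg.Agent.Lib.Solvable.PCore
-- import your own Cfsg.Agent.* helpers here

set_option autoImplicit false
open Cfsg

open scoped commutatorElement
namespace Cfsg.Agent.S4840

/-- Let G be a finite solvable group of order greater than 2 with an irreducible character nonzero on exactly two conjugacy classes. Then there is exactly one prime p with O_p(G) ≠ 1, and the quotient G/O_p(G) has a normal p-complement and commutative Sylow p-subgroups. -/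
theorem result {G : Type*} [Group G] [Finite G] [hs : Group.IsSolvable G] (hG : 2 < Nat.card G) (χ : Cfsg.IrrCharacter G) (hχ : Nat.card {C : ConjClasses G // ∃ g ∈ C.carrier, (χ : G → ℂ) g ≠ 0} = 2) :
    ∃ p : ℕ, p.Prime ∧ (∀ q : ℕ, q.Prime → (Cfsg.pCore q G ≠ ⊥ ↔ q = p)) ∧
      Cfsg.HasNormalPComplement p (G ⧸ Cfsg.pCore p G) ∧ ∀ Q : Sylow p (G ⧸ Cfsg.pCore p G), IsMulCommutative (Q : Subgroup (G ⧸ Cfsg.pCore p G)) := by
  classical
  obtain ⟨c, hc⟩ := CfsgLib.BlockB.Gagola.exists_twoClass hG hχ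
  let N : Subgroup G := Subgroup.normalClosure ({c} : Set G)
  have hN : ∀ g : G, g ∈ N ↔ (χ : G → ℂ) g ≠ 0 := fun g =>
    CfsgLib.BlockB.Gagola.mem_normalClosure_iff hc
  have hNn : N.Normal := Subgroup.normalClosure_normal
  obtain ⟨p, hp, hNp, hcomm, hexp⟩ := CfsgLib.BlockB.Gagola.exists_elementary hc hN
  have := Fact.mk hp
  have hcN : c ∈ N := CfsgLib.BlockB.Gagola.c_mem hc hN
  have hNbot : N ≠ ⊥ := fun h => hc.1 (Subgroup.mem_bot.1 (h ▸ hcN))
  refine ⟨p, hp, fun q hq => ⟨fun hne => ?_, ?_⟩, ?_⟩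
  · by_contra hqp
    have := Fact.mk hq
    have := CfsgLib.Solvable.pCore_normal q G
    have hd := IsPGroup.disjoint_of_ne q p hqp (Cfsg.pCore q G) N
      (CfsgLib.Solvable.pCore_isPGroup q) hNp
    exact hNbot (eq_bot_iff.2 (le_trans
      (le_inf (CfsgLib.BlockB.Gagola.le_of_normal hc hN hne) le_rfl) hd.le_bot))
  · rintro rfl hbot
    have h := CfsgLib.Solvable.le_pCore hNn hNp
    rw [hbot, le_bot_iff] at h
    exact hNbot h
  have hKn : (Cfsg.pCore p G).Normal := CfsgLib.Solvable.pCore_normal p G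
  have hKp : IsPGroup p (Cfsg.pCore p G) := CfsgLib.Solvable.pCore_isPGroup p
  have hNK : N ≤ Cfsg.pCore p G := CfsgLib.Solvable.le_pCore hNn hNp
  let φ0 : G →* MulAut N := MulAut.conjNormal
  have hker : φ0.ker = Cfsg.pCore p G := by
    refine le_antisymm (CfsgLib.Solvable.le_pCore inferInstance
      ((CfsgLib.BlockB.Gagola.isPGroup_centralizer hc hN hNp hcN hc.1).to_le fun g hg => ?_)) ?_
    · have h := congrArg Subtype.val (DFunLike.congr_fun (MonoidHom.mem_ker.1 hg) ⟨c, hcN⟩)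
      rw [MulAut.conjNormal_apply, MulAut.one_apply] at h
      exact Subgroup.mem_centralizer_singleton_iff.2 (mul_inv_eq_iff_eq_mul.1 h)
    · intro k hk
      let Z : Subgroup G := (Subgroup.center (Cfsg.pCore p G)).map (Cfsg.pCore p G).subtype
      have hnt : Nontrivial (Cfsg.pCore p G) :=
        ⟨⟨⟨c, hNK hcN⟩, 1, fun h => hc.1 (congrArg Subtype.val h)⟩⟩
      have hZ : Z ≠ ⊥ := by
        intro h
        rw [Subgroup.map_eq_bot_iff_of_injective _ (Subgroup.subtype_injective _)] at h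
        have := hKp.center_nontrivial
        exact (Subgroup.nontrivial_iff_ne_bot _).1 this h
      have hZn : Z.Normal := CfsgLib.Solvable.map_subtype_normal _
      have hle : N ≤ Z := CfsgLib.BlockB.Gagola.le_of_normal hc hN hZ
      refine MonoidHom.mem_ker.2 (MulEquiv.ext fun x => Subtype.ext ?_)
      rw [MulAut.conjNormal_apply, MulAut.one_apply]
      obtain ⟨z, hz, hzx⟩ := hle x.2
      rw [← hzx]
      have h := congrArg Subtype.val (Subgroup.mem_center_iff.1 hz ⟨k, hk⟩)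
      simp only [Subgroup.coe_mul] at h
      exact mul_inv_eq_iff_eq_mul.2 h
  let φ : G ⧸ Cfsg.pCore p G →* MulAut N := QuotientGroup.lift _ φ0 hker.ge
  have hinj : Function.Injective φ := by
    rw [injective_iff_map_eq_one]
    intro h hh
    obtain ⟨g, rfl⟩ := QuotientGroup.mk'_surjective _ h
    exact (QuotientGroup.eq_one_iff g).2 (hker ▸ MonoidHom.mem_ker.2 hh)
  let : CommGroup N :=
    { (inferInstance : Group N) with mul_comm := fun a b => hcomm.is_comm.comm a b }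
  have : Nontrivial N := ⟨⟨⟨c, hcN⟩, 1, fun h => hc.1 (congrArg Subtype.val h)⟩⟩
  have htr : ∀ x y : N, x ≠ 1 → y ≠ 1 → ∃ h, φ h x = y := by
    intro x y hx hy
    obtain ⟨g, hg⟩ := isConj_iff.1 (CfsgLib.BlockB.Gagola.isConj_of_mem hc hN x.2 y.2
      (fun h => hx (Subtype.ext h)) (fun h => hy (Subtype.ext h)))
    exact ⟨(g : G ⧸ Cfsg.pCore p G), Subtype.ext hg⟩
  have hstab : ∀ (h : G ⧸ Cfsg.pCore p G) (x : N), x ≠ 1 → φ h x = x →
      ∃ k : ℕ, orderOf h = p ^ k := by
    intro h x hx hfix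
    obtain ⟨g, rfl⟩ := QuotientGroup.mk'_surjective _ h
    have hg : g ∈ Subgroup.centralizer ({(x : G)} : Set G) :=
      Subgroup.mem_centralizer_singleton_iff.2 (mul_inv_eq_iff_eq_mul.1
        (show g * (x : G) * g⁻¹ = (x : G) from congrArg Subtype.val hfix))
    obtain ⟨k, hk⟩ := IsPGroup.iff_orderOf.1 (CfsgLib.BlockB.Gagola.isPGroup_centralizer hc hN hNp
      x.2 (fun h => hx (Subtype.ext h))) ⟨g, hg⟩
    rw [← Subgroup.orderOf_coe] at hk
    obtain ⟨j, -, hj⟩ := (Nat.dvd_prime_pow hp).1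
      (hk ▸ orderOf_map_dvd (QuotientGroup.mk' (Cfsg.pCore p G)) g)
    exact ⟨j, hj⟩
  have hcop := CfsgLib.BlockB.TransPStab.coprime_card_commutator φ hstab hinj
    (fun x => Subtype.ext (hexp x x.2)) htr (CfsgLib.Solvable.pCore_quotient_eq_bot p)
  have key : ∀ (Q : Sylow p (G ⧸ Cfsg.pCore p G)), ∀ a ∈ Q, a ∈ commutator (G ⧸ Cfsg.pCore p G) →
      a = 1 := by
    intro Q a ha ha'
    obtain ⟨k, hk⟩ := IsPGroup.iff_orderOf.1 Q.2 ⟨a, ha⟩
    rw [← Subgroup.orderOf_coe] at hk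
    have h1 : orderOf a ∣ Nat.card (commutator (G ⧸ Cfsg.pCore p G)) := by
      rw [← Subgroup.orderOf_mk a ha']; exact orderOf_dvd_natCard _
    exact orderOf_eq_one_iff.1
      (Nat.eq_one_of_dvd_coprimes (hcop.pow_right k) h1 (dvd_of_eq hk))
  have hab : ∀ (Q : Sylow p (G ⧸ Cfsg.pCore p G)), ∀ a ∈ Q, ∀ b ∈ Q, a * b = b * a := by
    intro Q a ha b hb
    have h := key Q ⁅a, b⁆ (by
      rw [commutatorElement_def]
      exact mul_mem (mul_mem (mul_mem ha hb) (inv_mem ha)) (inv_mem hb))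
      (Subgroup.commutator_mem_commutator (Subgroup.mem_top a) (Subgroup.mem_top b))
    exact commutatorElement_eq_one_iff_mul_comm.1 h
  refine ⟨?_, fun Q => ⟨⟨fun a b => Subtype.ext (hab Q a a.2 b b.2)⟩⟩⟩
  refine CfsgLib.Transfer.hasNormalPComplement_of_controls_fusion default
    fun x hx y hy ⟨g, hg⟩ => ⟨1, one_mem _, ?_⟩
  have h : ⁅g, x⁆ = 1 := key default _ (by
    rw [commutatorElement_def, hg]; exact mul_mem hy (inv_mem hx))
    (Subgroup.commutator_mem_commutator (Subgroup.mem_top g) (Subgroup.mem_top x))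
  rw [commutatorElement_def, mul_inv_eq_one, hg] at h
  rw [one_mul, inv_one, mul_one, h]

end Cfsg.Agent.S4840
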