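import Cfsg.Statements.S4845
import Cfsg.Agent.Lib.BlockB.GaloisDegree

set_option autoImplicit false
open Cfsg

namespace Cfsg.Agent.S4845

/-- Let p be a prime and P a finite non-commutative p-group. Then every two irreducible characters of P of the same degree greater than 1 are Galois conjugate (one is obtained from the other by composing with g ↦ g^k for some k prime to the order of P) if and only if the centre of P is cyclic and the derived subgroup of P has order p. -/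
theorem result {P : Type*} [Group P] [Finite P] (p : ℕ) [Fact p.Prime] (hP : IsPGroup p P) (hna : ¬ IsMulCommutative P) :
    (∀ χ ψ : Cfsg.IrrCharacter P, Cfsg.charDegree (χ : P → ℂ) ≠ 1 → Cfsg.charDegree (χ : P → ℂ) = Cfsg.charDegree (ψ : P → ℂ) → ∃ k : ℕ, Nat.Coprime k (Nat.card P) ∧ ∀ g : P, (ψ : P → ℂ) g = (χ : P → ℂ) (g ^ k)) ↔
      (IsCyclic (Subgroup.center P) ∧ Nat.card (commutator P) = p) := by
  have hna' : ¬ ∀ a b : P, a * b = b * a := fun h => hna ⟨⟨h⟩⟩
  have hdeg : ∀ χ : Cfsg.IrrCharacter P, ((χ : P → ℂ) 1 = 1 ↔ Cfsg.charDegree (χ : P → ℂ) = 1) := by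
    intro χ
    rw [← CfsgLib.Block.charDegree_cast (CfsgLib.Char.irr_isCharacter χ.2), Nat.cast_eq_one]
  have heq : ∀ χ ψ : Cfsg.IrrCharacter P, ((χ : P → ℂ) 1 = (ψ : P → ℂ) 1 ↔
      Cfsg.charDegree (χ : P → ℂ) = Cfsg.charDegree (ψ : P → ℂ)) := by
    intro χ ψ
    rw [← CfsgLib.Block.charDegree_cast (CfsgLib.Char.irr_isCharacter χ.2),
      ← CfsgLib.Block.charDegree_cast (CfsgLib.Char.irr_isCharacter ψ.2), Nat.cast_inj]
  constructor
  · intro h
    have hH : CfsgLib.BlockB.GaloisDegree.Hyp P := fun χ ψ h1 h2 =>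
      h χ ψ (fun e => h1 ((hdeg χ).2 e)) ((heq χ ψ).1 h2)
    have hc := CfsgLib.BlockB.GaloisDegree.card_commutator (p := p) _ P rfl hP hH hna'
    exact ⟨(CfsgLib.BlockB.GaloisDegree.prime_commutator hP hH hc).1, hc⟩
  · rintro ⟨hcyc, hc⟩ χ ψ h1 h2
    exact CfsgLib.BlockB.GaloisDegree.hyp_of_cyclic hP hcyc hc χ ψ
      (fun e => h1 ((hdeg χ).1 e)) ((heq χ ψ).2 h2)

end Cfsg.Agent.S4845
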