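import Cfsg.Statements.S4847
import Cfsg.Agent.Lib.BlockB.Palfy.Main

set_option autoImplicit false
open Cfsg

namespace Cfsg.Agent.S4847

/-- Let G be a finite solvable group and p, q, r three distinct primes each dividing the degree of some irreducible character of G. Then for some two of them the product divides the degree of some irreducible character of G (the character degree graph of a solvable group has no three pairwise non-adjacent vertices). -/
theorem result {G : Type*} [Group G] [Finite G] [hs : Group.IsSolvable G] (p q r : ℕ) (hp : p.Prime) (hq : q.Prime) (hr : r.Prime) (hpq : p ≠ q) (hqr : q ≠ r) (hpr : p ≠ r)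
    (hpd : ∃ χ : Cfsg.IrrCharacter G, p ∣ Cfsg.charDegree (χ : G → ℂ)) (hqd : ∃ χ : Cfsg.IrrCharacter G, q ∣ Cfsg.charDegree (χ : G → ℂ)) (hrd : ∃ χ : Cfsg.IrrCharacter G, r ∣ Cfsg.charDegree (χ : G → ℂ)) :
    (∃ χ : Cfsg.IrrCharacter G, p * q ∣ Cfsg.charDegree (χ : G → ℂ)) ∨ (∃ χ : Cfsg.IrrCharacter G, q * r ∣ Cfsg.charDegree (χ : G → ℂ)) ∨ (∃ χ : Cfsg.IrrCharacter G, p * r ∣ Cfsg.charDegree (χ : G → ℂ)) := by
  classical
  have : Fact p.Prime := ⟨hp⟩
  have : Fact q.Prime := ⟨hq⟩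
  have : Fact r.Prime := ⟨hr⟩
  by_contra hcon
  rw [not_or, not_or, not_exists, not_exists, not_exists] at hcon
  obtain ⟨h1, h2, h3⟩ := hcon
  rcases CfsgLib.BlockB.Palfy.loses hpq hqr hpr _ G rfl (fun χ hχ => h1 ⟨χ, hχ⟩)
    (fun χ hχ => h2 ⟨χ, hχ⟩) (fun χ hχ => h3 ⟨χ, hχ⟩) with h | h | h
  · obtain ⟨χ, hd⟩ := hpd
    exact h _ χ.2 hd
  · obtain ⟨χ, hd⟩ := hqd
    exact h _ χ.2 hd
  · obtain ⟨χ, hd⟩ := hrd
    exact h _ χ.2 hd

end Cfsg.Agent.S4847
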