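import Cfsg.Statements.S4850
import Cfsg.Agent.Lib.Solvable.VanishingSylow
import Cfsg.Agent.Lib.Solvable.Nilpotent

set_option autoImplicit false
open Cfsg

namespace Cfsg.Agent.S4850

/-- Let p be a prime and G a finite solvable group whose vanishing elements (elements at which some irreducible character is zero) of order divisible by p all have the same order, with at least one such element. Let P be a Sylow p-subgroup of G. Then the derived subgroup of P is subnormal in G and the image of P in G/O_p(G) is cyclic. -/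
theorem result {G : Type*} [Group G] [Finite G] [hs : Group.IsSolvable G] (p : ℕ) [Fact p.Prime] (b : ℕ) (hvo : {n : ℕ | p ∣ n ∧ ∃ (g : G) (χ : Cfsg.IrrCharacter G), orderOf g = n ∧ (χ : G → ℂ) g = 0} = {b}) (P : Sylow p G) :
    ((commutator ↥(P : Subgroup G)).map (P : Subgroup G).subtype).IsSubnormal ∧ IsCyclic ↥((P : Subgroup G).map (QuotientGroup.mk' (Cfsg.pCore p G))) := by
  have := CfsgLib.Solvable.pCore_normal p G
  have hb : ∀ g g' : G, CfsgLib.Solvable.IsVanishing g → p ∣ orderOf g →
      CfsgLib.Solvable.IsVanishing g' → p ∣ orderOf g' → orderOf g = orderOf g' := by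
    have key : ∀ g : G, CfsgLib.Solvable.IsVanishing g → p ∣ orderOf g → orderOf g = b := by
      intro g ⟨χ, hχ⟩ hd
      have h : orderOf g ∈ {n : ℕ | p ∣ n ∧ ∃ (g : G) (χ : Cfsg.IrrCharacter G), orderOf g = n ∧
          (χ : G → ℂ) g = 0} := ⟨hd, g, χ, rfl, hχ⟩
      rw [hvo] at h
      exact h
    exact fun g g' h1 h2 h3 h4 => (key g h1 h2).trans (key g' h3 h4).symm
  have hd := CfsgLib.Solvable.card_sylow_map_dvd_of_vanishing_order hb P
  set f := QuotientGroup.mk' (Cfsg.pCore p G)
  have hcyc : IsCyclic ↥((P : Subgroup G).map f) := by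
    rcases (Nat.dvd_prime (Fact.out : p.Prime)).1 hd with h | h
    · have : Subsingleton ↥((P : Subgroup G).map f) := (Nat.card_eq_one_iff_unique.1 h).1
      infer_instance
    · exact isCyclic_of_prime_card h
  refine ⟨?_, hcyc⟩
  set D := (commutator ↥(P : Subgroup G)).map (P : Subgroup G).subtype
  have hle : D ≤ Cfsg.pCore p G := by
    let r : ↥(P : Subgroup G) →* ↥((P : Subgroup G).map f) := f.subgroupMap (P : Subgroup G)
    let : CommGroup ↥((P : Subgroup G).map f) := IsCyclic.commGroup
    rw [Subgroup.map_le_iff_le_comap]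
    intro x hx
    have h1 : r x = 1 := (Abelianization.commutator_subset_ker r) hx
    have h2 : f (x : G) = 1 := congrArg Subtype.val h1
    exact (QuotientGroup.eq_one_iff (x : G)).1 h2
  have hN : Group.IsNilpotent ↥(Cfsg.pCore p G) :=
    (CfsgLib.Solvable.pCore_isPGroup p).isNilpotent
  exact Subgroup.IsSubnormal.trans hle
    (CfsgLib.Solvable.isSubnormal_of_isNilpotent (D.subgroupOf (Cfsg.pCore p G)))
    (Subgroup.Normal.isSubnormal inferInstance)

end Cfsg.Agent.S4850
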