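import Cfsg.Statements.S4859
import Cfsg.Agent.Lib.BlockB.SqrtCount

set_option autoImplicit false
open Cfsg

namespace Cfsg.Agent.S4859

/-- Let p be an odd prime, G a finite group and x an element of G whose order is a power of p (possibly 1) and whose centralizer has even order. Let y be a 2-element of the centralizer of x whose order is largest among the 2-elements of that centralizer. Then x * y is not a square in G, and some non-principal real-valued irreducible character of G does not vanish at x * y. -/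
theorem result {G : Type*} [Group G] [Finite G] (p : ℕ) [Fact p.Prime] (hp : p ≠ 2) (x : G) (hx : ∃ k : ℕ, orderOf x = p ^ k) (heven : Even (Nat.card (Subgroup.centralizer ({x} : Set G)))) (y : G) (hy : y ∈ Subgroup.centralizer ({x} : Set G)) (hy2 : ∃ k : ℕ, orderOf y = 2 ^ k) (hmax : ∀ z ∈ Subgroup.centralizer ({x} : Set G), (∃ k : ℕ, orderOf z = 2 ^ k) → orderOf z ≤ orderOf y) : (¬ ∃ u : G, u * u = x * y) ∧ ∃ χ : Cfsg.IrrCharacter G, ¬ ((χ : G → ℂ) = fun _ => (1 : ℂ)) ∧ (∀ g : G, ((χ : G → ℂ) g).im = 0) ∧ (χ : G → ℂ) (x * y) ≠ 0 := by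
  classical
  have := Fintype.ofFinite G
  have := Fintype.ofFinite (Cfsg.IrrCharacter G)
  obtain ⟨j, hj⟩ := hx
  obtain ⟨k, hk⟩ := hy2
  have hp' : p.Prime := Fact.out
  have hxy : Commute x y := (Subgroup.mem_centralizer_singleton_iff.1 hy).symm
  have hk0 : k ≠ 0 := by
    rintro rfl
    obtain ⟨t, ht⟩ := exists_prime_orderOf_dvd_card' 2 (even_iff_two_dvd.1 heven)
    have h2 := hmax (t : G) t.2 ⟨1, by rw [Subgroup.orderOf_coe, ht, pow_one]⟩
    rw [Subgroup.orderOf_coe, ht, hk, pow_zero] at h2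
    omega
  have hnsq : ¬ ∃ u : G, u * u = x * y := by
    rintro ⟨u, hu⟩
    have hcop : (p ^ j).Coprime (2 ^ k) :=
      Nat.Coprime.pow j k ((Nat.coprime_primes hp' Nat.prime_two).2 hp)
    obtain ⟨b, hb1, hb2⟩ := Nat.chineseRemainder hcop 1 0
    have hxb : (x * y) ^ b = x := by
      rw [hxy.mul_pow]
      have h1 : x ^ b = x := by
        conv_rhs => rw [← pow_one x]
        exact pow_eq_pow_iff_modEq.2 (hj ▸ hb1)
      have h2 : y ^ b = 1 :=
        orderOf_dvd_iff_pow_eq_one.1 (hk ▸ Nat.modEq_zero_iff_dvd.1 hb2)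
      rw [h1, h2, mul_one]
    have hux : Commute u x := by
      rw [← hxb]
      exact (show Commute u (x * y) by rw [← hu]; exact (Commute.refl u).mul_right (Commute.refl u)).pow_right b
    set w := u ^ p ^ j with hw
    have hwC : w ∈ Subgroup.centralizer ({x} : Set G) :=
      Subgroup.mem_centralizer_singleton_iff.2 (hux.pow_left _).eq
    have hw2 : w ^ 2 = y ^ p ^ j := by
      rw [hw, ← pow_mul, mul_comm, pow_mul, pow_two, hu, hxy.mul_pow, ← hj, pow_orderOf_eq_one,
        one_mul]
    have hyo : orderOf (y ^ p ^ j) = 2 ^ k := by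
      rw [Nat.Coprime.orderOf_pow (by rw [hk]; exact hcop.symm), hk]
    have hwo : orderOf w = 2 ^ (k + 1) := by
      have := Fact.mk Nat.prime_two
      refine orderOf_eq_prime_pow ?_ ?_
      · obtain ⟨i, rfl⟩ := Nat.exists_eq_succ_of_ne_zero hk0
        rw [pow_succ', pow_mul, hw2]
        intro h
        have := Nat.le_of_dvd (by positivity) (hyo ▸ orderOf_dvd_of_pow_eq_one h)
        rw [pow_succ] at this
        have : 0 < 2 ^ i := by positivity
        omega
      · rw [pow_succ', pow_mul, hw2, ← hyo, pow_orderOf_eq_one]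
    have := hmax w hwC ⟨k + 1, hwo⟩
    rw [hwo, hk, pow_succ] at this
    have : 0 < 2 ^ k := by positivity
    omega
  refine ⟨hnsq, ?_⟩
  by_contra hno
  push Not at hno
  have h0 : CfsgLib.BlockB.sqrtCount (x * y) = 0 := by
    simp only [CfsgLib.BlockB.sqrtCount, Nat.cast_eq_zero, Finset.card_eq_zero,
      Finset.filter_eq_empty_iff]
    exact fun u _ hu => hnsq ⟨u, hu⟩
  rw [CfsgLib.BlockB.sqrtCount_eq_sum, Finset.sum_eq_single
    (⟨fun _ => 1, CfsgLib.Char.isIrrCharacter_one⟩ : Cfsg.IrrCharacter G)] at h0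
  · simp [CfsgLib.BlockB.fsInd] at h0
  · intro χ _ hχ
    rcases CfsgLib.BlockB.fsInd_cases χ with ⟨h, -⟩ | ⟨-, h⟩
    · rw [h, zero_mul]
    · rw [hno χ (fun e => hχ (Subtype.ext e)) h, mul_zero]
  · exact fun h => absurd (Finset.mem_univ _) h

end Cfsg.Agent.S4859
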