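import Cfsg.Statements.S4862
import Cfsg.Agent.Lib.BlockB.RealOverOdd
import Cfsg.Agent.Lib.Char.LinearSum

set_option autoImplicit false
open Cfsg

namespace Cfsg.Agent.S4862

/-- Let p be an odd prime and G a finite group such that the subgroup generated by the p-elements of G is solvable and every real-valued irreducible complex character of G has degree prime to p. Let K be the subgroup generated by the 2-elements of G and P a Sylow p-subgroup of G. Then every normal subgroup M of G contained in K and in the derived subgroup of P is centralized by K. -/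
theorem result {G : Type*} [Group G] [Finite G] (p : ℕ) [Fact p.Prime] (hp : p ≠ 2) (hsolv : Group.IsSolvable ↥(Subgroup.closure {g : G | ∃ k : ℕ, orderOf g = p ^ k})) (hreal : ∀ χ : Cfsg.IrrCharacter G, (∀ g : G, ((χ : G → ℂ) g).im = 0) → ¬ p ∣ Cfsg.charDegree (χ : G → ℂ)) (P : Sylow p G) (M : Subgroup G) (hM : M.Normal) (hMK : M ≤ (Subgroup.closure {g : G | ∃ k : ℕ, orderOf g = 2 ^ k})) (hMP : M ≤ ⁅(P : Subgroup G), (P : Subgroup G)⁆) : (Subgroup.closure {g : G | ∃ k : ℕ, orderOf g = 2 ^ k}) ≤ Subgroup.centralizer (M : Set G) := by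
  classical
  have := Fintype.ofFinite G
  have := Fintype.ofFinite M
  have := Fintype.ofFinite (P : Subgroup G)
  have hMle : M ≤ (P : Subgroup G) := hMP.trans (Subgroup.commutator_le.2 fun a ha b hb => by
      rw [commutatorElement_def]
      exact mul_mem (mul_mem (mul_mem ha hb) (inv_mem ha)) (inv_mem hb))
  have hModd : Odd (Nat.card M) := by
    obtain ⟨a, ha⟩ := IsPGroup.iff_card.1 (P.2.to_le hMle)
    rw [ha]
    exact ((Fact.out : p.Prime).odd_of_ne_two hp).pow
  rw [Subgroup.closure_le]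
  rintro t ⟨k, ht⟩
  by_contra hne
  obtain ⟨i, x, hx, hsx⟩ := CfsgLib.BlockB.RealOverOdd.exists_inverted M ht hne
  obtain ⟨θ, hθ1, hθ⟩ := CfsgLib.BlockB.RealOverOdd.exists_irr_ne_one_conj M _ hx hsx
  obtain ⟨χ, hre, hover⟩ :=
    CfsgLib.BlockB.RealOverOdd.exists_real_over_of_conj M hModd θ.2 _ hθ
  have hres : Cfsg.IsCharacter (P : Subgroup G) (fun y : (P : Subgroup G) => (χ : G → ℂ) y) :=
    CfsgLib.Char.isCharacter_restrict (CfsgLib.Char.irr_isCharacter χ.2) _
  have hdeg : ¬ p ∣ Cfsg.charDegree (fun y : (P : Subgroup G) => (χ : G → ℂ) y) := by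
    refine fun h => hreal χ hre ?_
    have e : Cfsg.charDegree (χ : G → ℂ) =
        Cfsg.charDegree (fun y : (P : Subgroup G) => (χ : G → ℂ) y) := by
      have e1 := CfsgLib.BlockB.charDegree_cast (CfsgLib.Char.irr_isCharacter χ.2)
      have e2 := CfsgLib.BlockB.charDegree_cast hres
      rw [← OneMemClass.coe_one (P : Subgroup G), ← e2] at e1
      exact_mod_cast e1
    rw [e]; exact h
  obtain ⟨μ, hμ⟩ := CfsgLib.BlockB.RealOverOdd.exists_linear_constituent P.2 hres hdeg
  have hμirr : Cfsg.IsIrrCharacter (P : Subgroup G) (fun y => (μ y : ℂ)) :=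
    CfsgLib.Char.isIrrCharacter_linear μ
  obtain ⟨R, hR, hRe⟩ := CfsgLib.Clifford.exists_add_of_constituent hres hμirr hμ
  have hμM : ∀ m : M, (μ ⟨(m : G), hMle m.2⟩ : ℂ) = 1 := by
    intro m
    have hm : (⟨(m : G), hMle m.2⟩ : (P : Subgroup G)) ∈ commutator (P : Subgroup G) := by
      have h := hMP m.2
      rw [← Subgroup.range_subtype (P : Subgroup G), MonoidHom.range_eq_map,
        ← Subgroup.map_commutator, ← commutator_def] at h
      obtain ⟨z, hz, hzm⟩ := Subgroup.mem_map.1 h
      rwa [show z = ⟨(m : G), hMle m.2⟩ from Subtype.ext hzm] at hz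
    rw [CfsgLib.Char.linear_eq_one_of_mem_commutator μ hm, Units.val_one]
  have htriv : Cfsg.IsIrrCharacter M (fun _ => (1 : ℂ)) := by
    simpa using CfsgLib.Char.isIrrCharacter_linear (1 : M →* ℂˣ)
  have hone : Cfsg.classInner (fun m : M => (χ : G → ℂ) m) (fun _ => 1) ≠ 0 := by
    obtain ⟨j, hj⟩ := CfsgLib.Char.classInner_isCharacter_nat
      (CfsgLib.Char.isCharacter_comp hR (Subgroup.inclusion hMle))
      (CfsgLib.Char.irr_isCharacter htriv)
    rw [show (fun m : M => (χ : G → ℂ) m) = (fun _ : M => (1 : ℂ)) + (R ∘ Subgroup.inclusion hMle)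
      from funext fun m => by
        have h := congrFun hRe (Subgroup.inclusion hMle m)
        simp only [Pi.add_apply] at h ⊢
        rw [← hμM m]
        exact h, CfsgLib.Char.classInner_add_left, CfsgLib.Char.irr_classInner_self htriv, hj]
    exact_mod_cast (by omega : 1 + j ≠ 0)
  obtain ⟨g, hg⟩ := CfsgLib.Clifford.exists_conj_of_constituents χ.2 htriv θ.2 hone hover
  exact hθ1 (hg.symm.trans rfl)

end Cfsg.Agent.S4862
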