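import Cfsg.Statements.S4866
import Cfsg.Agent.Lib.BlockB.RealOrbits
-- import your own Cfsg.Agent.* helpers here

set_option autoImplicit false
open Cfsg

namespace Cfsg.Agent.S4866

/-- Let K be a normal subgroup of odd index in the finite group G. Then G has as many orbits on the real-valued irreducible complex characters of K (acting by conjugation) as it has orbits on the conjugacy classes of K that are real in K; equivalently, the number of G-orbits of real-valued irreducible characters of K equals the number of G-conjugacy classes of elements of K that are conjugate in K to their inverses. -/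
theorem result {G : Type*} [Group G] [Finite G] (K : Subgroup G) [K.Normal] (hodd : Odd K.index) : Nat.card (Quot (fun θ η : {θ : Cfsg.IrrCharacter ↥K // (∀ k : ↥K, ((θ : ↥K → ℂ) k).im = 0)} => ∃ g : G, ∀ k k' : ↥K, (k' : G) = g * (k : G) * g⁻¹ → (η.1 : ↥K → ℂ) k' = (θ.1 : ↥K → ℂ) k)) = Nat.card (Quot (fun x y : {x : ↥K // IsConj x x⁻¹} => ∃ g : G, (y.1 : G) = g * x.1 * g⁻¹)) := by
  classical
  have := Fintype.ofFinite G
  have : Finite (ConjClasses K) := Finite.of_surjective _ ConjClasses.mk_surjective
  rw [show Nat.card (Quot _) = Nat.card (MulAction.orbitRel.Quotient G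
    (CfsgLib.BlockB.RealOrbits.RealIrr K)) from ?_,
    CfsgLib.BlockB.RealOrbits.natCard_orbits_real K hodd]
  · -- the elements against the classes
    let f : {x : K // IsConj x x⁻¹} → CfsgLib.BlockB.RealOrbits.RealClass K := fun x =>
      ⟨ConjClasses.mk x.1, fun k hk => by
        have h1 : IsConj k x.1 := ConjClasses.mk_eq_mk_iff_isConj.1 hk
        obtain ⟨z, hz⟩ := isConj_iff.1 h1
        exact h1.trans (x.2.trans (isConj_iff.2 ⟨z, by rw [← conj_inv, hz]⟩).symm)⟩
    refine (Nat.card_congr (Equiv.ofBijective
      (Quot.lift (fun x => Quotient.mk (MulAction.orbitRel G _) (f x)) ?_) ⟨?_, ?_⟩)).symm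
    · rintro x y ⟨g, hg⟩
      refine (Quotient.sound ?_).symm
      refine ⟨g, Subtype.ext ?_⟩
      show (g • f x).1 = _
      rw [CfsgLib.BlockB.RealOrbits.smul_class_mk K g (f x) x.1 rfl]
      exact congrArg ConjClasses.mk (Subtype.ext (by rw [hg]; simp))
    · intro p q
      induction p using Quot.ind with
      | _ x =>
        induction q using Quot.ind with
        | _ y =>
          intro h
          obtain ⟨g, hg⟩ := Quotient.exact h
          have h1 := congrArg Subtype.val hg
          simp only [CfsgLib.BlockB.RealOrbits.smul_class_mk K g (f y) y.1 rfl] at h1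
          obtain ⟨z, hz⟩ := isConj_iff.1 (ConjClasses.mk_eq_mk_iff_isConj.1 h1)
          refine (Quot.sound ⟨(z : G) * g, ?_⟩).symm
          have h2 := congrArg Subtype.val hz
          simp only [Subgroup.coe_mul, InvMemClass.coe_inv, MulAut.conjNormal_apply] at h2
          rw [← h2]
          group
    · intro o
      induction o using Quotient.inductionOn with
      | _ C =>
        obtain ⟨c, hc⟩ := ConjClasses.mk_surjective C.1
        exact ⟨Quot.mk _ ⟨c, C.2 c hc⟩, congrArg (Quotient.mk _) (Subtype.ext hc)⟩
  · refine Nat.card_congr (Equiv.ofBijective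
      (Quot.lift (fun θ => Quotient.mk (MulAction.orbitRel G _) θ) ?_) ⟨?_, ?_⟩)
    · rintro θ η ⟨g, hg⟩
      refine Quotient.sound (a := θ) ⟨g⁻¹, Subtype.ext (Subtype.ext (funext fun k => ?_))⟩
      show (η.1 : K → ℂ) (CfsgLib.Clifford.conjN g⁻¹⁻¹ k) = (θ.1 : K → ℂ) k
      exact hg k _ (by simp)
    · intro p q
      induction p using Quot.ind with
      | _ θ =>
        induction q using Quot.ind with
        | _ η =>
          intro h
          obtain ⟨g, hg⟩ := Quotient.exact h
          refine (Quot.sound ⟨g, fun k k' hk => ?_⟩).symm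
          have h1 := congrArg (fun x : CfsgLib.BlockB.RealOrbits.RealIrr K => (x.1 : K → ℂ) k') hg
          refine h1.symm.trans ?_
          show (η.1 : K → ℂ) (CfsgLib.Clifford.conjN g⁻¹ k') = _
          exact congrArg (η.1 : K → ℂ) (Subtype.ext (by simp [hk, mul_assoc]))
    · exact fun o => Quotient.inductionOn o fun θ => ⟨Quot.mk _ θ, rfl⟩

end Cfsg.Agent.S4866
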