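import Cfsg.Statements.S4871
import Cfsg.Agent.Lib.StructB.TwoLinear
import Cfsg.Agent.Lib.Char.FS
import Cfsg.Agent.Lib.Char.Linear
import Cfsg.Agent.Lib.Char.CliffordApps
import Cfsg.Agent.Lib.Block.DefectOrder
-- import your own Cfsg.Agent.* helpers here

set_option autoImplicit false
open Cfsg

namespace Cfsg.Agent.S4871

/-- Let G be a finite group that is the semidirect product of a normal elementary abelian subgroup N of odd order by a non-trivial 2-subgroup P, with N the unique minimal normal subgroup of G. Consider the strongly real irreducible complex characters of G (Frobenius–Schur indicator +1) whose degree is 1 or even. Then their average degree is at least 4/3: four times their number is at most three times the sum of their degrees. -/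
theorem result {G : Type*} [Group G] [Finite G] (N P : Subgroup G) (hN : N.Normal) (q : ℕ) [Fact q.Prime] (hq : q ≠ 2) (hNel : Cfsg.IsElementaryAbelian q N) (hP : IsPGroup 2 ↥P) (hP1 : P ≠ ⊥) (hdisj : N ⊓ P = ⊥) (hprod : N ⊔ P = ⊤) (hmin : N ≠ ⊥ ∧ ∀ M : Subgroup G, M.Normal → M ≠ ⊥ → N ≤ M) : 4 * Nat.card {χ : Cfsg.IrrCharacter G // (Cfsg.charDegree (χ : G → ℂ) = 1 ∨ 2 ∣ Cfsg.charDegree (χ : G → ℂ)) ∧ (Nat.card G : ℂ)⁻¹ * ∑ᶠ g : G, (χ : G → ℂ) (g * g) = 1} ≤ 3 * (∑ᶠ χ : {χ : Cfsg.IrrCharacter G // (Cfsg.charDegree (χ : G → ℂ) = 1 ∨ 2 ∣ Cfsg.charDegree (χ : G → ℂ)) ∧ (Nat.card G : ℂ)⁻¹ * ∑ᶠ g : G, (χ : G → ℂ) (g * g) = 1}, Cfsg.charDegree (χ.1 : G → ℂ)) := by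
  classical
  have := hN
  have := Fintype.ofFinite G
  have : Fact (Nat.Prime 2) := ⟨Nat.prime_two⟩
  have hqp : q.Prime := Fact.out
  have hNc : ∀ a ∈ N, ∀ b ∈ N, a * b = b * a := fun a ha b hb =>
    congrArg Subtype.val (hNel.1.is_comm.comm (⟨a, ha⟩ : N) ⟨b, hb⟩)
  let : CommGroup N := { (inferInstance : Group N) with mul_comm := fun a b => hNel.1.is_comm.comm a b }
  have hNq : IsPGroup q N := fun x => ⟨1, by rw [pow_one]; exact Subtype.ext (hNel.2 x x.2)⟩
  have hNodd : Odd (Nat.card N) := by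
    obtain ⟨k, hk⟩ := IsPGroup.iff_card.1 hNq
    rw [hk]; exact (hqp.odd_of_ne_two hq).pow
  have hPN : ∀ g : G, ∃ n ∈ N, ∃ a ∈ P, g = n * a := fun g => by
    obtain ⟨n, hn, a, ha, h⟩ := Subgroup.mem_sup_of_normal_left.1 (hprod ▸ Subgroup.mem_top g)
    exact ⟨n, hn, a, ha, h.symm⟩
  -- a normal subgroup of `G` inside `P` is trivial
  have hnormP : ∀ M : Subgroup G, M ≤ P → M.Normal → M = ⊥ := fun M hMP hM => by
    by_contra hne
    exact hmin.1 (eq_bot_iff.2 (hdisj ▸ le_inf le_rfl ((hmin.2 M hM hne).trans hMP)))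
  let φ : P →* MulAut N := (MulAut.conjNormal : G →* MulAut N).comp P.subtype
  have hφinj : Function.Injective φ := by
    rw [← MonoidHom.ker_eq_bot_iff, eq_bot_iff]
    intro x hx
    have hnorm : ((φ.ker).map P.subtype).Normal := by
      refine ⟨fun y hy g => ?_⟩
      obtain ⟨y', hy', rfl⟩ := hy
      obtain ⟨n, hn, a, ha, rfl⟩ := hPN g
      have h1 : (⟨a, ha⟩ : P) * y' * (⟨a, ha⟩ : P)⁻¹ ∈ φ.ker :=
        (MonoidHom.normal_ker φ).conj_mem _ hy' _
      refine ⟨_, h1, ?_⟩
      show a * (y' : G) * a⁻¹ = n * a * (y' : G) * (n * a)⁻¹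
      have h2 := congrArg Subtype.val (DFunLike.congr_fun (MonoidHom.mem_ker.1 h1) ⟨n, hn⟩)
      change a * (y' : G) * a⁻¹ * n * (a * (y' : G) * a⁻¹)⁻¹ = n at h2
      rw [mul_inv_eq_iff_eq_mul] at h2
      rw [mul_inv_rev, show n * a * (y' : G) * (a⁻¹ * n⁻¹) = n * (a * (y' : G) * a⁻¹) * n⁻¹ by
        simp only [mul_assoc], ← h2, mul_inv_cancel_right]
    have h0 := hnormP _ (Subgroup.map_subtype_le _) hnorm
    rw [Subgroup.map_eq_bot_iff_of_injective _ P.subtype_injective] at h0
    exact h0 ▸ hx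
  -- a central involution of `P` inverting `N`
  have hPnt : Nontrivial P := P.nontrivial_iff_ne_bot.2 hP1
  have := hP.center_nontrivial
  obtain ⟨⟨z, hzc⟩, hzo⟩ := exists_prime_orderOf_dvd_card' (G := Subgroup.center P) 2 (by
    obtain ⟨k, hk⟩ := IsPGroup.iff_card.1 (hP.to_subgroup (Subgroup.center P))
    have h1 := Finite.one_lt_card (α := Subgroup.center P)
    rcases k with _ | k
    · rw [show Nat.card (Subgroup.center P) = 2 ^ 0 from hk, pow_zero] at h1
      exact absurd h1 (lt_irrefl 1)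
    · exact hk ▸ dvd_pow_self 2 k.succ_ne_zero)
  rw [← Subgroup.orderOf_coe] at hzo
  change orderOf z = 2 at hzo
  have hz2 : z * z = 1 := by rw [← sq, ← hzo, pow_orderOf_eq_one]
  have hzcomm : ∀ a : P, a * z = z * a := fun a => Subgroup.mem_center_iff.1 hzc a
  have hfix : ∀ v : N, φ z v = v → v = 1 := by
    let C : Subgroup G :=
      { carrier := {v | v ∈ N ∧ (z : G) * v = v * z}
        one_mem' := ⟨one_mem _, by simp⟩
        mul_mem' := fun {a b} ha hb => ⟨mul_mem ha.1 hb.1, by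
          rw [← mul_assoc, ha.2, mul_assoc, hb.2, mul_assoc]⟩
        inv_mem' := fun {a} ha => ⟨inv_mem ha.1, (Commute.inv_right ha.2 :)⟩ }
    have hCn : C.Normal := by
      refine ⟨fun v hv g => ?_⟩
      obtain ⟨n, hn, a, ha, rfl⟩ := hPN g
      have hav : a * v * a⁻¹ ∈ N := hN.conj_mem v hv.1 a
      have heq : n * a * v * (n * a)⁻¹ = a * v * a⁻¹ := by
        rw [mul_inv_rev, show n * a * v * (a⁻¹ * n⁻¹) = n * (a * v * a⁻¹) * n⁻¹ by
          simp only [mul_assoc], hNc n hn _ hav, mul_inv_cancel_right]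
      rw [heq]
      refine ⟨hav, ?_⟩
      have h1 : (z : G) * a = a * z := (congrArg Subtype.val (hzcomm ⟨a, ha⟩)).symm
      have h3 : Commute (z : G) a := h1
      exact ((h3.mul_right hv.2).mul_right h3.inv_right :)
    intro v hv
    have hvC : (v : G) ∈ C := ⟨v.2, mul_inv_eq_iff_eq_mul.1 (congrArg Subtype.val hv)⟩
    by_contra hv1
    have hle := hmin.2 C hCn fun h => hv1 (Subtype.ext (Subgroup.mem_bot.1 (h ▸ hvC)))
    have h1 : φ z = 1 := MulEquiv.ext fun w => Subtype.ext (mul_inv_eq_iff_eq_mul.2 (hle w.2).2)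
    have h2 := hφinj (h1.trans (map_one φ).symm)
    rw [h2, orderOf_one] at hzo
    exact absurd hzo (by norm_num)
  have hinv : ∀ v : N, φ z v = v⁻¹ := fun v => by
    refine eq_inv_of_mul_eq_one_right (hfix _ ?_)
    rw [map_mul, ← MulAut.mul_apply, ← map_mul, hz2, map_one, MulAut.one_apply, mul_comm]
  -- involution count
  have hI : Nat.card N + 1 ≤ Nat.card {s : G // s * s = 1} := by
    have hf : ∀ v : N, ((v : G) * z) * ((v : G) * z) = 1 := fun v => by
      have h1 : (z : G) * v * (z : G)⁻¹ = (v : G)⁻¹ := congrArg Subtype.val (hinv v)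
      have h2 : (z : G) * (z : G) = 1 := congrArg Subtype.val hz2
      rw [show (z : G)⁻¹ = z from inv_eq_of_mul_eq_one_right h2] at h1
      rw [show (v : G) * z * ((v : G) * z) = (v : G) * ((z : G) * v * z) by simp only [mul_assoc],
        h1, mul_inv_cancel]
    let f : Option N → {s : G // s * s = 1} := fun o =>
      o.elim ⟨1, mul_one 1⟩ fun v => ⟨(v : G) * z, hf v⟩
    have hinj : Function.Injective f := by
      have hne : ∀ v : N, (v : G) * z ≠ 1 := fun v h => by
        have hzN : (z : G) ∈ N ⊓ P :=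
          ⟨show (z : G) ∈ N by rw [eq_inv_of_mul_eq_one_right h]; exact inv_mem v.2, z.2⟩
        rw [hdisj, Subgroup.mem_bot] at hzN
        rw [show z = 1 from Subtype.ext hzN, orderOf_one] at hzo
        exact absurd hzo (by norm_num)
      rintro (_ | a) (_ | b) h <;> simp only [f, Option.elim] at h
      · rfl
      · exact absurd (congrArg Subtype.val h).symm (hne b)
      · exact absurd (congrArg Subtype.val h) (hne a)
      · exact congrArg _ (Subtype.ext (mul_right_cancel (congrArg Subtype.val h)))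
    have h := Nat.card_le_card_of_injective f hinj
    rwa [Finite.card_option] at h
  -- generators
  obtain ⟨d, hgen, hbound⟩ := CfsgLib.TwoLinear.gen_bound (Nat.card N) N φ.range
    (hP.of_surjective _ φ.rangeRestrict_surjective) rfl hNodd
  obtain ⟨T, hT, hTtop⟩ := hgen.of_surjective (MonoidHom.ofInjective hφinj).symm.toMonoidHom
    (MonoidHom.ofInjective hφinj).symm.surjective
  have hd0 : d ≠ 0 := by
    rintro rfl
    rw [Finset.card_eq_zero.1 (Nat.le_zero.1 hT), Finset.coe_empty, Subgroup.closure_empty] at hTtop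
    exact (bot_ne_top (α := Subgroup P)) hTtop
  have hd : 2 * 2 ^ d ≤ Nat.card N + 1 := by
    rcases hbound with h | h | ⟨h3, h1⟩
    · exact absurd h hd0
    · rw [pow_succ] at h; omega
    · rw [h3]
      calc 2 * 2 ^ d ≤ 2 * 2 ^ 1 := Nat.mul_le_mul_left 2 (Nat.pow_le_pow_right two_pos h1)
        _ = 3 + 1 := by norm_num
  -- the characters
  set S := {χ : Cfsg.IrrCharacter G // (Cfsg.charDegree (χ : G → ℂ) = 1 ∨
    2 ∣ Cfsg.charDegree (χ : G → ℂ)) ∧ (Nat.card G : ℂ)⁻¹ * ∑ᶠ g : G, (χ : G → ℂ) (g * g) = 1}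
    with hS
  have := Fintype.ofFinite (Cfsg.IrrCharacter G)
  have : Fintype S := Fintype.ofFinite S
  have hdeg : ∀ χ : Cfsg.IrrCharacter G, Cfsg.charDegree (χ : G → ℂ) = 1 ∨
      2 ∣ Cfsg.charDegree (χ : G → ℂ) := by
    intro χ
    obtain ⟨n, ρ, hρ, hρc⟩ := χ.2
    have h := CfsgLib.Char.ito_degree_dvd_index ρ N hNc
    have h2 : Cfsg.charDegree (χ : G → ℂ) = Module.finrank ℂ (Fin n → ℂ) := by
      have h3 := CfsgLib.Block.charDegree_cast (CfsgLib.Char.irr_isCharacter χ.2)
      rw [show (χ : G → ℂ) 1 = (Module.finrank ℂ (Fin n → ℂ) : ℂ) by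
        rw [← hρc, Representation.char_one]] at h3
      exact_mod_cast h3
    obtain ⟨k, hk⟩ := IsPGroup.iff_card.1 hP
    have hidx : N.index = 2 ^ k := by
      rw [← hk, (Subgroup.isComplement'_of_disjoint_and_mul_eq_univ (disjoint_iff.2 hdisj)
        (Set.eq_univ_of_forall fun g => by
          obtain ⟨n, hn, a, ha, rfl⟩ := hPN g
          exact Set.mul_mem_mul hn ha)).symm.index_eq_card]
    rw [← h2, hidx] at h
    obtain ⟨j, -, hj⟩ := (Nat.dvd_prime_pow Nat.prime_two).1 h
    rcases Nat.eq_zero_or_pos j with rfl | hj0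
    · exact Or.inl (by rw [hj, pow_zero])
    · exact Or.inr (hj ▸ dvd_pow_self 2 hj0.ne')
  let L := Finset.univ.filter fun χ : S => Cfsg.charDegree (χ.1 : G → ℂ) = 1
  let E := Finset.univ.filter fun χ : S => ¬ Cfsg.charDegree (χ.1 : G → ℂ) = 1
  -- few real linear characters
  have hL : L.card ≤ 2 ^ d := by
    have hlin : ∀ χ : L, ∃ lam : G →* ℂˣ, ((χ.1 : S).1 : G → ℂ) = fun g => (lam g : ℂ) := fun χ =>
      CfsgLib.Char.exists_hom_of_degree_one (CfsgLib.Char.irr_isCharacter χ.1.1.2) (by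
        rw [← CfsgLib.Block.charDegree_cast (CfsgLib.Char.irr_isCharacter χ.1.1.2),
          (Finset.mem_filter.1 χ.2).2, Nat.cast_one])
    choose lam hlam using hlin
    have hsq : ∀ (χ : L) (g : G), (lam χ g : ℂ) * lam χ g = 1 := by
      intro χ g
      have h := χ.1.2.2
      rw [finsum_eq_sum_of_fintype, hlam χ] at h
      obtain ⟨n, ρ, hρ, hρc⟩ := (CfsgLib.Char.isIrrCharacter_linear (lam χ))
      have hfs := (CfsgLib.Char.fs_indicator ρ).2
      rw [hρc] at hfs
      have him : ((lam χ g : ℂˣ) : ℂ).im = 0 := by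
        by_contra hne
        rw [hfs.2 ⟨g, hne⟩] at h
        exact zero_ne_one h
      have hn : ‖((lam χ g : ℂˣ) : ℂ)‖ = 1 := CfsgLib.Char.norm_eigen_eq_one (orderOf_pos g) (by
        rw [← Units.val_pow_eq_pow_val, ← map_pow, pow_orderOf_eq_one, map_one, Units.val_one])
      have h2 := Complex.mul_conj' ((lam χ g : ℂˣ) : ℂ)
      rw [Complex.conj_eq_iff_im.2 him, hn] at h2
      simpa using h2
    let Φ : L → (T → Bool) := fun χ t => decide ((lam χ ((t : P) : G) : ℂ) = 1)
    have hΦ : Function.Injective Φ := by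
      intro a b hab
      have hT' : ∀ t : T, lam a ((t : P) : G) = lam b ((t : P) : G) := fun t => by
        have h := congrFun hab t
        simp only [Φ, decide_eq_decide] at h
        refine Units.ext ?_
        rcases mul_self_eq_one_iff.1 (hsq a ((t : P) : G)) with h1 | h1 <;>
          rcases mul_self_eq_one_iff.1 (hsq b ((t : P) : G)) with h2 | h2 <;>
          rw [h1, h2] at h <;> simp_all
      have hP' : ∀ x : P, lam a (x : G) = lam b (x : G) := by
        have h := MonoidHom.eqOn_closure (f := (lam a).comp P.subtype) (g := (lam b).comp P.subtype)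
          (s := (T : Set P)) fun t ht => hT' ⟨t, ht⟩
        intro x
        exact h (hTtop ▸ Subgroup.mem_top x)
      have hN1 : ∀ (χ : L) (v : G), v ∈ N → lam χ v = 1 := fun χ v hv => by
        refine Units.ext ?_
        rw [Units.val_one]
        rcases mul_self_eq_one_iff.1 (hsq χ v) with h | h
        · exact h
        · exfalso
          have h2 : ((lam χ v : ℂˣ) : ℂ) ^ q = 1 := by
            rw [← Units.val_pow_eq_pow_val, ← map_pow, hNel.2 v hv, map_one, Units.val_one]
          rw [h, (hqp.odd_of_ne_two hq).neg_one_pow] at h2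
          norm_num at h2
      refine Subtype.ext (Subtype.ext (Subtype.ext ?_))
      rw [hlam a, hlam b]
      funext g
      obtain ⟨n, hn, x, hx, rfl⟩ := hPN g
      rw [map_mul, map_mul, hN1 a n hn, hN1 b n hn, hP' ⟨x, hx⟩]
    have h := Nat.card_le_card_of_injective Φ hΦ
    rw [Nat.card_fun, Nat.card_eq_fintype_card (α := Bool), Fintype.card_bool,
      Nat.card_eq_finsetCard, Nat.card_eq_finsetCard] at h
    exact h.trans (Nat.pow_le_pow_right two_pos hT)
  -- the sum
  have hcount := CfsgLib.Char.involution_count (G := G)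
  have hle : Nat.card {s : G // s * s = 1} ≤ ∑ χ : S, Cfsg.charDegree (χ.1 : G → ℂ) := by
    have hb : ∀ χ : Cfsg.IrrCharacter G,
        (((Nat.card G : ℂ)⁻¹ * ∑ s : G, (χ : G → ℂ) (s * s)) * (χ : G → ℂ) 1).re ≤
        if (Nat.card G : ℂ)⁻¹ * ∑ s : G, (χ : G → ℂ) (s * s) = 1
          then (Cfsg.charDegree (χ : G → ℂ) : ℝ) else 0 := by
      intro χ
      obtain ⟨n, ρ, hρ, hρc⟩ := χ.2
      rw [← CfsgLib.Block.charDegree_cast (CfsgLib.Char.irr_isCharacter χ.2)]
      have h3 := (CfsgLib.Char.fs_indicator ρ).1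
      rw [hρc] at h3
      rcases h3 with h | h | h <;> rw [h]
      · simp
      · simp
      · norm_num
    have h1 := congrArg Complex.re hcount
    rw [Complex.natCast_re, Complex.re_sum] at h1
    have h2 : (Nat.card {s : G // s * s = 1} : ℝ) ≤
        ∑ χ : S, (Cfsg.charDegree (χ.1 : G → ℂ) : ℝ) := by
      rw [h1]
      refine (Finset.sum_le_sum fun χ _ => hb χ).trans (le_of_eq ?_)
      rw [← Finset.sum_filter]
      refine Finset.sum_subtype _ (fun χ => ?_) _
      simp only [Finset.mem_filter, Finset.mem_univ, true_and, finsum_eq_sum_of_fintype]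
      exact ⟨fun h => ⟨hdeg χ, h⟩, fun h => h.2⟩
    exact_mod_cast h2
  rw [finsum_eq_sum_of_fintype, Nat.card_eq_fintype_card, ← Finset.card_univ,
    ← Finset.card_filter_add_card_filter_not (s := (Finset.univ : Finset S))
      (fun χ => Cfsg.charDegree (χ.1 : G → ℂ) = 1),
    ← Finset.sum_filter_add_sum_filter_not Finset.univ
      (fun χ : S => Cfsg.charDegree (χ.1 : G → ℂ) = 1)]
  have hEsum : 2 * E.card ≤ ∑ χ ∈ E, Cfsg.charDegree (χ.1 : G → ℂ) := by
    rw [mul_comm, ← smul_eq_mul]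
    refine Finset.card_nsmul_le_sum _ _ _ fun χ hχ => ?_
    have h1 := (Finset.mem_filter.1 hχ).2
    rcases χ.2.1 with h | h
    · exact absurd h h1
    · refine Nat.le_of_dvd (Nat.pos_of_ne_zero fun h0 => ?_) h
      have h4 := CfsgLib.Block.charDegree_cast (CfsgLib.Char.irr_isCharacter χ.1.2)
      rw [h0, Nat.cast_zero] at h4
      exact CfsgLib.Char.irr_apply_one_ne_zero χ.1.2 h4.symm
  have hLsum : ∑ χ ∈ L, Cfsg.charDegree (χ.1 : G → ℂ) = L.card := by
    rw [Finset.sum_congr rfl fun χ hχ => (Finset.mem_filter.1 hχ).2, Finset.card_eq_sum_ones]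
  rw [← Finset.sum_filter_add_sum_filter_not Finset.univ
    (fun χ : S => Cfsg.charDegree (χ.1 : G → ℂ) = 1)] at hle
  change Nat.card {s : G // s * s = 1} ≤ ∑ χ ∈ L, _ + ∑ χ ∈ E, _ at hle
  change 4 * (L.card + E.card) ≤ 3 * (∑ χ ∈ L, _ + ∑ χ ∈ E, _)
  omega

end Cfsg.Agent.S4871
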