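import Cfsg.Statements.S4872
import Cfsg.Agent.Lib.BlockB.SylowOddMult
import Cfsg.Agent.Lib.BlockB.DefectZero
import Cfsg.Agent.Lib.Clifford.Degree
import Cfsg.Agent.Lib.Block.DefectOrder
-- import your own Cfsg.Agent.* helpers here

set_option autoImplicit false
open Cfsg

namespace Cfsg.Agent.S4872

/-- Let N be a normal subgroup of the finite group G with G/N a 2-group, and let φ be an irreducible complex character of N of 2-defect zero (the 2-part of #N divides φ(1)) whose complex conjugate is G-conjugate to φ. Then some irreducible character of G with Frobenius–Schur indicator +1 contains φ with multiplicity exactly one on restriction to N. -/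
theorem result {G : Type*} [Group G] [Finite G] (N : Subgroup G) [N.Normal] (h2 : IsPGroup 2 (G ⧸ N)) (φ : Cfsg.IrrCharacter ↥N) (hdef : 2 ^ (Nat.card ↥N).factorization 2 ∣ Cfsg.charDegree (φ : ↥N → ℂ)) (hconj : ∃ g : G, ∀ n n' : ↥N, (n' : G) = g * (n : G) * g⁻¹ → (φ : ↥N → ℂ) n' = (starRingEnd ℂ) ((φ : ↥N → ℂ) n)) : ∃ χ : Cfsg.IrrCharacter G, (Nat.card G : ℂ)⁻¹ * ∑ᶠ g : G, (χ : G → ℂ) (g * g) = 1 ∧ (Nat.card ↥N : ℂ)⁻¹ * ∑ᶠ n : ↥N, (χ : G → ℂ) n * (starRingEnd ℂ) ((φ : ↥N → ℂ) n) = 1 := by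
  classical
  have := Fintype.ofFinite G
  have := Fintype.ofFinite N
  have := Fintype.ofFinite (Cfsg.IrrCharacter G)
  have : Fact (Nat.Prime 2) := ⟨Nat.prime_two⟩
  let P : Sylow 2 G := default
  have := Fintype.ofFinite (P : Subgroup G)
  let I : G → ℂ := Cfsg.indFun N (φ : N → ℂ)
  have hIchar : Cfsg.IsCharacter G I :=
    CfsgLib.Char.isCharacter_indFun N (CfsgLib.Char.irr_isCharacter φ.2)
  -- vanishing on the Sylow 2-subgroup
  have hvan : ∀ h ∈ (P : Subgroup G), h ≠ 1 → I h = 0 := by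
    intro h hh h1
    show Cfsg.indFun N (φ : N → ℂ) h = 0
    rw [CfsgLib.Char.indFun_def, Finset.sum_eq_zero, mul_zero]
    intro x _
    by_cases hx : x⁻¹ * h * x ∈ N
    · rw [CfsgLib.Char.extendByZero_of_mem _ hx]
      refine CfsgLib.BlockB.irr_apply_eq_zero_of_defect_zero φ hdef ?_
      rw [← Subgroup.orderOf_coe]
      have ho : orderOf (x⁻¹ * h * x) = orderOf h := by
        refine SemiconjBy.orderOf_eq (y := h) x ?_
        show x * (x⁻¹ * h * x) = h * x
        group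
      rw [show orderOf ((⟨x⁻¹ * h * x, hx⟩ : N) : G) = orderOf h from ho]
      obtain ⟨k, hk⟩ := IsPGroup.iff_orderOf.1 P.2 ⟨h, hh⟩
      rw [← Subgroup.orderOf_coe] at hk
      rw [show orderOf h = 2 ^ k from hk]
      refine dvd_pow_self 2 fun hk0 => h1 (orderOf_eq_one_iff.1 ?_)
      rw [show orderOf h = 2 ^ k from hk, hk0, pow_zero]
    · rw [CfsgLib.Char.extendByZero_of_not_mem _ hx]
  -- I is real
  have hIreal : ∀ g : G, (starRingEnd ℂ) (I g) = I g := by
    obtain ⟨g0, hg0⟩ := hconj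
    intro g
    show (starRingEnd ℂ) (Cfsg.indFun N (φ : N → ℂ) g) = Cfsg.indFun N (φ : N → ℂ) g
    rw [CfsgLib.Char.indFun_def, map_mul, map_inv₀, Complex.conj_natCast, map_sum]
    congr 1
    refine Fintype.sum_equiv (Equiv.mulRight g0⁻¹) _ _ fun x => ?_
    have he : (x * g0⁻¹)⁻¹ * g * (x * g0⁻¹) = g0 * (x⁻¹ * g * x) * g0⁻¹ := by group
    simp only [Equiv.coe_mulRight]
    rw [he]
    by_cases hx : x⁻¹ * g * x ∈ N
    · have hx' : g0 * (x⁻¹ * g * x) * g0⁻¹ ∈ N := (inferInstance : N.Normal).conj_mem _ hx g0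
      rw [CfsgLib.Char.extendByZero_of_mem _ hx, CfsgLib.Char.extendByZero_of_mem _ hx']
      exact (hg0 ⟨_, hx⟩ ⟨_, hx'⟩ rfl).symm
    · rw [CfsgLib.Char.extendByZero_of_not_mem _ hx, map_zero,
        CfsgLib.Char.extendByZero_of_not_mem _ fun hx' => hx ?_]
      have h := (inferInstance : N.Normal).conj_mem _ hx' g0⁻¹
      rwa [show g0⁻¹ * (g0 * (x⁻¹ * g * x) * g0⁻¹) * g0⁻¹⁻¹ = x⁻¹ * g * x by group] at h
  -- the multiplicities
  have hm : ∀ χ : Cfsg.IrrCharacter G, ∃ m : ℕ,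
      Cfsg.classInner I (χ : G → ℂ) = m ∧
      Cfsg.classInner (fun n : N => (χ : G → ℂ) n) (φ : N → ℂ) = m := by
    intro χ
    obtain ⟨m, hm⟩ := CfsgLib.Char.classInner_isCharacter_nat
      (CfsgLib.Char.isCharacter_restrict (CfsgLib.Char.irr_isCharacter χ.2) N)
      (CfsgLib.Char.irr_isCharacter φ.2)
    refine ⟨m, ?_, hm⟩
    rw [CfsgLib.Char.frobenius_reciprocity N _ _ (CfsgLib.Char.irr_isClassFunction χ.2),
      ← CfsgLib.Char.classInner_conj_symm, hm, Complex.conj_natCast]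
  choose m hmI hmN using hm
  have hn : ∀ χ : Cfsg.IrrCharacter G, ∃ k : ℕ,
      Cfsg.classInner (fun h : (P : Subgroup G) => (χ : G → ℂ) h) (fun _ => 1) = k := fun χ =>
    CfsgLib.Char.classInner_isCharacter_nat
      (CfsgLib.Char.isCharacter_restrict (CfsgLib.Char.irr_isCharacter χ.2) _)
      CfsgLib.Char.isCharacter_one
  choose k hk using hn
  -- the odd number
  set a := (Nat.card N).factorization 2 with hadef
  obtain ⟨d, hd⟩ := hdef
  obtain ⟨nφ, ρ, hρ, hρφ⟩ := φ.2
  have hddvd : Cfsg.charDegree (φ : N → ℂ) ∣ Nat.card N := by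
    have h1 := @CfsgLib.Char.degree_dvd_card _ _ _ _ _ _ _ ρ hρ
    have h2 : (Cfsg.charDegree (φ : N → ℂ) : ℂ) = (φ : N → ℂ) 1 :=
      CfsgLib.Block.charDegree_cast (CfsgLib.Char.irr_isCharacter φ.2)
    rw [← hρφ, Representation.char_one] at h2
    have h3 : Cfsg.charDegree ρ.character = Module.finrank ℂ (Fin nφ → ℂ) := by exact_mod_cast h2
    rw [← hρφ, h3]; exact h1
  have hdodd : Odd d := by
    rw [← Nat.not_even_iff_odd, even_iff_two_dvd]
    intro h2d
    have h3 : 2 ^ (a + 1) ∣ Nat.card N := by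
      rw [pow_succ]
      exact (mul_dvd_mul_left _ h2d).trans (hd ▸ hddvd)
    have := (Nat.prime_two.pow_dvd_iff_le_factorization Nat.card_pos.ne').1 h3
    omega
  obtain ⟨b, hb⟩ : ∃ b, N.index = 2 ^ b := by
    obtain ⟨b, hb⟩ := IsPGroup.iff_card.1 h2
    exact ⟨b, by rw [Subgroup.index_eq_card, hb]⟩
  have hP : Nat.card (P : Subgroup G) = 2 ^ b * 2 ^ a := by
    rw [P.card_eq_multiplicity, ← pow_add]
    congr 1
    have h := Subgroup.card_eq_card_quotient_mul_card_subgroup N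
    rw [← Subgroup.index_eq_card, hb] at h
    rw [h, Nat.factorization_mul (pow_ne_zero _ two_ne_zero) Nat.card_pos.ne',
      Nat.prime_two.factorization_pow, hadef]
    simp
  have hA : Cfsg.classInner (fun h : (P : Subgroup G) => I h) (fun _ => 1) = d := by
    rw [CfsgLib.Char.classInner_def]
    simp only [map_one, mul_one]
    rw [Finset.sum_eq_single (1 : (P : Subgroup G))
      (fun h _ h1 => hvan h h.2 fun e => h1 (Subtype.ext e)) (by simp), OneMemClass.coe_one]
    show (Nat.card (P : Subgroup G) : ℂ)⁻¹ * Cfsg.indFun N (φ : N → ℂ) 1 = d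
    rw [CfsgLib.Char.indFun_apply_one, hb, hP, ← CfsgLib.Block.charDegree_cast
      (CfsgLib.Char.irr_isCharacter φ.2), hd]
    push_cast
    field_simp
  have hsum : d = ∑ χ : Cfsg.IrrCharacter G, m χ * k χ := by
    have h := CfsgLib.Char.classFunction_eq_sum (ψ := I)
      (CfsgLib.Char.isCharacter_isClassFunction hIchar)
    have h2 : Cfsg.classInner (fun h : (P : Subgroup G) => I h) (fun _ => 1) =
        ∑ χ : Cfsg.IrrCharacter G, (m χ : ℂ) * k χ := by
      simp only [← hk, CfsgLib.Char.classInner_def, map_one, mul_one]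
      rw [Finset.sum_congr rfl (g := fun h : (P : Subgroup G) =>
        ∑ χ : Cfsg.IrrCharacter G, (m χ : ℂ) * (χ : G → ℂ) h) (fun x _ => by
          conv_lhs => rw [h]
          simp [Finset.sum_apply, hmI]), Finset.sum_comm, Finset.mul_sum]
      refine Finset.sum_congr rfl fun χ _ => ?_
      rw [← Finset.mul_sum]
      ring
    rw [hA] at h2
    exact_mod_cast h2
  -- a real constituent with both multiplicities odd
  let cj : Cfsg.IrrCharacter G → Cfsg.IrrCharacter G := fun χ =>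
    ⟨_, CfsgLib.Char.isIrrCharacter_conj χ.2⟩
  have hmc : ∀ χ, m (cj χ) = m χ := by
    intro χ
    have h : Cfsg.classInner I (cj χ : G → ℂ) =
        (starRingEnd ℂ) (Cfsg.classInner I (χ : G → ℂ)) := by
      simp only [CfsgLib.Char.classInner_def, map_mul, map_inv₀, Complex.conj_natCast, map_sum, cj,
        hIreal]
    rw [hmI, hmI, Complex.conj_natCast] at h
    exact_mod_cast h
  have hkc : ∀ χ, k (cj χ) = k χ := by
    intro χ
    have h : Cfsg.classInner (fun h : (P : Subgroup G) => (cj χ : G → ℂ) h) (fun _ => 1) =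
        (starRingEnd ℂ) (Cfsg.classInner (fun h : (P : Subgroup G) => (χ : G → ℂ) h)
          (fun _ => 1)) := by
      simp only [CfsgLib.Char.classInner_def, map_mul, map_inv₀, Complex.conj_natCast, map_sum, cj,
        map_one]
    rw [hk, hk, Complex.conj_natCast] at h
    exact_mod_cast h
  obtain ⟨χ, hχreal, hχodd⟩ : ∃ χ, cj χ = χ ∧ Odd (m χ * k χ) := by
    by_contra hno
    have h0 : ((∑ χ : Cfsg.IrrCharacter G, m χ * k χ : ℕ) : ZMod 2) = 0 := by
      rw [Nat.cast_sum]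
      refine Finset.sum_involution (fun χ _ => cj χ) (fun χ _ => ?_) (fun χ _ hne he => ?_)
        (fun χ _ => Finset.mem_univ _) (fun χ _ => Subtype.ext (funext fun g => by simp [cj]))
      · rw [hmc, hkc, ← two_mul, show (2 : ZMod 2) = 0 from rfl, zero_mul]
      · refine hne ((ZMod.natCast_eq_zero_iff_even).2 (Nat.not_odd_iff_even.1 fun ho => ?_))
        exact hno ⟨χ, he, ho⟩
    rw [← hsum, ZMod.natCast_eq_zero_iff_even] at h0
    exact Nat.not_even_iff_odd.2 hdodd h0
  obtain ⟨hmodd, hkodd⟩ := Nat.odd_mul.1 hχodd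
  have hre : ∀ g, ((χ : G → ℂ) g).im = 0 := fun g =>
    Complex.conj_eq_iff_im.1 (congrFun (congrArg Subtype.val hχreal) g)
  have hν := CfsgLib.BlockB.SylowOddMult.indicator_eq_one χ.2 hre (P : Subgroup G) (k χ) hkodd (hk χ)
  have hne : Cfsg.classInner (fun n : N => (χ : G → ℂ) n) (φ : N → ℂ) ≠ 0 := by
    rw [hmN]; exact_mod_cast hmodd.pos.ne'
  have hm1 : m χ = 1 := by
    obtain ⟨e, he, hedvd⟩ := CfsgLib.Clifford.degree_quot_dvd_index χ.2 φ.2 hne
    let T := CfsgLib.Clifford.inertia (φ : N → ℂ)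
    have hNT : N ≤ T := CfsgLib.Clifford.le_inertia (CfsgLib.Char.irr_isClassFunction φ.2)
    have := Fintype.ofFinite T
    obtain ⟨ψ, hψ, hind, hmult⟩ := CfsgLib.Clifford.exists_indFun_inertia T hNT φ.2
      (fun g => CfsgLib.Clifford.mem_inertia_iff_conjFn) χ.2 hne
    have hres := CfsgLib.Clifford.restrict_eq_smul_inertia T hNT φ.2
      (fun g => CfsgLib.Clifford.mem_inertia_iff_conjFn) hψ (by rw [hmult]; exact hne)
    have h1 := congrFun hres 1
    rw [hmult, hmN, Pi.smul_apply, smul_eq_mul] at h1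
    have h2 : (χ : G → ℂ) 1 = (T.index : ℂ) * ((m χ : ℂ) * (φ : N → ℂ) 1) := by
      rw [← hind, CfsgLib.Char.indFun_apply_one, ← h1]
      rfl
    rw [he] at h2
    have h3 : (e : ℂ) = ((T.index * m χ : ℕ) : ℂ) := by
      refine mul_right_cancel₀ (CfsgLib.Char.irr_apply_one_ne_zero φ.2) ?_
      rw [h2]; push_cast; ring
    have h4 : e = T.index * m χ := by exact_mod_cast h3
    rw [hb] at hedvd
    have h5 : m χ ∣ 2 ^ b := (h4 ▸ Dvd.intro_left _ rfl : m χ ∣ e).trans hedvd
    exact Nat.eq_one_of_dvd_coprimes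
      ((Nat.coprime_two_right.2 hmodd).pow_right b) (dvd_refl _) h5
  refine ⟨χ, ?_, ?_⟩
  · rw [finsum_eq_sum_of_fintype]; exact hν
  · rw [finsum_eq_sum_of_fintype, ← CfsgLib.Char.classInner_def, hmN, hm1, Nat.cast_one]

end Cfsg.Agent.S4872
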