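import Cfsg.Statements.S4873
import Cfsg.Agent.Lib.BlockB.RealAbove
-- import your own Cfsg.Agent.* helpers here

set_option autoImplicit false
open Cfsg

namespace Cfsg.Agent.S4873

/-- Let N be a normal subgroup of odd index in the finite group G. Then every irreducible complex character of N with Frobenius–Schur indicator +1 lies under exactly one irreducible character of G with Frobenius–Schur indicator +1. -/
theorem result {G : Type*} [Group G] [Finite G] (N : Subgroup G) [N.Normal] (hodd : Odd N.index) (φ : Cfsg.IrrCharacter ↥N) (hφ : (Nat.card ↥N : ℂ)⁻¹ * ∑ᶠ g : ↥N, (φ : ↥N → ℂ) (g * g) = 1) : ∃! χ : Cfsg.IrrCharacter G, (Nat.card G : ℂ)⁻¹ * ∑ᶠ g : G, (χ : G → ℂ) (g * g) = 1 ∧ (∑ᶠ n : ↥N, (χ : G → ℂ) n * (starRingEnd ℂ) ((φ : ↥N → ℂ) n)) ≠ 0 := by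
  classical
  have := Fintype.ofFinite G
  have := Fintype.ofFinite N
  have := Fintype.ofFinite (Cfsg.IrrCharacter G)
  simp only [finsum_eq_sum_of_fintype] at hφ ⊢
  have hin : ∀ χ : Cfsg.IrrCharacter G,
      (∑ n : N, (χ : G → ℂ) n * (starRingEnd ℂ) ((φ : N → ℂ) n)) ≠ 0 ↔
        Cfsg.classInner (fun n : N => (χ : G → ℂ) n) (φ : N → ℂ) ≠ 0 := fun χ => by
    rw [CfsgLib.Char.classInner_def, ne_eq, ne_eq, mul_eq_zero, not_or]
    exact ⟨fun h => ⟨inv_ne_zero (Nat.cast_ne_zero.2 Nat.card_pos.ne'), h⟩, fun h => h.2⟩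
  have hfs : ∀ (H : Type _) [Group H] [Fintype H] (χ : H → ℂ), Cfsg.IsIrrCharacter H χ →
      ((Nat.card H : ℂ)⁻¹ * ∑ s : H, χ (s * s) = 0 ∨
        (Nat.card H : ℂ)⁻¹ * ∑ s : H, χ (s * s) = 1 ∨
        (Nat.card H : ℂ)⁻¹ * ∑ s : H, χ (s * s) = -1) ∧
      ((Nat.card H : ℂ)⁻¹ * ∑ s : H, χ (s * s) = 0 ↔ ∃ s : H, (χ s).im ≠ 0) := by
    rintro H _ _ χ ⟨m, ρ, hρ, rfl⟩
    exact CfsgLib.Char.fs_indicator ρ
  have hreal : ∀ (χ : Cfsg.IrrCharacter G),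
      (Nat.card G : ℂ)⁻¹ * ∑ s : G, (χ : G → ℂ) (s * s) = 1 → ∀ g, ((χ : G → ℂ) g).im = 0 := by
    intro χ h g
    by_contra hg
    rw [((hfs G _ χ.2).2).2 ⟨g, hg⟩] at h
    exact zero_ne_one h
  have hφr : ∀ k : N, ((φ : N → ℂ) k).im = 0 := by
    intro k
    by_contra hk
    rw [((hfs N _ φ.2).2).2 ⟨k, hk⟩] at hφ
    exact zero_ne_one hφ
  obtain ⟨χ, ⟨hr, hne⟩, huniq⟩ :=
    CfsgLib.BlockB.RealAbove.existsUnique_real_over N hodd ⟨φ, hφr⟩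
  refine ⟨χ, ⟨?_, (hin χ).2 hne⟩, fun ψ hψ => huniq ψ ⟨hreal ψ hψ.1, (hin ψ).1 hψ.2⟩⟩
  obtain ⟨e, he⟩ := CfsgLib.Char.classInner_isCharacter_nat
    (CfsgLib.Char.isCharacter_restrict (CfsgLib.Char.irr_isCharacter χ.2) N)
    (CfsgLib.Char.irr_isCharacter φ.2)
  have hsum := CfsgLib.BlockB.RealAbove.sum_fs_mul_inner N hodd φ.2
  rw [hφ, Finset.sum_eq_single χ (fun ψ _ hψ => ?_) (fun h => absurd (Finset.mem_univ _) h), he]
    at hsum
  · rcases (hfs G _ χ.2).1 with h | h | h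
    · rw [h, zero_mul] at hsum; exact absurd hsum zero_ne_one
    · exact h
    · rw [h] at hsum
      have h2 : ((e + 1 : ℕ) : ℂ) = 0 := by push_cast; linear_combination -hsum
      exact absurd (Nat.cast_eq_zero.1 h2) (Nat.succ_ne_zero e)
  · rw [mul_eq_zero]
    by_contra h
    push Not at h
    refine hψ (huniq ψ ⟨fun g => ?_, h.2⟩)
    by_contra hg
    exact h.1 (((hfs G _ ψ.2).2).2 ⟨g, hg⟩)

end Cfsg.Agent.S4873
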