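import Cfsg.Statements.S4888
import Cfsg.Agent.Lib.BlockB.PrincipalKer
import Cfsg.Agent.Lib.BlockB.Codegree
import Cfsg.Agent.Lib.Transfer.Tate
import Cfsg.Agent.Lib.Solvable.Frattini2

set_option autoImplicit false
open Cfsg

namespace Cfsg.Agent.S4888

/-- Let G be a finite group, p a prime and M a maximal ideal of the algebraic integers containing p. Then all height-zero irreducible characters of the principal p-block of G (equivalently, all its characters of degree prime to p) have the same degree if and only if G has a normal p-complement. -/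
theorem result {G : Type*} [Group G] [Finite G] (p : ℕ) [Fact p.Prime] (M : Ideal Cfsg.AlgInt) (hM : Cfsg.IsPModular p M) : (∃ d : ℕ, ∀ χ : Cfsg.IrrCharacter G, χ ∈ (Cfsg.principalBlock M G) → Cfsg.blockHeight p (Cfsg.principalBlock M G) (χ : G → ℂ) = 0 → Cfsg.charDegree (χ : G → ℂ) = d) ↔ Cfsg.HasNormalPComplement p G := by
  classical
  have := Fintype.ofFinite G
  have := Fintype.ofFinite (Cfsg.IrrCharacter G)
  have := CfsgLib.Block.isPrime_of_pmodular hM
  have hp : p.Prime := Fact.out
  set B := Cfsg.principalBlock M G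
  have hB : Cfsg.IsPBlock M B := CfsgLib.Block.isPBlock_principalBlock
  constructor
  · rintro ⟨d, hd⟩
    have hlin : ∀ χ ∈ B, ¬ p ∣ Cfsg.charDegree (χ : G → ℂ) →
        Cfsg.charDegree (χ : G → ℂ) = 1 := by
      intro χ hχ hnd
      have h1 := hd χ hχ ((CfsgLib.BlockB.principal_height_zero_iff hp).2 hnd)
      have e0 : Cfsg.charDegree ((CfsgLib.Block.trivIrr : Cfsg.IrrCharacter G) : G → ℂ) = 1 := by
        simp [Cfsg.charDegree, CfsgLib.Block.trivIrr]
      have h2 := hd CfsgLib.Block.trivIrr CfsgLib.Block.one_mem_principalBlock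
        ((CfsgLib.BlockB.principal_height_zero_iff hp).2 (by rw [e0]; exact hp.not_dvd_one))
      rw [h1, ← h2, e0]
    obtain ⟨P⟩ := Sylow.nonempty (p := p) (G := G)
    have := Fintype.ofFinite (P : Subgroup G)
    let emb : (G →* ℂˣ) → Cfsg.IrrCharacter G := fun l =>
      ⟨fun g => (l g : ℂ), CfsgLib.Char.isIrrCharacter_linear l⟩
    have hemb : Function.Injective emb := fun a b h => MonoidHom.ext fun g =>
      Units.ext (congr_fun (congrArg Subtype.val h) g)
    have : Finite (G →* ℂˣ) := Finite.of_injective emb hemb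
    choose m hm using fun (χ : Cfsg.IrrCharacter G) (lam : (P : Subgroup G) →* ℂˣ) =>
      CfsgLib.Char.classInner_isCharacter_nat
        (CfsgLib.Char.irr_isCharacter (CfsgLib.Char.isIrrCharacter_linear lam))
        (CfsgLib.Char.isCharacter_restrict (CfsgLib.Char.irr_isCharacter χ.2) (P : Subgroup G))
    set Bf := Finset.univ.filter (fun χ => χ ∈ B) with hBf
    let T : ((P : Subgroup G) →* ℂˣ) → ℕ := fun lam =>
      ∑ χ ∈ Bf, Cfsg.charDegree (χ : G → ℂ) * m χ lam
    have hT : ∀ lam : (P : Subgroup G) →* ℂˣ, T lam = T 1 := by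
      have hval : ∀ lam : (P : Subgroup G) →* ℂˣ,
          (Nat.card (P : Subgroup G) : ℂ) * (T lam : ℂ) =
            (Nat.card G : ℂ) * Cfsg.blockCoeff B 1 := by
        intro lam
        have h2 : ∑ y : (P : Subgroup G), (lam y : ℂ) *
            ((Nat.card G : ℂ) * Cfsg.blockCoeff B (y : G)) =
            (Nat.card G : ℂ) * Cfsg.blockCoeff B 1 := by
          rw [Finset.sum_eq_single 1]
          · simp
          · intro y _ hy
            rw [CfsgLib.Block.blockCoeff_eq_zero_of_singular hM hB, mul_zero, mul_zero]
            obtain ⟨j, hj⟩ := IsPGroup.iff_orderOf.1 P.2 y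
            rw [Subgroup.orderOf_coe, hj]
            rcases j with _ | j
            · exact absurd (orderOf_eq_one_iff.1 (by simpa using hj)) hy
            · exact dvd_pow_self p j.succ_ne_zero
          · exact fun h => absurd (Finset.mem_univ _) h
        rw [← h2]
        simp only [Cfsg.blockCoeff, ← mul_assoc, mul_inv_cancel₀ CfsgLib.Char.natCard_ne_zero,
          mul_one, finsum_mem_eq_finite_toFinset_sum _ (Set.toFinite B), Finset.mul_sum]
        rw [Finset.sum_comm, Nat.cast_sum, Finset.mul_sum]
        refine Finset.sum_congr (by ext; simp [hBf]) fun χ _ => ?_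
        rw [Nat.cast_mul, CfsgLib.BlockB.irr_degree_cast, ← hm χ lam,
          CfsgLib.Char.classInner_def]
        have hP0 : (Nat.card (P : Subgroup G) : ℂ) ≠ 0 := CfsgLib.Char.natCard_ne_zero
        rw [← mul_assoc, ← mul_assoc, mul_comm ((Nat.card (P : Subgroup G) : ℂ)), mul_assoc
          ((χ : G → ℂ) 1), mul_inv_cancel₀ hP0, mul_one, Finset.mul_sum]
        exact Finset.sum_congr rfl fun y _ => by ring
      intro lam
      have h := (hval lam).trans (hval 1).symm
      exact_mod_cast mul_left_cancel₀ CfsgLib.Char.natCard_ne_zero h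
    -- the linear characters of the block extending a given one
    let Lset : ((P : Subgroup G) →* ℂˣ) → Finset (Cfsg.IrrCharacter G) := fun lam =>
      Bf.filter fun χ => ∃ l : G →* ℂˣ, emb l = χ ∧ l.comp (P : Subgroup G).subtype = lam
    have hmod : ∀ lam, T lam ≡ (Lset lam).card [MOD p] := by
      intro lam
      rw [← ZMod.natCast_eq_natCast_iff, Finset.card_filter, Nat.cast_sum, Nat.cast_sum]
      refine Finset.sum_congr rfl fun χ hχ => ?_
      by_cases hnd : p ∣ Cfsg.charDegree (χ : G → ℂ)
      · rw [if_neg, Nat.cast_zero, (ZMod.natCast_eq_zero_iff _ p).2 (hnd.mul_right _)]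
        rintro ⟨l, rfl, -⟩
        refine hp.not_dvd_one ?_
        rwa [show Cfsg.charDegree (emb l : G → ℂ) = 1 by simp [Cfsg.charDegree, emb]] at hnd
      · have h1 := hlin χ (Finset.mem_filter.1 hχ).2 hnd
        rw [h1, one_mul]
        obtain ⟨l, hl⟩ := CfsgLib.Char.exists_hom_of_degree_one (CfsgLib.Char.irr_isCharacter χ.2)
          (by rw [← CfsgLib.BlockB.irr_degree_cast χ, h1, Nat.cast_one])
        have hel : emb l = χ := Subtype.ext hl.symm
        subst hel
        have hres : (fun y : (P : Subgroup G) => (emb l : G → ℂ) y) =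
            fun y => ((l.comp (P : Subgroup G).subtype) y : ℂ) := rfl
        have h2 := hm (emb l) lam
        rw [hres] at h2
        by_cases he : l.comp (P : Subgroup G).subtype = lam
        · rw [if_pos ⟨l, rfl, he⟩]
          rw [he, CfsgLib.Char.irr_classInner_self (CfsgLib.Char.isIrrCharacter_linear lam)] at h2
          have h3 : m (emb l) lam = 1 := by exact_mod_cast h2.symm
          rw [h3]
        · rw [if_neg (fun ⟨l', h', h''⟩ => he (hemb h' ▸ h''))]
          rw [CfsgLib.Char.irr_classInner_ne (CfsgLib.Char.isIrrCharacter_linear lam)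
            (CfsgLib.Char.isIrrCharacter_linear _) (fun e => he (MonoidHom.ext fun y =>
              (Units.ext (congr_fun e y)).symm))] at h2
          have h3 : m (emb l) lam = 0 := by exact_mod_cast h2.symm
          rw [h3]
    have hunit : ¬ p ∣ (Lset 1).card := by
      let Lm : Submonoid (G →* ℂˣ) :=
        { carrier := {l | emb l ∈ B ∧ l.comp (P : Subgroup G).subtype = 1}
          one_mem' := ⟨by
            rw [show emb 1 = CfsgLib.Block.trivIrr from Subtype.ext (funext fun g => by
              simp [emb, CfsgLib.Block.trivIrr])]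
            exact CfsgLib.Block.one_mem_principalBlock, rfl⟩
          mul_mem' := fun ha hb => ⟨CfsgLib.BlockB.linear_mul_mem_principal ha.1 hb.1, by
            rw [MonoidHom.mul_comp, ha.2, hb.2, one_mul]⟩ }
      let L : Subgroup (G →* ℂˣ) :=
        { Lm with
          inv_mem' := fun {l} hl => by
            have : l⁻¹ = l ^ (orderOf l - 1) := by
              refine inv_eq_of_mul_eq_one_right (a := l) ?_
              refine (pow_succ' l (orderOf l - 1)).symm.trans ?_
              rw [Nat.sub_add_cancel (orderOf_pos l)]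
              exact pow_orderOf_eq_one l
            rw [this]
            exact Lm.pow_mem hl _ }
      have := Fintype.ofFinite L
      have hcard : (Lset 1).card = Nat.card L := by
        rw [Nat.card_eq_fintype_card, ← Finset.card_univ]
        symm
        refine Finset.card_bij (fun l _ => emb l.1) (fun l _ => Finset.mem_filter.2
          ⟨Finset.mem_filter.2 ⟨Finset.mem_univ _, l.2.1⟩, l.1, rfl, l.2.2⟩)
          (fun a _ b _ h => Subtype.ext (hemb h)) ?_
        intro χ hχ
        obtain ⟨h1, l, rfl, h2⟩ := Finset.mem_filter.1 hχ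
        exact ⟨⟨l, (Finset.mem_filter.1 h1).2, h2⟩, Finset.mem_univ _, rfl⟩
      rw [hcard]
      intro hdvd
      obtain ⟨⟨l, hl⟩, hlo⟩ := exists_prime_orderOf_dvd_card' p hdvd
      rw [Subgroup.orderOf_mk] at hlo
      have hPle : (P : Subgroup G) ≤ l.ker := fun y hy =>
        MonoidHom.mem_ker.2 (DFunLike.congr_fun hl.2 ⟨y, hy⟩ :)
      have hdx : l.ker.index ∣ (P : Subgroup G).index := Subgroup.index_dvd_of_le hPle
      have hrange : Nat.card l.range ∣ p := by
        have hle : l.range ≤ rootsOfUnity p ℂ := by
          rintro _ ⟨g, rfl⟩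
          rw [mem_rootsOfUnity, ← MonoidHom.pow_apply, ← hlo, pow_orderOf_eq_one]
          rfl
        have := NeZero.mk hp.ne_zero
        have := Subgroup.card_dvd_of_le hle
        rwa [Complex.card_rootsOfUnity p] at this
      rw [Subgroup.index_ker] at hdx
      rcases (Nat.dvd_prime hp).1 hrange with h | h
      · have : l = 1 := MonoidHom.range_eq_bot_iff.1 (Subgroup.card_eq_one.1 h)
        rw [this, orderOf_one] at hlo
        exact hp.ne_one hlo.symm
      · rw [h] at hdx
        exact P.not_dvd_index hdx
    have hext : ∀ lam : (P : Subgroup G) →* ℂˣ,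
        ∃ l : G →* ℂˣ, l.comp (P : Subgroup G).subtype = lam := by
      intro lam
      have hne : (Lset lam).Nonempty := by
        rw [← Finset.card_pos]
        by_contra h0
        apply hunit
        have h1 : (Lset lam).card ≡ (Lset 1).card [MOD p] :=
          (hmod lam).symm.trans (by rw [hT lam]; exact hmod 1)
        rw [Nat.eq_zero_of_not_pos h0] at h1
        exact (Nat.modEq_zero_iff_dvd).1 h1.symm
      obtain ⟨χ, hχ⟩ := hne
      obtain ⟨-, l, -, hl⟩ := Finset.mem_filter.1 hχ
      exact ⟨l, hl⟩
    set N := Cfsg.pResidual p G with hN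
    have hNn : N.Normal := CfsgLib.Transfer.pResidual_normal
    have hfr : N.subgroupOf (P : Subgroup G) ≤ frattini (P : Subgroup G) := by
      have : Group.IsNilpotent (P : Subgroup G) := P.2.isNilpotent
      refine le_trans (fun y hy => ?_) CfsgLib.Solvable.commutator_le_frattini
      by_contra hy'
      have : Finite (Abelianization (P : Subgroup G)) :=
        inferInstanceAs (Finite ((P : Subgroup G) ⧸ commutator (P : Subgroup G)))
      obtain ⟨μ, hμ⟩ := CfsgLib.Char.exists_linear_ne_one (G := Abelianization (P : Subgroup G))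
        (fun a b => mul_comm a b) (g := Abelianization.of y)
        (fun h => hy' ((QuotientGroup.eq_one_iff y).1 h))
      obtain ⟨l, hl⟩ := hext (μ.comp Abelianization.of)
      obtain ⟨j, hj⟩ := IsPGroup.iff_card.1 P.2
      obtain ⟨e, he1, he2⟩ := Nat.chineseRemainder
        ((Nat.Coprime.pow_left j ((hp.coprime_iff_not_dvd).2 P.not_dvd_index))) 1 0
      have hle : N ≤ (l ^ e).ker := by
        rw [hN, Cfsg.pResidual, Subgroup.closure_le]
        intro g hg
        rw [SetLike.mem_coe, MonoidHom.mem_ker, MonoidHom.pow_apply, ← map_pow]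
        have h1 : orderOf g ∣ (P : Subgroup G).index := by
          have h := orderOf_dvd_natCard g
          rw [← (P : Subgroup G).card_mul_index, hj] at h
          exact (Nat.Coprime.pow_right j hg).dvd_of_dvd_mul_left h
        rw [orderOf_dvd_iff_pow_eq_one.1 (h1.trans (Nat.modEq_zero_iff_dvd.1 he2)), map_one]
      have h2 : (l ^ e) (y : G) = 1 := MonoidHom.mem_ker.1 (hle hy)
      apply hμ
      have h3 : y ^ e = y := by
        conv_rhs => rw [← pow_one y]
        refine pow_eq_pow_iff_modEq.2 (he1.of_dvd ?_)
        rw [← hj]; exact orderOf_dvd_natCard y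
      calc μ (Abelianization.of y) = μ (Abelianization.of (y ^ e)) := by rw [h3]
        _ = l ((y ^ e : (P : Subgroup G)) : G) := (DFunLike.congr_fun hl _).symm
        _ = 1 := by rw [Subgroup.coe_pow, map_pow]; exact h2
    have h1 := CfsgLib.Transfer.tate P N hfr
    rw [CfsgLib.Transfer.hasNormalPComplement_iff_coprime_pResidual,
      CfsgLib.Transfer.pResidual_pResidual, Subgroup.card_top] at h1
    exact CfsgLib.Transfer.hasNormalPComplement_iff_coprime_pResidual.2 h1
  · intro h
    obtain ⟨P, K, hK, hcompl⟩ := h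
    refine ⟨1, fun χ hχ hh => ?_⟩
    have hnd := (CfsgLib.BlockB.principal_height_zero_iff hp).1 hh
    have hKc : ¬ p ∣ Nat.card K := by
      rw [← hcompl.index_eq_card]; exact P.not_dvd_index
    have hker : K ≤ CfsgLib.BlockB.charKer χ :=
      CfsgLib.BlockB.normal_le_ker_principal hM K hKc hχ
    obtain ⟨j, hj⟩ := IsPGroup.iff_card.1 P.2
    have hd : Cfsg.charDegree (χ : G → ℂ) ∣ p ^ j := by
      refine (CfsgLib.BlockB.degree_dvd_index_charKer χ).trans
        ((Subgroup.index_dvd_of_le hker).trans ?_)
      rw [hcompl.symm.index_eq_card, hj]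
    obtain ⟨i, -, hi⟩ := (Nat.dvd_prime_pow hp).1 hd
    rcases i with _ | i
    · rw [hi, pow_zero]
    · exact absurd (hi ▸ dvd_pow_self p i.succ_ne_zero) hnd

end Cfsg.Agent.S4888
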