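import Cfsg.Statements.S4889
import Cfsg.Agent.Lib.BlockA.EqualDegreeNilp
import Cfsg.Agent.Lib.BlockB.StarNilpotent
import Cfsg.Agent.Lib.Char.Linear

set_option autoImplicit false
open Cfsg

namespace Cfsg.Agent.S4889

/-- Let G be a finite group, p a prime, M a maximal ideal of the algebraic integers containing p, and B a p-block of G that has an abelian defect group and in which every irreducible character has height zero. Then all irreducible characters of B have the same degree if and only if B is a nilpotent block. -/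
theorem result {G : Type*} [Group G] [Finite G] (p : ℕ) [Fact p.Prime] (M : Ideal Cfsg.AlgInt) (hM : Cfsg.IsPModular p M) (B : Set (Cfsg.IrrCharacter G)) (hB : Cfsg.IsPBlock M B) (D : Subgroup G) (hD : Cfsg.IsDefectGroup p M B D) (hDab : IsMulCommutative ↥D) (h0 : ∀ χ : Cfsg.IrrCharacter G, χ ∈ B → Cfsg.blockHeight p B (χ : G → ℂ) = 0) : (∃ d : ℕ, ∀ χ : Cfsg.IrrCharacter G, χ ∈ B → Cfsg.charDegree (χ : G → ℂ) = d) ↔ Cfsg.IsNilpotentBlock p M B := by
  classical
  have := Fintype.ofFinite G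
  have := CfsgLib.Block.isPrime_of_pmodular hM
  have hab : ∀ x ∈ D, ∀ y ∈ D, x * y = y * x := fun x hx y hy =>
    congrArg Subtype.val (hDab.is_comm.comm ⟨x, hx⟩ ⟨y, hy⟩)
  constructor
  · rintro ⟨d, hd⟩
    exact CfsgLib.BlockA.EqualDegreeNilp.nilpotent_of_equal_degree hM hB hd hD hab
  · intro hnil
    obtain ⟨e, hmax⟩ := CfsgLib.BlockA.DefectOneStar.exists_maximal_pair hM hB hD
    obtain ⟨χ₀, hχ₀, h00⟩ := CfsgLib.Block.exists_height_zero (p := p) hM hB
    obtain ⟨Φ, hΦ⟩ := CfsgLib.BlockB.Star.exists_bijection hM hmax hnil hχ₀ h00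
    refine ⟨charDegree (χ₀ : G → ℂ), fun χ hχ => ?_⟩
    obtain ⟨ζ, hζ⟩ := Φ.surjective ⟨χ, hχ⟩
    have h := (hΦ ζ).1
    rw [hζ] at h
    have h1 : charDegree (ζ : D → ℂ) = 1 := by
      apply Nat.cast_injective (R := ℂ)
      rw [CfsgLib.Block.charDegree_cast (CfsgLib.Char.irr_isCharacter ζ.2),
        CfsgLib.Char.irr_degree_one_of_comm (fun a b => Subtype.ext (hab a a.2 b b.2)) ζ.2,
        Nat.cast_one]
    rwa [h1, one_mul] at h

end Cfsg.Agent.S4889
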