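import Cfsg.Statements.S4890
import Cfsg.Agent.Lib.BlockA.EqualHeightZeroNormal
import Cfsg.Agent.Lib.BlockB.StarNilpotent
import Cfsg.Agent.Lib.Clifford.Degrees

set_option autoImplicit false
open Cfsg

namespace Cfsg.Agent.S4890

/-- Let G be a finite group, p a prime, M a maximal ideal of the algebraic integers containing p, and B a p-block of G with a defect group that is normal in G. Then all height-zero irreducible characters of B have the same degree if and only if B is a nilpotent block. -/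
theorem result {G : Type*} [Group G] [Finite G] (p : ℕ) [Fact p.Prime] (M : Ideal Cfsg.AlgInt) (hM : Cfsg.IsPModular p M) (B : Set (Cfsg.IrrCharacter G)) (hB : Cfsg.IsPBlock M B) (D : Subgroup G) (hD : Cfsg.IsDefectGroup p M B D) (hDn : D.Normal) : (∃ d : ℕ, ∀ χ : Cfsg.IrrCharacter G, χ ∈ B → Cfsg.blockHeight p B (χ : G → ℂ) = 0 → Cfsg.charDegree (χ : G → ℂ) = d) ↔ Cfsg.IsNilpotentBlock p M B := by
  classical
  have := Fintype.ofFinite G
  have := CfsgLib.Block.isPrime_of_pmodular hM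
  constructor
  · rintro ⟨d, hd⟩
    exact CfsgLib.BlockA.EqualHeightZeroNormal.nilpotent_of_equal_height_zero hM hB hD
      (d := d) hd
  · intro hnil
    obtain ⟨e, hmax⟩ := CfsgLib.BlockA.DefectOneStar.exists_maximal_pair hM hB hD
    obtain ⟨χ₀, hχ₀, h00⟩ := CfsgLib.Block.exists_height_zero (p := p) hM hB
    obtain ⟨Φ, hΦ⟩ := CfsgLib.BlockB.Star.exists_bijection hM hmax hnil hχ₀ h00
    refine ⟨charDegree (χ₀ : G → ℂ), fun χ hχ h0 => ?_⟩
    obtain ⟨ζ, hζ⟩ := Φ.surjective ⟨χ, hχ⟩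
    have h := (hΦ ζ).1
    rw [hζ] at h
    have hf := (CfsgLib.Block.blockHeight_eq_zero_iff hM hB hχ).1 h0
    rw [← (CfsgLib.Block.blockHeight_eq_zero_iff hM hB hχ₀).1 h00, h,
      Nat.factorization_mul (CfsgLib.Block.charDegree_ne_zero ζ.2)
        (CfsgLib.Block.charDegree_ne_zero χ₀.2), Finsupp.add_apply] at hf
    obtain ⟨j, hj⟩ := IsPGroup.iff_card.1 (CfsgLib.Block.isPGroup_defectGroup hM hB hD)
    have hdvd := CfsgLib.Clifford.Degrees.charDegree_dvd_card ζ.2
    rw [hj] at hdvd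
    obtain ⟨i, -, hi⟩ := (Nat.dvd_prime_pow (Fact.out : p.Prime)).1 hdvd
    rw [hi, (Fact.out : p.Prime).factorization_pow, Finsupp.single_eq_same] at hf
    rw [h, hi, show i = 0 by omega, pow_zero, one_mul]

end Cfsg.Agent.S4890
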