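import Cfsg.Statements.S4892
import Cfsg.Agent.Lib.BlockB.PRationalExt
-- import your own Cfsg.Agent.* helpers here

set_option autoImplicit false
open Cfsg

namespace Cfsg.Agent.S4892

/-- Let p be an odd prime, M a maximal ideal of the algebraic integers containing p, N a normal subgroup of the finite group G, and θ an irreducible character of N that is G-invariant, of degree prime to p, p-rational (values in the field generated over ℚ by a root of unity of order prime to p) and lies in the principal p-block of N. Let Q be a Sylow p-subgroup of N and suppose the index of N·C_G(Q) in G is a power of p. Then θ extends to a p-rational irreducible character of G lying in the principal p-block of G. -/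
theorem result {G : Type*} [Group G] [Finite G] (p : ℕ) [Fact p.Prime] (hp : p ≠ 2) (M : Ideal Cfsg.AlgInt) (hM : Cfsg.IsPModular p M) (N : Subgroup G) [N.Normal] (θ : Cfsg.IrrCharacter ↥N) (hinv : ∀ g : G, ∀ n n' : ↥N, (n' : G) = g * (n : G) * g⁻¹ → (θ : ↥N → ℂ) n' = (θ : ↥N → ℂ) n) (hdeg : ¬ p ∣ Cfsg.charDegree (θ : ↥N → ℂ)) (hrat : ∃ m : ℕ, ¬ p ∣ m ∧ ∀ n : ↥N, (θ : ↥N → ℂ) n ∈ IntermediateField.adjoin ℚ ({Complex.exp (2 * Real.pi * Complex.I / m)} : Set ℂ)) (hB : θ ∈ Cfsg.principalBlock M ↥N) (Q : Sylow p ↥N) (hidx : ∃ a : ℕ, (N ⊔ Subgroup.centralizer (((Q : Subgroup ↥N).map N.subtype : Subgroup G) : Set G)).index = p ^ a) : ∃ χ : Cfsg.IrrCharacter G, χ ∈ (Cfsg.principalBlock M G) ∧ (∃ n : ℕ, ¬ p ∣ n ∧ ∀ g : G, (χ : G → ℂ) g ∈ IntermediateField.adjoin ℚ ({Complex.exp (2 * Real.pi * Complex.I / n)} : Set ℂ)) ∧ ∀ n : ↥N, (χ : G → ℂ) n = (θ : ↥N → ℂ) n := by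
  classical
  have hpr : p.Prime := Fact.out
  have := Fintype.ofFinite G
  have := Fintype.ofFinite N
  obtain ⟨a, ha⟩ := hidx
  obtain ⟨m0, hm0p, hrat⟩ := hrat
  have hm0 : m0 ≠ 0 := fun h => hm0p (h ▸ dvd_zero p)
  set Qm : Subgroup G := (Q : Subgroup ↥N).map N.subtype with hQm
  set H : Subgroup G := N ⊔ Subgroup.centralizer (Qm : Set G) with hH
  have hHn : H.Normal := by
    constructor
    intro h hh g
    obtain ⟨x, hx, c, hc, rfl⟩ := Subgroup.mem_sup_of_normal_left.1 hh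
    have hg : g ∈ N ⊔ Subgroup.normalizer (Qm : Set G) := by
      rw [sup_comm, hQm, Sylow.normalizer_sup_eq_top Q]
      exact Subgroup.mem_top g
    obtain ⟨z, hz, y, hy, rfl⟩ := Subgroup.mem_sup_of_normal_left.1 hg
    have e : z * y * (x * c) * (z * y)⁻¹ = z * ((y * x * y⁻¹) * (y * c * y⁻¹)) * z⁻¹ := by group
    rw [e]
    refine H.mul_mem (H.mul_mem (le_sup_left (a := N) hz) (H.mul_mem
      (le_sup_left (a := N) ((inferInstance : N.Normal).conj_mem _ hx y)) (le_sup_right (a := N) ?_)))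
      (H.inv_mem (le_sup_left (a := N) hz))
    rw [Subgroup.mem_centralizer_iff]
    intro w hw
    have hw' : y⁻¹ * w * y ∈ Qm := by
      have := (Subgroup.mem_normalizer_iff.1 (Subgroup.inv_mem _ hy) w).1 hw
      simpa using this
    have h1 := Subgroup.mem_centralizer_iff.1 hc _ hw'
    calc w * (y * c * y⁻¹) = y * ((y⁻¹ * w * y) * c) * y⁻¹ := by group
      _ = y * (c * (y⁻¹ * w * y)) * y⁻¹ := by rw [h1]
      _ = y * c * y⁻¹ * w := by group
  have hgcd : ∀ T : ℕ, T ≠ 0 → Nat.gcd T m0 ∣ T / p ^ T.factorization p := fun T hT => by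
    have h1 : Nat.gcd T m0 ∣ p ^ T.factorization p * (T / p ^ T.factorization p) := by
      rw [Nat.ordProj_mul_ordCompl_eq_self]; exact Nat.gcd_dvd_left T m0
    exact (((hpr.coprime_iff_not_dvd.2 fun h => hm0p (h.trans (Nat.gcd_dvd_right T m0))).symm).pow_right
      _).dvd_of_dvd_mul_left h1
  have hfix : ∀ k : ℕ, k.Coprime (Nat.card ↥N) → k ≡ 1 [MOD Nat.gcd (Nat.card ↥N) m0] →
      ∀ x : N, (θ : ↥N → ℂ) (x ^ k) = (θ : ↥N → ℂ) x := fun k hk hk1 x =>
    CfsgLib.BlockB.GaloisValues.fixed_of_mem_adjoin (CfsgLib.Char.irr_isCharacter θ.2) hm0 (hrat x)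
      hk hk1
  obtain ⟨χ, hχ, hres, hval⟩ := CfsgLib.BlockB.PRationalExt.exists_pRational_ext N hM hp θ
    (fun g x => hinv g x _ (CfsgLib.Clifford.coe_conjN g x)) hdeg hB
    (fun k hk hk1 x => hfix k (hk.coprime_dvd_right N.card_subgroup_dvd_card)
      (hk1.of_dvd ((Nat.gcd_dvd_gcd_of_dvd_left _ N.card_subgroup_dvd_card).trans
        (hgcd _ Nat.card_pos.ne'))) x)
    (fun {n} ρ hρ => ⟨_, Nat.not_dvd_ordCompl hpr Nat.card_pos.ne',
      CfsgLib.BlockB.PRationalExt.det_pow_eq_one hp ρ fun k hk hk1 g => by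
        rw [hρ]; exact hfix k hk (hk1.of_dvd (hgcd _ Nat.card_pos.ne')) g⟩)
    Q H le_sup_left ha (by
      intro h
      obtain ⟨x, hx, c, hc, he⟩ := Subgroup.mem_sup_of_normal_left.1 h.2
      refine ⟨⟨c, le_sup_right (a := N) hc⟩,
        fun y hy => Subgroup.mem_centralizer_iff.1 hc _ ⟨y, hy, rfl⟩, ?_⟩
      show (h : G)⁻¹ * c ∈ N
      rw [← he, show (x * c)⁻¹ * c = c⁻¹ * x⁻¹ * c⁻¹⁻¹ by group]
      exact (inferInstance : N.Normal).conj_mem _ (N.inv_mem hx) _)
  refine ⟨χ, hχ, ⟨_, Nat.not_dvd_ordCompl hpr (Nat.card_pos (α := G)).ne', fun g => ?_⟩, hres⟩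
  exact CfsgLib.BlockB.GaloisValues.mem_adjoin_of_fixed (CfsgLib.Char.irr_isCharacter χ.2) g
    (by rw [mul_comm]; exact (Nat.ordProj_mul_ordCompl_eq_self _ p).symm)
    fun k hk hk1 => hval k hk hk1 g

end Cfsg.Agent.S4892
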