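import Cfsg.Statements.S4911
import Cfsg.Agent.Lib.BlockA.Glauberman
import Cfsg.Agent.Lib.BlockA.GlaubermanSolvable
import Cfsg.Agent.Lib.Char.Fixed

set_option autoImplicit false
open Cfsg

namespace Cfsg.Agent.S4911

open CfsgLib.BlockA
open scoped ComplexConjugate

universe u v

variable {K : Type u} {S : Type v} [Group K] [Group S] [Finite K] [Finite S]
  [MulDistribMulAction S K] {p : ℕ} [Fact p.Prime]

/-- The fixed points of the action. -/
def fix (S : Type v) (K : Type u) [Group K] [Group S] [MulDistribMulAction S K] : Subgroup K where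
  carrier := {g | ∀ s : S, s • g = g}
  one_mem' := fun s => smul_one s
  mul_mem' := fun {a b} ha hb s => by rw [smul_mul', ha s, hb s]
  inv_mem' := fun {a} ha s => by rw [smul_inv', ha s]

theorem exists_mem_fix (hS : IsPGroup p S) (hcop : ¬ p ∣ Nat.card K) {c : ConjClasses K}
    (hc : IsFixedClass S c) : ∃ g : fix S K, ConjClasses.mk (g : K) = c := by
  classical
  let X := {g : K // ConjClasses.mk g = c}
  let _ : MulAction S X :=
    { smul := fun s g => ⟨s • g.1, hc s g.1 g.2⟩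
      one_smul := fun g => Subtype.ext (one_smul S g.1)
      mul_smul := fun a b g => Subtype.ext (mul_smul a b g.1) }
  obtain ⟨g, rfl⟩ := ConjClasses.mk_surjective c
  have hdvd : ¬ p ∣ Nat.card X := by
    intro h
    apply hcop
    refine h.trans ?_
    have e : Nat.card X = (Subgroup.centralizer ({g} : Set K)).index := by
      have := Fintype.ofFinite K
      rw [← CfsgLib.Char.natCard_carrier_eq_index g]
      exact Nat.card_congr (Equiv.subtypeEquivRight fun y => ConjClasses.mem_carrier_iff_mk_eq.symm)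
    rw [e]
    exact Subgroup.index_dvd_card _
  obtain ⟨⟨x, hx⟩, hfix⟩ := hS.nonempty_fixed_point_of_prime_not_dvd_card X hdvd
  exact ⟨⟨x, fun s => congrArg Subtype.val (hfix s)⟩, hx⟩

/-- Real invariant characters and real invariant classes are equally many. -/
theorem natCard_real_inv (hS : IsPGroup p S) (hcop : ¬ p ∣ Nat.card K) :
    Nat.card {χ : Cfsg.IrrCharacter K //
        (∀ k : K, ((χ : K → ℂ) k).im = 0) ∧ IsInv S (χ : K → ℂ)} =
      Nat.card {c : ConjClasses K //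
        (∀ k : K, ConjClasses.mk k = c → IsConj k k⁻¹) ∧ IsFixedClass S c} := by
  classical
  have := Fintype.ofFinite K
  have := Fintype.ofFinite (fix S K)
  set ι : fix S K →* K := (fix S K).subtype
  have hι : Function.Injective ι := Subtype.val_injective
  have hrange : ∀ g : K, g ∈ ι.range ↔ ∀ s : S, s • g = g := fun g =>
    ⟨fun ⟨c, hc⟩ => hc ▸ c.2, fun h => ⟨⟨g, h⟩, rfl⟩⟩
  obtain ⟨hex, -, hinj, hsurj⟩ := glauberman_pGroup ι hι hrange hS hcop
  let Cr : (fix S K → ℂ) → Prop := fun f => ∀ k, (f k).im = 0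
  have hcr : ∀ (χ : Cfsg.IrrCharacter K) (β : Cfsg.IrrCharacter (fix S K)) (m : ℕ),
      Cfsg.classInner (fun c => (χ : K → ℂ) (ι c)) (β : fix S K → ℂ) = m →
      Cfsg.classInner (fun c => conj ((χ : K → ℂ) (ι c))) (fun c => conj ((β : fix S K → ℂ) c)) =
        m := by
    intro χ β m h
    have h2 := congrArg conj h
    rw [Complex.conj_natCast] at h2
    refine Eq.trans ?_ h2
    simp only [CfsgLib.Char.classInner_def, map_mul, map_sum, map_inv₀, Complex.conj_natCast]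
  let bar : ∀ {H : Type u} [Group H] [Finite H], Cfsg.IrrCharacter H → Cfsg.IrrCharacter H :=
    fun χ => ⟨_, CfsgLib.Char.isIrrCharacter_conj χ.2⟩
  have hbar : ∀ {H : Type u} [Group H] [Finite H] (χ : Cfsg.IrrCharacter H),
      (∀ k : H, ((χ : H → ℂ) k).im = 0) ↔ bar χ = χ := fun χ =>
    ⟨fun h => Subtype.ext (funext fun k => Complex.conj_eq_iff_im.2 (h k)),
      fun h k => Complex.conj_eq_iff_im.1 (congrFun (congrArg Subtype.val h) k)⟩
  have hinvbar : ∀ χ : Cfsg.IrrCharacter K, IsInv S (χ : K → ℂ) → IsInv S (bar χ : K → ℂ) :=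
    fun χ h s g => congrArg conj (h s g)
  let F : {χ : Cfsg.IrrCharacter K // (∀ k : K, ((χ : K → ℂ) k).im = 0) ∧ IsInv S (χ : K → ℂ)} →
      {β : Cfsg.IrrCharacter (fix S K) // ∀ k, ((β : fix S K → ℂ) k).im = 0} := fun χ =>
    ⟨(hex χ.1 χ.2.2).exists.choose, by
      rw [hbar]
      obtain ⟨m, hm, hmp⟩ := (hex χ.1 χ.2.2).exists.choose_spec
      refine (hex χ.1 χ.2.2).unique ⟨m, ?_, hmp⟩ ⟨m, hm, hmp⟩
      have h := hcr _ _ _ hm
      simp only [fun c => Complex.conj_eq_iff_im.2 (χ.2.1 c)] at h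
      exact h⟩
  have hF : Function.Bijective F := by
    refine ⟨fun χ ψ h => ?_, fun β => ?_⟩
    · obtain ⟨m, hm, hmp⟩ := (hex χ.1 χ.2.2).exists.choose_spec
      obtain ⟨m', hm', hmp'⟩ := (hex ψ.1 ψ.2.2).exists.choose_spec
      have he : (hex χ.1 χ.2.2).exists.choose = (hex ψ.1 ψ.2.2).exists.choose := congrArg Subtype.val h
      rw [← he] at hm'
      exact Subtype.ext (hinj _ _ χ.2.2 ψ.2.2 _ m m' hm hmp hm' hmp')
    · obtain ⟨χ, hχ, m, hm, hmp⟩ := hsurj β.1
      have hreal : bar χ = χ := by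
        refine hinj _ _ (hinvbar χ hχ) hχ β.1 m m ?_ hmp hm hmp
        have h := hcr _ _ _ hm
        simp only [fun c => Complex.conj_eq_iff_im.2 (β.2 c)] at h
        exact h
      refine ⟨⟨χ, (hbar χ).2 hreal, hχ⟩, Subtype.ext ?_⟩
      exact (hex χ hχ).unique (hex χ hχ).exists.choose_spec ⟨m, hm, hmp⟩
  rw [Nat.card_congr (Equiv.ofBijective F hF), CfsgLib.Char.natCard_real_irr]
  -- the classes
  have hwell : ∀ c : ConjClasses (fix S K), ∀ g : fix S K, ConjClasses.mk g = c →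
      ConjClasses.mk (g : K) = ConjClasses.map ι c := fun c g hg => hg ▸ rfl
  let T : {c : ConjClasses (fix S K) // ∀ g, ConjClasses.mk g = c → IsConj g g⁻¹} →
      {c : ConjClasses K // (∀ k : K, ConjClasses.mk k = c → IsConj k k⁻¹) ∧ IsFixedClass S c} :=
    fun c => ⟨ConjClasses.map ι c.1, fun k hk => by
      obtain ⟨g, hg⟩ := ConjClasses.mk_surjective c.1
      have h1 : IsConj k (g : K) := ConjClasses.mk_eq_mk_iff_isConj.1 (by rw [hk, ← hg]; rfl)
      have h2 : IsConj (g : K) (g : K)⁻¹ := ι.map_isConj (c.2 g hg)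
      obtain ⟨a, ha⟩ := isConj_iff.1 h1
      exact h1.trans (h2.trans (isConj_iff.2 ⟨a⁻¹, by rw [← ha]; group⟩)), fun s k hk => by
      obtain ⟨g, hg⟩ := ConjClasses.mk_surjective c.1
      have h1 : IsConj k (g : K) := ConjClasses.mk_eq_mk_iff_isConj.1 (by rw [hk, ← hg]; rfl)
      have h2 := (MulDistribMulAction.toMonoidHom K s).map_isConj h1
      simp only [MulDistribMulAction.toMonoidHom_apply, g.2 s] at h2
      rw [← hg]
      exact ConjClasses.mk_eq_mk_iff_isConj.2 h2⟩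
  refine Nat.card_congr (Equiv.ofBijective T ⟨fun c d h => ?_, fun c => ?_⟩)
  · obtain ⟨g, hg⟩ := ConjClasses.mk_surjective c.1
    obtain ⟨g', hg'⟩ := ConjClasses.mk_surjective d.1
    have h' : ConjClasses.map ι c.1 = ConjClasses.map ι d.1 := congrArg Subtype.val h
    rw [← hg, ← hg'] at h'
    apply Subtype.ext
    rw [← hg, ← hg']
    exact ConjClasses.mk_eq_mk_iff_isConj.2 (isConj_of_isConj ι hι hrange hS hcop
      (ConjClasses.mk_eq_mk_iff_isConj.1 h'))
  · obtain ⟨g, hg⟩ := exists_mem_fix hS hcop c.2.2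
    refine ⟨⟨ConjClasses.mk g, fun g' hg' => ?_⟩, Subtype.ext hg⟩
    refine isConj_of_isConj ι hι hrange hS hcop ?_
    rw [map_inv]
    refine c.2.1 _ ?_
    rw [← hg]
    exact ConjClasses.mk_eq_mk_iff_isConj.2 (ι.map_isConj (ConjClasses.mk_eq_mk_iff_isConj.1 hg'))

/-- Let P and K be subgroups of a finite group with P a p-group normalizing K and K of order prime to p. Then the number of P-invariant real-valued irreducible complex characters of K equals the number of conjugacy classes of K that are real (closed under inversion) and P-invariant. Moreover, if every real-valued irreducible character of K is P-invariant, then every real element of K (one conjugate in K to its inverse) is conjugate in K to an element centralized by P. -/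
theorem result {G : Type*} [Group G] [Finite G] (p : ℕ) [Fact p.Prime] (P K : Subgroup G) (hP : IsPGroup p ↥P) (hK : ¬ p ∣ Nat.card ↥K) (hPK : P ≤ Subgroup.normalizer (K : Set G)) : Nat.card {θ : Cfsg.IrrCharacter ↥K // (∀ k : ↥K, ((θ : ↥K → ℂ) k).im = 0) ∧ (∀ x ∈ P, ∀ k k' : ↥K, (k' : G) = x * (k : G) * x⁻¹ → (θ : ↥K → ℂ) k' = (θ : ↥K → ℂ) k)} = Nat.card {c : ConjClasses ↥K // (∀ k : ↥K, ConjClasses.mk k = c → IsConj k k⁻¹) ∧ ∀ k : ↥K, ConjClasses.mk k = c → ∀ x ∈ P, ∀ k' : ↥K, (k' : G) = x * (k : G) * x⁻¹ → ConjClasses.mk k' = c} ∧ ((∀ θ : Cfsg.IrrCharacter ↥K, (∀ k : ↥K, ((θ : ↥K → ℂ) k).im = 0) → (∀ x ∈ P, ∀ k k' : ↥K, (k' : G) = x * (k : G) * x⁻¹ → (θ : ↥K → ℂ) k' = (θ : ↥K → ℂ) k)) → ∀ k : ↥K, IsConj k k⁻¹ → ∃ k' : ↥K, IsConj k k' ∧ ∀ x ∈ P, x * (k' : G) * x⁻¹ = (k' : G)) := by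
  classical
  let _ : MulDistribMulAction P K :=
    { smul := fun s g => ⟨(s : G) * g * (s : G)⁻¹,
        (Subgroup.mem_normalizer_iff.1 (hPK s.2) g).1 g.2⟩
      one_smul := fun g => Subtype.ext (show ((1 : P) : G) * g * ((1 : P) : G)⁻¹ = g by simp)
      mul_smul := fun a b g => Subtype.ext (show ((a * b : P) : G) * g * ((a * b : P) : G)⁻¹ =
        (a : G) * ((b : G) * g * (b : G)⁻¹) * (a : G)⁻¹ by simp [mul_assoc])
      smul_one := fun a => Subtype.ext (show (a : G) * ((1 : K) : G) * (a : G)⁻¹ = 1 by simp)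
      smul_mul := fun a g h => Subtype.ext (show (a : G) * ((g * h : K) : G) * (a : G)⁻¹ =
        ((a : G) * g * (a : G)⁻¹) * ((a : G) * h * (a : G)⁻¹) by simp [mul_assoc]) }
  have hI : ∀ θ : Cfsg.IrrCharacter K, CfsgLib.BlockA.IsInv P (θ : K → ℂ) ↔
      (∀ x ∈ P, ∀ k k' : K, (k' : G) = x * (k : G) * x⁻¹ → (θ : K → ℂ) k' = (θ : K → ℂ) k) :=
    fun θ => ⟨fun h x hx k k' hk => by
      have e : k' = (⟨x, hx⟩ : P) • k := Subtype.ext hk
      rw [e, h], fun h s k => h s s.2 k (s • k) rfl⟩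
  have hC : ∀ c : ConjClasses K, CfsgLib.BlockA.IsFixedClass P c ↔
      (∀ k : K, ConjClasses.mk k = c → ∀ x ∈ P, ∀ k' : K, (k' : G) = x * (k : G) * x⁻¹ →
        ConjClasses.mk k' = c) :=
    fun c => ⟨fun h k hk x hx k' hk' => by
      have e : k' = (⟨x, hx⟩ : P) • k := Subtype.ext hk'
      rw [e]
      exact h _ k hk, fun h s k hk => h k hk s s.2 (s • k) rfl⟩
  have hmain := natCard_real_inv (K := K) (S := P) hP hK
  simp only [hI, hC] at hmain
  refine ⟨hmain, fun hall k hk => ?_⟩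
  have hall' : Nat.card {θ : Cfsg.IrrCharacter ↥K // (∀ k : ↥K, ((θ : ↥K → ℂ) k).im = 0) ∧
      (∀ x ∈ P, ∀ k k' : ↥K, (k' : G) = x * (k : G) * x⁻¹ → (θ : ↥K → ℂ) k' = (θ : ↥K → ℂ) k)} =
      Nat.card {C : ConjClasses K // ∀ g : K, ConjClasses.mk g = C → IsConj g g⁻¹} := by
    rw [← CfsgLib.Char.natCard_real_irr]
    exact Nat.card_congr (Equiv.subtypeEquivRight fun θ => ⟨fun h => h.1, fun h => ⟨h, hall θ h⟩⟩)
  rw [hmain] at hall'
  let inc : {c : ConjClasses ↥K // (∀ k : ↥K, ConjClasses.mk k = c → IsConj k k⁻¹) ∧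
      ∀ k : ↥K, ConjClasses.mk k = c → ∀ x ∈ P, ∀ k' : ↥K, (k' : G) = x * (k : G) * x⁻¹ →
        ConjClasses.mk k' = c} → {C : ConjClasses K // ∀ g : K, ConjClasses.mk g = C → IsConj g g⁻¹} :=
    fun c => ⟨c.1, c.2.1⟩
  have hinc : Function.Injective inc := fun a b h =>
    Subtype.ext (congrArg (fun z : {C : ConjClasses K // ∀ g : K, ConjClasses.mk g = C →
      IsConj g g⁻¹} => z.1) h)
  have hreal : ∀ g : K, ConjClasses.mk g = ConjClasses.mk k → IsConj g g⁻¹ := fun g hg => by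
    have h1 := ConjClasses.mk_eq_mk_iff_isConj.1 hg
    obtain ⟨a, ha⟩ := isConj_iff.1 h1
    exact h1.trans (hk.trans (isConj_iff.2 ⟨a⁻¹, by rw [← ha]; group⟩))
  obtain ⟨c, hc⟩ := ((Nat.bijective_iff_injective_and_card inc).2 ⟨hinc, hall'⟩).2
    ⟨ConjClasses.mk k, hreal⟩
  have hc' : c.1 = ConjClasses.mk k := congrArg Subtype.val hc
  obtain ⟨g, hg⟩ := exists_mem_fix (K := K) (S := P) hP hK ((hC c.1).2 c.2.2)
  refine ⟨g, ConjClasses.mk_eq_mk_iff_isConj.1 (hc'.symm.trans hg.symm), fun x hx => ?_⟩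
  exact congrArg Subtype.val (g.2 ⟨x, hx⟩)

end Cfsg.Agent.S4911
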