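import Cfsg.Statements.S4912
import Cfsg.Agent.Lib.BlockB.MinimalNormalExt
-- import your own Cfsg.Agent.* helpers here

set_option autoImplicit false
open Cfsg

namespace Cfsg.Agent.S4912

/-- Let G be a finite group with a non-abelian minimal normal subgroup N, and let φ be an irreducible complex character of N with stabilizer I in G such that φ extends to an irreducible character of I with Frobenius–Schur indicator +1. Put d = φ(1)·[G : I]. Then the number of linear characters of G with Frobenius–Schur indicator +1 is at most [G : I] times the number of irreducible characters of G of degree d with Frobenius–Schur indicator +1. -/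
theorem result {G : Type*} [Group G] [Finite G] (N : Subgroup G) (hN : N.Normal) (hN1 : N ≠ ⊥) (hmin : ∀ M : Subgroup G, M.Normal → M ≤ N → M = ⊥ ∨ M = N) (hna : ¬ IsMulCommutative ↥N) (φ : Cfsg.IrrCharacter ↥N) (I : Subgroup G) (hI : ∀ g : G, g ∈ I ↔ ∀ n n' : ↥N, (n' : G) = g * (n : G) * g⁻¹ → (φ : ↥N → ℂ) n' = (φ : ↥N → ℂ) n) (hNI : N ≤ I) (hext : ∃ ψ : Cfsg.IrrCharacter ↥I, (Nat.card ↥I : ℂ)⁻¹ * ∑ᶠ g : ↥I, (ψ : ↥I → ℂ) (g * g) = 1 ∧ ∀ n : ↥N, (ψ : ↥I → ℂ) (Subgroup.inclusion hNI n) = (φ : ↥N → ℂ) n) : Nat.card {χ : Cfsg.IrrCharacter G // Cfsg.charDegree (χ : G → ℂ) = 1 ∧ (Nat.card G : ℂ)⁻¹ * ∑ᶠ g : G, (χ : G → ℂ) (g * g) = 1} ≤ I.index * Nat.card {χ : Cfsg.IrrCharacter G // Cfsg.charDegree (χ : G → ℂ) = Cfsg.charDegree (φ : ↥N → ℂ) * I.index ∧ (Nat.card G : ℂ)⁻¹ * ∑ᶠ g : G, (χ : G → ℂ) (g * g) = 1} := by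
  have := hN
  have := Fintype.ofFinite G
  have := Fintype.ofFinite N
  have := Fintype.ofFinite I
  obtain ⟨ψ, hν, hψ⟩ := hext
  simp only [finsum_eq_sum_of_fintype] at hν ⊢
  have D : CfsgLib.BlockB.OverTheta.Data I (φ : N → ℂ) (ψ : I → ℂ) :=
    ⟨φ.2, fun g => (hI g).trans (CfsgLib.BlockB.MinimalNormalExt.inertia_iff _ g), hNI,
      CfsgLib.Char.irr_isCharacter ψ.2,
      fun n t ht => by rw [show t = Subgroup.inclusion hNI n from Subtype.ext ht, hψ]⟩
  have hle := CfsgLib.BlockB.MinimalNormalExt.le_commutator N hmin hna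
  refine le_of_eq_of_le ?_ (CfsgLib.BlockB.MinimalNormalExt.card_linear_le D hle
    (fun μ : G →* ℂˣ => (Nat.card G : ℂ)⁻¹ * ∑ g : G, (μ (g * g) : ℂ) = 1)
    (fun χ => Cfsg.charDegree (χ : G → ℂ) = Cfsg.charDegree (φ : N → ℂ) * I.index ∧
      (Nat.card G : ℂ)⁻¹ * ∑ g : G, (χ : G → ℂ) (g * g) = 1)
    fun μ hμ χ hχ => ⟨CfsgLib.BlockB.MinimalNormalExt.charDegree_ind D μ hχ, ?_⟩)
  · refine (Nat.card_congr ?_).symm
    refine (Equiv.subtypeEquiv (CfsgLib.BlockB.MinimalNormalExt.linearDegreeEquiv (G := G))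
      (q := fun x => (Nat.card G : ℂ)⁻¹ * ∑ g : G, (x.1 : G → ℂ) (g * g) = 1)
      fun μ => Iff.rfl).trans ?_
    exact Equiv.subtypeSubtypeEquivSubtypeInter
      (fun χ : Cfsg.IrrCharacter G => Cfsg.charDegree (χ : G → ℂ) = 1)
      (fun χ => (Nat.card G : ℂ)⁻¹ * ∑ g : G, (χ : G → ℂ) (g * g) = 1)
  · have hq : CfsgLib.BlockB.OverTheta.IsQuot N (fun t : I => (μ t : ℂ)) := by
      intro n t hn
      have h1 : μ (n : G) = 1 :=
        MonoidHom.mem_ker.1 (Abelianization.commutator_subset_ker μ (hle hn))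
      show (μ ((n : G) * t) : ℂ) = μ (t : G)
      rw [map_mul, h1, one_mul]
    have hirr := CfsgLib.BlockB.OverTheta.isIrr_mul D
      (CfsgLib.Char.isIrrCharacter_linear (μ.comp I.subtype)) hq
    have D' : CfsgLib.BlockB.OverTheta.Data I (φ : N → ℂ)
        ((ψ : I → ℂ) * fun t : I => (μ t : ℂ)) :=
      ⟨D.irr, D.inertia, D.le, CfsgLib.Char.irr_isCharacter hirr, fun n t ht => by
        have h1 : μ (n : G) = 1 :=
          MonoidHom.mem_ker.1 (Abelianization.commutator_subset_ker μ (hle n.2))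
        rw [Pi.mul_apply, D.ext n t ht, ht, h1, Units.val_one, mul_one]⟩
    rw [hχ]
    refine CfsgLib.BlockB.MinimalNormalExt.fs_indFun D' hirr ?_
    refine Eq.trans ?_ hν
    congr 1
    refine Finset.sum_congr rfl fun t _ => ?_
    rw [Pi.mul_apply, Subgroup.coe_mul,
      CfsgLib.BlockB.MinimalNormalExt.sq_eq_one_of_fs μ hμ, Units.val_one, mul_one]

end Cfsg.Agent.S4912
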