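import Cfsg.Statements.S4914
import Cfsg.Agent.Lib.BlockB.RelGlauberman
import Cfsg.Agent.Lib.BlockA.BlockMap
-- import your own Cfsg.Agent.* helpers here

set_option autoImplicit false
open Cfsg

namespace Cfsg.Agent.S4914

/-- Let P and K be subgroups of a finite group G with P a p-group normalizing K, and suppose K has a normal Sylow p-subgroup Q. Let C be the subgroup of those k ∈ K whose commutator with every element of P lies in Q (so that C/Q is the fixed-point subgroup of P on K/Q). Then there is a bijection f from the P-invariant irreducible complex characters of K onto the P-invariant irreducible complex characters of C such that, for every P-invariant irreducible character χ of K, the multiplicity of f(χ) in the restriction of χ to C is a natural number congruent to 1 or to −1 modulo p, every other P-invariant irreducible character of C occurs in that restriction with multiplicity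 divisible by p, and the degrees of χ and f(χ) are congruent modulo p up to sign. -/
theorem result {G : Type*} [Group G] [Finite G] (p : ℕ) [Fact p.Prime] (P K Q C : Subgroup G) (hP : IsPGroup p ↥P) (hPK : P ≤ Subgroup.normalizer (K : Set G)) (hQK : Q ≤ K) (hQn : ∀ k ∈ K, ∀ q ∈ Q, k * q * k⁻¹ ∈ Q) (hQp : ∃ a : ℕ, Nat.card ↥Q = p ^ a) (hQsyl : ¬ p ∣ Q.relIndex K) (hCK : C ≤ K) (hC : ∀ k : G, k ∈ C ↔ (k ∈ K ∧ ∀ x ∈ P, x * k * x⁻¹ * k⁻¹ ∈ Q)) : ∃ f : {χ : Cfsg.IrrCharacter ↥K // (∀ x ∈ P, ∀ k k' : ↥K, (k' : G) = x * (k : G) * x⁻¹ → (χ : ↥K → ℂ) k' = (χ : ↥K → ℂ) k)} → {ξ : Cfsg.IrrCharacter ↥C // (∀ x ∈ P, ∀ k k' : ↥C, (k' : G) = x * (k : G) * x⁻¹ → (ξ : ↥C → ℂ) k' = (ξ : ↥C → ℂ) k)}, Function.Bijective f ∧ ∀ χ, (∀ ξ : {ξ : Cfsg.IrrCharacter ↥C // (∀ x ∈ P, ∀ k k' : ↥C, (k' : G) = x * (k : G) * x⁻¹ → (ξ : ↥C → ℂ) k' = (ξ : ↥C → ℂ) k)}, ∃ m : ℕ, (Nat.card ↥C : ℂ)⁻¹ * ∑ᶠ c : ↥C, (χ.1 : ↥K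 → ℂ) (Subgroup.inclusion hCK c) * (starRingEnd ℂ) ((ξ.1 : ↥C → ℂ) c) = (m : ℂ) ∧ (ξ = f χ → ((m : ZMod p) = 1 ∨ (m : ZMod p) = -1)) ∧ (ξ ≠ f χ → p ∣ m)) ∧ ((Cfsg.charDegree ((f χ).1 : ↥C → ℂ) : ZMod p) = (Cfsg.charDegree (χ.1 : ↥K → ℂ) : ZMod p) ∨ (Cfsg.charDegree ((f χ).1 : ↥C → ℂ) : ZMod p) = -(Cfsg.charDegree (χ.1 : ↥K → ℂ) : ZMod p)) := by
  classical
  have := Fintype.ofFinite K
  letI : MulDistribMulAction P K :=
    { smul := fun s k => ⟨(s : G) * k * (s : G)⁻¹, (Subgroup.mem_normalizer_iff.1 (hPK s.2) k).1 k.2⟩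
      one_smul := fun k => Subtype.ext (by
        show (1 : G) * k * (1 : G)⁻¹ = k
        simp)
      mul_smul := fun a b k => Subtype.ext (by
        show ((a * b : P) : G) * k * ((a * b : P) : G)⁻¹ = a * (b * k * (b : G)⁻¹) * (a : G)⁻¹
        simp [mul_assoc])
      smul_mul := fun a x y => Subtype.ext (by
        show (a : G) * (x * y : K) * (a : G)⁻¹ = a * x * (a : G)⁻¹ * (a * y * (a : G)⁻¹)
        simp [mul_assoc])
      smul_one := fun a => Subtype.ext (by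
        show (a : G) * (1 : K) * (a : G)⁻¹ = 1
        simp) }
  let N := Q.subgroupOf K
  have hN : N.Normal := ⟨fun n hn k => Subgroup.mem_subgroupOf.2 (by
    simpa using hQn k k.2 n (Subgroup.mem_subgroupOf.1 hn))⟩
  have hidx : ¬ p ∣ N.index := hQsyl
  have hNp : IsPGroup p N := by
    obtain ⟨a, ha⟩ := hQp
    refine IsPGroup.of_card (n := a) ?_
    rw [← ha]
    exact Nat.card_congr (Subgroup.subgroupOfEquivOfLe hQK).toEquiv
  let C' := C.subgroupOf K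
  have := Fintype.ofFinite C'
  have := Fintype.ofFinite C
  have hQC : ∀ k ∈ K, ∀ x ∈ P, x * k * x⁻¹ ∈ K := fun k hk x hx =>
    (Subgroup.mem_normalizer_iff.1 (hPK hx) k).1 hk
  have hC' : ∀ g : K, g ∈ C' ↔ ∀ s : P, (s • g) * g⁻¹ ∈ N := fun g => by
    rw [Subgroup.mem_subgroupOf, hC]
    constructor
    · intro h s
      exact Subgroup.mem_subgroupOf.2 (h.2 s s.2)
    · intro h
      exact ⟨g.2, fun x hx => Subgroup.mem_subgroupOf.1 (h ⟨x, hx⟩)⟩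
  have hQinv : ∀ (s : P) (n : K), n ∈ N → s • n ∈ N := by
    intro s n hn
    -- `Q` is the unique Sylow subgroup of `K`
    rw [Subgroup.mem_subgroupOf]
    show (s : G) * n * (s : G)⁻¹ ∈ Q
    obtain ⟨a, ha⟩ := hQp
    have hR : IsPGroup p (Q.map (MulAut.conj (s : G)).toMonoidHom) :=
      (IsPGroup.of_card ha).map _
    let y : K := ⟨(s : G) * n * (s : G)⁻¹, hQC n n.2 s s.2⟩
    obtain ⟨k, hk⟩ := hR ⟨(y : G), ⟨n, Subgroup.mem_subgroupOf.1 hn, rfl⟩⟩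
    have hyk : y ^ (p ^ k) = 1 := Subtype.ext (congrArg Subtype.val hk : _)
    refine Subgroup.mem_subgroupOf.1 (show y ∈ N from (QuotientGroup.eq_one_iff y).1 ?_)
    have h1 : orderOf (y : K ⧸ N) ∣ p ^ k := orderOf_dvd_of_pow_eq_one (by
      rw [← QuotientGroup.mk_pow, hyk, QuotientGroup.mk_one])
    have h2 : orderOf (y : K ⧸ N) ∣ N.index := orderOf_dvd_natCard _
    have h3 : Nat.Coprime (p ^ k) N.index :=
      ((Fact.out : p.Prime).coprime_iff_not_dvd.2 hidx).pow_left k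
    exact orderOf_eq_one_iff.1 (Nat.eq_one_of_dvd_coprimes h3 h1 h2)
  obtain ⟨f, hf, hfs⟩ := CfsgLib.BlockB.RelGlauberman.exists_bijection (S := P) N C' hP hQinv hidx
    hNp hC'
  let e : C ≃* C' := (Subgroup.subgroupOfEquivOfLe hCK).symm
  have hin : ∀ χ : {χ : Cfsg.IrrCharacter K //
      (∀ x ∈ P, ∀ k k' : K, (k' : G) = x * (k : G) * x⁻¹ → (χ : K → ℂ) k' = (χ : K → ℂ) k)},
      CfsgLib.BlockA.IsInv P (χ.1 : K → ℂ) := fun χ s k => χ.2 s s.2 k (s • k) rfl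
  have hout : ∀ ξ : {ξ : Cfsg.IrrCharacter C' // ∀ (s : P) (c c' : C'), (c' : K) = s • (c : K) →
      (ξ : C' → ℂ) c' = (ξ : C' → ℂ) c}, ∀ x ∈ P, ∀ k k' : C, (k' : G) = x * (k : G) * x⁻¹ →
      (CfsgLib.BlockA.irrMap e ξ.1 : C → ℂ) k' = (CfsgLib.BlockA.irrMap e ξ.1 : C → ℂ) k :=
    fun ξ x hx k k' h => ξ.2 ⟨x, hx⟩ (e k) (e k') (Subtype.ext h)
  let F : {χ : Cfsg.IrrCharacter K //
      (∀ x ∈ P, ∀ k k' : K, (k' : G) = x * (k : G) * x⁻¹ → (χ : K → ℂ) k' = (χ : K → ℂ) k)} →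
      {ξ : Cfsg.IrrCharacter C //
      (∀ x ∈ P, ∀ k k' : C, (k' : G) = x * (k : G) * x⁻¹ → (ξ : C → ℂ) k' = (ξ : C → ℂ) k)} :=
    fun χ => ⟨CfsgLib.BlockA.irrMap e (f ⟨χ.1, hin χ⟩).1, hout _⟩
  refine ⟨F, ⟨fun χ χ' h => ?_, fun ξ => ?_⟩, fun χ => ⟨fun ξ => ?_, ?_⟩⟩
  · have h1 := hf.1 (Subtype.ext (CfsgLib.BlockA.irrMap_injective e (congrArg Subtype.val h)))
    exact Subtype.ext (congrArg (fun y => y.1) h1)
  · have hξ : ∀ (s : P) (c c' : C'), (c' : K) = s • (c : K) →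
        (CfsgLib.BlockA.irrMap e.symm ξ.1 : C' → ℂ) c' =
          (CfsgLib.BlockA.irrMap e.symm ξ.1 : C' → ℂ) c := fun s c c' h =>
      ξ.2 s s.2 (e.symm c) (e.symm c') (congrArg Subtype.val h)
    obtain ⟨χ, hχ⟩ := hf.2 ⟨_, hξ⟩
    refine ⟨⟨χ.1, fun x hx k k' h => ?_⟩, Subtype.ext ?_⟩
    · rw [show k' = (⟨x, hx⟩ : P) • k from Subtype.ext h]
      exact χ.2 ⟨x, hx⟩ k
    · show CfsgLib.BlockA.irrMap e (f ⟨χ.1, _⟩).1 = ξ.1
      rw [hχ, CfsgLib.BlockA.irrMap_irrMap_symm]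
  · obtain ⟨m, hm, h1, h2⟩ := (hfs ⟨χ.1, hin χ⟩).1 ⟨CfsgLib.BlockA.irrMap e.symm ξ.1,
      fun s c c' h => ξ.2 s s.2 (e.symm c) (e.symm c') (congrArg Subtype.val h)⟩
    refine ⟨m, ?_, fun he => h1 (Subtype.ext ?_), fun he => h2 fun he' => he (Subtype.ext ?_)⟩
    · rw [← hm, CfsgLib.Char.classInner_def, finsum_eq_sum_of_fintype,
        Nat.card_congr e.toEquiv]
      congr 1
      exact Fintype.sum_equiv e.toEquiv _ _ fun c => rfl
    · rw [he]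
      exact CfsgLib.BlockA.irrMap_symm_irrMap e _
    · show ξ.1 = CfsgLib.BlockA.irrMap e (f ⟨χ.1, _⟩).1
      rw [← he', CfsgLib.BlockA.irrMap_irrMap_symm]
  · have hd : ∀ ξ : Cfsg.IrrCharacter C', Cfsg.charDegree (CfsgLib.BlockA.irrMap e ξ : C → ℂ) =
        Cfsg.charDegree (ξ : C' → ℂ) := fun ξ => by
      show ⌊((ξ : C' → ℂ) (e 1)).re⌋₊ = _
      rw [map_one]
      rfl
    show ((Cfsg.charDegree (CfsgLib.BlockA.irrMap e (f ⟨χ.1, hin χ⟩).1 : C → ℂ) : ZMod p) = _) ∨ _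
    simp only [hd]
    exact (hfs ⟨χ.1, hin χ⟩).2

end Cfsg.Agent.S4914
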