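import Cfsg.Statements.S4916
import Cfsg.Agent.Lib.BlockB.PrincipalKer

set_option autoImplicit false
open Cfsg

namespace Cfsg.Agent.S4916

/-- Let G be a finite group, p a prime and M a maximal ideal of the algebraic integers containing p. Then the principal character is the only irreducible character of degree prime to p in the principal p-block of G if and only if p does not divide the order of G. -/
theorem result {G : Type*} [Group G] [Finite G] (p : ℕ) [Fact p.Prime] (M : Ideal Cfsg.AlgInt) (hM : Cfsg.IsPModular p M) : (∀ χ : Cfsg.IrrCharacter G, χ ∈ Cfsg.principalBlock M G → ¬ p ∣ Cfsg.charDegree (χ : G → ℂ) → (χ : G → ℂ) = fun _ => (1 : ℂ)) ↔ ¬ p ∣ Nat.card G := by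
  classical
  have := Fintype.ofFinite G
  have := Fintype.ofFinite (Cfsg.IrrCharacter G)
  have := CfsgLib.Block.isPrime_of_pmodular hM
  let χ0 : Cfsg.IrrCharacter G := ⟨fun _ => 1, CfsgLib.Char.isIrrCharacter_one⟩
  constructor
  · intro h hd
    have h1 := CfsgLib.BlockB.prime_dvd_sum_degree_sq (G := G) hM hd
    have h0 : Cfsg.charDegree (χ0 : G → ℂ) = 1 := by simp [Cfsg.charDegree, χ0]
    rw [← Finset.add_sum_erase _ _ (show χ0 ∈ _ from Finset.mem_filter.2
      ⟨Finset.mem_univ _, CfsgLib.Block.one_mem_principalBlock⟩), h0, one_pow] at h1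
    refine hM.1.not_dvd_one ((Nat.dvd_add_left (Finset.dvd_sum fun χ hχ => ?_)).1 h1)
    obtain ⟨hne, hmem⟩ := Finset.mem_erase.1 hχ
    refine dvd_pow ?_ two_ne_zero
    by_contra hnd
    exact hne (Subtype.ext (h χ (Finset.mem_filter.1 hmem).2 hnd))
  · intro hd χ hχ _
    have hker := CfsgLib.BlockB.normal_le_ker_principal hM (⊤ : Subgroup G)
      (by rwa [Subgroup.card_top]) hχ
    have hc : ∀ g, (χ : G → ℂ) g = (χ : G → ℂ) 1 := fun g => hker g (Subgroup.mem_top g)
    have hs := CfsgLib.Char.irr_classInner_self χ.2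
    obtain ⟨d, hd'⟩ := CfsgLib.Char.char_apply_one_eq_nat (CfsgLib.Char.irr_isCharacter χ.2)
    simp only [CfsgLib.Char.classInner_def, hc, Finset.sum_const, Finset.card_univ, nsmul_eq_mul,
      ← Nat.card_eq_fintype_card, ← mul_assoc, inv_mul_cancel₀ CfsgLib.Char.natCard_ne_zero,
      one_mul, hd', Complex.conj_natCast] at hs
    have : d = 1 := Nat.eq_one_of_mul_eq_one_right (m := d) (n := d) (by exact_mod_cast hs)
    funext g
    rw [hc, hd', this, Nat.cast_one]

end Cfsg.Agent.S4916
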