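import Cfsg.Statements.S4931
import Cfsg.Agent.Lib.BlockB.ExtendNormalizer
-- import your own Cfsg.Agent.* helpers here

set_option autoImplicit false
open Cfsg

namespace Cfsg.Agent.S4931

/-- Let G be a finite group, p a prime and P a Sylow p-subgroup of G with normalizer N. Then every irreducible complex character of N of degree not divisible by p is the restriction of an irreducible character of G if and only if there is a normal subgroup K of G with KN = G and K ∩ N = 1. -/
theorem result {G : Type*} [Group G] [Finite G] (p : ℕ) [Fact p.Prime] (P : Sylow p G) :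
    (∀ θ : Cfsg.IrrCharacter ↥(Subgroup.normalizer ((P : Subgroup G) : Set G)), ¬ p ∣ Cfsg.charDegree (θ : ↥(Subgroup.normalizer ((P : Subgroup G) : Set G)) → ℂ) →
        ∃ χ : Cfsg.IrrCharacter G, ∀ x : ↥(Subgroup.normalizer ((P : Subgroup G) : Set G)), (χ : G → ℂ) x = (θ : ↥(Subgroup.normalizer ((P : Subgroup G) : Set G)) → ℂ) x) ↔
      ∃ K : Subgroup G, K.Normal ∧ K ⊔ Subgroup.normalizer ((P : Subgroup G) : Set G) = ⊤ ∧ K ⊓ Subgroup.normalizer ((P : Subgroup G) : Set G) = ⊥ := by
  refine ⟨CfsgLib.BlockB.ExtendNormalizer.exists_complement P, ?_⟩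
  rintro ⟨K, hK, hsup, hinf⟩
  set N := Subgroup.normalizer ((P : Subgroup G) : Set G) with hNdef
  intro θ _
  let f : N →* G ⧸ K := (QuotientGroup.mk' K).comp N.subtype
  have hinj : Function.Injective f := by
    rw [injective_iff_map_eq_one]
    intro x hx
    have h1 : (x : G) ∈ K ⊓ N := ⟨(QuotientGroup.eq_one_iff (x : G)).1 hx, x.2⟩
    rw [hinf, Subgroup.mem_bot] at h1
    exact Subtype.ext h1
  have hsurj : Function.Surjective f := by
    intro z
    obtain ⟨g, rfl⟩ := QuotientGroup.mk'_surjective K z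
    obtain ⟨k, hk, n, hn, hkn⟩ := Subgroup.mem_sup_of_normal_left.1 (hsup ▸ Subgroup.mem_top g)
    refine ⟨⟨n, hn⟩, ?_⟩
    show QuotientGroup.mk' K n = QuotientGroup.mk' K g
    rw [← hkn, map_mul, QuotientGroup.mk'_apply K k, (QuotientGroup.eq_one_iff k).2 hk, one_mul]
  let e : N ≃* G ⧸ K := MulEquiv.ofBijective f ⟨hinj, hsurj⟩
  refine ⟨⟨(θ : N → ℂ) ∘ e.symm.toMonoidHom.comp (QuotientGroup.mk' K),
    CfsgLib.Char.isIrrCharacter_comp_surjective θ.2 _
      (e.symm.surjective.comp (QuotientGroup.mk'_surjective K))⟩, fun x => ?_⟩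
  show (θ : N → ℂ) (e.symm (QuotientGroup.mk' K (x : G))) = (θ : N → ℂ) x
  rw [show QuotientGroup.mk' K (x : G) = e x from rfl, MulEquiv.symm_apply_apply]

end Cfsg.Agent.S4931
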