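import Cfsg.Statements.S4937
import Cfsg.Agent.Lib.BlockB.OrbitScalar
-- import your own Cfsg.Agent.* helpers here

set_option autoImplicit false
open Cfsg

namespace Cfsg.Agent.S4937

/-- Let G be a finite group, p a prime, M a maximal ideal of the algebraic integers containing p, N a normal subgroup of G and P a Sylow p-subgroup of N such that G = N·C_G(P). Let θ be an irreducible character in the principal p-block of N that is the restriction of some irreducible character of G. Then θ is the restriction of an irreducible character χ of G lying in the principal p-block of G such that, for every subgroup J of G containing N, the restriction of χ to J is an irreducible character of J lying in the principal p-block of J. -/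
theorem result {G : Type*} [Group G] [Finite G] (p : ℕ) [Fact p.Prime] (M : Ideal Cfsg.AlgInt) (hM : Cfsg.IsPModular p M) (N : Subgroup G) [N.Normal] (P : Sylow p ↥N)
    (hcov : N ⊔ Subgroup.centralizer (((P : Subgroup ↥N).map N.subtype : Subgroup G) : Set G) = ⊤)
    (θ : Cfsg.IrrCharacter ↥N) (hθ : θ ∈ Cfsg.principalBlock M ↥N)
    (hext : ∃ ψ : Cfsg.IrrCharacter G, ∀ x : ↥N, (ψ : G → ℂ) x = (θ : ↥N → ℂ) x) :
    ∃ χ : Cfsg.IrrCharacter G, χ ∈ Cfsg.principalBlock M G ∧ (∀ x : ↥N, (χ : G → ℂ) x = (θ : ↥N → ℂ) x) ∧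
      ∀ J : Subgroup G, N ≤ J → ∃ ξ : Cfsg.IrrCharacter ↥J, ξ ∈ Cfsg.principalBlock M ↥J ∧ ∀ y : ↥J, (ξ : ↥J → ℂ) y = (χ : G → ℂ) y := by
  have := Fintype.ofFinite G
  have := Fintype.ofFinite N
  obtain ⟨ψ, hψ⟩ := hext
  obtain ⟨lam, hlN, -, -, hgood⟩ := CfsgLib.BlockB.OrbitScalar.exists_twist
    (CfsgLib.Char.irr_isCharacter ψ.2) hψ hM hθ P ⊤ (by
      intro h
      have hh : (h : G) ∈ N ⊔ Subgroup.centralizer
          (((P : Subgroup ↥N).map N.subtype : Subgroup G) : Set G) := by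
        rw [hcov]; exact Subgroup.mem_top _
      obtain ⟨n, hn, c, hc, he⟩ := Subgroup.mem_sup_of_normal_left.1 hh
      refine ⟨⟨c, Subgroup.mem_top c⟩,
        fun x hx => Subgroup.mem_centralizer_iff.1 hc _ ⟨x, hx, rfl⟩, ?_⟩
      show (h : G)⁻¹ * c ∈ N
      rw [← he, show (n * c)⁻¹ * c = c⁻¹ * n⁻¹ * c⁻¹⁻¹ by group]
      exact (inferInstance : N.Normal).conj_mem _ (N.inv_mem hn) _)
  let l : G →* ℂˣ := lam.comp Subgroup.topEquiv.symm.toMonoidHom
  have hl : ∀ n ∈ N, l n = 1 := fun n hn => hlN _ hn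
  have hcoset : ∀ g a : G, a ∈ CfsgLib.BlockA.subOrbit N g → (l a : ℂ) = l g := by
    intro g a ha
    obtain ⟨n, rfl⟩ := (CfsgLib.BlockA.mem_subOrbit N).1 ha
    rw [map_mul, map_mul, map_inv, hl _ n.2]
    simp
  let χ' : G → ℂ := fun g => (l g : ℂ) * (ψ : G → ℂ) g
  have hχc : Cfsg.IsCharacter G χ' := CfsgLib.Char.isCharacter_mul
    (CfsgLib.Char.irr_isCharacter (CfsgLib.Char.isIrrCharacter_linear l))
    (CfsgLib.Char.irr_isCharacter ψ.2)
  have hχN : ∀ x : N, χ' x = (θ : N → ℂ) x := fun x => by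
    show (l (x : G) : ℂ) * _ = _
    rw [hl _ x.2, Units.val_one, one_mul, hψ]
  have hA : ∀ g : G, Cfsg.MemLocalIdeal M (CfsgLib.BlockB.OrbitScalar.A N χ' g -
      ((CfsgLib.BlockA.subOrbit N g).card : ℂ)) := fun g => by
    rw [CfsgLib.BlockB.OrbitScalar.A_smul N (ψ : G → ℂ) (fun g => (l g : ℂ)) (by simp)
      (hcoset g)]
    exact hgood ⟨g, Subgroup.mem_top g⟩
  let χ : Cfsg.IrrCharacter G := ⟨χ', CfsgLib.BlockB.OrbitScalar.isIrr_comp hχc hχN
    (MonoidHom.id G) Function.injective_id (fun x _ => ⟨x, rfl⟩)⟩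
  refine ⟨χ, CfsgLib.BlockB.OrbitScalar.mem_principalBlock hχc hχN hM (MonoidHom.id G)
    Function.injective_id (fun x _ => ⟨x, rfl⟩) hA fun _ => rfl, hχN, fun J hJ => ?_⟩
  have := Fintype.ofFinite J
  exact ⟨⟨_, CfsgLib.BlockB.OrbitScalar.isIrr_comp hχc hχN J.subtype J.subtype_injective
    (fun x hx => ⟨⟨x, hJ hx⟩, rfl⟩)⟩, CfsgLib.BlockB.OrbitScalar.mem_principalBlock hχc hχN hM
    J.subtype J.subtype_injective (fun x hx => ⟨⟨x, hJ hx⟩, rfl⟩) (fun j => hA j) fun _ => rfl,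
    fun _ => rfl⟩

end Cfsg.Agent.S4937
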