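import Cfsg.Statements.S4949
import Cfsg.Agent.Lib.BlockA.AltHeights

set_option autoImplicit false
open Cfsg

namespace Cfsg.Agent.S4949

/-- Let n be a natural number, p a prime, M a maximal ideal of the algebraic integers containing p, B a p-block of the alternating group of degree n and D a defect group of B. Then either B contains an irreducible character of height 1 and D has an irreducible complex character of degree p, or every irreducible character of B has height zero and D is commutative (so the least positive height in B and the least positive exponent of a character degree of D are both 1 or both absent). -/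
theorem result (n : ℕ) (p : ℕ) [Fact p.Prime] (M : Ideal Cfsg.AlgInt) (hM : Cfsg.IsPModular p M) (B : Set (Cfsg.IrrCharacter ↥(alternatingGroup (Fin n)))) (hB : Cfsg.IsPBlock M B) (D : Subgroup ↥(alternatingGroup (Fin n))) (hD : Cfsg.IsDefectGroup p M B D) :
    ((∃ χ : Cfsg.IrrCharacter ↥(alternatingGroup (Fin n)), χ ∈ B ∧ Cfsg.blockHeight p B (χ : ↥(alternatingGroup (Fin n)) → ℂ) = 1) ∧ (∃ φ : Cfsg.IrrCharacter ↥D, Cfsg.charDegree (φ : ↥D → ℂ) = p)) ∨
    ((∀ χ : Cfsg.IrrCharacter ↥(alternatingGroup (Fin n)), χ ∈ B → Cfsg.blockHeight p B (χ : ↥(alternatingGroup (Fin n)) → ℂ) = 0) ∧ IsMulCommutative D) := by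
  rcases Nat.lt_or_ge n 2 with hn | hn
  · right
    have hsub : Subsingleton (Fin n) := Fintype.card_le_one_iff_subsingleton.1 (by simp; omega)
    have : Subsingleton ↥(alternatingGroup (Fin n)) :=
      ⟨fun a b => Subtype.ext (Equiv.ext fun i => Subsingleton.elim _ _)⟩
    refine ⟨fun χ hχ => ?_, ⟨⟨fun a b => Subtype.ext (Subsingleton.elim _ _)⟩⟩⟩
    have h := CfsgLib.Clifford.Degrees.charDegree_dvd_card χ.2
    rw [Nat.card_unique, Nat.dvd_one] at h
    unfold blockHeight
    rw [h, Nat.factorization_one]
    simp
  · have : Nontrivial (Fin n) := Fin.nontrivial_iff_two_le.2 hn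
    exact CfsgLib.BlockA.SymBlock.alt_height_dichotomy hM hB hD

end Cfsg.Agent.S4949
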