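import Cfsg.Statements.S4955
import Cfsg.Agent.Lib.BlockB.PEltValue
import Cfsg.Agent.Lib.BlockB.Codegree
import Cfsg.Agent.Lib.Clifford.Degree

set_option autoImplicit false
open Cfsg

namespace Cfsg.Agent.S4955

/-- Let X be a finite group with an abelian normal Sylow p-subgroup V (a normal p-subgroup of index prime to p in which any two elements commute), and let G be a complement to V in X. Then for every v in V, writing C for the centralizer of v in G, the number k(X) of conjugacy classes of X satisfies k(X) ≤ (order of C)·(order of V) − ((order of G) − k(G)); the statement is written with the subtracted term moved to the left. In particular, if some v in V is centralized by no nonidentity element of G, then k(X) is at most the order of V. -/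
theorem result {X : Type*} [Group X] [Finite X] (p : ℕ) [Fact p.Prime] (V : Subgroup X) [V.Normal] (hVp : IsPGroup p V) (hidx : ¬ p ∣ V.index) (hab : ∀ a ∈ V, ∀ b ∈ V, a * b = b * a) (G : Subgroup X) (hGV : Subgroup.IsComplement' V G) (v : X) (hv : v ∈ V) : Nat.card (ConjClasses X) + Nat.card G ≤ Nat.card ↥(G ⊓ Subgroup.centralizer ({v} : Set X)) * Nat.card V + Nat.card (ConjClasses G) := by
  classical
  have := Fintype.ofFinite X
  have := Fintype.ofFinite V
  have := Fintype.ofFinite (Cfsg.IrrCharacter X)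
  have := Fintype.ofFinite (Cfsg.IrrCharacter (X ⧸ V))
  have hdeg : ∀ χ : Cfsg.IrrCharacter X, ¬ p ∣ Cfsg.charDegree (χ : X → ℂ) := by
    intro χ hd
    have hres : Cfsg.IsCharacter V (fun y : V => (χ : X → ℂ) y) :=
      CfsgLib.Char.isCharacter_restrict (CfsgLib.Char.irr_isCharacter χ.2) V
    obtain ⟨θ, hθ, hne⟩ : ∃ θ : V → ℂ, Cfsg.IsIrrCharacter V θ ∧
        Cfsg.classInner (fun y : V => (χ : X → ℂ) y) θ ≠ 0 := by
      by_contra hno
      push Not at hno
      have hz : (fun y : V => (χ : X → ℂ) y) = 0 := CfsgLib.Char.classFunction_eq_zero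
        (CfsgLib.Char.isCharacter_isClassFunction hres) hno
      exact CfsgLib.Char.irr_apply_one_ne_zero χ.2 (congr_fun hz 1)
    obtain ⟨e, he, hedvd⟩ := CfsgLib.Clifford.degree_quot_dvd_index χ.2 hθ hne
    rw [CfsgLib.Char.irr_degree_one_of_comm (fun a b => Subtype.ext (hab a a.2 b b.2)) hθ,
      mul_one, ← CfsgLib.BlockB.irr_degree_cast χ] at he
    have he' : Cfsg.charDegree (χ : X → ℂ) = e := by exact_mod_cast he
    exact hidx ((he' ▸ hd).trans hedvd)
  obtain ⟨j, hj⟩ := IsPGroup.iff_orderOf.1 hVp ⟨v, hv⟩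
  rw [Subgroup.orderOf_mk] at hj
  have hne : ∀ χ : Cfsg.IrrCharacter X, (χ : X → ℂ) v ≠ 0 := fun χ =>
    CfsgLib.BlockB.char_ne_zero_of_not_dvd_degree (CfsgLib.Char.irr_isCharacter χ.2) hj (hdeg χ)
  let K : Finset (Cfsg.IrrCharacter X) :=
    Finset.univ.filter fun χ => ∀ n ∈ V, (χ : X → ℂ) n = (χ : X → ℂ) 1
  have hrest : ((Kᶜ).card : ℝ) ≤ ∑ χ ∈ Kᶜ, ‖(χ : X → ℂ) v‖ ^ 2 := by
    have h := CfsgLib.BlockB.card_le_sum_norm_pow Kᶜ (fun χ k => (χ : X → ℂ) (v ^ k))
      (n := Nat.card X) Nat.card_pos.ne'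
      (fun χ _ => CfsgLib.BlockB.isCyclo_char (CfsgLib.Char.irr_isCharacter χ.2) v) ?_
      (fun χ _ => by simpa using hne χ) 2
    · simpa using h
    · intro k hk
      obtain ⟨e, he⟩ := CfsgLib.BlockB.exists_galIrr_perm hk Kᶜ (fun χ hχ => by
        simp only [K, Finset.mem_compl, Finset.mem_filter, Finset.mem_univ, true_and] at hχ ⊢
        intro h
        apply hχ
        intro n hn
        obtain ⟨m, hm⟩ := (powCoprime hk.symm).surjective n
        have hm' : m ^ k = n := hm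
        have h2 : (χ : X → ℂ) (m ^ k) = (χ : X → ℂ) ((1 : X) ^ k) :=
          h m ((CfsgLib.BlockA.pow_mem_iff_of_coprime hk V m).1 (hm' ▸ hn))
        rwa [hm', one_pow] at h2)
      exact ⟨e, fun χ => by simp [he, CfsgLib.BlockB.galIrr]⟩
  have hKsum : ∑ χ ∈ K, ‖(χ : X → ℂ) v‖ ^ 2 = (Nat.card (X ⧸ V) : ℝ) := by
    have h := CfsgLib.BlockB.sum_degree_sq (G := X ⧸ V)
    have h' : ((∑ ψ : Cfsg.IrrCharacter (X ⧸ V), Cfsg.charDegree (ψ : X ⧸ V → ℂ) ^ 2 : ℕ) : ℝ) =
        (Nat.card (X ⧸ V) : ℝ) := by rw [h]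
    rw [← h', Nat.cast_sum, Finset.sum_subtype K (p := fun χ : Cfsg.IrrCharacter X =>
      ∀ n ∈ V, (χ : X → ℂ) n = (χ : X → ℂ) 1) (by simp [K]),
      ← (CfsgLib.BlockB.quotIrrEquiv V).sum_comp]
    refine Finset.sum_congr rfl fun ψ _ => ?_
    rw [CfsgLib.BlockB.quotIrrEquiv_apply, (QuotientGroup.eq_one_iff v).2 hv,
      ← CfsgLib.BlockB.irr_degree_cast ψ, Complex.norm_natCast, Nat.cast_pow]
  have hKcard : K.card = Nat.card (ConjClasses (X ⧸ V)) := by
    rw [← CfsgLib.Char.irr_card_eq, Nat.card_congr (CfsgLib.BlockB.quotIrrEquiv V),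
      Nat.card_eq_fintype_card, Fintype.card_subtype]
  have htot : ∑ χ : Cfsg.IrrCharacter X, ‖(χ : X → ℂ) v‖ ^ 2 =
      (Nat.card (Subgroup.centralizer ({v} : Set X)) : ℝ) := by
    have h := CfsgLib.Char.column_orthogonality v v
    rw [if_pos (IsConj.refl v)] at h
    simp only [Complex.mul_conj', ← Complex.ofReal_pow, ← Complex.ofReal_sum] at h
    exact_mod_cast h
  have hcent : Nat.card (Subgroup.centralizer ({v} : Set X)) =
      Nat.card ↥(G ⊓ Subgroup.centralizer ({v} : Set X)) * Nat.card V := by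
    rw [mul_comm, ← Nat.card_prod]
    symm
    refine Nat.card_eq_of_bijective (fun q => ⟨(q.1 : X) * (q.2 : X), ?_⟩) ⟨?_, ?_⟩
    · refine Subgroup.mul_mem _ ?_ q.2.2.2
      exact Subgroup.mem_centralizer_singleton_iff.2 (hab _ q.1.2 v hv)
    · rintro ⟨a, g⟩ ⟨a', g'⟩ e
      have e' : (a : X) * g = (a' : X) * g' := congrArg Subtype.val e
      have := hGV.injective (a₁ := (⟨a, a.2⟩, ⟨g, g.2.1⟩)) (a₂ := (⟨a', a'.2⟩, ⟨g', g'.2.1⟩)) e'
      simp only [Prod.mk.injEq] at this
      exact Prod.ext (Subtype.ext (congrArg Subtype.val this.1 :))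
        (Subtype.ext (congrArg Subtype.val this.2 :))
    · rintro ⟨x, hx⟩
      obtain ⟨⟨⟨a, ha⟩, ⟨g, hg⟩⟩, rfl⟩ := hGV.surjective x
      refine ⟨(⟨a, ha⟩, ⟨g, hg, ?_⟩), rfl⟩
      have hac : a ∈ Subgroup.centralizer ({v} : Set X) :=
        Subgroup.mem_centralizer_singleton_iff.2 (hab a ha v hv)
      exact (Subgroup.mul_mem_cancel_left _ hac).1 hx
  have hquot : Nonempty (X ⧸ V ≃* G) := ⟨hGV.symm.QuotientMulEquiv.symm.symm⟩
  obtain ⟨e⟩ := hquot
  have hclass : Nat.card (ConjClasses (X ⧸ V)) = Nat.card (ConjClasses G) :=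
    Nat.card_congr (Equiv.ofBijective (ConjClasses.map e.toMonoidHom)
      ⟨fun a b h => by
        obtain ⟨a, rfl⟩ := ConjClasses.mk_surjective a
        obtain ⟨b, rfl⟩ := ConjClasses.mk_surjective b
        obtain ⟨c, hc⟩ := isConj_iff.1 (ConjClasses.mk_eq_mk_iff_isConj.1 h)
        refine ConjClasses.mk_eq_mk_iff_isConj.2 (isConj_iff.2 ⟨e.symm c, e.injective ?_⟩)
        simpa using hc,
      ConjClasses.map_surjective e.surjective⟩)
  rw [← Finset.sum_add_sum_compl K, hKsum, hcent, Nat.card_congr e.toEquiv, Nat.cast_mul] at htot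
  have hk : Nat.card (ConjClasses X) = Kᶜ.card + Nat.card (ConjClasses G) := by
    rw [← CfsgLib.Char.irr_card_eq, Nat.card_eq_fintype_card, ← hclass, ← hKcard,
      add_comm, Finset.card_add_card_compl]
  have hfin : ((Nat.card (ConjClasses X) + Nat.card G : ℕ) : ℝ) ≤
      ((Nat.card ↥(G ⊓ Subgroup.centralizer ({v} : Set X)) * Nat.card V +
        Nat.card (ConjClasses G) : ℕ) : ℝ) := by
    rw [hk]
    push_cast
    linarith
  exact_mod_cast hfin

end Cfsg.Agent.S4955
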