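import Cfsg.Statements.S4956
import Cfsg.Agent.Lib.BlockB.SplitAbelian

set_option autoImplicit false
open Cfsg

namespace Cfsg.Agent.S4956

/-- Let X be a finite group, V an abelian normal subgroup of X (any two elements of V commute) and G a complement to V in X whose order is coprime to that of V. Let S be a set of representatives of the orbits of G on V under conjugation: S lies in V and every element of V is conjugate under G to exactly one member of S. Then the number of conjugacy classes of X equals the sum, over s in S, of the number of conjugacy classes of the centralizer of s in G. -/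
theorem result {X : Type*} [Group X] [Finite X] (V : Subgroup X) [V.Normal] (hab : ∀ a ∈ V, ∀ b ∈ V, a * b = b * a) (G : Subgroup X) (hGV : Subgroup.IsComplement' V G) (hcop : (Nat.card V).Coprime (Nat.card G)) (S : Finset X) (hSV : ∀ s ∈ S, s ∈ V) (hrep : ∀ v ∈ V, ∃! s, s ∈ S ∧ ∃ g ∈ G, g * v * g⁻¹ = s) : Nat.card (ConjClasses X) = ∑ s ∈ S, Nat.card (ConjClasses ↥(G ⊓ Subgroup.centralizer ({s} : Set X))) := by
  classical
  let C : X → Subgroup X := fun s => G ⊓ Subgroup.centralizer ({s} : Set X)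
  have hC : ∀ {s c : X}, c ∈ C s ↔ c ∈ G ∧ c * s = s * c := fun {s c} => by
    simp only [C, Subgroup.mem_inf, Subgroup.mem_centralizer_singleton_iff]
  let F : (Σ s : {s // s ∈ S}, ConjClasses ↥(C s.1)) → ConjClasses X := fun q =>
    Quotient.liftOn q.2 (fun c => ConjClasses.mk (q.1.1 * (c : X))) (by
      intro a b hab'
      obtain ⟨k, hk⟩ := isConj_iff.1 hab'
      refine ConjClasses.mk_eq_mk_iff_isConj.2 (isConj_iff.2 ⟨(k : X), ?_⟩)
      have hks : (k : X) * q.1.1 * (k : X)⁻¹ = q.1.1 := by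
        rw [(hC.1 k.2).2, mul_inv_cancel_right]
      have hb : (k : X) * (a : X) * (k : X)⁻¹ = (b : X) := by simpa using congrArg Subtype.val hk
      calc (k : X) * (q.1.1 * (a : X)) * (k : X)⁻¹
          = ((k : X) * q.1.1 * (k : X)⁻¹) * ((k : X) * (a : X) * (k : X)⁻¹) := by group
        _ = q.1.1 * (b : X) := by rw [hks, hb])
  have hbij : Function.Bijective F := by
    constructor
    · rintro ⟨⟨s, hs⟩, c⟩ ⟨⟨s', hs'⟩, c'⟩ he
      obtain ⟨c, rfl⟩ := ConjClasses.mk_surjective c
      obtain ⟨c', rfl⟩ := ConjClasses.mk_surjective c'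
      have he' : IsConj (s * (c : X)) (s' * (c' : X)) := ConjClasses.mk_eq_mk_iff_isConj.1 he
      obtain ⟨k, hk, hk1, hk2⟩ := CfsgLib.BlockB.exists_conj_in_complement hab hGV hcop
        (hSV s hs) (hC.1 c.2).1 (hC.1 c.2).2.symm (hSV s' hs') (hC.1 c'.2).1 (hC.1 c'.2).2.symm he'
      have hss : s = s' := by
        obtain ⟨t, ht, htu⟩ := hrep s (hSV s hs)
        exact (htu s ⟨hs, 1, G.one_mem, by simp⟩).trans (htu s' ⟨hs', k, hk, hk1⟩).symm
      subst hss
      have hkC : k ∈ C s := hC.2 ⟨hk, mul_inv_eq_iff_eq_mul.1 hk1⟩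
      have : ConjClasses.mk c = ConjClasses.mk c' := ConjClasses.mk_eq_mk_iff_isConj.2
        (isConj_iff.2 ⟨⟨k, hkC⟩, Subtype.ext (by simpa using hk2)⟩)
      rw [this]
    · intro q
      obtain ⟨x, rfl⟩ := ConjClasses.mk_surjective q
      obtain ⟨v, g, hv, hg, hvg, hx⟩ := CfsgLib.BlockB.exists_conj_pair hab hGV hcop x
      obtain ⟨s, ⟨hs, k, hk, hks⟩, -⟩ := hrep v hv
      have hc : k * g * k⁻¹ ∈ C s := by
        refine hC.2 ⟨G.mul_mem (G.mul_mem hk hg) (G.inv_mem hk), ?_⟩
        rw [← hks]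
        calc k * g * k⁻¹ * (k * v * k⁻¹) = k * (g * v) * k⁻¹ := by group
          _ = k * (v * g) * k⁻¹ := by rw [hvg]
          _ = k * v * k⁻¹ * (k * g * k⁻¹) := by group
      refine ⟨⟨⟨s, hs⟩, ConjClasses.mk ⟨k * g * k⁻¹, hc⟩⟩, ?_⟩
      refine (ConjClasses.mk_eq_mk_iff_isConj.2 (hx.trans (isConj_iff.2 ⟨k, ?_⟩))).symm
      show k * (v * g) * k⁻¹ = s * (k * g * k⁻¹)
      rw [← hks]; group
  rw [← Nat.card_congr (Equiv.ofBijective F hbij), Nat.card_sigma]
  exact Finset.sum_coe_sort S fun s => Nat.card (ConjClasses ↥(C s))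

end Cfsg.Agent.S4956
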