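import Cfsg.Statements.S4958
import Cfsg.Agent.Lib.BlockB.AbelianKGV
-- import your own Cfsg.Agent.* helpers here

set_option autoImplicit false
open Cfsg

namespace Cfsg.Agent.S4958

/-- Let X be a finite group and V a normal subgroup of X in which every element has order dividing the prime p, whose index in X is prime to p and which is its own centralizer in X; so V is an elementary abelian normal Sylow p-subgroup, and any complement G to V in X is a group of order prime to p acting faithfully on the vector space V by conjugation (the coprime linear setting of the k(GV) problem). Let G be a complement to V in X and suppose that for some v in V the centralizer of v in G is abelian. Then the number of conjugacy classes of X is at most the order of V (the abelian-stabilizer criterion for the k(GV) problem). -/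
theorem result {X : Type*} [Group X] [Finite X] (p : ℕ) [Fact p.Prime] (V : Subgroup X) [V.Normal] (hVexp : ∀ v ∈ V, v ^ p = 1) (hidx : ¬ p ∣ V.index) (hself : Subgroup.centralizer (V : Set X) = V) (G : Subgroup X) (hGV : Subgroup.IsComplement' V G) (v : X) (hv : v ∈ V) (hab : ∀ a ∈ G ⊓ Subgroup.centralizer ({v} : Set X), ∀ b ∈ G ⊓ Subgroup.centralizer ({v} : Set X), a * b = b * a) : Nat.card (ConjClasses X) ≤ Nat.card V := by
  classical
  have hp : p.Prime := Fact.out
  have := Fintype.ofFinite X
  set C : Subgroup X := G ⊓ Subgroup.centralizer ({v} : Set X) with hCdef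
  letI : CommGroup C :=
    { C.toGroup with mul_comm := fun a b => Subtype.ext (hab a a.2 b b.2) }
  have := Fintype.ofFinite C
  have hVcomm : ∀ a ∈ V, a * v = v * a := fun a ha => by
    rw [← hself] at ha
    exact (Subgroup.mem_centralizer_iff.1 ha v hv).symm
  refine CfsgLib.BlockB.AbelianKGV.card_conjClasses_le V hVexp hidx hself hv (C := C) C.subtype
    C.subtype_injective ?_ ?_ ?_ ?_
  · intro hd
    have h1 : Nat.card C ∣ Nat.card G := Subgroup.card_dvd_of_le inf_le_left
    exact hidx (by rw [hGV.symm.index_eq_card]; exact hd.trans h1)
  · intro c hc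
    exact Subtype.ext (Subgroup.disjoint_def.1 hGV.disjoint hc c.2.1)
  · intro c
    exact Subgroup.mem_centralizer_singleton_iff.1 c.2.2
  · intro a ha
    have hprod : a ∈ V ⊔ G := by
      rw [hGV.sup_eq_top]; exact Subgroup.mem_top a
    obtain ⟨w, hw, g, hg, rfl⟩ := Subgroup.mem_sup_of_normal_left.1 hprod
    have h1 : Commute g v := by
      have hw1 : Commute w⁻¹ v := Commute.inv_left (hVcomm w hw)
      simpa using hw1.mul_left ha
    exact ⟨w, hw, ⟨g, Subgroup.mem_inf.2 ⟨hg, Subgroup.mem_centralizer_singleton_iff.2 h1.eq⟩⟩, rfl⟩

end Cfsg.Agent.S4958
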