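import Cfsg.Statements.S4965
import Mathlib

set_option autoImplicit false
open Cfsg

namespace Cfsg.Agent.S4965

/-- Let X be a finite group with an abelian normal subgroup V (any two elements of V commute), and let φ be the action of X ⧸ V on V induced by conjugation (well defined because V is abelian; the hypothesis hφ says that the class of x acts as conjugation by x). Then X has at most as many conjugacy classes as the semidirect product of V by X ⧸ V formed with this action: the split extension has the largest class number among extensions with the given action. -/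
theorem result {X : Type*} [Group X] [Finite X] (V : Subgroup X) [V.Normal] (hab : ∀ a ∈ V, ∀ b ∈ V, a * b = b * a) (φ : X ⧸ V →* MulAut ↥V) (hφ : ∀ (x : X) (v : ↥V), ((φ (QuotientGroup.mk x) v : ↥V) : X) = x * v * x⁻¹) : Nat.card (ConjClasses X) ≤ Nat.card (ConjClasses (SemidirectProduct ↥V (X ⧸ V) φ)) := by
  classical
  set S := SemidirectProduct ↥V (X ⧸ V) φ with hS
  have : Finite S := Finite.of_injective (fun z : S => (z.left, z.right))
    (fun a b h => SemidirectProduct.ext (congrArg Prod.fst h) (congrArg Prod.snd h))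
  have hcS : Nat.card S = Nat.card X := by
    rw [hS, SemidirectProduct.card, ← Subgroup.index_eq_card, Subgroup.card_mul_index]
  let C := {p : X × X // Commute p.1 p.2}
  let Q := (X ⧸ V) × (X ⧸ V)
  let π : C → Q := fun c => (QuotientGroup.mk c.1.1, QuotientGroup.mk c.1.2)
  let base : Q → X × X := fun q => if h : ∃ c : C, π c = q then h.choose.1 else (1, 1)
  have hbase : ∀ c : C, Commute (base (π c)).1 (base (π c)).2 ∧
      (QuotientGroup.mk (base (π c)).1 : X ⧸ V) = QuotientGroup.mk c.1.1 ∧
      (QuotientGroup.mk (base (π c)).2 : X ⧸ V) = QuotientGroup.mk c.1.2 := by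
    intro c
    have h : ∃ c' : C, π c' = π c := ⟨c, rfl⟩
    simp only [base, dif_pos h]
    exact ⟨h.choose.2, congrArg Prod.fst h.choose_spec, congrArg Prod.snd h.choose_spec⟩
  have hmemV : ∀ x y : X, (QuotientGroup.mk x : X ⧸ V) = QuotientGroup.mk y → x * y⁻¹ ∈ V :=
    fun x y h => by
      have := (QuotientGroup.eq_one_iff (N := V) (x * y⁻¹)).1 (by simp [h])
      exact this
  let sA : C → S := fun c =>
    ⟨⟨c.1.1 * (base (π c)).1⁻¹, hmemV _ _ (hbase c).2.1.symm⟩, QuotientGroup.mk c.1.1⟩
  let sB : C → S := fun c =>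
    ⟨⟨c.1.2 * (base (π c)).2⁻¹, hmemV _ _ (hbase c).2.2.symm⟩, QuotientGroup.mk c.1.2⟩
  have hcomm : ∀ c : C, Commute (sA c) (sB c) := by
    intro c
    obtain ⟨h0, h1, h2⟩ := hbase c
    set u := (base (π c)).1
    set v := (base (π c)).2
    have hc : c.1.1 * c.1.2 = c.1.2 * c.1.1 := c.2
    refine SemidirectProduct.ext (Subtype.ext ?_) ?_
    · show (sA c).left.1 * ((φ (QuotientGroup.mk c.1.1) (sB c).left : ↥V) : X) =
        (sB c).left.1 * ((φ (QuotientGroup.mk c.1.2) (sA c).left : ↥V) : X)
      rw [show φ (QuotientGroup.mk c.1.1) = φ (QuotientGroup.mk u) from congrArg φ h1.symm,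
        show φ (QuotientGroup.mk c.1.2) = φ (QuotientGroup.mk v) from congrArg φ h2.symm, hφ, hφ]
      simp only [sA, sB]
      apply mul_right_cancel (b := u * v)
      conv_rhs => arg 2; rw [h0.eq]
      calc c.1.1 * u⁻¹ * (u * (c.1.2 * v⁻¹) * u⁻¹) * (u * v) = c.1.1 * c.1.2 := by group
        _ = c.1.2 * c.1.1 := hc
        _ = c.1.2 * v⁻¹ * (v * (c.1.1 * u⁻¹) * v⁻¹) * (v * u) := by group
    · show (QuotientGroup.mk c.1.1 : X ⧸ V) * QuotientGroup.mk c.1.2 =
        (QuotientGroup.mk c.1.2 : X ⧸ V) * QuotientGroup.mk c.1.1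
      rw [← QuotientGroup.mk_mul, ← QuotientGroup.mk_mul, hc]
  have hinj : Function.Injective
      (fun c : C => (⟨(sA c, sB c), hcomm c⟩ : {p : S × S // Commute p.1 p.2})) := by
    intro c c' h
    have hA : sA c = sA c' := congrArg (fun z => z.1.1) h
    have hB : sB c = sB c' := congrArg (fun z => z.1.2) h
    have hπ : π c = π c' :=
      Prod.ext (congrArg SemidirectProduct.right hA :) (congrArg SemidirectProduct.right hB :)
    have eA : c.1.1 * (base (π c)).1⁻¹ = c'.1.1 * (base (π c')).1⁻¹ :=
      congrArg (fun z : S => (z.left : X)) hA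
    have eB : c.1.2 * (base (π c)).2⁻¹ = c'.1.2 * (base (π c')).2⁻¹ :=
      congrArg (fun z : S => (z.left : X)) hB
    rw [hπ] at eA eB
    exact Subtype.ext (Prod.ext (mul_right_cancel eA) (mul_right_cancel eB))
  have h1 := Nat.card_le_card_of_injective _ hinj
  rw [show Nat.card C = Nat.card (ConjClasses X) * Nat.card X from
    card_comm_eq_card_conjClasses_mul_card X,
    card_comm_eq_card_conjClasses_mul_card S, hcS] at h1
  exact Nat.le_of_mul_le_mul_right h1 Nat.card_pos

end Cfsg.Agent.S4965
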