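import Cfsg.Statements.S4966
import Cfsg.Agent.Lib.BlockB.FormSplit
-- import your own Cfsg.Agent.* helpers here

set_option autoImplicit false
open Cfsg

namespace Cfsg.Agent.S4966

/-- Let F be a finite field of characteristic p, G a finite group of order prime to p, and V a finite-dimensional representation of G over F carrying a nondegenerate G-invariant bilinear form (equivalently, V is self-dual). Then V is the direct sum of two G-invariant subspaces U and W such that U carries a G-invariant alternating bilinear form that is nondegenerate on U and W carries a G-invariant symmetric bilinear form that is nondegenerate on W; moreover when p = 2 the decomposition can be chosen with G acting trivially on W. -/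
theorem result {F : Type*} [Field F] [Fintype F] (p : ℕ) [Fact p.Prime] [CharP F p] {G : Type*} [Group G] [Finite G] (hcop : ¬ p ∣ Nat.card G) {V : Type*} [AddCommGroup V] [Module F V] [FiniteDimensional F V] (ρ : Representation F G V) (B : LinearMap.BilinForm F V) (hB : B.Nondegenerate) (hBinv : ∀ g : G, ∀ x y : V, B (ρ g x) (ρ g y) = B x y) : ∃ U W : Submodule F V, IsCompl U W ∧ (∀ g : G, ∀ u ∈ U, ρ g u ∈ U) ∧ (∀ g : G, ∀ w ∈ W, ρ g w ∈ W) ∧ (∃ A : LinearMap.BilinForm F V, (∀ x : V, A x x = 0) ∧ (∀ g : G, ∀ x ∈ U, ∀ y ∈ U, A (ρ g x) (ρ g y) = A x y) ∧ (∀ x ∈ U, (∀ y ∈ U, A x y = 0) → x = 0)) ∧ (∃ S : LinearMap.BilinForm F V, (∀ x y : V, S x y = S y x) ∧ (∀ g : G, ∀ x ∈ W, ∀ y ∈ W, S (ρ g x) (ρ g y) = S x y) ∧ (∀ x ∈ W, (∀ y ∈ W, S x y = 0) → x = 0)) ∧ (p = 2 → ∀ g : G, ∀ w ∈ W, ρ g w = w) := by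
  classical
  have := Fintype.ofFinite G
  have hG : (Fintype.card G : F) ≠ 0 := fun h => hcop (by
    rw [Nat.card_eq_fintype_card]; exact (CharP.cast_eq_zero_iff F p _).1 h)
  obtain ⟨U, W, A, hUW, hd, hU, hW, hAalt, hAinv, hAnd, hsym, hndW⟩ :=
    CfsgLib.BlockB.FormSplit.split ρ B hBinv hG ⊤ (fun _ _ _ => trivial)
      (fun x _ h => hB.1 x fun y => h y trivial)
  have hc : IsCompl W U := ⟨hd.symm, codisjoint_iff.2 (by rw [sup_comm]; exact hUW)⟩
  let πW : V →ₗ[F] V := W.subtype.comp (W.linearProjOfIsCompl U hc)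
  have hdec : ∀ x : V, x - πW x ∈ U := fun x => by
    obtain ⟨w, hw, u, hu, rfl⟩ := Submodule.mem_sup.1
      (show x ∈ W ⊔ U by rw [hc.sup_eq_top]; trivial)
    have e1 : πW w = w := congrArg Subtype.val (Submodule.projectionOnto_apply_left hc ⟨w, hw⟩)
    have e2 : πW u = 0 := congrArg Subtype.val (Submodule.projectionOnto_apply_right hc ⟨u, hu⟩)
    rw [map_add, e1, e2, add_zero, add_sub_cancel_left]
    exact hu
  have hπW : ∀ x, πW x ∈ W := fun x => Submodule.coe_mem _
  have hπWid : ∀ x ∈ W, πW x = x := fun x hx =>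
    congrArg Subtype.val (Submodule.projectionOnto_apply_left hc ⟨x, hx⟩)
  have hπWz : ∀ x ∈ U, πW x = 0 := fun x hx =>
    congrArg Subtype.val (Submodule.projectionOnto_apply_right hc ⟨x, hx⟩)
  have hπWeq : ∀ g x, πW (ρ g x) = ρ g (πW x) := fun g x => by
    conv_lhs => rw [show x = (x - πW x) + πW x by rw [sub_add_cancel]]
    rw [map_add, map_add, hπWz _ (hU g _ (hdec x)), hπWid _ (hW g _ (hπW x)), zero_add]
  by_cases hp2 : p = 2
  · subst hp2
    let Fix : Submodule F V :=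
      { carrier := {x | ∀ g, ρ g x = x}
        zero_mem' := fun g => map_zero _
        add_mem' := fun ha hb g => by rw [map_add, ha g, hb g]
        smul_mem' := fun c x hx g => by rw [map_smul, hx g] }
    have hFix : CfsgLib.BlockB.FormSplit.Inv ρ Fix := fun g x hx h => by rw [hx g, hx h]
    let T := W ⊓ Fix
    have hT : CfsgLib.BlockB.FormSplit.Inv ρ T := CfsgLib.BlockB.FormSplit.inv_inf ρ hW hFix
    let π₀ : V →ₗ[F] V := (Fintype.card G : F)⁻¹ • ∑ g : G, (ρ g : V →ₗ[F] V)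
    have hπ₀ : ∀ x, π₀ x = (Fintype.card G : F)⁻¹ • ∑ g : G, ρ g x := fun x => by
      simp [π₀, LinearMap.sum_apply]
    have hπ₀T : ∀ x ∈ W, π₀ x ∈ T := fun x hx => by
      rw [hπ₀]
      refine ⟨W.smul_mem _ (W.sum_mem fun g _ => hW g x hx), fun h => ?_⟩
      rw [map_smul, map_sum]
      congr 1
      exact Fintype.sum_equiv (Equiv.mulLeft h) _ _ fun g => by simp
    have hπ₀id : ∀ x, (∀ g, ρ g x = x) → π₀ x = x := fun x hx => by
      rw [hπ₀, Finset.sum_congr rfl fun g _ => hx g, Finset.sum_const, Finset.card_univ,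
        ← Nat.cast_smul_eq_nsmul F, smul_smul, inv_mul_cancel₀ hG, one_smul]
    have hπ₀eq : ∀ g x, π₀ (ρ g x) = π₀ x := fun g x => by
      rw [hπ₀, hπ₀]
      congr 1
      exact Fintype.sum_equiv (Equiv.mulRight g) _ _ fun h => by simp
    have hπ₀com : ∀ g x, x ∈ W → ρ g (π₀ x) = π₀ x := fun g x hx => (hπ₀T x hx).2 g
    have horth : ∀ t ∈ T, ∀ x, B t (π₀ x) = B t x := fun t ht x => by
      rw [hπ₀, map_smul, map_sum,
        Finset.sum_congr rfl fun g _ => show B t (ρ g x) = B t x by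
          conv_lhs => rw [← ht.2 g]
          rw [hBinv],
        Finset.sum_const, Finset.card_univ, ← Nat.cast_smul_eq_nsmul F, smul_smul,
        inv_mul_cancel₀ hG, one_smul]
    let π₁ : V →ₗ[F] V := LinearMap.id - π₀
    let W₁ : Submodule F V := W ⊓ LinearMap.ker π₀
    have hW₁ : ∀ g, ∀ x ∈ W₁, ρ g x ∈ W₁ := fun g x hx => ⟨hW g x hx.1, by
      show π₀ (ρ g x) = 0
      rw [hπ₀eq]; exact hx.2⟩
    have hdec₁ : ∀ x ∈ W, x - π₀ x ∈ W₁ := fun x hx => ⟨W.sub_mem hx (hπ₀T x hx).1, by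
      show π₀ (x - π₀ x) = 0
      rw [map_sub, hπ₀id _ (hπ₀T x hx).2, sub_self]⟩
    have hzero : ∀ x ∈ W₁, B x x = 0 := fun x hx => by
      have h2 : CharP F 2 := inferInstance
      have hq : ∀ g, B (ρ g x - x) (ρ g x - x) = 0 := fun g => by
        simp only [map_sub, LinearMap.sub_apply, hBinv]
        rw [hsym (ρ g x) (hW g x hx.1) x hx.1]
        linear_combination (B x x - B x (ρ g x)) * (CharTwo.two_eq_zero : (2 : F) = 0)
      have hadd : ∀ s : Finset G, B (∑ g ∈ s, (ρ g x - x)) (∑ g ∈ s, (ρ g x - x)) = 0 := by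
        intro s
        induction s using Finset.induction_on with
        | empty => simp
        | @insert a s ha ih =>
          rw [Finset.sum_insert ha]
          have hm : ∑ g ∈ s, (ρ g x - x) ∈ W :=
            W.sum_mem fun g _ => W.sub_mem (hW g x hx.1) hx.1
          simp only [map_add, LinearMap.add_apply, hq a, ih, zero_add, add_zero]
          rw [hsym _ hm _ (W.sub_mem (hW a x hx.1) hx.1)]
          exact CharTwo.add_self_eq_zero _
      have h := hadd Finset.univ
      have e : ∑ g : G, (ρ g x - x) = -((Fintype.card G : F) • x) := by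
        have h0 : π₀ x = 0 := hx.2
        rw [hπ₀, smul_eq_zero] at h0
        rw [Finset.sum_sub_distrib, h0.resolve_left (inv_ne_zero hG), Finset.sum_const,
          Finset.card_univ, ← Nat.cast_smul_eq_nsmul F, zero_sub]
      rw [e] at h
      simpa [hG] using h
    let π : V →ₗ[F] V := π₁ ∘ₗ πW
    have hπ : ∀ x, π x = πW x - π₀ (πW x) := fun x => rfl
    let A' : LinearMap.BilinForm F V :=
      A.compl₁₂ (LinearMap.id - πW) (LinearMap.id - πW) + B.compl₁₂ π π
    have hA' : ∀ x y, A' x y = A (x - πW x) (y - πW y) + B (π x) (π y) := fun x y => rfl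
    let S : LinearMap.BilinForm F V := B.compl₁₂ (π₀ ∘ₗ πW) (π₀ ∘ₗ πW)
    have hS : ∀ x y, S x y = B (π₀ (πW x)) (π₀ (πW y)) := fun x y => rfl
    refine ⟨U ⊔ W₁, T, ⟨?_, ?_⟩, fun g x hx => ?_, fun g x hx => hT g x hx,
      ⟨A', fun x => ?_, fun g x hx y hy => ?_, fun x hx h => ?_⟩,
      ⟨S, fun x y => ?_, fun g x hx y hy => ?_, fun x hx h => ?_⟩, fun _ g w hw => hw.2 g⟩
    · rw [Submodule.disjoint_def]
      intro x hx hxT
      obtain ⟨u, hu, w, hw, rfl⟩ := Submodule.mem_sup.1 hx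
      have e := hπWid _ hxT.1
      rw [map_add, hπWz u hu, hπWid w hw.1, zero_add] at e
      have hu0 : u = 0 := by simpa using e.symm
      rw [hu0, zero_add] at hxT ⊢
      rw [← hπ₀id w hxT.2]; exact hw.2
    · rw [codisjoint_iff, Submodule.eq_top_iff']
      intro x
      rw [show x = ((x - πW x) + (πW x - π₀ (πW x))) + π₀ (πW x) by abel]
      exact Submodule.add_mem_sup (Submodule.add_mem_sup (hdec x) (hdec₁ _ (hπW x)))
        (hπ₀T _ (hπW x))
    · obtain ⟨u, hu, w, hw, rfl⟩ := Submodule.mem_sup.1 hx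
      rw [map_add]
      exact Submodule.add_mem_sup (hU g u hu) (hW₁ g w hw)
    · rw [hA', hAalt, zero_add, hπ]
      exact hzero _ (hdec₁ _ (hπW x))
    · rw [hA', hA', hπWeq, hπWeq, ← map_sub, ← map_sub, hAinv g _ (hdec x) _ (hdec y)]
      congr 1
      rw [hπ, hπ, hπ, hπ, hπWeq, hπWeq, hπ₀eq, hπ₀eq]
      conv_lhs => rw [← hπ₀com g _ (hπW x), ← hπ₀com g _ (hπW y)]
      rw [← map_sub, ← map_sub, hBinv]
    · obtain ⟨u, hu, w, hw, rfl⟩ := Submodule.mem_sup.1 hx
      have ew : π₀ w = 0 := hw.2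
      have hu0 : u = 0 := hAnd u hu fun y hy => by
        have := h y (Submodule.mem_sup_left hy)
        simpa [hA', hπ, map_add, hπWz u hu, hπWid w hw.1, hπWz y hy, ew] using this
      have hw0 : w = 0 := hndW w hw.1 fun y hy => by
        have e1 : B w (π₀ y) = 0 := by
          rw [hsym w hw.1 _ (hπ₀T y hy).1, ← horth _ (hπ₀T y hy) w, ew, map_zero]
        have := h (y - π₀ y) (Submodule.mem_sup_right (hdec₁ y hy))
        have e2 : B w (y - π₀ y) = 0 := by
          simpa [hA', hπ, map_add, map_sub, hπWz u hu, hπWid w hw.1, hπWid y hy,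
            hπWid _ (hπ₀T y hy).1, hπ₀id _ (hπ₀T y hy).2, ew, hu0] using this
        rw [map_sub, e1, sub_zero] at e2
        exact e2
      rw [hu0, hw0, add_zero]
    · rw [hS, hS]; exact hsym _ (hπ₀T _ (hπW x)).1 _ (hπ₀T _ (hπW y)).1
    · rw [hS, hS, hπWeq, hπWeq, hπ₀eq, hπ₀eq]
    · refine hndW x hx.1 fun y hy => ?_
      have := h (π₀ y) (hπ₀T y hy)
      rw [hS, hπWid x hx.1, hπ₀id x hx.2, hπWid _ (hπ₀T y hy).1, hπ₀id _ (hπ₀T y hy).2,
        horth x hx] at this
      exact this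
  · refine ⟨U, W, hc.symm, hU, hW, ⟨A, hAalt, hAinv, hAnd⟩,
      ⟨B.compl₁₂ πW πW, fun x y => hsym _ (hπW x) _ (hπW y), fun g x hx y hy => ?_,
        fun x hx h => hndW x hx fun y hy => ?_⟩, fun h => absurd h hp2⟩
    · show B (πW (ρ g x)) (πW (ρ g y)) = B (πW x) (πW y)
      rw [hπWeq, hπWeq, hBinv]
    · have := h y hy
      rwa [LinearMap.compl₁₂_apply, hπWid x hx, hπWid y hy] at this

end Cfsg.Agent.S4966
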