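import Cfsg.Statements.S4967
import Cfsg.Agent.Lib.BlockB.AbelianSelfDual
-- import your own Cfsg.Agent.* helpers here

set_option autoImplicit false
open Cfsg

namespace Cfsg.Agent.S4967

/-- Let F be a finite field with r elements and of characteristic p, H a finite abelian group of order prime to p, and V a faithful irreducible representation of H over F of dimension n (faithful: distinct elements act differently; irreducible: the only H-invariant subspaces are 0 and V). Call V self-dual when it carries a nondegenerate H-invariant bilinear form. If n = 1 and V is self-dual then H has order at most 2. If n ≥ 2 then V is self-dual if and only if n is even and the order of H divides r^(n/2) + 1. -/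
theorem result {F : Type*} [Field F] [Fintype F] (p : ℕ) [Fact p.Prime] [CharP F p] {H : Type*} [CommGroup H] [Finite H] (hcop : ¬ p ∣ Nat.card H) {V : Type*} [AddCommGroup V] [Module F V] [FiniteDimensional F V] (ρ : Representation F H V) (hfaith : Function.Injective ρ) (hirr : ∀ U : Submodule F V, (∀ h : H, ∀ u ∈ U, ρ h u ∈ U) → U = ⊥ ∨ U = ⊤) : (Module.finrank F V = 1 → (∃ B : LinearMap.BilinForm F V, B.Nondegenerate ∧ ∀ h : H, ∀ x y : V, B (ρ h x) (ρ h y) = B x y) → Nat.card H ≤ 2) ∧ (2 ≤ Module.finrank F V → ((∃ B : LinearMap.BilinForm F V, B.Nondegenerate ∧ ∀ h : H, ∀ x y : V, B (ρ h x) (ρ h y) = B x y) ↔ (Even (Module.finrank F V) ∧ Nat.card H ∣ Fintype.card F ^ (Module.finrank F V / 2) + 1))) := by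
  classical
  refine ⟨fun h1 ⟨B, hB, hinv⟩ => ?_, fun h2 => ?_⟩
  · obtain ⟨v, hv, hspan⟩ := finrank_eq_one_iff'.1 h1
    have hBv : B v v ≠ 0 := fun h0 => hv (hB.1 v fun y => by
      obtain ⟨c, rfl⟩ := hspan y
      rw [map_smul, h0, smul_zero])
    choose c hc using fun h : H => hspan (ρ h v)
    have hsq : ∀ h, c h = 1 ∨ c h = -1 := fun h => by
      have := hinv h v v
      rw [← hc h, map_smul, map_smul, LinearMap.smul_apply, smul_eq_mul, smul_eq_mul,
        ← mul_assoc] at this
      exact mul_self_eq_one_iff.1 ((mul_eq_right₀ hBv).1 this)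
    have hinj : Function.Injective (fun h => decide (c h = 1)) := fun a b hab => by
      refine hfaith (LinearMap.ext fun w => ?_)
      obtain ⟨d, rfl⟩ := hspan w
      rw [map_smul, map_smul, ← hc a, ← hc b]
      have : c a = c b := by
        simp only [decide_eq_decide] at hab
        rcases hsq a with ha | ha <;> rcases hsq b with hb | hb
        · rw [ha, hb]
        · rw [ha, hab.1 ha]
        · rw [hab.2 hb, hb]
        · rw [ha, hb]
      rw [this]
    simpa [Nat.card_eq_fintype_card] using Nat.card_le_card_of_injective _ hinj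
  · have : Nontrivial V := Module.nontrivial_of_finrank_pos (R := F) (by omega)
    obtain ⟨E, _, _, _, h, L, hinj, hgen, hL⟩ :=
      CfsgLib.BlockB.AbelianSelfDual.exists_model ρ hfaith hirr
    have hfr : Module.finrank F E = Module.finrank F V := L.finrank_eq
    constructor
    · rintro ⟨B, hB, hinv⟩
      rw [← hfr]
      refine CfsgLib.BlockB.AbelianSelfDual.of_form h hinj hgen (by omega)
        (B.comp L.toLinearMap L.toLinearMap) ⟨fun x hx => L.map_eq_zero_iff.1 (hB.1 _ fun y => ?_),
          fun y hy => L.map_eq_zero_iff.1 (hB.2 _ fun x => ?_)⟩ fun g x y => ?_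
      · simpa using hx (L.symm y)
      · simpa using hy (L.symm x)
      · simp only [LinearMap.BilinForm.comp_apply, LinearEquiv.coe_coe, hL, hinv]
    · rintro ⟨he, hd⟩
      rw [← hfr] at he hd
      obtain ⟨B, hB, hinv⟩ := CfsgLib.BlockB.AbelianSelfDual.exists_form h hgen he hd
      refine ⟨B.comp L.symm.toLinearMap L.symm.toLinearMap,
        ⟨fun x hx => L.symm.map_eq_zero_iff.1 (hB.1 _ fun y => ?_),
          fun y hy => L.symm.map_eq_zero_iff.1 (hB.2 _ fun x => ?_)⟩, fun g x y => ?_⟩
      · simpa using hx (L y)
      · simpa using hy (L x)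
      · have e : ∀ z, L.symm (ρ g z) = h g * L.symm z := fun z => by
          rw [LinearEquiv.symm_apply_eq, hL, LinearEquiv.apply_symm_apply]
        simp only [LinearMap.BilinForm.comp_apply, LinearEquiv.coe_coe, e, hinv]

end Cfsg.Agent.S4967
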