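import Cfsg.Statements.S4978
import Cfsg.Agent.Lib.BlockB.HeightZeroCount
import Cfsg.Agent.Lib.BlockA.DefectOneStar
import Cfsg.Agent.S5252

set_option autoImplicit false
open Cfsg

namespace Cfsg.Agent.S4978

/-- Let p be a prime and B a p-block of the finite group G (relative to a maximal ideal M of the algebraic integers containing p) with a nontrivial defect group D whose automorphism group is a p-group (for a p-group D this is the same as its outer automorphism group being a p-group). Then the number of irreducible characters of height zero in B is divisible by p; if p > 3 this number is at least 2p, and if moreover p ≡ 3 (mod 4) it is at least 3p. -/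
theorem result {G : Type*} [Group G] [Finite G] (p : ℕ) [Fact p.Prime] (M : Ideal Cfsg.AlgInt) (hM : Cfsg.IsPModular p M) (B : Set (Cfsg.IrrCharacter G)) (hB : Cfsg.IsPBlock M B) (D : Subgroup G) (hD : Cfsg.IsDefectGroup p M B D) (hD1 : D ≠ ⊥) (hAut : IsPGroup p (MulAut ↥D)) : p ∣ Nat.card {χ : Cfsg.IrrCharacter G // χ ∈ B ∧ Cfsg.blockHeight p B (χ : G → ℂ) = 0} ∧ (3 < p → 2 * p ≤ Nat.card {χ : Cfsg.IrrCharacter G // χ ∈ B ∧ Cfsg.blockHeight p B (χ : G → ℂ) = 0}) ∧ (3 < p → p % 4 = 3 → 3 * p ≤ Nat.card {χ : Cfsg.IrrCharacter G // χ ∈ B ∧ Cfsg.blockHeight p B (χ : G → ℂ) = 0}) := by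
  have hz2 : ∀ z : ZMod 2, z ≠ 0 → z ^ 2 = 1 := by decide
  have hz3 : ∀ z : ZMod 3, z ≠ 0 → z ^ 2 = 1 := by decide
  classical
  have := Fintype.ofFinite G
  have : M.IsPrime := hM.2.1.isPrime
  have hpp : p.Prime := hM.1
  obtain ⟨e, hmax⟩ := CfsgLib.BlockA.DefectOneStar.exists_maximal_pair hM hB hD
  have hF := CfsgLib.BlockA.isBlockFusionSystemOn_blockFusion hM hmax
  set F := CfsgLib.BlockA.blockFusion hM hmax.1.1
  have hcard := CfsgLib.Block.natCard_defectGroup hM hB hD
  have hd0 : Cfsg.blockDefect p B ≠ 0 := fun h =>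
    hD1 (Subgroup.card_eq_one.1 (by rw [hcard, h, pow_zero]))
  set S : Finset (Cfsg.IrrCharacter G) :=
    B.toFinite.toFinset.filter fun χ => Cfsg.blockHeight p B (χ : G → ℂ) = 0 with hSdef
  have hS : ∀ χ, χ ∈ S ↔ χ ∈ B ∧ Cfsg.blockHeight p B (χ : G → ℂ) = 0 := fun χ => by
    simp [hSdef]
  have hk0 : Nat.card {χ : Cfsg.IrrCharacter G // χ ∈ B ∧
      Cfsg.blockHeight p B (χ : G → ℂ) = 0} = S.card :=
    (Nat.card_congr (Equiv.subtypeEquivRight fun χ => (hS χ).symm)).trans
      (Nat.card_eq_finsetCard S)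
  have hne : S.Nonempty := by
    obtain ⟨χ, hχ, he⟩ := Nat.sInf_mem ((CfsgLib.Block.isPBlock_nonempty hB).image
      (fun ψ : Cfsg.IrrCharacter G => (Cfsg.charDegree (ψ : G → ℂ)).factorization p))
    exact ⟨χ, (hS χ).2 ⟨hχ, by simp only [Cfsg.blockHeight] at he ⊢; omega⟩⟩
  let c : ℕ → ℕ := fun m => m / p ^ m.factorization p
  have hc : ∀ χ : Cfsg.IrrCharacter G, ((c (Cfsg.charDegree (χ : G → ℂ)) : ℕ) : ZMod p) ≠ 0 :=
    fun χ h => Nat.not_dvd_ordCompl hpp (CfsgLib.Block.charDegree_ne_zero χ.2)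
      ((ZMod.natCast_eq_zero_iff _ p).1 h)
  have hsq := CfsgLib.BlockB.HeightZeroCount.pow_min_dvd_sum_sq hM hB S hS
  rw [hk0]
  rcases Nat.lt_or_ge p 5 with hlt | h5
  · -- the primes two and three
    have hp23 : p = 2 ∨ p = 3 := by
      have := hpp.two_le
      have : p ≠ 4 := fun h => by subst h; exact absurd hpp (by decide)
      omega
    have h1 : p ∣ ∑ χ ∈ S, c (Cfsg.charDegree (χ : G → ℂ)) ^ 2 :=
      (dvd_pow_self p (by omega)).trans hsq
    rw [← ZMod.natCast_eq_zero_iff, Nat.cast_sum] at h1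
    have hone : ∀ χ ∈ S, ((c (Cfsg.charDegree (χ : G → ℂ)) ^ 2 : ℕ) : ZMod p) = 1 := by
      intro χ _
      have h := hc χ
      revert h
      generalize c (Cfsg.charDegree (χ : G → ℂ)) = x
      rw [Nat.cast_pow]
      generalize (x : ZMod p) = z
      intro h
      rcases hp23 with rfl | rfl
      · exact hz2 z h
      · exact hz3 z h
    rw [Finset.sum_congr rfl hone, Finset.sum_const, nsmul_one, ZMod.natCast_eq_zero_iff] at h1
    exact ⟨h1, fun h => absurd h (by omega), fun h _ => by
      rcases hp23 with rfl | rfl <;> omega⟩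
  · -- at least five: the quotient by the focal subgroup is not trivial
    have hfoc : F.focalSubgroup < D :=
      Cfsg.Agent.S5252.result p (CfsgLib.Block.isPGroup_defectGroup (B := B) hM hB hD) F
        (CfsgLib.BlockA.isSaturated_block hM hF) h5 hD1 (hAut.to_subgroup _)
    have hidx : p ∣ (F.focalSubgroup.subgroupOf D).index := by
      have h1 : (F.focalSubgroup.subgroupOf D).index ≠ 1 := fun h =>
        hfoc.not_ge (Subgroup.subgroupOf_eq_top.1 (Subgroup.index_eq_one.1 h))
      obtain ⟨j, -, hj⟩ := (Nat.dvd_prime_pow hpp).1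
        (hcard ▸ (F.focalSubgroup.subgroupOf D).index_dvd_card)
      rw [hj] at h1 ⊢
      exact dvd_pow_self p (fun h => h1 (by rw [h, pow_zero]))
    have hd2 : 2 ≤ Cfsg.blockDefect p B := by
      by_contra h
      have hD' : Nat.card D = p := by
        rw [hcard, show Cfsg.blockDefect p B = 1 by omega, pow_one]
      have := isCyclic_of_prime_card hD'
      obtain ⟨j, hj⟩ := IsPGroup.iff_card.1 hAut
      rw [IsCyclic.card_mulAut, hD', Nat.totient_prime hpp] at hj
      cases j with
      | zero => simp at hj; omega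
      | succ j =>
        have h2 : p ∣ p - 1 := hj ▸ Dvd.intro_left _ (pow_succ p j).symm
        have := Nat.le_of_dvd (by omega) h2
        omega
    rw [min_eq_right hd2] at hsq
    set T := S.image fun χ : Cfsg.IrrCharacter G => Cfsg.charDegree (χ : G → ℂ) with hT
    set n : ℕ → ℕ := fun m =>
      (S.filter fun χ : Cfsg.IrrCharacter G => Cfsg.charDegree (χ : G → ℂ) = m).card with hn
    have hnp : ∀ m ∈ T, ∃ a, 0 < a ∧ n m = p * a := by
      intro m hm
      have h1 : p ∣ n m := by
        refine hidx.trans ?_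
        have h := CfsgLib.BlockB.HeightZeroCount.index_focal_dvd_card_degree hM hF m
        rwa [(Nat.card_congr (Equiv.subtypeEquivRight fun χ => by
            simp [hS, and_assoc])).trans (Nat.card_eq_finsetCard
              (S.filter fun χ : Cfsg.IrrCharacter G => Cfsg.charDegree (χ : G → ℂ) = m))] at h
      obtain ⟨a, ha⟩ := h1
      refine ⟨a, Nat.pos_of_ne_zero ?_, ha⟩
      rintro rfl
      obtain ⟨χ, hχ, rfl⟩ := Finset.mem_image.1 hm
      exact absurd (Finset.card_eq_zero.1 (ha.trans (mul_zero p)))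
        (Finset.nonempty_iff_ne_empty.1 ⟨χ, Finset.mem_filter.2 ⟨hχ, rfl⟩⟩)
    choose! a ha0 ha using hnp
    have hcardS : S.card = p * ∑ m ∈ T, a m := by
      rw [Finset.card_eq_sum_card_image (fun χ : Cfsg.IrrCharacter G => Cfsg.charDegree (χ : G → ℂ)), Finset.mul_sum]
      exact Finset.sum_congr rfl fun m hm => ha m hm
    have hsum : ∑ χ ∈ S, c (Cfsg.charDegree (χ : G → ℂ)) ^ 2 = p * ∑ m ∈ T, a m * c m ^ 2 := by
      rw [Finset.mul_sum, ← Finset.sum_fiberwise_of_maps_to (g := fun χ : Cfsg.IrrCharacter G => Cfsg.charDegree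
        (χ : G → ℂ)) (t := T) (fun χ hχ => Finset.mem_image_of_mem _ hχ)]
      refine Finset.sum_congr rfl fun m hm => ?_
      rw [Finset.sum_congr rfl fun χ hχ => by rw [(Finset.mem_filter.1 hχ).2], Finset.sum_const,
        smul_eq_mul, ← mul_assoc, ← ha m hm]
    have hrel : ∑ m ∈ T, (a m : ZMod p) * ((c m : ℕ) : ZMod p) ^ 2 = 0 := by
      have h1 : p * p ∣ p * ∑ m ∈ T, a m * c m ^ 2 := by
        rw [← hsum, ← pow_two]; exact hsq
      have h2 := (ZMod.natCast_eq_zero_iff _ p).2 (Nat.dvd_of_mul_dvd_mul_left hpp.pos h1)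
      simpa using h2
    have hcT : ∀ m ∈ T, ((c m : ℕ) : ZMod p) ≠ 0 := by
      intro m hm
      obtain ⟨χ, -, rfl⟩ := Finset.mem_image.1 hm
      exact hc χ
    have hTne : T.Nonempty := hne.image _
    have hTa : T.card ≤ ∑ m ∈ T, a m := by
      rw [Finset.card_eq_sum_ones]; exact Finset.sum_le_sum fun m hm => ha0 m hm
    have hT1 : 0 < T.card := hTne.card_pos
    have htwo : (2 : ZMod p) ≠ 0 := fun h => by
      have := Nat.le_of_dvd two_pos ((ZMod.natCast_eq_zero_iff 2 p).1 (by exact_mod_cast h))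
      omega
    have hge2 : 2 ≤ ∑ m ∈ T, a m := by
      by_contra h
      obtain ⟨m, hm⟩ := Finset.card_eq_one.1 (show T.card = 1 by omega)
      rw [hm, Finset.sum_singleton] at h hrel
      have := ha0 m (hm ▸ Finset.mem_singleton_self m)
      rw [show a m = 1 by omega, Nat.cast_one, one_mul] at hrel
      exact hcT m (hm ▸ Finset.mem_singleton_self m) (pow_eq_zero_iff two_ne_zero |>.1 hrel)
    refine ⟨hcardS ▸ dvd_mul_right _ _, fun _ => ?_, fun _ h4 => ?_⟩
    · rw [hcardS, mul_comm 2 p]; exact Nat.mul_le_mul_left p hge2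
    · rw [hcardS, mul_comm 3 p]
      refine Nat.mul_le_mul_left p ?_
      by_contra h
      have hs : ∑ m ∈ T, a m = 2 := by omega
      rcases (show T.card = 1 ∨ T.card = 2 by omega) with h1 | h1
      · obtain ⟨m, hm⟩ := Finset.card_eq_one.1 h1
        rw [hm, Finset.sum_singleton] at hs hrel
        rw [hs] at hrel
        exact hcT m (hm ▸ Finset.mem_singleton_self m) (pow_eq_zero_iff two_ne_zero |>.1
          ((mul_eq_zero.1 hrel).resolve_left (by simpa using htwo)))
      · obtain ⟨m, m', hne', hm⟩ := Finset.card_eq_two.1 h1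
        have hm1 : m ∈ T := by simp [hm]
        have hm2 : m' ∈ T := by simp [hm]
        have e1 := ha0 m hm1
        have e2 := ha0 m' hm2
        rw [hm, Finset.sum_pair hne'] at hs hrel
        rw [show a m = 1 by omega, show a m' = 1 by omega, Nat.cast_one, one_mul, one_mul] at hrel
        have hy := hcT m' hm2
        refine (ZMod.exists_sq_eq_neg_one_iff (p := p)).1 ⟨(c m : ZMod p) / (c m' : ZMod p), ?_⟩ h4
        field_simp
        linear_combination -hrel

end Cfsg.Agent.S4978
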