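import Cfsg.Statements.S4989
import Cfsg.Agent.Lib.BlockB.GaloisAvg

set_option autoImplicit false
open Cfsg

namespace Cfsg.Agent.S4989

/-- Let H be a subgroup of the finite group G and χ an irreducible complex character of G. Then the inner product of the restriction of χ to H with itself, (1/#H)·Σ_{h ∈ H} |χ(h)|², is at most 1 + #(Z ∖ H)/#H, where Z is the set of zeros of χ in G. -/
theorem result {G : Type*} [Group G] [Finite G] (H : Subgroup G) (χ : Cfsg.IrrCharacter G) : (Nat.card ↥H : ℝ)⁻¹ * ∑ᶠ h : ↥H, ‖(χ : G → ℂ) h‖ ^ 2 ≤ 1 + (Set.ncard ({x : G | (χ : G → ℂ) x = 0} \ (H : Set G)) : ℝ) / (Nat.card ↥H : ℝ) := by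
  classical
  have := Fintype.ofFinite G
  have := Fintype.ofFinite H
  rw [finsum_eq_sum_of_fintype]
  have htot : ∑ g : G, ‖(χ : G → ℂ) g‖ ^ 2 = (Nat.card G : ℝ) := by
    have h := CfsgLib.Char.irr_classInner_self χ.2
    rw [CfsgLib.Char.classInner_self_eq_norm, Complex.ofReal_eq_one,
      inv_mul_eq_iff_eq_mul₀ (by exact_mod_cast Nat.card_pos.ne'), mul_one] at h
    exact h
  let T : Finset G := Finset.univ.filter fun g => g ∉ H ∧ (χ : G → ℂ) g ≠ 0
  have hT : (T.card : ℝ) ≤ ∑ g ∈ T, ‖(χ : G → ℂ) g‖ ^ 2 := by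
    have := CfsgLib.BlockB.card_le_sum_norm_pow T (fun g k => (χ : G → ℂ) (g ^ k))
      (n := Nat.card G) Nat.card_pos.ne'
      (fun g _ => CfsgLib.BlockB.isCyclo_char (CfsgLib.Char.irr_isCharacter χ.2) g) ?_
      (fun g hg => by simpa [T] using (Finset.mem_filter.1 hg).2.2) 2
    · simpa using this
    · intro k hk
      obtain ⟨e, he⟩ := CfsgLib.BlockB.exists_powCoprime_perm hk T (fun g hg => by
        simp only [T, Finset.mem_filter, Finset.mem_univ, true_and] at hg ⊢
        exact ⟨fun h => hg.1 ((CfsgLib.BlockA.pow_mem_iff_of_coprime hk H g).1 h),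
          fun h => hg.2 ((CfsgLib.BlockB.char_pow_eq_zero_iff
            (CfsgLib.Char.irr_isCharacter χ.2) hk g).1 h)⟩)
      exact ⟨e, fun g => by simp [he]⟩
  have hsplit : ∑ h : H, ‖(χ : G → ℂ) h‖ ^ 2 + ∑ g ∈ T, ‖(χ : G → ℂ) g‖ ^ 2 = (Nat.card G : ℝ) := by
    rw [← htot, ← Finset.sum_filter_add_sum_filter_not (Finset.univ : Finset G) (fun g => g ∈ H)]
    congr 1
    · exact (Finset.sum_subtype _ (by simp) (fun g => ‖(χ : G → ℂ) g‖ ^ 2)).symm
    · refine Finset.sum_subset (fun g hg => by simpa [T] using (Finset.mem_filter.1 hg).2.1) ?_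
      intro g hg hgT
      have : (χ : G → ℂ) g = 0 := by
        by_contra h0
        exact hgT (Finset.mem_filter.2 ⟨Finset.mem_univ _, (Finset.mem_filter.1 hg).2, h0⟩)
      simp [this]
  have hcount : Nat.card G = Nat.card H +
      Set.ncard ({x : G | (χ : G → ℂ) x = 0} \ (H : Set G)) + T.card := by
    rw [Set.ncard_eq_toFinset_card', Nat.card_eq_fintype_card, Nat.card_eq_fintype_card,
      Fintype.card_subtype, ← Finset.card_univ,
      ← Finset.card_filter_add_card_filter_not (s := (Finset.univ : Finset G)) (fun g => g ∈ H),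
      add_assoc]
    congr 1
    rw [← Finset.card_filter_add_card_filter_not
      (s := Finset.univ.filter fun g => ¬ g ∈ H) (fun g => (χ : G → ℂ) g = 0)]
    congr 2
    · ext g; simp [and_comm]
    · ext g; simp [T]
  have hH0 : (0 : ℝ) < (Nat.card H : ℝ) := by exact_mod_cast Nat.card_pos
  rw [inv_mul_le_iff₀ hH0, mul_add, mul_one, mul_div_cancel₀ _ hH0.ne']
  have : ((Nat.card G : ℕ) : ℝ) = (Nat.card H : ℝ) +
      (Set.ncard ({x : G | (χ : G → ℂ) x = 0} \ (H : Set G)) : ℝ) + (T.card : ℝ) := by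
    exact_mod_cast hcount
  linarith

end Cfsg.Agent.S4989
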