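import Cfsg.Statements.S4996
import Cfsg.Agent.Lib.BlockB.GaloisAvg
import Cfsg.Agent.Lib.BlockB.CosetSum

set_option autoImplicit false
open Cfsg

namespace Cfsg.Agent.S4996

/-- Let N be a normal subgroup of the finite group G and χ an irreducible complex character of G. Then the restriction of χ to N is not irreducible if and only if χ vanishes on some whole coset Nx of N in G. -/
theorem result {G : Type*} [Group G] [Finite G] (N : Subgroup G) [N.Normal] (χ : Cfsg.IrrCharacter G) : ¬ Cfsg.IsIrrCharacter ↥N (fun n : ↥N => (χ : G → ℂ) n) ↔ ∃ x : G, ∀ n : ↥N, (χ : G → ℂ) ((n : G) * x) = 0 := by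
  classical
  have := Fintype.ofFinite G
  have := Fintype.ofFinite N
  have hχ := CfsgLib.Char.irr_isCharacter χ.2
  obtain ⟨ψ, hψ, hψsum⟩ := CfsgLib.BlockB.exists_isCharacter_coset_avg N
    (CfsgLib.Char.isCharacter_mul hχ (CfsgLib.Char.isCharacter_conj hχ))
  have hF : ∀ x : G, ((∑ n : N, ‖(χ : G → ℂ) ((n : G) * x)‖ ^ 2 : ℝ) : ℂ) =
      (Nat.card N : ℂ) * ψ x := fun x => by
    rw [← hψsum x, Complex.ofReal_sum]
    exact Finset.sum_congr rfl fun n _ => by simp [Pi.mul_apply, Complex.mul_conj']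
  have hN0 : (Nat.card N : ℂ) ≠ 0 := CfsgLib.Char.natCard_ne_zero
  have hres := CfsgLib.Char.isCharacter_restrict hχ N
  have hirr : Cfsg.IsIrrCharacter N (fun n : N => (χ : G → ℂ) n) ↔ ψ 1 = 1 := by
    have h1 : ψ 1 = Cfsg.classInner (fun n : N => (χ : G → ℂ) n) (fun n : N => (χ : G → ℂ) n) := by
      rw [CfsgLib.Char.classInner_self_eq_norm]
      have h2 := hF 1
      simp only [mul_one] at h2
      rw [Complex.ofReal_mul, Complex.ofReal_inv, Complex.ofReal_natCast, h2,
        inv_mul_cancel_left₀ hN0]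
    rw [CfsgLib.Char.isIrrCharacter_iff, h1]
    exact ⟨fun h => h.2, fun h => ⟨hres, h⟩⟩
  rw [hirr]
  constructor
  · intro hne
    by_contra hno
    push Not at hno
    have hψ0 : ∀ x, ψ x ≠ 0 := fun x h0 => by
      obtain ⟨n, hn⟩ := hno x
      have h2 := hF x
      rw [h0, mul_zero, Complex.ofReal_eq_zero,
        Finset.sum_eq_zero_iff_of_nonneg (fun n _ => by positivity)] at h2
      exact hn (by simpa using h2 n (Finset.mem_univ n))
    have hG := CfsgLib.Char.irr_classInner_self χ.2
    rw [CfsgLib.Char.classInner_self_eq_norm, Complex.ofReal_eq_one,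
      inv_mul_eq_iff_eq_mul₀ (by exact_mod_cast Nat.card_pos.ne'), mul_one] at hG
    have hψn : ∀ x, (Nat.card N : ℝ) * ‖ψ x‖ = ∑ n : N, ‖(χ : G → ℂ) ((n : G) * x)‖ ^ 2 := by
      intro x
      have h2 := congrArg (fun z : ℂ => ‖z‖) (hF x)
      simp only [norm_mul, Complex.norm_natCast, Complex.norm_real] at h2
      rw [← h2, Real.norm_of_nonneg (Finset.sum_nonneg fun n _ => by positivity)]
    have hsum : ∑ x : G, ‖ψ x‖ = (Nat.card G : ℝ) := by
      apply mul_left_cancel₀ (show (Nat.card N : ℝ) ≠ 0 by exact_mod_cast Nat.card_pos.ne')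
      rw [Finset.mul_sum, Finset.sum_congr rfl (fun x _ => hψn x), Finset.sum_comm]
      have hshift : ∀ n : N, ∑ x : G, ‖(χ : G → ℂ) ((n : G) * x)‖ ^ 2 = (Nat.card G : ℝ) :=
        fun n => hG ▸ Equiv.sum_comp (Equiv.mulLeft (n : G)) (fun y => ‖(χ : G → ℂ) y‖ ^ 2)
      simp only [hshift, Finset.sum_const, Finset.card_univ, nsmul_eq_mul,
        Nat.card_eq_fintype_card]
    obtain ⟨e, he⟩ := CfsgLib.Char.char_apply_one_eq_nat hψ
    have he2 : 2 ≤ e := by
      rcases e with _ | _ | e
      · exact absurd (by simpa using he) (hψ0 1)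
      · exact absurd (by simpa using he) hne
      · omega
    have hrest : ((Finset.univ.erase (1 : G)).card : ℝ) ≤
        ∑ g ∈ Finset.univ.erase (1 : G), ‖ψ g‖ := by
      have h := CfsgLib.BlockB.card_le_sum_norm_pow (Finset.univ.erase (1 : G))
        (fun g k => ψ (g ^ k)) (n := Nat.card G) Nat.card_pos.ne'
        (fun g _ => CfsgLib.BlockB.isCyclo_char hψ g) ?_ (fun g _ => by simpa using hψ0 g) 1
      · simpa using h
      · intro k hk
        obtain ⟨e, he⟩ := CfsgLib.BlockB.exists_powCoprime_perm hk (Finset.univ.erase (1 : G))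
          (fun g hg => by
            simp only [Finset.mem_erase, Finset.mem_univ, and_true] at hg ⊢
            intro h
            exact hg ((powCoprime hk.symm).injective (by simpa using h)))
        exact ⟨e, fun g => by simp [he]⟩
    rw [← Finset.add_sum_erase _ _ (Finset.mem_univ (1 : G)), he, Complex.norm_natCast] at hsum
    rw [Finset.card_erase_of_mem (Finset.mem_univ _), Finset.card_univ,
      ← Nat.card_eq_fintype_card, Nat.cast_sub Nat.card_pos, Nat.cast_one] at hrest
    have : (2 : ℝ) ≤ e := by exact_mod_cast he2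
    linarith
  · rintro ⟨x, hx⟩ h1
    obtain ⟨lam, hlam⟩ := CfsgLib.Char.exists_hom_of_degree_one hψ h1
    have h2 := hF x
    rw [Finset.sum_eq_zero (fun n _ => by rw [hx n]; simp), Complex.ofReal_zero, eq_comm,
      mul_eq_zero, or_iff_right hN0, hlam] at h2
    exact (lam x).ne_zero h2

end Cfsg.Agent.S4996
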