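import Cfsg.Statements.S4997
import Cfsg.Agent.Lib.Solvable.VanishingSylow

set_option autoImplicit false
open Cfsg

namespace Cfsg.Agent.S4997

/-- Let p be an odd prime and G a finite solvable group with exactly one conjugacy class consisting of vanishing elements (elements at which some irreducible complex character is zero) of order divisible by p. Let P be a Sylow p-subgroup of G. Then the order of P is at most p times the order of the largest normal p-subgroup of G. -/
theorem result {G : Type*} [Group G] [Finite G] (hsolv : Group.IsSolvable G) (p : ℕ) [Fact p.Prime] (hp : p ≠ 2) (h1 : Set.ncard {C : ConjClasses G | (∀ g ∈ C.carrier, ∃ χ : Cfsg.IrrCharacter G, (χ : G → ℂ) g = 0) ∧ ∃ g ∈ C.carrier, p ∣ orderOf g} = 1) (P : Sylow p G) : Nat.card ↥(P : Subgroup G) ≤ p * Nat.card ↥(Cfsg.pCore p G) := by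
  have := hsolv
  have := CfsgLib.Solvable.pCore_normal p G
  obtain ⟨C₀, hC₀⟩ := Set.ncard_eq_one.1 h1
  have key : ∀ g : G, CfsgLib.Solvable.IsVanishing g → p ∣ orderOf g → ConjClasses.mk g = C₀ := by
    intro g hg hd
    have h : ConjClasses.mk g ∈ {C : ConjClasses G | (∀ g ∈ C.carrier,
        ∃ χ : Cfsg.IrrCharacter G, (χ : G → ℂ) g = 0) ∧ ∃ g ∈ C.carrier, p ∣ orderOf g} :=
      ⟨fun g' hg' => CfsgLib.Solvable.IsVanishing.of_isConj
        (ConjClasses.mk_eq_mk_iff_isConj.1 (ConjClasses.mem_carrier_iff_mk_eq.1 hg').symm) hg,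
        g, ConjClasses.mem_carrier_mk, hd⟩
    rw [hC₀] at h
    exact h
  have hd := CfsgLib.Solvable.card_sylow_map_dvd_of_vanishing_order (fun g g' h1 h2 h3 h4 => by
    obtain ⟨c, hc⟩ := isConj_iff.1
      (ConjClasses.mk_eq_mk_iff_isConj.1 ((key g h1 h2).trans (key g' h3 h4).symm))
    rw [← hc]
    exact ((MulAut.conj c).orderOf_eq g).symm) P
  set r := (QuotientGroup.mk' (Cfsg.pCore p G)).comp (P : Subgroup G).subtype
  have hker : Nat.card r.ker ∣ Nat.card ↥(Cfsg.pCore p G) := by
    refine Subgroup.card_dvd_of_injective ((((P : Subgroup G).subtype).comp r.ker.subtype).codRestrict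
      (Cfsg.pCore p G) fun x => (QuotientGroup.eq_one_iff _).1 x.2) fun a b h => ?_
    exact Subtype.ext (Subtype.ext (congrArg (fun z : ↥(Cfsg.pCore p G) => (z : G)) h))
  have hr : r.range = (P : Subgroup G).map (QuotientGroup.mk' (Cfsg.pCore p G)) := by
    rw [MonoidHom.range_comp, Subgroup.range_subtype]
  rw [← r.ker.card_mul_index, Subgroup.index_ker, hr, mul_comm]
  exact Nat.mul_le_mul (Nat.le_of_dvd (Fact.out : p.Prime).pos hd)
    (Nat.le_of_dvd Nat.card_pos hker)

end Cfsg.Agent.S4997
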