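import Cfsg.Statements.S5001
import Cfsg.Agent.Lib.BlockB.CentralTwist
import Cfsg.Agent.Lib.Block.MainTheorems
import Cfsg.Agent.Lib.Char.Linear

set_option autoImplicit false
open Cfsg

namespace Cfsg.Agent.S5001

/-- Let p be a prime, G a finite group and B a p-block of G (relative to a maximal ideal M of the algebraic integers containing p) with defect group D. Let Z be a central p-subgroup of G contained in D and λ a linear character of Z (a homomorphism to the nonzero complex numbers). Say an irreducible character χ of G lies over λ when χ(z) = χ(1)λ(z) for all z ∈ Z. If some irreducible character in B lying over λ has height zero, then λ extends to a linear character of D. -/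
theorem result {G : Type*} [Group G] [Finite G] (p : ℕ) [Fact p.Prime] (M : Ideal Cfsg.AlgInt) (hM : Cfsg.IsPModular p M) (B : Set (Cfsg.IrrCharacter G)) (hB : Cfsg.IsPBlock M B) (D : Subgroup G) (hD : Cfsg.IsDefectGroup p M B D) (Z : Subgroup G) (hZc : Z ≤ Subgroup.center G) (hZp : IsPGroup p ↥Z) (hZD : Z ≤ D) (lam : ↥Z →* ℂˣ) (χ : Cfsg.IrrCharacter G) (hχ : χ ∈ B) (hover : (∀ z : ↥Z, (χ : G → ℂ) z = (χ : G → ℂ) 1 * (lam z : ℂ))) (h0 : Cfsg.blockHeight p B (χ : G → ℂ) = 0) : (∃ μ : ↥D →* ℂˣ, ∀ z : ↥Z, μ ⟨(z : G), hZD z.2⟩ = lam z) := by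
  classical
  have := Fintype.ofFinite G
  have := Fintype.ofFinite D
  have := Fintype.ofFinite (Cfsg.IrrCharacter D)
  have := CfsgLib.Block.isPrime_of_pmodular hM
  obtain ⟨y, hy, S, hS⟩ := hD
  have hDc : ∀ d ∈ D, Commute d y := fun d hd => by
    rw [hS] at hd
    obtain ⟨e, -, rfl⟩ := Subgroup.mem_map.1 hd
    exact Subgroup.mem_centralizer_singleton_iff.1 e.2
  have hDp : IsPGroup p D := hS ▸ S.2.map _
  have hne : ¬ Cfsg.MemLocalIdeal M ((χ : G → ℂ) y) := fun h =>
    CfsgLib.Block.redC_char_defectClass_ne_zero hM hB hy hχ h0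
      ((CfsgLib.Block.redC_eq_zero_iff (CfsgLib.Block.memLocalRing_of_memLocalIdeal h)).2 h)
  have hscal : ∀ (z : Z) (g : G), (χ : G → ℂ) (g * z) = (lam z : ℂ) * (χ : G → ℂ) g := by
    obtain ⟨χ, n, ρ, hρ, rfl⟩ := χ
    intro z g
    have hcomm : ∀ h : G, ρ (z : G) ∘ₗ ρ h = ρ h ∘ₗ ρ (z : G) := fun h => by
      rw [← Module.End.mul_eq_comp, ← Module.End.mul_eq_comp, ← map_mul, ← map_mul,
        Subgroup.mem_center_iff.1 (hZc z.2) h]
    obtain ⟨c, hc⟩ := CfsgLib.Char.exists_scalar_of_commute ρ _ hcomm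
    have hval : ∀ h : G, ρ.character (h * z) = c * ρ.character h := fun h => by
      unfold Representation.character
      rw [map_mul, hc, ← Module.End.one_eq_id, mul_smul_comm, mul_one, map_smul, smul_eq_mul]
    have h1 := hval 1
    rw [one_mul] at h1
    have h2 : ρ.character (z : G) = ρ.character 1 * (lam z : ℂ) := hover z
    have h3 : ρ.character 1 ≠ 0 :=
      CfsgLib.Char.irr_apply_one_ne_zero (CfsgLib.Char.isIrrCharacter_of_rep ρ)
    have h4 : c = (lam z : ℂ) := mul_right_cancel₀ h3 (by rw [← h1, h2, mul_comm])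
    show ρ.character (g * z) = _
    rw [hval g, h4]
  set φ : D → ℂ := fun d => (χ : G → ℂ) ((d : G) * y) with hφ
  have hφc : Cfsg.IsClassFunction D φ := fun a b => by
    simp only [φ, Subgroup.coe_mul, Subgroup.coe_inv]
    have := CfsgLib.Char.irr_isClassFunction χ.2 ((a : G) * y) (b : G)
    rw [← this]
    congr 1
    have hc : Commute (b : G)⁻¹ y := (hDc b b.2).inv_left
    simp only [mul_assoc]
    rw [hc.eq]
  obtain ⟨μ, hμ1, hμ0⟩ : ∃ μ : Cfsg.IrrCharacter D, (μ : D → ℂ) 1 = 1 ∧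
      Cfsg.classInner φ (μ : D → ℂ) ≠ 0 := by
    by_contra hno
    push Not at hno
    apply hne
    have h := CfsgLib.Char.classFunction_apply_eq_sum hφc (1 : D)
    simp only [φ, Subgroup.coe_one, one_mul] at h
    rw [h]
    refine CfsgLib.Block.memLocalIdeal_sum _ _ fun μ _ => ?_
    by_cases hμ : (μ : D → ℂ) 1 = 1
    · rw [hno μ hμ, zero_mul]; exact CfsgLib.Block.memLocalIdeal_zero
    · refine CfsgLib.Block.memLocalIdeal_mul_left (CfsgLib.Block.memLocalRing_of_isIntegral
        (CfsgLib.BlockB.isIntegral_classInner_twist (CfsgLib.Char.irr_isCharacter χ.2) D hDc μ)) ?_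
      rw [← CfsgLib.BlockB.irr_degree_cast μ] at hμ ⊢
      refine (CfsgLib.Block.memLocalIdeal_natCast_iff hM _).2 ?_
      obtain ⟨j, hj⟩ := IsPGroup.iff_card.1 hDp
      obtain ⟨i, -, hi⟩ :=
        (Nat.dvd_prime_pow hM.1).1 (hj ▸ CfsgLib.BlockB.irr_degree_dvd_card μ)
      rcases i with _ | i
      · exact absurd (by rw [hi]; simp) hμ
      · rw [hi]; exact dvd_pow_self p i.succ_ne_zero
  obtain ⟨l, hl⟩ := CfsgLib.Char.exists_hom_of_degree_one (CfsgLib.Char.irr_isCharacter μ.2) hμ1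
  refine ⟨l, fun z => ?_⟩
  set z' : D := ⟨(z : G), hZD z.2⟩
  have key : Cfsg.classInner φ (μ : D → ℂ) =
      ((lam z : ℂ) * starRingEnd ℂ (l z' : ℂ)) * Cfsg.classInner φ (μ : D → ℂ) := by
    simp only [CfsgLib.Char.classInner_def, Finset.mul_sum]
    refine Fintype.sum_equiv (Equiv.mulRight z'⁻¹) _ _ fun d => ?_
    have e1 : φ d = (lam z : ℂ) * φ (d * z'⁻¹) := by
      simp only [φ, Subgroup.coe_mul, Subgroup.coe_inv, z']
      rw [← hscal z]
      congr 1
      rw [mul_assoc _ y (z : G), Subgroup.mem_center_iff.1 (hZc z.2) y, ← mul_assoc,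
        inv_mul_cancel_right]
    have e2 : (μ : D → ℂ) d = (μ : D → ℂ) (d * z'⁻¹) * (l z' : ℂ) := by
      simp only [hl]
      rw [← Units.val_mul, ← map_mul, inv_mul_cancel_right]
    simp only [Equiv.coe_mulRight]
    rw [e1, e2, map_mul]
    ring
  have h5 : (lam z : ℂ) * starRingEnd ℂ (l z' : ℂ) = 1 :=
    mul_right_cancel₀ hμ0 (by rw [← key, one_mul])
  have hl1 : starRingEnd ℂ (l z' : ℂ) = ((l z')⁻¹ : ℂˣ) := by
    have h6 := CfsgLib.Char.char_inv (CfsgLib.Char.irr_isCharacter μ.2) z'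
    simp only [hl, map_inv] at h6
    exact h6.symm
  rw [hl1] at h5
  have h7 : lam z * (l z')⁻¹ = 1 := Units.ext (by simpa using h5)
  exact (mul_inv_eq_one.1 h7).symm

end Cfsg.Agent.S5001
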