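import Cfsg.Statements.S5011
import Mathlib

set_option autoImplicit false
open Cfsg

namespace Cfsg.Agent.S5011

/-- Let G be a finite non-abelian simple group and ρ an irreducible complex representation of G on a space of dimension greater than one (irreducible in the sense that the only subspaces invariant under every ρ(x) are 0 and the whole space). Then for every non-identity element g of G, the centralizer of g does not act irreducibly: there is a non-zero proper subspace invariant under ρ(c) for every c commuting with g. -/
theorem result {G : Type*} [Group G] [Finite G] [IsSimpleGroup G]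
    (hG : ¬ IsMulCommutative G) {V : Type*} [AddCommGroup V] [Module ℂ V] [FiniteDimensional ℂ V]
    (ρ : Representation ℂ G V)
    (hirr : ∀ W : Submodule ℂ V, (∀ x : G, ∀ v ∈ W, ρ x v ∈ W) → W = ⊥ ∨ W = ⊤)
    (hdim : 1 < Module.finrank ℂ V) (g : G) (hg : g ≠ 1) :
    ∃ W : Submodule ℂ V, W ≠ ⊥ ∧ W ≠ ⊤ ∧ ∀ c ∈ Subgroup.centralizer ({g} : Set G), ∀ v ∈ W, ρ c v ∈ W := by
  classical
  have : Nontrivial V := Module.nontrivial_of_finrank_pos (R := ℂ) (by omega)
  obtain ⟨μ, hμ⟩ := Module.End.exists_eigenvalue (ρ g)
  refine ⟨Module.End.eigenspace (ρ g) μ, hμ, ?_, ?_⟩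
  · intro htop
    have hgs : ∀ v, ρ g v = μ • v := fun v => by
      have : v ∈ Module.End.eigenspace (ρ g) μ := htop ▸ Submodule.mem_top
      exact Module.End.mem_eigenspace_iff.mp this
    let Z : Subgroup G :=
      { carrier := {x | ∃ c : ℂ, ∀ v, ρ x v = c • v}
        one_mem' := ⟨1, fun v => by simp⟩
        mul_mem' := by
          rintro a b ⟨c, hc⟩ ⟨d, hd⟩
          exact ⟨d * c, fun v => by rw [map_mul, Module.End.mul_apply, hd, map_smul, hc, smul_smul]⟩
        inv_mem' := by
          rintro a ⟨c, hc⟩
          refine ⟨c⁻¹, fun v => ?_⟩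
          by_cases hc0 : c = 0
          · have hv : ∀ w : V, w = 0 := fun w => by
              have h1 : ρ a⁻¹ (ρ a w) = w := by
                rw [← Module.End.mul_apply, ← map_mul, inv_mul_cancel, map_one, Module.End.one_apply]
              rw [← h1, hc, hc0, zero_smul, map_zero]
            rw [hv (ρ a⁻¹ v), hv v, smul_zero]
          · have h1 : ρ a (ρ a⁻¹ v) = v := by
              rw [← Module.End.mul_apply, ← map_mul, mul_inv_cancel, map_one, Module.End.one_apply]
            rw [hc] at h1
            rw [← h1, smul_smul, inv_mul_cancel₀ hc0, one_smul, h1] }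
    have hZn : Z.Normal := ⟨by
      rintro a ⟨c, hc⟩ x
      refine ⟨c, fun v => ?_⟩
      rw [map_mul, map_mul, Module.End.mul_apply, Module.End.mul_apply, hc, map_smul,
        ← Module.End.mul_apply, ← map_mul, mul_inv_cancel, map_one, Module.End.one_apply]⟩
    have hZ : Z = ⊤ := by
      rcases hZn.eq_bot_or_eq_top with h | h
      · exact absurd (by
          have : g ∈ Z := ⟨μ, hgs⟩
          rwa [h, Subgroup.mem_bot] at this) hg
      · exact h
    obtain ⟨v, hv⟩ := exists_ne (0 : V)
    rcases hirr (Submodule.span ℂ {v}) (fun x w hw => by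
      obtain ⟨c, hc⟩ : x ∈ Z := hZ ▸ Subgroup.mem_top x
      rw [hc]; exact Submodule.smul_mem _ c hw) with h | h
    · exact hv (by simpa using h)
    · have h2 := finrank_span_singleton (K := ℂ) hv
      rw [h, finrank_top] at h2
      omega
  · intro c hc v hv
    rw [Module.End.mem_eigenspace_iff] at hv ⊢
    rw [← Module.End.mul_apply, ← map_mul, (Subgroup.mem_centralizer_singleton_iff.mp hc).symm,
      map_mul, Module.End.mul_apply, hv, map_smul]

end Cfsg.Agent.S5011
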