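import Cfsg.Statements.S5014
import Cfsg.Agent.Lib.Trans3.RankOne

set_option autoImplicit false
open Cfsg

namespace Cfsg.Agent.S5014

/-- Let X = ⟨A, B⟩ be a rank one group with unipotent subgroups A and B and let Ω be the set of conjugates of A under X. Then Ω has at least three members, X acts doubly transitively on Ω by conjugation (any two ordered pairs of distinct members are carried to one another by a single element of X), and A acts regularly on Ω with A removed: for C, D in Ω different from A there is exactly one element of A conjugating C to D. -/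
theorem result {G : Type*} [Group G] {A B : Subgroup G} (h : Cfsg.IsRankOnePair A B) :
    (∃ C₁ ∈ Cfsg.unipotentSubgroups A B, ∃ C₂ ∈ Cfsg.unipotentSubgroups A B, ∃ C₃ ∈ Cfsg.unipotentSubgroups A B,
      C₁ ≠ C₂ ∧ C₁ ≠ C₃ ∧ C₂ ≠ C₃) ∧
    (∀ C₁ ∈ Cfsg.unipotentSubgroups A B, ∀ C₂ ∈ Cfsg.unipotentSubgroups A B, ∀ D₁ ∈ Cfsg.unipotentSubgroups A B,
      ∀ D₂ ∈ Cfsg.unipotentSubgroups A B, C₁ ≠ C₂ → D₁ ≠ D₂ →
        ∃ x ∈ A ⊔ B, Cfsg.conjBy C₁ x = D₁ ∧ Cfsg.conjBy C₂ x = D₂) ∧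
    (∀ C ∈ Cfsg.unipotentSubgroups A B, ∀ D ∈ Cfsg.unipotentSubgroups A B, C ≠ A → D ≠ A →
      ∃! a : G, a ∈ A ∧ Cfsg.conjBy C a = D) := by

  obtain ⟨a, ha, ha1⟩ := CfsgLib.Trans3.RankOne.exists_mem_ne_one h
  have hB := CfsgLib.Trans3.RankOne.right_mem h
  refine ⟨⟨A, CfsgLib.Trans3.RankOne.left_mem A B, B, hB, Cfsg.conjBy B a,
    CfsgLib.Trans3.RankOne.conjBy_mem hB (Subgroup.mem_sup_left ha), h.ne, ?_, ?_⟩, ?_, ?_⟩
  · intro he
    rw [eq_comm, CfsgLib.Trans3.RankOne.conjBy_eq_iff,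
      CfsgLib.Trans3.RankOne.conjBy_of_mem (A.inv_mem ha)] at he
    exact h.ne he.symm
  · intro he
    exact ha1 (CfsgLib.Trans3.RankOne.eq_one_of_mem_normalizer h ha
      (CfsgLib.Trans3.RankOne.conjBy_eq_self_iff.1 he.symm))
  · intro C₁ hC₁ C₂ hC₂ D₁ hD₁ D₂ hD₂ hC hD
    obtain ⟨x, hx, rfl, rfl⟩ := CfsgLib.Trans3.RankOne.exists_conj_pair h hC₁ hC₂ hC
    obtain ⟨y, hy, rfl, rfl⟩ := CfsgLib.Trans3.RankOne.exists_conj_pair h hD₁ hD₂ hD
    refine ⟨y * x⁻¹, mul_mem hy (inv_mem hx), ?_, ?_⟩ <;>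
      rw [CfsgLib.Trans3.RankOne.conjBy_conjBy, inv_mul_cancel_right]
  · intro C hC D hD hCA hDA
    obtain ⟨c, hc, rfl⟩ := CfsgLib.Trans3.RankOne.exists_eq_conjBy h hC hCA
    obtain ⟨d, hd, rfl⟩ := CfsgLib.Trans3.RankOne.exists_eq_conjBy h hD hDA
    refine ⟨d * c⁻¹, ⟨mul_mem hd (inv_mem hc), ?_⟩, fun b hb => ?_⟩
    · rw [CfsgLib.Trans3.RankOne.conjBy_conjBy, inv_mul_cancel_right]
    · have he := hb.2
      rw [CfsgLib.Trans3.RankOne.conjBy_conjBy] at he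
      exact eq_mul_inv_of_mul_eq
        (CfsgLib.Trans3.RankOne.eq_of_conjBy_eq h (mul_mem hb.1 hc) hd he)

end Cfsg.Agent.S5014
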