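import Cfsg.Statements.S5015
import Cfsg.Agent.Lib.Trans3.RankOne

set_option autoImplicit false
open Cfsg

namespace Cfsg.Agent.S5015

/-- Let a group Y act doubly transitively on a set Ω with at least three points, and suppose that the stabilizer of a point α contains a nilpotent subgroup A, normalized by that stabilizer, which acts regularly on the points other than α. Then for any y in Y moving α, the subgroups A and y A y⁻¹ are the unipotent subgroups of a rank one group, and the normal closure of A in Y (the subgroup generated by all conjugates of A) is generated by A and y A y⁻¹ alone. -/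
theorem result {Y Ω : Type*} [Group Y] [MulAction Y Ω]
    (h2 : MulAction.IsMultiplyPretransitive Y Ω 2) (hΩ : 3 ≤ ENat.card Ω) (α : Ω) (A : Subgroup Y)
    (hA : A ≤ MulAction.stabilizer Y α) (hAn : ∀ y ∈ MulAction.stabilizer Y α, Cfsg.conjBy A y = A)
    (hnil : Group.IsNilpotent A) (hreg : ∀ β γ : Ω, β ≠ α → γ ≠ α → ∃! a : Y, a ∈ A ∧ a • β = γ)
    (y : Y) (hy : y ∉ MulAction.stabilizer Y α) :
    Cfsg.IsRankOnePair A (Cfsg.conjBy A y) ∧ Subgroup.normalClosure (A : Set Y) = A ⊔ Cfsg.conjBy A y := by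

  have hy' : y • α ≠ α := fun h => hy h
  have hfix : ∀ (g : Y) (β : Ω), g • α = β → ∀ a ∈ Cfsg.conjBy A g, a • β = β := by
    intro g β hg a ha
    rw [CfsgLib.Trans3.RankOne.mem_conjBy] at ha
    have h1 : (g⁻¹ * a * g) • α = α := hA ha
    rw [mul_smul, mul_smul, hg, inv_smul_eq_iff, hg] at h1
    exact h1
  have hwell : ∀ g g' : Y, g • α = g' • α → Cfsg.conjBy A g = Cfsg.conjBy A g' := by
    intro g g' h
    have h1 : g'⁻¹ * g ∈ MulAction.stabilizer Y α := by
      rw [MulAction.mem_stabilizer_iff, mul_smul, h, inv_smul_smul]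
    rw [← mul_inv_cancel_left g' g, ← CfsgLib.Trans3.RankOne.conjBy_conjBy, hAn _ h1]
  have hregc : ∀ g : Y, ∀ β γ : Ω, β ≠ g • α → γ ≠ g • α →
      ∃! a : Y, a ∈ Cfsg.conjBy A g ∧ a • β = γ := by
    intro g β γ hβ hγ
    obtain ⟨a, ⟨ha, hab⟩, hu⟩ := hreg (g⁻¹ • β) (g⁻¹ • γ)
      (fun h => hβ (by rw [← h, smul_inv_smul])) (fun h => hγ (by rw [← h, smul_inv_smul]))
    refine ⟨g * a * g⁻¹, ⟨CfsgLib.Trans3.RankOne.conj_mem_conjBy ha, ?_⟩, ?_⟩
    · rw [mul_smul, mul_smul, hab, smul_inv_smul]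
    · rintro b ⟨hb, hbγ⟩
      rw [CfsgLib.Trans3.RankOne.mem_conjBy] at hb
      rw [← hu (g⁻¹ * b * g) ⟨hb, by rw [mul_smul, mul_smul, smul_inv_smul, hbγ]⟩]
      group
  have hcond : ∀ g g' : Y, g • α ≠ g' • α →
      Cfsg.RankOneCondition (Cfsg.conjBy A g) (Cfsg.conjBy A g') := by
    intro g g' hne a ha ha1
    have h1 : a⁻¹ • g' • α ≠ g' • α := by
      intro h
      apply ha1
      obtain ⟨c, -, hu⟩ := hregc g (g' • α) (g' • α) hne.symm hne.symm
      rw [hu a ⟨ha, (inv_smul_eq_iff.1 h).symm⟩, hu 1 ⟨one_mem _, one_smul _ _⟩]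
    obtain ⟨c, ⟨hc, hcs⟩, -⟩ := hregc g' (g • α) (a⁻¹ • g' • α) hne h1
    refine ⟨c⁻¹, inv_mem hc, fun h => ?_, ?_⟩
    · rw [inv_eq_one.1 h, one_smul] at hcs
      exact hne (by rw [← smul_inv_smul a (g' • α), ← hcs, hfix g (g • α) rfl a ha])
    · rw [inv_inv, CfsgLib.Trans3.RankOne.conjBy_conjBy, CfsgLib.Trans3.RankOne.conjBy_conjBy]
      exact hwell _ _ (by rw [mul_smul, mul_smul, hcs])
  have hA1 : Cfsg.conjBy A 1 = A := CfsgLib.Trans3.RankOne.conjBy_one A
  refine ⟨⟨?_, hnil, Group.nilpotent_of_mulEquiv (A.equivMapOfInjective _ (MulAut.conj y).injective),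
    by simpa only [hA1] using hcond 1 y (by rw [one_smul]; exact hy'.symm),
    by simpa only [hA1] using hcond y 1 (by rw [one_smul]; exact hy')⟩, le_antisymm ?_ ?_⟩
  · intro he
    have h3 : ∃ γ : Ω, γ ≠ α ∧ γ ≠ y • α := by
      by_contra! h
      have : ENat.card Ω ≤ 2 := by
        have hsurj : Function.Surjective (fun b : Bool => cond b α (y • α)) := fun γ => by
          by_cases hγ : γ = α
          · exact ⟨true, hγ.symm⟩
          · exact ⟨false, (h γ hγ).symm⟩
        have := Finite.of_surjective _ hsurj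
        rw [ENat.card_eq_coe_natCard]
        exact_mod_cast (Nat.card_le_card_of_surjective _ hsurj).trans (by simp)
      exact absurd (hΩ.trans this) (by norm_num)
    obtain ⟨γ, hγ, hγy⟩ := h3
    obtain ⟨a, ⟨ha, hab⟩, -⟩ := hreg (y • α) γ hy' hγ
    exact hγy (hab ▸ hfix y (y • α) rfl a (he ▸ ha))
  · rw [Subgroup.normalClosure, Subgroup.closure_le]
    intro z hz
    obtain ⟨a, ha, hc⟩ := Group.mem_conjugatesOfSet_iff.1 hz
    obtain ⟨g, rfl⟩ := isConj_iff.1 hc
    by_cases hg : g • α = α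
    · refine Subgroup.mem_sup_left ?_
      have := CfsgLib.Trans3.RankOne.conj_mem_conjBy (g := g) ha
      rwa [hAn g hg] at this
    · obtain ⟨c, ⟨hc, hcs⟩, -⟩ := hreg (y • α) (g • α) hy' hg
      have h1 := CfsgLib.Trans3.RankOne.conj_mem_conjBy (g := g) ha
      rw [hwell g (c * y) (by rw [mul_smul, hcs]), ← CfsgLib.Trans3.RankOne.conjBy_conjBy] at h1
      obtain ⟨w, hw, hwz⟩ := h1
      rw [SetLike.mem_coe, ← hwz]
      exact mul_mem (mul_mem (Subgroup.mem_sup_left hc) (Subgroup.mem_sup_right hw))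
        (inv_mem (Subgroup.mem_sup_left hc))
  · refine sup_le Subgroup.subset_normalClosure ?_
    rintro x ⟨a, ha, rfl⟩
    exact Subgroup.normalClosure_normal.conj_mem a (Subgroup.subset_normalClosure ha) y

end Cfsg.Agent.S5015
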