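import Cfsg.Statements.S5016
import Cfsg.Agent.Lib.Trans3.RankOne

set_option autoImplicit false
open Cfsg

namespace Cfsg.Agent.S5016

/-- For any field k, the special linear group SL₂(k) is a special rank one group with abelian unipotent subgroups, the unipotent subgroups being the group of lower unitriangular matrices and the group of upper unitriangular matrices. -/
theorem result (k : Type*) [Field k] :
    Cfsg.IsRankOneGroup (Matrix.SpecialLinearGroup (Fin 2) k) (Cfsg.lowerUnipotentSL2 k) (Cfsg.upperUnipotentSL2 k) ∧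
    Cfsg.IsSpecialRankOnePair (Cfsg.lowerUnipotentSL2 k) (Cfsg.upperUnipotentSL2 k) ∧
    Cfsg.HasAbelianUnipotents (Cfsg.lowerUnipotentSL2 k) (Cfsg.upperUnipotentSL2 k) := by
  let U : k → (Matrix.SpecialLinearGroup (Fin 2) k) := fun x => ⟨!![1, x; 0, 1], by simp [Matrix.det_fin_two]⟩
  let L : k → (Matrix.SpecialLinearGroup (Fin 2) k) := fun x => ⟨!![1, 0; x, 1], by simp [Matrix.det_fin_two]⟩
  have hUv : ∀ x, (U x).1 = !![1, x; 0, 1] := fun _ => rfl
  have hLv : ∀ x, (L x).1 = !![1, 0; x, 1] := fun _ => rfl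
  clear_value U L
  have hUm : ∀ x y, U x * U y = U (x + y) := fun x y => by
    ext i j; fin_cases i <;> fin_cases j <;> simp [hUv, Matrix.SpecialLinearGroup.coe_mul, Matrix.mul_fin_two, add_comm]
  have hLm : ∀ x y, L x * L y = L (x + y) := fun x y => by
    ext i j; fin_cases i <;> fin_cases j <;> simp [hLv, Matrix.SpecialLinearGroup.coe_mul, Matrix.mul_fin_two, add_comm]
  have hU0 : U 0 = 1 := by ext i j; fin_cases i <;> fin_cases j <;> simp [hUv]
  have hL0 : L 0 = 1 := by ext i j; fin_cases i <;> fin_cases j <;> simp [hLv]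
  have hUi : ∀ x, (U x)⁻¹ = U (-x) := fun x => inv_eq_of_mul_eq_one_right (by rw [hUm, add_neg_cancel, hU0])
  have hLi : ∀ x, (L x)⁻¹ = L (-x) := fun x => inv_eq_of_mul_eq_one_right (by rw [hLm, add_neg_cancel, hL0])
  let HU : Subgroup (Matrix.SpecialLinearGroup (Fin 2) k) :=
    { carrier := Set.range U
      one_mem' := ⟨0, hU0⟩
      mul_mem' := by rintro _ _ ⟨x, rfl⟩ ⟨y, rfl⟩; exact ⟨x + y, (hUm x y).symm⟩
      inv_mem' := by rintro _ ⟨x, rfl⟩; exact ⟨-x, (hUi x).symm⟩ }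
  let HL : Subgroup (Matrix.SpecialLinearGroup (Fin 2) k) :=
    { carrier := Set.range L
      one_mem' := ⟨0, hL0⟩
      mul_mem' := by rintro _ _ ⟨x, rfl⟩ ⟨y, rfl⟩; exact ⟨x + y, (hLm x y).symm⟩
      inv_mem' := by rintro _ ⟨x, rfl⟩; exact ⟨-x, (hLi x).symm⟩ }
  have hB : Cfsg.upperUnipotentSL2 k = HU := by
    refine le_antisymm ((Subgroup.closure_le _).2 ?_) ?_
    · rintro g ⟨h10, h00, h11⟩
      refine ⟨g.1 0 1, ?_⟩
      ext i j; fin_cases i <;> fin_cases j <;> simp [hUv, h10, h00, h11]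
    · rintro _ ⟨x, rfl⟩
      exact Subgroup.subset_closure (by simp [hUv, hLv])
  have hA : Cfsg.lowerUnipotentSL2 k = HL := by
    refine le_antisymm ((Subgroup.closure_le _).2 ?_) ?_
    · rintro g ⟨h01, h00, h11⟩
      refine ⟨g.1 1 0, ?_⟩
      ext i j; fin_cases i <;> fin_cases j <;> simp [hLv, h01, h00, h11]
    · rintro _ ⟨x, rfl⟩
      exact Subgroup.subset_closure (by simp [hUv, hLv])
  rw [hA, hB]
  have key : ∀ t : k, t ≠ 0 → ∀ x : k,
      (U t⁻¹)⁻¹ * L x * U t⁻¹ = (L t)⁻¹ * U (-(x / t ^ 2)) * L t := by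
    intro t ht x
    rw [hUi, hLi]
    ext i j
    fin_cases i <;> fin_cases j <;> simp [hUv, hLv, Matrix.SpecialLinearGroup.coe_mul, Matrix.mul_fin_two] <;> field_simp <;> ring
  have hpair : ∀ t : k, t ≠ 0 → Cfsg.conjBy HL (U t⁻¹)⁻¹ = Cfsg.conjBy HU (L t)⁻¹ := by
    intro t ht
    ext g
    simp only [CfsgLib.Trans3.RankOne.mem_conjBy, inv_inv]
    constructor
    · rintro ⟨x, hx⟩
      refine ⟨-(x / t ^ 2), ?_⟩
      calc U (-(x / t ^ 2)) = L t * ((L t)⁻¹ * U (-(x / t ^ 2)) * L t) * (L t)⁻¹ := by group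
        _ = L t * ((U t⁻¹)⁻¹ * L x * U t⁻¹) * (L t)⁻¹ := by rw [key t ht x]
        _ = L t * g * (L t)⁻¹ := by rw [hx]; group
    · rintro ⟨y, hy⟩
      refine ⟨-(y * t ^ 2), ?_⟩
      calc L (-(y * t ^ 2)) = U t⁻¹ * ((U t⁻¹)⁻¹ * L (-(y * t ^ 2)) * U t⁻¹) * (U t⁻¹)⁻¹ := by group
        _ = U t⁻¹ * ((L t)⁻¹ * U y * L t) * (U t⁻¹)⁻¹ := by
          rw [key t ht, show -(-(y * t ^ 2) / t ^ 2) = y by field_simp]
        _ = U t⁻¹ * g * (U t⁻¹)⁻¹ := by rw [hy]; group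
  have hab : Cfsg.HasAbelianUnipotents HL HU := by
    refine ⟨⟨⟨?_⟩⟩, ⟨⟨?_⟩⟩⟩ <;> rintro ⟨_, x, rfl⟩ ⟨_, y, rfl⟩ <;> ext1 <;>
      simp only [Subgroup.coe_mul]
    · rw [hLm, hLm, add_comm]
    · rw [hUm, hUm, add_comm]
  have hne0 : ∀ t, L t ≠ 1 → t ≠ 0 := fun t h ht => h (ht ▸ hL0)
  have hne0' : ∀ t, U t ≠ 1 → t ≠ 0 := fun t h ht => h (ht ▸ hU0)
  have hU1 : ∀ t, t ≠ 0 → U t ≠ 1 := fun t ht h => ht (by
    simpa [hUv] using congrArg (fun g : (Matrix.SpecialLinearGroup (Fin 2) k) => g.1 0 1) h)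
  have hL1 : ∀ t, t ≠ 0 → L t ≠ 1 := fun t ht h => ht (by
    simpa [hLv] using congrArg (fun g : (Matrix.SpecialLinearGroup (Fin 2) k) => g.1 1 0) h)
  have hR : Cfsg.IsRankOnePair HL HU := by
    refine ⟨fun h => ?_, ?_, ?_, ?_, ?_⟩
    · obtain ⟨x, hx⟩ : L 1 ∈ HU := h ▸ ⟨1, rfl⟩
      simpa [hUv, hLv] using congrArg (fun g : (Matrix.SpecialLinearGroup (Fin 2) k) => g.1 1 0) hx
    · have := hab.1
      open IsMulCommutative in exact inferInstance
    · have := hab.2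
      open IsMulCommutative in exact inferInstance
    · rintro _ ⟨t, rfl⟩ ht
      exact ⟨U t⁻¹, ⟨_, rfl⟩, hU1 _ (inv_ne_zero (hne0 t ht)), hpair t (hne0 t ht)⟩
    · rintro _ ⟨t, rfl⟩ ht
      refine ⟨L t⁻¹, ⟨_, rfl⟩, hL1 _ (inv_ne_zero (hne0' t ht)), ?_⟩
      have := (hpair t⁻¹ (inv_ne_zero (hne0' t ht))).symm
      rwa [inv_inv] at this
  refine ⟨⟨?_, hR⟩, ⟨hR, ?_⟩, hab⟩
  · rw [eq_top_iff]
    have hbig : ∀ g : (Matrix.SpecialLinearGroup (Fin 2) k), g.1 1 0 ≠ 0 → g ∈ HL ⊔ HU := by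
      intro g hc
      have hdet : g.1 0 0 * g.1 1 1 - g.1 0 1 * g.1 1 0 = 1 := by
        rw [← Matrix.det_fin_two]; exact g.2
      have : g = U ((g.1 0 0 - 1) / g.1 1 0) * L (g.1 1 0) * U ((g.1 1 1 - 1) / g.1 1 0) := by
        ext i j
        fin_cases i <;> fin_cases j <;> simp [hUv, hLv, Matrix.SpecialLinearGroup.coe_mul, Matrix.mul_fin_two] <;> field_simp
        all_goals first | ring1 | linear_combination hdet | linear_combination -hdet
      rw [this]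
      exact mul_mem (mul_mem (Subgroup.mem_sup_right ⟨_, rfl⟩) (Subgroup.mem_sup_left ⟨_, rfl⟩))
        (Subgroup.mem_sup_right ⟨_, rfl⟩)
    intro g _
    by_cases hc : g.1 1 0 = 0
    · have hdet : g.1 0 0 * g.1 1 1 - g.1 0 1 * g.1 1 0 = 1 := by
        rw [← Matrix.det_fin_two]; exact g.2
      have h1 : (g * L 1).1 1 0 ≠ 0 := by
        simp [hLv, Matrix.SpecialLinearGroup.coe_mul, Matrix.mul_apply, hc]
        intro h
        rw [h, hc] at hdet
        simp at hdet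
      have h2 := mul_mem (hbig _ h1) (inv_mem (Subgroup.mem_sup_left (T := HU) (⟨1, rfl⟩ : L 1 ∈ HL)))
      simpa using h2
    · exact hbig g hc
  · rintro _ ⟨t, rfl⟩ ht b hb _ he
    have ht0 := hne0 t ht
    have hbu : b = U t⁻¹ := inv_inj.1 (CfsgLib.Trans3.RankOne.eq_of_conjBy_eq
      (Cfsg.RankOnePair_symm hR) (inv_mem hb) (inv_mem ⟨_, rfl⟩) (he.trans (hpair t ht0).symm))
    rw [hbu, key t ht0 t, hUi, show -(t / t ^ 2) = -t⁻¹ by field_simp]

end Cfsg.Agent.S5016
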