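import Cfsg.Statements.S5017
import Cfsg.Agent.Lib.Trans3.RankOne

set_option autoImplicit false
open Cfsg

namespace Cfsg.Agent.S5017

/-- Let X be a rank one group with unipotent subgroups A and B and N a normal subgroup of X. Then either X = N A or N lies in the centre of X. Consequently a perfect rank one group is quasisimple. -/
theorem result {X : Type*} [Group X] {A B : Subgroup X} (h : Cfsg.IsRankOneGroup X A B) :
    (∀ N : Subgroup X, N.Normal → N ⊔ A = ⊤ ∨ N ≤ Subgroup.center X) ∧
    (Group.IsPerfect X → Cfsg.IsQuasisimple X) := by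
  refine ⟨fun N hN => CfsgLib.Trans3.RankOne.normal_dichotomy h N, fun hp => ⟨hp, ?_⟩⟩
  obtain ⟨a, -, b, -, hab⟩ := CfsgLib.Trans3.RankOne.not_comm h.2
  have : Nontrivial (X ⧸ Subgroup.center X) := by
    rw [QuotientGroup.nontrivial_iff]
    intro hc
    exact hab (Subgroup.mem_center_iff.1 (hc ▸ Subgroup.mem_top b) a)
  refine { eq_bot_or_eq_top_of_normal := fun M hM => ?_ }
  rcases CfsgLib.Trans3.RankOne.normal_dichotomy h
    (M.comap (QuotientGroup.mk' (Subgroup.center X))) with h1 | h1
  · right
    let N := M.comap (QuotientGroup.mk' (Subgroup.center X))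
    have hs : Function.Surjective ((QuotientGroup.mk' N).comp A.subtype) := by
      intro q
      obtain ⟨x, rfl⟩ := QuotientGroup.mk'_surjective N q
      have hx : x ∈ ((N ⊔ A : Subgroup X) : Set X) := by rw [h1]; trivial
      rw [Subgroup.normal_mul] at hx
      obtain ⟨n, hn, c, hc, rfl⟩ := hx
      exact ⟨⟨c, hc⟩, by simp [(QuotientGroup.eq_one_iff n).2 hn]⟩
    have := h.2.nilpotent_left
    have hnil : Group.IsNilpotent (X ⧸ N) := Group.nilpotent_of_surjective _ hs
    have : Subsingleton (X ⧸ N) := by
      by_contra hne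
      rw [not_subsingleton_iff_nontrivial] at hne
      exact Group.IsPerfect.not_isNilpotent (X ⧸ N) hnil
    have hN : N = ⊤ := QuotientGroup.subsingleton_iff.1 this
    rw [← Subgroup.map_comap_eq_self_of_surjective (QuotientGroup.mk'_surjective _) M]
    change N.map _ = ⊤
    rw [hN, Subgroup.map_top_of_surjective _ (QuotientGroup.mk'_surjective _)]
  · left
    rw [← Subgroup.map_comap_eq_self_of_surjective (QuotientGroup.mk'_surjective _) M,
      Subgroup.map_eq_bot_iff, QuotientGroup.ker_mk']
    exact h1

end Cfsg.Agent.S5017
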