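import Cfsg.Statements.S5020
import Cfsg.Agent.Lib.Trans3.SpecialDiagonal
import Cfsg.Agent.Lib.Trans3.SpecialPrime
import Cfsg.Agent.S5017
import Cfsg.Agent.Lib.ClassK.QuasiIso

set_option autoImplicit false
open Cfsg

namespace Cfsg.Agent.S5020

theorem eq_one_of_sq_zmod_two : ∀ r : ZMod 2, r ^ 2 = 1 → r = 1 := by decide

/-- Let X be a special rank one group with abelian unipotent subgroups A and B, and H = N(A) ∩ N(B) its diagonal subgroup. Then either A has at most three elements and X is isomorphic to SL₂(2), SL₂(3) or PSL₂(3); or X = X' A with the commutator subgroup X' quasisimple and the commutator subgroup ⁅A, H⁆ having more than three elements. -/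
theorem result {X : Type*} [Group X] {A B : Subgroup X} (h : Cfsg.IsRankOneGroup X A B)
    (hs : Cfsg.IsSpecialRankOnePair A B) (hab : Cfsg.HasAbelianUnipotents A B) :
    (ENat.card A ≤ 3 ∧ (Nonempty (X ≃* Matrix.SpecialLinearGroup (Fin 2) (ZMod 2)) ∨
        Nonempty (X ≃* Matrix.SpecialLinearGroup (Fin 2) (ZMod 3)) ∨
        Nonempty (X ≃* Matrix.ProjectiveSpecialLinearGroup (Fin 2) (ZMod 3)))) ∨
    (commutator X ⊔ A = ⊤ ∧ Cfsg.IsQuasisimple (commutator X) ∧
      3 < ENat.card ↥(⁅A, Cfsg.rankOneDiagonal A B⁆ : Subgroup X)) := by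
  classical
  have hd : CfsgLib.Trans3.RankOne.SpecialData A B := .mk' hs hab
  obtain ⟨a, ha, ha1⟩ := CfsgLib.Trans3.RankOne.exists_mem_ne_one hd.pair
  obtain ⟨b, hp⟩ := CfsgLib.Trans3.RankOne.exists_isPartner hd.pair ha ha1
  obtain ⟨hAB, -⟩ := CfsgLib.Trans3.RankOne.monomial_swap hd hp
  by_cases hcard : 3 < ENat.card A
  · right
    have hperf : commutator X = ⊤ := by
      let π : X →* Abelianization X := Abelianization.of
      have hA := CfsgLib.Trans3.RankOne.map_eq_one_of_comm hd π
        (fun u _ v _ => mul_comm _ _) hcard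
      have hB : ∀ q ∈ B, π q = 1 := by
        intro q hq
        rw [← hAB, CfsgLib.Trans3.RankOne.mem_conjBy] at hq
        have := hA _ hq
        rwa [map_mul, map_mul, mul_comm (π _⁻¹), mul_assoc, ← map_mul, inv_mul_cancel, map_one,
          mul_one] at this
      rw [eq_top_iff, ← h.1, ← Abelianization.ker_of]
      exact sup_le (fun x hx => hA x hx) (fun x hx => hB x hx)
    refine ⟨by rw [hperf, top_sup_eq], ?_, ?_⟩
    · rw [hperf]
      exact CfsgLib.ClassK.isQuasisimple_of_mulEquiv Subgroup.topEquiv.symm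
        ((Cfsg.Agent.S5017.result h).2 ⟨hperf⟩)
    · exact hcard.trans_le (ENat.card_le_card_of_injective
        (Subgroup.inclusion_injective (CfsgLib.Trans3.RankOne.le_commutator_diagonal hd hcard)))
  · left
    have hle := not_lt.1 hcard
    refine ⟨hle, ?_⟩
    haveI : Finite A := ENat.card_lt_top.1 (hle.trans_lt (by decide))
    have hn : Nat.card A ≤ 3 := by
      rw [ENat.card_eq_coe_natCard] at hle
      exact_mod_cast hle
    have hn1 : 1 < Nat.card A := by
      haveI : Nontrivial A := ⟨⟨⟨a, ha⟩, 1, fun e => ha1 (Subtype.ext_iff.1 e)⟩⟩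
      exact Finite.one_lt_card
    obtain ⟨p, hpA⟩ : ∃ p, Nat.card A = p := ⟨_, rfl⟩
    haveI : Fact p.Prime := ⟨by
      rcases (show p = 2 ∨ p = 3 by omega) with rfl | rfl
      · exact Nat.prime_two
      · exact Nat.prime_three⟩
    have hpB : Nat.card B = p := by
      rw [← hAB, conjBy, Nat.card_congr (Subgroup.equivMapOfInjective A _
        (MulEquiv.injective _)).toEquiv.symm, hpA]
    have hz : ∀ {C : Subgroup X} {c : X}, Nat.card C = p → c ∈ C → c ≠ 1 →
        C ≤ Subgroup.closure {c} := by
      intro C c hC hc hc1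
      haveI : Finite C := Nat.finite_of_card_ne_zero (hC ▸ (Fact.out : p.Prime).ne_zero)
      intro x hx
      have := mem_zpowers_of_prime_card hC (g := ⟨c, hc⟩) (g' := ⟨x, hx⟩)
        (fun e => hc1 (Subtype.ext_iff.1 e))
      obtain ⟨k, hk⟩ := Subgroup.mem_zpowers_iff.1 this
      have hk' := congrArg (Subgroup.subtype C) hk
      rw [map_zpow] at hk'
      simp only [Subgroup.coe_subtype] at hk'
      rw [← hk', ← Subgroup.zpowers_eq_closure]
      exact Subgroup.zpow_mem _ (Subgroup.mem_zpowers c) k
    have htop : Subgroup.closure ({a, b} : Set X) = ⊤ := by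
      rw [eq_top_iff, ← h.1]
      exact sup_le ((hz (C := A) (c := a) hpA ha ha1).trans
        (Subgroup.closure_mono (Set.singleton_subset_iff.2 (Set.mem_insert _ _))))
        ((hz (C := B) (c := b) hpB hp.2.2.1 hp.2.2.2.1).trans
          (Subgroup.closure_mono (Set.singleton_subset_iff.2 (Set.mem_insert_of_mem _ rfl))))
    have hap : a ^ p = 1 := by
      have := pow_card_eq_one' (x := (⟨a, ha⟩ : A))
      rw [hpA] at this
      exact Subtype.ext_iff.1 this
    have e : X ≃* ↥(Subgroup.closure ({a, b} : Set X)) :=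
      Subgroup.topEquiv.symm.trans (MulEquiv.subgroupCongr htop.symm)
    rcases CfsgLib.Trans3.RankOne.iso_closure_pair hd hp hap with hf | hf
    · rcases (show p = 2 ∨ p = 3 by omega) with rfl | rfl
      · exact .inl (hf.map e.trans)
      · exact .inr (.inl (hf.map e.trans))
    · rcases (show p = 2 ∨ p = 3 by omega) with rfl | rfl
      · refine .inl (hf.map fun f => (e.trans f).trans ((QuotientGroup.quotientMulEquivOfEq ?_).trans
          QuotientGroup.quotientBot))
        refine (Subgroup.eq_bot_iff_forall _).2 fun g hg => ?_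
        obtain ⟨r, hr, hg'⟩ := Matrix.SpecialLinearGroup.mem_center_iff.1 hg
        rw [Fintype.card_fin] at hr
        have : r = 1 := eq_one_of_sq_zmod_two r hr
        subst this
        apply Subtype.ext
        rw [← hg', map_one, Matrix.SpecialLinearGroup.coe_one]
      · exact .inr (.inr (hf.map e.trans))

end Cfsg.Agent.S5020
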