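import Cfsg.Statements.S5021
import Cfsg.Agent.Lib.Trans3.RankOneSpecial

set_option autoImplicit false
open Cfsg

namespace Cfsg.Agent.S5021

/-- In a special rank one group with abelian unipotent subgroups A and B, either A is an elementary abelian p-group for some prime p, or A is torsion-free and divisible (every element of A has an n-th root in A for every positive n). -/
theorem result {X : Type*} [Group X] {A B : Subgroup X} (h : Cfsg.IsRankOneGroup X A B)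
    (hs : Cfsg.IsSpecialRankOnePair A B) (hab : Cfsg.HasAbelianUnipotents A B) :
    (∃ p : ℕ, p.Prime ∧ Cfsg.IsElementaryAbelian p A) ∨
    ((∀ a ∈ A, a ≠ 1 → ¬ IsOfFinOrder a) ∧ ∀ a ∈ A, ∀ n : ℕ, 0 < n → ∃ c ∈ A, c ^ n = a) := by
  have hd := CfsgLib.Trans3.RankOne.SpecialData.mk' hs hab
  by_cases htf : ∀ a ∈ A, a ≠ 1 → ¬ IsOfFinOrder a
  · refine Or.inr ⟨htf, fun a ha n hn => ?_⟩
    rcases eq_or_ne a 1 with rfl | ha1
    · exact ⟨1, one_mem _, one_pow n⟩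
    obtain ⟨b, hb⟩ := CfsgLib.Trans3.RankOne.exists_isPartner hd.pair ha ha1
    have hbn : b ^ n ≠ 1 := fun h1 => by
      refine htf a ha ha1 (isOfFinOrder_iff_pow_eq_one.2 ⟨n, hn, ?_⟩)
      exact hb.symm.pow_eq_one hd.symm h1
    obtain ⟨c, hc⟩ := CfsgLib.Trans3.RankOne.exists_isPartner hd.symm.pair (pow_mem hb.2.2.1 n) hbn
    exact ⟨c, hc.2.2.1, CfsgLib.Trans3.RankOne.pow_partner hd.symm hb.symm hc⟩
  left
  push Not at htf
  obtain ⟨a, ha, ha1, hfin⟩ := htf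
  obtain ⟨p, hp, hdvd⟩ := Nat.exists_prime_and_dvd (fun he => ha1 (orderOf_eq_one_iff.1 he))
  refine ⟨p, hp, hab.1, fun x hx => ?_⟩
  obtain ⟨e, he, he1, hep⟩ : ∃ e ∈ A, e ≠ 1 ∧ e ^ p = 1 := by
    refine ⟨a ^ (orderOf a / p), pow_mem ha _, fun he => ?_, by
      rw [← pow_mul, Nat.div_mul_cancel hdvd, pow_orderOf_eq_one]⟩
    have h1 := Nat.le_of_dvd (Nat.div_pos (Nat.le_of_dvd hfin.orderOf_pos hdvd) hp.pos)
      (orderOf_dvd_of_pow_eq_one he)
    exact absurd h1 (not_le.2 (Nat.div_lt_self hfin.orderOf_pos hp.one_lt))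
  by_contra hx1
  obtain ⟨b, hb⟩ := CfsgLib.Trans3.RankOne.exists_isPartner hd.pair he he1
  have hxne : x ≠ 1 := fun h0 => hx1 (by rw [h0, one_pow])
  have hyx : ∀ c ∈ A, c ^ p ≠ 1 → ∃ d ∈ A, d ^ p = c := by
    intro c hc hcp
    have hc1 : c ≠ 1 := fun h0 => hcp (by rw [h0, one_pow])
    obtain ⟨d, hd'⟩ := CfsgLib.Trans3.RankOne.exists_isPartner hd.pair hc hc1
    obtain ⟨f, hf⟩ := CfsgLib.Trans3.RankOne.exists_isPartner hd.symm.pair (pow_mem hd'.2.2.1 p)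
      (fun h1 => hcp (hd'.symm.pow_eq_one hd.symm h1))
    exact ⟨f, hf.2.2.1, CfsgLib.Trans3.RankOne.pow_partner hd.symm hd'.symm hf⟩
  -- `e` itself is a `p`-th power, as `x` and `e * x` are
  have hex : (e * x) ^ p ≠ 1 := by
    rw [(show Commute e x from hd.commA e he x hx).mul_pow, hep, one_mul]
    exact hx1
  obtain ⟨u, hu, hu'⟩ := hyx _ (mul_mem he hx) hex
  obtain ⟨v, hv, hv'⟩ := hyx x hx hx1
  have hc : (u * v⁻¹) ^ p = e := by
    rw [(show Commute u v⁻¹ from hd.commA u hu _ (inv_mem hv)).mul_pow, inv_pow, hu', hv',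
      mul_inv_cancel_right]
  have hc1 : u * v⁻¹ ≠ 1 := fun h0 => he1 (by rw [← hc, h0, one_pow])
  obtain ⟨f, hf⟩ := CfsgLib.Trans3.RankOne.exists_isPartner hd.pair (mul_mem hu (inv_mem hv)) hc1
  have h1 : b ^ p = f := CfsgLib.Trans3.RankOne.pow_partner hd hf (hc.symm ▸ hb)
  exact hf.2.2.2.1 (h1.symm.trans (hb.pow_eq_one hd hep))

end Cfsg.Agent.S5021
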