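import Cfsg.Statements.S5023
import Cfsg.Agent.Lib.Trans3.RankOneModule

set_option autoImplicit false
open Cfsg

namespace Cfsg.Agent.S5023

/-- Let X be a rank one group with unipotent subgroups A and B that acts faithfully on an abelian group V (written additively) with A acting quadratically: a' • (a • v − v) = a • v − v for all a, a' in A and v in V. Then A is either torsion-free or an elementary abelian p-group for some prime p. -/
theorem result {X : Type*} [Group X] {A B : Subgroup X} (h : Cfsg.IsRankOneGroup X A B)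
    {V : Type*} [AddCommGroup V] [DistribMulAction X V] (hf : ∀ x : X, (∀ v : V, x • v = v) → x = 1)
    (hq : ∀ a ∈ A, ∀ a' ∈ A, ∀ v : V, a' • (a • v - v) = a • v - v) :
    (∀ a ∈ A, a ≠ 1 → ¬ IsOfFinOrder a) ∨ ∃ p : ℕ, p.Prime ∧ Cfsg.IsElementaryAbelian p A := by
  have hD : CfsgLib.Trans3.RankOne.QuadData X V A B := by
    refine CfsgLib.Trans3.RankOne.QuadData.mk' h hq ?_
    by_contra! hX
    obtain ⟨a, -, b, -, hab⟩ := CfsgLib.Trans3.RankOne.not_comm h.2
    refine hab ((mul_inv_eq_one.1 (hf (a * b * (b * a)⁻¹) fun v => ?_)))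
    have key : ∀ w : V, a • b • w = b • a • w := by
      intro w
      have h1 := hX b a w
      have h2 := hX a b w
      rw [smul_sub, sub_eq_iff_eq_add] at h1 h2
      rw [h1, h2]; abel
    rw [mul_smul, mul_smul, key, ← mul_smul b a, smul_inv_smul]
  by_cases htf : ∀ a ∈ A, a ≠ 1 → ¬ IsOfFinOrder a
  · exact Or.inl htf
  right
  push Not at htf
  obtain ⟨a, ha, ha1, hfin⟩ := htf
  have hn1 : orderOf a ≠ 1 := fun he => ha1 (orderOf_eq_one_iff.1 he)
  obtain ⟨p, hp, hdvd⟩ := Nat.exists_prime_and_dvd hn1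
  refine ⟨p, hp, ⟨⟨fun x y => ?_⟩⟩, fun y hy => ?_⟩
  · ext
    change (x : X) * y = y * x
    refine mul_inv_eq_one.1 (hf ((x : X) * y * ((y : X) * x)⁻¹) fun v => ?_)
    have key : ∀ w : V, (x : X) • (y : X) • w = (y : X) • (x : X) • w := by
      intro w
      have h1 := hq _ y.2 _ x.2 w
      have h2 := hq _ x.2 _ y.2 w
      rw [smul_sub, sub_eq_iff_eq_add] at h1 h2
      rw [h1, h2]; abel
    rw [mul_smul, mul_smul, key, ← mul_smul (y : X) (x : X), smul_inv_smul]
  · refine CfsgLib.Trans3.RankOne.pow_eq_one_of_pow_eq_one hD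
      (a₀ := a ^ (orderOf a / p)) (pow_mem ha _) ?_ ?_ hy
    · intro he
      have h1 := Nat.le_of_dvd (Nat.div_pos (Nat.le_of_dvd hfin.orderOf_pos hdvd) hp.pos)
        (orderOf_dvd_of_pow_eq_one he)
      exact absurd h1 (not_le.2 (Nat.div_lt_self hfin.orderOf_pos hp.one_lt))
    · rw [← pow_mul, Nat.div_mul_cancel hdvd, pow_orderOf_eq_one]

end Cfsg.Agent.S5023
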