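import Cfsg.Statements.S5024
import Cfsg.Agent.Lib.Trans3.RootSub

set_option autoImplicit false
open Cfsg

namespace Cfsg.Agent.S5024

/-- Let S be a set of abstract root subgroups of G, A and C members of S, B a rank one partner of A in S and D a rank one partner of C in S. If the rank one group ⟨A, B⟩ is contained in ⟨C, D⟩ then the two coincide, and C and D are conjugates of A inside ⟨A, B⟩. -/
theorem result {G : Type*} [Group G] {S : Set (Subgroup G)} (hS : Cfsg.IsRootSubgroupSet S)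
    {A B C D : Subgroup G} (hA : A ∈ S) (hC : C ∈ S) (hB : B ∈ Cfsg.rankOnePartners S A) (hD : D ∈ Cfsg.rankOnePartners S C)
    (hle : A ⊔ B ≤ C ⊔ D) : A ⊔ B = C ⊔ D ∧ C ∈ Cfsg.unipotentSubgroups A B ∧ D ∈ Cfsg.unipotentSubgroups A B := by
  obtain ⟨hB, hAB⟩ := hB
  obtain ⟨hD, hCD⟩ := hD
  have hnc : ∀ {K L : Subgroup G}, Cfsg.IsRankOnePair K L → K ≤ C ⊔ D → L ≤ C ⊔ D →
      ¬ K ≤ Subgroup.centralizer ((C ⊔ D : Subgroup G) : Set G) := by
    intro K L hKL _ hL hc
    obtain ⟨k, hk, l, hl, hne⟩ := CfsgLib.Trans3.RankOne.not_comm hKL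
    exact hne ((Subgroup.mem_centralizer_iff.1 (hc hk) l (hL hl)).symm)
  have h1 := CfsgLib.Trans3.RankOne.mem_unipotents_of_le hS hC hD hCD hA (le_sup_left.trans hle)
    (hnc hAB (le_sup_left.trans hle) (le_sup_right.trans hle))
  have h2 := CfsgLib.Trans3.RankOne.mem_unipotents_of_le hS hC hD hCD hB (le_sup_right.trans hle)
    (hnc (Cfsg.RankOnePair_symm hAB) (le_sup_right.trans hle) (le_sup_left.trans hle))
  have hU := CfsgLib.Trans3.RankOne.unipotentSubgroups_eq hCD h1 h2 hAB.ne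
  exact ⟨CfsgLib.Trans3.RankOne.sup_eq_of_mem hCD h1 h2 hAB.ne,
    hU.symm ▸ CfsgLib.Trans3.RankOne.left_mem C D, hU.symm ▸ CfsgLib.Trans3.RankOne.right_mem hCD⟩

end Cfsg.Agent.S5024
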