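import Cfsg.Statements.S5026
import Cfsg.Agent.Lib.Trans3.RootSub

set_option autoImplicit false
open Cfsg

namespace Cfsg.Agent.S5026

/-- Let S be a degenerate set of abstract root subgroups of G (a set of abstract transvection groups) and let a, b be commuting non-identity elements of members of S with a b ≠ 1. Then the members of S centralizing a b are exactly those centralizing both a and b. -/
theorem result {G : Type*} [Group G] {S : Set (Subgroup G)} (hS : Cfsg.IsRootSubgroupSet S) (hdeg : Cfsg.IsDegenerateRootSet S)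
    {a b : G} (ha : a ∈ Cfsg.rootElements S) (hb : b ∈ Cfsg.rootElements S) (hab : a * b = b * a) (hab1 : a * b ≠ 1) :
    Cfsg.centralizingMembers S (Subgroup.zpowers (a * b)) =
      Cfsg.centralizingMembers S (Subgroup.zpowers a) ∩ Cfsg.centralizingMembers S (Subgroup.zpowers b) := by
  obtain ⟨ha1, A, hA, haA⟩ := ha
  obtain ⟨hb1, B, hB, hbB⟩ := hb
  ext E
  simp only [Cfsg.centralizingMembers, Set.mem_setOf_eq, Set.mem_inter_iff,
    Subgroup.zpowers_eq_closure, Subgroup.centralizer_closure]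
  have hdef : ∀ x : G, (E ≤ Subgroup.centralizer {x}) ↔ ∀ e ∈ E, e * x = x * e := fun x => by
    simp [SetLike.le_def, Subgroup.mem_centralizer_iff, eq_comm]
  simp only [hdef]
  constructor
  swap
  · rintro ⟨⟨hE, h1⟩, -, h2⟩
    exact ⟨hE, fun e he => (Commute.mul_right (h1 e he : Commute e a) (h2 e he : Commute e b)).eq⟩
  rintro ⟨hE, h⟩
  suffices h1 : ∀ e ∈ E, e * a = a * e from
    ⟨⟨hE, h1⟩, hE, fun e he => by
      simpa using (Commute.mul_right (Commute.inv_right (h1 e he : Commute e a)) (h e he : Commute e (a * b))).eq⟩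
  by_contra! hne
  obtain ⟨e, he, hea⟩ := hne
  have hAE : Cfsg.IsRankOnePair A E := by
    rcases hS.pair A hA E hE with h' | h' | h'
    · exact absurd (CfsgLib.Trans3.RankOne.commute_of_commutator h' haA he).symm hea
    · exact h'
    · exact absurd h' (hdeg A hA E hE)
  have hBE : Cfsg.IsRankOnePair B E := by
    rcases hS.pair B hB E hE with h' | h' | h'
    · refine absurd ?_ hea
      have h2 : Commute e b := (CfsgLib.Trans3.RankOne.commute_of_commutator h' hbB he).symm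
      simpa using (Commute.mul_right (h e he : Commute e (a * b)) h2.inv_right).eq
    · exact h'
    · exact absurd h' (hdeg B hB E hE)
  have hfix : Cfsg.conjBy E (a * b) = E := by
    ext x
    rw [CfsgLib.Trans3.RankOne.mem_conjBy]
    constructor
    · intro hx
      have h1 := h _ hx
      have : x = (a * b)⁻¹ * x * (a * b) := by
        calc x = (a * b) * ((a * b)⁻¹ * x * (a * b)) * (a * b)⁻¹ := by group
          _ = (a * b)⁻¹ * x * (a * b) * (a * b) * (a * b)⁻¹ := by rw [h1]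
          _ = (a * b)⁻¹ * x * (a * b) := by group
      rwa [this]
    · intro hx
      rwa [mul_assoc, h x hx, inv_mul_cancel_left]
  obtain ⟨e₁, he₁, -, h1⟩ := hAE.cond_left a⁻¹ (inv_mem haA) (inv_ne_one.2 ha1)
  obtain ⟨e₂, he₂, -, h2⟩ := hBE.cond_left b hbB hb1
  have hBA : B = Cfsg.conjBy A (e₂ * e₁⁻¹) := by
    rw [← CfsgLib.Trans3.RankOne.conjBy_conjBy, h1, inv_inv]
    have : Cfsg.conjBy E a = Cfsg.conjBy E b⁻¹ := by
      conv_lhs => rw [show a = b⁻¹ * (a * b) by rw [hab]; group,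
        ← CfsgLib.Trans3.RankOne.conjBy_conjBy, hfix]
    rw [this, ← h2, CfsgLib.Trans3.RankOne.conjBy_conjBy, mul_inv_cancel,
      CfsgLib.Trans3.RankOne.conjBy_one]
  by_cases hBeq : B = A
  · subst hBeq
    exact hab1 (CfsgLib.Trans3.RankOne.eq_one_of_mem_normalizer hAE (mul_mem haA hbB)
      (CfsgLib.Trans3.RankOne.conjBy_eq_self_iff.1 hfix))
  obtain ⟨a₁, ha₁, h3⟩ := CfsgLib.Trans3.RankOne.exists_eq_conjBy hAE
    ⟨e₂ * e₁⁻¹, Subgroup.mem_sup_right (mul_mem he₂ (inv_mem he₁)), hBA⟩ hBeq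
  have hb' := hbB
  rw [h3, CfsgLib.Trans3.RankOne.mem_conjBy] at hb'
  have hc : Commute (a₁⁻¹ * b * a₁) a := by
    have h4 : Commute a₁ a := CfsgLib.Trans3.RankOne.comm_of_mem hS hA ha₁ haA
    exact (h4.inv_left.mul_left (hab : Commute a b).symm).mul_left h4
  have hd : a₁⁻¹ * b * a₁ ≠ 1 := fun h4 => hb1 (conj_eq_one_iff (a := a₁⁻¹).1 (by rwa [inv_inv]))
  have hne' : Cfsg.conjBy A (a₁⁻¹ * b * a₁) ≠ A := fun h4 =>
    hd (CfsgLib.Trans3.RankOne.eq_one_of_mem_normalizer (Cfsg.RankOnePair_symm hAE) hb'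
      (CfsgLib.Trans3.RankOne.conjBy_eq_self_iff.1 h4))
  have hmem : Cfsg.conjBy A (a₁⁻¹ * b * a₁) ∈ Cfsg.unipotentSubgroups A E :=
    CfsgLib.Trans3.RankOne.conjBy_mem (CfsgLib.Trans3.RankOne.left_mem A E)
      (Subgroup.mem_sup_right hb')
  have hin : a ∈ A ⊓ Cfsg.conjBy A (a₁⁻¹ * b * a₁) :=
    ⟨haA, CfsgLib.Trans3.RankOne.mem_conjBy.2
      (by rwa [mul_assoc, ← hc.eq, inv_mul_cancel_left])⟩
  rw [CfsgLib.Trans3.RankOne.inf_eq_bot_of_mem hAE (CfsgLib.Trans3.RankOne.left_mem A E) hmem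
    hne'.symm, Subgroup.mem_bot] at hin
  exact ha1 hin

end Cfsg.Agent.S5026
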