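import Cfsg.Statements.S5027
import Cfsg.Agent.Lib.Trans3.RootSub

set_option autoImplicit false
open Cfsg
open scoped commutatorElement

namespace Cfsg.Agent.S5027

/-- Let S be a set of abstract root subgroups of G such that every member of S has a rank one partner in S (the graph of rank one pairs on S has no isolated vertex). Then the second centre of G equals its centre. -/
theorem result {G : Type*} [Group G] {S : Set (Subgroup G)} (hS : Cfsg.IsRootSubgroupSet S)
    (hF : ∀ A ∈ S, ¬ Cfsg.IsIsolatedIn (Cfsg.FAdj S) S A) : Subgroup.upperCentralSeries G 2 = Subgroup.center G := by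
  refine le_antisymm ?_ (Subgroup.upperCentralSeries_one G ▸
    Subgroup.upperCentralSeries_mono G one_le_two)
  intro g hg
  rw [← Subgroup.centralizer_univ, ← Subgroup.coe_top, ← hS.generates,
    Subgroup.mem_centralizer_iff]
  suffices h : (⨆ A ∈ S, A) ≤ Subgroup.centralizer {g} from fun x hx =>
    (Subgroup.mem_centralizer_iff.1 (h hx) g rfl).symm
  refine iSup₂_le fun A hA a ha => Subgroup.mem_centralizer_iff.2 fun x hx => ?_
  rw [Set.mem_singleton_iff.1 hx]
  rcases eq_or_ne a 1 with rfl | ha1
  · simp
  obtain ⟨D, hD, hAD⟩ := CfsgLib.Trans3.RankOne.exists_partner_of_not_isolated hS hA (hF A hA)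
  have hz : ⁅g, a⁆ ∈ Subgroup.center G :=
    Subgroup.upperCentralSeries_one G ▸ Subgroup.mem_upperCentralSeries_succ_iff.1 hg a
  exact commutatorElement_eq_one_iff_mul_comm.1 (CfsgLib.Trans3.RankOne.eq_of_translate hS hA hD
    hAD ha ha1 (Subgroup.center_le_centralizer _ hz) (hS.conj_mem A hA g)
    (by rw [CfsgLib.Trans3.RankOne.mem_conjBy, commutatorElement_def]; simpa [mul_assoc] using ha)).1

end Cfsg.Agent.S5027
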