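import Cfsg.Statements.S5029
import Cfsg.Agent.Lib.Trans3.RootPartition

set_option autoImplicit false
open Cfsg
open scoped commutatorElement

namespace Cfsg.Agent.S5029

/-- Let S be a set of abstract root subgroups of G, A ∈ S having a rank one partner in S, and B ∈ S with C = ⁅A, B⁆ ∈ S. Then the members of S contained in AC are the conjugates of A by elements of B together with C, they partition AC, the members of S inside AC partition AC so that A is a line partner of C, and for every non-identity a ∈ A the map b ↦ a⁻¹ b⁻¹ a b is an isomorphism from B onto C. -/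
theorem result {G : Type*} [Group G] {S : Set (Subgroup G)} (hS : Cfsg.IsRootSubgroupSet S)
    {A B : Subgroup G} (hA : ¬ Cfsg.IsIsolatedIn (Cfsg.FAdj S) S A) (hAS : A ∈ S) (hB : B ∈ S) (hC : ⁅A, B⁆ ∈ S) :
    Cfsg.membersIn S (A ⊔ ⁅A, B⁆) = (fun b : G => Cfsg.conjBy A b) '' (B : Set G) ∪ {⁅A, B⁆} ∧
    Cfsg.IsSubgroupPartition (A ⊔ ⁅A, B⁆) (Cfsg.membersIn S (A ⊔ ⁅A, B⁆)) ∧
    A ∈ Cfsg.linePartners S ⁅A, B⁆ ∧
    ∀ a ∈ A, a ≠ 1 → ∃ φ : ↥B ≃* ↥⁅A, B⁆, ∀ b : ↥B, (φ b : G) = a⁻¹ * (b : G)⁻¹ * a * b := by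
  have hp := CfsgLib.Trans3.RankOne.exists_partner_of_not_isolated hS hAS hA
  have h := CfsgLib.Trans3.RankOne.commutatorCase_of_mem hS hAS hB hC
  have hne := CfsgLib.Trans3.RankOne.commutator_ne_left hS h
  have hcov : ∀ x ∈ A ⊔ ⁅A, B⁆, x ∈ ⁅A, B⁆ ∨ ∃ b ∈ B, x ∈ Cfsg.conjBy A b := by
    intro x hx
    have hn : A ≤ Subgroup.normalizer ((⁅A, B⁆ : Subgroup G) : Set G) :=
      Subgroup.normalizer_commutator_ge_left A B
    have hx' : x ∈ ((A ⊔ ⁅A, B⁆ : Subgroup G) : Set G) := hx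
    rw [Subgroup.coe_mul_of_left_le_normalizer_right _ _ hn] at hx'
    obtain ⟨a, ha, c, hc, rfl⟩ := hx'
    rcases eq_or_ne a 1 with rfl | ha1
    · exact Or.inl (by simpa using hc)
    · obtain ⟨b, hb, hm⟩ := CfsgLib.Trans3.RankOne.exists_conjBy_mem h ha ha1 hc
      exact Or.inr ⟨b, hb, by rwa [h.2.1 c hc a (Subgroup.mem_sup_left ha)] at hm⟩
  have hle : ∀ b ∈ B, Cfsg.conjBy A b ≤ A ⊔ ⁅A, B⁆ := by
    intro b hb x hx
    rw [CfsgLib.Trans3.RankOne.mem_conjBy] at hx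
    have h1 := mul_mem (Subgroup.mem_sup_right (S := A)
      (inv_mem (Subgroup.commutator_mem_commutator hx hb))) (Subgroup.mem_sup_left (T := ⁅A, B⁆) hx)
    rw [commutatorElement_def] at h1
    simpa [mul_assoc] using h1
  have hp' : ∀ b : G, ∃ D ∈ S, Cfsg.IsRankOnePair (Cfsg.conjBy A b) D := fun b => by
    obtain ⟨D, hD, hAD⟩ := hp
    exact ⟨_, hS.conj_mem D hD b, CfsgLib.Trans3.RankOne.isRankOnePair_conj b hAD⟩
  have hCb : ∀ b ∈ B, ∀ x ∈ ⁅A, B⁆, x ∈ Cfsg.conjBy A b → x = 1 := by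
    intro b hb x hx hxA
    by_contra hx1
    have he : ⁅A, B⁆ = Cfsg.conjBy A b :=
      CfsgLib.Trans3.RankOne.eq_of_mem_inter hS (hS.conj_mem A hAS b) (hp' b) hC hxA hx1 hx
    refine hne (CfsgLib.Trans3.RankOne.conjBy_inj (g := b) ?_)
    rw [← he, CfsgLib.Trans3.RankOne.conjBy_eq_self_iff]
    exact Subgroup.normalizer_commutator_ge_right A B hb
  have hmem : Cfsg.membersIn S (A ⊔ ⁅A, B⁆) =
      (fun b : G => Cfsg.conjBy A b) '' (B : Set G) ∪ {⁅A, B⁆} := by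
    ext E
    constructor
    · rintro ⟨hE, hEle⟩
      by_cases hEC : E ≤ ⁅A, B⁆
      · exact Or.inr (CfsgLib.Trans3.RankOne.eq_commutator_of_le hS hAS hp h hE hEC)
      · obtain ⟨e, he, hec⟩ := SetLike.not_le_iff_exists.1 hEC
        obtain ⟨b, hb, hm⟩ := (hcov e (hEle he)).resolve_left hec
        exact Or.inl ⟨b, hb, (CfsgLib.Trans3.RankOne.eq_of_mem_inter hS (hS.conj_mem A hAS b)
          (hp' b) hE hm (fun h1 => hec (h1 ▸ one_mem _)) he).symm⟩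
    · rintro (⟨b, hb, rfl⟩ | rfl)
      · exact ⟨hS.conj_mem A hAS b, hle b hb⟩
      · exact ⟨hC, le_sup_right⟩
  have hpart : Cfsg.IsSubgroupPartition (A ⊔ ⁅A, B⁆) (Cfsg.membersIn S (A ⊔ ⁅A, B⁆)) := by
    refine ⟨fun E hE => hE.2, fun x hx _ => ?_, fun E hE F hF hEF => ?_⟩
    · rcases hcov x hx with h1 | ⟨b, hb, h1⟩
      · exact ⟨_, hmem ▸ Or.inr rfl, h1⟩
      · exact ⟨_, hmem ▸ Or.inl ⟨b, hb, rfl⟩, h1⟩
    · rw [hmem] at hE hF
      refine (Subgroup.eq_bot_iff_forall _).2 fun x hx => ?_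
      by_contra hx1
      rcases hE with ⟨b, hb, rfl⟩ | rfl <;> rcases hF with ⟨b', hb', rfl⟩ | rfl
      · exact hEF (CfsgLib.Trans3.RankOne.eq_of_mem_inter hS (hS.conj_mem A hAS b) (hp' b)
          (hS.conj_mem A hAS b') hx.1 hx1 hx.2).symm
      · exact hx1 (hCb b hb x hx.2 hx.1)
      · exact hx1 (hCb b' hb' x hx.1 hx.2)
      · exact hEF rfl
  refine ⟨hmem, hpart, ⟨⟨hAS, fun he => hne he.symm, CfsgLib.Trans3.RankOne.commutator_eq_bot_of_comm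
    fun c hc a ha => h.2.1 c hc a (Subgroup.mem_sup_left ha)⟩, by rwa [sup_comm]⟩, ?_⟩
  intro a ha ha1
  refine ⟨(MonoidHom.ofInjective (CfsgLib.Trans3.RankOne.commHom_injective hS hAS hp h ha ha1)).trans
    (MulEquiv.subgroupCongr (CfsgLib.Trans3.RankOne.commHom_range h ha ha1)), fun b => ?_⟩
  change ⁅a, (b : G)⁆ = _
  have hc : ∀ x ∈ A ⊔ B, ⁅a, (b : G)⁆ * x = x * ⁅a, (b : G)⁆ :=
    h.2.1 _ (Subgroup.commutator_mem_commutator ha b.2)
  calc ⁅a, (b : G)⁆ = (b : G)⁻¹ * ((b : G) * ⁅a, (b : G)⁆) := by group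
    _ = (b : G)⁻¹ * (⁅a, (b : G)⁆ * (b : G)) := by rw [hc b (Subgroup.mem_sup_right b.2)]
    _ = (b : G)⁻¹ * a⁻¹ * (a * ⁅a, (b : G)⁆) * (b : G) := by group
    _ = (b : G)⁻¹ * a⁻¹ * (⁅a, (b : G)⁆ * a) * (b : G) := by rw [hc a (Subgroup.mem_sup_left ha)]
    _ = a⁻¹ * (b : G)⁻¹ * a * (b : G) := by rw [commutatorElement_def]; group

end Cfsg.Agent.S5029
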