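import Cfsg.Statements.S5030
import Cfsg.Agent.Lib.Trans3.GenCommutator
import Cfsg.Agent.Lib.Trans3.RootPartition

set_option autoImplicit false
open Cfsg CfsgLib.Trans3.RankOne
open scoped commutatorElement

namespace Cfsg.Agent.S5030

/-- Let S be a set of abstract root subgroups of G and A, B, C ∈ S with ⁅A, B⁆ ∈ S and ⁅B, C⁆ ∈ S, where A and C are different and commute. For a non-identity b ∈ B put X = ⟨A, b⁻¹ C b⟩ and Y = ⟨b⁻¹ A b, C⟩ and R = ⟨A, B, C⟩. Then X and Y are either both abelian or both nilpotent of class exactly two; X and Y commute elementwise; XY is normal in R with R = (XY) B; and R is nilpotent. -/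
theorem result {G : Type*} [Group G] {S : Set (Subgroup G)} (hS : Cfsg.IsRootSubgroupSet S)
    {A B C : Subgroup G} (hA : A ∈ S) (hB : B ∈ S) (hC : C ∈ S) (hAB : ⁅A, B⁆ ∈ S) (hBC : ⁅B, C⁆ ∈ S)
    (hAC : C ∈ Cfsg.commutingPartners S A)
    {b : G} (hb : b ∈ B) (hb1 : b ≠ 1) :
    ((IsMulCommutative ↥(A ⊔ Cfsg.conjBy C b⁻¹) ∧ IsMulCommutative ↥(Cfsg.conjBy A b⁻¹ ⊔ C)) ∨
      ((¬ IsMulCommutative ↥(A ⊔ Cfsg.conjBy C b⁻¹) ∧
          ⁅⁅A ⊔ Cfsg.conjBy C b⁻¹, A ⊔ Cfsg.conjBy C b⁻¹⁆, A ⊔ Cfsg.conjBy C b⁻¹⁆ = ⊥) ∧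
        (¬ IsMulCommutative ↥(Cfsg.conjBy A b⁻¹ ⊔ C) ∧
          ⁅⁅Cfsg.conjBy A b⁻¹ ⊔ C, Cfsg.conjBy A b⁻¹ ⊔ C⁆, Cfsg.conjBy A b⁻¹ ⊔ C⁆ = ⊥))) ∧
    ⁅A ⊔ Cfsg.conjBy C b⁻¹, Cfsg.conjBy A b⁻¹ ⊔ C⁆ = ⊥ ∧
    (∀ r ∈ A ⊔ B ⊔ C, Cfsg.conjBy ((A ⊔ Cfsg.conjBy C b⁻¹) ⊔ (Cfsg.conjBy A b⁻¹ ⊔ C)) r =
      (A ⊔ Cfsg.conjBy C b⁻¹) ⊔ (Cfsg.conjBy A b⁻¹ ⊔ C)) ∧
    ((A ⊔ Cfsg.conjBy C b⁻¹) ⊔ (Cfsg.conjBy A b⁻¹ ⊔ C)) ⊔ B = A ⊔ B ⊔ C ∧
    Group.IsNilpotent ↥(A ⊔ B ⊔ C) := by
  obtain ⟨-, hne, hAC⟩ := hAC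
  have hab := commutatorCase_of_mem hS hA hB hAB
  have hbc := commutatorCase_of_mem hS hB hC hBC
  let P : Subgroup G := conjBy C b⁻¹
  let Q : Subgroup G := conjBy A b⁻¹
  let M : Subgroup G := (A ⊔ P) ⊔ (Q ⊔ C)
  have hAE : ∀ x ∈ A, ∀ e ∈ ⁅A, B⁆, x * e = e * x := fun x hx e he =>
    (hab.2.1 e he x (Subgroup.mem_sup_left hx)).symm
  have hCF : ∀ x ∈ C, ∀ f ∈ ⁅B, C⁆, x * f = f * x := fun x hx f hf =>
    (hbc.2.1 f hf x (Subgroup.mem_sup_right hx)).symm
  have hBE : ∀ x ∈ B, ∀ e ∈ ⁅A, B⁆, x * e = e * x := fun x hx e he =>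
    (hab.2.1 e he x (Subgroup.mem_sup_right hx)).symm
  have hBF : ∀ x ∈ B, ∀ f ∈ ⁅B, C⁆, x * f = f * x := fun x hx f hf =>
    (hbc.2.1 f hf x (Subgroup.mem_sup_left hx)).symm
  have hconjA : ∀ y ∈ B, ∀ x ∈ A, ∃ e ∈ ⁅A, B⁆, y * x * y⁻¹ = e * x := fun y hy x hx =>
    ⟨⁅y, x⁆, by rw [Subgroup.commutator_comm]; exact Subgroup.commutator_mem_commutator hy hx,
      by rw [commutatorElement_def]; group⟩
  have hconjC : ∀ y ∈ B, ∀ x ∈ C, ∃ f ∈ ⁅B, C⁆, y * x * y⁻¹ = f * x := fun y hy x hx =>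
    ⟨⁅y, x⁆, Subgroup.commutator_mem_commutator hy hx, by rw [commutatorElement_def]; group⟩
  have hQAE : ∀ y ∈ B, conjBy A y ≤ A ⊔ ⁅A, B⁆ := by
    rintro y hy _ ⟨x, hx, rfl⟩
    obtain ⟨e, he, h⟩ := hconjA y hy x hx
    simp only [MulEquiv.coe_toMonoidHom, MulAut.conj_apply, h]
    exact mul_mem (Subgroup.mem_sup_right he) (Subgroup.mem_sup_left hx)
  have hPCF : ∀ y ∈ B, conjBy C y ≤ C ⊔ ⁅B, C⁆ := by
    rintro y hy _ ⟨x, hx, rfl⟩
    obtain ⟨f, hf, h⟩ := hconjC y hy x hx
    simp only [MulEquiv.coe_toMonoidHom, MulAut.conj_apply, h]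
    exact mul_mem (Subgroup.mem_sup_right hf) (Subgroup.mem_sup_left hx)
  have hEle : ∀ y ∈ B, y ≠ 1 → ⁅A, B⁆ ≤ A ⊔ conjBy A y := by
    intro y hy hy1
    rw [← hab.2.2.2 y hy hy1, Subgroup.closure_le]
    rintro _ ⟨x, hx, rfl⟩
    have := mul_mem (Subgroup.mem_sup_left (T := conjBy A y) hx)
      (Subgroup.mem_sup_right (S := A) (conj_mem_conjBy (g := y) (inv_mem hx)))
    simpa [mul_assoc] using this
  have hFle : ∀ y ∈ B, y ≠ 1 → ⁅B, C⁆ ≤ C ⊔ conjBy C y := by
    intro y hy hy1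
    rw [← hbc.2.2.1 y hy hy1, Subgroup.closure_le]
    rintro _ ⟨x, hx, rfl⟩
    exact mul_mem (Subgroup.mem_sup_right (conj_mem_conjBy hx)) (Subgroup.mem_sup_left (inv_mem hx))
  have hbi : b⁻¹ ∈ B := inv_mem hb
  have hbi1 : b⁻¹ ≠ 1 := inv_ne_one.2 hb1
  have cAE : A ⊔ ⁅A, B⁆ ≤ Subgroup.centralizer (A : Set G) := sup_le
    (fun x hx => Subgroup.mem_centralizer_iff.2 fun y hy => comm_of_mem hS hA hy hx)
    (fun e he => Subgroup.mem_centralizer_iff.2 fun y hy => hAE y hy e he)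
  have cCF : C ⊔ ⁅B, C⁆ ≤ Subgroup.centralizer (C : Set G) := sup_le
    (fun x hx => Subgroup.mem_centralizer_iff.2 fun y hy => comm_of_mem hS hC hy hx)
    (fun e he => Subgroup.mem_centralizer_iff.2 fun y hy => hCF y hy e he)
  have hAQ : ⁅A, Q⁆ = ⊥ := commutator_eq_bot_of_comm fun x hx q hq =>
    Subgroup.mem_centralizer_iff.1 (cAE (hQAE _ hbi hq)) x hx
  have hPC : ⁅P, C⁆ = ⊥ := commutator_eq_bot_of_comm fun q hq x hx =>
    (Subgroup.mem_centralizer_iff.1 (cCF (hPCF _ hbi hq)) x hx).symm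
  have hPQ : ⁅P, Q⁆ = ⊥ := by
    show ⁅C.map _, A.map _⁆ = ⊥
    rw [← Subgroup.map_commutator, Subgroup.commutator_comm, hAC, Subgroup.map_bot]
  have hEC_iff : ⁅Q, C⁆ = ⊥ ↔ ⁅⁅A, B⁆, C⁆ = ⊥ := by
    constructor
    · intro h
      refine commutator_eq_bot_of_comm fun e he c hc => ?_
      have hle : A ⊔ Q ≤ Subgroup.centralizer (C : Set G) := sup_le
        (Subgroup.commutator_eq_bot_iff_le_centralizer.1 hAC)
        (Subgroup.commutator_eq_bot_iff_le_centralizer.1 h)
      exact (Subgroup.mem_centralizer_iff.1 (hle (hEle _ hbi hbi1 he)) c hc).symm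
    · intro h
      exact Subgroup.commutator_eq_bot_iff_le_centralizer.2 ((hQAE _ hbi).trans (sup_le
        (Subgroup.commutator_eq_bot_iff_le_centralizer.1 hAC)
        (Subgroup.commutator_eq_bot_iff_le_centralizer.1 h)))
  have hAF_iff : ⁅A, P⁆ = ⊥ ↔ ⁅⁅B, C⁆, A⁆ = ⊥ := by
    have hCA : C ≤ Subgroup.centralizer (A : Set G) :=
      Subgroup.le_centralizer_iff.1 (Subgroup.commutator_eq_bot_iff_le_centralizer.1 hAC)
    constructor
    · intro h
      refine Subgroup.commutator_eq_bot_iff_le_centralizer.2 ((hFle _ hbi hbi1).trans (sup_le hCA ?_))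
      exact Subgroup.le_centralizer_iff.1 (Subgroup.commutator_eq_bot_iff_le_centralizer.1 h)
    · intro h
      rw [Subgroup.commutator_eq_bot_iff_le_centralizer, Subgroup.le_centralizer_iff]
      exact (hPCF _ hbi).trans (sup_le hCA (Subgroup.commutator_eq_bot_iff_le_centralizer.1 h))
  have hequiv : ⁅A, P⁆ = ⊥ ↔ ⁅Q, C⁆ = ⊥ := by
    have hCA : ⁅⁅C, A⁆, B⁆ = ⊥ := by
      rw [Subgroup.commutator_comm C A, hAC, Subgroup.commutator_bot_left]
    rw [hEC_iff, hAF_iff]
    exact ⟨fun h => Subgroup.commutator_commutator_eq_bot_of_rotate h hCA,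
      fun h => Subgroup.commutator_commutator_eq_bot_of_rotate hCA h⟩
  obtain ⟨a₀, ha₀, ha₀1⟩ := A.bot_or_exists_ne_one.resolve_left (hS.ne_bot A hA)
  have hnr : ¬ IsRankOnePair A P := by
    intro h
    have h2 := isRankOnePair_conj b h
    rw [show conjBy P b = C by
      simp only [P, conjBy_conjBy, mul_inv_cancel, conjBy_one]] at h2
    obtain ⟨e, he, hae⟩ := hconjA b hb a₀ ha₀
    have hy1 : b * a₀ * b⁻¹ ≠ 1 := fun h0 => ha₀1 (conj_eq_one_iff.1 h0)
    have hz : a₀⁻¹ ∈ Subgroup.centralizer ((conjBy A b ⊔ C : Subgroup G) : Set G) := by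
      rw [Subgroup.sup_eq_closure, Subgroup.centralizer_closure, Subgroup.mem_centralizer_iff]
      rintro x (hx | hx)
      · exact (Subgroup.mem_centralizer_iff.1 (cAE (hQAE b hb hx)) _ (inv_mem ha₀)).symm
      · exact (commute_of_commutator hAC (inv_mem ha₀) hx).symm
    have hm : a₀⁻¹ * (b * a₀ * b⁻¹) ∈ ⁅A, B⁆ := by
      rw [hae, ← mul_assoc, hAE _ (inv_mem ha₀) e he, mul_assoc, inv_mul_cancel, mul_one]
      exact he
    exact ha₀1 (inv_eq_one.1 (eq_of_translate hS (hS.conj_mem A hA b) hC h2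
      (conj_mem_conjBy ha₀) hy1 hz hAB hm).1)
  have hnrQ : ¬ IsRankOnePair Q C := by
    intro h
    have hz : a₀⁻¹ ∈ Subgroup.centralizer ((Q ⊔ C : Subgroup G) : Set G) := by
      rw [Subgroup.sup_eq_closure, Subgroup.centralizer_closure, Subgroup.mem_centralizer_iff]
      rintro x (hx | hx)
      · exact (Subgroup.mem_centralizer_iff.1 (cAE (hQAE _ hbi hx)) _ (inv_mem ha₀)).symm
      · exact (commute_of_commutator hAC (inv_mem ha₀) hx).symm
    obtain ⟨e, he, hae⟩ := hconjA _ hbi a₀ ha₀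
    have hm : a₀⁻¹ * (b⁻¹ * a₀ * b⁻¹⁻¹) ∈ ⁅A, B⁆ := by
      rw [hae, ← mul_assoc, hAE _ (inv_mem ha₀) e he, mul_assoc, inv_mul_cancel, mul_one]
      exact he
    exact ha₀1 (inv_eq_one.1 (eq_of_translate hS (hS.conj_mem A hA _) hC h
      (conj_mem_conjBy ha₀) (fun h0 => ha₀1 (conj_eq_one_iff.1 h0)) hz hAB hm).1)
  have hK1 : ∀ k ∈ ⁅A, P⁆, ∀ x ∈ A ⊔ P, k * x = x * k := by
    rcases hS.pair A hA P (hS.conj_mem C hC b⁻¹) with h | h | h
    · intro k hk x _
      rw [h, Subgroup.mem_bot] at hk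
      simp [hk]
    · exact absurd h hnr
    · exact h.2.1
  have hK2 : ∀ k ∈ ⁅Q, C⁆, ∀ x ∈ Q ⊔ C, k * x = x * k := by
    rcases hS.pair Q (hS.conj_mem A hA b⁻¹) C hC with h | h | h
    · intro k hk x _
      rw [h, Subgroup.mem_bot] at hk
      simp [hk]
    · exact absurd h hnrQ
    · exact h.2.1
  have cA : ∀ p ∈ A, ∀ q ∈ A, p * q = q * p := fun p hp q hq => comm_of_mem hS hA hp hq
  have cC : ∀ p ∈ C, ∀ q ∈ C, p * q = q * p := fun p hp q hq => comm_of_mem hS hC hp hq
  have cP : ∀ p ∈ P, ∀ q ∈ P, p * q = q * p :=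
    fun p hp q hq => comm_of_mem hS (hS.conj_mem C hC b⁻¹) hp hq
  have cQ : ∀ p ∈ Q, ∀ q ∈ Q, p * q = q * p :=
    fun p hp q hq => comm_of_mem hS (hS.conj_mem A hA b⁻¹) hp hq
  have hcomm_abel : ∀ (X Y : Subgroup G), (∀ p ∈ X, ∀ q ∈ X, p * q = q * p) →
      (∀ p ∈ Y, ∀ q ∈ Y, p * q = q * p) → ⁅X, Y⁆ = ⊥ → IsMulCommutative ↥(X ⊔ Y) := by
    intro X Y hX hY h
    refine ⟨⟨fun u v => Subtype.ext ?_⟩⟩
    have hle : X ⊔ Y ≤ Subgroup.centralizer ((X ⊔ Y : Subgroup G) : Set G) := by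
      refine sup_le ?_ ?_ <;> refine Subgroup.le_centralizer_iff.2 (sup_le ?_ ?_)
      · exact fun p hp => Subgroup.mem_centralizer_iff.2 fun q hq => hX q hq p hp
      · exact fun p hp => Subgroup.mem_centralizer_iff.2 fun q hq => commute_of_commutator h hq hp
      · exact fun p hp => Subgroup.mem_centralizer_iff.2 fun q hq => (commute_of_commutator h hp hq).symm
      · exact fun p hp => Subgroup.mem_centralizer_iff.2 fun q hq => hY q hq p hp
    exact Subgroup.mem_centralizer_iff.1 (hle v.2) u u.2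
  have hXY : ⁅A ⊔ P, Q ⊔ C⁆ = ⊥ := by
    rw [Subgroup.commutator_eq_bot_iff_le_centralizer]
    refine sup_le ?_ ?_ <;> rw [Subgroup.le_centralizer_iff] <;> refine sup_le ?_ ?_ <;>
      rw [Subgroup.le_centralizer_iff, ← Subgroup.commutator_eq_bot_iff_le_centralizer]
    exacts [hAQ, hAC, hPQ, hPC]
  have hAM : A ≤ M := le_sup_left.trans le_sup_left
  have hCM : C ≤ M := le_sup_right.trans le_sup_right
  have hEM : ⁅A, B⁆ ≤ M := (hEle _ hbi hbi1).trans (sup_le hAM (le_sup_left.trans le_sup_right))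
  have hFM : ⁅B, C⁆ ≤ M := (hFle _ hbi hbi1).trans (sup_le hCM (le_sup_right.trans le_sup_left))
  have hAyM : ∀ y ∈ B, conjBy A y ≤ M := fun y hy => (hQAE y hy).trans (sup_le hAM hEM)
  have hCyM : ∀ y ∈ B, conjBy C y ≤ M := fun y hy => (hPCF y hy).trans (sup_le hCM hFM)
  have hR : A ⊔ B ⊔ C ≤ Subgroup.normalizer (M : Set G) := by
    refine sup_le (sup_le (hAM.trans Subgroup.le_normalizer) ?_) (hCM.trans Subgroup.le_normalizer)
    intro y hy
    have hle : ∀ y ∈ B, conjBy M y ≤ M := by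
      intro y hy
      simp only [M, P, Q, Cfsg.conjBy, Subgroup.map_sup, Subgroup.map_map]
      refine sup_le (sup_le (hAyM y hy) ?_) (sup_le ?_ (hCyM y hy))
      · rw [← Subgroup.map_map]
        change conjBy (conjBy C b⁻¹) y ≤ M
        rw [conjBy_conjBy]
        exact hCyM _ (mul_mem hy hbi)
      · rw [← Subgroup.map_map]
        change conjBy (conjBy A b⁻¹) y ≤ M
        rw [conjBy_conjBy]
        exact hAyM _ (mul_mem hy hbi)
    refine conjBy_eq_self_iff.1 (le_antisymm (hle y hy) fun x hx => ?_)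
    rw [mem_conjBy]
    refine hle y⁻¹ (inv_mem hy) ?_
    rw [mem_conjBy, inv_inv]
    simpa [mul_assoc] using hx
  refine ⟨?_, hXY, fun r hr => conjBy_eq_self_iff.2 (hR hr), ?_, ?_⟩
  · by_cases h : ⁅A, P⁆ = ⊥
    · exact Or.inl ⟨hcomm_abel _ _ cA cP h, hcomm_abel _ _ cQ cC (hequiv.1 h)⟩
    · refine Or.inr ⟨⟨fun hm => h (commutator_eq_bot_of_comm fun x hx y hy => ?_),
        commutator_commutator_sup_eq_bot cA cP hK1⟩,
        ⟨fun hm => h (hequiv.2 (commutator_eq_bot_of_comm fun x hx y hy => ?_)),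
        commutator_commutator_sup_eq_bot cQ cC hK2⟩⟩
      · exact congrArg Subtype.val (hm.is_comm.comm ⟨x, Subgroup.mem_sup_left hx⟩
          ⟨y, Subgroup.mem_sup_right hy⟩)
      · exact congrArg Subtype.val (hm.is_comm.comm ⟨x, Subgroup.mem_sup_left hx⟩
          ⟨y, Subgroup.mem_sup_right hy⟩)
  · have hQR : ∀ {H : Subgroup G}, H ≤ A ⊔ B ⊔ C → conjBy H b⁻¹ ≤ A ⊔ B ⊔ C := fun hH =>
      conjBy_le hH (Subgroup.mem_sup_left (Subgroup.mem_sup_right hbi))
    refine le_antisymm (sup_le (sup_le (sup_le ?_ ?_) (sup_le ?_ ?_)) ?_)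
      (sup_le (sup_le (hAM.trans le_sup_left) le_sup_right) (hCM.trans le_sup_left))
    · exact le_sup_left.trans le_sup_left
    · exact hQR le_sup_right
    · exact hQR (le_sup_left.trans le_sup_left)
    · exact le_sup_right
    · exact le_sup_right.trans le_sup_left
  · let K : Subgroup G := ⁅A, P⁆ ⊔ ⁅Q, C⁆
    let TM : Set G := ((A : Set G) ∪ P) ∪ ((Q : Set G) ∪ C)
    have hMT : M = Subgroup.closure TM := by
      simp only [M, TM, Subgroup.closure_union, Subgroup.closure_eq]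
    have hcenK : ∀ t ∈ TM, ∀ k ∈ K, t * k = k * t := by
      have hk : K ≤ Subgroup.centralizer TM := by
        refine sup_le ?_ ?_
        · intro k hk
          have hkX : k ∈ A ⊔ P := (Subgroup.commutator_mono le_sup_left le_sup_right).trans
            (Subgroup.commutator_le_self _) hk
          rw [Subgroup.mem_centralizer_iff]
          rintro t ((ht | ht) | (ht | ht))
          · exact (hK1 k hk t (Subgroup.mem_sup_left ht)).symm
          · exact (hK1 k hk t (Subgroup.mem_sup_right ht)).symm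
          · exact (commute_of_commutator hXY hkX (Subgroup.mem_sup_left ht)).symm
          · exact (commute_of_commutator hXY hkX (Subgroup.mem_sup_right ht)).symm
        · intro k hk
          have hkX : k ∈ Q ⊔ C := (Subgroup.commutator_mono le_sup_left le_sup_right).trans
            (Subgroup.commutator_le_self _) hk
          rw [Subgroup.mem_centralizer_iff]
          rintro t ((ht | ht) | (ht | ht))
          · exact commute_of_commutator hXY (Subgroup.mem_sup_left ht) hkX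
          · exact commute_of_commutator hXY (Subgroup.mem_sup_right ht) hkX
          · exact (hK2 k hk t (Subgroup.mem_sup_left ht)).symm
          · exact (hK2 k hk t (Subgroup.mem_sup_right ht)).symm
      exact fun t ht k hk' => Subgroup.mem_centralizer_iff.1 (hk hk') t ht
    have hinvT : ∀ t ∈ TM, t⁻¹ ∈ TM := by
      rintro t ((ht | ht) | (ht | ht))
      exacts [Or.inl (Or.inl (inv_mem ht)), Or.inl (Or.inr (inv_mem ht)),
        Or.inr (Or.inl (inv_mem ht)), Or.inr (Or.inr (inv_mem ht))]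
    have hgen : ∀ s ∈ TM, ∀ t ∈ TM, ⁅s, t⁆ ∈ K := by
      have one : ∀ {s t : G}, s * t = t * s → ⁅s, t⁆ ∈ K := fun h => by
        rw [commutatorElement_eq_one_iff_mul_comm.2 h]; exact one_mem _
      rintro s ((hs | hs) | (hs | hs)) t ((ht | ht) | (ht | ht))
      · exact one (cA s hs t ht)
      · exact Subgroup.mem_sup_left (Subgroup.commutator_mem_commutator hs ht)
      · exact one (commute_of_commutator hAQ hs ht)
      · exact one (commute_of_commutator hAC hs ht)
      · rw [← commutatorElement_inv]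
        exact inv_mem (Subgroup.mem_sup_left (Subgroup.commutator_mem_commutator ht hs))
      · exact one (cP s hs t ht)
      · exact one (commute_of_commutator hPQ hs ht)
      · exact one (commute_of_commutator hPC hs ht)
      · exact one (commute_of_commutator hAQ ht hs).symm
      · exact one (commute_of_commutator hPQ ht hs).symm
      · exact one (cQ s hs t ht)
      · exact Subgroup.mem_sup_right (Subgroup.commutator_mem_commutator hs ht)
      · exact one (commute_of_commutator hAC ht hs).symm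
      · exact one (commute_of_commutator hPC ht hs).symm
      · rw [← commutatorElement_inv]
        exact inv_mem (Subgroup.mem_sup_right (Subgroup.commutator_mem_commutator ht hs))
      · exact one (cC s hs t ht)
    have hcentral : ∀ x ∈ M, ∀ y ∈ M, ∀ z ∈ M, Commute ⁅x, y⁆ z := by
      intro x hx y hy z hz
      have hk := commutator_mem_of_gen hinvT hcenK hgen (hMT ▸ hx) (hMT ▸ hy)
      have hle : M ≤ Subgroup.centralizer (K : Set G) := by
        rw [hMT, Subgroup.closure_le]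
        exact fun t ht => Subgroup.mem_centralizer_iff.2 fun k hk => (hcenK t ht k hk).symm
      exact Subgroup.mem_centralizer_iff.1 (hle hz) _ hk
    let L : ℕ → Set G := fun i => match i with
      | 0 => {1}
      | 1 => {g | ∃ e ∈ ⁅A, B⁆, ∃ f ∈ ⁅B, C⁆, ⁅e, f⁆ = g}
      | 2 => {g | ∃ a ∈ A, ∃ f ∈ ⁅B, C⁆, ⁅a, f⁆ = g} ∪ {g | ∃ e ∈ ⁅A, B⁆, ∃ c ∈ C, ⁅e, c⁆ = g}
      | 3 => (↑⁅A, B⁆ : Set G) ∪ ↑⁅B, C⁆
      | _ => ((A : Set G) ∪ B) ∪ C
    have hRT : A ⊔ B ⊔ C = Subgroup.closure (((A : Set G) ∪ B) ∪ C) := by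
      simp only [Subgroup.closure_union, Subgroup.closure_eq]
    refine isNilpotent_of_chain hRT L 4 Set.Subset.rfl ?_ ?_ Set.Subset.rfl
    · have hAR : A ≤ A ⊔ B ⊔ C := le_sup_left.trans le_sup_left
      have hBR : B ≤ A ⊔ B ⊔ C := le_sup_right.trans le_sup_left
      have hCR : C ≤ A ⊔ B ⊔ C := le_sup_right
      have hER := (Subgroup.commutator_mono hAR hBR).trans (Subgroup.commutator_le_self _)
      have hFR := (Subgroup.commutator_mono hBR hCR).trans (Subgroup.commutator_le_self _)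
      intro i hi g hg
      rcases i with - | - | - | - | i
      · rw [show g = 1 from hg]; exact one_mem _
      · obtain ⟨e, he, f, hf, rfl⟩ := hg
        rw [commutatorElement_def]
        exact mul_mem (mul_mem (mul_mem (hER he) (hFR hf)) (inv_mem (hER he))) (inv_mem (hFR hf))
      · rcases hg with ⟨x, hx, f, hf, rfl⟩ | ⟨e, he, c, hc, rfl⟩
        · rw [commutatorElement_def]
          exact mul_mem (mul_mem (mul_mem (hAR hx) (hFR hf)) (inv_mem (hAR hx))) (inv_mem (hFR hf))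
        · rw [commutatorElement_def]
          exact mul_mem (mul_mem (mul_mem (hER he) (hCR hc)) (inv_mem (hER he))) (inv_mem (hCR hc))
      · rcases hg with hg | hg
        exacts [hER hg, hFR hg]
      · rcases hg with (hg | hg) | hg
        exacts [hAR hg, hBR hg, hCR hg]
    · have one : ∀ {s t : G} {Z : Set G}, s * t = t * s → ⁅s, t⁆ ∈ Subgroup.closure Z := fun h => by
        rw [commutatorElement_eq_one_iff_mul_comm.2 h]; exact one_mem _
      have hfix : ∀ y ∈ B, ∀ e ∈ ⁅A, B⁆, y * e * y⁻¹ = e := fun y hy e he => by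
        rw [hBE y hy e he, mul_inv_cancel_right]
      have hfixF : ∀ y ∈ B, ∀ f ∈ ⁅B, C⁆, y * f * y⁻¹ = f := fun y hy f hf => by
        rw [hBF y hy f hf, mul_inv_cancel_right]
      intro i hi g hg t ht
      rcases i with - | - | - | - | i
      · obtain ⟨e, he, f, hf, rfl⟩ := hg
        rcases ht with (ht | ht) | ht
        · exact one (hcentral e (hEM he) f (hFM hf) t (hAM ht))
        · refine one ?_
          have h1 : Commute e t := (hBE t ht e he).symm
          have h2 : Commute f t := (hBF t ht f hf).symm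
          rw [commutatorElement_def]
          exact (((h1.mul_left h2).mul_left h1.inv_left).mul_left h2.inv_left).eq
        · exact one (hcentral e (hEM he) f (hFM hf) t (hCM ht))
      · rcases hg with ⟨x, hx, f, hf, rfl⟩ | ⟨e, he, c, hc, rfl⟩
        · rcases ht with (ht | ht) | ht
          · exact one (hcentral x (hAM hx) f (hFM hf) t (hAM ht))
          · obtain ⟨e', he', hxe⟩ := hconjA t ht x hx
            have h1 : t * ⁅x, f⁆ * t⁻¹ = ⁅x, f⁆ * ⁅e', f⁆ := by
              calc t * ⁅x, f⁆ * t⁻¹ = ⁅t * x * t⁻¹, t * f * t⁻¹⁆ := by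
                    simp only [commutatorElement_def]; group
                _ = e' * ⁅x, f⁆ * e'⁻¹ * ⁅e', f⁆ := by
                    rw [hxe, hfixF t ht f hf]; simp only [commutatorElement_def]; group
                _ = ⁅x, f⁆ * ⁅e', f⁆ := by
                    rw [← (hcentral x (hAM hx) f (hFM hf) e' (hEM he')).eq, mul_inv_cancel_right]
            have h2 : ⁅⁅x, f⁆, t⁆ = ⁅x, f⁆ * (t * ⁅x, f⁆ * t⁻¹)⁻¹ := by
              simp only [commutatorElement_def]; group
            rw [h2, h1, mul_inv_rev, ← mul_assoc,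
              (hcentral x (hAM hx) f (hFM hf) ⁅e', f⁆⁻¹ ?_).eq, mul_inv_cancel_right]
            · exact inv_mem (Subgroup.subset_closure ⟨e', he', f, hf, rfl⟩)
            · refine inv_mem ?_
              rw [commutatorElement_def]
              exact mul_mem (mul_mem (mul_mem (hEM he') (hFM hf)) (inv_mem (hEM he'))) (inv_mem (hFM hf))
          · exact one (hcentral x (hAM hx) f (hFM hf) t (hCM ht))
        · rcases ht with (ht | ht) | ht
          · exact one (hcentral e (hEM he) c (hCM hc) t (hAM ht))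
          · obtain ⟨f', hf', hcf⟩ := hconjC t ht c hc
            have h1 : t * ⁅e, c⁆ * t⁻¹ = ⁅e, f'⁆ * ⁅e, c⁆ := by
              calc t * ⁅e, c⁆ * t⁻¹ = ⁅t * e * t⁻¹, t * c * t⁻¹⁆ := by
                    simp only [commutatorElement_def]; group
                _ = ⁅e, f'⁆ * (f' * ⁅e, c⁆ * f'⁻¹) := by
                    rw [hcf, hfix t ht e he]; simp only [commutatorElement_def]; group
                _ = ⁅e, f'⁆ * ⁅e, c⁆ := by
                    rw [← (hcentral e (hEM he) c (hCM hc) f' (hFM hf')).eq, mul_inv_cancel_right]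
            have h2 : ⁅⁅e, c⁆, t⁆ = ⁅e, c⁆ * (t * ⁅e, c⁆ * t⁻¹)⁻¹ := by
              simp only [commutatorElement_def]; group
            rw [h2, h1, mul_inv_rev, ← mul_assoc, mul_inv_cancel, one_mul]
            exact inv_mem (Subgroup.subset_closure ⟨e, he, f', hf', rfl⟩)
          · exact one (hcentral e (hEM he) c (hCM hc) t (hCM ht))
      · rcases hg with hg | hg
        · rcases ht with (ht | ht) | ht
          · exact one (hAE t ht g hg).symm
          · exact one (hBE t ht g hg).symm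
          · exact Subgroup.subset_closure (Or.inr ⟨g, hg, t, ht, rfl⟩)
        · rcases ht with (ht | ht) | ht
          · rw [← commutatorElement_inv]
            exact inv_mem (Subgroup.subset_closure (Or.inl ⟨t, ht, g, hg, rfl⟩))
          · exact one (hBF t ht g hg).symm
          · exact one (hCF t ht g hg).symm
      · have hE3 : ∀ z ∈ ⁅A, B⁆, z ∈ Subgroup.closure (L 3) := fun z hz =>
          Subgroup.subset_closure (Or.inl hz)
        have hF3 : ∀ z ∈ ⁅B, C⁆, z ∈ Subgroup.closure (L 3) := fun z hz =>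
          Subgroup.subset_closure (Or.inr hz)
        have h := hE3
        rcases hg with (hg | hg) | hg <;> rcases ht with (ht | ht) | ht
        · exact one (cA g hg t ht)
        · exact hE3 _ (Subgroup.commutator_mem_commutator hg ht)
        · exact one (commute_of_commutator hAC hg ht)
        · refine hE3 _ ?_
          rw [Subgroup.commutator_comm]; exact Subgroup.commutator_mem_commutator hg ht
        · exact one (comm_of_mem hS hB hg ht)
        · exact hF3 _ (Subgroup.commutator_mem_commutator hg ht)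
        · exact one (commute_of_commutator hAC ht hg).symm
        · refine hF3 _ ?_
          rw [Subgroup.commutator_comm]; exact Subgroup.commutator_mem_commutator hg ht
        · exact one (cC g hg t ht)
      · omega

end Cfsg.Agent.S5030
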