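import Cfsg.Statements.S5031
import Cfsg.Agent.Lib.Trans3.RootComponent

set_option autoImplicit false
open Cfsg

namespace Cfsg.Agent.S5031

/-- Let S be a set of abstract root subgroups of G and let A, B ∈ S lie in different connected components of the graph of rank one pairs on S, each component having more than one member. Then B is not a line partner of A. -/
theorem result {G : Type*} [Group G] {S : Set (Subgroup G)} (hS : Cfsg.IsRootSubgroupSet S)
    {A B : Subgroup G} (hA : A ∈ S) (hB : B ∈ S)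
    (hne : Cfsg.componentOf (Cfsg.FAdj S) S A ≠ Cfsg.componentOf (Cfsg.FAdj S) S B)
    (hA2 : ∃ A' ∈ Cfsg.componentOf (Cfsg.FAdj S) S A, A' ≠ A) (hB2 : ∃ B' ∈ Cfsg.componentOf (Cfsg.FAdj S) S B, B' ≠ B) :
    B ∉ Cfsg.linePartners S A := by
  rintro ⟨⟨-, -, hAB⟩, hle, hcov, htriv⟩
  obtain ⟨D, hD, hAD⟩ := CfsgLib.Trans3.RankOne.exists_partner_of_component hA2
  obtain ⟨D', hD', hBD'⟩ := CfsgLib.Trans3.RankOne.exists_partner_of_component hB2
  obtain ⟨a, ha, ha1⟩ := CfsgLib.Trans3.RankOne.exists_mem_ne_one hAD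
  obtain ⟨b, hb, hb1⟩ := CfsgLib.Trans3.RankOne.exists_mem_ne_one hBD'
  have hne' : A ≠ B := fun h => hne (h ▸ rfl)
  have hba : b * a = a * b := (CfsgLib.Trans3.RankOne.commute_of_commutator hAB ha hb).symm
  have hx1 : b * a ≠ 1 := fun h => hne' (CfsgLib.Trans3.RankOne.eq_of_mem_inter hS hA ⟨D, hD, hAD⟩
    hB ha ha1 (inv_eq_of_mul_eq_one_right h ▸ inv_mem hb)).symm
  obtain ⟨E, hE, hbaE⟩ := hcov (b * a)
    (mul_mem (Subgroup.mem_sup_right hb) (Subgroup.mem_sup_left ha)) hx1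
  apply hne
  apply CfsgLib.Trans3.RankOne.componentOf_eq_of_fReach
  rcases CfsgLib.Trans3.RankOne.translate_dichotomy hS hA hD hAD hB hAB hE.1 ha ha1 hb hb1 hbaE with
    h1 | ⟨h1, -⟩
  · exact (Relation.ReflTransGen.single ⟨hA, hD, hAD⟩).tail ⟨hD, hB, h1⟩
  rcases CfsgLib.Trans3.RankOne.translate_dichotomy hS hB hD' hBD' hA
    (by rw [Subgroup.commutator_comm]; exact hAB) hE.1 hb hb1 ha ha1 (hba ▸ hbaE) with
    h2 | ⟨h2, -⟩
  · exact CfsgLib.Trans3.RankOne.fReach_symm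
      ((Relation.ReflTransGen.single ⟨hB, hD', hBD'⟩).tail ⟨hD', hA, h2⟩)
  · exact ((Relation.ReflTransGen.single ⟨hA, hD, hAD⟩).tail
      ⟨hD, hE.1, Cfsg.RankOnePair_symm h1⟩).trans (CfsgLib.Trans3.RankOne.fReach_symm
        ((Relation.ReflTransGen.single ⟨hB, hD', hBD'⟩).tail ⟨hD', hE.1, Cfsg.RankOnePair_symm h2⟩))

end Cfsg.Agent.S5031
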