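import Cfsg.Statements.S5035
import Cfsg.Agent.Lib.Trans3.RootComponent

set_option autoImplicit false
open Cfsg CfsgLib.Trans3.RankOne

namespace Cfsg.Agent.S5035

/-- Let S be a set of abstract root subgroups of G whose graph of rank one pairs is connected, and f a homomorphism from G onto a group H. Then either the images of the members of S form a set of abstract root subgroups of H whose graph of rank one pairs is again connected, or H equals the image of a member of S. -/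
theorem result {G H : Type*} [Group G] [Group H] {S : Set (Subgroup G)} (hS : Cfsg.IsRootSubgroupSet S)
    (hc : Cfsg.IsConnectedFamily (Cfsg.FAdj S) S) (f : G →* H) (hf : Function.Surjective f) :
    (Cfsg.IsRootSubgroupSet ((fun A : Subgroup G => A.map f) '' S) ∧
      Cfsg.IsConnectedFamily (Cfsg.FAdj ((fun A : Subgroup G => A.map f) '' S)) ((fun A : Subgroup G => A.map f) '' S)) ∨
    ∃ A ∈ S, A.map f = ⊤ := by
  have hcases : ∀ {A B : Subgroup G}, A ∈ S → B ∈ S → Cfsg.IsRankOnePair A B →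
      (A.map f = B.map f) ∨ Cfsg.IsRankOnePair (A.map f) (B.map f) := by
    intro A B hA hB h
    by_cases hfix : ∀ n ∈ f.ker ⊓ (A ⊔ B), Cfsg.conjBy A n = A
    swap
    · left
      push Not at hfix
      obtain ⟨n, ⟨hn, hnX⟩, hne⟩ := hfix
      obtain ⟨a, ha, he⟩ := exists_eq_conjBy h ⟨n, hnX, rfl⟩ hne
      have h1 : ∀ (C : Subgroup G) (g : G), (Cfsg.conjBy C g).map f = Cfsg.conjBy (C.map f) (f g) := by
        intro C g
        simp only [Cfsg.conjBy, Subgroup.map_map]
        congr 1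
        ext x
        simp
      have h2 := congrArg (Subgroup.map f) he
      rw [h1, h1, MonoidHom.mem_ker.1 hn, conjBy_one] at h2
      rw [eq_comm, conjBy_eq_iff, conjBy_of_mem (inv_mem (Subgroup.mem_map_of_mem f ha))] at h2
      exact h2.symm
    right
    have hfixB : ∀ n ∈ f.ker ⊓ (A ⊔ B), Cfsg.conjBy B n = B := by
      intro n hn
      obtain ⟨x, hx, hB'⟩ := right_mem h
      have h2 : x⁻¹ * n * x ∈ f.ker ⊓ (A ⊔ B) := by
        refine Subgroup.mem_inf.2 ⟨?_, mul_mem (mul_mem (inv_mem hx) hn.2) hx⟩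
        show f (x⁻¹ * n * x) = 1
        simp [MonoidHom.mem_ker.1 hn.1]
      rw [hB', conjBy_conjBy, show n * x = x * (x⁻¹ * n * x) by group, ← conjBy_conjBy, hfix _ h2]
    have hkey : ∀ {C D : Subgroup G}, Cfsg.IsRankOnePair C D → C ⊔ D = A ⊔ B →
        (∀ n ∈ f.ker ⊓ (A ⊔ B), Cfsg.conjBy C n = C) →
        (∀ n ∈ f.ker ⊓ (A ⊔ B), Cfsg.conjBy D n = D) →
        ∀ n ∈ f.ker ⊓ (A ⊔ B), ∀ c ∈ C, c * n = n * c := by
      intro C D hCD hsup hC hD n hn c hc
      have h1 : c * n * c⁻¹ * n⁻¹ ∈ C := by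
        have h3 : n * c⁻¹ * n⁻¹ ∈ C := hC n hn ▸ conj_mem_conjBy (C.inv_mem hc)
        simpa [mul_assoc] using C.mul_mem hc h3
      have h2 : c * n * c⁻¹ * n⁻¹ ∈ f.ker ⊓ (A ⊔ B) := by
        have hcX : c ∈ A ⊔ B := hsup ▸ Subgroup.mem_sup_left hc
        refine Subgroup.mem_inf.2 ⟨?_, mul_mem (mul_mem (mul_mem hcX hn.2) (inv_mem hcX)) (inv_mem hn.2)⟩
        show f (c * n * c⁻¹ * n⁻¹) = 1
        simp [MonoidHom.mem_ker.1 hn.1]
      have h3 := eq_one_of_mem_normalizer hCD h1 (conjBy_eq_self_iff.1 (hD _ h2))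
      rwa [mul_inv_eq_one, mul_inv_eq_iff_eq_mul] at h3
    have hcA := hkey h rfl hfix hfixB
    have hcB := hkey (Cfsg.RankOnePair_symm h) (sup_comm B A) hfixB hfix
    have hinj : ∀ {C D : Subgroup G}, Cfsg.IsRankOnePair C D → C ≤ A ⊔ B →
        (∀ n ∈ f.ker ⊓ (A ⊔ B), ∀ d ∈ D, d * n = n * d) → ∀ c ∈ C, f c = 1 → c = 1 :=
      fun hCD hle hc c hcC hfc => mem_center_of_normalizer hCD hcC
        fun d hd => (hc c ⟨hfc, hle hcC⟩ d hd).symm
    have hiA := hinj h le_sup_left hcB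
    have hiB := hinj (Cfsg.RankOnePair_symm h) le_sup_right hcA
    have hcond : ∀ {C D : Subgroup G}, Cfsg.RankOneCondition C D → (∀ c ∈ D, f c = 1 → c = 1) →
        Cfsg.RankOneCondition (C.map f) (D.map f) := by
      intro C D hcd hi x hx hx1
      obtain ⟨c, hc, rfl⟩ := hx
      obtain ⟨d, hd, hd1, he⟩ := hcd c hc (fun h0 => hx1 (by rw [h0, map_one]))
      refine ⟨f d, ⟨d, hd, rfl⟩, fun h0 => hd1 (hi d hd h0), ?_⟩
      have h1 : ∀ (C : Subgroup G) (g : G), (Cfsg.conjBy C g).map f = Cfsg.conjBy (C.map f) (f g) := by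
        intro C g
        simp only [Cfsg.conjBy, Subgroup.map_map]
        congr 1
        ext x
        simp
      have h2 := congrArg (Subgroup.map f) he
      rwa [h1, h1, map_inv, map_inv] at h2
    have hnil : ∀ {C : Subgroup G}, C ∈ S → Group.IsNilpotent ↥(C.map f) := by
      intro C hC
      have hm : IsMulCommutative ↥(C.map f) := by
        refine ⟨⟨?_⟩⟩
        rintro ⟨_, x, hx, rfl⟩ ⟨_, y, hy, rfl⟩
        ext
        simp only [Subgroup.coe_mul, ← map_mul]
        rw [comm_of_mem hS hC hx hy]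
      open IsMulCommutative in exact inferInstance
    refine ⟨fun he => ?_, hnil hA, hnil hB, hcond h.cond_left hiB, hcond h.cond_right hiA⟩
    obtain ⟨b, hb, hb1⟩ := exists_mem_ne_one (Cfsg.RankOnePair_symm h)
    obtain ⟨a, ha, hab⟩ : f b ∈ A.map f := he ▸ ⟨b, hb, rfl⟩
    refine hb1 (mem_center_of_normalizer (Cfsg.RankOnePair_symm h) hb fun a' ha' => ?_)
    have hk : a⁻¹ * b ∈ f.ker ⊓ (A ⊔ B) := by
      refine Subgroup.mem_inf.2 ⟨?_, mul_mem (inv_mem (Subgroup.mem_sup_left ha)) (Subgroup.mem_sup_right hb)⟩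
      show f (a⁻¹ * b) = 1
      simp [hab]
    have h1 : Commute a' (a⁻¹ * b) := hcA _ hk a' ha'
    have h2 : Commute a' a := comm_of_mem hS hA ha' ha
    have h3 := h2.mul_right h1
    rw [mul_inv_cancel_left] at h3
    exact h3.eq.symm
  by_cases htriv : ∃ A ∈ S, A.map f = ⊥
  · right
    obtain ⟨A, hA, hAbot⟩ := htriv
    refine ⟨A, hA, ?_⟩
    rw [eq_top_iff, ← Subgroup.map_top_of_surjective f hf, ← hS.generates, Subgroup.map_iSup]
    refine iSup_le fun B => ?_
    rw [Subgroup.map_iSup]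
    refine iSup_le fun hB => ?_
    obtain ⟨g, rfl⟩ := exists_conj_of_fReach (hc A hA B hB)
    have : (Cfsg.conjBy A g).map f = ⊥ := by
      rw [Subgroup.map_eq_bot_iff] at hAbot ⊢
      rintro _ ⟨a, ha, rfl⟩
      exact f.normal_ker.conj_mem a (hAbot ha) g
    rw [this]
    exact bot_le
  left
  push Not at htriv
  refine ⟨⟨?_, ?_, ?_, ?_, ?_⟩, ?_⟩
  · rintro _ ⟨A, hA, rfl⟩
    refine ⟨⟨?_⟩⟩
    rintro ⟨_, x, hx, rfl⟩ ⟨_, y, hy, rfl⟩
    ext
    simp only [Subgroup.coe_mul, ← map_mul]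
    rw [comm_of_mem hS hA hx hy]
  · rintro _ ⟨A, hA, rfl⟩
    exact htriv A hA
  · rw [iSup_image, ← Subgroup.map_top_of_surjective f hf, ← hS.generates]
    simp only [Subgroup.map_iSup]
  · rintro _ ⟨A, hA, rfl⟩ h
    obtain ⟨g, rfl⟩ := hf h
    refine ⟨Cfsg.conjBy A g, hS.conj_mem A hA g, ?_⟩
    simp only [Cfsg.conjBy, Subgroup.map_map]
    congr 1
    ext x
    simp
  · rintro _ ⟨A, hA, rfl⟩ _ ⟨B, hB, rfl⟩
    rcases hS.pair A hA B hB with h | h | h
    · exact Or.inl (by rw [← Subgroup.map_commutator, h, Subgroup.map_bot])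
    · rcases hcases hA hB h with h' | h'
      · refine Or.inl (commutator_eq_bot_of_comm ?_)
        show ∀ a ∈ A.map f, ∀ b ∈ B.map f, a * b = b * a
        rw [← h']
        rintro _ ⟨x, hx, rfl⟩ _ ⟨y, hy, rfl⟩
        rw [← map_mul, ← map_mul, comm_of_mem hS hA hx hy]
      · exact Or.inr (Or.inl h')
    · refine Or.inr (Or.inr ⟨?_, ?_, ?_, ?_⟩)
      · exact ⟨⁅A, B⁆, h.1, Subgroup.map_commutator _ _ _⟩
      · rw [← Subgroup.map_commutator, ← Subgroup.map_sup]
        rintro _ ⟨c, hc, rfl⟩ _ ⟨x, hx, rfl⟩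
        rw [← map_mul, ← map_mul, h.2.1 c hc x hx]
      · rintro _ ⟨a, ha, rfl⟩ ha1
        rw [← Subgroup.map_commutator, ← h.2.2.1 a ha (fun h0 => ha1 (by rw [h0, map_one])),
          MonoidHom.map_closure, ← Set.image_comp, Subgroup.coe_map, ← Set.image_comp]
        congr 1
        ext x
        simp
      · rintro _ ⟨b, hb, rfl⟩ hb1
        rw [← Subgroup.map_commutator, ← h.2.2.2 b hb (fun h0 => hb1 (by rw [h0, map_one])),
          MonoidHom.map_closure, ← Set.image_comp, Subgroup.coe_map, ← Set.image_comp]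
        congr 1
        ext x
        simp
  · rintro _ ⟨A, hA, rfl⟩ _ ⟨B, hB, rfl⟩
    have := hc A hA B hB
    clear hB
    induction this with
    | refl => exact Relation.ReflTransGen.refl
    | tail _ h2 ih =>
        rcases hcases h2.1 h2.2.1 h2.2.2 with h' | h'
        · simp only at ih ⊢
          rw [← h']
          exact ih
        · exact ih.tail ⟨⟨_, h2.1, rfl⟩, ⟨_, h2.2.1, rfl⟩, h'⟩

end Cfsg.Agent.S5035
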