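import Cfsg.Statements.S5038
import Cfsg.Agent.Lib.Trans3.RootLine

set_option autoImplicit false
open Cfsg

namespace Cfsg.Agent.S5038

/-- Let S be a set of abstract root subgroups of G in which every member has a rank one partner, A ∈ S and B a line partner of A. Then the subgroup generated by the members of S normalizing AB permutes the members of S inside AB doubly transitively by conjugation. -/
theorem result {G : Type*} [Group G] {S : Set (Subgroup G)} (hS : Cfsg.IsRootSubgroupSet S)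
    (hF : ∀ A ∈ S, ¬ Cfsg.IsIsolatedIn (Cfsg.FAdj S) S A) {A B : Subgroup G} (hA : A ∈ S) (hB : B ∈ Cfsg.linePartners S A) :
    ∀ C₁ ∈ Cfsg.membersIn S (A ⊔ B), ∀ C₂ ∈ Cfsg.membersIn S (A ⊔ B), ∀ D₁ ∈ Cfsg.membersIn S (A ⊔ B),
      ∀ D₂ ∈ Cfsg.membersIn S (A ⊔ B), C₁ ≠ C₂ → D₁ ≠ D₂ →
        ∃ x ∈ ⨆ E ∈ Cfsg.normalizingMembers S (A ⊔ B), E, Cfsg.conjBy C₁ x = D₁ ∧ Cfsg.conjBy C₂ x = D₂ := by
  set N := A ⊔ B with hN
  set T := Cfsg.membersIn S N with hT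
  set K : Subgroup G := ⨆ E ∈ Cfsg.normalizingMembers S N, E with hK
  obtain ⟨E, F, hE, hFn, hEA, hl, hEN, horb⟩ :=
    CfsgLib.Trans3.RankOne.line_orbit hS hF hA hB
  obtain ⟨E', F', hE', hF'n, hE'E, -, -, horb'⟩ :=
    CfsgLib.Trans3.RankOne.line_orbit hS hF hE.1 hl
  rw [hEN] at hE' hF'n horb'
  have hFK : ∀ f ∈ F, f ∈ K := fun f hf =>
    Subgroup.mem_iSup_of_mem F (Subgroup.mem_iSup_of_mem hFn hf)
  have hF'K : ∀ f ∈ F', f ∈ K := fun f hf =>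
    Subgroup.mem_iSup_of_mem F' (Subgroup.mem_iSup_of_mem hF'n hf)
  have hKN : K ≤ Subgroup.normalizer (N : Set G) := iSup₂_le fun X hX => hX.2
  have hmem : ∀ k ∈ K, ∀ C ∈ T, Cfsg.conjBy C k ∈ T := fun k hk C hC =>
    ⟨hS.conj_mem C hC.1 k, (Subgroup.map_mono hC.2).trans
      (CfsgLib.Trans3.RankOne.conjBy_eq_self_iff.2 (hKN hk)).le⟩
  have hAT : A ∈ T := ⟨hA, le_sup_left⟩
  -- a member different from `E` and `E'`
  obtain ⟨M, hM, hME, hME'⟩ : ∃ M ∈ T, M ≠ E ∧ M ≠ E' := by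
    by_cases hAE' : A = E'
    · obtain ⟨-, hcov, hdis⟩ := hB.2
      obtain ⟨a, ha, ha1⟩ := A.bot_or_exists_ne_one.resolve_left (hS.ne_bot A hA)
      obtain ⟨e, he, he1⟩ := E.bot_or_exists_ne_one.resolve_left (hS.ne_bot E hE.1)
      have hAE : A ⊓ E = ⊥ := hdis A hAT E hE hEA.symm
      have h1 : a * e ≠ 1 := fun h => by
        have hm : a ∈ A ⊓ E := ⟨ha, (eq_inv_of_mul_eq_one_left h) ▸ E.inv_mem he⟩
        rw [hAE] at hm
        exact ha1 hm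
      obtain ⟨M, hM, hmM⟩ := hcov _ (N.mul_mem (hAT.2 ha) (hE.2 he)) h1
      refine ⟨M, hM, ?_, ?_⟩
      · rintro rfl
        have hm : a ∈ A ⊓ M := ⟨ha, (mul_mem_cancel_right he).1 hmM⟩
        rw [hAE] at hm
        exact ha1 hm
      · rintro rfl
        subst hAE'
        have hm : e ∈ A ⊓ E := ⟨(mul_mem_cancel_left ha).1 hmM, he⟩
        rw [hAE] at hm
        exact he1 hm
    · exact ⟨A, hAT, hEA.symm, hAE'⟩
  have toE : ∀ C ∈ T, ∃ k ∈ K, Cfsg.conjBy C k = E := by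
    intro C hC
    by_cases hCE : C = E
    · exact ⟨1, K.one_mem, by rw [hCE, CfsgLib.Trans3.RankOne.conjBy_one]⟩
    obtain ⟨f, hf, -, h1⟩ := horb C hC M hM hCE hME
    obtain ⟨g, hg, -, h2⟩ := horb' M hM E hE hME' hE'E.symm
    exact ⟨g * f, K.mul_mem (hF'K g hg) (hFK f hf),
      by rw [← CfsgLib.Trans3.RankOne.conjBy_conjBy, h1, h2]⟩
  intro C₁ hC₁ C₂ hC₂ D₁ hD₁ D₂ hD₂ hC hD
  obtain ⟨k, hk, hkE⟩ := toE C₁ hC₁
  obtain ⟨l, hl', hlE⟩ := toE D₁ hD₁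
  obtain ⟨f, hf, hfE, hfC⟩ := horb _ (hmem k hk C₂ hC₂) _ (hmem l hl' D₂ hD₂)
    (fun h => hC (CfsgLib.Trans3.RankOne.conjBy_inj (hkE.trans h.symm)))
    (fun h => hD (CfsgLib.Trans3.RankOne.conjBy_inj (hlE.trans h.symm)))
  refine ⟨l⁻¹ * f * k, K.mul_mem (K.mul_mem (K.inv_mem hl') (hFK f hf)) hk, ?_, ?_⟩
  · rw [← CfsgLib.Trans3.RankOne.conjBy_conjBy, hkE, ← CfsgLib.Trans3.RankOne.conjBy_conjBy, hfE,
      ← hlE, CfsgLib.Trans3.RankOne.conjBy_conjBy, inv_mul_cancel,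
      CfsgLib.Trans3.RankOne.conjBy_one]
  · rw [← CfsgLib.Trans3.RankOne.conjBy_conjBy, ← CfsgLib.Trans3.RankOne.conjBy_conjBy, hfC,
      CfsgLib.Trans3.RankOne.conjBy_conjBy, inv_mul_cancel, CfsgLib.Trans3.RankOne.conjBy_one]

end Cfsg.Agent.S5038
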