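import Cfsg.Statements.S5039
import Cfsg.Agent.Lib.Trans3.RootDegenerate

set_option autoImplicit false
universe u
open Cfsg

namespace Cfsg.Agent.S5039

/-- Let S be a class of abstract root subgroups of G containing two different commuting members. Suppose that, in case S is degenerate and every element of every member of S has order at most 3, the following holds: for every A ∈ S and every rank one partner B of A there are subgroups A₀ ≤ A and B₀ ≤ B generating an image of SL₂(k) with central kernel, k a field with at least four elements, A₀ and B₀ being the images of the unitriangular subgroups. Then every rank one pair A, B in S is special. -/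
theorem result {G : Type u} [Group G] {S : Set (Subgroup G)} (hS : Cfsg.IsRootSubgroupClass S)
    (hcomm : ∃ A ∈ S, ∃ C ∈ S, A ≠ C ∧ ⁅A, C⁆ = ⊥)
    (hH : Cfsg.IsDegenerateRootSet S → (∀ A ∈ S, ∀ a ∈ A, 0 < orderOf a ∧ orderOf a ≤ 3) →
      ∀ A ∈ S, ∀ B ∈ Cfsg.rankOnePartners S A, ∃ A₀ B₀ : Subgroup G, A₀ ≤ A ∧ B₀ ≤ B ∧
        ∃ (k : Type u) (_ : Field k), 3 < ENat.card k ∧ Cfsg.IsPSL2PairOver k A₀ B₀)
    {A B : Subgroup G} (hA : A ∈ S) (hB : B ∈ Cfsg.rankOnePartners S A) : Cfsg.IsSpecialRankOnePair A B := by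
  obtain ⟨hBS, hAB⟩ := hB
  by_cases hd : Cfsg.IsDegenerateRootSet S
  swap
  · have hnd : Cfsg.IsNondegenerateRootSet S := by
      refine ⟨hcomm, ⟨A, hA, B, hBS, hAB⟩, ?_⟩
      simpa [Cfsg.IsDegenerateRootSet] using hd
    exact (CfsgLib.Trans3.RankOne.nondegenerate_special hS hnd hA ⟨hBS, hAB⟩).2
  refine CfsgLib.Trans3.RankOne.degenerate_special hS hd hcomm hA hBS hAB fun W hW hsp => ?_
  have hAW := hsp.1
  have hdata : CfsgLib.Trans3.RankOne.SpecialData A W :=
    CfsgLib.Trans3.RankOne.SpecialData.mk' hsp ⟨hS.1.commutative A hA, hS.1.commutative W hW⟩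
  by_cases hall : ∀ A ∈ S, ∀ a ∈ A, 0 < orderOf a ∧ orderOf a ≤ 3
  · obtain ⟨A₀, B₀, hA₀, hB₀, k, _, hk, φ, hrange, hker, hup, hlow⟩ :=
      hH hd hall A hA W ⟨hW, hAW⟩
    obtain ⟨l, hl0, hl2⟩ : ∃ l : k, l ≠ 0 ∧ l * l ≠ 1 := by
      by_contra! h
      have hsub : ∀ x : k, x = 0 ∨ x = 1 ∨ x = -1 := fun x => by
        by_cases hx : x = 0
        · exact .inl hx
        · exact .inr (mul_self_eq_one_iff.1 (h x hx))
      classical
      haveI : Fintype k := ⟨{0, 1, -1}, fun x => by simpa using hsub x⟩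
      rw [ENat.card_eq_coe_fintype_card] at hk
      have h3 : Fintype.card k ≤ 3 := by
        calc Fintype.card k ≤ ({0, 1, -1} : Finset k).card :=
              Finset.card_le_card fun x _ => by simpa using hsub x
          _ ≤ 3 := Finset.card_le_three
      have : (3 : ℕ) < Fintype.card k := by exact_mod_cast hk
      omega
    let up : k → Matrix.SpecialLinearGroup (Fin 2) k := fun s =>
      ⟨!![1, s; 0, 1], by simp [Matrix.det_fin_two]⟩
    let low : k → Matrix.SpecialLinearGroup (Fin 2) k := fun s =>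
      ⟨!![1, 0; s, 1], by simp [Matrix.det_fin_two]⟩
    let d : Matrix.SpecialLinearGroup (Fin 2) k :=
      ⟨!![l, 0; 0, l⁻¹], by simp [Matrix.det_fin_two, hl0]⟩
    have hupA : ∀ s, φ (up s) ∈ A := fun s => hA₀ (hup ▸ Subgroup.mem_map_of_mem φ
      (Subgroup.subset_closure ⟨by simp [up], by simp [up], by simp [up]⟩))
    have hlowW : ∀ s, φ (low s) ∈ W := fun s => hB₀ (hlow ▸ Subgroup.mem_map_of_mem φ
      (Subgroup.subset_closure ⟨by simp [low], by simp [low], by simp [low]⟩))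
    have hupinj : ∀ s t, φ (up s) = φ (up t) → s = t := by
      intro s t h
      have h1 : (up t)⁻¹ * up s ∈ φ.ker := by simp [MonoidHom.mem_ker, h]
      have e : (up t)⁻¹ * up s = up (s - t) := by
        rw [inv_mul_eq_iff_eq_mul]
        apply Subtype.ext
        change _ = (up t).1 * (up (s - t)).1
        simp [up, Matrix.mul_fin_two]
      rw [e] at h1
      have h2 : (low 1).1 * (up (s - t)).1 = (up (s - t)).1 * (low 1).1 :=
        congrArg Subtype.val (Subgroup.mem_center_iff.1 (hker h1) (low 1))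
      simp [up, low, Matrix.mul_fin_two] at h2
      exact sub_eq_zero.1 (by linear_combination h2)
    have hlowinj : ∀ s t, φ (low s) = φ (low t) → s = t := by
      intro s t h
      have h1 : (low t)⁻¹ * low s ∈ φ.ker := by simp [MonoidHom.mem_ker, h]
      have e : (low t)⁻¹ * low s = low (s - t) := by
        rw [inv_mul_eq_iff_eq_mul]
        apply Subtype.ext
        change _ = (low t).1 * (low (s - t)).1
        simp [low, Matrix.mul_fin_two]
      rw [e] at h1
      have h2 : (up 1).1 * (low (s - t)).1 = (low (s - t)).1 * (up 1).1 :=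
        congrArg Subtype.val (Subgroup.mem_center_iff.1 (hker h1) (up 1))
      simp [up, low, Matrix.mul_fin_two] at h2
      exact sub_eq_zero.1 (by linear_combination h2)
    have hone : φ 1 = φ (up 0) ∧ φ 1 = φ (low 0) := by
      constructor <;> congr 1 <;> ext i j <;> fin_cases i <;> fin_cases j <;> simp [up, low]
    have hdrange : φ d ∈ A ⊔ W := sup_le_sup hA₀ hB₀ (hrange ▸ ⟨d, rfl⟩)
    have hd1 : φ d * φ (up 1) * (φ d)⁻¹ = φ (up (l * l)) := by
      rw [mul_inv_eq_iff_eq_mul, ← map_mul, ← map_mul]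
      congr 1
      apply Subtype.ext
      change d.1 * (up 1).1 = (up (l * l)).1 * d.1
      simp [up, d, Matrix.mul_fin_two, hl0]
    have hne : φ (up (l * l)) ≠ 1 := fun e =>
      mul_ne_zero hl0 hl0 (hupinj _ _ (e.trans (φ.map_one.symm.trans hone.1)))
    refine ⟨⟨φ (low 1), hlowW 1, φ (low l), hlowW l, ?_, ?_, ?_⟩, φ (up 1), hupA 1, φ d, hdrange,
      ?_, ?_⟩
    · exact fun e => one_ne_zero (hlowinj _ _ (e.trans (φ.map_one.symm.trans hone.2)))
    · exact fun e => hl0 (hlowinj _ _ (e.trans (φ.map_one.symm.trans hone.2)))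
    · exact fun e => hl2 (by rw [← hlowinj _ _ e, one_mul])
    · exact CfsgLib.Trans3.RankOne.eq_of_mem_inter hS.1 hA ⟨W, hW, hAW⟩
        (hS.1.conj_mem A hA _) (hupA (l * l)) hne
        (hd1 ▸ CfsgLib.Trans3.RankOne.conj_mem_conjBy (hupA 1))
    · rw [hd1]; exact fun e => hl2 (hupinj _ _ e)
  · push Not at hall
    obtain ⟨A', hA', a', ha', hord⟩ := hall
    obtain ⟨g, rfl⟩ := hS.2.2 A' hA' A hA
    have hpow : ∀ k, 0 < k → k ≤ 3 → (g * a' * g⁻¹) ^ k ≠ 1 := by
      intro k hk0 hk3 h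
      rw [conj_pow, mul_inv_eq_one, mul_eq_left] at h
      have h1 := orderOf_dvd_of_pow_eq_one h
      have h2 := hord (orderOf_pos_iff.2 (isOfFinOrder_iff_pow_eq_one.2 ⟨k, hk0, h⟩))
      have := Nat.le_of_dvd hk0 h1
      omega
    have ha : g * a' * g⁻¹ ∈ Cfsg.conjBy A' g := CfsgLib.Trans3.RankOne.conj_mem_conjBy ha'
    generalize g * a' * g⁻¹ = a at ha hpow
    have ha1 : a ≠ 1 := by simpa using hpow 1 one_pos (by norm_num)
    have ha2 : a ^ 2 ≠ 1 := hpow 2 two_pos (by norm_num)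
    obtain ⟨b, hp⟩ := CfsgLib.Trans3.RankOne.exists_isPartner hAW ha ha1
    obtain ⟨y, hy⟩ := CfsgLib.Trans3.RankOne.exists_isPartner hAW (pow_mem ha 2) ha2
    have hb2 : b * b ≠ 1 := fun e => ha2 (hp.symm.pow_eq_one hdata.symm (by rw [pow_two]; exact e))
    obtain ⟨hs1, he1⟩ := CfsgLib.Trans3.RankOne.SpecialData.swap hdata hp
    obtain ⟨hs2, he2⟩ := CfsgLib.Trans3.RankOne.SpecialData.swap hdata hy
    refine ⟨⟨b, hp.2.2.1, b⁻¹, inv_mem hp.2.2.1, hp.2.2.2.1, inv_ne_one.2 hp.2.2.2.1,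
      fun e => hb2 (mul_eq_one_iff_eq_inv.2 e)⟩, a, ha,
      ((a ^ 2)⁻¹ * y)⁻¹ * (a⁻¹ * b), ?_, ?_, fun e => ?_⟩
    · exact mul_mem (inv_mem (mul_mem (Subgroup.mem_sup_left (inv_mem (pow_mem ha 2)))
        (Subgroup.mem_sup_right hy.2.2.1))) (mul_mem (Subgroup.mem_sup_left (inv_mem ha))
        (Subgroup.mem_sup_right hp.2.2.1))
    · rw [← CfsgLib.Trans3.RankOne.conjBy_conjBy, hs1]
      conv_lhs => rw [← hs2]
      rw [CfsgLib.Trans3.RankOne.conjBy_conjBy, inv_mul_cancel, CfsgLib.Trans3.RankOne.conjBy_one]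
    · generalize a⁻¹ * b = n₁ at he1 e
      generalize (a ^ 2)⁻¹ * y = n₂ at he2 e
      have e1 : n₂ * a * n₂⁻¹ = b⁻¹ := by
        rw [← he1]
        calc n₂ * a * n₂⁻¹ = n₂ * (n₂⁻¹ * n₁ * a * (n₂⁻¹ * n₁)⁻¹) * n₂⁻¹ := by rw [e]
          _ = n₁ * a * n₁⁻¹ := by group
      have e2 : y = b ^ 2 := by
        rw [← conj_pow, e1, inv_pow, inv_inj] at he2
        exact he2.symm
      have e3 := CfsgLib.Trans3.RankOne.pow_partner hdata hp hy
      rw [e2, ← pow_mul, show 2 * 2 = 3 + 1 from rfl, pow_succ, mul_eq_right] at e3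
      exact hpow 3 (by norm_num) le_rfl (hp.symm.pow_eq_one hdata.symm e3)

end Cfsg.Agent.S5039
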