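import Cfsg.Statements.S5045
import Cfsg.Agent.Lib.Trans3.RootInvolTwo

set_option autoImplicit false
open Cfsg

namespace Cfsg.Agent.S5045

/-- Let G be a finite group generated by a set D of root involutions, and W the set of members of D whose product with every other member of D has even order or is trivial (the isolated vertices of the odd-order-product graph on D). Then W is conjugation-invariant and generates a normal 2-subgroup of G meeting D in exactly W; the commutator of two members of D lying in different connected components of that graph, each with more than one member, lies in the subgroup generated by W; and for a in such a component, every member of D commuting with a, different from a and with product with a in D, lies in that component or in W. -/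
theorem result {G : Type*} [Group G] [Finite G] {D : Set G} (hD : Cfsg.IsRootInvolutionSet D) :
    (∀ w ∈ {w | Cfsg.IsIsolatedElem (Cfsg.OddAdj D) D w}, ∀ g : G, g * w * g⁻¹ ∈ {w | Cfsg.IsIsolatedElem (Cfsg.OddAdj D) D w}) ∧
    (Subgroup.closure {w | Cfsg.IsIsolatedElem (Cfsg.OddAdj D) D w}).Normal ∧
    IsPGroup 2 ↥(Subgroup.closure {w | Cfsg.IsIsolatedElem (Cfsg.OddAdj D) D w}) ∧
    (Subgroup.closure {w | Cfsg.IsIsolatedElem (Cfsg.OddAdj D) D w} : Set G) ∩ D = {w | Cfsg.IsIsolatedElem (Cfsg.OddAdj D) D w} ∧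
    (∀ a ∈ D, ∀ b ∈ D, (∃ a' ∈ Cfsg.elemComponentOf (Cfsg.OddAdj D) D a, a' ≠ a) →
      (∃ b' ∈ Cfsg.elemComponentOf (Cfsg.OddAdj D) D b, b' ≠ b) →
      Cfsg.elemComponentOf (Cfsg.OddAdj D) D a ≠ Cfsg.elemComponentOf (Cfsg.OddAdj D) D b →
        a * b * a⁻¹ * b⁻¹ ∈ Subgroup.closure {w | Cfsg.IsIsolatedElem (Cfsg.OddAdj D) D w}) ∧
    (∀ a ∈ D, (∃ a' ∈ Cfsg.elemComponentOf (Cfsg.OddAdj D) D a, a' ≠ a) →
      Cfsg.productPartners D a ⊆ Cfsg.elemComponentOf (Cfsg.OddAdj D) D a ∪ {w | Cfsg.IsIsolatedElem (Cfsg.OddAdj D) D w}) := by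
  obtain ⟨hN, hP⟩ := CfsgLib.Trans3.RootInvol.isolated_two_group hD
  haveI := hN
  have key : ∀ a e : G, CfsgLib.Trans3.RootInvol.Pair D a e →
      ¬ Cfsg.IsIsolatedElem (Cfsg.OddAdj D) D a → ¬ Cfsg.IsIsolatedElem (Cfsg.OddAdj D) D e →
      e ∈ Cfsg.elemComponentOf (Cfsg.OddAdj D) D a := by
    intro a e h hna hne
    have sym := fun {p q : G} (hpq : Cfsg.OddAdj D p q) => CfsgLib.Trans3.RootInvol.adj_symm hD hpq
    have hp : ∀ {p : G}, p ∈ D → ¬ Cfsg.IsIsolatedElem (Cfsg.OddAdj D) D p →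
        ∃ x, Cfsg.OddAdj D p x := by
      intro p hpD hn
      by_contra! hall
      exact hn ⟨hpD, fun b => ⟨hall b, fun hb => hall b (sym hb)⟩⟩
    obtain ⟨x, hx⟩ := hp h.left hna
    refine ⟨h.right, ?_⟩
    rcases h.adj_or hD hx with he | hf
    · exact (Relation.ReflTransGen.single hx).tail (sym he)
    obtain ⟨y, hy⟩ := hp h.right hne
    rcases h.symm.adj_or hD hy with hy' | hy'
    · exact (Relation.ReflTransGen.single hy').tail (sym hy)
    · rw [← h.comm] at hy'
      exact (((Relation.ReflTransGen.single hx).tail (sym hf)).tail hy').tail (sym hy)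
  have hiso : ∀ {a : G}, (∃ a' ∈ Cfsg.elemComponentOf (Cfsg.OddAdj D) D a, a' ≠ a) →
      ¬ Cfsg.IsIsolatedElem (Cfsg.OddAdj D) D a := by
    rintro a ⟨a', ⟨-, hr⟩, hne⟩ ha
    rcases hr.cases_head with rfl | ⟨b, hb, -⟩
    exacts [hne rfl, (ha.2 b).1 hb]
  refine ⟨fun w hw g => CfsgLib.Trans3.RootInvol.isolated_conj hD hw g, hN, hP, ?_, ?_, ?_⟩
  · ext d
    refine ⟨fun hd => ⟨hd.2, fun b => ?_⟩, fun hd => ⟨Subgroup.subset_closure hd, hd.1⟩⟩
    have h1 : ∀ b, ¬ Cfsg.OddAdj D d b := fun b =>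
      CfsgLib.Trans3.RootInvol.not_adj_of_mem_normal hD hP hd.1
    exact ⟨h1 b, fun h => h1 b (CfsgLib.Trans3.RootInvol.adj_symm hD h)⟩
  · intro a ha b hb hna hnb hne
    by_cases hcomm : a * b = b * a
    · rw [hcomm, mul_assoc, mul_assoc, mul_inv_cancel_left, mul_inv_cancel]
      exact one_mem _
    have hnadj : ¬ Cfsg.OddAdj D a b := by
      intro h
      refine hne (Set.ext fun y => ⟨fun hy => ⟨hy.1, ?_⟩, fun hy => ⟨hy.1, ?_⟩⟩)
      · exact Relation.ReflTransGen.head (CfsgLib.Trans3.RootInvol.adj_symm hD h) hy.2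
      · exact Relation.ReflTransGen.head h hy.2
    have hnadj' : ¬ Cfsg.OddAdj D b a :=
      fun h => hnadj (CfsgLib.Trans3.RootInvol.adj_symm hD h)
    obtain ⟨h1, e1, -, -⟩ := CfsgLib.Trans3.RootInvol.four hD ha hb hnadj hcomm
    obtain ⟨h2, e2, -, -⟩ := CfsgLib.Trans3.RootInvol.four hD hb ha hnadj' (Ne.symm hcomm)
    have hc : a * b * a⁻¹ * b⁻¹ = (a * b) ^ 2 := by
      rw [CfsgLib.Trans3.RootInvol.inv_eq hD ha, CfsgLib.Trans3.RootInvol.inv_eq hD hb, pow_two]
      group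
    have hu : (a * b) ^ 2 ∈ D := e1 ▸ h1.prod
    rw [hc]
    by_contra hW
    have hnu : ¬ Cfsg.IsIsolatedElem (Cfsg.OddAdj D) D ((a * b) ^ 2) :=
      fun h => hW (Subgroup.subset_closure h)
    have p1 : CfsgLib.Trans3.RootInvol.Pair D a ((a * b) ^ 2) := e1 ▸ h1.third hD
    have p2 : CfsgLib.Trans3.RootInvol.Pair D b ((b * a) ^ 2) := e2 ▸ h2.third hD
    have hinv : (b * a) ^ 2 = (a * b) ^ 2 := by
      rw [← inv_inj, ← inv_pow, mul_inv_rev, CfsgLib.Trans3.RootInvol.inv_eq hD ha,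
        CfsgLib.Trans3.RootInvol.inv_eq hD hb, CfsgLib.Trans3.RootInvol.inv_eq hD hu]
    rw [hinv] at p2
    have r1 := (key _ _ p1 (hiso hna) hnu).2
    have r2 := (key _ _ p2.symm hnu (hiso hnb)).2
    have hsymm : ∀ {p q : G}, Relation.ReflTransGen (Cfsg.OddAdj D) p q →
        Relation.ReflTransGen (Cfsg.OddAdj D) q p := by
      intro p q h
      induction h with
      | refl => exact Relation.ReflTransGen.refl
      | tail _ h2 ih => exact Relation.ReflTransGen.head (CfsgLib.Trans3.RootInvol.adj_symm hD h2) ih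
    exact hne (Set.ext fun y => ⟨fun hy => ⟨hy.1, (hsymm (r1.trans r2)).trans hy.2⟩,
      fun hy => ⟨hy.1, (r1.trans r2).trans hy.2⟩⟩)
  · intro a ha hna e he
    by_cases hne : Cfsg.IsIsolatedElem (Cfsg.OddAdj D) D e
    · exact Or.inr hne
    · exact Or.inl (key a e ⟨ha, he.1.1, he.1.2.1 ▸ he.2, he.1.2.1.symm⟩ (hiso hna) hne)

end Cfsg.Agent.S5045
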