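import Cfsg.Statements.S5046
import Cfsg.Agent.Lib.Trans3.RootInvolClass

set_option autoImplicit false
open Cfsg

namespace Cfsg.Agent.S5046

/-- Let G be a finite group generated by a set D of root involutions whose odd-order-product graph is connected, and d ∈ D. Then the members e of D with the same commuting members as d are exactly those for which the union of the commuting members of d and the members whose product with d has order 4 equals the corresponding union for e. -/
theorem result {G : Type*} [Group G] [Finite G] {D : Set G} (hD : Cfsg.IsRootInvolutionSet D)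
    (hc : Cfsg.IsConnectedSet (Cfsg.OddAdj D) D) {d : G} (hd : d ∈ D) :
    Cfsg.sameCommutingClass D d =
      {e | e ∈ D ∧ Cfsg.commutingMembers D d ∪ Cfsg.fourPartners D d = Cfsg.commutingMembers D e ∪ Cfsg.fourPartners D e} := by
  have hcompl : ∀ {a : G}, a ∈ D → ∀ y ∈ D,
      (y ∈ Cfsg.commutingMembers D a ∪ Cfsg.fourPartners D a ↔ y ∉ Cfsg.oddPartners D a) := by
    intro a ha y hy
    constructor
    · rintro (⟨-, h⟩ | ⟨-, h⟩) hodd
      · exact CfsgLib.Trans3.RootInvol.not_adj_of_comm hD ha hy h.symm
          ((CfsgLib.Trans3.RootInvol.mem_oddPartners hD ha).1 hodd)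
      · have := hodd.2.2
        rw [h] at this
        exact absurd this (by decide)
    · intro hn
      rcases hD.pair a ha y hy with h | h | h
      · exact Or.inl ⟨hy, h.symm⟩
      · rcases eq_or_ne y a with rfl | hne
        · exact Or.inl ⟨hy, rfl⟩
        · exact absurd ⟨hy, hne, h⟩ hn
      · exact Or.inr ⟨hy, h.1⟩
  ext e
  constructor
  · rintro ⟨he, h⟩
    refine ⟨he, Set.ext fun y => ?_⟩
    have h1 := CfsgLib.Trans3.RootInvol.oddPartners_eq hD hd he h
    constructor
    · intro hy
      have hyD : y ∈ D := by rcases hy with hy | hy <;> exact hy.1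
      exact (hcompl he y hyD).2 (h1 ▸ (hcompl hd y hyD).1 hy)
    · intro hy
      have hyD : y ∈ D := by rcases hy with hy | hy <;> exact hy.1
      exact (hcompl hd y hyD).2 (h1 ▸ (hcompl he y hyD).1 hy)
  · rintro ⟨he, h⟩
    refine ⟨he, CfsgLib.Trans3.RootInvol.commutingMembers_eq hD hc hd he (Set.ext fun y => ?_)⟩
    constructor
    · intro hy
      by_contra hn
      exact (hcompl hd y hy.1).1 (h ▸ (hcompl he y hy.1).2 hn) hy
    · intro hy
      by_contra hn
      exact (hcompl he y hy.1).1 (h ▸ (hcompl hd y hy.1).2 hn) hy

end Cfsg.Agent.S5046
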