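import Cfsg.Statements.S5047
import Cfsg.Agent.Lib.Trans3.RootInvolClass

set_option autoImplicit false
open Cfsg

namespace Cfsg.Agent.S5047

/-- Let G be a finite group generated by a set D of root involutions whose odd-order-product graph is connected, a ∈ D, and b a member of D different from a, commuting with a, with ab ∈ D, but not having the same commuting members as a. Then some member x of D with bx of order 4 has ax of order 3. -/
theorem result {G : Type*} [Group G] [Finite G] {D : Set G} (hD : Cfsg.IsRootInvolutionSet D)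
    (hc : Cfsg.IsConnectedSet (Cfsg.OddAdj D) D) {a b : G} (ha : a ∈ D) (hb : b ∈ Cfsg.productPartners D a)
    (hbE : b ∉ Cfsg.sameCommutingClass D a) : ∃ x ∈ Cfsg.fourPartners D b, orderOf (a * x) = 3 := by
  obtain ⟨⟨hbD, hcomm, hne⟩, hprod⟩ := hb
  have hpair : CfsgLib.Trans3.RootInvol.Pair D a b := ⟨ha, hbD, hcomm ▸ hprod, hcomm.symm⟩
  have witness : ∀ {p r : G}, p ∈ D → r ∈ D →
      Cfsg.commutingMembers D p ≠ Cfsg.commutingMembers D r →
      ∃ x, Cfsg.OddAdj D p x ∧ ¬ Cfsg.OddAdj D r x := by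
    intro p r hp hr hpr
    by_contra! hall
    refine hpr (CfsgLib.Trans3.RootInvol.commutingMembers_eq hD hc hp hr ?_)
    exact CfsgLib.Trans3.RootInvol.oddPartners_eq_of_subset hD hc hr hp fun y hy =>
      (CfsgLib.Trans3.RootInvol.mem_oddPartners hD hr).2
        (hall y ((CfsgLib.Trans3.RootInvol.mem_oddPartners hD hp).1 hy))
  obtain ⟨x0, hx0, hx0'⟩ := witness ha hbD fun h => hbE ⟨hbD, h⟩
  obtain ⟨z, hz, hza, hzne, hzsq, hzb⟩ :=
    CfsgLib.Trans3.RootInvol.exists_four_partner hD hpair hx0 hx0'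
  have sq := fun {p : G} (hp : p ∈ D) => CfsgLib.Trans3.RootInvol.mul_self hD hp
  have conj : ∀ {p r : G}, p ∈ D → r ∈ D → r * p * r ∈ D :=
    fun hp hr => CfsgLib.Trans3.RootInvol.conj_self hD hp _ hr
  have haza : a * z * a = z * b := by
    rw [← hzsq, pow_two]
    calc a * z * a = (z * z) * (a * z * a) := by rw [sq hz, one_mul]
      _ = _ := by group
  have hpair2 : CfsgLib.Trans3.RootInvol.Pair D b z :=
    ⟨hbD, hz, by rw [← hzb, ← haza]; exact conj hz ha, hzb.symm⟩
  obtain ⟨x1, hx1, hx1'⟩ := witness hbD hz fun h => hzne (by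
    have h1 : a ∈ Cfsg.commutingMembers D b := ⟨ha, hcomm.symm⟩
    rw [h] at h1
    exact h1.2.symm)
  obtain ⟨y, hy, hyb, hyne, hysq, hyz⟩ :=
    CfsgLib.Trans3.RootInvol.exists_four_partner hD hpair2 hx1 hx1'
  have hnadj : ¬ Cfsg.OddAdj D b y := fun h => hyb (CfsgLib.Trans3.RootInvol.adj_symm hD h)
  refine ⟨y, ⟨hy, (CfsgLib.Trans3.RootInvol.adj_or_comm_or_four hD hbD hy hnadj (Ne.symm hyne)).1⟩,
    ?_⟩
  have hyby : y * b * y = z * b := by
    rw [← hysq, pow_two]
    calc y * b * y = y * b * y * (b * b) := by rw [sq hbD, mul_one]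
      _ = _ := by group
  have hyzy : y * z * y = z := by rw [hyz, mul_assoc, sq hy, mul_one]
  have haba : a * b * a = b := by rw [← hcomm, mul_assoc, sq ha, mul_one]
  obtain ⟨φ, hφ⟩ : ∃ φ : G ≃* G, φ = MulAut.conj (a * y) := ⟨_, rfl⟩
  have hφe : ∀ g, φ g = a * (y * g * y) * a := by
    intro g
    rw [hφ, MulAut.conj_apply, mul_inv_rev, CfsgLib.Trans3.RootInvol.inv_eq hD ha,
      CfsgLib.Trans3.RootInvol.inv_eq hD hy]
    group
  have f1 : φ b = z := by
    rw [hφe, hyby]
    calc a * (z * b) * a = (a * z * a) * (a * b * a) := by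
          simp only [mul_assoc]; rw [← mul_assoc a a, sq ha, one_mul]
      _ = z := by rw [haza, haba, mul_assoc, sq hbD, mul_one]
  have f2 : φ z = z * b := by rw [hφe, hyzy, haza]
  have f3 : φ (z * b) = b := by
    rw [map_mul, f1, f2, mul_assoc, ← hzb, ← mul_assoc, sq hz, one_mul]
  have hzbne : z ≠ b := (CfsgLib.Trans3.RootInvol.Pair.ne hD hpair2).symm
  have happ : ∀ (k : ℕ) (g : G), (a * y) ^ k * g * ((a * y) ^ k)⁻¹ = φ^[k] g := by
    intro k
    induction k with
    | zero => intro g; simp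
    | succ k ih =>
        intro g
        rw [Function.iterate_succ_apply, ← ih, hφ, MulAut.conj_apply, pow_succ, mul_inv_rev]
        group
  have h4 : (a * y) ^ 4 ≠ 1 := by
    intro h
    have h1 := happ 4 b
    rw [h, one_mul, inv_one, mul_one, Function.iterate_succ_apply, Function.iterate_succ_apply,
      Function.iterate_succ_apply, Function.iterate_succ_apply, Function.iterate_zero_apply, f1, f2,
      f3, f1] at h1
    exact hzbne h1.symm
  have hadj : Cfsg.OddAdj D a y := by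
    by_contra h
    exact h4 (CfsgLib.Trans3.RootInvol.pow_four_of_not_adj hD ha hy h)
  obtain ⟨r, hr⟩ : ∃ r, a * y = r := ⟨_, rfl⟩
  have hfix : r ^ 3 * z * (r ^ 3)⁻¹ = z := by
    rw [← hr, happ 3 z, Function.iterate_succ_apply, Function.iterate_succ_apply,
      Function.iterate_succ_apply, Function.iterate_zero_apply, f2, f3, f1]
  have hinvert : y * r * y⁻¹ = r⁻¹ := by
    rw [← hr, mul_inv_rev, CfsgLib.Trans3.RootInvol.inv_eq hD ha,
      CfsgLib.Trans3.RootInvol.inv_eq hD hy]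
    simp only [mul_assoc, sq hy, mul_one]
  have hq : r ^ 3 * y * (r ^ 3)⁻¹ = r ^ 6 * y := by
    have h1 : y * (r ^ 3)⁻¹ = r ^ 3 * y := by
      have h2 : y * (r ^ 3)⁻¹ * y⁻¹ = r ^ 3 := by
        rw [← conj_inv, ← conj_pow, hinvert, inv_pow, inv_inv]
      calc y * (r ^ 3)⁻¹ = y * (r ^ 3)⁻¹ * y⁻¹ * y := by group
        _ = _ := by rw [h2]
    rw [mul_assoc, h1, ← mul_assoc, ← pow_add]
  have hr6 : r ^ 6 = 1 := by
    by_contra h6
    have hqD : r ^ 6 * y ∈ D := hq ▸ hD.conj_mem y hy (r ^ 3)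
    have hadjq : Cfsg.OddAdj D y (r ^ 6 * y) := by
      refine CfsgLib.Trans3.RootInvol.adj_symm hD ⟨hqD, hy, fun h => h6 (by simpa using h), ?_⟩
      rw [mul_assoc, sq hy, mul_one]
      exact (hr ▸ hadj.2.2.2 : Odd (orderOf r)).of_dvd_nat (orderOf_pow_dvd 6)
    have hyz' : CfsgLib.Trans3.RootInvol.Pair D y z := by
      refine ⟨hy, hz, ?_, hyz⟩
      have e : y * z = b * y * b := by
        rw [← hysq, pow_two]
        calc y * (y * b * (y * b)) = (y * y) * b * y * b := by group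
          _ = _ := by rw [sq hy, one_mul]
      rw [e]; exact conj hy hbD
    refine hyz'.not_comm_partner hD hadjq ?_
    rw [← hq]
    have h5 : (r ^ 3)⁻¹ * z * r ^ 3 = z := by
      conv_lhs => rw [← hfix]
      group
    calc z * (r ^ 3 * y * (r ^ 3)⁻¹) = r ^ 3 * (((r ^ 3)⁻¹ * z * r ^ 3) * y) * (r ^ 3)⁻¹ := by group
      _ = r ^ 3 * (y * ((r ^ 3)⁻¹ * z * r ^ 3)) * (r ^ 3)⁻¹ := by rw [h5, hyz]
      _ = _ := by group
  have hodd : Odd (orderOf r) := hr ▸ hadj.2.2.2
  have hdvd : orderOf r ∣ 3 := by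
    have h1 : orderOf r ∣ 2 * 3 := orderOf_dvd_of_pow_eq_one hr6
    exact (Nat.coprime_two_right.2 hodd).dvd_of_dvd_mul_left h1
  rw [hr]
  refine ((Nat.dvd_prime Nat.prime_three).1 hdvd).resolve_left fun h1 => h4 ?_
  rw [hr, orderOf_eq_one_iff.1 h1, one_pow]

end Cfsg.Agent.S5047
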