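import Cfsg.Statements.S5049
import Cfsg.Agent.Lib.Solvable.PCore

set_option autoImplicit false
open Cfsg
open scoped commutatorElement

namespace Cfsg.Agent.S5049

/-- Let G be a finite group generated by a set D of odd transpositions (root involutions with no product of order 4), Q = O₂(G), and for a ∈ D let Q_a be the commutator subgroup of Q with a. Then every member of D commuting with a centralizes Q_a; and for b ∈ D with ab of odd order greater than 1, the centralizer of ab in Q is the intersection of the centralizers of a and b in Q. -/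
theorem result {G : Type*} [Group G] [Finite G] {D : Set G} (hD : Cfsg.IsOddTranspositionSet D) {a : G} (ha : a ∈ D) :
    (∀ e ∈ Cfsg.commutingMembers D a, ∀ q ∈ ⁅Cfsg.pCore 2 G, Subgroup.zpowers a⁆, e * q = q * e) ∧
    (∀ b ∈ Cfsg.oddPartners D a,
      Cfsg.pCore 2 G ⊓ Subgroup.centralizer {a * b} = Cfsg.pCore 2 G ⊓ Subgroup.centralizer {a} ⊓ Subgroup.centralizer {b}) := by
  obtain ⟨hR, h4⟩ := hD
  have hinv : ∀ x ∈ D, x * x = 1 := fun x hx => by
    rw [← pow_two, ← hR.orderOf_eq x hx, pow_orderOf_eq_one]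
  have hQ : IsPGroup 2 ↥(Cfsg.pCore 2 G) := CfsgLib.Solvable.pCore_isPGroup 2
  have hQn : (Cfsg.pCore 2 G).Normal := CfsgLib.Solvable.pCore_normal 2 G
  have odd_two : ∀ z : G, (∃ n : ℕ, z ^ 2 ^ n = 1) → Odd (orderOf z) → z = 1 := by
    rintro z ⟨n, hn⟩ hz
    obtain ⟨m, -, hm⟩ := (Nat.dvd_prime_pow Nat.prime_two).1 (orderOf_dvd_of_pow_eq_one hn)
    rcases m with - | m
    · exact orderOf_eq_one_iff.1 hm
    · exact absurd (hm ▸ hz) (by simp [parity_simps])
  have hQ2 : ∀ z ∈ Cfsg.pCore 2 G, ∃ n : ℕ, z ^ 2 ^ n = 1 := fun z hz => by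
    obtain ⟨n, hn⟩ := hQ ⟨z, hz⟩
    exact ⟨n, congrArg Subtype.val hn⟩
  have hz : ∀ q ∈ Cfsg.pCore 2 G, q * a * q⁻¹ * a⁻¹ ∈ Cfsg.pCore 2 G := fun q hq => by
    have := mul_mem hq (hQn.conj_mem _ (inv_mem hq) a)
    simpa [mul_assoc] using this
  have hainv : a⁻¹ = a := inv_eq_of_mul_eq_one_right (hinv a ha)
  have hpair : ∀ e ∈ Cfsg.commutingMembers D a, ∀ q ∈ Cfsg.pCore 2 G,
      e * (q * a * q⁻¹) = q * a * q⁻¹ * e := by
    rintro e ⟨he, hea⟩ q hq
    rcases hR.pair e he _ (hR.conj_mem a ha q) with h | h | ⟨h, -⟩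
    · exact h
    · have hsq : (e * (q * a * q⁻¹)) ^ 2 ∈ Cfsg.pCore 2 G := by
        have h1 : e * (q * a * q⁻¹) = e * (q * a * q⁻¹ * a⁻¹) * e⁻¹ * (e * a) := by group
        have h2 : (e * a) * (e * a) = 1 := by
          rw [mul_assoc, ← mul_assoc a e a, ← hea, mul_assoc, hinv a ha, mul_one, hinv e he]
        generalize hu : e * (q * a * q⁻¹ * a⁻¹) * e⁻¹ = u at h1
        have huQ : u ∈ Cfsg.pCore 2 G := hu ▸ hQn.conj_mem _ (hz q hq) e
        rw [h1, pow_two, show u * (e * a) * (u * (e * a))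
          = u * ((e * a) * u * (e * a)⁻¹) * ((e * a) * (e * a)) by group, h2, mul_one]
        exact mul_mem huQ (hQn.conj_mem u huQ _)
      obtain ⟨n, hn⟩ := hQ2 _ hsq
      have h3 : e * (q * a * q⁻¹) = 1 :=
        odd_two _ ⟨n + 1, by rw [pow_succ', pow_mul]; exact hn⟩ h
      have h5 : q * a * q⁻¹ = e := by
        rw [← inv_eq_of_mul_eq_one_right h3]; exact inv_eq_of_mul_eq_one_right (hinv e he)
      rw [h5]
    · exact absurd h (h4 e he _ (hR.conj_mem a ha q))
  constructor
  · intro e he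
    suffices h : ⁅Cfsg.pCore 2 G, Subgroup.zpowers a⁆ ≤ Subgroup.centralizer {e} from
      fun q hq => Subgroup.mem_centralizer_iff.1 (h hq) e rfl
    rw [Subgroup.commutator_le]
    intro q hq x hx
    rw [Subgroup.mem_centralizer_iff]
    rintro y rfl
    obtain ⟨i, rfl⟩ := Subgroup.mem_zpowers_iff.1 hx
    have h1 : Commute y (q * a * q⁻¹) := hpair y he q hq
    have h2 : Commute y a := he.2
    rw [commutatorElement_def, ← conj_zpow]
    exact ((h1.zpow_right i).mul_right (h2.zpow_right i).inv_right).eq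
  · rintro b ⟨hb, hba, hodd⟩
    ext q
    simp only [Subgroup.mem_inf, Subgroup.mem_centralizer_iff, Set.mem_singleton_iff, forall_eq]
    constructor
    swap
    · rintro ⟨⟨hq, h1⟩, h2⟩
      exact ⟨hq, (Commute.mul_left (h1 : Commute a q) (h2 : Commute b q)).eq⟩
    rintro ⟨hq, hqab⟩
    obtain ⟨z, hzdef⟩ : ∃ z, q * a * q⁻¹ * a⁻¹ = z := ⟨_, rfl⟩
    have hzQ : z ∈ Cfsg.pCore 2 G := hzdef ▸ hz q hq
    have hqa : q * a * q⁻¹ = z * a := by rw [← hzdef]; group
    have hbinv : b⁻¹ = b := inv_eq_of_mul_eq_one_right (hinv b hb)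
    have hzc : z * a = a * z := by
      have h1 := hpair a ⟨ha, rfl⟩ q hq
      rw [hqa] at h1
      exact mul_right_cancel (b := a) (by rw [← h1]; group)
    have hqb : q * b * q⁻¹ = z * b := by
      have h1 : (q * a * q⁻¹) * (q * b * q⁻¹) = a * b := by
        calc _ = q * (a * b) * q⁻¹ := by group
          _ = a * b := by rw [← hqab, mul_assoc, mul_inv_cancel, mul_one]
      have hz2 : z * z = 1 := by
        have h2 := hinv _ (hR.conj_mem a ha q)
        rw [hqa, mul_assoc, ← mul_assoc a z a, ← hzc, mul_assoc, hinv a ha, mul_one] at h2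
        exact h2
      rw [hqa, hzc, mul_assoc] at h1
      conv_rhs => rw [← mul_left_cancel h1]
      rw [← mul_assoc, hz2, one_mul]
    have hzb : z * b = b * z := by
      have h3 := hinv _ (hR.conj_mem b hb q)
      have hz2 : z * z = 1 := by
        have h2 := hinv _ (hR.conj_mem a ha q)
        rw [hqa, mul_assoc, ← mul_assoc a z a, ← hzc, mul_assoc, hinv a ha, mul_one] at h2
        exact h2
      rw [hqb] at h3
      have h5 := inv_eq_of_mul_eq_one_right h3
      rw [mul_inv_rev, hbinv, inv_eq_of_mul_eq_one_right hz2] at h5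
      exact h5.symm
    have hz1 : z = 1 := by
      have hc : Commute z (a * b) := Commute.mul_right (hzc : Commute z a) hzb
      have hab : a * (q * b * q⁻¹) = z * (a * b) := by rw [hqb, ← mul_assoc, ← hzc, mul_assoc]
      rcases hR.pair a ha _ (hR.conj_mem b hb q) with h | h | ⟨h, -⟩
      · exfalso
        have h1 : (z * (a * b)) ^ 2 = 1 := by
          rw [← hab, pow_two]
          nth_rw 2 [h]
          rw [mul_assoc, ← mul_assoc (q * b * q⁻¹), hinv _ (hR.conj_mem b hb q), one_mul, hinv a ha]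
        have h2 : z ^ 2 = 1 := by
          rw [pow_two]
          have h3 := hinv _ (hR.conj_mem a ha q)
          rw [hqa, mul_assoc, ← mul_assoc a z a, ← hzc, mul_assoc, hinv a ha, mul_one] at h3
          exact h3
        rw [hc.mul_pow, h2, one_mul] at h1
        have h4 := odd_two _ ⟨1, h1⟩ hodd
        exact hba ((inv_eq_of_mul_eq_one_right h4).symm.trans hainv)
      · rw [hab] at h
        refine odd_two _ (hQ2 z hzQ) (h.of_dvd_nat ?_)
        apply orderOf_dvd_of_pow_eq_one
        have h1 : (z * (a * b)) ^ (orderOf (z * (a * b))) = 1 := pow_orderOf_eq_one _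
        obtain ⟨n, hn⟩ := hQ2 z hzQ
        have h2 : (a * b) ^ (orderOf (z * (a * b))) = z⁻¹ ^ (orderOf (z * (a * b))) := by
          rw [hc.mul_pow] at h1
          rw [inv_pow]
          exact eq_inv_of_mul_eq_one_right h1
        have hzo : z ^ (orderOf (z * (a * b))) = 1 := by
          refine odd_two _ ⟨n, by rw [← pow_mul, mul_comm, pow_mul, hn, one_pow]⟩
            (hodd.of_dvd_nat ?_)
          rw [← orderOf_inv, ← inv_pow, ← h2]
          exact orderOf_pow_dvd _
        exact hzo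
      · exact absurd h (h4 a ha _ (hR.conj_mem b hb q))
    refine ⟨⟨hq, ?_⟩, ?_⟩
    · rw [hz1, one_mul] at hqa
      exact (mul_inv_eq_iff_eq_mul.1 hqa).symm
    · rw [hz1, one_mul] at hqb
      exact (mul_inv_eq_iff_eq_mul.1 hqb).symm

end Cfsg.Agent.S5049
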