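import Cfsg.Statements.S5057
import Cfsg.Agent.Lib.Trans3.BaerSuzuki


set_option autoImplicit false
open Cfsg

namespace Cfsg.Agent.S5057

/-- The involutions of the alternating group of degree 6 form a class of root involutions (a single conjugacy class of involutions generating the group, any two of which commute, have product of odd order, or have product of order 4 whose square is again an involution of the class), and the product of any two of them has order at most 5. -/
theorem result :
    Cfsg.IsRootInvolutionClass {g : ↥(alternatingGroup (Fin 6)) | orderOf g = 2} ∧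
    ∀ d ∈ {g : ↥(alternatingGroup (Fin 6)) | orderOf g = 2}, ∀ e ∈ {g : ↥(alternatingGroup (Fin 6)) | orderOf g = 2},
      orderOf (d * e) ≤ 5 := by
  have hall : ∀ p : Equiv.Perm (Fin 6), Equiv.Perm.sign p = 1 →
      p ^ 4 = 1 ∨ p ^ 3 = 1 ∨ p ^ 5 = 1 := by decide +kernel
  have hct : ∀ p : Equiv.Perm (Fin 6), p * p = 1 → Equiv.Perm.sign p = 1 → p ≠ 1 →
      p.cycleType = {2, 2} := by decide +kernel
  have hord : ∀ x : ↥(alternatingGroup (Fin 6)),
      orderOf x = 1 ∨ orderOf x = 2 ∨ orderOf x = 4 ∨ orderOf x = 3 ∨ orderOf x = 5 := by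
    intro x
    rcases hall x.1 x.2 with h | h | h
    · have := Nat.le_of_dvd (by norm_num) (orderOf_dvd_of_pow_eq_one h)
      have h4 := orderOf_dvd_of_pow_eq_one h
      rw [Subgroup.orderOf_coe] at this h4
      have := orderOf_pos x
      interval_cases h5 : orderOf x <;> simp_all
    · rcases (Nat.dvd_prime Nat.prime_three).1 (orderOf_dvd_of_pow_eq_one h) with h1 | h1 <;>
        rw [Subgroup.orderOf_coe] at h1 <;> simp [h1]
    · rcases (Nat.dvd_prime Nat.prime_five).1 (orderOf_dvd_of_pow_eq_one h) with h1 | h1 <;>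
        rw [Subgroup.orderOf_coe] at h1 <;> simp [h1]
  have hmul : ∀ d : ↥(alternatingGroup (Fin 6)), orderOf d = 2 → d * d = 1 := fun d hd => by
    rw [← pow_two, ← hd, pow_orderOf_eq_one]
  have hsimple : IsSimpleGroup ↥(alternatingGroup (Fin 6)) :=
    alternatingGroup.isSimpleGroup (by simp)
  obtain ⟨t, ht⟩ : ∃ t : ↥(alternatingGroup (Fin 6)), orderOf t = 2 := by
    refine ⟨⟨Equiv.swap 0 1 * Equiv.swap 2 3, by simp [Equiv.Perm.mem_alternatingGroup]⟩, ?_⟩
    rw [← Subgroup.orderOf_coe]
    exact orderOf_eq_prime (p := 2) (by decide) (by decide)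
  have hconjmem : ∀ d : ↥(alternatingGroup (Fin 6)), orderOf d = 2 → ∀ g,
      orderOf (g * d * g⁻¹) = 2 := fun d hd g => by
    rw [← hd]
    exact (orderOf_injective (MulAut.conj g).toMonoidHom (MulAut.conj g).injective d)
  refine ⟨⟨⟨fun d hd => hd, ?_, hconjmem, ?_⟩, ⟨t, ht⟩, ?_⟩, ?_⟩
  · have hn : (Subgroup.closure {g : ↥(alternatingGroup (Fin 6)) | orderOf g = 2}).Normal :=
      CfsgLib.Trans3.closure_normal_of_conj_mem fun g x hx => hconjmem x hx g
    exact hn.eq_bot_or_eq_top.resolve_left fun h => by
      have : t = 1 := Subgroup.mem_bot.1 (h ▸ Subgroup.subset_closure ht)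
      rw [this, orderOf_one] at ht
      omega
  · intro a ha b hb
    rcases hord (a * b) with h | h | h | h | h
    · exact Or.inr (Or.inl (h ▸ odd_one))
    · left
      have h2 : (a * b) * (a * b) = 1 := hmul _ h
      calc a * b = a * ((a * b) * (a * b)) * b := by rw [h2, mul_one]
        _ = (a * a) * b * a * (b * b) := by group
        _ = b * a := by rw [hmul a ha, hmul b hb, one_mul, mul_one]
    · refine Or.inr (Or.inr ⟨h, ?_⟩)
      show orderOf ((a * b) ^ 2) = 2
      rw [orderOf_pow' _ (by norm_num), h]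
      decide
    · exact Or.inr (Or.inl (h ▸ by decide))
    · exact Or.inr (Or.inl (h ▸ by decide))
  · intro a ha b hb
    have hc : ∀ x : ↥(alternatingGroup (Fin 6)), orderOf x = 2 → x.1.cycleType = {2, 2} := by
      intro x hx
      refine hct x.1 (congrArg Subtype.val (hmul x hx)) x.2 fun h => ?_
      rw [show x = 1 from Subtype.ext h, orderOf_one] at hx
      omega
    have hsupp : a.1.support.card + 2 ≤ Fintype.card (Fin 6) := by
      rw [← Equiv.Perm.sum_cycleType, hc a ha]; decide
    obtain ⟨g, hg⟩ := isConj_iff.1 (alternatingGroup.isConj_of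
      (Equiv.Perm.isConj_iff_cycleType_eq.2 ((hc a ha).trans (hc b hb).symm)) hsupp)
    exact ⟨g, hg.symm⟩
  · intro d _ e _
    rcases hord (d * e) with h | h | h | h | h <;> omega

end Cfsg.Agent.S5057
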