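import Cfsg.Statements.S5059


set_option autoImplicit false
universe u
open Cfsg

namespace Cfsg.Agent.S5059

/-- Let k be a field of characteristic not 2 with k not of order 3, M a finite-dimensional k-vector space and G ≤ GL(M) such that (G, M) is a quadratic pair (M irreducible for G, and G generated by its quadratically acting elements σ whose scalar family 1 + c(σ − 1), c ∈ k, lies in G). Write 𝒬_d for the quadratic elements of G of minimal commutator rank, E(σ) for the subgroup generated by the members of 𝒬_d with the same fixed space and commutator space as σ, and Σ for the set of these subgroups. Then for σ ∈ 𝒬_d the subgroup E(σ) consists exactly of those members together with the identity, it is abelian, and if k has prime characteristic p every element of E(σ) has order dividing p. -/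
theorem result {k : Type u} [Field k] (hk2 : ringChar k ≠ 2) (hk3 : Nat.card k ≠ 3)
    {M : Type u} [AddCommGroup M] [Module k M] [FiniteDimensional k M]
    {G : Subgroup (LinearMap.GeneralLinearGroup k M)} (hG : Cfsg.IsQuadraticPair G)
    {σ : LinearMap.GeneralLinearGroup k M} (hσ : σ ∈ Cfsg.minimalQuadraticElements G) :
    (Cfsg.sameActionSubgroup G σ : Set (LinearMap.GeneralLinearGroup k M)) = Cfsg.sameActionClass G σ ∪ {1} ∧
    IsMulCommutative ↥(Cfsg.sameActionSubgroup G σ) ∧
    (∀ p : ℕ, p.Prime → ringChar k = p → ∀ x ∈ Cfsg.sameActionSubgroup G σ, x ^ p = 1) := by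
  obtain ⟨⟨hσG, hσq, hσf⟩, hσmin⟩ := hσ
  let E := LinearMap.GeneralLinearGroup k M
  let d : E → (M →ₗ[k] M) := fun g => (g : M →ₗ[k] M) - 1
  have hmul0 : ∀ f g : M →ₗ[k] M, LinearMap.range g ≤ LinearMap.ker f → f * g = 0 := by
    intro f g h
    ext m
    simpa using h (LinearMap.mem_range_self g m)
  have hRK : LinearMap.range (d σ) ≤ LinearMap.ker (d σ) := by
    rintro _ ⟨m, rfl⟩
    exact LinearMap.congr_fun hσq.1 m
  have hzero : ∀ x ∈ Cfsg.sameActionClass G σ ∪ {1}, ∀ y ∈ Cfsg.sameActionClass G σ ∪ {1},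
      d x * d y = 0 := by
    rintro x (hx | rfl) y (hy | rfl) <;> try simp [d]
    refine hmul0 _ _ ?_
    show LinearMap.range ((y : M →ₗ[k] M) - 1) ≤ LinearMap.ker ((x : M →ₗ[k] M) - 1)
    rw [hx.2.1, hy.2.2]
    exact hRK
  have hunit : ∀ (N : M →ₗ[k] M), N * N = 0 → ∃ u : E, (u : M →ₗ[k] M) = 1 + N := by
    intro N hN
    refine ⟨⟨1 + N, 1 - N, ?_, ?_⟩, rfl⟩ <;>
      simp only [mul_sub, mul_one, sub_mul, one_mul, mul_add, add_mul, hN] <;> abel
  have hfam : ∀ x ∈ Cfsg.sameActionClass G σ ∪ {1}, ∀ c : k, ∀ u : E,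
      (u : M →ₗ[k] M) = 1 + c • d x → u ∈ G := by
    rintro x (hx | rfl) c u hu
    · exact hx.1.1.2.2 ⟨c, hu⟩
    · have : u = 1 := Units.ext (by rw [hu]; simp [d])
      rw [this]; exact one_mem G
  have hKx : ∀ x ∈ Cfsg.sameActionClass G σ ∪ {1},
      LinearMap.ker (d σ) ≤ LinearMap.ker (d x) ∧ LinearMap.range (d x) ≤ LinearMap.range (d σ) := by
    rintro x (hx | rfl)
    · exact ⟨hx.2.1.ge, hx.2.2.le⟩
    · simp [d]
  have hclose : ∀ g : E, (∃ x ∈ Cfsg.sameActionClass G σ ∪ {1}, ∃ y ∈ Cfsg.sameActionClass G σ ∪ {1},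
      d g = d x - d y) → g ∈ Cfsg.sameActionClass G σ ∪ {1} := by
    rintro g ⟨x, hx, y, hy, hg⟩
    by_cases hg1 : g = 1
    · exact Or.inr hg1
    left
    have hgval : (g : M →ₗ[k] M) = 1 + (d x - d y) := by rw [← hg]; simp [d]
    have hsq : (d x - d y) * (d x - d y) = 0 := by
      simp [mul_sub, sub_mul, hzero x hx x hx, hzero x hx y hy, hzero y hy x hx, hzero y hy y hy]
    have hmem : ∀ c : k, ∀ u : E, (u : M →ₗ[k] M) = 1 + c • d g → u ∈ G := by
      intro c u hu
      obtain ⟨u₁, h₁⟩ := hunit (c • d x) (by simp [hzero x hx x hx])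
      obtain ⟨u₂, h₂⟩ := hunit (-c • d y) (by simp [hzero y hy y hy])
      have : u = u₁ * u₂ := Units.ext (by
        rw [hu, hg, Units.val_mul, h₁, h₂]
        simp only [smul_sub, neg_smul, mul_add, mul_neg, add_mul, mul_one, one_mul, smul_mul_assoc,
          mul_smul_comm, hzero x hx y hy, smul_zero]
        abel)
      rw [this]
      exact mul_mem (hfam x hx c u₁ h₁) (hfam y hy (-c) u₂ h₂)
    have hker : LinearMap.ker (d σ) ≤ LinearMap.ker (d g) := by
      intro m hm
      rw [hg, LinearMap.mem_ker, LinearMap.sub_apply, (hKx x hx).1 hm, (hKx y hy).1 hm, sub_zero]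
    have hran : LinearMap.range (d g) ≤ LinearMap.range (d σ) := by
      rintro _ ⟨m, rfl⟩
      rw [hg, LinearMap.sub_apply]
      exact sub_mem ((hKx x hx).2 (LinearMap.mem_range_self _ m))
        ((hKx y hy).2 (LinearMap.mem_range_self _ m))
    have hgQ : g ∈ Cfsg.quadraticElements G := by
      refine ⟨hmem 1 g (by rw [one_smul, hg, hgval]), ⟨?_, ?_⟩, ?_⟩
      · show d g * d g = 0
        rw [hg]; exact hsq
      · exact fun h => hg1 (Units.ext (sub_eq_zero.1 h))
      · rintro u ⟨c, hu⟩
        exact hmem c u hu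
    have hle : Cfsg.commutatorRank σ ≤ Cfsg.commutatorRank g := hσmin g hgQ
    have hReq : LinearMap.range (d g) = LinearMap.range (d σ) :=
      Submodule.eq_of_le_of_finrank_le hran hle
    refine ⟨⟨hgQ, fun τ hτ => le_trans ?_ (hσmin τ hτ)⟩, ?_, hReq⟩
    · exact Submodule.finrank_mono hran
    · symm
      refine Submodule.eq_of_le_of_finrank_le hker ?_
      have h1 := LinearMap.finrank_range_add_finrank_ker (d g)
      have h2 := LinearMap.finrank_range_add_finrank_ker (d σ)
      rw [hReq] at h1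
      show Module.finrank k (LinearMap.ker (d g)) ≤ Module.finrank k (LinearMap.ker (d σ))
      omega
  have hdinv : ∀ x ∈ Cfsg.sameActionClass G σ ∪ {1}, d x⁻¹ = -d x := by
    intro x hx
    obtain ⟨u, hu⟩ := hunit (-d x) (by simp [hzero x hx x hx])
    have : x * u = 1 := Units.ext (by
      have h0 := hzero x hx x hx
      rw [Units.val_mul, hu, show (x : M →ₗ[k] M) = 1 + d x by simp [d]]
      simp only [mul_add, add_mul, mul_neg, one_mul, mul_one, h0, Units.val_one]
      abel)
    rw [inv_eq_of_mul_eq_one_right this]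
    simp [d, hu]
  let H : Subgroup E :=
    { carrier := Cfsg.sameActionClass G σ ∪ {1}
      one_mem' := Or.inr rfl
      mul_mem' := by
        intro x y hx hy
        have hy' : y⁻¹ ∈ Cfsg.sameActionClass G σ ∪ {1} :=
          hclose _ ⟨1, Or.inr rfl, y, hy, by rw [hdinv y hy]; simp [d]⟩
        refine hclose _ ⟨x, hx, y⁻¹, hy', ?_⟩
        rw [hdinv y hy, sub_neg_eq_add]
        have h0 := hzero x hx y hy
        simp only [d] at h0 ⊢
        rw [show ((x * y : E) : M →ₗ[k] M) = (x : M →ₗ[k] M) * (y : M →ₗ[k] M) from rfl]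
        refine sub_eq_zero.1 (Eq.trans ?_ h0)
        noncomm_ring
      inv_mem' := fun {x} hx => hclose _ ⟨1, Or.inr rfl, x, hx, by rw [hdinv x hx]; simp [d]⟩ }
  have heq : Cfsg.sameActionSubgroup G σ = H := le_antisymm
    ((Subgroup.closure_le H).2 fun x hx => Or.inl hx)
    (fun x hx => hx.elim (fun h => Subgroup.subset_closure h) (fun h => h ▸ one_mem _))
  rw [heq]
  refine ⟨rfl, ⟨⟨fun x y => ?_⟩⟩, fun p hp hkp x hx => ?_⟩
  · refine Subtype.ext (Units.ext ?_)
    have h1 := hzero _ x.2 _ y.2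
    have h2 := hzero _ y.2 _ x.2
    simp only [d] at h1 h2
    simp only [Subgroup.coe_mul, Units.val_mul]
    refine sub_eq_zero.1 (Eq.trans ?_ ((congrArg₂ (· - ·) h1 h2).trans (sub_zero 0)))
    noncomm_ring
  · refine Units.ext ?_
    have hpow : ∀ n : ℕ, ((x ^ n : E) : M →ₗ[k] M) = 1 + n • d x := by
      intro n
      induction n with
      | zero => simp
      | succ n ih =>
          rw [pow_succ, Units.val_mul, ih, show (x : M →ₗ[k] M) = 1 + d x by simp [d]]
          simp only [add_mul, mul_add, mul_one, one_mul, smul_mul_assoc, hzero x hx x hx,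
            smul_zero, add_smul, one_smul]
          abel
    have : CharP k p := hkp ▸ ringChar.charP k
    rw [hpow, Units.val_one, ← Nat.cast_smul_eq_nsmul k, CharP.cast_eq_zero, zero_smul, add_zero]

end Cfsg.Agent.S5059
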