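import Cfsg.Statements.S5062
import Cfsg.Agent.Lib.PLocal.QPairRootSet
-- import your own Cfsg.Agent.* helpers here

set_option autoImplicit false
universe u
open Cfsg

namespace Cfsg.Agent.S5062

/-- Let k be a field of characteristic not 2 with k not of order 3, M a finite-dimensional k-vector space and G ≤ GL(M) such that (G, M) is a quadratic pair (M irreducible for G, and G generated by its quadratically acting elements σ whose scalar family 1 + c(σ − 1), c ∈ k, lies in G). Write 𝒬_d for the quadratic elements of G of minimal commutator rank, E(σ) for the subgroup generated by the members of 𝒬_d with the same fixed space and commutator space as σ, and Σ for the set of these subgroups. Then, inside the subgroup G₀ generated by Σ, the members of Σ form a set of abstract root subgroups of G₀ in which every member has a rank one partner; and whenever a member A and a rank one partner B of A lie in a connected component of the rank-one-pair graph that is degenerate (no commutator case among its members),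 there are subgroups A₀ ≤ A, B₀ ≤ B generating an image of SL₂(k₁) with central kernel on unitriangular subgroups, for some field k₁ with at least four elements. -/
theorem result {k : Type u} [Field k] (hk2 : ringChar k ≠ 2) (hk3 : Nat.card k ≠ 3)
    {M : Type u} [AddCommGroup M] [Module k M] [FiniteDimensional k M]
    {G : Subgroup (LinearMap.GeneralLinearGroup k M)} (hG : Cfsg.IsQuadraticPair G) :
    Cfsg.IsRootSubgroupSet ((fun A : Subgroup (LinearMap.GeneralLinearGroup k M) => A.subgroupOf (⨆ B ∈ Cfsg.quadraticRootSubgroups G, B)) ''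
      Cfsg.quadraticRootSubgroups G) ∧
    (∀ A ∈ Cfsg.quadraticRootSubgroups G, ¬ Cfsg.IsIsolatedIn (Cfsg.FAdj (Cfsg.quadraticRootSubgroups G)) (Cfsg.quadraticRootSubgroups G) A) ∧
    (∀ A ∈ Cfsg.quadraticRootSubgroups G, ∀ B ∈ Cfsg.rankOnePartners (Cfsg.quadraticRootSubgroups G) A,
      (∀ C ∈ Cfsg.componentOf (Cfsg.FAdj (Cfsg.quadraticRootSubgroups G)) (Cfsg.quadraticRootSubgroups G) A,
        ∀ D ∈ Cfsg.componentOf (Cfsg.FAdj (Cfsg.quadraticRootSubgroups G)) (Cfsg.quadraticRootSubgroups G) A,
          ¬ Cfsg.RootCommutatorCase (Cfsg.quadraticRootSubgroups G) C D) →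
      ∃ A₀ B₀ : Subgroup (LinearMap.GeneralLinearGroup k M), A₀ ≤ A ∧ B₀ ≤ B ∧
        ∃ (k₁ : Type u) (_ : Field k₁), 3 < ENat.card k₁ ∧ Cfsg.IsPSL2PairOver k₁ A₀ B₀) := by
  have h2 := CfsgLib.PLocal.QPair.two_ne_zero_of_ringChar hk2
  refine ⟨?_, fun A hA => ?_, fun A hA B hB _ => ?_⟩
  · refine CfsgLib.PLocal.QPair.isRootSubgroupSet_subgroupOf rfl ?_ ?_ (fun A hA g hg => ?_)
      fun A hA B hB => CfsgLib.PLocal.QPair.sigma_trichotomy h2 hk3 hG hA hB
    · rintro A ⟨σ, hσ, rfl⟩
      exact CfsgLib.PLocal.QPair.sameAction_isMulCommutative (CfsgLib.PLocal.QPair.minimal_iff.1 hσ)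
    · rintro A ⟨σ, hσ, rfl⟩
      exact CfsgLib.PLocal.QPair.sameAction_ne_bot (CfsgLib.PLocal.QPair.minimal_iff.1 hσ)
    · have hle : (⨆ B ∈ Cfsg.quadraticRootSubgroups G, B) ≤ G :=
        iSup₂_le fun B hB => CfsgLib.PLocal.QPair.sigma_le hB
      exact CfsgLib.PLocal.QPair.sigma_conj hA (SetLike.le_def.1 hle hg)
  · rintro ⟨-, hiso⟩
    obtain ⟨B, hB, hAB⟩ := CfsgLib.PLocal.QPair.exists_partner h2 hk3 hG hA
    exact (hiso B).1 ⟨hA, hB, hAB⟩
  · obtain ⟨σ, hσ, rfl⟩ := hA
    obtain ⟨⟨τ, hτ, rfl⟩, hr⟩ := hB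
    rw [CfsgLib.PLocal.QPair.minimal_iff] at hσ hτ
    exact CfsgLib.PLocal.QPair.exists_pslPair h2 hk3 hσ hτ
      (CfsgLib.PLocal.QPair.opp_of_rankOne h2 hk3 hG hσ hτ hr)

end Cfsg.Agent.S5062
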