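import Cfsg.Statements.S5067


set_option autoImplicit false
open Cfsg

namespace Cfsg.Agent.S5067

/-- Let P be a non-abelian nilpotent p-group (every element of p-power order; P possibly infinite) generated by two abelian subgroups E and F. Then the normal closure of E in P, and likewise that of F, has nilpotency class strictly smaller than that of P. -/
theorem result {P : Type*} [Group P] {p : ℕ} [Fact p.Prime] (hP : IsPGroup p P) [Group.IsNilpotent P]
    (hna : ¬ IsMulCommutative P) {E F : Subgroup P} (hE : IsMulCommutative ↥E) (hF : IsMulCommutative ↥F) (hgen : E ⊔ F = ⊤) :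
    Group.nilpotencyClass ↥(Subgroup.normalClosure (E : Set P)) < Group.nilpotencyClass P ∧
    Group.nilpotencyClass ↥(Subgroup.normalClosure (F : Set P)) < Group.nilpotencyClass P := by
  have key : ∀ A : Subgroup P, IsMulCommutative ↥A →
      Group.nilpotencyClass ↥(Subgroup.normalClosure (A : Set P)) < Group.nilpotencyClass P := by
    intro A hA
    let L : ℕ → Subgroup P := Subgroup.lowerCentralSeries (⊤ : Subgroup P)
    let N : Subgroup P := A ⊔ L 1
    have hc1 : 2 ≤ Group.nilpotencyClass P := by
      by_contra! h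
      exact hna (Group.IsNilpotent.nilpotencyClass_le_one_iff.1 (by omega))
    have hNn : N.Normal := by
      refine ⟨fun x hx g => ?_⟩
      have h1 : g * x * g⁻¹ * x⁻¹ ∈ L 1 :=
        Subgroup.commutator_mem_commutator (Subgroup.mem_top g) (Subgroup.mem_top x)
      simpa using mul_mem ((le_sup_right : L 1 ≤ N) h1) hx
    have hL2 : (L 2).Normal := inferInstanceAs (Subgroup.lowerCentralSeries (⊤ : Subgroup P) 2).Normal
    have hstep : ⁅N, N⁆ ≤ L 2 := by
      rw [← QuotientGroup.ker_mk' (L 2), ← Subgroup.map_eq_bot_iff, Subgroup.map_commutator,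
        Subgroup.commutator_eq_bot_iff_le_centralizer]
      have h1 : (L 1).map (QuotientGroup.mk' (L 2)) ≤ Subgroup.centralizer
          (((⊤ : Subgroup P).map (QuotientGroup.mk' (L 2)) : Subgroup (P ⧸ L 2)) : Set (P ⧸ L 2)) := by
        rw [← Subgroup.commutator_eq_bot_iff_le_centralizer, ← Subgroup.map_commutator,
          Subgroup.map_eq_bot_iff, QuotientGroup.ker_mk']
        exact le_rfl
      have h2 : A.map (QuotientGroup.mk' (L 2)) ≤ Subgroup.centralizer
          ((A.map (QuotientGroup.mk' (L 2)) : Subgroup (P ⧸ L 2)) : Set (P ⧸ L 2)) := by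
        rintro _ ⟨a, ha, rfl⟩
        rw [Subgroup.mem_centralizer_iff]
        rintro _ ⟨b, hb, rfl⟩
        rw [← map_mul, ← map_mul]
        exact congrArg _ (congrArg Subtype.val (mul_comm' (⟨b, hb⟩ : A) ⟨a, ha⟩))
      have h3 : N.map (QuotientGroup.mk' (L 2)) ≤ Subgroup.centralizer
          (((L 1).map (QuotientGroup.mk' (L 2)) : Subgroup (P ⧸ L 2)) : Set (P ⧸ L 2)) :=
        (Subgroup.map_mono le_top).trans (Subgroup.le_centralizer_iff.1 h1)
      rw [Subgroup.map_sup]
      refine sup_le ?_ ?_
      · rw [Subgroup.le_centralizer_iff]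
        refine sup_le h2 ?_
        exact h1.trans (Subgroup.centralizer_le (Subgroup.map_mono le_top))
      · rw [Subgroup.le_centralizer_iff, ← Subgroup.map_sup]
        exact h3
    have hind : ∀ k, N.lowerCentralSeries (k + 1) ≤ L (k + 2) := by
      intro k
      induction k with
      | zero => exact hstep
      | succ k ih => exact Subgroup.commutator_mono ih le_top
    have hle : Subgroup.normalClosure (A : Set P) ≤ N := Subgroup.normalClosure_le_normal (le_sup_left : A ≤ N)
    obtain ⟨m, hm⟩ : ∃ m, Group.nilpotencyClass P = m + 2 := ⟨_, (Nat.sub_add_cancel hc1).symm⟩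
    have hbot : (Subgroup.normalClosure (A : Set P)).lowerCentralSeries (m + 1) = ⊥ := by
      rw [eq_bot_iff]
      refine (Subgroup.lowerCentralSeries_mono (m + 1) hle).trans ((hind m).trans ?_)
      have h4 := Subgroup.lowerCentralSeries_nilpotencyClass (G := P)
      rw [hm] at h4
      exact h4.le
    rw [hm]
    refine Nat.lt_succ_of_le (Subgroup.lowerCentralSeries_eq_bot_iff_nilpotencyClass_le.1 ?_)
    rw [← Subgroup.map_eq_bot_iff_of_injective _ (Subgroup.subtype_injective _),
      Subgroup.top_subtype_lowerCentralSeries]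
    exact hbot
  exact ⟨key E hE, key F hF⟩

end Cfsg.Agent.S5067
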