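import Cfsg.Statements.S5075
import Cfsg.Agent.Lib.PLocal.TvSysDecomp

set_option autoImplicit false
open Cfsg

namespace Cfsg.Agent.S5075

/-- Let p be an odd prime, V a finite-dimensional vector space over the field with p elements, and H a group of linear automorphisms of V generated by transvections (elements of order p fixing a hyperplane pointwise) and having no nontrivial normal p-subgroup. Then for some n ≥ 1 there are a decomposition V = V₀ ⊕ V₁ ⊕ ⋯ ⊕ Vₙ into H-invariant subspaces and a decomposition of H as the internal direct product of normal subgroups H₁, …, Hₙ such that Hⱼ acts trivially on every Vᵢ with i ≠ j, and Hⱼ induces on Vⱼ exactly the special linear group of Vⱼ or exactly the isometry group of a non-degenerate alternating form on Vⱼ. -/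
theorem result {p : ℕ} [Fact p.Prime] (hp : Odd p) {V : Type*} [AddCommGroup V] [Module (ZMod p) V] [Finite V]
    (H : Subgroup (V ≃ₗ[ZMod p] V)) (T : Set (V ≃ₗ[ZMod p] V)) (hHT : H = Subgroup.closure T)
    (hT : ∀ t ∈ T, orderOf t = p ∧
      Module.finrank (ZMod p) ↥(LinearMap.ker ((t : V →ₗ[ZMod p] V) - LinearMap.id)) + 1 =
        Module.finrank (ZMod p) V)
    (hOp : Cfsg.pCore p ↥H = ⊥) :
    ∃ (n : ℕ) (W : Fin (n + 1) → Submodule (ZMod p) V) (K : Fin n → Subgroup (V ≃ₗ[ZMod p] V)),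
      1 ≤ n ∧ DirectSum.IsInternal W ∧
      (∀ h ∈ H, ∀ i, (W i).map (h : V →ₗ[ZMod p] V) = W i) ∧
      (∀ j, K j ≤ H ∧ ((K j).subgroupOf H).Normal) ∧ ⨆ j, K j = H ∧
      (∀ j, K j ⊓ (⨆ j' ∈ {j' : Fin n | j' ≠ j}, K j') = ⊥) ∧
      (∀ j j', j ≠ j' → ∀ a ∈ K j, ∀ b ∈ K j', a * b = b * a) ∧
      (∀ j, ∀ h ∈ K j, ∀ i : Fin (n + 1), i ≠ j.succ → ∀ v ∈ W i, h v = v) ∧
      (∀ j, ∃ ρ : ↥(K j) →* (↥(W j.succ) ≃ₗ[ZMod p] ↥(W j.succ)),
        (∀ (h : ↥(K j)) (v : ↥(W j.succ)), ((ρ h v : ↥(W j.succ)) : V) = (h : V ≃ₗ[ZMod p] V) (v : V)) ∧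
        ((ρ.range : Set (↥(W j.succ) ≃ₗ[ZMod p] ↥(W j.succ))) =
            {f : ↥(W j.succ) ≃ₗ[ZMod p] ↥(W j.succ) | LinearMap.det (f : ↥(W j.succ) →ₗ[ZMod p] ↥(W j.succ)) = 1} ∨
          ∃ B : LinearMap.BilinForm (ZMod p) ↥(W j.succ), B.IsAlt ∧ B.Nondegenerate ∧
            (ρ.range : Set (↥(W j.succ) ≃ₗ[ZMod p] ↥(W j.succ))) = {f : ↥(W j.succ) ≃ₗ[ZMod p] ↥(W j.succ) | ∀ x y, B (f x) (f y) = B x y})) := by
  open CfsgLib.PLocal.TvSys in
  have : FiniteDimensional (ZMod p) V := Module.Finite.of_finite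
  have hTH : T ⊆ H := fun t ht => hHT ▸ Subgroup.subset_closure ht
  have hTv : ∀ t ∈ T, ∃ u ∈ pairs H, IsTv t u := by
    intro t ht
    obtain ⟨ho, hdim⟩ := hT t ht
    have hr := LinearMap.finrank_range_add_finrank_ker
      ((t : V →ₗ[ZMod p] V) - LinearMap.id)
    obtain ⟨f, v, hfv⟩ : t ∈ LinearEquiv.dilatransvections (ZMod p) V := by
      rw [LinearEquiv.mem_dilatransvections_iff_rank, ← Module.finrank_eq_rank]
      exact_mod_cast (by omega :
        Module.finrank (ZMod p) (LinearMap.range ((t : V →ₗ[ZMod p] V) - LinearMap.id)) ≤ 1)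
    have happ : ∀ x, t x = x + f x • v := fun x => LinearMap.congr_fun hfv x
    have ht1 : t ≠ 1 := fun e => (Fact.out : p.Prime).one_lt.ne' (by rw [← ho, e, orderOf_one])
    have hv : v ≠ 0 := fun e => ht1 (LinearEquiv.ext fun x => by simp [happ, e])
    have hf : f ≠ 0 := fun e => ht1 (LinearEquiv.ext fun x => by simp [happ, e])
    have key : ∀ n : ℕ, (t ^ n) v = (1 + f v) ^ n • v := by
      intro n
      induction n with
      | zero => simp
      | succ n ih =>
        rw [pow_succ', LinearEquiv.mul_apply, ih, map_smul, happ v, pow_succ]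
        module
    have hz : f v = 0 := by
      have e := key p
      rw [show t ^ p = 1 from orderOf_dvd_iff_pow_eq_one.1 ho.dvd, LinearEquiv.coe_one, id_eq,
        ZMod.pow_card, add_smul, one_smul, left_eq_add, smul_eq_zero] at e
      simpa [hv] using e
    exact ⟨(v, f), ⟨hv, hf, hz, t, hTH ht, happ⟩, happ⟩
  have hgen : Gen H := hHT.le.trans ((Subgroup.closure_le _).2 fun t ht =>
    Subgroup.subset_closure (hTv t ht))
  by_cases hne : (pairs H).Nonempty
  swap
  · have hbot : H = ⊥ := by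
      rw [hHT, Subgroup.closure_eq_bot_iff]
      intro t ht
      obtain ⟨u, hu, -⟩ := hTv t ht
      exact absurd ⟨u, hu⟩ hne
    refine ⟨1, ![⊤, ⊥], fun _ => ⊥, le_rfl, ?_, ?_, fun _ => ⟨bot_le, inferInstance⟩, ?_,
      fun _ => bot_inf_eq _, ?_, ?_, fun j => ?_⟩
    · rw [DirectSum.isInternal_submodule_iff_isCompl _ (i := 0) (j := 1) (by decide)
        (by ext i; fin_cases i <;> simp)]
      simpa using isCompl_top_bot
    · intro h hh i
      rw [hbot, Subgroup.mem_bot] at hh
      subst hh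
      exact Submodule.map_id _
    · simp [hbot]
    · intro j j' _ a ha b _
      rw [Subgroup.mem_bot.1 ha, one_mul, mul_one]
    · intro j h hh i _ v _
      rw [Subgroup.mem_bot.1 hh]
      rfl
    · obtain rfl : j = 0 := Subsingleton.elim _ _
      refine ⟨1, fun h v => ?_, .inl ?_⟩
      · rw [Subgroup.mem_bot.1 h.2]
        rfl
      · have hsub : Subsingleton ↥((![⊤, ⊥] : Fin 2 → Submodule (ZMod p) V) (0 : Fin 1).succ) :=
          ⟨fun a b => Subtype.ext ((show (a : V) = 0 by simpa using a.2).trans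
            (show (b : V) = 0 by simpa using b.2).symm)⟩
        refine Set.ext fun f => ⟨fun _ => ?_, fun _ => ⟨1, LinearEquiv.ext fun x =>
          Subsingleton.elim _ _⟩⟩
        show LinearMap.det _ = 1
        rw [Subsingleton.elim f 1]
        exact LinearMap.det_id
  obtain ⟨n, C, W₀, hn, hC, hcover, hzero, hW₀, hint⟩ :=
    exists_decomposition hp hOp hgen hne
  have hW : ∀ g ∈ H, ∀ (i : Fin (n + 1)), ∀ x ∈ (Fin.cons W₀ fun j => cenSp (C j) :
      Fin (n + 1) → Submodule (ZMod p) V) i, g x ∈ (Fin.cons W₀ fun j => cenSp (C j) :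
      Fin (n + 1) → Submodule (ZMod p) V) i := by
    intro g hg i
    refine invariant_of_pairs hgen _ (fun t ht x hx => ?_) g hg
    obtain ⟨j, hj⟩ := hcover t ht
    rcases Fin.eq_zero_or_eq_succ i with rfl | ⟨l, rfl⟩
    · simp only [Fin.cons_zero] at hx ⊢
      simp [hW₀ t ht x hx]
    · simp only [Fin.cons_succ] at hx ⊢
      by_cases hjl : j = l
      · subst hjl
        exact Submodule.smul_mem _ _ (Submodule.subset_span ⟨t, hj, rfl⟩)
      · simp [hzero j l hjl t hj x hx]
  have hKle : ∀ j, tvClosure (C j) ≤ H := fun j => tvClosure_le (hC j).1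
  have hfix : ∀ j, ∀ h ∈ tvClosure (C j), ∀ i : Fin (n + 1), i ≠ j.succ →
      ∀ v ∈ (Fin.cons W₀ fun j => cenSp (C j) : Fin (n + 1) → Submodule (ZMod p) V) i,
        h v = v := by
    intro j h hh i hij v hv
    refine tvClosure_fix (fun t ht => ?_) hh
    rcases Fin.eq_zero_or_eq_succ i with rfl | ⟨l, rfl⟩
    · exact hW₀ t ((hC j).1 ht) v (by simpa using hv)
    · exact hzero j l (fun e => hij (by rw [e])) t ht v (by simpa using hv)
  have hext : ∀ a b : V ≃ₗ[ZMod p] V, (∀ i, ∀ v ∈ (Fin.cons W₀ fun j => cenSp (C j) :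
      Fin (n + 1) → Submodule (ZMod p) V) i, a v = b v) → a = b := by
    intro a b hab
    refine LinearEquiv.ext fun v => ?_
    have hle : ⨆ i, (Fin.cons W₀ fun j => cenSp (C j) : Fin (n + 1) → Submodule (ZMod p) V) i ≤
        LinearMap.ker ((a : V →ₗ[ZMod p] V) - (b : V →ₗ[ZMod p] V)) :=
      iSup_le fun i x hx => by simp [hab i x hx]
    have := hle (hint.submodule_iSup_eq_top ▸ Submodule.mem_top : v ∈ _)
    simpa [sub_eq_zero] using this
  have hcomm : ∀ j j', j ≠ j' → ∀ a ∈ tvClosure (C j), ∀ b ∈ tvClosure (C j'), a * b = b * a := by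
    intro j j' hjj a ha b hb
    refine hext _ _ fun i v hv => ?_
    rw [LinearEquiv.mul_apply, LinearEquiv.mul_apply]
    by_cases hi : i = j.succ
    · have hi' : i ≠ j'.succ := fun e => hjj (Fin.succ_injective _ (hi.symm.trans e))
      rw [hfix j' b hb i hi' v hv, hfix j' b hb i hi' _ (hW a (hKle j ha) i v hv)]
    · rw [hfix j a ha i hi v hv, hfix j a ha i hi _ (hW b (hKle j' hb) i v hv)]
  have hsup : ⨆ j, tvClosure (C j) = H := by
    refine le_antisymm (iSup_le hKle) (hgen.trans ((Subgroup.closure_le _).2 ?_))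
    rintro g ⟨t, ht, hgt⟩
    obtain ⟨j, hj⟩ := hcover t ht
    exact le_iSup (fun j => tvClosure (C j)) j (Subgroup.subset_closure ⟨t, hj, hgt⟩)
  refine ⟨n, Fin.cons W₀ fun j => cenSp (C j), fun j => tvClosure (C j), hn, hint, ?_, ?_, hsup,
    ?_, hcomm, hfix, fun j => ?_⟩
  · intro h hh i
    refine Submodule.eq_of_le_of_finrank_eq ?_ (LinearEquiv.finrank_map_eq h _)
    rintro _ ⟨x, hx, rfl⟩
    exact hW h hh i x hx
  · intro j
    refine ⟨hKle j, (Subgroup.normal_subgroupOf_iff_le_normalizer (hKle j)).2 ?_⟩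
    refine hsup.symm.le.trans (iSup_le fun i => ?_)
    by_cases hij : i = j
    · subst hij
      exact Subgroup.le_normalizer
    · intro g hg
      rw [Subgroup.mem_normalizer_iff]
      intro x
      constructor
      · intro hx
        rw [hcomm i j hij g hg x hx, mul_inv_cancel_right]
        exact hx
      · intro hx
        have e := hcomm i j hij g hg _ hx
        rw [inv_mul_cancel_right] at e
        exact mul_left_cancel e ▸ hx
  · intro j
    rw [eq_bot_iff]
    intro x hx
    obtain ⟨hxj, hxo⟩ := Subgroup.mem_inf.1 hx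
    refine Subgroup.mem_bot.2 (hext _ _ fun i v hv => ?_)
    by_cases hi : i = j.succ
    · subst hi
      have hle : ⨆ j' ∈ {j' : Fin n | j' ≠ j}, tvClosure (C j') ≤
          fixingSubgroup (V ≃ₗ[ZMod p] V)
            ((Fin.cons W₀ fun j => cenSp (C j) : Fin (n + 1) → Submodule (ZMod p) V) j.succ :
              Set V) :=
        iSup₂_le fun j' hj' g hg => (mem_fixingSubgroup_iff _).2 fun y hy =>
          hfix j' g hg _ (fun e => hj' (Fin.succ_injective _ e).symm) y hy
      exact (mem_fixingSubgroup_iff _).1 (hle hxo) v hv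
    · exact hfix j x hxj i hi v hv
  · have hinv : ∀ g ∈ tvClosure (C j), ∀ x ∈ cenSp (C j), g x ∈ cenSp (C j) := fun g hg x hx => by
      simpa using hW g (hKle j hg) j.succ x (by simpa using hx)
    exact ⟨restrictHom _ _ hinv, fun h v => rfl, factor_range (hC j).1 (hC j).2 hinv⟩

end Cfsg.Agent.S5075
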