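import Cfsg.Statements.S5087
import Cfsg.Agent.Lib.Fusion.NormalCriteria

set_option autoImplicit false
open Cfsg

namespace Cfsg.Agent.S5087

open scoped commutatorElement

/-- In a saturated fusion system over a finite p-group S, a subgroup Q is normal in the system if and only if every subgroup P that equals S or is essential contains Q and every element of Aut_F(P) maps Q onto itself. -/
theorem result {Ω : Type*} [Group Ω] {S : Subgroup Ω} [Finite S] (p : ℕ) [Fact p.Prime] (hS : IsPGroup p S) (F : Cfsg.FusionSystem S) (hF : F.IsSaturated p) (Q : Subgroup Ω) : F.IsNormal Q ↔ ∀ P : Subgroup Ω, (P = S ∨ F.IsEssential p P) → (Q ≤ P ∧ ∀ α ∈ F.autGroup P, (Q.subgroupOf P).map α.toMonoidHom = Q.subgroupOf P) := by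
  constructor
  · intro h P hP
    have hPS : P ≤ S := hP.elim (fun e => e.le) fun e => e.1.1
    haveI := CfsgLib.Fusion.finite_of_le hPS
    have hle : Q ≤ P := by
      rcases hP with rfl | hP
      · exact h.1
      · exact CfsgLib.Fusion.IsNormal.le_centricRadical hS h hP.1
          (CfsgLib.Fusion.essential_isRadical hS hF hP)
    refine ⟨hle, fun α hα => CfsgLib.Fusion.eq_of_le_of_card_le ?_
      (Subgroup.card_map_of_injective α.injective).ge⟩
    rintro _ ⟨x, hx, rfl⟩
    have := CfsgLib.Fusion.StronglyClosed.apply_mem (CfsgLib.Fusion.IsNormal.stronglyClosed h)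
      (CfsgLib.Fusion.isMap_of_autGroup hPS hα) x.2 hx
    rw [CfsgLib.Fusion.toFun_aut_apply _ x.2] at this
    exact this
  · intro h
    refine CfsgLib.Fusion.isNormal_of_alperin hS hF (h S (Or.inl rfl)).1 fun P hP =>
      ⟨(h P hP).1, fun α hα x hx => ?_⟩
    have h1 : α x ∈ (Q.subgroupOf P).map α.toMonoidHom := ⟨x, hx, rfl⟩
    rw [(h P hP).2 α hα] at h1
    exact h1

end Cfsg.Agent.S5087
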