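import Cfsg.Statements.S5088
import Cfsg.Agent.Lib.Fusion.NormalCriteria

set_option autoImplicit false
open Cfsg

namespace Cfsg.Agent.S5088

open scoped commutatorElement

/-- In a saturated fusion system over a finite p-group, a subgroup Q is normal in the system if and only if there is a chain of subgroups 1 = Q₀ ≤ Q₁ ≤ ⋯ ≤ Qₙ = Q such that each Qᵢ with i ≥ 1 is strongly closed in the system and [Q, Qᵢ] ≤ Qᵢ₋₁. -/
theorem result {Ω : Type*} [Group Ω] {S : Subgroup Ω} [Finite S] (p : ℕ) [Fact p.Prime] (hS : IsPGroup p S) (F : Cfsg.FusionSystem S) (hF : F.IsSaturated p) (Q : Subgroup Ω) : F.IsNormal Q ↔ ∃ (n : ℕ) (Qs : Fin (n + 1) → Subgroup Ω), Qs 0 = ⊥ ∧ Qs (Fin.last n) = Q ∧ Monotone Qs ∧ ∀ i : Fin n, F.StronglyClosed (Qs i.succ) ∧ ⁅Q, Qs i.succ⁆ ≤ Qs (Fin.castSucc i) := by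
  constructor
  · intro h
    obtain ⟨n, C, h0, hn, hmono, hcomm, hN⟩ := CfsgLib.Fusion.IsNormal.exists_series hS h
    refine ⟨n, fun i => C i, h0, hn, fun i j hij => hmono hij, fun i =>
      ⟨CfsgLib.Fusion.IsNormal.stronglyClosed (hN _), ?_⟩⟩
    rw [Subgroup.commutator_comm]
    exact hcomm i
  · rintro ⟨n, Qs, h0, hn, hmono, hi⟩
    have hbot : F.StronglyClosed ⊥ := CfsgLib.Fusion.IsNormal.stronglyClosed
      CfsgLib.Fusion.isNormal_bot
    have hsc : ∀ i : Fin (n + 1), F.StronglyClosed (Qs i) := fun i => by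
      induction i using Fin.cases with
      | zero => exact h0 ▸ hbot
      | succ i => exact (hi i).1
    refine CfsgLib.Fusion.isNormal_of_le_centricRadical hS hF (hn ▸ hsc _) fun P hc hr => ?_
    refine CfsgLib.Fusion.le_centricRadical_of_series hS (hn ▸ hsc _) n
      (fun k => Qs ⟨min k n, by omega⟩) (by simpa using h0)
      (by simp only [min_self]; exact hn) (fun k hk => hmono ?_) (fun k hk => ?_) (fun k hk => ?_) hc hr
    · exact Fin.mk_le_mk.2 (by omega)
    · have h := (hi ⟨k, hk⟩).2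
      rw [Subgroup.commutator_comm]
      simp only [min_eq_left hk.le, min_eq_left (Nat.succ_le_of_lt hk)]
      exact h
    · haveI := CfsgLib.Fusion.finite_of_le (hsc ⟨min k n, by omega⟩).1
      exact CfsgLib.Fusion.StronglyClosed.weaklyClosed (hsc _)

end Cfsg.Agent.S5088
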