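import Cfsg.Statements.S5089
import Cfsg.Agent.Lib.Fusion.NormalCriteria

set_option autoImplicit false
open Cfsg

namespace Cfsg.Agent.S5089

open scoped commutatorElement

/-- A saturated fusion system over a finite p-group has a nontrivial subgroup that is normal in the system (O_p(F) ≠ 1) if and only if some nontrivial abelian subgroup is strongly closed in the system. -/
theorem result {Ω : Type*} [Group Ω] {S : Subgroup Ω} [Finite S] (p : ℕ) [Fact p.Prime] (hS : IsPGroup p S) (F : Cfsg.FusionSystem S) (hF : F.IsSaturated p) : F.core ≠ ⊥ ↔ ∃ Q : Subgroup Ω, Q ≠ ⊥ ∧ IsMulCommutative Q ∧ F.StronglyClosed Q := by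
  constructor
  · intro h
    have hN := CfsgLib.Fusion.core_isNormal (F := F)
    haveI := CfsgLib.Fusion.finite_of_le hN.1
    haveI : Nontrivial F.core := (Subgroup.nontrivial_iff_ne_bot _).2 h
    refine ⟨(Subgroup.center F.core).map F.core.subtype, ?_, ⟨⟨?_⟩⟩, ?_⟩
    · intro hb
      rw [Subgroup.map_eq_bot_iff_of_injective _ F.core.subtype_injective] at hb
      have := (hS.to_le hN.1).center_nontrivial
      exact (Subgroup.nontrivial_iff_ne_bot _).1 this hb
    · rintro ⟨_, a, ha, rfl⟩ ⟨_, b, hb, rfl⟩
      exact Subtype.ext (show (a : Ω) * (b : Ω) = (b : Ω) * (a : Ω) from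
        congrArg (fun z : F.core => (z : Ω)) (Subgroup.mem_center_iff.1 hb a))
    · refine CfsgLib.Fusion.IsNormal.stronglyClosed
        (CfsgLib.Fusion.isNormal_characteristic hN (Subgroup.map_subtype_le _) ?_)
      rw [Subgroup.subgroupOf, Subgroup.comap_map_eq_self_of_injective F.core.subtype_injective]
      infer_instance
  · rintro ⟨Q, hQ, hab, hsc⟩ hb
    have hN : F.IsNormal Q := by
      refine CfsgLib.Fusion.isNormal_of_le_centricRadical hS hF hsc fun P hc hr => ?_
      refine CfsgLib.Fusion.le_centricRadical_of_series hS hsc 1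
        (fun k => if k = 0 then ⊥ else Q) rfl rfl (fun k hk => ?_) (fun k hk => ?_) (fun k hk => ?_) hc hr
      all_goals obtain rfl : k = 0 := by omega
      · exact bot_le
      · refine Subgroup.commutator_le.2 fun a ha b hb => ?_
        have := congrArg Subtype.val (hab.is_comm.comm ⟨a, ha⟩ ⟨b, hb⟩)
        exact Subgroup.mem_bot.2 (commutatorElement_eq_one_iff_mul_comm.2 this)
      · exact CfsgLib.Fusion.StronglyClosed.weaklyClosed
          (CfsgLib.Fusion.IsNormal.stronglyClosed CfsgLib.Fusion.isNormal_bot)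
    exact hQ (le_bot_iff.1 (hb ▸ CfsgLib.Fusion.IsNormal.le_core hN))

end Cfsg.Agent.S5089
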