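import Cfsg.Statements.S5091
import Cfsg.Agent.Lib.Fusion.ModelUnique

set_option autoImplicit false
open Cfsg

namespace Cfsg.Agent.S5091

/-- Model Theorem, uniqueness: two models of a constrained saturated fusion system over a finite p-group S are isomorphic by an isomorphism compatible with the two embeddings of S. -/
theorem result {Ω : Type*} [Group Ω] {S : Subgroup Ω} [Finite S] (p : ℕ) [Fact p.Prime] (hS : IsPGroup p S) (F : Cfsg.FusionSystem S) (hF : F.IsConstrained p) {G₁ G₂ : Type*} [Group G₁] [Group G₂] (ι₁ : S →* G₁) (ι₂ : S →* G₂) (h₁ : F.IsModel p G₁ ι₁) (h₂ : F.IsModel p G₂ ι₂) : ∃ φ : G₁ ≃* G₂, ∀ x : S, φ (ι₁ x) = ι₂ x := by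
  obtain ⟨hsat, Q, hQn, hQc⟩ := hF
  obtain ⟨hf₁, hr₁, hT₁, hc₁⟩ := h₁
  obtain ⟨hf₂, hr₂, hT₂, hc₂⟩ := h₂
  haveI := hf₁
  haveI := hf₂
  -- the common normal centric subgroup
  set U := CfsgLib.Fusion.preimage ι₁ (Cfsg.pCore p G₁) with hUdef
  have hn₁ : (Cfsg.pCore p G₁).Normal := Subgroup.sSup_normal _ fun _ hN => hN.1
  have hM₁ : Cfsg.pCore p G₁ ≤ ι₁.range := hT₁.choose_spec ▸
    CfsgLib.Fusion.pCore_le_sylow hT₁.choose
  have hUn : F.IsNormal U := CfsgLib.Fusion.preimage_isNormal hr₁ hn₁ hM₁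
  have hUc : F.IsCentric U := CfsgLib.Fusion.preimage_isCentric hr₁ hn₁ hM₁ hc₁
  have hU₁ : (U.subgroupOf S).map ι₁ = Cfsg.pCore p G₁ :=
    CfsgLib.Fusion.map_subgroupOf_preimage hM₁
  have hn₂ : ((U.subgroupOf S).map ι₂).Normal :=
    CfsgLib.Fusion.normal_of_model hr₂ hT₂ hc₂ hUn
  have hc₂' : Subgroup.centralizer (((U.subgroupOf S).map ι₂ : Subgroup G₂) : Set G₂) ≤
      (U.subgroupOf S).map ι₂ := by
    intro g hg
    have hle : (U.subgroupOf S).map ι₂ ≤ Cfsg.pCore p G₂ :=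
      le_sSup ⟨hn₂, (hS.to_subgroup _).map ι₂⟩
    have hM₂ : Cfsg.pCore p G₂ ≤ ι₂.range := hT₂.choose_spec ▸
      CfsgLib.Fusion.pCore_le_sylow hT₂.choose
    have hV : F.IsNormal (CfsgLib.Fusion.preimage ι₂ (Cfsg.pCore p G₂)) :=
      CfsgLib.Fusion.preimage_isNormal hr₂ (Subgroup.sSup_normal _ fun _ hN => hN.1) hM₂
    have hV₁ : ((CfsgLib.Fusion.preimage ι₂ (Cfsg.pCore p G₂)).subgroupOf S).map ι₁ ≤
        Cfsg.pCore p G₁ :=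
      le_sSup ⟨CfsgLib.Fusion.normal_of_model hr₁ hT₁ hc₁ hV, (hS.to_subgroup _).map ι₁⟩
    rw [← hU₁, Subgroup.map_le_map_iff_of_injective hr₁.1] at hV₁
    have heq : (U.subgroupOf S).map ι₂ = Cfsg.pCore p G₂ := le_antisymm hle <| by
      rw [← CfsgLib.Fusion.map_subgroupOf_preimage hM₂]
      exact Subgroup.map_mono hV₁
    rw [heq] at hg ⊢
    exact hc₂ hg
  obtain ⟨θ₁, hθ₁, Φ₁, hΦ₁⟩ := CfsgLib.Fusion.Model.exists_iso_grp F hUn.1 hS hsat hUc hUn hr₁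
    (hU₁ ▸ hn₁) (hU₁ ▸ hc₁)
  obtain ⟨θ₂, hθ₂, Φ₂, hΦ₂⟩ := CfsgLib.Fusion.Model.exists_iso_grp F hUn.1 hS hsat hUc hUn hr₂
    hn₂ hc₂'
  obtain ⟨r, hr⟩ := hθ₁.exists_conj F hUn.1 hS hsat hUc hθ₂
  set k := QuotientGroup.mk' (CfsgLib.Fusion.Model.tauKer F hUn.1)
    (CfsgLib.Fusion.Model.kerLift F hUn.1 r) with hk
  refine ⟨(Φ₁.trans (MulAut.conj k)).trans Φ₂.symm, fun x => ?_⟩
  have hx : (x : Ω) ∈ Cfsg.FusionSystem.normalizerIn S U :=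
    (CfsgLib.Fusion.IsNormal.normalizerIn_eq hUn).ge x.2
  rw [MulEquiv.trans_apply, MulEquiv.trans_apply, MulEquiv.symm_apply_eq, hΦ₁ x hx, hΦ₂ x hx]
  show k * QuotientGroup.mk' _ (θ₁ ⟨x, hx⟩) * k⁻¹ = QuotientGroup.mk' _ (θ₂ ⟨x, hx⟩)
  rw [hr, map_mul, map_mul, map_inv]

end Cfsg.Agent.S5091
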