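import Cfsg.Statements.S5105
import Cfsg.Agent.Lib.Fusion.ModelMain
import Cfsg.Agent.Lib.Fusion.ModelBasic
import Mathlib.GroupTheory.Index
import Mathlib.Algebra.BigOperators.Pi

set_option autoImplicit false
open Cfsg

namespace Cfsg.Agent.S5105

/-- Model Theorem, rigidity: if G is a model of a constrained fusion system over a finite p-group S (through ι : S → G), then every automorphism of G fixing ι(S) elementwise is conjugation by ι(z) for some z in the centre of S. -/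
theorem result {Ω : Type*} [Group Ω] {S : Subgroup Ω} [Finite S] (p : ℕ) [Fact p.Prime] (hS : IsPGroup p S) (F : Cfsg.FusionSystem S) (hF : F.IsConstrained p) {G : Type*} [Group G] (ι : S →* G) (hG : F.IsModel p G ι) (ψ : G ≃* G) (hψ : ∀ x : S, ψ (ι x) = ι x) : ∃ z : S, z ∈ Subgroup.center S ∧ ∀ g : G, ψ g = ι z * g * (ι z)⁻¹ := by
  obtain ⟨hfin, hr, ⟨T, hT⟩, hc⟩ := hG
  haveI := hfin
  set M : Subgroup G := Cfsg.pCore p G with hMdef
  have hn : M.Normal := Subgroup.sSup_normal _ fun _ hN => hN.1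
  have hM : M ≤ ι.range := hT ▸ CfsgLib.Fusion.pCore_le_sylow T
  have hfix : ∀ m ∈ M, ψ m = m := fun m hm => by
    obtain ⟨s, rfl⟩ := hM hm
    exact hψ s
  set Z : Subgroup G := M ⊓ Subgroup.centralizer (M : Set G) with hZdef
  have hd : ∀ g : G, ψ g * g⁻¹ ∈ Z := fun g => by
    have h1 : ψ g * g⁻¹ ∈ Subgroup.centralizer (M : Set G) := fun m hm => by
      have h2 := hn.conj_mem _ hm g⁻¹
      rw [inv_inv] at h2
      have h3 := hfix _ h2
      rw [map_mul, map_mul, map_inv, hfix m hm] at h3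
      calc m * (ψ g * g⁻¹) = ψ g * ((ψ g)⁻¹ * m * ψ g) * g⁻¹ := by group
        _ = ψ g * (g⁻¹ * m * g) * g⁻¹ := by rw [h3]
        _ = ψ g * g⁻¹ * m := by group
    exact ⟨hc h1, h1⟩
  have hZconj : ∀ (g : G) (z : Z), g * (z : G) * g⁻¹ ∈ Z := fun g z => by
    refine ⟨hn.conj_mem _ z.2.1 g, fun m hm => ?_⟩
    have h2 := hn.conj_mem _ hm g⁻¹
    rw [inv_inv] at h2
    calc m * (g * z * g⁻¹) = g * ((g⁻¹ * m * g) * z) * g⁻¹ := by group
      _ = g * (z * (g⁻¹ * m * g)) * g⁻¹ := by rw [z.2.2 _ h2]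
      _ = g * z * g⁻¹ * m := by group
  letI : CommGroup Z :=
    { (inferInstance : Group Z) with mul_comm := fun a b => Subtype.ext (b.2.2 _ a.2.1) }
  let cj : G → (Z →* Z) := fun g => MonoidHom.mk' (fun z => ⟨g * (z : G) * g⁻¹, hZconj g z⟩)
    fun a b => Subtype.ext (by
      show g * ((a : G) * b) * g⁻¹ = g * (a : G) * g⁻¹ * (g * (b : G) * g⁻¹)
      group)
  let d : G → Z := fun g => ⟨ψ g * g⁻¹, hd g⟩
  have hds : ∀ x : S, d (ι x) = 1 := fun x => Subtype.ext (by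
    show ψ (ι x) * (ι x)⁻¹ = 1
    rw [hψ, mul_inv_cancel])
  have hcoc : ∀ g h, d (g * h) = d g * cj g (d h) := fun g h => Subtype.ext (by
    show ψ (g * h) * (g * h)⁻¹ = ψ g * g⁻¹ * (g * (ψ h * h⁻¹) * g⁻¹)
    rw [map_mul]
    group)
  letI : Fintype (G ⧸ ι.range) := Fintype.ofFinite _
  have hdout : ∀ g : G, d ((QuotientGroup.mk g : G ⧸ ι.range).out) = d g := fun g => by
    obtain ⟨⟨x, s, rfl⟩, hx⟩ := QuotientGroup.mk_out_eq_mul ι.range g
    rw [hx, hcoc, hds, map_one, mul_one]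
  let w : Z := ∏ c : G ⧸ ι.range, d c.out
  have hw : ∀ g, w = d g ^ Nat.card (G ⧸ ι.range) * cj g w := fun g => by
    have h1 : ∀ c : G ⧸ ι.range, d (g • c).out = d g * cj g (d c.out) := fun c => by
      rw [← hcoc, ← hdout (g * c.out)]
      congr 2
      conv_lhs => rw [← QuotientGroup.out_eq' c]
      rfl
    calc w = ∏ c : G ⧸ ι.range, d (g • c).out :=
          (Fintype.prod_equiv (MulAction.toPerm g) _ _ fun _ => rfl).symm
      _ = _ := by
          simp only [h1, Finset.prod_mul_distrib, Finset.prod_const, Finset.card_univ,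
            Nat.card_eq_fintype_card, map_prod, w]
  have hidx : ¬ p ∣ Nat.card (G ⧸ ι.range) := by
    rw [← hT]
    exact T.not_dvd_index
  have hZp : IsPGroup p Z := (hS.of_surjective ι.rangeRestrict ι.rangeRestrict_surjective).to_le
    (inf_le_left.trans hM)
  obtain ⟨k, hk⟩ := IsPGroup.iff_card.1 hZp
  have hco : (Nat.card Z).Coprime (Nat.card (G ⧸ ι.range)) := by
    rw [hk]
    exact Nat.Coprime.pow_left k ((Fact.out : p.Prime).coprime_iff_not_dvd.2 hidx)
  have hbij : Function.Bijective (fun z : Z => z ^ Nat.card (G ⧸ ι.range)) :=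
    (powCoprime hco).bijective
  obtain ⟨z, hz⟩ := hbij.2 w
  replace hz : z ^ Nat.card (G ⧸ ι.range) = w := hz
  have hdg : ∀ g, z = d g * cj g z := fun g => hbij.1 (by
    show z ^ _ = (d g * cj g z) ^ _
    rw [mul_pow, ← map_pow, hz]
    exact hw g)
  obtain ⟨z₀, hz₀⟩ := hM z.2.1
  refine ⟨z₀, Subgroup.mem_center_iff.2 fun x => hr.1 ?_, fun g => ?_⟩
  · have h1 : (z : G) = ψ (ι x) * (ι x)⁻¹ * (ι x * z * (ι x)⁻¹) :=
      congrArg Subtype.val (hdg (ι x))
    rw [hψ, mul_inv_cancel, one_mul] at h1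
    rw [map_mul, map_mul, hz₀]
    calc ι x * (z : G) = ι x * z * (ι x)⁻¹ * ι x := by group
      _ = z * ι x := by rw [← h1]
  · have h1 : (z : G) = ψ g * g⁻¹ * (g * z * g⁻¹) := congrArg Subtype.val (hdg g)
    rw [hz₀]
    calc ψ g = ψ g * g⁻¹ * (g * z * g⁻¹) * (g * (z : G)⁻¹) := by group
      _ = z * (g * (z : G)⁻¹) := by rw [← h1]
      _ = z * g * (z : G)⁻¹ := by group

end Cfsg.Agent.S5105
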