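import Cfsg.Statements.S5106
import Cfsg.Agent.Lib.Fusion.NormalCriteria

set_option autoImplicit false
open Cfsg

namespace Cfsg.Agent.S5106

open scoped commutatorElement

/-- In a saturated fusion system over a finite p-group S, a subgroup R ≤ S is normal in the system if and only if every map of the system whose source is a subgroup of R is the restriction of an element of Aut_F(R). -/
theorem result {Ω : Type*} [Group Ω] {S : Subgroup Ω} [Finite S] (p : ℕ) [Fact p.Prime] (hS : IsPGroup p S) (F : Cfsg.FusionSystem S) (hF : F.IsSaturated p) (R : Subgroup Ω) (hRS : R ≤ S) : F.IsNormal R ↔ ∀ (P : Subgroup Ω) (hPR : P ≤ R) (φ : P →* Ω), φ ∈ F.Hom P → ∃ α ∈ F.autGroup R, ∀ x : P, ((α (Subgroup.inclusion hPR x) : R) : Ω) = φ x := by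
  constructor
  · intro h P hPR φ hφ
    obtain ⟨ψ, hψ, hψx, hψR⟩ := h.2 P φ hφ
    have hm := CfsgLib.Fusion.isMap_of_hom hψ
    have hle : R ≤ P ⊔ R := le_sup_right
    have hi := CfsgLib.Fusion.map_subgroupOf_eq_img hψ hle
    rw [hψR] at hi
    refine ⟨(hm.mono hle).toAut hi.symm, (hm.mono hle).toAut_mem _, fun x => ?_⟩
    rw [CfsgLib.Fusion.IsMap.toAut_apply, ← hψx x]
    exact CfsgLib.Fusion.toFun_apply ψ (Subgroup.inclusion le_sup_left x)
  · intro h
    refine CfsgLib.Fusion.isNormal_of_maps_extend hS hF hRS fun P f hf hPR => ?_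
    obtain ⟨α, hα, hαx⟩ := h P hPR _ hf.toHom_mem
    exact ⟨α, hα, fun x hx _ => hαx ⟨x, hx⟩⟩

end Cfsg.Agent.S5106
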