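import Cfsg.Statements.S5107
import Cfsg.Agent.Lib.Fusion.NormalCriteria
import Cfsg.Agent.Lib.Fusion.GroupSystem

set_option autoImplicit false
open Cfsg

namespace Cfsg.Agent.S5107

/-- If a Sylow p-subgroup S of a finite group G has nilpotency class at most two and its centre is strongly closed in S with respect to G, then every map of the fusion system of G on S is conjugation by an element of N_G(S), and S is the largest subgroup normal in that fusion system. -/
theorem result {G : Type*} [Group G] [Finite G] (p : ℕ) [Fact p.Prime] (S : Sylow p G) (hcl : ⁅(S : Subgroup G), (S : Subgroup G)⁆ ≤ (S : Subgroup G) ⊓ Subgroup.centralizer ((S : Subgroup G) : Set G)) (hZ : Cfsg.IsStronglyClosed ((S : Subgroup G) ⊓ Subgroup.centralizer ((S : Subgroup G) : Set G)) (S : Subgroup G)) : (∀ (P : Subgroup G) (φ : P →* G), φ ∈ (Cfsg.groupFusionSystem (S : Subgroup G)).Hom P → ∃ g ∈ Subgroup.normalizer ((S : Subgroup G) : Set G), ∀ x : P, φ x = g * (x : G) * g⁻¹) ∧ (Cfsg.groupFusionSystem (S : Subgroup G)).core = S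 := by
  set T : Subgroup G := (S : Subgroup G) with hT
  set Z : Subgroup G := T ⊓ Subgroup.centralizer (T : Set G) with hZdef
  set F := Cfsg.groupFusionSystem T with hFdef
  have hS : IsPGroup p T := S.isPGroup'
  have hsys := CfsgLib.Fusion.isSystemOf_group T
  have hFs : Cfsg.FusionSystem.IsSaturated F p := hsys.isSaturated hS (by
    rw [Subgroup.relIndex_top_right]
    exact S.not_dvd_index)
  have htop : F.StronglyClosed T :=
    ⟨le_rfl, fun R _ φ hφ x => (F.le_of_mem hφ).2 x⟩
  have hbot : F.StronglyClosed ⊥ := CfsgLib.Fusion.IsNormal.stronglyClosed CfsgLib.Fusion.isNormal_bot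
  have hZF : F.StronglyClosed Z := ⟨inf_le_left, fun R hR φ hφ x => by
    obtain ⟨-, hv, g, hg⟩ := hφ
    rw [hg]
    exact hZ.2 x (hR x.2) g (hg x ▸ hv x)⟩
  have hSN : F.IsNormal T := by
    refine CfsgLib.Fusion.isNormal_of_le_centricRadical hS hFs htop fun P hc hr => ?_
    refine CfsgLib.Fusion.le_centricRadical_of_series hS htop 2
      (fun i => if i = 0 then ⊥ else if i = 1 then Z else T) rfl rfl ?_ ?_ ?_ hc hr
    · intro i hi
      interval_cases i
      · exact bot_le
      · exact inf_le_left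
    · intro i hi
      interval_cases i
      · show ⁅Z, T⁆ ≤ ⊥
        rw [le_bot_iff, Subgroup.commutator_eq_bot_iff_le_centralizer]
        exact inf_le_right
      · exact hcl
    · intro i hi
      interval_cases i
      · exact CfsgLib.Fusion.StronglyClosed.weaklyClosed hbot
      · exact CfsgLib.Fusion.StronglyClosed.weaklyClosed hZF
  refine ⟨fun P φ hφ => ?_, le_antisymm (CfsgLib.Fusion.core_le F)
    (CfsgLib.Fusion.IsNormal.le_core hSN)⟩
  obtain ⟨g', hg', hgx, hgT⟩ := (CfsgLib.Fusion.isNormal_iff.1 hSN).2 P _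
    (CfsgLib.Fusion.isMap_of_hom hφ)
  have hP : P ≤ T := hφ.1
  obtain ⟨-, -, g, -, hgg⟩ := (hsys.2 _ _).1 hg'
  refine ⟨g, ?_, fun x => ?_⟩
  · refine Subgroup.mem_normalizer_fintype fun y hy => ?_
    show g * y * g⁻¹ ∈ T
    rw [← hgg y (Subgroup.mem_sup_right hy)]
    exact hgT.le ((hg'.mono le_sup_right).apply_mem_img hy)
  · rw [← CfsgLib.Fusion.toFun_apply φ x, ← hgx x x.2]
    exact hgg x (Subgroup.mem_sup_left x.2)

end Cfsg.Agent.S5107
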