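import Cfsg.Statements.S5114
import Cfsg.Agent.Lib.Fusion.FrattiniIndex

set_option autoImplicit false
open Cfsg

namespace Cfsg.Agent.S5114

/-- Let F be a saturated fusion system over a finite p-group S and E a fusion system over S contained in F. If Aut_E(P) contains the subgroup of Aut_F(P) generated by its elements of p-power order for every subgroup P that is centric in F, then the same holds for every subgroup of S (E has index prime to p in F), every map of F with source a subgroup P of S is an element of Aut_F(S) composed with a map of E, and a subgroup is centric in E exactly when it is centric in F. -/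
theorem result {Ω : Type*} [Group Ω] {S : Subgroup Ω} [Finite S] (p : ℕ) [Fact p.Prime] (hS : IsPGroup p S) (F : Cfsg.FusionSystem S) (hF : F.IsSaturated p) (E : Cfsg.FusionSystem S) (hEF : E.IsSubsystemOf F) (h : ∀ P : Subgroup Ω, F.IsCentric P → (Subgroup.closure {α : ↥(F.autGroup P) | ∃ k : ℕ, orderOf α = p ^ k}).map (F.autGroup P).subtype ≤ E.autGroup P) : E.HasPrimeToPIndexIn F p ∧ (∀ (P : Subgroup Ω) (φ : P →* Ω), φ ∈ F.Hom P → ∃ α ∈ F.autGroup S, ∃ φ₀ ∈ E.Hom P, ∀ (x : P) (hx : φ₀ x ∈ S), φ x = ((α ⟨φ₀ x, hx⟩ : S) : Ω)) ∧ ∀ P : Subgroup Ω, E.IsCentric P ↔ F.IsCentric P := by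
  have hgen : CfsgLib.Fusion.genSys F p ≤ E := CfsgLib.Fusion.genSys_le_of h
  refine ⟨⟨hEF, fun P hP => ?_⟩, fun P φ hφ => ?_, fun P => ⟨fun hc => ?_, fun hc => ?_⟩⟩
  · refine (CfsgLib.Fusion.pGenAut_le_genSys hS hF hP).trans fun α hα => ?_
    exact (CfsgLib.Fusion.autGroup_mem_iff hP).2
      (hgen P ((CfsgLib.Fusion.autGroup_mem_iff hP).1 hα))
  · obtain ⟨α, hα, g, hg, hgx⟩ :=
      CfsgLib.Fusion.exists_frattini hS hF (CfsgLib.Fusion.isMap_of_hom hφ)
    refine ⟨α, hα, hg.toHom, hgen P hg.toHom_mem, fun x hx => ?_⟩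
    rw [← CfsgLib.Fusion.toFun_apply φ x, hgx x x.2, CfsgLib.Fusion.autFun_apply α (hg.mem x.2)]
    rfl
  · refine ⟨hc.1, fun Q hQ a ha => ?_⟩
    obtain ⟨f, hf, rfl⟩ := CfsgLib.Fusion.isConj_iff.1 hQ
    obtain ⟨α, hα, g, hg, hgx⟩ := CfsgLib.Fusion.exists_frattini hS hF hf
    have hm := CfsgLib.Fusion.isMap_autFun (T := S) le_rfl hα
    have hg' : CfsgLib.Fusion.IsMap E P g := ⟨hg.toHom, hgen P hg.toHom_mem, fun _ => rfl⟩
    have hb : CfsgLib.Fusion.autFun α⁻¹ a ∈
        Cfsg.FusionSystem.centralizerIn S (CfsgLib.Fusion.img P g) := by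
      refine ⟨CfsgLib.Fusion.autFun_mem _ ha.1, fun y hy => ?_⟩
      have hyS := hg.img_le hy
      obtain ⟨x, hx, rfl⟩ := hg.mem_img.1 hy
      have h1 := ha.2 (f x) (hf.apply_mem_img hx)
      rw [hgx x hx] at h1
      have hm' := CfsgLib.Fusion.isMap_autFun (T := S) le_rfl (inv_mem hα)
      have h2 := congrArg (CfsgLib.Fusion.autFun α⁻¹) h1
      rw [hm'.map_mul (CfsgLib.Fusion.autFun_mem α hyS) ha.1,
        hm'.map_mul ha.1 (CfsgLib.Fusion.autFun_mem α hyS),
        CfsgLib.Fusion.autFun_inv_apply α hyS] at h2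
      exact h2
    obtain ⟨x, hx, hxa⟩ := hg.mem_img.1 (hc.2 _ hg'.isConj hb)
    have hax : f x = a := by rw [hgx x hx, hxa, CfsgLib.Fusion.autFun_apply_inv α ha.1]
    rw [← hax]
    exact hf.apply_mem_img hx
  · exact ⟨hc.1, fun Q hQ => hc.2 Q (by
      obtain ⟨φ, hφ, hr⟩ := hQ
      exact ⟨φ, hEF P hφ, hr⟩)⟩

end Cfsg.Agent.S5114
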