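import Cfsg.Statements.S5119
import Cfsg.Agent.Lib.Fusion.StrongInvariance

set_option autoImplicit false
open Cfsg

namespace Cfsg.Agent.S5119

/-- Let F be a saturated fusion system over a finite p-group S and E a subsystem of F over a subgroup T that is strongly closed in F. Then E is invariant in F (invariance under Aut_F(T) plus the Frattini condition) if and only if the strong invariance condition holds: for P ≤ Q ≤ T, every map φ of E from P into Q and every map ψ of F with source Q, the transported map ψ φ ψ⁻¹ on ψ(P) is a map of E. -/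
theorem result {Ω : Type*} [Group Ω] {S : Subgroup Ω} [Finite S] (p : ℕ) [Fact p.Prime] (hS : IsPGroup p S) (F : Cfsg.FusionSystem S) (hF : F.IsSaturated p) {T : Subgroup Ω} (E : Cfsg.FusionSystem T) (hE : E.IsSubsystemOf F) (hT : F.StronglyClosed T) : E.IsInvariantIn F ↔ ∀ (P Q : Subgroup Ω) (hPQ : P ≤ Q) (_ : Q ≤ T) (φ : P →* Ω) (_ : φ ∈ E.Hom P) (hφQ : ∀ x : P, φ x ∈ Q) (ψ : Q →* Ω) (_ : ψ ∈ F.Hom Q), ∃ χ ∈ E.Hom ((P.subgroupOf Q).map ψ), ∀ (x : P) (hx : ψ (Subgroup.inclusion hPQ x) ∈ (P.subgroupOf Q).map ψ), χ ⟨ψ (Subgroup.inclusion hPQ x), hx⟩ = ψ ⟨φ x, hφQ x⟩ := by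
  have hTS : T ≤ S := hT.1
  constructor
  · intro hI P Q hPQ hQT φ hφ hφQ ψ hψ
    obtain ⟨-, -, hinv, hfr⟩ := hI
    obtain ⟨α, hα, ψ₀, hψ₀, hψx⟩ := hfr Q hQT ψ hψ
    have hm₀ := CfsgLib.Fusion.isMap_of_hom hψ₀
    obtain ⟨j, hj, hjx, hjy, -⟩ := (hm₀.mono hPQ).exists_inv
    have hφm := CfsgLib.Fusion.isMap_of_hom hφ
    have hμ := (hj.comp hφm fun y hy => (hjy y hy).1).comp hm₀ fun y hy => by
      rw [CfsgLib.Fusion.toFun_of_mem φ (hjy y hy).1]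
      exact hφQ _
    obtain ⟨k, hk, hkx⟩ :=
      CfsgLib.Fusion.IsInvariantIn.transport ⟨hE, hT, hinv, hfr⟩ hα hμ
    have hval : ∀ (x : Ω) (hx : x ∈ Q),
        ψ ⟨x, hx⟩ = CfsgLib.Fusion.autFun α (CfsgLib.Fusion.toFun ψ₀ x) := fun x hx => by
      rw [CfsgLib.Fusion.toFun_of_mem ψ₀ hx,
        CfsgLib.Fusion.autFun_apply α ((E.le_of_mem hψ₀).2 ⟨x, hx⟩)]
      exact hψx _ _
    have hle : (P.subgroupOf Q).map ψ ≤
        CfsgLib.Fusion.img (CfsgLib.Fusion.img P (CfsgLib.Fusion.toFun ψ₀))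
          (CfsgLib.Fusion.autFun α) := by
      rintro _ ⟨s, hs, rfl⟩
      rw [hval (s : Ω) s.2]
      exact ((CfsgLib.Fusion.isMap_autFun hTS hα).mono (hm₀.mono hPQ).img_le).apply_mem_img
        ((hm₀.mono hPQ).apply_mem_img hs)
    refine ⟨(hk.mono hle).toHom, (hk.mono hle).toHom_mem, fun x hx => ?_⟩
    show k (ψ ⟨x, hPQ x.2⟩) = ψ ⟨φ x, hφQ x⟩
    rw [hval _ (hPQ x.2), hkx _ ((hm₀.mono hPQ).apply_mem_img x.2)]
    show CfsgLib.Fusion.autFun α (CfsgLib.Fusion.toFun ψ₀ (CfsgLib.Fusion.toFun φ (j _))) = _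
    rw [hjx _ x.2, CfsgLib.Fusion.toFun_apply φ x, ← hval]
  · intro hstr
    have hinv : CfsgLib.Fusion.StrongInv E F := by
      intro P Q f g hPQ hQT hf hfQ hg
      obtain ⟨χ, hχ, hχx⟩ := hstr P Q hPQ hQT hf.toHom hf.toHom_mem (fun x => hfQ x x.2)
        hg.toHom hg.toHom_mem
      have he := hg.map_subgroupOf_toHom hPQ
      refine ⟨CfsgLib.Fusion.toFun χ, (CfsgLib.Fusion.isMap_of_hom hχ).mono he.ge, fun x hx => ?_⟩
      have hmem : g x ∈ (P.subgroupOf Q).map hg.toHom :=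
        he.ge ((hg.mono hPQ).apply_mem_img hx)
      rw [CfsgLib.Fusion.toFun_of_mem χ hmem]
      exact hχx ⟨x, hx⟩ hmem
    refine ⟨hE, hT, fun P hPT φ hφ α hα => ?_, fun P hP φ hφ => ?_⟩
    · obtain ⟨χ, hχ, hχx⟩ := hstr P T hPT le_rfl φ hφ (fun x => (E.le_of_mem hφ).2 x)
        (T.subtype.comp α.toMonoidHom) ((CfsgLib.Fusion.autGroup_mem_iff hTS).1 hα)
      exact ⟨χ, hχ, fun x _ hαx => hχx x hαx⟩
    · obtain ⟨α, hα, g, hg, hgx⟩ := CfsgLib.Fusion.decomposes_of_strongInv hS hF hE hT hinv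
        (Nat.card T - Nat.card P) P _ hP (CfsgLib.Fusion.isMap_of_hom hφ) le_rfl
      refine ⟨α, hα, hg.toHom, hg.toHom_mem, fun x hx => ?_⟩
      rw [← CfsgLib.Fusion.toFun_apply φ x, hgx x x.2,
        CfsgLib.Fusion.autFun_apply α (hg.mem x.2)]
      rfl

end Cfsg.Agent.S5119
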