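import Cfsg.Statements.S5125
import Cfsg.Agent.Lib.Fusion.NormalCriteria

set_option autoImplicit false
open Cfsg

namespace Cfsg.Agent.S5125

open scoped commutatorElement

/-- Let F be a saturated fusion system over a finite p-group S and Q a subgroup strongly closed in F. If Q has a subgroup Q₁ that is normal in F, with Q/Q₁ abelian and Aut_F(Q₁) a p-group, then Q is normal in F. -/
theorem result {Ω : Type*} [Group Ω] {S : Subgroup Ω} [Finite S] (p : ℕ) [Fact p.Prime] (hS : IsPGroup p S) (F : Cfsg.FusionSystem S) (hF : F.IsSaturated p) (Q Q₁ : Subgroup Ω) (hQ : F.StronglyClosed Q) (hQ₁Q : Q₁ ≤ Q) (hQ₁ : F.IsNormal Q₁) (hab : ⁅Q, Q⁆ ≤ Q₁) (hAut : IsPGroup p ↥(F.autGroup Q₁)) : F.IsNormal Q := by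
  refine CfsgLib.Fusion.isNormal_of_le_centricRadical hS hF hQ fun P hc hr => ?_
  have h1P : Q₁ ≤ P := CfsgLib.Fusion.IsNormal.le_centricRadical hS hQ₁ hc hr
  refine CfsgLib.Fusion.le_of_normalizer_inf_le hS hc.1 hQ.1
    (fun a ha => CfsgLib.Fusion.StronglyClosed.le_normalizer hQ (hc.1 ha)) fun a haQ haP => ?_
  have hsc₁ := CfsgLib.Fusion.IsNormal.stronglyClosed hQ₁
  refine CfsgLib.Fusion.mem_of_stabilizes hS hc hr (⊤ : Subgroup (F.autGroup P)) 2
    (fun k => if k = 0 then Q₁ else if k = 1 then Q else ⊤)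
    (monotone_nat_of_le_succ fun k => ?_) (fun k α hα x hx => ?_) le_top
    (fun γ _ => ?_) ⟨hQ.1 haQ, haP⟩ (fun α _ => Subgroup.mem_top _) fun k hk x hxP hx => ?_
  · match k with
    | 0 => exact hQ₁Q
    | 1 => exact le_top
    | k + 2 => exact le_rfl
  · match k, hx with
    | 0, hx =>
      have := CfsgLib.Fusion.StronglyClosed.apply_mem hsc₁
        (CfsgLib.Fusion.isMap_of_autGroup hc.1 hα) x.2 hx
      rwa [CfsgLib.Fusion.toFun_aut_apply _ x.2] at this
    | 1, hx =>
      have := CfsgLib.Fusion.StronglyClosed.apply_mem hQ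
        (CfsgLib.Fusion.isMap_of_autGroup hc.1 hα) x.2 hx
      rwa [CfsgLib.Fusion.toFun_aut_apply _ x.2] at this
    | k + 2, _ => exact Subgroup.mem_top _
  · haveI := CfsgLib.Fusion.finite_of_le hQ₁.1
    have hm := (CfsgLib.Fusion.isMap_of_autGroup hc.1 γ.2).mono h1P
    have hi : CfsgLib.Fusion.img Q₁
        (CfsgLib.Fusion.toFun (P.subtype.comp (γ : MulAut P).toMonoidHom)) = Q₁ :=
      CfsgLib.Fusion.StronglyClosed.img_eq hsc₁ hm le_rfl
    obtain ⟨k, hk⟩ := hAut ⟨_, hm.toAut_mem hi⟩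
    have hk' : hm.toAut hi ^ p ^ k = 1 := congrArg Subtype.val hk
    refine ⟨k, fun x hx => Subtype.ext ?_⟩
    have hpow : ∀ j : ℕ, ((((γ : MulAut P) ^ j) x : P) : Ω) = ((hm.toAut hi ^ j) ⟨x, hx⟩ : Q₁) := by
      intro j
      induction j with
      | zero => rfl
      | succ j ih =>
        rw [pow_succ', pow_succ', MulAut.mul_apply, MulAut.mul_apply,
          CfsgLib.Fusion.IsMap.toAut_apply, ← ih,
          CfsgLib.Fusion.toFun_aut_apply _ (SetLike.coe_mem _)]
    rw [hpow, hk']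
    rfl
  · have h1 : x⁻¹ * (a * x * a⁻¹) ∈ Q := by
      have h1 := Q.mul_mem (CfsgLib.Fusion.StronglyClosed.conj_mem hQ (S.inv_mem (hc.1 hxP)) haQ)
        (Q.inv_mem haQ)
      simpa [mul_assoc] using h1
    match k, hk, hx with
    | 0, _, hx =>
      have h := hab (Subgroup.commutator_mem_commutator (Q.inv_mem hx) haQ)
      simpa [commutatorElement_def, mul_assoc] using h
    | 1, _, _ => exact h1

end Cfsg.Agent.S5125
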