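import Cfsg.Statements.S5126
import Cfsg.Agent.Lib.Fusion.ModelMain
import Cfsg.Agent.Lib.Fusion.ModelBasic

set_option autoImplicit false
open Cfsg

namespace Cfsg.Agent.S5126

/-- In a saturated fusion system over a finite p-group S, the normalizer system of a fully normalized, centric, radical subgroup R is constrained, and in every model of that normalizer system the largest normal p-subgroup is the image of R. -/
theorem result {Ω : Type*} [Group Ω] {S : Subgroup Ω} [Finite S] (p : ℕ) [Fact p.Prime] (hS : IsPGroup p S) (F : Cfsg.FusionSystem S) (hF : F.IsSaturated p) (R : Subgroup Ω) (hRn : F.IsFullyNormalized R) (hRc : F.IsCentric R) (hRr : F.IsRadical p R) (E : Cfsg.FusionSystem (Cfsg.FusionSystem.normalizerIn S R)) (hE : F.IsNormalizerSystem R E) {G : Type*} [Group G] (ι : ↥(Cfsg.FusionSystem.normalizerIn S R) →* G) : E.IsConstrained p ∧ (E.IsModel p G ι → (Cfsg.pCore p G : Subgroup G) = (R.subgroupOf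 (Cfsg.FusionSystem.normalizerIn S R)).map ι) := by
  have hRS := hRn.1
  have hle : R ≤ Cfsg.FusionSystem.normalizerIn S R := CfsgLib.Fusion.le_normalizerIn hRS
  obtain ⟨G', hg', ι', hfin', hr', hT', -, -⟩ :=
    CfsgLib.Fusion.Model.exists_model_normalizer F hS hF hRc hRn hE
  haveI := hfin'
  have hconj : ∀ {P : Subgroup Ω} {f : Ω → Ω}, CfsgLib.Fusion.IsMap E P f →
      CfsgLib.Fusion.IsMap F P f := by
    rintro P f ⟨φ, hφ, hφf⟩
    rw [hE P] at hφ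
    exact ⟨φ, hφ.1, hφf⟩
  have hRN : E.IsNormal R := by
    refine CfsgLib.Fusion.isNormal_iff.2 ⟨hle, fun P f hf => ?_⟩
    obtain ⟨φ, hφ, hφf⟩ := hf
    rw [hE P] at hφ
    obtain ⟨hP, hv, g, hg, hgx, hgR⟩ := (CfsgLib.Fusion.mem_normalizerHom_iff hφf).1 hφ
    have hsup : P ⊔ R ≤ Cfsg.FusionSystem.normalizerIn S R := sup_le hP hle
    refine ⟨g, ⟨hg.toHom, ?_, fun x => rfl⟩, hgx, hgR⟩
    rw [hE]
    refine (CfsgLib.Fusion.mem_normalizerHom_iff fun x => rfl).2 ⟨hsup, fun x hx => ?_, g, ?_,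
      fun _ _ => rfl, hgR⟩
    · have h1 := hg.apply_mem_normalizerIn le_sup_right hx (hsup hx).2
      rwa [hgR] at h1
    · rwa [sup_eq_left.2 (le_sup_right : R ≤ P ⊔ R)]
  have hRC : E.IsCentric R := by
    refine (CfsgLib.Fusion.IsNormal.centric_iff hRN).2 fun x hx => ?_
    exact hRc.2 R (CfsgLib.Fusion.isConj_refl hRS) ⟨hx.1.1, hx.2⟩
  refine ⟨⟨CfsgLib.Fusion.isSaturated_of_realized hr' hT', R, hRN, hRC⟩, fun hG => ?_⟩
  obtain ⟨hfin, hr, ⟨T, hT⟩, hc⟩ := hG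
  haveI := hfin
  have hn : (Cfsg.pCore p G).Normal := Subgroup.sSup_normal _ fun _ hN => hN.1
  have hM : Cfsg.pCore p G ≤ ι.range := hT ▸ CfsgLib.Fusion.pCore_le_sylow T
  set U := CfsgLib.Fusion.preimage ι (Cfsg.pCore p G) with hU
  have h1 : (R.subgroupOf (Cfsg.FusionSystem.normalizerIn S R)).map ι ≤ Cfsg.pCore p G :=
    le_sSup ⟨CfsgLib.Fusion.normal_of_model hr ⟨T, hT⟩ hc hRN,
      ((hS.to_le (inf_le_left : (Cfsg.FusionSystem.normalizerIn S R) ≤ S)).to_subgroup _).map ι⟩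
  refine le_antisymm ?_ h1
  rw [← CfsgLib.Fusion.map_subgroupOf_preimage hM]
  refine Subgroup.map_mono (Subgroup.comap_mono ?_)
  -- the automorphisms of `R` induced by `U` form a normal `p`-subgroup of `Aut_F(R)`
  haveI : Finite R := CfsgLib.Fusion.finite_of_le hRS
  have hUN : U ≤ (Cfsg.FusionSystem.normalizerIn S R) := CfsgLib.Fusion.preimage_le _
  have hle' : Cfsg.autInducedBy U R ≤ F.autGroup R := fun α hα => by
    obtain ⟨u, hu, hux⟩ := CfsgLib.Fusion.mem_autInducedBy_iff.1 hα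
    exact CfsgLib.Fusion.autInducedBy_le_autGroup hRS
      (CfsgLib.Fusion.mem_autInducedBy_iff.2 ⟨u, (hUN hu).1, hux⟩)
  have hp : IsPGroup p ((Cfsg.autInducedBy U R).subgroupOf (F.autGroup R)) :=
    (CfsgLib.Fusion.isPGroup_autInducedBy (hS.to_le (hUN.trans inf_le_left)) R).of_equiv
      (Subgroup.subgroupOfEquivOfLe hle').symm
  have hnorm : ((Cfsg.autInducedBy U R).subgroupOf (F.autGroup R)).Normal := by
    constructor
    rintro ⟨β, hβ⟩ hβU ⟨α, hα⟩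
    obtain ⟨u, hu, hux⟩ := CfsgLib.Fusion.mem_autInducedBy_iff.1 hβU
    have hm := CfsgLib.Fusion.isMap_of_autGroup hRS hα
    have hmE : CfsgLib.Fusion.IsMap E R (CfsgLib.Fusion.toFun (R.subtype.comp α.toMonoidHom)) := by
      refine ⟨hm.toHom, ?_, fun x => rfl⟩
      rw [hE]
      refine (CfsgLib.Fusion.mem_normalizerHom_iff fun x => rfl).2
        ⟨hle, fun x hx => hle ?_, _, ?_, fun _ _ => rfl, CfsgLib.Fusion.img_toFun_aut α⟩
      · rw [CfsgLib.Fusion.toFun_aut_apply _ hx]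
        exact (α ⟨x, hx⟩).2
      · rwa [sup_idem]
    obtain ⟨g, hg⟩ := CfsgLib.Fusion.realized_exists_elem hr hmE
    obtain ⟨huN, huι⟩ := CfsgLib.Fusion.mem_preimage.1 hu
    have h2 := hn.conj_mem _ huι g
    obtain ⟨v, hv⟩ := hM h2
    refine CfsgLib.Fusion.mem_autInducedBy_iff.2 ⟨v, CfsgLib.Fusion.mem_preimage.2
      ⟨v.2, by rw [← hv] at h2; exact h2⟩, fun x => ?_⟩
    set y : R := α⁻¹ x with hy
    have hxy : α y = x := by rw [hy]; exact MulAut.apply_inv_self R α x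
    have key : ∀ w : R, ∃ (hw : (w : Ω) ∈ (Cfsg.FusionSystem.normalizerIn S R)) (hw' : ((α w : R) : Ω) ∈ (Cfsg.FusionSystem.normalizerIn S R)),
        ι ⟨((α w : R) : Ω), hw'⟩ = g * ι ⟨w, hw⟩ * g⁻¹ := fun w => by
      refine ⟨hle w.2, hle (α w).2, ?_⟩
      have h3 := hg w w.2 (hle w.2)
        (by rw [CfsgLib.Fusion.toFun_aut_apply _ w.2]; exact hle (α w).2)
      simp only [CfsgLib.Fusion.toFun_aut_apply _ w.2] at h3
      exact h3
    obtain ⟨hy1, hy2, ey⟩ := key y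
    obtain ⟨hz1, hz2, ez⟩ := key (β y)
    show ((α (β (α⁻¹ x)) : R) : Ω) = (v : Ω) * x * (v : Ω)⁻¹
    rw [← hy, ← hxy]
    refine congrArg Subtype.val (hr.1 (a₂ := v * ⟨_, hy2⟩ * v⁻¹) (ez.trans ?_))
    rw [map_mul, map_mul, map_inv, hv, ey,
      show (⟨((β y : R) : Ω), hz1⟩ : (Cfsg.FusionSystem.normalizerIn S R)) = ⟨u, huN⟩ * ⟨y, hy1⟩ * ⟨u, huN⟩⁻¹ from
        Subtype.ext (hux y), map_mul, map_mul, map_inv]
    group
  intro u hu
  haveI : Finite ↥(Cfsg.FusionSystem.normalizerIn S R) := CfsgLib.Fusion.finite_of_le inf_le_left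
  have hcore : (Cfsg.autInducedBy U R).subgroupOf (F.autGroup R) ≤
      Cfsg.pCore p (F.autGroup R) := le_sSup ⟨hnorm, hp⟩
  have hcu : R.normalizerMonoidHom ⟨u, (hUN hu).2⟩ ∈ Cfsg.Inn R := by
    rw [← hRr.2]
    have h3 : R.normalizerMonoidHom ⟨u, (hUN hu).2⟩ ∈ Cfsg.autInducedBy U R :=
      CfsgLib.Fusion.mem_autInducedBy_iff.2 ⟨u, hu, fun x => rfl⟩
    exact ⟨⟨_, hle' h3⟩, hcore h3, rfl⟩
  obtain ⟨r, hr'⟩ := hcu
  have h4 : (r : Ω)⁻¹ * u ∈ Cfsg.FusionSystem.centralizerIn S R := by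
    refine ⟨S.mul_mem (S.inv_mem (hRS r.2)) (hUN hu).1, fun x hx => ?_⟩
    have h5 : (r : Ω) * x * (r : Ω)⁻¹ = u * x * u⁻¹ :=
      congrArg (fun a : MulAut R => ((a ⟨x, hx⟩ : R) : Ω)) hr'
    calc x * ((r : Ω)⁻¹ * u) = (r : Ω)⁻¹ * ((r : Ω) * x * (r : Ω)⁻¹) * u := by group
      _ = (r : Ω)⁻¹ * u * x := by rw [h5]; group
  have h6 := R.mul_mem r.2 (hRc.2 R (CfsgLib.Fusion.isConj_refl hRS) h4)
  simpa using h6

end Cfsg.Agent.S5126
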