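import Cfsg.Statements.S5130
import Cfsg.Agent.Lib.Comp.FactorRestrict
-- import your own Cfsg.Agent.* helpers here

set_option autoImplicit false
open Cfsg

namespace Cfsg.Agent.S5130

open Cfsg Cfsg.FusionSystem Subgroup CfsgLib.Fusion CfsgLib.Comp.Fus

set_option linter.style.haveILetI false
set_option linter.unusedVariables false

/-- Let F be a saturated fusion system over a finite p-group S that is the direct product of two subgroups S₁ and S₂, each strongly closed in F. Let R be the full subsystem of F over S₁ (all maps of F between subgroups of S₁) and R′ the subsystem over S₁ of those maps that extend to the subgroup generated with S₂ fixing S₂ elementwise. Then R and R′ are saturated, R′ is normal in F and in R, and R is weakly normal in F. -/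
theorem result {Ω : Type*} [Group Ω] {S : Subgroup Ω} [Finite S] (p : ℕ) [Fact p.Prime] (hS : IsPGroup p S) (F : Cfsg.FusionSystem S) (hF : F.IsSaturated p) (S₁ S₂ : Subgroup Ω) (hprod : Cfsg.IsInternalDirectProduct S₁ S₂ S) (h₁ : F.StronglyClosed S₁) (h₂ : F.StronglyClosed S₂) (R R' : Cfsg.FusionSystem S₁) (hR : ∀ P : Subgroup Ω, P ≤ S₁ → R.Hom P = F.Hom P) (hR' : ∀ P : Subgroup Ω, P ≤ S₁ → R'.Hom P = F.centralizerHom S₂ P) : R.IsSaturated p ∧ R'.IsSaturated p ∧ R'.IsNormalIn F p ∧ R'.IsNormalIn R p ∧ R.IsWeaklyNormalIn F p := by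
  haveI := finite_of_le h₁.1
  have hprod' : IsInternalDirectProduct S₂ S₁ S :=
    ⟨hprod.2.1, hprod.1, fun a ha b hb => (hprod.2.2.1 b hb a ha).symm,
      by rw [inf_comm]; exact hprod.2.2.2.1, by rw [sup_comm]; exact hprod.2.2.2.2⟩
  -- the centralizer system of `S₂`
  set C := centralizerSys F S₂ h₂.1 with hCdef
  have hC : F.IsCentralizerSystem S₂ C := isCentralizerSystem_centralizerSys F S₂ h₂.1
  have hfc : F.IsFullyCentralized S₂ := ⟨h₂.1, fun Q hQ => by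
    obtain ⟨f, hf, rfl⟩ := CfsgLib.Fusion.isConj_iff.1 hQ
    rw [StronglyClosed.img_eq h₂ hf le_rfl]⟩
  have hCsat : C.IsSaturated p := isSaturated_centralizerSystem hS hF hfc hC
  have hS₁C : S₁ ≤ centralizerIn S S₂ := fun a ha =>
    ⟨h₁.1 ha, fun b hb => (hprod.2.2.1 a ha b hb).symm⟩
  have hprodC : IsInternalDirectProduct S₁ (S₂ ⊓ centralizerIn S S₂) (centralizerIn S S₂) := by
    refine ⟨hS₁C, inf_le_right, fun a ha b hb => hprod.2.2.1 a ha b hb.1, ?_,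
      le_antisymm (sup_le hS₁C inf_le_right) fun x hx => ?_⟩
    · rw [← le_bot_iff]
      exact (inf_le_inf_left _ inf_le_left).trans hprod.2.2.2.1.le
    · obtain ⟨a, ha, b, hb, rfl⟩ := mem_prod_iff hprod hx.1
      exact Subgroup.mul_mem_sup ha
        ⟨hb, ((centralizerIn S S₂).mul_mem_cancel_left (hS₁C ha)).1 hx⟩
  haveI : Finite (centralizerIn S S₂) := finite_of_le inf_le_left
  have hS₁c : C.StronglyClosed S₁ := stronglyClosed_iff.2 ⟨hS₁C, fun X f hX hf x hx => by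
    obtain ⟨-, -, g, hg, hgx, -⟩ := (isMap_centralizerSystem_iff hC).1 hf
    rw [← hgx x hx]
    exact StronglyClosed.apply_mem h₁ hg (mem_sup_left hx) (hX hx)⟩
  have hCS : IsPGroup p (centralizerIn S S₂) := isPGroup_of_le hS inf_le_left
  have hRC : ∀ P : Subgroup Ω, P ≤ S₁ → R'.Hom P = C.Hom P := fun P hP => (hR' P hP).trans (hC P).symm
  have hRsat : R.IsSaturated p := isSaturated_restrict_factor hS hF hprod h₁ hR
  have hR'sat : R'.IsSaturated p := isSaturated_restrict_factor hCS hCsat hprodC hS₁c hRC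
  -- maps of `R'`
  have hR'iff : ∀ P f, IsMap R' P f ↔ P ≤ S₁ ∧ (∀ x ∈ P, f x ∈ S₁) ∧
      ∃ g, IsMap F (P ⊔ S₂) g ∧ (∀ x ∈ P, g x = f x) ∧ ∀ x ∈ S₂, g x = x := by
    intro P f
    rw [isMap_restrict_iff hRC, isMap_centralizerSystem_iff hC]
    constructor
    · rintro ⟨hP, -, -, g, hg, hgx, hgs⟩
      exact ⟨hP, fun x hx => hgx x hx ▸ StronglyClosed.apply_mem h₁ hg (mem_sup_left hx) (hP hx),
        g, hg, hgx, hgs⟩
    · rintro ⟨hP, hv, g, hg, hgx, hgs⟩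
      exact ⟨hP, hP.trans hS₁C, fun x hx => hS₁C (hv x hx), g, hg, hgx, hgs⟩
  have hsubF : R'.IsSubsystemOf F := isSubsystemOf_iff.2 fun P f hf => by
    obtain ⟨-, -, g, hg, hgx, -⟩ := (hR'iff P f).1 hf
    exact (hg.mono le_sup_left).congr hgx
  have hsubR : R.IsSubsystemOf F := isSubsystemOf_iff.2 fun P f hf =>
    ((isMap_restrict_iff hR).1 hf).2
  have hsubR' : R'.IsSubsystemOf R := isSubsystemOf_iff.2 fun P f hf =>
    (isMap_restrict_iff hR).2 ⟨hf.le, isSubsystemOf_iff.1 hsubF P f hf⟩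
  have hscR : R.StronglyClosed S₁ := ⟨le_rfl, fun X _ φ hφ x => (R.le_of_mem hφ).2 x⟩
  -- transport
  have hinv : ∀ a, IsMap F S₁ a → ∀ P f, IsMap R' P f →
      ∃ g, IsMap R' (img P a) g ∧ ∀ x ∈ P, g (a x) = a (f x) := by
    intro a ha P f hf
    obtain ⟨hP, hv, g, hg, hgx, hgs⟩ := (hR'iff P f).1 hf
    obtain ⟨A, hA, hAa, hAS⟩ := exists_extend_factor hS hF hprod h₁ h₂ ha le_rfl
    have hAm : ∀ x ∈ P ⊔ S₂, g x ∈ S₁ ⊔ S₂ := fun x hx => hprod.2.2.2.2.symm ▸ hg.mem hx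
    obtain ⟨k, hk, hkA, -, -⟩ := (hA.mono (sup_le_sup_right hP S₂)).exists_inv
    have hle : img P a ⊔ S₂ ≤ img (P ⊔ S₂) A := by
      refine sup_le (fun y hy => ?_) fun y hy => img_mono le_sup_right (hAS.ge hy)
      obtain ⟨x, hx, rfl⟩ := (ha.mono hP).mem_img.1 hy
      rw [← hAa x (hP hx)]
      exact (hA.mono (sup_le_sup_right hP S₂)).apply_mem_img (mem_sup_left hx)
    have hk' := hk.mono hle
    have hkm : ∀ y ∈ img P a ⊔ S₂, k y ∈ P ⊔ S₂ := fun y hy => by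
      obtain ⟨x, hx, rfl⟩ := (hA.mono (sup_le_sup_right hP S₂)).mem_img.1 (hle hy)
      rw [hkA x hx]
      exact hx
    have hK := (hk'.comp hg hkm).comp hA fun y hy => hAm _ (hkm y hy)
    have hval : ∀ x ∈ P, A (g (k (a x))) = a (f x) := fun x hx => by
      rw [← hAa x (hP hx), hkA x (mem_sup_left hx), hgx x hx, hAa _ (hv x hx)]
    refine ⟨_, (hR'iff _ _).2 ⟨fun y hy => ?_, fun y hy => ?_, _, hK, fun y hy => rfl,
      fun y hy => ?_⟩, hval⟩
    · obtain ⟨x, hx, rfl⟩ := (ha.mono hP).mem_img.1 hy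
      exact StronglyClosed.apply_mem h₁ ha (hP hx) (hP hx)
    · obtain ⟨x, hx, rfl⟩ := (ha.mono hP).mem_img.1 hy
      show A (g (k (a x))) ∈ S₁
      rw [hval x hx]
      exact StronglyClosed.apply_mem h₁ ha (hv x hx) (hv x hx)
    · show A (g (k y)) = y
      obtain ⟨z, hz, rfl⟩ := (hA.mono le_sup_right).mem_img.1 (hAS.ge hy)
      rw [hkA z (mem_sup_right hz), hgs z hz]
  -- Frattini
  have hfrat : ∀ P f, P ≤ S₁ → IsMap F P f →
      ∃ a, IsMap F S₁ a ∧ ∃ g, IsMap R' P g ∧ ∀ x ∈ P, f x = a (g x) := by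
    intro P f hP hf
    obtain ⟨g, hg, hgx, hgS⟩ := exists_extend_factor hS hF hprod h₁ h₂ hf hP
    obtain ⟨b, hb, hbg, hbS⟩ :=
      exists_extend_factor hS hF hprod' h₂ h₁ (hg.mono le_sup_right) le_rfl
    rw [sup_comm, hprod.2.2.2.2] at hb
    obtain ⟨c, hc, hcb, -, -⟩ := hb.exists_inv
    have hbi : img S b = S := eq_of_le_of_card_le hb.img_le hb.card_img.ge
    rw [hbi] at hc
    have hbc : ∀ y ∈ S, b (c y) = y := fun y hy => by
      obtain ⟨x, hx, rfl⟩ := hb.mem_img.1 (hbi.ge hy)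
      rw [hcb x hx]
    have hG := hg.comp hc fun x hx => hg.mem hx
    have hcS₁ : ∀ y ∈ S₁, c y ∈ S₁ := fun y hy =>
      StronglyClosed.apply_mem h₁ hc (h₁.1 hy) hy
    refine ⟨b, hb.mono h₁.1, fun x => c (g x), (hR'iff _ _).2 ⟨hP, fun x hx => ?_, _, hG,
      fun x hx => rfl, fun x hx => ?_⟩, fun x hx => ?_⟩
    · exact hcS₁ _ (StronglyClosed.apply_mem h₁ hg (mem_sup_left hx) (hP hx))
    · show c (g x) = x
      rw [← hbg x hx, hcb x (h₂.1 hx)]
    · rw [hbc _ (hg.mem (mem_sup_left hx)), hgx x hx]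
  refine ⟨hRsat, hR'sat, ?_, ?_, hRsat, hF, ?_⟩
  · refine isNormalIn_iff.2 ⟨⟨hR'sat, hF, isInvariantIn_iff.2 ⟨hsubF, h₁, hinv, hfrat⟩⟩,
      fun a ha => ?_⟩
    obtain ⟨-, hv, g, hg, hgx, hgs⟩ := (hR'iff _ _).1 ha
    have hTC : S₁ ⊔ centralizerIn S S₁ = S₁ ⊔ S₂ := by
      refine le_antisymm (sup_le le_sup_left fun x hx => hprod.2.2.2.2.symm ▸ hx.1)
        (sup_le le_sup_left fun x hx => mem_sup_right
          ⟨h₂.1 hx, fun y hy => hprod.2.2.1 y hy x hx⟩)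
    refine ⟨g, hTC ▸ hg, hgx, fun c hc => ?_⟩
    obtain ⟨u, hu, v, hv', rfl⟩ := mem_prod_iff hprod hc.1
    have hucen : u ∈ centralizer (S₁ : Set Ω) := fun y hy => by
      have h3 : y * (u * v) = u * v * y := hc.2 y hy
      rw [← mul_assoc, mul_assoc u v y, ← hprod.2.2.1 y hy v hv', ← mul_assoc] at h3
      exact mul_right_cancel h3
    have haz : a u ∈ centralizer (S₁ : Set Ω) := fun y hy => by
      have hi : img S₁ a = S₁ := eq_of_le_of_card_le ha.img_le ha.card_img.ge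
      obtain ⟨x, hx, rfl⟩ := ha.mem_img.1 (hi.ge hy)
      rw [← ha.map_mul hx hu, ← ha.map_mul hu hx, hucen x hx]
    rw [hg.map_mul (mem_sup_left hu) (mem_sup_right hv'), hgx u hu, hgs v hv', mul_inv_rev]
    have e : v⁻¹ * u⁻¹ * (a u * v) = u⁻¹ * a u := by
      rw [← mul_assoc (v⁻¹ * u⁻¹), mul_assoc v⁻¹,
        ← hprod'.2.2.1 v⁻¹ (S₂.inv_mem hv') _ (S₁.mul_mem (S₁.inv_mem hu) (hv u hu)) |>.symm]
      group
    rw [e]
    exact ⟨S₁.mul_mem (S₁.inv_mem hu) (hv u hu),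
      (centralizer _).mul_mem ((centralizer _).inv_mem hucen) haz⟩
  · refine isNormalIn_iff.2 ⟨⟨hR'sat, hRsat, isInvariantIn_iff.2 ⟨hsubR', hscR,
      fun a ha => hinv a ((isMap_restrict_iff hR).1 ha).2, fun P f hP hf => ?_⟩⟩, fun a ha => ?_⟩
    · obtain ⟨a, ha, g, hg, hx⟩ := hfrat P f hP ((isMap_restrict_iff hR).1 hf).2
      exact ⟨a, (isMap_restrict_iff hR).2 ⟨le_rfl, ha⟩, g, hg, hx⟩
    · have haR : IsMap R S₁ a := isSubsystemOf_iff.1 hsubR' _ _ ha
      have hTC : S₁ ⊔ centralizerIn S₁ S₁ = S₁ := sup_eq_left.2 inf_le_left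
      refine ⟨a, by rw [hTC]; exact haR, fun x hx => rfl, fun c hc =>
        ⟨S₁.mul_mem (S₁.inv_mem hc.1) (haR.mem hc.1),
          (centralizer _).mul_mem ((centralizer _).inv_mem hc.2) fun y hy => ?_⟩⟩
      have hi : img S₁ a = S₁ := eq_of_le_of_card_le haR.img_le haR.card_img.ge
      obtain ⟨x, hx, rfl⟩ := haR.mem_img.1 (hi.ge hy)
      rw [← haR.map_mul hx hc.1, ← haR.map_mul hc.1 hx, hc.2 x hx]
  · refine isInvariantIn_iff.2 ⟨hsubR, h₁, fun a ha P f hf => ?_, fun P f hP hf =>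
      ⟨id, isMap_id F h₁.1, f, (isMap_restrict_iff hR).2 ⟨hP, hf⟩, fun x _ => rfl⟩⟩
    obtain ⟨hP, hfF⟩ := (isMap_restrict_iff hR).1 hf
    obtain ⟨k, hk, hka, -, -⟩ := (ha.mono hP).exists_inv
    have hkm : ∀ y ∈ img P a, k y ∈ P := fun y hy => by
      obtain ⟨x, hx, rfl⟩ := (ha.mono hP).mem_img.1 hy
      rw [hka x hx]
      exact hx
    have hK := (hk.comp hfF hkm).comp ha fun y hy =>
      StronglyClosed.apply_mem h₁ hfF (hkm y hy) (hP (hkm y hy))
    refine ⟨_, (isMap_restrict_iff hR).2 ⟨fun y hy => ?_, hK⟩, fun x hx => ?_⟩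
    · obtain ⟨x, hx, rfl⟩ := (ha.mono hP).mem_img.1 hy
      exact StronglyClosed.apply_mem h₁ ha (hP hx) (hP hx)
    · show a (f (k (a x))) = a (f x)
      rw [hka x hx]

end Cfsg.Agent.S5130
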