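import Cfsg.Statements.S5135
import Cfsg.Agent.Lib.Fusion.QuotientLift

set_option autoImplicit false
open Cfsg

namespace Cfsg.Agent.S5135

/-- Let G be a finite group, S a Sylow p-subgroup and H a normal subgroup of G. Then the fusion system of G/H on the image SH/H of S is the factor system of the fusion system of G on S modulo S ∩ H, read through the quotient map restricted to S: for each subgroup P' of SH/H, the conjugation maps by elements of G/H defined on P' with values in SH/H are exactly the homomorphisms induced by the conjugation maps by elements of G defined on the full preimage of P' in S with values in S. -/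
theorem result {G : Type*} [Group G] [Finite G] (p : ℕ) [Fact p.Prime] (S : Sylow p G) (H : Subgroup G) [H.Normal] : (Cfsg.groupFusionSystem (S : Subgroup G)).IsFactorSystem ((S : Subgroup G) ⊓ H) ((QuotientGroup.mk' H).comp (S : Subgroup G).subtype) (Cfsg.groupFusionSystem ((S : Subgroup G).map (QuotientGroup.mk' H))) := by
  refine ⟨inf_le_left, fun s => ?_, ?_, fun P' φ' => ?_⟩
  · rw [MonoidHom.comp_apply]
    exact (QuotientGroup.eq_one_iff _).trans ⟨fun h => ⟨s.2, h⟩, fun h => h.2⟩
  · rw [MonoidHom.range_eq_map, ← Subgroup.map_map, ← MonoidHom.range_eq_map,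
      Subgroup.range_subtype]
  constructor
  · rintro ⟨hP', hval, γ, hγ⟩
    set θ := (QuotientGroup.mk' H).comp (S : Subgroup G).subtype with hθ
    set Q := Cfsg.FusionSystem.preimageAlong θ P' with hQ
    have hQS : Q ≤ (S : Subgroup G) := CfsgLib.Fusion.preimageAlong_le
    have hmem : ∀ x ∈ Q, QuotientGroup.mk' H x ∈ P' := fun x hx =>
      (CfsgLib.Fusion.mem_preimageAlong.1 hx).2
    obtain ⟨g, hgγ, hg⟩ := CfsgLib.Fusion.exists_lift_conj_quotient S H hQS γ fun x hx => by
      rw [← hγ ⟨_, hmem x hx⟩]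
      exact hval _
    refine ⟨hP', Cfsg.conjHom Q g, ⟨hQS, fun x => hg x x.2, g, fun x => rfl⟩, hQS,
      fun x => hg x x.2, fun x => hmem x x.2, fun x => ?_⟩
    rw [hγ]
    show γ * QuotientGroup.mk' H (x : G) * γ⁻¹ = QuotientGroup.mk' H (g * x * g⁻¹)
    rw [map_mul, map_mul, map_inv, hgγ]
  · rintro ⟨hP', φ, ⟨hQS, -, g, hg⟩, hind⟩
    have hlift : ∀ y : P', ∃ (s : G) (hs : s ∈ (S : Subgroup G))
        (h1 : s ∈ Cfsg.FusionSystem.preimageAlong
          ((QuotientGroup.mk' H).comp (S : Subgroup G).subtype) P'),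
        QuotientGroup.mk' H s = y ∧ φ' y = QuotientGroup.mk' H (φ ⟨s, h1⟩) ∧
        φ ⟨s, h1⟩ ∈ (S : Subgroup G) := by
      intro y
      obtain ⟨s, hs, hsy⟩ := hP' y.2
      have h1 : s ∈ Cfsg.FusionSystem.preimageAlong
          ((QuotientGroup.mk' H).comp (S : Subgroup G).subtype) P' :=
        CfsgLib.Fusion.mem_preimageAlong.2 ⟨hs, show QuotientGroup.mk' H s ∈ P' from hsy ▸ y.2⟩
      have h2 : φ ⟨s, h1⟩ ∈ (S : Subgroup G) := by
        obtain ⟨-, hφS, -, -⟩ := hind
        exact hφS _
      refine ⟨s, hs, h1, hsy, ?_, h2⟩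
      have h3 := CfsgLib.Fusion.inducedAlong_apply hind h1 hs h2
        (show QuotientGroup.mk' H s ∈ P' from hsy ▸ y.2)
      exact (congrArg φ' (Subtype.ext hsy.symm)).trans h3
    refine ⟨hP', fun y => ?_, QuotientGroup.mk' H g, fun y => ?_⟩
    · obtain ⟨s, hs, h1, hsy, heq, h2⟩ := hlift y
      exact ⟨_, h2, heq.symm⟩
    · obtain ⟨s, hs, h1, hsy, heq, h2⟩ := hlift y
      rw [heq, hg, ← hsy, map_mul, map_mul, map_inv]

end Cfsg.Agent.S5135
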