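import Cfsg.Statements.S5138
import Cfsg.Agent.Lib.Comp.CommutingNormal
-- import your own Cfsg.Agent.* helpers here

set_option autoImplicit false
open Cfsg

namespace Cfsg.Agent.S5138

open Cfsg Cfsg.FusionSystem Subgroup CfsgLib.Fusion CfsgLib.Comp.Fus CfsgLib.Comp.CProd

set_option linter.style.haveILetI false
set_option linter.unusedVariables false

/-- Let F be a saturated fusion system over a finite p-group S and E₁, E₂ normal subsystems over T₁, T₂ with [T₁, T₂] = 1. Then there is a normal subsystem of F over T₁T₂ which, if moreover T₁ ∩ T₂ lies in the centre of E₁ and in the centre of E₂, is a central product of E₁ and E₂ (the factor system of a direct product of E₁ and E₂ modulo a subgroup of its centre meeting both factors trivially). -/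
theorem result {Ω : Type*} [Group Ω] {S : Subgroup Ω} [Finite S] (p : ℕ) [Fact p.Prime] (hS : IsPGroup p S) (F : Cfsg.FusionSystem S) (hF : F.IsSaturated p) {T₁ T₂ : Subgroup Ω} (E₁ : Cfsg.FusionSystem T₁) (E₂ : Cfsg.FusionSystem T₂) (hE₁ : E₁.IsNormalIn F p) (hE₂ : E₂.IsNormalIn F p) (hc : ⁅T₁, T₂⁆ = ⊥) : ∃ D : Cfsg.FusionSystem (T₁ ⊔ T₂), D.IsNormalIn F p ∧ (T₁ ⊓ T₂ ≤ E₁.center → T₁ ⊓ T₂ ≤ E₂.center → Cfsg.FusionSystem.IsCentralProductOf E₁ E₂ D) := by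
  have hcomm : ∀ a ∈ T₁, ∀ b ∈ T₂, a * b = b * a := fun a ha b hb =>
    commutatorElement_eq_one_iff_mul_comm.1
      (Subgroup.mem_bot.1 (hc ▸ Subgroup.commutator_mem_commutator ha hb))
  have h₁ : F.StronglyClosed T₁ := hE₁.1.2.2.2.1
  have h₂ : F.StronglyClosed T₂ := hE₂.1.2.2.2.1
  haveI := finite_of_le h₁.1
  haveI := finite_of_le h₂.1
  set Z := T₁ ⊓ T₂ with hZdef
  have hZ : F.StronglyClosed Z := ⟨inf_le_left.trans h₁.1, fun R hR φ hφ x => Subgroup.mem_inf.2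
    ⟨h₁.2 R (hR.trans inf_le_left) φ hφ x, h₂.2 R (hR.trans inf_le_right) φ hφ x⟩⟩
  have hc₁ : ∀ t ∈ T₁, ∀ z ∈ Z, t * z = z * t := fun t ht z hz =>
    hcomm t ht z (Subgroup.mem_inf.1 hz).2
  have hc₂ : ∀ t ∈ T₂, ∀ z ∈ Z, t * z = z * t := fun t ht z hz =>
    (hcomm z (Subgroup.mem_inf.1 hz).1 t ht).symm
  have hZ₁ : centralizerIn T₁ Z = T₁ :=
    inf_eq_left.2 fun t ht z hz => (hc₁ t ht z hz).symm
  have hZ₂ : centralizerIn T₂ Z = T₂ :=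
    inf_eq_left.2 fun t ht z hz => (hc₂ t ht z hz).symm
  have hn₁ := isNormalIn_fixPart hS hF hE₁ (inf_le_left : Z ≤ T₁) hZ hc₁ hZ₁
  have hn₂ := isNormalIn_fixPart hS hF hE₂ (inf_le_right : Z ≤ T₂) hZ hc₂ hZ₂
  have hfix₁ : ∀ (P : Subgroup Ω) (f : Ω → Ω),
      IsMap (fixPart E₁ (inf_le_left : Z ≤ T₁) hZ₁) P f →
      ∃ g, IsMap (fixPart E₁ (inf_le_left : Z ≤ T₁) hZ₁) (P ⊔ Z) g ∧ (∀ x ∈ P, g x = f x) ∧
        ∀ z ∈ Z, g z = z := fun P f hf => by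
    obtain ⟨hP, g, hg, hgx, hgz⟩ := isMap_fixPart_iff.1 hf
    exact ⟨g, isMap_fixPart_iff.2 ⟨sup_le hP inf_le_left, g, by rwa [sup_assoc, sup_idem],
      fun _ _ => rfl, hgz⟩, hgx, hgz⟩
  have hfix₂ : ∀ (P : Subgroup Ω) (f : Ω → Ω),
      IsMap (fixPart E₂ (inf_le_right : Z ≤ T₂) hZ₂) P f →
      ∃ g, IsMap (fixPart E₂ (inf_le_right : Z ≤ T₂) hZ₂) (P ⊔ Z) g ∧ (∀ x ∈ P, g x = f x) ∧
        ∀ z ∈ Z, g z = z := fun P f hf => by
    obtain ⟨hP, g, hg, hgx, hgz⟩ := isMap_fixPart_iff.1 hf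
    exact ⟨g, isMap_fixPart_iff.2 ⟨sup_le hP inf_le_right, g, by rwa [sup_assoc, sup_idem],
      fun _ _ => rfl, hgz⟩, hgx, hgz⟩
  have hD : Setup F (fixPart E₁ (inf_le_left : Z ≤ T₁) hZ₁)
      (fixPart E₂ (inf_le_right : Z ≤ T₂) hZ₂) p := ⟨hS, hF, hn₁, hn₂, hcomm, hfix₁, hfix₂⟩
  refine ⟨prodSys hD, hD.isNormalIn, fun hz₁ hz₂ => ?_⟩
  have e₁ : fixPart E₁ (inf_le_left : Z ≤ T₁) hZ₁ = E₁ := by
    refine CfsgLib.Comp.Fus.fusionSystem_ext fun P f => isMap_fixPart_iff_of_center ?_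
    refine isCentral_iff.2 ⟨inf_le_left, fun P f hf => ?_⟩
    obtain ⟨g, hg, hgx, hgz⟩ := (isCentral_iff.1 center_isCentral).2 P f hf
    exact ⟨g, hg.mono (sup_le_sup_left hz₁ P), hgx, fun z hz => hgz z (hz₁ hz)⟩
  have e₂ : fixPart E₂ (inf_le_right : Z ≤ T₂) hZ₂ = E₂ := by
    refine CfsgLib.Comp.Fus.fusionSystem_ext fun P f => isMap_fixPart_iff_of_center ?_
    refine isCentral_iff.2 ⟨inf_le_right, fun P f hf => ?_⟩
    obtain ⟨g, hg, hgx, hgz⟩ := (isCentral_iff.1 center_isCentral).2 P f hf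
    exact ⟨g, hg.mono (sup_le_sup_left hz₂ P), hgx, fun z hz => hgz z (hz₂ hz)⟩
  have key : ∀ (E : FusionSystem T₁) (E' : FusionSystem T₂) (D : FusionSystem (T₁ ⊔ T₂)),
      fixPart E₁ (inf_le_left : Z ≤ T₁) hZ₁ = E → fixPart E₂ (inf_le_right : Z ≤ T₂) hZ₂ = E' →
      IsCentralProductOf (fixPart E₁ (inf_le_left : Z ≤ T₁) hZ₁)
        (fixPart E₂ (inf_le_right : Z ≤ T₂) hZ₂) D → IsCentralProductOf E E' D := by
    rintro E E' D rfl rfl h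
    exact h
  exact key E₁ E₂ _ e₁ e₂ hD.isCentralProductOf

end Cfsg.Agent.S5138
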