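import Cfsg.Statements.S5139
import Cfsg.Agent.Lib.Fusion.ResidualSystem
import Cfsg.Agent.S5093

set_option autoImplicit false
open Cfsg

namespace Cfsg.Agent.S5139

/-- Let G be a finite group with Sylow p-subgroup S and O^p(G) the subgroup generated by the elements of order prime to p. Then the p-residual subsystem of the fusion system of G on S — the saturated subsystem of p-power index over the hyperfocal subgroup — is the fusion system of O^p(G) on S ∩ O^p(G): its maps are exactly the conjugation maps by elements of O^p(G) between subgroups of S ∩ O^p(G). -/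
theorem result {G : Type*} [Group G] [Finite G] (p : ℕ) [Fact p.Prime] (S : Sylow p G) (E : Cfsg.FusionSystem ((Cfsg.groupFusionSystem (S : Subgroup G)).hyperfocalSubgroup p)) (hE : (Cfsg.groupFusionSystem (S : Subgroup G)).IsPResidual p E) : ∃ h : (S : Subgroup G) ⊓ Cfsg.pResidual p G ≤ Cfsg.pResidual p G, ∀ P : Subgroup G, E.Hom P = (Cfsg.fusionSystemOfSubgroup (Cfsg.pResidual p G) ((S : Subgroup G) ⊓ Cfsg.pResidual p G) h).Hom P := by
  let T₀ : Subgroup G := (S : Subgroup G)
  let K := Cfsg.pResidual p G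
  let F := Cfsg.groupFusionSystem T₀
  haveI hKn : K.Normal := by
    refine ⟨fun n hn g => ?_⟩
    have : K ≤ K.comap (MulAut.conj g).toMonoidHom := by
      refine (Subgroup.closure_le _).2 fun x hx => ?_
      refine Subgroup.subset_closure ?_
      show (orderOf (MulAut.conj g x)).Coprime p
      rwa [MulEquiv.orderOf_eq]
    exact this hn
  have hcopK : ∀ x : G, (orderOf x).Coprime p → x ∈ K := fun x hx => Subgroup.subset_closure hx
  refine ⟨inf_le_right, fun P => ?_⟩
  obtain ⟨hEs, hsub, -, hidx⟩ := hE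
  have heq : F.hyperfocalSubgroup p = T₀ ⊓ K := Cfsg.Agent.S5093.result p S
  have key : ∀ (T : Subgroup G) (E' : Cfsg.FusionSystem T) (h : T ≤ K), T = T₀ ⊓ K →
      Cfsg.FusionSystem.IsSaturated E' p → Cfsg.FusionSystem.IsSubsystemOf E' F →
      (∀ Q : Subgroup G, Q ≤ T →
        (Cfsg.pResidual p (F.autGroup Q)).map (F.autGroup Q).subtype ≤ E'.autGroup Q) →
      E'.Hom P = (Cfsg.fusionSystemOfSubgroup K (T₀ ⊓ K) inf_le_right).Hom P := by
    intro T E' h hT hs hsu hi
    suffices hmain : E'.Hom P = (Cfsg.fusionSystemOfSubgroup K T h).Hom P by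
      subst hT
      exact hmain
    have hTS : T ≤ T₀ := hT.le.trans inf_le_left
    have hTp : IsPGroup p T := S.isPGroup'.to_le hTS
    have hsysF := CfsgLib.Fusion.isSystemOf_group T₀
    have hsysK := CfsgLib.Fusion.isSystemOf_subgroup K T h
    have hidxK : ¬ p ∣ T.relIndex K := by
      rw [hT]
      exact CfsgLib.Fusion.not_dvd_relIndex_inf (K := ⊤) S.isPGroup' le_top
        (by rw [Subgroup.relIndex_top_right]; exact S.not_dvd_index) le_top
        fun k _ m hm => hKn.conj_mem m hm k
    have hKs := hsysK.isSaturated hTp hidxK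
    have h1 : E' ≤ Cfsg.fusionSystemOfSubgroup K T h :=
      CfsgLib.Fusion.le_of_coprime_aut hTp hs fun Q hQ α hα hc => by
        have hα' : α ∈ F.autGroup Q :=
          (CfsgLib.Fusion.autGroup_mem_iff (hQ.trans hTS)).2
            (hsu Q ((CfsgLib.Fusion.autGroup_mem_iff hQ).1 hα))
        rw [hsysF.autGroup_eq (hQ.trans hTS)] at hα'
        obtain ⟨g, -, hg⟩ := CfsgLib.Fusion.mem_autInducedBy_iff.1 hα'
        rw [hsysK.autGroup_eq hQ]
        exact CfsgLib.Fusion.mem_autInducedBy_of_coprime hcopK hc hg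
    have h2 : Cfsg.fusionSystemOfSubgroup K T h ≤ E' :=
      CfsgLib.Fusion.le_of_coprime_aut hTp hKs fun Q hQ α hα hc => by
        rw [hsysK.autGroup_eq hQ] at hα
        obtain ⟨g, hg, hgx⟩ := CfsgLib.Fusion.mem_autInducedBy_iff.1 hα
        have hα' : α ∈ F.autGroup Q := by
          rw [hsysF.autGroup_eq (hQ.trans hTS)]
          exact CfsgLib.Fusion.mem_autInducedBy_iff.2 ⟨g, Subgroup.mem_top g, hgx⟩
        refine hi Q hQ ⟨⟨α, hα'⟩, Subgroup.subset_closure ?_, rfl⟩
        show (orderOf (⟨α, hα'⟩ : F.autGroup Q)).Coprime p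
        rwa [Subgroup.orderOf_mk]
    exact Set.Subset.antisymm (h1 P) (h2 P)
  exact key _ E (heq ▸ inf_le_right) heq hEs hsub hidx

end Cfsg.Agent.S5139
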