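import Cfsg.Statements.S5143
import Cfsg.Agent.Lib.Fusion.ProductRE.Product

set_option autoImplicit false
open Cfsg

namespace Cfsg.Agent.S5143

/-- Let F be a saturated fusion system over a finite p-group S, E a normal subsystem over T, and R a subgroup with T ≤ R ≤ S. Then there is exactly one saturated subsystem D of F over R (exactly one family of map sets) whose p-residual subsystem is that of E: the hyperfocal subgroups of D and E coincide and the p-residual subsystems of D and of E have the same maps. -/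
theorem result {Ω : Type*} [Group Ω] {S : Subgroup Ω} [Finite S] (p : ℕ) [Fact p.Prime] (hS : IsPGroup p S) (F : Cfsg.FusionSystem S) (hF : F.IsSaturated p) {T : Subgroup Ω} (E : Cfsg.FusionSystem T) (hE : E.IsNormalIn F p) (R : Subgroup Ω) (hTR : T ≤ R) (hRS : R ≤ S) : ∃ D : Cfsg.FusionSystem R, (D.IsSaturated p ∧ D.IsSubsystemOf F ∧ D.hyperfocalSubgroup p = E.hyperfocalSubgroup p ∧ ∀ (D₁ : Cfsg.FusionSystem (D.hyperfocalSubgroup p)) (E₁ : Cfsg.FusionSystem (E.hyperfocalSubgroup p)), D.IsPResidual p D₁ → E.IsPResidual p E₁ → ∀ P : Subgroup Ω, D₁.Hom P = E₁.Hom P) ∧ ∀ D' : Cfsg.FusionSystem R, D'.IsSaturated p → D'.IsSubsystemOf F → D'.hyperfocalSubgroup p = E.hyperfocalSubgroup p → (∀ (D₁ : Cfsg.FusionSystem (D'.hyperfocalSubgroup p)) (E₁ : Cfsg.FusionSystem (E.hyperfocalSubgroup p)), D'.IsPResidual p D₁ → E.IsPResidual p E₁ → ∀ P : Subgroup Ω, D₁.Hom P = E₁.Hom P) → ∀ P : Subgroup Ω, D'.Hom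 P = D.Hom P := by
  obtain ⟨⟨hEs, -, hinv⟩, -⟩ := id hE
  have hTS : T ≤ S := hinv.2.1.1
  haveI := CfsgLib.Fusion.finite_of_le hTS
  haveI := CfsgLib.Fusion.finite_of_le hRS
  have hUT : E.hyperfocalSubgroup p ≤ T := CfsgLib.Fusion.hyperfocal_le E p
  obtain ⟨E₁, hE₁, hE₁i⟩ := CfsgLib.Fusion.exists_pPowerIndex (p := p) (Nat.card T) T
    (hS.to_le hTS) E hEs (E.hyperfocalSubgroup p) hUT le_rfl (by omega)
  obtain ⟨D, hD, hDF, hDh, hDi⟩ :=
    CfsgLib.Fusion.PRE.exists_product hS hE hTR hRS rfl hE₁ hE₁i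
  refine ⟨D, ⟨hD, hDF, hDh, fun D₁ E₁' hD₁ hE₁' P => ?_⟩, fun D' hD' hD'F hD'h hres P => ?_⟩
  · have e : E₁' = E₁ := CfsgLib.Comp.Fus.pPowerIndex_unique (hS.to_le hTS) hUT hE₁'.1 hE₁
      hE₁'.2 hE₁i
    subst e
    exact CfsgLib.Fusion.PRE.residual_hom_eq hS hRS hDh (CfsgLib.Fusion.hyperfocal_le D p)
      hD₁.1 hD₁.2 hE₁ hDi P
  · obtain ⟨D₁, hD₁, hD₁i⟩ := CfsgLib.Fusion.exists_pPowerIndex (p := p) (Nat.card R) R
      (hS.to_le hRS) D' hD' (D'.hyperfocalSubgroup p) (CfsgLib.Fusion.hyperfocal_le D' p) le_rfl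
      (by omega)
    have hD'i : E₁.HasPPowerIndexIn D' p := CfsgLib.Fusion.PRE.index_of_hom_eq hD'h
      (hres D₁ E₁ ⟨hD₁, hD₁i⟩ ⟨hE₁, hE₁i⟩) hD₁i
    exact CfsgLib.Fusion.hom_eq_of_le_le
      (CfsgLib.Fusion.PRE.le_of_solutions hS hE rfl hE₁ hE₁i hRS hD' hD'F hD'h hD'i
        hD hDF hDh hDi)
      (CfsgLib.Fusion.PRE.le_of_solutions hS hE rfl hE₁ hE₁i hRS hD hDF hDh hDi
        hD' hD'F hD'h hD'i) P

end Cfsg.Agent.S5143
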