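import Cfsg.Statements.S5147
import Cfsg.Agent.Lib.Fusion.ConstrainedFactor
import Cfsg.Agent.S5135

set_option autoImplicit false
open Cfsg

namespace Cfsg.Agent.S5147

/-- Let G be a finite group with Sylow 2-subgroup S whose 2-fusion system on S is constrained, and L a component of G (a subnormal quasisimple subgroup). Then the 2-fusion system of L/Z(L) on the image of S ∩ L is constrained. -/
theorem result {G : Type*} [Group G] [Finite G] (S : Sylow 2 G) (hF : (Cfsg.groupFusionSystem (S : Subgroup G)).IsConstrained 2) (L : Subgroup G) (hL : Cfsg.IsComponent L) : (Cfsg.groupFusionSystem (((S : Subgroup G).subgroupOf L).map (QuotientGroup.mk' (Subgroup.center L)))).IsConstrained 2 := by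
  obtain ⟨j, k, hiso⟩ := CfsgLib.Fusion.exists_isIso_subgroup (S : Subgroup G) L
  obtain ⟨hidx, hc⟩ := CfsgLib.Fusion.constrained_of_subnormal S hF hL.1
  have hcon := hiso.isConstrained (hc _ (CfsgLib.Fusion.isSystemOf_subgroup L _ inf_le_right))
  obtain ⟨W, hW⟩ : ∃ W : Sylow 2 L, (W : Subgroup L) = (S : Subgroup G).subgroupOf L := by
    have h2 : ¬ 2 ∣ ((S : Subgroup G).subgroupOf L).index := by
      rw [Subgroup.inf_relIndex_right] at hidx
      exact hidx
    exact ⟨(S.isPGroup'.comap_subtype (H := (S : Subgroup G)) (K := L)).toSylow h2, rfl⟩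
  rw [← hW] at hcon ⊢
  have hfac := Cfsg.Agent.S5135.result 2 W (Subgroup.center L)
  have hsat : (Cfsg.groupFusionSystem
      ((W : Subgroup L).map (QuotientGroup.mk' (Subgroup.center L)))).IsSaturated 2 := by
    have := CfsgLib.Fusion.group_isSaturated (p := 2)
      (W.mapSurjective (f := QuotientGroup.mk' (Subgroup.center L))
        (QuotientGroup.mk'_surjective _))
    exact this
  refine CfsgLib.Fusion.isConstrained_centralFactor W.isPGroup' hcon hfac hsat
    (CfsgLib.Fusion.isCentral_iff.2 ⟨inf_le_left, fun P f hf => ?_⟩)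
  have hsys := CfsgLib.Fusion.isSystemOf_group (W : Subgroup L)
  obtain ⟨hP, hv, g, -, hgx⟩ := (hsys.2 P f).1 hf
  have hzfix : ∀ z ∈ (W : Subgroup L) ⊓ Subgroup.center L, g * z * g⁻¹ = z := fun z hz => by
    rw [Subgroup.mem_center_iff.1 hz.2 g, mul_inv_cancel_right]
  refine ⟨fun x => g * x * g⁻¹, (hsys.2 _ _).2 ⟨sup_le hP inf_le_left, ?_, g, Subgroup.mem_top g,
    fun x _ => rfl⟩, fun x hx => (hgx x hx).symm, hzfix⟩
  intro x hx
  have hle : P ⊔ (W : Subgroup L) ⊓ Subgroup.center L ≤
      (W : Subgroup L).comap (MulAut.conj g).toMonoidHom := by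
    refine sup_le (fun y hy => ?_) fun y hy => ?_
    · show g * y * g⁻¹ ∈ (W : Subgroup L)
      rw [← hgx y hy]
      exact hv y hy
    · show g * y * g⁻¹ ∈ (W : Subgroup L)
      rw [hzfix y hy]
      exact hy.1
  exact hle hx

end Cfsg.Agent.S5147
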