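import Cfsg.Statements.S5152
import Cfsg.Agent.Lib.Comp.Dichotomy

set_option autoImplicit false
open Cfsg CfsgLib.Fusion

namespace Cfsg.Agent.S5152

/-- Dichotomy for saturated fusion systems: a saturated fusion system over a finite p-group is of characteristic p-type (the normalizer system of every nontrivial fully normalized subgroup is constrained) or of component type (the centralizer system of some fully normalized subgroup of order p has a component). -/
theorem result {Ω : Type*} [Group Ω] {S : Subgroup Ω} [Finite S] (p : ℕ) [Fact p.Prime] (hS : IsPGroup p S) (F : Cfsg.FusionSystem S) (hF : F.IsSaturated p) : F.IsOfCharacteristicPType p ∨ F.IsOfComponentType p := by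
  by_contra hcon
  rw [not_or] at hcon
  refine hcon.1 fun U hU hUn E hE => ?_
  haveI : Finite U := finite_of_le hUn.1
  obtain ⟨z, hz⟩ : ∃ z : Subgroup.center U, orderOf z = p := by
    haveI : Nontrivial U := (Subgroup.nontrivial_iff_ne_bot U).2 hU
    haveI := (hS.to_le hUn.1).center_nontrivial
    refine exists_prime_orderOf_dvd_card' (G := Subgroup.center U) p ?_
    obtain ⟨n, hn, hn'⟩ := ((hS.to_le hUn.1).to_subgroup (Subgroup.center U)).nontrivial_iff_card.1
      inferInstance
    exact hn' ▸ dvd_pow_self p hn.ne'
  set x : Ω := ((z : U) : Ω) with hx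
  have hxU : x ∈ U := (z : U).2
  set X : Subgroup Ω := Subgroup.zpowers x with hX
  have hXcard : Nat.card X = p := by
    rw [hX, Nat.card_zpowers, hx, Subgroup.orderOf_coe, Subgroup.orderOf_coe, hz]
  have hXU : X ≤ U := Subgroup.zpowers_le.2 hxU
  have hUX : U ≤ Subgroup.centralizer (X : Set Ω) := by
    rintro u hu _ ⟨n, rfl⟩
    have h1 : Commute u x :=
      (congrArg Subtype.val (Subgroup.mem_center_iff.1 z.2 ⟨u, hu⟩))
    exact ((h1.zpow_right n).eq).symm
  obtain ⟨X', hXX', hX'⟩ := exists_fullyNormalized_conj F (hXU.trans hUn.1)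
  obtain ⟨φ, hφ, hφX, -⟩ := exists_map_normalizerIn_of_fullyNormalized hS hF hX' hXX'
  have hC := isCentralizerSystem_centralizerSys F X' hX'.1
  refine CfsgLib.Comp.Dich.constrained_normalizer hS hF hUn hE hXU hUX hX' hφ hφX hC ?_
  haveI : Finite ↥(Cfsg.FusionSystem.centralizerIn S X') := finite_of_le inf_le_left
  rw [CfsgLib.Comp.CC.constrained_iff_no_component (S := Cfsg.FusionSystem.centralizerIn S X')
    (hS.to_le inf_le_left)
    (isSaturated_centralizerSystem hS hF (fullyCentralized_of_fullyNormalized hS hF hX') hC)]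
  exact fun hcomp => hcon.2 ⟨X', (isConj_card hXX').trans hXcard, hX', _, hC, hcomp⟩

end Cfsg.Agent.S5152
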