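import Cfsg.Statements.S5153
import Cfsg.Agent.Lib.Fusion.SubsystemCentric

set_option autoImplicit false
open Cfsg

namespace Cfsg.Agent.S5153

/-- Let F be a saturated fusion system over a finite p-group S and E a subnormal subsystem of F over T. Then every subgroup of T that is fully normalized in F is fully normalized in E. -/
theorem result {Ω : Type*} [Group Ω] {S : Subgroup Ω} [Finite S] (p : ℕ) [Fact p.Prime] (hS : IsPGroup p S) (F : Cfsg.FusionSystem S) (hF : F.IsSaturated p) {T : Subgroup Ω} (E : Cfsg.FusionSystem T) (hE : E.IsSubnormalIn F p) (P : Subgroup Ω) (hPT : P ≤ T) (hP : F.IsFullyNormalized P) : E.IsFullyNormalized P := by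
  suffices h : ∀ {T : Subgroup Ω} (E : Cfsg.FusionSystem T) {S : Subgroup Ω}
      (F : Cfsg.FusionSystem S) (p : ℕ), E.IsSubnormalIn F p →
      T ≤ S ∧ ∀ (_ : Fact p.Prime) (_ : Finite S), IsPGroup p S → F.IsSaturated p →
        ∀ P : Subgroup Ω, P ≤ T → F.IsFullyNormalized P → E.IsFullyNormalized P from
    (h E F p hE).2 inferInstance inferInstance hS hF P hPT hP
  intro T E S F p hE
  induction hE with
  | refl F p => exact ⟨le_rfl, fun _ _ _ _ P _ hP => hP⟩
  | step h₁ h₂ ih =>
    obtain ⟨⟨hDs, hFs, hsub, hsc, -, -⟩, -⟩ := h₂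
    refine ⟨ih.1.trans hsc.1, fun _ _ hS hF P hPT hP => ?_⟩
    exact ih.2 inferInstance (CfsgLib.Fusion.finite_of_le hsc.1) (hS.to_le hsc.1) hDs P hPT
      (CfsgLib.Fusion.fullyNormalized_subsystem hS hF hsc hsub (hPT.trans ih.1) hP)

end Cfsg.Agent.S5153
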