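import Cfsg.Statements.S5160
import Cfsg.Agent.Lib.Fusion.Simple

set_option autoImplicit false
open Cfsg

namespace Cfsg.Agent.S5160

/-- Let G be a finite group with nontrivial Sylow p-subgroup S and F its fusion system on S. Suppose (a) no nontrivial proper subgroup of S is strongly closed in F, and (b) the automorphisms of S induced by G are generated by those induced, for R running over the fully normalized radical centric subgroups of F, by the subgroup of N_G(R) generated by its elements of p-power order. Then F is simple. -/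
theorem result {G : Type*} [Group G] [Finite G] (p : ℕ) [Fact p.Prime] (S : Sylow p G) (hS1 : (S : Subgroup G) ≠ ⊥) (ha : ∀ T : Subgroup G, (Cfsg.groupFusionSystem (S : Subgroup G)).StronglyClosed T → T = ⊥ ∨ T = (S : Subgroup G)) (hb : Cfsg.autInducedBy ⊤ (S : Subgroup G) = ⨆ (R : Subgroup G) (_ : (Cfsg.groupFusionSystem (S : Subgroup G)).IsFullyNormalized R ∧ (Cfsg.groupFusionSystem (S : Subgroup G)).IsRadical p R ∧ (Cfsg.groupFusionSystem (S : Subgroup G)).IsCentric R), Cfsg.autInducedBy (Subgroup.closure {g : G | g ∈ Subgroup.normalizer (R : Set G) ∧ ∃ k : ℕ, orderOf g = p ^ k}) (S : Subgroup G)) : (Cfsg.groupFusionSystem (S : Subgroup G)).IsSimple p := by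
  have hSp := S.isPGroup'
  have hF := CfsgLib.Fusion.group_isSaturated S
  refine CfsgLib.Fusion.isSimple_of_generated hSp hF hS1 ha ?_
  rw [CfsgLib.Fusion.group_autGroup_eq S le_rfl, hb]
  refine iSup₂_le fun R hR => ?_
  obtain ⟨hRn, -, hRc⟩ := hR
  intro α hα
  obtain ⟨g, hg, hgx⟩ := CfsgLib.Fusion.mem_autInducedBy_iff.1 hα
  refine Subgroup.subset_closure (Or.inr ⟨R, hRn.1, hRn, hRc, ?_⟩)
  have hK : ∀ h ∈ Subgroup.closure {g : G | g ∈ Subgroup.normalizer (R : Set G) ∧
      ∃ k : ℕ, orderOf g = p ^ k}, h ∈ Subgroup.normalizer (R : Set G) := fun h hh =>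
    (Subgroup.closure_le _).2 (fun x hx => hx.1) hh
  refine ⟨R.normalizerMonoidHom ⟨g, hK g hg⟩, ?_, ?_, fun x => hgx ⟨x, hRn.1 x.2⟩⟩
  · have hle : Cfsg.autInducedBy ⊤ R ≤ (Cfsg.groupFusionSystem (S : Subgroup G)).autGroup R :=
      (CfsgLib.Fusion.group_autGroup_eq S hRn.1).ge
    suffices hs : ∀ h (hh : h ∈ Subgroup.closure {g : G | g ∈ Subgroup.normalizer (R : Set G) ∧
        ∃ k : ℕ, orderOf g = p ^ k}), R.normalizerMonoidHom ⟨h, hK h hh⟩ ∈
        (Subgroup.closure {γ : (Cfsg.groupFusionSystem (S : Subgroup G)).autGroup R |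
          ∃ k : ℕ, orderOf γ = p ^ k}).map
            ((Cfsg.groupFusionSystem (S : Subgroup G)).autGroup R).subtype from hs g hg
    intro h hh
    induction hh using Subgroup.closure_induction with
    | mem x hx =>
      have hm : R.normalizerMonoidHom ⟨x, hx.1⟩ ∈
          (Cfsg.groupFusionSystem (S : Subgroup G)).autGroup R :=
        hle (CfsgLib.Fusion.mem_autInducedBy_iff.2 ⟨x, Subgroup.mem_top x, fun y => rfl⟩)
      refine ⟨⟨_, hm⟩, Subgroup.subset_closure ?_, rfl⟩
      obtain ⟨k, hk⟩ := hx.2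
      have h1 : orderOf (⟨_, hm⟩ : (Cfsg.groupFusionSystem (S : Subgroup G)).autGroup R) ∣ p ^ k := by
        rw [Subgroup.orderOf_mk, ← hk]
        exact (orderOf_map_dvd _ _).trans (Subgroup.orderOf_mk x hx.1).dvd
      obtain ⟨i, -, hi⟩ := (Nat.dvd_prime_pow Fact.out).1 h1
      exact ⟨i, hi⟩
    | one =>
      rw [show (⟨1, hK 1 (one_mem _)⟩ : Subgroup.normalizer (R : Set G)) = 1 from rfl, map_one]
      exact one_mem _
    | mul x y hx hy ix iy =>
      rw [show (⟨x * y, hK _ (mul_mem hx hy)⟩ : Subgroup.normalizer (R : Set G)) =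
        ⟨x, hK x hx⟩ * ⟨y, hK y hy⟩ from rfl, map_mul]
      exact mul_mem ix iy
    | inv x hx ix =>
      rw [show (⟨x⁻¹, hK _ (inv_mem hx)⟩ : Subgroup.normalizer (R : Set G)) =
        ⟨x, hK x hx⟩⁻¹ from rfl, map_inv]
      exact inv_mem ix
  · rw [← hb]
    exact CfsgLib.Fusion.mem_autInducedBy_iff.2 ⟨g, Subgroup.mem_top g, hgx⟩

end Cfsg.Agent.S5160
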