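import Cfsg.Statements.S5162
import Cfsg.Agent.Lib.Comp.CentralProductFactor

set_option autoImplicit false
open Cfsg

namespace Cfsg.Agent.S5162

/-- Let F be a saturated fusion system over a finite p-group S that is a central product of two saturated subsystems F₁ (over S₁) and F₂ (over S₂) inside S. Then every component of F is a component of F₁ or a component of F₂. -/
theorem result {Ω : Type*} [Group Ω] {S : Subgroup Ω} [Finite S] (p : ℕ) [Fact p.Prime] (hS : IsPGroup p S) (F : Cfsg.FusionSystem S) (hF : F.IsSaturated p) {S₁ S₂ : Subgroup Ω} (F₁ : Cfsg.FusionSystem S₁) (F₂ : Cfsg.FusionSystem S₂) (h₁ : F₁.IsSaturated p) (h₂ : F₂.IsSaturated p) (h₁F : F₁.IsSubsystemOf F) (h₂F : F₂.IsSubsystemOf F) (hc : Cfsg.FusionSystem.IsCentralProductOf F₁ F₂ F) {T : Subgroup Ω} (C : Cfsg.FusionSystem T) (hC : C.IsComponentIn F p) : C.IsComponentIn F₁ p ∨ C.IsComponentIn F₂ p := by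
  obtain ⟨hP₁, hP₂⟩ := CfsgLib.Comp.CProd.pairs_of_centralProduct
    (CfsgLib.Comp.Fus.le_of_isSubsystemOf h₁F) (CfsgLib.Comp.Fus.le_of_isSubsystemOf h₂F) hc
  have n₁ := hP₁.isNormalIn hS hF h₁
  have n₂ := hP₂.isNormalIn hS hF h₂
  rcases CfsgLib.Comp.Lay.dichotomy hS hC n₁ with h | h
  · exact .inl ⟨h, hC.2⟩
  rcases CfsgLib.Comp.Lay.dichotomy hS hC n₂ with h' | h'
  · exact .inr ⟨h', hC.2⟩
  refine absurd (fun a ha b hb => ?_) (CfsgLib.Comp.Lay.not_comm_of_component hS hC)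
  have hT : T ≤ S := CfsgLib.Comp.Lay.le_of_component hC
  have ha' : a ∈ S₁ ⊔ S₂ := hP₁.sup_eq ▸ hT ha
  obtain ⟨x, hx, y, hy, rfl⟩ := CfsgLib.Comp.CProd.exists_split hP₁.comm ha'
  rw [mul_assoc, h' y hy b hb, ← mul_assoc, h x hx b hb, mul_assoc]

end Cfsg.Agent.S5162
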