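import Cfsg.Statements.S5164
import Cfsg.Agent.Lib.Fusion.AlternatingSylow

set_option autoImplicit false
open Cfsg

namespace Cfsg.Agent.S5164

/-- For n ≥ 6 and a prime p, a nontrivial Sylow p-subgroup of the alternating group of degree n is abelian if and only if n < p². -/
theorem result (n p : ℕ) (hn : 6 ≤ n) [Fact p.Prime] (S : Sylow p (alternatingGroup (Fin n))) (hS : (S : Subgroup (alternatingGroup (Fin n))) ≠ ⊥) : IsMulCommutative S ↔ n < p ^ 2 := by
  classical
  have hp := (Fact.out : p.Prime)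
  have hn2 : 2 ≤ n := by omega
  constructor
  · intro hab
    have hc : ∀ x ∈ (S : Subgroup (alternatingGroup (Fin n))),
        ∀ y ∈ (S : Subgroup (alternatingGroup (Fin n))), x * y = y * x := fun x hx y hy =>
      congrArg Subtype.val (hab.is_comm.comm ⟨x, hx⟩ ⟨y, hy⟩)
    by_cases hp2 : p = 2
    · subst hp2
      obtain ⟨H, hH, x, hx, y, hy, hxy⟩ := CfsgLib.KnownA.AltSylow.exists_nonabelian_two hn
      obtain ⟨R, hR⟩ := hH.exists_le_sylow
      obtain ⟨g, rfl⟩ := MulAction.exists_smul_eq (alternatingGroup (Fin n)) S R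
      obtain ⟨a, ha, rfl⟩ := hR hx
      obtain ⟨b, hb, rfl⟩ := hR hy
      refine absurd ?_ hxy
      show g * a * g⁻¹ * (g * b * g⁻¹) = g * b * g⁻¹ * (g * a * g⁻¹)
      calc g * a * g⁻¹ * (g * b * g⁻¹) = g * (a * b) * g⁻¹ := by group
        _ = g * (b * a) * g⁻¹ := by rw [hc a ha b hb]
        _ = g * b * g⁻¹ * (g * a * g⁻¹) := by group
    · set P' := (S : Subgroup (alternatingGroup (Fin n))).map (alternatingGroup (Fin n)).subtype
      have hPc : Nat.card P' = p ^ (padicValNat p n.factorial - padicValNat p 2) := by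
        rw [Subgroup.card_map_of_injective (Subgroup.subtype_injective _)]
        exact CfsgLib.KnownA.AltSylow.card_sylow_alt' hn2 S
      have hbound := CfsgLib.KnownA.AltSylow.exp_mul_le P' (S.isPGroup'.map _) (by
        rintro _ ⟨x, hx, rfl⟩ _ ⟨y, hy, rfl⟩
        rw [← map_mul, ← map_mul, hc x hx y hy]) hPc
      rw [Nat.card_fin, padicValNat_primes hp2, Nat.sub_zero] at hbound
      by_contra h
      have h1 : 1 ≤ n / p ^ 2 := Nat.div_pos (not_lt.mp h) (pow_pos hp.pos 2)
      have h2 : n / p + 1 ≤ padicValNat p n.factorial :=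
        (Nat.add_le_add_left h1 _).trans
          ((Nat.le_add_right _ _).trans CfsgLib.KnownA.AltSylow.three_terms_le_val)
      have h3 := Nat.mul_le_mul_right p h2
      have h4 : n < (n / p + 1) * p := by rw [mul_comm]; exact Nat.lt_mul_div_succ n hp.pos
      exact absurd (h4.trans_le (h3.trans hbound)) (lt_irrefl n)
  · intro hlt
    have hp2 : p ≠ 2 := by
      rintro rfl
      omega
    obtain ⟨Q, hQ⟩ := CfsgLib.Fusion.exists_abelian_sylow_alt hp2 hn2 hlt
    obtain ⟨g, rfl⟩ := MulAction.exists_smul_eq (alternatingGroup (Fin n)) Q S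
    refine ⟨⟨fun x y => Subtype.ext ?_⟩⟩
    obtain ⟨a, ha, hax⟩ := x.2
    obtain ⟨b, hb, hby⟩ := y.2
    show (x : alternatingGroup (Fin n)) * y = y * x
    rw [← hax, ← hby]
    show g * a * g⁻¹ * (g * b * g⁻¹) = g * b * g⁻¹ * (g * a * g⁻¹)
    calc g * a * g⁻¹ * (g * b * g⁻¹) = g * (a * b) * g⁻¹ := by group
      _ = g * (b * a) * g⁻¹ := by rw [hQ a ha b hb]
      _ = g * b * g⁻¹ * (g * a * g⁻¹) := by group

end Cfsg.Agent.S5164
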