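import Cfsg.Statements.S5166
import Cfsg.Agent.Lib.Fusion.MathieuCertM11
import Cfsg.Agent.Lib.Golay.Mathieu

set_option autoImplicit false
open Cfsg

namespace Cfsg.Agent.S5166

/-- The 2-fusion system of the Mathieu group M₁₁ (as the explicit permutation group carved out of the automorphism group of the binary Golay code) on a Sylow 2-subgroup is simple: saturated, over a nontrivial 2-group, with no normal subsystem other than the trivial one and itself. -/
theorem result (S : Sylow 2 Cfsg.Spor.M11) : (Cfsg.groupFusionSystem (S : Subgroup Cfsg.Spor.M11)).IsSimple 2 := by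
  revert S
  rw [CfsgLib.Golay.sporM11_eq]
  intro S
  exact CfsgLib.Fusion.MathieuCert.isSimple_of_cert CfsgLib.Fusion.MathieuCert.M11.cert _ _
    CfsgLib.Golay.card_fix11 (by decide +kernel) CfsgLib.Fusion.MathieuCert.M11.els_ok
    CfsgLib.Fusion.MathieuCert.M11.nxt_ok CfsgLib.Fusion.MathieuCert.M11.pred_ok
    CfsgLib.Fusion.MathieuCert.M11.sq_ok CfsgLib.Fusion.MathieuCert.M11.labels_ok
    CfsgLib.Fusion.MathieuCert.M11.series_ok CfsgLib.Fusion.MathieuCert.M11.sep_ok
    CfsgLib.Fusion.MathieuCert.M11.moves_ok S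

end Cfsg.Agent.S5166
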