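import Cfsg.Statements.S5168
import Cfsg.Agent.Lib.Fusion.MathieuCertM22
import Cfsg.Agent.Lib.Golay.Mathieu

set_option autoImplicit false
open Cfsg

namespace Cfsg.Agent.S5168

/-- The 2-fusion system of the Mathieu group M₂₂ (as the explicit permutation group carved out of the automorphism group of the binary Golay code) on a Sylow 2-subgroup is simple: saturated, over a nontrivial 2-group, with no normal subsystem other than the trivial one and itself. -/
theorem result (S : Sylow 2 Cfsg.Spor.M22) : (Cfsg.groupFusionSystem (S : Subgroup Cfsg.Spor.M22)).IsSimple 2 := by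
  revert S
  rw [CfsgLib.Golay.sporM22_eq]
  intro S
  exact CfsgLib.Fusion.MathieuCert.isSimple_of_cert CfsgLib.Fusion.MathieuCert.M22.cert _ _
    CfsgLib.Golay.card_fix22 (by decide +kernel) CfsgLib.Fusion.MathieuCert.M22.els_ok
    CfsgLib.Fusion.MathieuCert.M22.nxt_ok CfsgLib.Fusion.MathieuCert.M22.pred_ok
    CfsgLib.Fusion.MathieuCert.M22.sq_ok CfsgLib.Fusion.MathieuCert.M22.labels_ok
    CfsgLib.Fusion.MathieuCert.M22.series_ok CfsgLib.Fusion.MathieuCert.M22.sep_ok
    CfsgLib.Fusion.MathieuCert.M22.moves_ok S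

end Cfsg.Agent.S5168
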