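import Cfsg.Statements.S5170
import Cfsg.Agent.Lib.Fusion.MathieuCertM24
import Cfsg.Agent.Lib.Golay.Mathieu

set_option autoImplicit false
open Cfsg

namespace Cfsg.Agent.S5170

/-- The 2-fusion system of the Mathieu group M₂₄ (as the explicit permutation group of the 24 points preserving the binary Golay code) on a Sylow 2-subgroup is simple: saturated, over a nontrivial 2-group, with no normal subsystem other than the trivial one and itself. -/
theorem result (S : Sylow 2 Cfsg.M24) : (Cfsg.groupFusionSystem (S : Subgroup Cfsg.M24)).IsSimple 2 := by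
  revert S
  rw [← CfsgLib.Golay.fixMasks_nil]
  intro S
  exact CfsgLib.Fusion.MathieuCert.isSimple_of_cert CfsgLib.Fusion.MathieuCert.M24.cert _ _
    CfsgLib.Golay.card_fixM24 (by decide +kernel) CfsgLib.Fusion.MathieuCert.M24.els_ok
    CfsgLib.Fusion.MathieuCert.M24.nxt_ok CfsgLib.Fusion.MathieuCert.M24.pred_ok
    CfsgLib.Fusion.MathieuCert.M24.sq_ok CfsgLib.Fusion.MathieuCert.M24.labels_ok
    CfsgLib.Fusion.MathieuCert.M24.series_ok CfsgLib.Fusion.MathieuCert.M24.sep_ok
    CfsgLib.Fusion.MathieuCert.M24.moves_ok S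

end Cfsg.Agent.S5170
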