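import Cfsg.Statements.S5177
import Cfsg.Agent.Lib.Fusion.ESReduce.Main
import Cfsg.Agent.Lib.Fusion.ESReduce.Pearl
import Cfsg.Agent.Lib.Fusion.ESReduce.ModelLinear
import Cfsg.Agent.Lib.Fusion.ESReduce.ModelG2
import Cfsg.Agent.Lib.Fusion.ExtraspecialCentreMain

set_option autoImplicit false
set_option linter.style.haveILetI false
universe u
open Cfsg CfsgLib.Fusion.ESReduce

namespace Cfsg.Agent.S5177

/-- Let p be an odd prime, S a finite p-group of order at least p⁶ containing an extraspecial subgroup Q of index p, and F a saturated fusion system over S whose largest subgroup normal in F is trivial. Then S is isomorphic to a Sylow p-subgroup of SL(4,p), to a Sylow p-subgroup of SU(4,p), to a Sylow p-subgroup of G₂(p) with p ≥ 5, or p ≥ 11 and S has order p^(p−1), exponent p and maximal nilpotency class. -/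
theorem result {Ω : Type u} [Group Ω] {S : Subgroup Ω} [Finite S] (p : ℕ) [Fact p.Prime] (hp : Odd p) (hS : IsPGroup p S)
    (Q : Subgroup Ω) (hQS : Q ≤ S) (hQ : Cfsg.IsExtraspecial p ↥Q) (hQi : (Q.subgroupOf S).index = p)
    (h6 : p ^ 6 ≤ Nat.card S)
    (F : Cfsg.FusionSystem S) (hF : F.IsSaturated p) (hO : F.core = ⊥) [Group.IsNilpotent ↥S] :
    (∃ P : Sylow p (Matrix.SpecialLinearGroup (Fin 4) (ZMod p)),
        Nonempty (↥S ≃* ↥(P : Subgroup (Matrix.SpecialLinearGroup (Fin 4) (ZMod p))))) ∨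
      (∃ (K : Type) (_ : Field K) (_ : Fintype K), Fintype.card K = p ^ 2 ∧
        ∃ P : Sylow p ↥(Cfsg.SU 4 K p), Nonempty (↥S ≃* ↥(P : Subgroup ↥(Cfsg.SU 4 K p)))) ∨
      (5 ≤ p ∧ ∃ P : Sylow p ↥(Cfsg.Lie.G2 (ZMod p)), Nonempty (↥S ≃* ↥(P : Subgroup ↥(Cfsg.Lie.G2 (ZMod p))))) ∨
      (11 ≤ p ∧ Nat.card S = p ^ (p - 1) ∧ (∀ x : ↥S, x ^ p = 1) ∧ Group.nilpotencyClass ↥S = p - 2) := by
  have hp2 : p ≠ 2 := fun e => absurd hp (by subst e; decide)
  have st : CfsgLib.Fusion.ESIndex.Setting p S Q := ⟨hS, hQS, hQ, hQi⟩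
  have hne : CfsgLib.Fusion.ESIndex.zS S = CfsgLib.Fusion.ESIndex.zQ Q := by
    by_contra h
    exact CfsgLib.Fusion.ESIndex.core_ne_bot st h hp2 hF hO
  obtain ⟨z, hz, hz1, -⟩ := CfsgLib.Fusion.ESIndex.exists_gen st
  have fr : Frame p S Q z := ⟨st, hp2, hne, hz, hz1, h6⟩
  letI : Module (ZMod p) (Vt Q) := AddCommGroup.zmodModule fr.smul_p_eq_zero
  have hpearl : ∀ x, PearlData fr F x → 7 ≤ p ∧ Nat.card S = p ^ (p - 1) ∧ (∀ a ∈ S, a ^ p = 1) ∧
      Group.nilpotencyClass S = p - 2 := fun x h =>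
    ⟨h.pearl.1, h.pearl.2.1, h.pearl.2.2.1, h.pearl.2.2.2.2⟩
  rcases shapes_of_pearl fr hF hO hpearl with ⟨ε, hε, hε0⟩ | ⟨h5, hone⟩ | ⟨h11, hcard, hexp, hcl⟩
  · by_cases hsq : IsSquare (-(ε : ZMod p))
    · obtain ⟨P⟩ : Nonempty (Sylow p (Matrix.SpecialLinearGroup (Fin 4) (ZMod p))) := inferInstance
      obtain ⟨c, hc0, hc⟩ := exists_sq_factor (a := (ε : ZMod p)) (b := ((-1 : ℤ) : ZMod p)) hp2 hε0
        (by rw [Int.cast_neg, Int.cast_one]; exact neg_ne_zero.2 one_ne_zero)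
        (iff_of_true hsq (by rw [Int.cast_neg, Int.cast_one, neg_neg]; exact ⟨1, (one_mul 1).symm⟩))
      exact Or.inl ⟨P, twoBlock_iso hε (sylow_sl_four hp P) hc0 hc⟩
    · letI : Fintype (GaloisField p 2) := Fintype.ofFinite _
      have hK : Fintype.card (GaloisField p 2) = p ^ 2 := by
        rw [← Nat.card_eq_fintype_card]; exact GaloisField.card p 2 two_ne_zero
      obtain ⟨P⟩ : Nonempty (Sylow p ↥(Cfsg.SU 4 (GaloisField p 2) p)) := inferInstance
      obtain ⟨η, hη, hP⟩ := sylow_su_four hp hK P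
      have hη0 : (η : ZMod p) ≠ 0 := fun h => hη (by rw [h, neg_zero]; exact ⟨0, (mul_zero 0).symm⟩)
      obtain ⟨c, hc0, hc⟩ := exists_sq_factor hp2 hε0 hη0 (iff_of_false hsq hη)
      exact Or.inr (Or.inl ⟨GaloisField p 2, inferInstance, inferInstance, hK, P,
        twoBlock_iso hε hP hc0 hc⟩)
  · obtain ⟨P⟩ : Nonempty (Sylow p ↥(Cfsg.Lie.G2 (ZMod p))) := inferInstance
    exact Or.inr (Or.inr (Or.inl ⟨h5, P, oneBlock_iso hone (sylow_g2 h5 P)⟩))
  · exact Or.inr (Or.inr (Or.inr ⟨h11, hcard,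
      fun x => Subtype.ext (by simpa using hexp _ x.2), hcl⟩))

end Cfsg.Agent.S5177
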