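import Cfsg.Statements.S5178
import Cfsg.Agent.Lib.Fusion.ExtraspecialCentreMain

set_option autoImplicit false
universe u
open Cfsg

namespace Cfsg.Agent.S5178

/-- Let p be an odd prime, S a finite p-group containing an extraspecial subgroup Q of index p, and F a saturated fusion system over S whose largest subgroup normal in F is trivial. Then the centre of S equals the centre of Q. -/
theorem result {Ω : Type u} [Group Ω] {S : Subgroup Ω} [Finite S] (p : ℕ) [Fact p.Prime] (hp : Odd p) (hS : IsPGroup p S)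
    (Q : Subgroup Ω) (hQS : Q ≤ S) (hQ : Cfsg.IsExtraspecial p ↥Q) (hQi : (Q.subgroupOf S).index = p)
    (F : Cfsg.FusionSystem S) (hF : F.IsSaturated p) (hO : F.core = ⊥) :
    S ⊓ Subgroup.centralizer (S : Set Ω) = Q ⊓ Subgroup.centralizer (Q : Set Ω) := by
  by_contra h
  have hp2 : p ≠ 2 := fun e => absurd hp (by subst e; decide)
  refine CfsgLib.Fusion.ESIndex.core_ne_bot ⟨hS, hQS, hQ, hQi⟩ (fun e => h ?_) hp2 hF hO
  rw [← CfsgLib.Fusion.ESIndex.zQ_eq Q]
  exact e

end Cfsg.Agent.S5178
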