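import Cfsg.Statements.S5182
import Cfsg.Agent.Lib.RankTwoEss.Main
import Cfsg.Agent.Lib.RankTwoEss.Shape
import Cfsg.Agent.Lib.RankTwoEss.AllNormal
import Cfsg.Agent.Lib.RankThreePair.Induct
-- import your own Cfsg.Agent.* helpers here

set_option autoImplicit false
universe u
open Cfsg

namespace Cfsg.Agent.S5182

/-- Let p ≥ 5 be a prime, S a finite p-group of sectional p-rank exactly 3, and F a saturated fusion system over S whose largest subgroup normal in F is trivial. Then F has an essential subgroup that is either elementary abelian of order p² or extraspecial of order p³ and exponent p. -/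
theorem result {Ω : Type u} [Group Ω] {S : Subgroup Ω} [Finite S] (p : ℕ) [Fact p.Prime] (hp : 5 ≤ p) (hS : IsPGroup p S) (hsr : Cfsg.SectionalPRankLE p 3 ↥S ∧ ¬ Cfsg.SectionalPRankLE p 2 ↥S)
    (F : Cfsg.FusionSystem S) (hF : F.IsSaturated p) (hO : F.core = ⊥) :
    ∃ E : Subgroup Ω, (F.IsEssential p E ∧ ((Cfsg.IsElementaryAbelian p E ∧ Nat.card E = p ^ 2) ∨
        (Cfsg.IsExtraspecial p ↥E ∧ Nat.card E = p ^ 3 ∧ ∀ x ∈ E, x ^ p = 1))) := by
  by_cases hall : ∀ E, F.IsEssential p E → S ≤ Subgroup.normalizer (E : Set Ω)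
  · obtain ⟨E, A, B, hE, hBE, h⟩ := CfsgLib.RankTwoEss.exists_outSp_of_all_normal (by omega) hS hsr.1 hsr.2 hF hO hall (fun P h => CfsgLib.RankThreePair.out_of_mover (by omega) hS hsr.1 P h)
    haveI := CfsgLib.Fusion.finite_of_le hE.1.1
    let e : E.subgroupOf S ≃* E := Subgroup.subgroupOfEquivOfLe hE.1.1
    have hc : Nat.card E = p ^ 3 := by rw [← Nat.card_congr e.toEquiv, ← hBE]; exact h.cardB
    have hexp : ∀ x ∈ E, x ^ p = 1 := fun x hx => by
      have := h.expB ⟨x, hE.1.1 hx⟩ (by rw [hBE]; exact hx)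
      simpa using congrArg Subtype.val this
    refine ⟨E, hE, Or.inr ⟨CfsgLib.RankTwoEss.isExtraspecial_of_cube hc ?_ (fun x => Subtype.ext (by simpa using hexp x x.2)), hc, hexp⟩⟩
    obtain ⟨x, hx, y, hy, hne⟩ := h.nonabB
    rw [hBE] at hx hy
    exact ⟨⟨x, hx⟩, ⟨y, hy⟩, fun h' => hne (Subtype.ext (show ((x : Ω) * y : Ω) = (y : Ω) * x by simpa using congrArg Subtype.val h'))⟩
  · push Not at hall
    obtain ⟨E, hE, hn⟩ := hall
    exact ⟨E, hE, CfsgLib.RankTwoEss.pearl_of_not_normal hp hS hsr.1 hF hE hn⟩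

end Cfsg.Agent.S5182
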