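import Cfsg.Statements.S5187
import Cfsg.Agent.Lib.Invol.EssentialSmall

set_option autoImplicit false
universe u
open Cfsg

namespace Cfsg.Agent.S5187

/-- Let F be a saturated fusion system over a finite p-group S and H an abelian essential subgroup that can be generated by two elements (its Frattini quotient has order at most p²). Then H is elementary abelian of order p², or p ≤ 3 and H is homocyclic of rank two, that is isomorphic to C_{pᵏ} × C_{pᵏ} for some k. -/
theorem result {Ω : Type u} [Group Ω] {S : Subgroup Ω} [Finite S] (p : ℕ) [Fact p.Prime] (hS : IsPGroup p S)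
    (F : Cfsg.FusionSystem S) (hF : F.IsSaturated p) (H : Subgroup Ω) (hH : F.IsEssential p H) (hab : IsMulCommutative ↥H) (hrk : (frattini ↥H).index ≤ p ^ 2) :
    (Cfsg.IsElementaryAbelian p H ∧ Nat.card H = p ^ 2) ∨
      (p ≤ 3 ∧ ∃ k : ℕ, Nonempty (↥H ≃* Multiplicative (ZMod (p ^ k) × ZMod (p ^ k)))) := by
  haveI := CfsgLib.Fusion.finite_of_le hH.1.1
  have hab' : ∀ x y : H, x * y = y * x := hab.is_comm.comm
  have h2 : Nat.card (CfsgLib.Invol.powKer hab' p) ≤ p ^ 2 := by
    haveI : (CfsgLib.Invol.EssentialSmall.powRange hab' p).Normal :=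
      ⟨fun x hx g => by rwa [hab' g x, mul_inv_cancel_right]⟩
    have hle := CfsgLib.Transfer.frattini_le_of_elementary_quotient (p := p)
      (CfsgLib.Invol.EssentialSmall.powRange hab' p)
      (fun x y => by rw [commutatorElement_eq_one_iff_mul_comm.2 (hab' x y)]; exact one_mem _)
      (fun x => ⟨x, rfl⟩)
    have h1 := CfsgLib.Invol.EssentialSmall.card_powKer_mul_powRange hab' p
    rw [← Subgroup.card_mul_index (CfsgLib.Invol.EssentialSmall.powRange hab' p), mul_comm (Nat.card (CfsgLib.Invol.powKer hab' p))] at h1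
    rw [← Nat.eq_of_mul_eq_mul_left Nat.card_pos h1]
    exact (Nat.le_of_dvd (Nat.pos_of_ne_zero Subgroup.index_ne_zero_of_finite) (Subgroup.index_dvd_of_le hle)).trans hrk
  rcases CfsgLib.Invol.EssentialSmall.abelian_rank_two hS hF hH hab' h2 with h | ⟨hp, k, -, he⟩
  · exact Or.inl h
  · exact Or.inr ⟨hp, k, he⟩

end Cfsg.Agent.S5187
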