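import Cfsg.Statements.S5189
import Cfsg.Agent.Lib.RankThreePair.Main
import Cfsg.Agent.Lib.RankThreePair.Fusion.Extends
import Cfsg.Agent.Lib.Invol.EssentialFour

set_option autoImplicit false
set_option linter.style.haveILetI false
universe u
open Cfsg
open CfsgLib.RankThreePair
open scoped commutatorElement

namespace Cfsg.Agent.S5189

theorem card_of_side {Ω : Type u} [Group Ω] {S E : Subgroup Ω} (hES : E ≤ S) {p : ℕ} {A : Side p ↥S}
    (hA : A.E = E.subgroupOf S) : Nat.card E = Nat.card A.E := by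
  rw [hA]
  exact (Nat.card_congr (Subgroup.subgroupOfEquivOfLe hES).toEquiv).symm

theorem types {Ω : Type u} [Group Ω] {S E₁ E₂ : Subgroup Ω} [Finite S] {p : ℕ} [Fact p.Prime]
    (h₁ : E₁ ≤ S) (h₂ : E₂ ≤ S) {A B : Side p ↥S} (hA : A.E = E₁.subgroupOf S)
    (hB : B.E = E₂.subgroupOf S) (h : OutSp A B) :
    Cfsg.IsExtraspecial p ↥E₂ ∧ Nat.card E₂ = p ^ 3 ∧ (∀ x ∈ E₂, x ^ p = 1) ∧
      Cfsg.IsElementaryAbelian p E₁ ∧ Nat.card E₁ = p ^ 3 := by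
  have c₁ : Nat.card E₁ = p ^ 3 := (card_of_side h₁ hA).trans h.cardA
  have c₂ : Nat.card E₂ = p ^ 3 := (card_of_side h₂ hB).trans h.cardB
  have m₁ : ∀ x, ∀ hx : x ∈ E₁, (⟨x, h₁ hx⟩ : S) ∈ A.E := fun x hx => hA ▸ hx
  have m₂ : ∀ x, ∀ hx : x ∈ E₂, (⟨x, h₂ hx⟩ : S) ∈ B.E := fun x hx => hB ▸ hx
  obtain ⟨a, ha, b, hb, hab⟩ := h.nonabB
  have ha' : (a : Ω) ∈ E₂ := (hB ▸ ha : a ∈ E₂.subgroupOf S)
  have hb' : (b : Ω) ∈ E₂ := (hB ▸ hb : b ∈ E₂.subgroupOf S)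
  haveI : Finite E₂ := Nat.finite_of_card_ne_zero (by rw [c₂]; exact pow_ne_zero _ (Fact.out : p.Prime).ne_zero)
  refine ⟨CfsgLib.Invol.EssentialFour.extraspecial_cube c₂ (a0 := ⟨a, ha'⟩) (b0 := ⟨b, hb'⟩)
      (fun e => hab (Subtype.ext (congrArg Subtype.val e :))), c₂,
    fun x hx => congrArg Subtype.val (h.expB _ (m₂ x hx)), ⟨⟨⟨fun x y => Subtype.ext ?_⟩⟩,
      fun x hx => congrArg Subtype.val (h.expA _ (m₁ x hx))⟩, c₁⟩
  have h3 := congrArg Subtype.val (h.commA _ (m₁ x x.2) _ (m₁ y y.2))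
  exact h3

/-- Let p be an odd prime, S a finite p-group of sectional p-rank exactly 3, and F a saturated fusion system over S whose largest subgroup normal in F is trivial. Suppose S has two distinct essential subgroups E₁, E₂ each of which is invariant under every F-automorphism of S. Then S is isomorphic to a Sylow p-subgroup of Sp(4,p), and one of E₁, E₂ is extraspecial of order p³ and exponent p while the other is elementary abelian of order p³. -/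
theorem result {Ω : Type u} [Group Ω] {S : Subgroup Ω} [Finite S] (p : ℕ) [Fact p.Prime] (hp : Odd p) (hS : IsPGroup p S)
    (hsr : Cfsg.SectionalPRankLE p 3 ↥S ∧ ¬ Cfsg.SectionalPRankLE p 2 ↥S)
    (F : Cfsg.FusionSystem S) (hF : F.IsSaturated p) (hO : F.core = ⊥)
    (E₁ E₂ : Subgroup Ω) (hne : E₁ ≠ E₂) (hE₁ : F.IsEssential p E₁) (hE₂ : F.IsEssential p E₂)
    (hc₁ : (∀ φ : MulAut ↥S, φ ∈ F.autGroup S → (E₁.subgroupOf S).map φ.toMonoidHom = E₁.subgroupOf S))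
    (hc₂ : (∀ φ : MulAut ↥S, φ ∈ F.autGroup S → (E₂.subgroupOf S).map φ.toMonoidHom = E₂.subgroupOf S)) :
    (∃ P : Sylow p ↥(Matrix.symplecticGroup (Fin 2) (ZMod p)),
        Nonempty (↥S ≃* ↥(P : Subgroup ↥(Matrix.symplecticGroup (Fin 2) (ZMod p))))) ∧
      ((Cfsg.IsExtraspecial p ↥E₁ ∧ Nat.card E₁ = p ^ 3 ∧ (∀ x ∈ E₁, x ^ p = 1) ∧
          Cfsg.IsElementaryAbelian p E₂ ∧ Nat.card E₂ = p ^ 3) ∨
        (Cfsg.IsExtraspecial p ↥E₂ ∧ Nat.card E₂ = p ^ 3 ∧ (∀ x ∈ E₂, x ^ p = 1) ∧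
          Cfsg.IsElementaryAbelian p E₁ ∧ Nat.card E₁ = p ^ 3)) := by
  have hp2 : p ≠ 2 := fun h => by subst h; exact absurd hp (by decide)
  have hn₁ := Fus.le_normalizer_of_char hE₁.1.1 hc₁
  have hn₂ := Fus.le_normalizer_of_char hE₂.1.1 hc₂
  obtain ⟨A, hA, hAG⟩ := Fus.exists_side hS hsr.1 hF hE₁ hn₁
  obtain ⟨B, hB, hBG⟩ := Fus.exists_side hS hsr.1 hF hE₂ hn₂
  have hAB : A.E ≠ B.E := by
    rw [hA, hB]
    intro h
    refine hne ?_
    have h1 := congrArg (fun K : Subgroup S => K.map S.subtype) h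
    simpa [Subgroup.subgroupOf_map_subtype, inf_eq_left.2 hE₁.1.1, inf_eq_left.2 hE₂.1.1] using h1
  rcases out_of_extends hp2 hS hsr.1 ⟨A, B, hAB⟩ (Fus.extends_of_char hS hF hE₁ hA hB hAG hn₁ hc₂)
    (Fus.extends_of_char hS hF hE₂ hB hA hBG hn₂ hc₁) with h | h | h
  · exact ⟨nonempty_equiv_sp hp2 hAB h, Or.inr (types hE₁.1.1 hE₂.1.1 hA hB h)⟩
  · exact ⟨nonempty_equiv_sp hp2 hAB.symm h, Or.inl (types hE₂.1.1 hE₁.1.1 hB hA h)⟩
  · refine (Fus.false_of_pc hp2 hS hsr.1 hsr.2 hF hO (fun E hE => ?_) _ h).elim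
    obtain ⟨c, g, -, hcc, -, -, -, -, hcomm, -, -⟩ := Fus.pc_facts hS hp2 _ h
    refine fun s hs => ?_
    haveI : Finite (E : Set Ω) := (CfsgLib.Fusion.finite_of_le hE.1.1 : Finite E)
    refine Subgroup.mem_normalizer_fintype fun x hx => ?_
    have h1 := hcomm ⟨s, hs⟩ ⟨x, hE.1.1 hx⟩
    obtain ⟨k, hk⟩ := Subgroup.mem_zpowers_iff.1 h1
    have h2 := E.mul_mem (Fus.center_mem_centric hE.1 (Subgroup.zpow_mem _ hcc k)) hx
    rw [hk] at h2
    simpa [commutatorElement_def] using h2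

end Cfsg.Agent.S5189
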