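import Cfsg.Statements.S5194
import Cfsg.Agent.Lib.Fusion.ThompsonCriterion

set_option autoImplicit false
open Cfsg

namespace Cfsg.Agent.S5194

/-- Thompson's normal p-complement Theorem for fusion systems. Let F be a saturated fusion system over a finite p-group S such that p is odd or F is S₄-free (the symmetric group of degree 4 is not involved in any model of the normalizer system of a fully normalized F-centric subgroup), and let J(S) be the subgroup generated by the abelian subgroups of S of largest order. If the centralizer fusion system of Z(S) in F is the inner fusion system of C_S(Z(S)) = S and the normalizer fusion system of J(S) in F is the inner fusion system of N_S(J(S)) = S, then F is the inner fusion system of S. -/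
theorem result {Ω : Type*} [Group Ω] {S : Subgroup Ω} [Finite S] (p : ℕ) [Fact p.Prime] (hS : IsPGroup p S) (F : Cfsg.FusionSystem S) (hF : F.IsSaturated p) (hp : p ≠ 2 ∨ F.IsSectionFree p (Equiv.Perm (Fin 4))) (hC : ∀ C : Cfsg.FusionSystem (Cfsg.FusionSystem.centralizerIn S (S ⊓ Subgroup.centralizer (S : Set Ω))), F.IsCentralizerSystem (S ⊓ Subgroup.centralizer (S : Set Ω)) C → ∀ P : Subgroup Ω, C.Hom P = (Cfsg.innerFusionSystem (Cfsg.FusionSystem.centralizerIn S (S ⊓ Subgroup.centralizer (S : Set Ω)))).Hom P) (hN : ∀ N : Cfsg.FusionSystem (Cfsg.FusionSystem.normalizerIn S (Cfsg.thompsonSubgroupAOf S)), F.IsNormalizerSystem (Cfsg.thompsonSubgroupAOf S) N → ∀ P : Subgroup Ω, N.Hom P = (Cfsg.innerFusionSystem (Cfsg.FusionSystem.normalizerIn S (Cfsg.thompsonSubgroupAOf S))).Hom P) : ∀ P : Subgroup Ω, F.Hom P = (Cfsg.innerFusionSystem S).Hom P := by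
  have key : CfsgLib.Fusion.CoprimeTrivial F p := by
    refine CfsgLib.Fusion.coprimeTrivial_of_thompson _ S F hS hF hp ?_
    intro j P hP hVP α hα hinv hfix hc
    have hm := CfsgLib.Fusion.isMap_of_autGroup hP hα
    cases j
    · set Z := S ⊓ Subgroup.centralizer (S : Set Ω) with hZ
      have hZS : Z ≤ S := inf_le_left
      have hPC : P ≤ Cfsg.FusionSystem.centralizerIn S Z := fun x hx =>
        ⟨hP hx, fun z hz => (hz.2 x (hP hx)).symm⟩
      obtain ⟨χ, hχ, hχf⟩ := (CfsgLib.Fusion.isMap_centralizerSystem_iff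
        (CfsgLib.Fusion.isCentralizerSystem_centralizerSys F Z hZS)
        (P := P) (f := CfsgLib.Fusion.toFun (P.subtype.comp α.toMonoidHom))).2
        ⟨hPC, fun x hx => hPC (by rw [CfsgLib.Fusion.toFun_aut_apply α hx]; exact SetLike.coe_mem _),
          _, hm.mono (sup_le le_rfl hVP), fun _ _ => rfl, fun z hz => by
            rw [CfsgLib.Fusion.toFun_aut_apply α (hVP hz), hfix rfl ⟨z, hVP hz⟩ hz]⟩
      rw [hC _ (CfsgLib.Fusion.isCentralizerSystem_centralizerSys F Z hZS) P] at hχ
      obtain ⟨-, a, ha, hax⟩ := hχ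
      refine CfsgLib.Fusion.eq_one_of_conj hS hc ha.1 fun x => ?_
      rw [← CfsgLib.Fusion.toFun_aut_apply α x.2, ← hχf x]
      exact hax x
    · set V := Cfsg.thompsonSubgroupAOf S with hV
      have hVS : V ≤ S := CfsgLib.Complement.thompsonAOf_le S
      have hPN : P ≤ Cfsg.FusionSystem.normalizerIn S V := fun x hx =>
        ⟨hP hx, CfsgLib.Complement.normalizer_le_normalizer_thompsonAOf S
          (Subgroup.le_normalizer (hP hx))⟩
      have hi : CfsgLib.Fusion.img V (CfsgLib.Fusion.toFun (P.subtype.comp α.toMonoidHom)) = V := by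
        haveI := CfsgLib.Fusion.finite_of_le hVS
        refine hm.img_eq_of_forall hVP fun x hx => ?_
        rw [CfsgLib.Fusion.toFun_aut_apply α (hVP hx)]
        exact hinv ⟨x, hVP hx⟩ hx
      obtain ⟨χ, hχ, hχf⟩ := (CfsgLib.Fusion.isMap_normalizerSystem_iff
        (CfsgLib.Fusion.isNormalizerSystem_normalizerSys F V hVS)
        (P := P) (f := CfsgLib.Fusion.toFun (P.subtype.comp α.toMonoidHom))).2
        ⟨hPN, fun x hx => hPN (by rw [CfsgLib.Fusion.toFun_aut_apply α hx]; exact SetLike.coe_mem _),
          _, hm.mono (sup_le le_rfl hVP), fun _ _ => rfl, hi⟩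
      rw [hN _ (CfsgLib.Fusion.isNormalizerSystem_normalizerSys F V hVS) P] at hχ
      obtain ⟨-, a, ha, hax⟩ := hχ
      refine CfsgLib.Fusion.eq_one_of_conj hS hc ha.1 fun x => ?_
      rw [← CfsgLib.Fusion.toFun_aut_apply α x.2, ← hχf x]
      exact hax x
  intro P
  exact CfsgLib.Fusion.eq_inner_of_coprime_trivial hS hF
    (fun R hR α hα hc => key R hR.1 α hα hc) P

end Cfsg.Agent.S5194
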