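import Cfsg.Statements.S5196
import Cfsg.Agent.Lib.Fusion.Functor

set_option autoImplicit false
universe u
open Cfsg

namespace Cfsg.Agent.S5196

/-- Let p be an odd prime and W a positive characteristic p-functor: W assigns to every finite p-group Q (in a fixed universe) a subgroup W(Q), nontrivial when Q is, carried to W(R) by every isomorphism Q ≅ R; assume also Z(Q) ≤ W(Q) for every finite p-group Q. Suppose W satisfies the local condition: for every finite group G with Sylow p-subgroup P, O_p(G) ∩ Z(G) = O_p(G) ∩ Z(N_G(W(P))). Then W controls weak closure of elements in every saturated fusion system F over a finite p-group S: the centre of the normalizer fusion system of W(S) in F equals the centre of F. (For p = 2 no functor satisfies the local condition, so p is taken odd.) -/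
theorem result {p : ℕ} [Fact p.Prime] (hp : p ≠ 2) (W : ∀ (Q : Type u) [Group Q], Subgroup Q) (hW1 : ∀ (Q : Type u) [Group Q] [Finite Q], IsPGroup p Q → Nontrivial Q → W Q ≠ ⊥) (hW2 : ∀ (Q R : Type u) [Group Q] [Group R] [Finite Q], IsPGroup p Q → ∀ φ : Q ≃* R, (W Q).map φ.toMonoidHom = W R) (hWZ : ∀ (Q : Type u) [Group Q] [Finite Q], IsPGroup p Q → Subgroup.center Q ≤ W Q) (hC : ∀ (G : Type u) [Group G] [Finite G] (P : Sylow p G), Cfsg.pCore p G ⊓ Subgroup.center G = Cfsg.pCore p G ⊓ (Subgroup.center ↥(Subgroup.normalizer (((W ↥(P : Subgroup G)).map (P : Subgroup G).subtype : Subgroup G) : Set G))).map (Subgroup.normalizer (((W ↥(P : Subgroup G)).map (P : Subgroup G).subtype : Subgroup G) : Set G)).subtype) {Ω : Type u} [Group Ω] {S : Subgroup Ω} [Finite S] (hS : IsPGroup p S) (F : Cfsg.FusionSystem S) (hF : F.IsSaturated p) (N : Cfsg.FusionSystem (Cfsg.FusionSystem.normalizerIn S ((W ↥S).map S.subtype))) (hN : F.IsNormalizerSystem ((W ↥S).map S.subtype) N) :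 N.center = F.center := by
  open CfsgLib.Fusion in
  have hNS : Cfsg.FusionSystem.normalizerIn S (funcOn W S) = S :=
    normalizerIn_funcOn_top W hW2 hS
  haveI : Finite ↥(Cfsg.FusionSystem.normalizerIn S (funcOn W S)) :=
    CfsgLib.Fusion.finite_normalizerIn
  have hWS : CfsgLib.Fusion.funcOn W S ≤ S := CfsgLib.Fusion.funcOn_le W S
  refine le_antisymm (fun z hz => ?_) ?_
  · -- central in the normalizer system
    have hzS : z ∈ S := hNS.le (CfsgLib.Fusion.center_le N hz)
    have hfixN : ∀ {P : Subgroup Ω} {f : Ω → Ω}, CfsgLib.Fusion.IsMap N P f → z ∈ P → f z = z :=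
      fun hf hzP => CfsgLib.Fusion.IsCentral.apply_eq CfsgLib.Fusion.center_isCentral hf hz hzP
    have hzC : ∀ a ∈ S, a * z * a⁻¹ = z := fun a ha =>
      hfixN (CfsgLib.Fusion.isMap_conj N (le_refl _) (hNS.ge ha)) (hNS.ge hzS)
    refine CfsgLib.Fusion.mem_center_of_local hS hF hzS hzC fun U hUc hUn habove α hα hzU => ?_
    haveI : Finite ↥(Cfsg.FusionSystem.normalizerIn S U) := CfsgLib.Fusion.finite_normalizerIn
    set T := Cfsg.FusionSystem.normalizerIn S U with hTdef
    have hTS : T ≤ S := inf_le_left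
    have hTp : IsPGroup p T := hS.to_le hTS
    have hUT : U ≤ T := CfsgLib.Fusion.le_normalizerIn hUn.1
    have hE := CfsgLib.Fusion.isNormalizerSystem_normalizerSys F U hUn.1
    obtain ⟨G, hg, ι, hfin, hr, ⟨Ps, hPs⟩, hUnorm, -⟩ :=
      CfsgLib.Fusion.Model.exists_model_normalizer F hS hF hUc hUn hE
    have hzT : z ∈ T := hUT hzU
    have hzW : z ∈ CfsgLib.Fusion.funcOn W T := by
      refine ⟨⟨z, hzT⟩, hWZ T hTp (Subgroup.mem_center_iff.2 fun x => Subtype.ext ?_), rfl⟩
      have h1 := hzC x (hTS x.2)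
      calc (x : Ω) * z = x * z * (x : Ω)⁻¹ * x := by group
        _ = z * x := by rw [h1]
    have hWT : CfsgLib.Fusion.funcOn W T ≤ T := CfsgLib.Fusion.funcOn_le W T
    have hC' := hC G Ps
    rw [CfsgLib.Fusion.funcOn_map_embedding W hW2 hTp hr.1 hPs] at hC'
    set M := ((CfsgLib.Fusion.funcOn W T).subgroupOf T).map ι with hM
    have hcore : ι ⟨z, hzT⟩ ∈ Cfsg.pCore p G :=
      (le_sSup ⟨hUnorm, (hTp.to_subgroup _).map ι⟩ :
        (U.subgroupOf T).map ι ≤ Cfsg.pCore p G) ⟨⟨z, hzT⟩, hzU, rfl⟩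
    have hzM : ι ⟨z, hzT⟩ ∈ M := ⟨⟨z, hzT⟩, hzW, rfl⟩
    have hL : ∀ g ∈ Subgroup.normalizer (M : Set G), g * ι ⟨z, hzT⟩ * g⁻¹ = ι ⟨z, hzT⟩ := by
      intro g hgM
      set U₁ := U ⊔ CfsgLib.Fusion.funcOn W T with hU₁
      have hU₁T : U₁ ≤ T := sup_le hUT hWT
      have hmem : U₁ ≤ CfsgLib.Fusion.preimage ι (ι.range.comap (MulAut.conj g).toMonoidHom) := by
        refine sup_le (fun u hu => ?_) (fun w hw => ?_)
        · refine CfsgLib.Fusion.mem_preimage.2 ⟨hUT hu, ?_⟩
          obtain ⟨v, -, hv⟩ := hUnorm.conj_mem _ ⟨⟨u, hUT hu⟩, hu, rfl⟩ g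
          exact ⟨v, hv⟩
        · refine CfsgLib.Fusion.mem_preimage.2 ⟨hWT hw, ?_⟩
          obtain ⟨v, -, hv⟩ := (hgM _).1 ⟨⟨w, hWT hw⟩, hw, rfl⟩
          exact ⟨v, hv⟩
      obtain ⟨f, hf, hfx⟩ := CfsgLib.Fusion.realized_exists_map hr hU₁T g fun x hx =>
        (CfsgLib.Fusion.mem_preimage.1 (hmem hx)).2
      obtain ⟨hfzT, hfz⟩ := hfx z (Subgroup.mem_sup_left hzU)
      obtain ⟨-, -, f', hf', hf'x, -⟩ := (CfsgLib.Fusion.isMap_normalizerSystem_iff hE).1 hf
      have hWimg : ∀ w ∈ CfsgLib.Fusion.funcOn W T, f w ∈ CfsgLib.Fusion.funcOn W T := fun w hw => by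
        obtain ⟨hw', he⟩ := hfx w (Subgroup.mem_sup_right hw)
        obtain ⟨v, hv, hvι⟩ := (hgM _).1 ⟨⟨w, hWT hw⟩, hw, rfl⟩
        have h2 : v = ⟨f w, hw'⟩ := hr.1 (hvι.trans he.symm)
        rw [h2] at hv
        exact hv
      have hfU : CfsgLib.Fusion.IsMap F U₁ f := (hf'.mono le_sup_left).congr hf'x
      have hWi : CfsgLib.Fusion.img (CfsgLib.Fusion.funcOn W T) f = CfsgLib.Fusion.funcOn W T := by
        haveI : Finite (CfsgLib.Fusion.funcOn W T) := CfsgLib.Fusion.finite_of_le (hWT.trans hTS)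
        refine CfsgLib.Fusion.eq_of_le_of_card_le (fun y hy => ?_)
          (hfU.mono le_sup_right).card_img.ge
        obtain ⟨w, hw, rfl⟩ := (hfU.mono le_sup_right).mem_img.1 hy
        exact hWimg w hw
      have hfix : f z = z := by
        rcases hTS.eq_or_lt with hTeq | hlt
        · -- at the top the hypothesis on the normalizer system applies
          rw [hTeq] at hU₁T hWi
          refine hfixN ((CfsgLib.Fusion.isMap_normalizerSystem_iff hN).2
            ⟨hU₁T.trans hNS.ge, fun x hx => hNS.ge (hfU.mem hx), f, ?_, fun _ _ => rfl, hWi⟩)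
            (Subgroup.mem_sup_left hzU)
          rwa [sup_eq_left.2]
          rw [hU₁, hTeq]
          exact le_sup_right
        · have hlt' : Nat.card T <
              Nat.card (Cfsg.FusionSystem.normalizerIn S (CfsgLib.Fusion.funcOn W T)) := by
            haveI : Finite ↥(Cfsg.FusionSystem.normalizerIn S (CfsgLib.Fusion.funcOn W T)) :=
              CfsgLib.Fusion.finite_normalizerIn
            have h1 := lt_of_lt_of_le (CfsgLib.Fusion.lt_normalizerIn hS hlt)
              (CfsgLib.Fusion.normalizer_le_funcOn W hW2 hS hTS)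
            exact lt_of_not_ge fun h => h1.ne (CfsgLib.Fusion.eq_of_le_of_card_le h1.le h)
          have hm := hfU.mono (le_sup_right : CfsgLib.Fusion.funcOn W T ≤ U₁)
          have h2 := habove _ (hWT.trans hTS) hlt' _ (hm.toAut_mem hWi) hzW
          rwa [hm.toAut_apply] at h2
      rw [← hfz]
      exact congrArg ι (Subtype.ext hfix)
    have hzcen : ι ⟨z, hzT⟩ ∈ Subgroup.center G := by
      refine (hC'.ge ⟨hcore, ⟨⟨_, Subgroup.le_normalizer hzM⟩, ?_, rfl⟩⟩).2
      refine Subgroup.mem_center_iff.2 fun g => Subtype.ext ?_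
      have h1 := hL g g.2
      calc (g : G) * ι ⟨z, hzT⟩ = g * ι ⟨z, hzT⟩ * (g : G)⁻¹ * g := by group
        _ = ι ⟨z, hzT⟩ * g := by rw [h1]
    have hαE : CfsgLib.Fusion.IsMap (CfsgLib.Fusion.normalizerSys F U hUn.1) U
        (CfsgLib.Fusion.toFun (U.subtype.comp α.toMonoidHom)) := by
      refine (CfsgLib.Fusion.isMap_normalizerSystem_iff hE).2 ⟨hUT, fun x hx => ?_, _, ?_,
        fun _ _ => rfl, CfsgLib.Fusion.img_toFun_aut α⟩
      · rw [CfsgLib.Fusion.toFun_aut_apply α hx]
        exact hUT (α ⟨x, hx⟩).2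
      · rw [sup_idem]
        exact CfsgLib.Fusion.isMap_of_autGroup hUn.1 hα
    obtain ⟨g, hg⟩ := CfsgLib.Fusion.realized_exists_elem hr hαE
    have h3 := hg z hzU hzT (by
      rw [CfsgLib.Fusion.toFun_aut_apply α hzU]; exact hUT (α ⟨z, hzU⟩).2)
    rw [Subgroup.mem_center_iff.1 hzcen g, mul_inv_cancel_right] at h3
    have h4 := congrArg Subtype.val (hr.1 h3)
    simp only [CfsgLib.Fusion.toFun_aut_apply α hzU] at h4
    exact h4
  · -- the centre is central in the normalizer system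
    refine CfsgLib.Fusion.IsCentral.le_center ?_
    refine CfsgLib.Fusion.isCentral_iff.2
      ⟨(CfsgLib.Fusion.center_le F).trans hNS.ge, fun P f hf => ?_⟩
    obtain ⟨hP, hv, g, hg, hgx, hgW⟩ := (CfsgLib.Fusion.isMap_normalizerSystem_iff hN).1 hf
    obtain ⟨g', hg', hg'x, hg'Z⟩ :=
      (CfsgLib.Fusion.isCentral_iff.1 CfsgLib.Fusion.center_isCentral).2 _ g hg
    have hle : P ⊔ F.center ≤ P ⊔ CfsgLib.Fusion.funcOn W S ⊔ F.center :=
      sup_le_sup_right le_sup_left _
    refine ⟨g', (CfsgLib.Fusion.isMap_normalizerSystem_iff hN).2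
      ⟨sup_le hP ((CfsgLib.Fusion.center_le F).trans hNS.ge), fun x hx => hNS.ge (hg'.mem (hle hx)),
        g', hg'.mono ?_, fun _ _ => rfl, ?_⟩,
      fun x hx => (hg'x x (Subgroup.mem_sup_left hx)).trans (hgx x hx), hg'Z⟩
    · exact sup_le (sup_le (le_sup_left.trans le_sup_left) le_sup_right)
        (le_sup_right.trans le_sup_left)
    · exact (CfsgLib.Fusion.img_congr fun x hx => hg'x x (Subgroup.mem_sup_right hx)).trans hgW

end Cfsg.Agent.S5196
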