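import Cfsg.Statements.S5199
import Cfsg.Agent.Lib.Fusion.ResidualSystem

set_option autoImplicit false
open Cfsg Cfsg.FusionSystem CfsgLib.Fusion

namespace Cfsg.Agent.S5199

/-- Let F be a saturated fusion system over a finite p-group S, E a normal subsystem of F over T, and F₀ a normal subsystem of F over a subgroup U containing both T and the hyperfocal subgroup of F, such that F₀ has p-power index in F. Then E is a subsystem of F₀. -/
theorem result {Ω : Type*} [Group Ω] {S : Subgroup Ω} [Finite S] (p : ℕ) [Fact p.Prime] (hS : IsPGroup p S) (F : Cfsg.FusionSystem S) (hF : F.IsSaturated p) {T U : Subgroup Ω} (E : Cfsg.FusionSystem T) (hE : E.IsNormalIn F p) (F₀ : Cfsg.FusionSystem U) (hF₀ : F₀.IsNormalIn F p) (hU : T ⊔ F.hyperfocalSubgroup p ≤ U) (hidx : F₀.HasPPowerIndexIn F p) : E.IsSubsystemOf F₀ := by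
  obtain ⟨⟨hEsat, -, ⟨hsub, hsc, -, -⟩⟩, -⟩ := hE
  haveI : Finite T := finite_of_le hsc.1
  have hTU : T ≤ U := le_sup_left.trans hU
  let D : Cfsg.FusionSystem T :=
    { Hom := fun P => {φ | φ ∈ E.Hom P ∧ φ ∈ F₀.Hom P}
      le_of_mem := fun h => E.le_of_mem h.1
      injective_of_mem := fun h => E.injective_of_mem h.1
      conj_mem := fun hP hg => ⟨E.conj_mem hP hg, F₀.conj_mem (hP.trans hTU) (hTU hg)⟩
      comp_mem := fun hφ hψ h => ⟨E.comp_mem hφ.1 hψ.1 h, F₀.comp_mem hφ.2 hψ.2 h⟩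
      inv_mem := fun {P φ} hφ => by
        obtain ⟨ψ, hψ, hψx⟩ := E.inv_mem hφ.1
        obtain ⟨ψ', hψ', hψ'x⟩ := F₀.inv_mem hφ.2
        have e : ψ = ψ' := MonoidHom.ext fun y => by
          obtain ⟨_, x, rfl⟩ := y
          exact (hψx x).trans (hψ'x x).symm
        exact ⟨ψ, ⟨hψ, e ▸ hψ'⟩, hψx⟩ }
  suffices h : E ≤ D from fun P φ hφ => (h P hφ).2
  refine le_of_coprime_aut (hS.to_le hsc.1) hEsat fun P hPT α hα hcop => ?_
  have hαF : α ∈ F.autGroup P := (autGroup_mem_iff (hPT.trans hsc.1)).2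
    (hsub P ((autGroup_mem_iff hPT).1 hα))
  have h0 : α ∈ F₀.autGroup P := hidx.2.2 P (hPT.trans hTU) ⟨⟨α, hαF⟩,
    Subgroup.subset_closure (show (orderOf (⟨α, hαF⟩ : F.autGroup P)).Coprime p by
      rwa [Subgroup.orderOf_mk]), rfl⟩
  exact (autGroup_mem_iff (F := D) hPT).2
    ⟨(autGroup_mem_iff hPT).1 hα, (autGroup_mem_iff (hPT.trans hTU)).1 h0⟩

end Cfsg.Agent.S5199
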