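import Cfsg.Statements.S5200
import Cfsg.Agent.Lib.Comp.ThompsonCentral
import Cfsg.Agent.Lib.Fusion.TransferControl

set_option autoImplicit false
open Cfsg

namespace Cfsg.Agent.S5200

/-- Let F be a saturated fusion system over a finite p-group S and E a normal subsystem of F over T whose centralizer in S lies in T: every subgroup Y of C_S(T) such that E is contained in the centralizer fusion system of Y in F satisfies Y ≤ T. Then T·C_S(T)/T is abelian (the commutator subgroup of T·C_S(T) lies in T), and if p is odd then C_S(T) ≤ T. -/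
theorem result {Ω : Type*} [Group Ω] {S : Subgroup Ω} [Finite S] (p : ℕ) [Fact p.Prime] (hS : IsPGroup p S) (F : Cfsg.FusionSystem S) (hF : F.IsSaturated p) {T : Subgroup Ω} (E : Cfsg.FusionSystem T) (hE : E.IsNormalIn F p) (hCE : ∀ Y : Subgroup Ω, Y ≤ Cfsg.FusionSystem.centralizerIn S T → (∀ C : Cfsg.FusionSystem (Cfsg.FusionSystem.centralizerIn S Y), F.IsCentralizerSystem Y C → E.IsSubsystemOf C) → Y ≤ T) : ⁅T ⊔ Cfsg.FusionSystem.centralizerIn S T, T ⊔ Cfsg.FusionSystem.centralizerIn S T⁆ ≤ T ∧ (p ≠ 2 → Cfsg.FusionSystem.centralizerIn S T ≤ T) := by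
  open Cfsg.FusionSystem CfsgLib.Fusion CfsgLib.Comp.CExt in
  have hsc : F.StronglyClosed T := hE.1.2.2.2.1
  have hTn : S ≤ Subgroup.normalizer (T : Set Ω) := StronglyClosed.le_normalizer hsc
  set C := centralizerIn S T with hC
  have hcent : ∀ z, Cent F E z → z ∈ T := by
    intro z hz
    refine hCE (centGen F E) centGen_le (fun D hD P => ?_) (Subgroup.subset_closure hz)
    rw [hD P]
    exact hom_subset_centGen hS hF hE P
  refine ⟨?_, fun hp y hy => ?_⟩
  · -- commutators of `C_S(T)` move elements by maps centralizing `T`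
    have hTS : T ≤ S := hsc.1
    have hfoc : (centralizerSys F T hTS).focalSubgroup ≤ T := by
      have hYC : (centralizerSys F T hTS).focalSubgroup ≤ centralizerIn S T :=
        (Subgroup.closure_le _).2 fun z hz => by
          obtain ⟨P, φ, u, hφ, rfl⟩ := hz
          exact mul_mem (inv_mem (hφ.2.1 u.2)) (hφ.2.2.1 u)
      have hTY : T ≤ centralizerIn S (centralizerSys F T hTS).focalSubgroup :=
        le_inf hTS fun t ht y hy => ((hYC hy).2 t ht).symm
      exact fun z hz => hcent z (cent_of_le hYC (fun P φ hφ =>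
        (CfsgLib.Comp.Fus.le_fixSys_focal hS hF hE hTS (hYC.trans inf_le_left) hTY P hφ).2) hz)
    have hCC : ⁅C, C⁆ ≤ T :=
      (CfsgLib.Fusion.commutator_le_focal (centralizerSys F T hTS)).trans hfoc
    have hTN : C ≤ Subgroup.normalizer (T : Set Ω) := inf_le_left.trans hTn
    rw [Subgroup.commutator_le]
    intro a ha b hb
    rw [← SetLike.mem_coe, Subgroup.coe_mul_of_right_le_normalizer_left T C hTN, Set.mem_mul] at ha hb
    obtain ⟨t, ht, c, hc, rfl⟩ := ha
    obtain ⟨u, hu, d, hd, rfl⟩ := hb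
    have hcd := hCC (Subgroup.commutator_mem_commutator hc hd)
    rw [commutatorElement_def] at hcd ⊢
    have h1 : c * u * c⁻¹ = u := by rw [← hc.2 u hu, mul_inv_cancel_right]
    have h3 : d * t * d⁻¹ = t := by rw [← hd.2 t ht, mul_inv_cancel_right]
    have h4 : c * t⁻¹ * c⁻¹ = t⁻¹ := by rw [← hc.2 _ (T.inv_mem ht), mul_inv_cancel_right]
    have e : t * c * (u * d) * (t * c)⁻¹ * (u * d)⁻¹ =
        t * (c * u * c⁻¹) * (c * d * c⁻¹ * d⁻¹) * (d * t⁻¹ * d⁻¹) * u⁻¹ := by group
    rw [e, h1, ← inv_inv (d * t⁻¹ * d⁻¹), show (d * t⁻¹ * d⁻¹)⁻¹ = d * t * d⁻¹ by group, h3]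
    exact T.mul_mem (T.mul_mem (T.mul_mem (T.mul_mem ht hu) hcd) (T.inv_mem ht)) (T.inv_mem hu)
  · obtain ⟨z, hz, hw⟩ := exists_cent_translate hS hF hE hp hy
    have h1 := T.mul_mem (hcent _ hw) (T.inv_mem hz)
    rwa [mul_inv_cancel_right] at h1

end Cfsg.Agent.S5200
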