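import Cfsg.Statements.S5201
import Cfsg.Agent.Lib.Comp.SolvableQuotientNormal
import Cfsg.Agent.Lib.Comp.CentralizerClosed
import Cfsg.Agent.Lib.Comp.FusionFocalNormal

set_option autoImplicit false
open Cfsg

namespace Cfsg.Agent.S5201

/-- A reduction to normal subsystems. Let F be a saturated fusion system over a finite p-group S and E a normal subsystem of F over T whose centralizer in S lies in T (every subgroup Y of C_S(T) with E contained in the centralizer fusion system of Y in F satisfies Y ≤ T), and suppose Aut_F(T)/Aut_E(T) is p-solvable. Then F and E have the same residual limit: if F∞ is the residual limit of F (reached by alternately passing to the p-residual and the p'-residual subsystem until nothing changes) and E∞ that of E, then F∞ and E∞ have the same maps. -/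
theorem result {Ω : Type*} [Group Ω] {S : Subgroup Ω} [Finite S] (p : ℕ) [Fact p.Prime] (hS : IsPGroup p S) (F : Cfsg.FusionSystem S) (hF : F.IsSaturated p) {T : Subgroup Ω} (E : Cfsg.FusionSystem T) (hE : E.IsNormalIn F p) (hCE : ∀ Y : Subgroup Ω, Y ≤ Cfsg.FusionSystem.centralizerIn S T → (∀ C : Cfsg.FusionSystem (Cfsg.FusionSystem.centralizerIn S Y), F.IsCentralizerSystem Y C → E.IsSubsystemOf C) → Y ≤ T) [hn : ((E.autGroup T).subgroupOf (F.autGroup T)).Normal] (hsolv : Cfsg.IsPSolvable p (↥(F.autGroup T) ⧸ (E.autGroup T).subgroupOf (F.autGroup T))) {U V : Subgroup Ω} (Finf : Cfsg.FusionSystem U) (hFinf : Finf.IsResidualLimitOf F p) (Einf : Cfsg.FusionSystem V) (hEinf : Einf.IsResidualLimitOf E p) : ∀ P : Subgroup Ω, Finf.Hom P = Einf.Hom P := by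
  open Cfsg.FusionSystem CfsgLib.Fusion CfsgLib.Comp.Fus CfsgLib.Comp.SQ CfsgLib.Comp.CExt in
  have hw := hE.1
  obtain ⟨G, hG, hGT⟩ := exists_chain hS hw (fun [_] => hsolv)
  have hsc : F.StronglyClosed T := hw.2.2.2.1
  have hTS : T ≤ S := hsc.1
  have hTn : S ≤ Subgroup.normalizer (T : Set Ω) := StronglyClosed.le_normalizer hsc
  have hUS : T ⊔ centralizerIn S T ≤ S := sup_le hTS inf_le_left
  haveI := finite_of_le hUS
  haveI := finite_of_le hTS
  have hUp : IsPGroup p ↥(T ⊔ centralizerIn S T) := hS.to_le hUS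
  have hTU : T ≤ T ⊔ centralizerIn S T := le_sup_left
  have hwG : E.IsWeaklyNormalIn G p := isWeaklyNormalIn_between hS hw hG.sat hG.sub hG.base
  have hscG : G.StronglyClosed T := hwG.2.2.2.1
  have hscU := stronglyClosed_sup_centralizerIn hS hF hsc
  have hfoc : (centralizerSys F T hTS).focalSubgroup ≤ T := by
    have hYC : (centralizerSys F T hTS).focalSubgroup ≤ centralizerIn S T :=
      (Subgroup.closure_le _).2 fun z hz => by
        obtain ⟨P, φ, u, hφ, rfl⟩ := hz
        exact mul_mem (Subgroup.inv_mem _ (hφ.2.1 u.2)) (hφ.2.2.1 u)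
    have hTY : T ≤ centralizerIn S (centralizerSys F T hTS).focalSubgroup :=
      le_inf hTS fun t ht y hy => ((hYC hy).2 t ht).symm
    have hle := le_fixSys_focal hS hF hE hTS (hYC.trans inf_le_left) hTY
    intro z hz
    refine hCE (centGen F E) centGen_le (fun D hD P => ?_)
      (Subgroup.subset_closure (cent_of_le hYC (fun P φ hφ => (hle P hφ).2) hz))
    rw [hD P]
    exact hom_subset_centGen hS hF hE P
  have key : ∀ {Q : Subgroup Ω} {g : Ω → Ω}, IsMap F Q g → T ≤ Q → Q ≤ T ⊔ centralizerIn S T →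
      (∃ a, IsMap E T a ∧ ∀ x ∈ T, g x = a x) → ∀ x ∈ Q, x⁻¹ * g x ∈ T := by
    rintro Q g hg hTQ hQU ⟨a, ha, hga⟩ x hx
    obtain ⟨b, hb, hbx, hbc⟩ := (isNormalIn_iff.1 hE).2 a ha
    have hx' : x ∈ ((T ⊔ centralizerIn S T : Subgroup Ω) : Set Ω) := hQU hx
    rw [Subgroup.coe_mul_of_right_le_normalizer_left _ _
      (show centralizerIn S T ≤ Subgroup.normalizer (T : Set Ω) from inf_le_left.trans hTn)] at hx'
    obtain ⟨t, ht, c, hc, htc⟩ := hx'
    subst htc
    have hcQ : c ∈ Q := by simpa using Q.mul_mem (Q.inv_mem (hTQ ht)) hx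
    have hle : T ⊔ Subgroup.zpowers c ≤ Q := sup_le hTQ (Subgroup.zpowers_le.2 hcQ)
    obtain ⟨j, hj, hjx, hjy, hji⟩ := hb.exists_inv
    rw [StronglyClosed.img_eq hscU hb le_rfl] at hj hjy
    have hh : IsMap F (T ⊔ Subgroup.zpowers c) (fun z => j (g z)) :=
      (hg.mono hle).comp hj fun z hz => StronglyClosed.apply_mem hscU hg (hle hz) (hQU (hle hz))
    have hz : c⁻¹ * j (g c) ∈ T := hfoc (mem_focal_centralizer hS hF hE hTS hc hh fun y hy => by
      show j (g y) = y
      rw [hga y hy, ← hbx y hy, hjx y (Subgroup.mem_sup_left hy)])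
    have hcz : c⁻¹ * g c ∈ T := by
      have hgc : g c ∈ T ⊔ centralizerIn S T := StronglyClosed.apply_mem hscU hg hcQ (hQU hcQ)
      have e : g c = b c * b (c⁻¹ * j (g c)) := by
        rw [← hb.map_mul (Subgroup.mem_sup_right hc) (Subgroup.mem_sup_left hz),
          mul_inv_cancel_left, (hjy _ hgc).2]
      rw [e, ← mul_assoc]
      exact T.mul_mem (hbc c hc).1 ((hbx _ hz).symm ▸ ha.mem hz)
    have hgt : g t ∈ T := (hga t ht).symm ▸ ha.mem ht
    rw [hg.map_mul (hTQ ht) hcQ,
      show (t * c)⁻¹ * (g t * g c) = c⁻¹ * (t⁻¹ * g t) * (c⁻¹)⁻¹ * (c⁻¹ * g c) by group]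
    exact T.mul_mem
      (((hTn (Subgroup.inv_mem _ hc.1)) _).1 (T.mul_mem (T.inv_mem ht) hgt)) hcz
  have hEmap : ∀ {b : Ω → Ω}, IsMap G T b → IsMap E T b := by
    intro b hb
    have hbi : img T b = T := StronglyClosed.img_eq hscG hb le_rfl
    have hmem : hb.toAut hbi ∈ E.autGroup T := hGT ▸ hb.toAut_mem hbi
    refine (isMap_autFun le_rfl hmem).congr fun x hx => ?_
    rw [autFun_apply _ hx, IsMap.toAut_apply]
  have hhyp : G.hyperfocalSubgroup p ≤ T := hyperfocal_le_of _ fun P hP α hα hco x => by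
    have hf : IsMap G P _ := isMap_autFun hP hα
    obtain ⟨g, hg, hgx⟩ := exists_map_mod hUp hG.sat hscG hf
    have hgT : IsMap G T g := hg.mono le_sup_right
    have h1 := key (isSubsystemOf_iff.1 hG.sub _ _ hg) le_sup_right (sup_le hP hTU)
      ⟨g, hEmap hgT, fun _ _ => rfl⟩ x (Subgroup.mem_sup_left x.2)
    have h2 := T.mul_mem h1 (hgx x x.2)
    rw [autFun_apply α x.2] at h2
    simpa [mul_assoc] using h2
  have hidx : E.HasPPowerIndexIn G p := by
    refine ⟨hG.base, hhyp, fun P hP => ?_⟩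
    rw [Subgroup.map_le_iff_le_comap]
    refine (Subgroup.closure_le _).2 ?_
    rintro ⟨α, hα⟩ hco
    obtain ⟨-, -, -, hfr⟩ := isInvariantIn_iff.1 hwG.2.2
    obtain ⟨b, hb, e, he, hbe⟩ := hfr P _ hP (isMap_autFun (hP.trans hTU) hα)
    exact (autGroup_iff_isMap hP fun x => (autFun_apply α x.2).symm).2
      ((he.comp (hEmap hb) fun x hx => he.mem hx).congr fun x hx => (hbe x hx).symm)
  have hEn : E.IsNormalIn G p := by
    refine isNormalIn_iff.2 ⟨hwG, fun a ha => ?_⟩
    have haG : IsMap G T a := isSubsystemOf_iff.1 hG.base T a ha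
    obtain ⟨b, hb, hbx⟩ := receptive_extend_centralizer
      (receptive_of_fullyNormalized hUp hG.sat (fullyNormalized_of_closed hscG)) haG
      (StronglyClosed.img_eq hscG haG le_rfl)
    refine ⟨b, hb, hbx, fun c hc => ⟨?_, ?_⟩⟩
    · exact key (isSubsystemOf_iff.1 hG.sub _ _ hb) le_sup_left (sup_le hTU inf_le_left)
        ⟨a, ha, hbx⟩ c (Subgroup.mem_sup_right hc)
    · have h1 := hb.apply_mem_centralizerIn le_sup_left (Subgroup.mem_sup_right hc) hc.2
      rw [StronglyClosed.img_eq hscG hb le_sup_left] at h1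
      exact mul_mem (Subgroup.inv_mem _ hc.2) h1.2
  obtain ⟨W, L, hL⟩ := exists_limit hUp hG.sat
  intro P
  exact (hG.lim Finf L hFinf hL P).trans (limit_eq_of_pPowerIndex hUp hG.sat hEn hidx hL hEinf P)

end Cfsg.Agent.S5201
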