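import Cfsg.Statements.S5202
import Cfsg.Agent.Lib.Comp.SolvableQuotientNormal

set_option autoImplicit false
open Cfsg

namespace Cfsg.Agent.S5202

/-- Let F be a saturated fusion system over a finite p-group S and E a normal subsystem of F over T such that Aut_F(T)/Aut_E(T) is p-solvable. Then there is a normal subsystem F₀ of F over T·C_S(T) containing E, with Aut_{F₀}(T) = Aut_E(T), containing every residual limit of F, and whose residual limits have the same maps as those of F. -/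
theorem result {Ω : Type*} [Group Ω] {S : Subgroup Ω} [Finite S] (p : ℕ) [Fact p.Prime] (hS : IsPGroup p S) (F : Cfsg.FusionSystem S) (hF : F.IsSaturated p) {T : Subgroup Ω} (E : Cfsg.FusionSystem T) (hE : E.IsNormalIn F p) [hn : ((E.autGroup T).subgroupOf (F.autGroup T)).Normal] (hsolv : Cfsg.IsPSolvable p (↥(F.autGroup T) ⧸ (E.autGroup T).subgroupOf (F.autGroup T))) : ∃ F₀ : Cfsg.FusionSystem (T ⊔ Cfsg.FusionSystem.centralizerIn S T), F₀.IsNormalIn F p ∧ E.IsSubsystemOf F₀ ∧ F₀.autGroup T = E.autGroup T ∧ ∀ {U : Subgroup Ω} (Finf : Cfsg.FusionSystem U), Finf.IsResidualLimitOf F p → Finf.IsSubsystemOf F₀ ∧ ∀ {V : Subgroup Ω} (L : Cfsg.FusionSystem V), L.IsResidualLimitOf F₀ p → ∀ P : Subgroup Ω, L.Hom P = Finf.Hom P := by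
  open CfsgLib.Comp.SQ CfsgLib.Comp.Fus in
  obtain ⟨G, hG, hGT⟩ := exists_chain hS hE.1 (fun [_] => hsolv)
  haveI : Finite ↥(T ⊔ Cfsg.FusionSystem.centralizerIn S T) :=
    CfsgLib.Fusion.finite_of_le (CfsgLib.Comp.Fus.le_of_isSubsystemOf hG.sub)
  obtain ⟨W, L, hL⟩ := CfsgLib.Comp.Fus.exists_limit
    (hS.to_le (CfsgLib.Comp.Fus.le_of_isSubsystemOf hG.sub)) hG.sat
  refine ⟨G, CfsgLib.Comp.SQ.isNormalIn_chain hS hE.1 hG hGT, hG.base, hGT, fun Finf hFinf =>
    ⟨fun P φ hφ => CfsgLib.Comp.Fus.limit_le hL P ((hG.lim Finf L hFinf hL P) ▸ hφ),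
      fun L' hL' P => (hG.lim Finf L' hFinf hL' P).symm⟩⟩

end Cfsg.Agent.S5202
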