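import Cfsg.Statements.S5205
import Cfsg.Agent.Lib.Fusion.FunctorNormal

set_option autoImplicit false
universe u
open Cfsg

namespace Cfsg.Agent.S5205

/-- Glauberman's ZJ-Theorem for fusion systems, in functor form. Let p be an odd prime and W a Glauberman functor: W assigns to every finite p-group Q (in a fixed universe) a subgroup W(Q), nontrivial when Q is, carried to W(R) by every isomorphism Q ≅ R, and such that W(P) is normal in L whenever P is a Sylow p-subgroup of a finite group L with C_L(O_p(L)) = Z(O_p(L)) in which Qd(p) (the natural semidirect product of an elementary abelian group of order p² by SL₂(p)) is not involved. Let F be a saturated fusion system over a finite p-group S that is Qd(p)-free: Qd(p) is not involved in any model of the normalizer system of a fully normalized F-centric subgroup. Then F equals the normalizer fusion system of W(S) in F. -/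
theorem result {p : ℕ} [Fact p.Prime] (hp : p ≠ 2) (W : ∀ (Q : Type u) [Group Q], Subgroup Q) (hW1 : ∀ (Q : Type u) [Group Q] [Finite Q], IsPGroup p Q → Nontrivial Q → W Q ≠ ⊥) (hW2 : ∀ (Q R : Type u) [Group Q] [Group R] [Finite Q], IsPGroup p Q → ∀ φ : Q ≃* R, (W Q).map φ.toMonoidHom = W R) (hW3 : ∀ (L : Type u) [Group L] [Finite L] (P : Sylow p L), Subgroup.centralizer ((Cfsg.pCore p L : Subgroup L) : Set L) = Cfsg.pCore p L ⊓ Subgroup.centralizer ((Cfsg.pCore p L : Subgroup L) : Set L) → ¬ Cfsg.Involves ↥(Cfsg.qd p) L → (((W ↥(P : Subgroup L)).map (P : Subgroup L).subtype : Subgroup L)).Normal) {Ω : Type u} [Group Ω] {S : Subgroup Ω} [Finite S] (hS : IsPGroup p S) (F : Cfsg.FusionSystem S) (hF : F.IsSaturated p) (hfree : F.IsSectionFree p ↥(Cfsg.qd p)) (N : Cfsg.FusionSystem (Cfsg.FusionSystem.normalizerIn S ((W ↥S).map S.subtype))) (hN : F.IsNormalizerSystem ((W ↥S).map S.subtype) N) : ∀ P : Subgroup Ω, N.Hom P = F.Hom P := by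
  have h3 : CfsgLib.Fusion.NormalInFree p ↥(Cfsg.qd p) W := fun L _ _ P hc hfreeL =>
    hW3 L P (inf_eq_right.2 hc).symm hfreeL
  have hWn : F.IsNormal (CfsgLib.Fusion.funcOn W S) :=
    CfsgLib.Fusion.funcOn_isNormal W hW1 hW2 h3 Ω S F hS hF hfree
  have hn : Cfsg.FusionSystem.normalizerIn S ((W ↥S).map S.subtype) = S :=
    CfsgLib.Fusion.normalizerIn_funcOn_top W hW2 hS
  intro P
  refine Set.ext fun φ => ⟨fun hφ => ?_, fun hφ => ?_⟩
  · rw [hN P] at hφ
    exact hφ.1
  · rw [hN P, CfsgLib.Fusion.mem_normalizerHom_iff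
      (f := CfsgLib.Fusion.toFun φ) (fun x => (CfsgLib.Fusion.toFun_apply φ x).symm)]
    have hm := CfsgLib.Fusion.isMap_of_hom hφ
    obtain ⟨g, hg, hgx, hgW⟩ := (CfsgLib.Fusion.isNormal_iff.1 hWn).2 P _ hm
    exact ⟨hn.symm ▸ hm.le, fun x hx => hn.symm ▸ hm.mem hx, g, hg, hgx, hgW⟩

end Cfsg.Agent.S5205
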