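import Cfsg.Statements.S5212
import Cfsg.Agent.Lib.Invol.MetacyclicTwo
import Cfsg.Agent.Lib.Invol.MaxClassRank
import Cfsg.Agent.Lib.PGroup.MetacyclicTwoAutMain
import Cfsg.Agent.Lib.Fusion.Alperin
import Mathlib

set_option autoImplicit false
open Cfsg

namespace Cfsg.Agent.S5212

open Subgroup Cfsg.FusionSystem CfsgLib.Fusion

theorem finTwo_equiv (A : Type) [AddCommGroup A] :
    Nonempty (Multiplicative A × Multiplicative A ≃* Multiplicative (Fin 2 → A)) :=
  ⟨{ toFun := fun t => Multiplicative.ofAdd ![t.1.toAdd, t.2.toAdd]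
     invFun := fun f => (Multiplicative.ofAdd (f.toAdd 0), Multiplicative.ofAdd (f.toAdd 1))
     left_inv := fun t => rfl
     right_inv := fun f => by
       apply Multiplicative.toAdd.injective
       funext i
       fin_cases i <;> rfl
     map_mul' := fun t u => by
       apply Multiplicative.toAdd.injective
       funext i
       fin_cases i <;> rfl }⟩

/-- Let S be a finite metacyclic 2-group that is not homocyclic abelian (a direct product of cyclic groups of one common order), not dihedral, not semidihedral and not generalized quaternion. Then every saturated fusion system over S is the inner fusion system of S. -/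
theorem result {Ω : Type*} [Group Ω] {S : Subgroup Ω} [Finite S] (hS : IsPGroup 2 S) (F : Cfsg.FusionSystem S) (hF : F.IsSaturated 2) (hm : Cfsg.IsMetacyclic ↥S) (hh : ¬ ∃ n k : ℕ, Nonempty (↥S ≃* Multiplicative (Fin k → ZMod (2 ^ n)))) (hd : ¬ ∃ m : ℕ, Nonempty (↥S ≃* DihedralGroup m)) (hq : ¬ ∃ m : ℕ, Nonempty (↥S ≃* QuaternionGroup m)) (hsd : ¬ Cfsg.IsQuasiDihedral ↥S) : ∀ P : Subgroup Ω, F.Hom P = (Cfsg.innerFusionSystem S).Hom P := by
  classical
  haveI : Fact (Nat.Prime 2) := ⟨Nat.prime_two⟩
  suffices h : ∀ P, (P = S ∨ F.IsEssential 2 P) → IsPGroup 2 (F.autGroup P) by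
    intro P
    rw [eq_inner_of_pGroup hS hF h]
  intro P hP
  rcases hP with rfl | hP
  · refine IsPGroup.to_subgroup ?_ _
    by_contra hA
    rcases CfsgLib.PGroup.quaternion_or_homocyclic hS hm hA with hQ | ⟨n, ⟨e⟩⟩
    · exact hq ⟨2, hQ⟩
    · obtain ⟨e'⟩ := finTwo_equiv (ZMod (2 ^ n))
      exact hh ⟨n, 2, ⟨e.trans e'⟩⟩
  by_contra hnp
  have hPS : P < S := lt_of_essential hS hF hP
  have hle : P ≤ S := hPS.le
  haveI := finite_of_le hle
  have hmP : Cfsg.IsMetacyclic P := CfsgLib.OddLocal.isMetacyclic_of_equiv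
    (Subgroup.subgroupOfEquivOfLe hle) (CfsgLib.OddLocal.isMetacyclic_subgroup hm _)
  set P' : Subgroup S := P.subgroupOf S with hP'
  have hCP : ∀ s : S, s ∈ centralizer (P' : Set S) → (s : Ω) ∈ P := by
    intro s hs
    refine hP.1.2 P (isConj_refl hle) ⟨s.2, fun x hx => ?_⟩
    exact congrArg Subtype.val (mem_centralizer_iff.1 hs ⟨x, hle hx⟩ hx)
  have hC : centralizer (P' : Set S) ≤ P' := fun s hs => mem_subgroupOf.2 (hCP s hs)
  obtain ⟨m, hSm⟩ := hS.exists_card_eq
  have hlt : Nat.card P' < Nat.card S := by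
    refine lt_of_le_of_ne (Subgroup.card_le_card_group P') fun e => hPS.not_ge fun x hx => ?_
    exact mem_subgroupOf.1 ((Subgroup.eq_top_of_card_eq P' e).ge (mem_top ⟨x, hx⟩))
  have hmax : 3 ≤ m → Group.nilpotencyClass S = m - 1 → False := by
    intro hm3 hcl
    rcases CfsgLib.Invol.maxClass_two_types hm3 hSm hcl with h | h | h
    · exact hd h
    · exact hq h
    · exact hsd h
  rcases CfsgLib.PGroup.quaternion_or_homocyclic (hS.to_le hle) hmP
      (fun h => hnp (h.to_subgroup _)) with ⟨⟨e⟩⟩ | ⟨n, ⟨e⟩⟩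
  · let e' : P' ≃* QuaternionGroup 2 := (Subgroup.subgroupOfEquivOfLe hle).trans e
    have h8 : Nat.card P' = 2 ^ 3 := by
      rw [Nat.card_congr e'.toEquiv, Nat.card_eq_fintype_card, QuaternionGroup.card]; norm_num
    have hnc : ¬ IsMulCommutative P' := fun h => by
      have h2 := congrArg e' (h.is_comm.comm (e'.symm (QuaternionGroup.a 1)) (e'.symm (QuaternionGroup.xa 0)))
      simp only [map_mul, MulEquiv.apply_symm_apply] at h2
      revert h2
      decide
    rw [h8, hSm, Nat.pow_lt_pow_iff_right (by norm_num)] at hlt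
    exact hmax (by omega) (CfsgLib.Invol.MaxClassRank.maxClass_of_cube hSm P' h8 hnc hC)
  let e' : P' ≃* Multiplicative (ZMod (2 ^ n)) × Multiplicative (ZMod (2 ^ n)) :=
    (Subgroup.subgroupOfEquivOfLe hle).trans e
  have hcard : Nat.card P' = 2 ^ n * 2 ^ n := by
    rw [Nat.card_congr e'.toEquiv, Nat.card_prod, Nat.card_congr Multiplicative.toAdd, Nat.card_zmod]
  have hab : ∀ u ∈ P', ∀ v ∈ P', u * v = v * u := fun u hu v hv =>
    congrArg Subtype.val (e'.injective (by rw [map_mul, map_mul, mul_comm]) :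
      (⟨u, hu⟩ : P') * ⟨v, hv⟩ = ⟨v, hv⟩ * ⟨u, hu⟩)
  have hexp : ∀ u ∈ P', u ^ 2 ^ n = 1 := fun u hu =>
    congrArg Subtype.val (e'.injective (by
      rw [map_pow, map_one]
      apply Prod.ext <;>
      · apply Multiplicative.toAdd.injective
        simp) : (⟨u, hu⟩ : P') ^ 2 ^ n = 1)
  have hCeq : centralizer (P' : Set S) = P' := le_antisymm hC fun u hu =>
    mem_centralizer_iff.2 fun v hv => hab v hv u hu
  rcases Nat.lt_or_ge n 2 with hn | hn
  · interval_cases n
    · have hbot : P' = ⊥ := Subgroup.card_eq_one.1 (by rw [hcard]; norm_num)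
      have htop : centralizer (P' : Set S) = ⊤ := by
        rw [eq_top_iff]
        refine fun s _ => mem_centralizer_iff.2 fun v hv => ?_
        rw [show v = 1 from mem_bot.1 (hbot ▸ hv), one_mul, mul_one]
      rw [hCeq] at htop
      rw [htop, card_top] at hlt
      exact hlt.false
    · have h4 : Nat.card P' = 2 ^ 2 := by rw [hcard]; norm_num
      rw [h4, hSm, Nat.pow_lt_pow_iff_right (by norm_num)] at hlt
      exact hmax (by omega) (CfsgLib.Transfer.maxClass_of_self_centralizing hSm P' h4 hCeq)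
  -- an element of order two modulo `P`
  have hlN : P' < normalizer (P' : Set S) := by
    haveI := hS.isNilpotent
    exact normalizerCondition_of_isNilpotent P' (lt_top_iff_ne_top.2 fun h => by
      rw [h, card_top] at hlt; exact hlt.false)
  obtain ⟨x₀, hx₀N, hx₀⟩ := SetLike.exists_of_lt hlN
  obtain ⟨i, hiP, hiP2⟩ := CfsgLib.Coprime.exists_pow_not_mem hS P' hx₀
  set x : S := x₀ ^ 2 ^ i with hx
  have hxN : (x : Ω) ∈ normalizer (P : Set Ω) := by
    intro y
    have hN : ∀ z : S, z ∈ normalizer (P' : Set S) → ∀ y ∈ P, (z : Ω) * y * (z : Ω)⁻¹ ∈ P :=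
      fun z hz y hy => mem_subgroupOf.1 ((hz ⟨y, hle hy⟩).1 hy)
    have hxN' : x ∈ normalizer (P' : Set S) := Subgroup.pow_mem _ hx₀N _
    refine ⟨hN x hxN' y, fun h => ?_⟩
    have := hN x⁻¹ (inv_mem hxN') _ h
    simpa [mul_assoc] using this
  let cx : F.autGroup P := ⟨P.normalizerMonoidHom ⟨x, hxN⟩,
    autInducedBy_le_autGroup hle (mem_autInducedBy_iff.2 ⟨x, x.2, fun _ => rfl⟩)⟩
  have hcx : ∀ u : P, (((cx : MulAut P) u : P) : Ω) = x * (u : Ω) * (x : Ω)⁻¹ := fun u => rfl
  by_cases hswap : ∀ u : P, u⁻¹ * (cx : MulAut P) u ∈ frattini P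
  · let K : Subgroup (F.autGroup P) :=
      { carrier := {α | ∀ u : P, u⁻¹ * (α : MulAut P) u ∈ frattini P}
        one_mem' := fun u => by simp
        mul_mem' := fun {α β} hα hβ u => by
          have h := mul_mem (hβ u) (hα ((β : MulAut P) u))
          simpa [mul_assoc] using h
        inv_mem' := fun {α} hα u => by
          have h := inv_mem (hα ((α : MulAut P)⁻¹ u))
          simpa using h }
    haveI hKn : K.Normal := ⟨fun α hα g u => by
      have h := mem_map_of_mem (g : MulAut P).toMonoidHom (hα ((g : MulAut P)⁻¹ u))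
      rw [Subgroup.characteristic_iff_map_eq.1 inferInstance (g : MulAut P)] at h
      simpa using h⟩
    have hKp : IsPGroup 2 K := by
      rintro ⟨k, hk⟩
      obtain ⟨d, r, hrd, hd'⟩ := Nat.exists_eq_pow_mul_and_not_dvd (orderOf_pos k).ne' 2 (by norm_num)
      refine ⟨d, Subtype.ext (Subtype.ext ?_)⟩
      refine CfsgLib.PGroup.aut_eq_one_of_fix_frattini (hS.to_le hle) _ ?_
        (K.pow_mem hk (2 ^ d))
      have hdr : orderOf ((k : MulAut P) ^ 2 ^ d) ∣ r := by
        rw [orderOf_dvd_iff_pow_eq_one, ← pow_mul, ← hd', ← SubmonoidClass.coe_pow, pow_orderOf_eq_one]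
        rfl
      exact Nat.Coprime.coprime_dvd_left hdr ((Nat.prime_two.coprime_iff_not_dvd.2 hrd).symm)
    have h1 : (cx : MulAut P) ∈ Inn P := by
      rw [← (essential_isRadical hS hF hP).2]
      have hle' : K ≤ pCore 2 (F.autGroup P) := le_sSup ⟨hKn, hKp⟩
      exact mem_map_of_mem _ (hle' (show cx ∈ K from hswap))
    exact hiP (mem_subgroupOf.2 (mem_of_normalizerMonoidHom_mem_inn hP.1 (u := (x : Ω)) ⟨x.2, hxN⟩ h1))
  push Not at hswap
  obtain ⟨u, hu⟩ := hswap
  set w : P := (cx : MulAut P) u with hw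
  set V := P ⧸ frattini P
  have hV : Nat.card V ≤ 2 ^ 2 := by
    rw [← card_top (G := V)]
    exact CfsgLib.OddLocal.card_le_sq_of_metacyclic (CfsgLib.Invol.isMetacyclic_quotient hmP _)
      Nat.prime_two ⊤ (fun q _ => by
        obtain ⟨z, rfl⟩ := QuotientGroup.mk_surjective q
        rw [← QuotientGroup.mk_pow, QuotientGroup.eq_one_iff]
        exact CfsgLib.StructC.pow_mem_frattini (hS.to_le hle) z)
  set π := QuotientGroup.mk' (frattini P)
  have huw : π u ≠ π w := fun h => hu (QuotientGroup.eq.1 h)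
  have hwu : u ∈ frattini P → w ∈ frattini P := fun h =>
    (Subgroup.characteristic_iff_map_eq.1 inferInstance (cx : MulAut P)).le
      (mem_map_of_mem (cx : MulAut P).toMonoidHom h)
  have hwu' : w ∈ frattini P → u ∈ frattini P := fun h => by
    have := (Subgroup.characteristic_iff_map_eq.1 inferInstance (cx : MulAut P)⁻¹).le
      (mem_map_of_mem ((cx : MulAut P)⁻¹).toMonoidHom h)
    simpa [w] using this
  have hu1 : π u ≠ 1 := fun h => huw (by
    rw [h, (QuotientGroup.eq_one_iff w).2 (hwu ((QuotientGroup.eq_one_iff u).1 h)) |> fun e => (show π w = 1 from e)])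
  have hw1 : π w ≠ 1 := fun h => huw (by
    rw [h, (QuotientGroup.eq_one_iff u).2 (hwu' ((QuotientGroup.eq_one_iff w).1 h)) |> fun e => (show π u = 1 from e)])
  have hgen : closure ({u, w} : Set P) = ⊤ := by
    refine frattini_nongenerating ?_
    set L := (closure ({u, w} : Set P)).map π with hL
    have hLtop : L = ⊤ := by
      have hu' : π u ∈ L := mem_map_of_mem π (subset_closure (Or.inl rfl))
      have hw' : π w ∈ L := mem_map_of_mem π (subset_closure (Or.inr rfl))
      let ι : Fin 3 → L := ![1, ⟨_, hu'⟩, ⟨_, hw'⟩]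
      have hι : Function.Injective ι := by
        intro a b hab'
        have h := congrArg Subtype.val hab'
        fin_cases a <;> fin_cases b
        all_goals first
          | rfl
          | exact absurd h hu1
          | exact absurd h.symm hu1
          | exact absurd h hw1
          | exact absurd h.symm hw1
          | exact absurd h huw
          | exact absurd h.symm huw
      have h3 := Nat.card_le_card_of_injective ι hι
      rw [Nat.card_fin] at h3
      obtain ⟨l, hl⟩ := (((hS.to_le hle).to_quotient (frattini P)).to_subgroup L).exists_card_eq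
      have hLV := Subgroup.card_le_card_group L
      refine Subgroup.eq_top_of_card_eq L (le_antisymm hLV ?_)
      rw [hl] at h3 ⊢
      rcases l with _ | _ | l
      · norm_num at h3
      · norm_num at h3
      · exact hV.trans (Nat.pow_le_pow_right (by norm_num) (by omega))
    have h := congrArg (Subgroup.comap π) hLtop
    rwa [hL, comap_map_eq, comap_top, QuotientGroup.ker_mk'] at h
  let ιP : P →* S := Subgroup.inclusion hle
  refine CfsgLib.Invol.not_swap_homocyclic hm P' hn hab hexp hcard (a := ιP u) (b := ιP w) (x := x)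
    (mem_subgroupOf.2 u.2) (mem_subgroupOf.2 w.2) ?_ hiP hiP2 (Subtype.ext (hcx u).symm)
  intro v hv
  have h := mem_map_of_mem ιP (hgen.ge (mem_top (⟨(v : Ω), hv⟩ : P)))
  rw [MonoidHom.map_closure, Set.image_pair] at h
  refine ((closure_le _).2 ?_) h
  rintro z (rfl | rfl)
  · exact mem_sup_left (mem_zpowers _)
  · exact mem_sup_right (mem_zpowers _)

end Cfsg.Agent.S5212
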