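import Cfsg.Statements.S5213
import Cfsg.Agent.Lib.Fusion.RankTwoShape
import Cfsg.Agent.S1237

set_option autoImplicit false
open Cfsg

namespace Cfsg.Agent.S5213

/-- Let S be a finite 2-group of 2-rank 2 (it has an elementary abelian subgroup of order 4 and none of order 8) and F a saturated fusion system over S with trivial centre. Then S is dihedral, semidihedral, wreathed, homocyclic abelian (a direct product of cyclic groups of one common order), or isomorphic to a Sylow 2-subgroup of the projective special unitary group PSU₃(4) (realised over the field with 16 elements). -/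
theorem result {Ω : Type*} [Group Ω] {S : Subgroup Ω} [Finite S] (hS : IsPGroup 2 S) (F : Cfsg.FusionSystem S) (hF : F.IsSaturated 2) (hr : Cfsg.PRankAtLeast 2 2 ↥S ∧ ¬ Cfsg.PRankAtLeast 2 3 ↥S) (hZ : F.center = ⊥) {K : Type*} [Field K] [Fintype K] (hK : Fintype.card K = 16) : (∃ m : ℕ, Nonempty (↥S ≃* DihedralGroup m)) ∨ Cfsg.IsQuasiDihedral ↥S ∨ Cfsg.IsWreathed ↥S ∨ (∃ n k : ℕ, Nonempty (↥S ≃* Multiplicative (Fin k → ZMod (2 ^ n)))) ∨ ∃ T : Sylow 2 (Cfsg.PSU 3 K 4), Nonempty (↥S ≃* ↥(T : Subgroup (Cfsg.PSU 3 K 4))) := by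
  classical
  haveI : Fact (Nat.Prime 2) := ⟨Nat.prime_two⟩
  have hne : S ≠ ⊥ := by
    rintro rfl
    obtain ⟨A, -, -, hA⟩ := hr.1
    have h := hA.trans (Subgroup.card_le_card_group A)
    rw [Subgroup.card_bot] at h
    norm_num at h
  rcases CfsgLib.Fusion.RankTwo.shape hS hF (CfsgLib.Fusion.RankTwo.rankLE_of_not hr.2) hne hZ with
    h | ⟨⟨H⟩⟩
  · rcases h with ⟨m, -, e⟩ | h | h
    · exact Or.inl ⟨m, e⟩
    · exact Or.inr (Or.inl h)
    · exact Or.inr (Or.inr (Or.inl h))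
  by_cases hab : IsMulCommutative ↥S
  · obtain ⟨n, -, ⟨e⟩⟩ := H.homocyclic fun a b => hab.is_comm.comm a b
    let f : (ZMod (2 ^ n) × ZMod (2 ^ n)) ≃+ (Fin 2 → ZMod (2 ^ n)) :=
      { toFun := fun p => ![p.1, p.2]
        invFun := fun v => (v 0, v 1)
        left_inv := fun p => rfl
        right_inv := fun v => by ext i; fin_cases i <;> rfl
        map_add' := fun p q => by ext i; fin_cases i <;> rfl }
    exact Or.inr (Or.inr (Or.inr (Or.inl ⟨n, 2, ⟨e.trans (AddEquiv.toMultiplicative f)⟩⟩)))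
  · obtain ⟨e⟩ := CfsgLib.Invol.UU.sylow_equiv hK (default : Sylow 2 (Cfsg.PSU 3 K 4))
    obtain ⟨⟨K'⟩, hK'⟩ := Cfsg.Agent.S1237.uu_higData hK
    haveI : Finite (CfsgLib.Invol.UU K hK) := Finite.of_equiv _ e.toEquiv
    obtain ⟨g1⟩ := H.exists_gens hab
    obtain ⟨g2⟩ := K'.exists_gens hK'
    obtain ⟨f⟩ := g1.mulEquiv g2
    exact Or.inr (Or.inr (Or.inr (Or.inr ⟨default, ⟨f.trans e.symm⟩⟩)))

end Cfsg.Agent.S5213
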