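import Cfsg.Statements.S5214
import Cfsg.Agent.Lib.Fusion.NormalCriteria
import Cfsg.Agent.Lib.Chev.SuzTwoOrder

set_option autoImplicit false
open Cfsg

namespace Cfsg.Agent.S5214

/-- Let S be a Suzuki 2-group (a finite nonabelian 2-group with more than one involution admitting a cyclic group of automorphisms permuting its involutions regularly). Then S is normal in every saturated fusion system over S (such a group is resistant). -/
theorem result {Ω : Type*} [Group Ω] {S : Subgroup Ω} [Finite S] (hS : IsPGroup 2 S) (F : Cfsg.FusionSystem S) (hF : F.IsSaturated 2) (hsz : Cfsg.IsSuzukiTwoGroup ↥S) : F.IsNormal S := by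
  have : Fact (Nat.Prime 2) := ⟨Nat.prime_two⟩
  obtain ⟨K, c⟩ := CfsgLib.Chev.SuzTwo.exists_ctx hsz
  refine CfsgLib.Fusion.isNormal_of_alperin hS hF le_rfl fun P hP => ?_
  rcases hP with rfl | hP
  · exact ⟨le_rfl, fun α _ x _ => SetLike.coe_mem _⟩
  exfalso
  set Z : Subgroup Ω := (Subgroup.center S).map S.subtype with hZ
  have hc := hP.1
  have hZsq : ∀ x : Ω, x ∈ S → (x ∈ Z ↔ x * x = 1) := by
    intro x hx
    constructor
    · rintro ⟨z, hz, rfl⟩
      exact congrArg Subtype.val (c.center_elem hz)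
    · exact fun h => ⟨⟨x, hx⟩, c.invol_center (Subtype.ext h), rfl⟩
  let C : ℕ → Subgroup Ω := fun i => if i = 0 then ⊥ else if i = 1 then Z else S
  have hlt := CfsgLib.Fusion.lt_of_essential hS hF hP
  obtain ⟨u, hu, huP⟩ := SetLike.exists_of_lt (CfsgLib.Fusion.lt_normalizerIn hS hlt)
  refine huP (CfsgLib.Fusion.mem_of_stabilizes hS hc (CfsgLib.Fusion.essential_isRadical hS hF hP) ⊤ 2 C
    (monotone_nat_of_le_succ fun i => ?_) (fun i α hα x hx => ?_) hc.1 (fun α _ => ⟨0, fun x hx => ?_⟩)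
    hu (fun _ _ => Subgroup.mem_top _) fun i hi x hxP hx => ?_)
  · match i with
    | 0 => exact bot_le
    | 1 => exact (Subgroup.map_subtype_le (Subgroup.center S) : Z ≤ S)
    | i + 2 => simp [C]
  · match i with
    | 0 =>
      have : x = 1 := Subtype.ext (Subgroup.mem_bot.1 hx)
      simp [this, one_mem]
    | 1 =>
      show ((α x : P) : Ω) ∈ Z
      rw [hZsq _ (hc.1 (α x).2), ← Subgroup.coe_mul, ← map_mul,
        show x * x = 1 from Subtype.ext ((hZsq _ (hc.1 x.2)).1 hx), map_one]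
      rfl
    | i + 2 => exact hc.1 (α x).2
  · have : x = 1 := Subtype.ext (Subgroup.mem_bot.1 hx)
    simp [this]
  · match i, hi with
    | 0, _ =>
      show x⁻¹ * (u * x * u⁻¹) ∈ (⊥ : Subgroup Ω)
      obtain ⟨z, hz, rfl⟩ := (show x ∈ Z from hx)
      have h2 : u * (z : Ω) = z * u := congrArg Subtype.val (Subgroup.mem_center_iff.1 hz ⟨u, hu.1⟩)
      rw [Subgroup.mem_bot, Subgroup.coe_subtype, h2]
      group
    | 1, _ =>
      show x⁻¹ * (u * x * u⁻¹) ∈ Z
      refine ⟨_, c.comm_mem_center ⟨x, hc.1 hxP⟩ (⟨u, hu.1⟩⁻¹), ?_⟩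
      show x⁻¹ * u⁻¹⁻¹ * x * u⁻¹ = x⁻¹ * (u * x * u⁻¹)
      group

end Cfsg.Agent.S5214
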