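import Cfsg.Statements.S5215
import Cfsg.Agent.Lib.Fusion.SimpleRankTwoModels
-- import your own Cfsg.Agent.* helpers here

set_option autoImplicit false
open Cfsg

namespace Cfsg.Agent.S5215

/-- Let S be a finite 2-group of 2-rank 2 (an elementary abelian subgroup of order 4, none of order 8) and F a simple saturated fusion system over S. Then S is dihedral, semidihedral or wreathed, and F is the fusion system of the projective special linear group PSL₂(q) for some odd prime power q ≡ ±1 (mod 8) or of PSL₃(q) for some odd prime power q: it is realized by an injective homomorphism of S into that group whose image is a Sylow 2-subgroup. -/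
theorem result {Ω : Type*} [Group Ω] {S : Subgroup Ω} [Finite S] (hS : IsPGroup 2 S) (F : Cfsg.FusionSystem S) (hF : F.IsSaturated 2) (hr : Cfsg.PRankAtLeast 2 2 ↥S ∧ ¬ Cfsg.PRankAtLeast 2 3 ↥S) (hsimple : F.IsSimple 2) : ((∃ m : ℕ, Nonempty (↥S ≃* DihedralGroup m)) ∨ Cfsg.IsQuasiDihedral ↥S ∨ Cfsg.IsWreathed ↥S) ∧ ∃ (K : Type) (_ : Field K) (_ : Fintype K) (q : ℕ), Fintype.card K = q ∧ Odd q ∧ (((q % 8 = 1 ∨ q % 8 = 7) ∧ ∃ ι : ↥S →* Matrix.ProjectiveSpecialLinearGroup (Fin 2) K, F.IsRealizedBy ι ∧ ∃ T : Sylow 2 (Matrix.ProjectiveSpecialLinearGroup (Fin 2) K), (T : Subgroup (Matrix.ProjectiveSpecialLinearGroup (Fin 2) K)) = ι.range) ∨ (∃ ι : ↥S →* Matrix.ProjectiveSpecialLinearGroup (Fin 3) K, F.IsRealizedBy ι ∧ ∃ T : Sylow 2 (Matrix.ProjectiveSpecialLinearGroup (Fin 3) K), (T : Subgroup (Matrix.ProjectiveSpecialLinearGroup (Fin 3) K)) = ι.range)) := by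
  haveI : Fact (Nat.Prime 2) := ⟨Nat.prime_two⟩
  obtain ⟨h4, hshape⟩ := CfsgLib.Fusion.SimpleTwo.shape_of_simple hS hsimple hr
  have hpsl : CfsgLib.Fusion.SimpleTwo.IsPSLSystem F := by
    rcases hshape with ⟨m, hm, ⟨e⟩⟩ | h | h
    · exact CfsgLib.Fusion.SimpleTwo.dihedral_psl hS hsimple h4 hm e
    · exact CfsgLib.Fusion.SimpleTwo.qd_psl hS hsimple h4 h
    · exact CfsgLib.Fusion.SimpleTwo.wr_psl hS hsimple h4 h
  refine ⟨?_, ?_⟩
  · rcases hshape with ⟨m, -, e⟩ | h | h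
    · exact Or.inl ⟨m, e⟩
    · exact Or.inr (Or.inl h)
    · exact Or.inr (Or.inr h)
  · obtain ⟨q, hq, hodd, h⟩ := hpsl
    exact ⟨ZMod q, inferInstance, inferInstance, q, ZMod.card q, Nat.odd_iff.2 hodd, h⟩

end Cfsg.Agent.S5215
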