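import Cfsg.Statements.S5248
import Cfsg.Agent.Lib.Fusion.WreathedModels
import Cfsg.Agent.Lib.Fusion.QDModels
import Cfsg.Agent.Lib.Fusion.InvertingShapes

set_option autoImplicit false
open Cfsg

namespace Cfsg.Agent.S5248

/-- Let S be a finite 2-group that is dihedral of order at least 8, generalized quaternion of order at least 8, semidihedral, or wreathed, and let F be a saturated fusion system over S. Then F has at most two F-conjugacy classes of F-essential subgroups (among any three essential subgroups two are joined by a map of F), and F is realizable: it is the fusion system of a finite group on a Sylow 2-subgroup. -/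
theorem result {Ω : Type*} [Group Ω] {S : Subgroup Ω} [Finite S] (hS : IsPGroup 2 S) (F : Cfsg.FusionSystem S) (hF : F.IsSaturated 2) (hshape : ((∃ m : ℕ, 4 ≤ m ∧ Nonempty (↥S ≃* DihedralGroup m)) ∨ (∃ m : ℕ, 2 ≤ m ∧ Nonempty (↥S ≃* QuaternionGroup m)) ∨ Cfsg.IsQuasiDihedral ↥S ∨ Cfsg.IsWreathed ↥S)) : (∀ E₁ E₂ E₃ : Subgroup Ω, F.IsEssential 2 E₁ → F.IsEssential 2 E₂ → F.IsEssential 2 E₃ → (∃ φ ∈ F.Hom E₁, φ.range = E₂) ∨ (∃ φ ∈ F.Hom E₁, φ.range = E₃) ∨ (∃ φ ∈ F.Hom E₂, φ.range = E₃)) ∧ F.IsRealizable 2 := by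
  haveI : Fact (Nat.Prime 2) := ⟨Nat.prime_two⟩
  rcases hshape with ⟨m, hm, ⟨e⟩⟩ | ⟨m, hm, ⟨e⟩⟩ | hsd | hw
  · obtain ⟨D⟩ := CfsgLib.Fusion.exists_invData_dihedral hm hS e
    exact ⟨fun E₁ E₂ E₃ h₁ h₂ h₃ => D.two_classes hF h₁ h₂ h₃, D.isRealizable_all hF⟩
  · obtain ⟨k, hk⟩ : ∃ k, m = 2 ^ k := by
      haveI : NeZero m := ⟨by omega⟩
      obtain ⟨N, hN⟩ := IsPGroup.iff_card.1 hS
      rw [Nat.card_congr e.toEquiv, Nat.card_eq_fintype_card, QuaternionGroup.card] at hN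
      obtain ⟨k, -, hk⟩ := (Nat.dvd_prime_pow Nat.prime_two).1
        (⟨4, by omega⟩ : m ∣ 2 ^ N)
      exact ⟨k, hk⟩
    subst hk
    rcases Nat.lt_or_ge k 2 with hk1 | hk2
    · obtain rfl : k = 1 := by
        rcases Nat.eq_zero_or_pos k with rfl | h
        · simp at hm
        · omega
      have h0 : ∀ P, ¬ F.IsEssential 2 P := CfsgLib.Fusion.no_essential_q8 hS e hF
      exact ⟨fun E₁ E₂ E₃ h₁ _ _ => absurd h₁ (h0 E₁),
        CfsgLib.Fusion.isRealizable_of_no_essential hS hF h0⟩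
    · obtain ⟨D⟩ := CfsgLib.Fusion.exists_invData_quaternion hk2 e
      exact ⟨fun E₁ E₂ E₃ h₁ h₂ h₃ => D.two_classes hF h₁ h₂ h₃, D.isRealizable_all hF⟩
  · obtain ⟨⟨E, hE⟩, hr⟩ := CfsgLib.Fusion.QDShape.isRealizable_all hS hsd hF
    exact ⟨fun E₁ E₂ E₃ h₁ h₂ h₃ => CfsgLib.Fusion.pair_classes hE h₁ h₂ h₃, hr⟩
  · obtain ⟨⟨E, hE⟩, hr⟩ := CfsgLib.Fusion.WrShape.isRealizable_all hS hw hF
    exact ⟨fun E₁ E₂ E₃ h₁ h₂ h₃ => CfsgLib.Fusion.pair_classes hE h₁ h₂ h₃, hr⟩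

end Cfsg.Agent.S5248
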