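import Cfsg.Statements.S5219
import Cfsg.Agent.Lib.Fusion.PowerLocalApps

set_option autoImplicit false
open Cfsg

namespace Cfsg.Agent.S5219

/-- Let p be a prime, n a natural number, S a nontrivial finite p-group of nilpotence class at most n(p−1)+1, and F a saturated fusion system over S with no nontrivial normal subgroup (O_p(F) = 1). Then S has exponent dividing p^(n²(p−1)+n). -/
theorem result {Ω : Type*} [Group Ω] {S : Subgroup Ω} [Finite S] (p : ℕ) [Fact p.Prime] (hS : IsPGroup p S) (F : Cfsg.FusionSystem S) (hF : F.IsSaturated p) (n : ℕ) (hS1 : S ≠ ⊥) (hcl : Subgroup.lowerCentralSeries S (n * (p - 1) + 1) = ⊥) (hcore : F.core = ⊥) : Monoid.exponent ↥S ∣ p ^ (n ^ 2 * (p - 1) + n) := by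
  have hn := CfsgLib.Fusion.isNormal_powerClosure_of_class hS hF n hcl
  have hbot := le_bot_iff.1 (hcore ▸ CfsgLib.Fusion.IsNormal.le_core hn)
  have hZ : ∀ z ∈ Subgroup.center ↥S, z ^ p ^ n = 1 := fun z hz => by
    refine Subtype.ext (Subgroup.mem_bot.1 (hbot ▸ ?_))
    exact Subgroup.subset_closure ⟨z, ⟨z.2, fun a ha =>
      congrArg Subtype.val (Subgroup.mem_center_iff.1 hz ⟨a, ha⟩)⟩, by simp⟩
  set c := n * (p - 1) + 1 with hc
  have htop : Subgroup.upperCentralSeries ↥S c = ⊤ := by
    rw [← Subgroup.lowerCentralSeries_eq_bot_iff_upperCentralSeries_eq_top]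
    refine (Subgroup.map_eq_bot_iff_of_injective _ S.subtype_injective).1 ?_
    rw [Subgroup.top_subtype_lowerCentralSeries]
    exact hcl
  refine Monoid.exponent_dvd_of_forall_pow_eq_one fun g => ?_
  have key : ∀ j ≤ c, g ^ (p ^ n) ^ j ∈ Subgroup.upperCentralSeries ↥S (c - j) := by
    intro j hj
    induction j with
    | zero =>
      rw [Nat.sub_zero, htop]
      exact Subgroup.mem_top _
    | succ j ih =>
      rw [pow_succ, pow_mul]
      have h1 := ih (by omega)
      rw [show c - j = c - (j + 1) + 1 by omega] at h1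
      exact CfsgLib.Fusion.pow_mem_upperCentralSeries hZ _ _ h1
  have h := key c le_rfl
  rw [Nat.sub_self, Subgroup.upperCentralSeries_zero, Subgroup.mem_bot, ← pow_mul] at h
  rwa [show n ^ 2 * (p - 1) + n = n * c by rw [hc]; ring]

end Cfsg.Agent.S5219
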