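import Cfsg.Statements.S5220
import Cfsg.Agent.Lib.Fusion.PowerLocalApps

set_option autoImplicit false
open Cfsg

namespace Cfsg.Agent.S5220

/-- Let F be a saturated fusion system over a nontrivial finite p-group S, let J(S) be the subgroup generated by the abelian subgroups of S of largest order, and let V be the subgroup generated by the p-th powers of the elements of Z(S). Then F is generated by the centralizer fusion system of V and the normalizer fusion system of J(S): every fusion system over S containing the maps of both contains every map of F. -/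
theorem result {Ω : Type*} [Group Ω] {S : Subgroup Ω} [Finite S] (p : ℕ) [Fact p.Prime] (hS : IsPGroup p S) (F : Cfsg.FusionSystem S) (hF : F.IsSaturated p) (hS1 : S ≠ ⊥) (C : Cfsg.FusionSystem (Cfsg.FusionSystem.centralizerIn S (Cfsg.powerClosure p 1 (S ⊓ Subgroup.centralizer (S : Set Ω))))) (hC : F.IsCentralizerSystem (Cfsg.powerClosure p 1 (S ⊓ Subgroup.centralizer (S : Set Ω))) C) (N : Cfsg.FusionSystem (Cfsg.FusionSystem.normalizerIn S (Cfsg.thompsonSubgroupAOf S))) (hN : F.IsNormalizerSystem (Cfsg.thompsonSubgroupAOf S) N) (E : Cfsg.FusionSystem S) (hCE : C.IsSubsystemOf E) (hNE : N.IsSubsystemOf E) : F.IsSubsystemOf E := by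
  intro P φ hφ
  have hJS : Cfsg.thompsonSubgroupAOf S ≤ S := Subgroup.map_subtype_le _
  have hNS : Cfsg.FusionSystem.normalizerIn S (Cfsg.thompsonSubgroupAOf S) = S :=
    CfsgLib.Fusion.normalizerIn_funcOn_top (fun Q _ => Cfsg.thompsonSubgroupA Q)
      (fun Q R _ _ _ _ φ => CfsgLib.Fusion.thompsonA_map Q R φ) hS
  refine CfsgLib.Fusion.le_of_centralizer_thompson hS hF (E := E) (fun Q f hf hfix => ?_)
    (fun Q f hf hJ hi => ?_) P hφ
  · set V := Cfsg.powerClosure p 1 (S ⊓ Subgroup.centralizer (S : Set Ω)) with hV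
    have hVle : ∀ v ∈ V, v ∈ Q ∧ f v = v := by
      intro v hv
      have hle : V ≤ (hf.toHom.eqLocus Q.subtype).map Q.subtype := (Subgroup.closure_le _).2 (by
        rintro _ ⟨z, hz, rfl⟩
        rw [pow_one]
        exact ⟨⟨_, (hfix z hz).1⟩, (hfix z hz).2, rfl⟩)
      obtain ⟨w, hw, rfl⟩ := hle hv
      exact ⟨w.2, hw⟩
    have hCS : Cfsg.FusionSystem.centralizerIn S V = S := inf_eq_left.2 fun a ha v hv => by
      have hle : V ≤ Subgroup.centralizer (S : Set Ω) := (Subgroup.closure_le _).2 (by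
        rintro _ ⟨z, hz, rfl⟩
        exact (Subgroup.centralizer (S : Set Ω)).pow_mem hz.2 _)
      exact (hle hv a ha).symm
    obtain ⟨ψ, hψ, hψf⟩ := (CfsgLib.Fusion.isMap_centralizerSystem_iff hC).2
      (show Q ≤ _ ∧ (∀ x ∈ Q, f x ∈ _) ∧ _ from ⟨hf.le.trans hCS.ge, fun x hx => hCS.ge (hf.mem hx), f,
        by rwa [sup_eq_left.2 (fun v hv => (hVle v hv).1)], fun _ _ => rfl,
        fun v hv => (hVle v hv).2⟩)
    exact ⟨ψ, hCE Q hψ, hψf⟩
  · obtain ⟨ψ, hψ, hψf⟩ := (CfsgLib.Fusion.isMap_normalizerSystem_iff hN).2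
      (show Q ≤ _ ∧ (∀ x ∈ Q, f x ∈ _) ∧ _ from ⟨hf.le.trans hNS.ge, fun x hx => hNS.ge (hf.mem hx), f,
        by rwa [sup_eq_left.2 hJ], fun _ _ => rfl, hi⟩)
    exact ⟨ψ, hNE Q hψ, hψf⟩

end Cfsg.Agent.S5220
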