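import Cfsg.Statements.S5221
import Cfsg.Agent.Lib.Fusion.ThompsonPart

set_option autoImplicit false
open Cfsg

namespace Cfsg.Agent.S5221

/-- Let F be a sparse fusion system over a finite p-group S: a saturated fusion system, not the inner fusion system of S, whose only saturated fusion systems over S contained in it are F itself and the inner one. If p is odd, or F is S₄-free (the symmetric group of degree 4 is not involved in any model of the normalizer system of a fully normalized F-centric subgroup), then F is constrained. -/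
theorem result {Ω : Type*} [Group Ω] {S : Subgroup Ω} [Finite S] (p : ℕ) [Fact p.Prime] (hS : IsPGroup p S) (F : Cfsg.FusionSystem S) (hF : F.IsSaturated p) (hsp : ¬ (∀ P : Subgroup Ω, F.Hom P = (Cfsg.innerFusionSystem S).Hom P) ∧ ∀ E : Cfsg.FusionSystem S, E.IsSaturated p → E.IsSubsystemOf F → (∀ P : Subgroup Ω, E.Hom P = F.Hom P) ∨ (∀ P : Subgroup Ω, E.Hom P = (Cfsg.innerFusionSystem S).Hom P)) (hp : p ≠ 2 ∨ F.IsSectionFree p (Equiv.Perm (Fin 4))) : F.IsConstrained p := by
  have hnt : ¬ CfsgLib.Fusion.CoprimeTrivial F p := fun h => hsp.1 fun P =>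
    CfsgLib.Fusion.eq_inner_of_coprime_trivial hS hF (fun R hR α hα hc => h R hR.1 α hα hc) P
  obtain ⟨E, hle, hE, hEt⟩ :=
    CfsgLib.Fusion.exists_constrained_of_not_trivial_free hS hF hnt hp
  rcases hsp.2 E hE.1 hle with h | h
  · obtain rfl : E = F := by
      obtain ⟨HE, _, _, _, _, _⟩ := E
      obtain ⟨HF, _, _, _, _, _⟩ := F
      obtain rfl : HE = HF := funext h
      rfl
    exact hE
  · exfalso
    refine hEt fun R hR α hα hc => ?_
    have hm := CfsgLib.Fusion.isMap_of_autGroup hR hα
    have h1 : R.subtype.comp α.toMonoidHom ∈ E.Hom R :=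
      hm.mem_hom fun x => (CfsgLib.Fusion.toFun_apply _ x).symm
    rw [h R] at h1
    obtain ⟨-, a, ha, hax⟩ := h1
    exact CfsgLib.Fusion.eq_one_of_conj hS hc ha hax

end Cfsg.Agent.S5221
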