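import Cfsg.Statements.S5222
import Cfsg.Agent.Lib.Fusion.NormalizerSaturated
import Cfsg.Agent.Lib.Fusion.Tate

set_option autoImplicit false
open Cfsg

namespace Cfsg.Agent.S5222

open CfsgLib.Fusion
open scoped commutatorElement

/-- Let F be a saturated fusion system over a finite p-group S whose normalizer fusion system of S is the inner fusion system of S (Aut_F(S) is a p-group). Then for every subgroup Q of S with [S, S] ≤ Q ≤ Φ(S), the normalizer fusion system of Q in F is the inner fusion system of N_S(Q) = S. -/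
theorem result {Ω : Type*} [Group Ω] {S : Subgroup Ω} [Finite S] (p : ℕ) [Fact p.Prime] (hS : IsPGroup p S) (F : Cfsg.FusionSystem S) (hF : F.IsSaturated p) (hN : ∀ N : Cfsg.FusionSystem (Cfsg.FusionSystem.normalizerIn S S), F.IsNormalizerSystem S N → ∀ P : Subgroup Ω, N.Hom P = (Cfsg.innerFusionSystem (Cfsg.FusionSystem.normalizerIn S S)).Hom P) (Q : Subgroup Ω) (h1 : (commutator ↥S).map S.subtype ≤ Q) (h2 : Q ≤ (frattini ↥S).map S.subtype) : ∀ N : Cfsg.FusionSystem (Cfsg.FusionSystem.normalizerIn S Q), F.IsNormalizerSystem Q N → ∀ P : Subgroup Ω, N.Hom P = (Cfsg.innerFusionSystem (Cfsg.FusionSystem.normalizerIn S Q)).Hom P := by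
  intro E hE
  have hΦS : (frattini ↥S).map S.subtype ≤ S := Subgroup.map_subtype_le _
  have hQS : Q ≤ S := h2.trans hΦS
  have hcomm : ∀ a ∈ S, ∀ b ∈ S, ⁅a, b⁆ ∈ Q := fun a ha b hb =>
    h1 ⟨⁅(⟨a, ha⟩ : S), ⟨b, hb⟩⁆, Subgroup.commutator_mem_commutator trivial trivial, rfl⟩
  have hconjQ : ∀ a ∈ S, ∀ y : Ω, y ∈ S → y⁻¹ * (a * y * a⁻¹) ∈ Q := fun a ha y hy => by
    simpa [commutatorElement_def, mul_assoc] using hcomm _ (S.inv_mem hy) a ha
  -- subgroups over `Q` are normal
  have hnorm : ∀ R : Subgroup Ω, R ≤ S → Q ≤ R → ∀ a ∈ S, a ∈ Subgroup.normalizer (R : Set Ω) := by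
    intro R hR hQR a ha
    have h : ∀ b ∈ S, ∀ y ∈ R, b * y * b⁻¹ ∈ R := fun b hb y hy => by
      have := R.mul_mem hy (hQR (hconjQ b hb y (hR hy)))
      rwa [mul_inv_cancel_left] at this
    refine Subgroup.mem_normalizer_iff.2 fun y => ⟨h a ha y, fun hy => ?_⟩
    have := h a⁻¹ (S.inv_mem ha) _ hy
    rwa [show a⁻¹ * (a * y * a⁻¹) * a⁻¹⁻¹ = y by group] at this
  have hTS : (Cfsg.FusionSystem.normalizerIn S Q) = S := inf_eq_left.2 fun a ha => hnorm Q hQS le_rfl a ha
  have hQn : F.IsFullyNormalized Q := by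
    refine ⟨hQS, fun R _ => ?_⟩
    rw [hTS]
    exact Subgroup.card_le_of_le inf_le_left
  have hEs := isSaturated_normalizerSystem hS hF hQn hE
  haveI : Finite (Cfsg.FusionSystem.normalizerIn S Q) := finite_normalizerIn
  have hTp : IsPGroup p (Cfsg.FusionSystem.normalizerIn S Q) := hS.to_le inf_le_left
  -- every automorphism of `S` in the system is inner
  have htop : ∀ f, IsMap F S f → ∃ s ∈ S, ∀ x ∈ S, f x = s * x * s⁻¹ := by
    intro f hf
    have hNS : Cfsg.FusionSystem.normalizerIn S S = S := inf_eq_left.2 Subgroup.le_normalizer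
    have hNs := isNormalizerSystem_normalizerSys F S le_rfl
    have hi : img S f = S := eq_of_le_of_card_le hf.img_le hf.card_img.ge
    have hm : IsMap (normalizerSys F S le_rfl) S f := (isMap_normalizerSystem_iff hNs).2
      ⟨hNS.ge, fun x hx => hNS.symm ▸ hf.mem hx, f, by rwa [sup_idem], fun x _ => rfl, hi⟩
    obtain ⟨φ, hφ, hφx⟩ := hm
    rw [hN _ hNs S] at hφ
    obtain ⟨-, s, hs, hsx⟩ := hφ
    exact ⟨s, hNS ▸ hs, fun x hx => (hφx ⟨x, hx⟩).symm.trans (hsx ⟨x, hx⟩)⟩
  -- automorphisms of subgroups over `Q` act trivially modulo `Q`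
  have key : ∀ R : Subgroup Ω, R ≤ (Cfsg.FusionSystem.normalizerIn S Q) → Q ≤ R → ∀ α ∈ E.autGroup R,
      ∀ x : R, (x : Ω)⁻¹ * ((α x : R) : Ω) ∈ Q := by
    intro R hRT hQR α hα
    have hRS : R ≤ S := hTS ▸ hRT
    haveI := finite_of_le hRT
    have hinv : ∀ β ∈ E.autGroup R, ∀ y : R, (y : Ω) ∈ Q → ((β y : R) : Ω) ∈ Q := fun β hβ y hy => by
      obtain ⟨-, -, g, hg, hgx, hgQ⟩ :=
        (isMap_normalizerSystem_iff hE).1 (isMap_of_autGroup hRT hβ)
      have := (hg.mono le_sup_right).apply_mem_img hy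
      rw [hgQ, hgx _ y.2, toFun_aut_apply _ y.2] at this
      exact this
    let K : Subgroup (E.autGroup R) :=
      { carrier := {β | ∀ y : R, (y : Ω)⁻¹ * (((β : MulAut R) y : R) : Ω) ∈ Q}
        one_mem' := fun y => by simp
        mul_mem' := fun {β γ} hb hc y => by
          have h1 := Q.mul_mem (hc y) (hb ((γ : MulAut R) y))
          simpa [MulAut.mul_apply, mul_assoc] using h1
        inv_mem' := fun {β} hb y => by
          have h1 := Q.inv_mem (hb ((β : MulAut R)⁻¹ y))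
          rw [MulAut.apply_inv_self] at h1
          simpa using h1 }
    haveI : K.Normal := ⟨fun β hβ γ y => by
      have h1 := hinv γ γ.2 (((γ : MulAut R)⁻¹ y)⁻¹ * (β : MulAut R) ((γ : MulAut R)⁻¹ y))
        (hβ ((γ : MulAut R)⁻¹ y))
      rw [map_mul, map_inv, MulAut.apply_inv_self] at h1
      exact h1⟩
    have hRn : E.IsFullyNormalized R := by
      refine ⟨hRT, fun X _ => ?_⟩
      have : Cfsg.FusionSystem.normalizerIn (Cfsg.FusionSystem.normalizerIn S Q) R = (Cfsg.FusionSystem.normalizerIn S Q) :=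
        inf_eq_left.2 fun a ha => hnorm R hRS hQR a ha.1
      rw [this]
      exact Subgroup.card_le_of_le inf_le_left
    obtain ⟨W, hW⟩ := (fullyAutomized_of_fullyNormalized hTp hEs hRn).2
    have hWK : (W : Subgroup (E.autGroup R)) ≤ K := by
      intro β hβ y
      rw [hW, Subgroup.mem_subgroupOf, mem_autInducedBy_iff] at hβ
      obtain ⟨a, ha, hax⟩ := hβ
      rw [hax y]
      exact hconjQ a ha.1 y (hRS y.2)
    suffices hK : (⟨α, hα⟩ : E.autGroup R) ∈ K from hK
    have hsup := (W.subtype hWK).normalizer_sup_eq_top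
    rw [Sylow.coe_subtype, Subgroup.map_subgroupOf_eq_of_le hWK] at hsup
    obtain ⟨β, hβ, k, hk, hβk⟩ := (Subgroup.mem_sup_of_normal_right (t := K)).1
      (hsup ▸ Subgroup.mem_top (⟨α, hα⟩ : E.autGroup R))
    rw [← hβk]
    refine K.mul_mem (fun y => ?_) hk
    have hm := isMap_of_autGroup hRT β.2
    obtain ⟨g, hg, hgx⟩ := receptive_extend (receptive_of_fullyNormalized hTp hEs hRn) hm
      (img_toFun_aut _) hRT fun a ha => by
        have han : a ∈ Subgroup.normalizer (R : Set Ω) := hnorm R hRS hQR a ha.1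
        refine ⟨ha, han, ?_⟩
        have hc : R.normalizerMonoidHom ⟨a, han⟩ ∈ Cfsg.autInducedBy (Cfsg.FusionSystem.normalizerIn S Q) R :=
          mem_autInducedBy_iff.2 ⟨a, ha, fun x => rfl⟩
        have hcW : (⟨_, autInducedBy_le_autGroup (F := E) hRT hc⟩ : E.autGroup R) ∈
            (W : Subgroup (E.autGroup R)) := hW ▸ hc
        have h1 := (Subgroup.mem_normalizer_iff.1 hβ _).1 hcW
        rw [hW] at h1
        obtain ⟨b, hb, hbx⟩ := mem_autInducedBy_iff.1 h1
        refine ⟨b, hb, fun x hx => ?_⟩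
        have h2 := hbx ((β : MulAut R) ⟨x, hx⟩)
        rw [toFun_aut_apply _ hx, toFun_aut_apply _ ((han x).1 hx), ← h2]
        simp [MulAut.mul_apply]
        rfl
    have hgF : IsMap F S g := by
      obtain ⟨-, -, k, hk', hkx, -⟩ := (isMap_normalizerSystem_iff hE).1 hg
      refine ((hk'.mono le_sup_left).congr hkx).mono ?_
      exact hTS.ge
    obtain ⟨s, hs, hsx⟩ := htop g hgF
    have h3 := hgx y y.2
    rw [toFun_aut_apply _ y.2, hsx _ (hRS y.2)] at h3
    rw [← h3]
    exact hconjQ s hs y (hRS y.2)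
  refine eq_inner_of_hyperfocal_eq_bot hTp hEs (hyperfocal_eq_bot_of_le_frattini hTp hEs ?_)
  have hle : E.hyperfocalSubgroup p ≤ Q := hyperfocal_le_of Q fun P hP α hα _ x => by
    obtain ⟨-, -, g, hg, hgx, hgQ⟩ :=
      (isMap_normalizerSystem_iff hE).1 (isMap_of_autGroup hP hα)
    have hi : img (P ⊔ Q) g = P ⊔ Q := by
      rw [hg.img_sup le_sup_left le_sup_right, hgQ, img_congr hgx, img_toFun_aut]
    have hle' : P ⊔ Q ≤ (Cfsg.FusionSystem.normalizerIn S Q) := sup_le hP (hTS.symm ▸ hQS)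
    have hgE : IsMap E (P ⊔ Q) g := (isMap_normalizerSystem_iff hE).2
      ⟨hle', fun y hy => hle' (hi ▸ hg.apply_mem_img hy), g,
        by rwa [sup_assoc, sup_idem], fun y _ => rfl, hgQ⟩
    have h := key _ hle' le_sup_right (hgE.toAut hi) (hgE.toAut_mem hi)
      ⟨x, Subgroup.mem_sup_left x.2⟩
    rw [IsMap.toAut_apply] at h
    show (x : Ω)⁻¹ * _ ∈ Q
    rwa [hgx _ x.2, toFun_aut_apply _ x.2] at h
  intro y hy
  have hyS : (y : Ω) ∈ (frattini ↥S).map S.subtype := h2 (hle hy)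
  obtain ⟨z, hz, hzy⟩ := hyS
  let e : ↥S ≃* ↥(Cfsg.FusionSystem.normalizerIn S Q) := MulEquiv.subgroupCongr hTS.symm
  have hez : e z = y := Subtype.ext hzy
  rw [← hez]
  exact frattini_le_comap_frattini_of_surjective (φ := e.toMonoidHom) e.surjective hz

end Cfsg.Agent.S5222
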