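import Cfsg.Statements.S5223
import Cfsg.Agent.Lib.Fusion.HyperFocal

set_option autoImplicit false
open Cfsg

namespace Cfsg.Agent.S5223

/-- Let F be a saturated fusion system over a finite p-group S. Suppose there are subgroups Q₀ = S, Q₁, …, Qₙ = 1 (not required to be nested) such that for each i < n the focal subgroup of Qᵢ (generated by the elements x⁻¹φ(x), x ∈ Qᵢ, φ a map of F defined on the cyclic group generated by x) lies in Qᵢ₊₁. Then F is the inner fusion system of S. -/
theorem result {Ω : Type*} [Group Ω] {S : Subgroup Ω} [Finite S] (p : ℕ) [Fact p.Prime] (hS : IsPGroup p S) (F : Cfsg.FusionSystem S) (hF : F.IsSaturated p) (n : ℕ) (Q : Fin (n + 1) → Subgroup Ω) (hQ0 : Q 0 = S) (hQn : Q (Fin.last n) = ⊥) (hstep : ∀ i : Fin n, Subgroup.closure {y : Ω | ∃ x ∈ Q i.castSucc, ∃ φ ∈ F.Hom (Subgroup.zpowers x), y = x⁻¹ * φ ⟨x, Subgroup.mem_zpowers x⟩} ≤ Q i.succ) : ∀ P : Subgroup Ω, F.Hom P = (Cfsg.innerFusionSystem S).Hom P := by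
  refine CfsgLib.Fusion.eq_inner_of_coprime_trivial hS hF fun R hR α hα hc => ?_
  suffices h : ∀ j : Fin (n + 1), ∀ P : Subgroup Ω, P ≤ S → P ≤ Q j →
      ∀ β ∈ F.autGroup P, (orderOf β).Coprime p → β = 1 from
    h 0 R hR.1 (hQ0.symm ▸ hR.1) α hα hc
  intro j
  induction j using Fin.reverseInduction with
  | last =>
    intro P hP hle β _ _
    refine MulEquiv.ext fun x => Subtype.ext ?_
    rw [hQn] at hle
    exact (Subgroup.mem_bot.1 (hle (β x).2)).trans (Subgroup.mem_bot.1 (hle x.2)).symm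
  | cast i ih =>
    intro P hP hle β hβ hβc
    refine CfsgLib.Fusion.eq_one_of_fixes_sub (hS.to_le hP) hβc fun x => ?_
    set W : Subgroup ↥P := Subgroup.closure {y | ∃ x, x⁻¹ * β x = y}
    have hWQ : W.map P.subtype ≤ Q i.succ := by
      rw [Subgroup.map_le_iff_le_comap, Subgroup.closure_le]
      rintro _ ⟨z, rfl⟩
      refine hstep i (Subgroup.subset_closure ⟨z, hle z.2, ?_⟩)
      have hm := (CfsgLib.Fusion.isMap_of_autGroup hP hβ).mono
        ((Subgroup.zpowers_le (g := (z : Ω))).2 z.2)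
      refine ⟨_, hm.toHom_mem, ?_⟩
      rw [CfsgLib.Fusion.IsMap.toHom_apply, CfsgLib.Fusion.toFun_aut_apply _ z.2]
      rfl
    have hle' : W.map P.subtype ≤ P := Subgroup.map_subtype_le _
    have hWfix : ∀ w : ↥P, w ∈ W → β w ∈ W := by
      intro w hw
      induction hw using Subgroup.closure_induction with
      | mem y hy =>
        obtain ⟨z, rfl⟩ := hy
        rw [map_mul, map_inv]
        exact Subgroup.subset_closure ⟨β z, rfl⟩
      | one => rw [map_one]; exact one_mem _
      | mul a b _ _ ha hb => rw [map_mul]; exact mul_mem ha hb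
      | inv a _ ha => rw [map_inv]; exact inv_mem ha
    have hm := (CfsgLib.Fusion.isMap_of_autGroup hP hβ).mono hle'
    haveI := CfsgLib.Fusion.finite_of_le (hle'.trans hP)
    have hi : CfsgLib.Fusion.img (W.map P.subtype) (CfsgLib.Fusion.toFun (P.subtype.comp β.toMonoidHom)) =
        W.map P.subtype := by
      refine CfsgLib.Fusion.eq_of_le_of_card_le (fun y hy => ?_) hm.card_img.ge
      obtain ⟨_, ⟨u, hu, rfl⟩, rfl⟩ := hm.mem_img.1 hy
      exact ⟨β u, hWfix u hu, (CfsgLib.Fusion.toFun_aut_apply _ u.2).symm⟩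
    set γ := hm.toAut hi
    have hγv : ∀ u : ↥(W.map P.subtype),
        ((γ u : ↥(W.map P.subtype)) : Ω) = ((β ⟨u, hle' u.2⟩ : ↥P) : Ω) := fun u =>
      (hm.toAut_apply hi u).trans (CfsgLib.Fusion.toFun_aut_apply β (hle' u.2))
    have hγpow : ∀ k : ℕ, ∀ u : ↥(W.map P.subtype),
        (((γ ^ k) u : ↥(W.map P.subtype)) : Ω) = (((β ^ k) ⟨u, hle' u.2⟩ : ↥P) : Ω) := by
      intro k
      induction k with
      | zero => intro u; rfl
      | succ k ihk =>
        intro u
        rw [pow_succ', pow_succ', MulAut.mul_apply, MulAut.mul_apply, hγv]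
        congr 2
        exact Subtype.ext (ihk u)
    have hγc : (orderOf γ).Coprime p := by
      refine Nat.Coprime.coprime_dvd_left (orderOf_dvd_of_pow_eq_one ?_) hβc
      refine MulEquiv.ext fun u => Subtype.ext ?_
      rw [hγpow, pow_orderOf_eq_one]
      rfl
    have hone := ih (W.map P.subtype) (hle'.trans hP) hWQ γ (hm.toAut_mem hi) hγc
    have hy : x⁻¹ * β x ∈ W := Subgroup.subset_closure ⟨x, rfl⟩
    have h1 := hγv ⟨((x⁻¹ * β x : ↥P) : Ω), _, hy, rfl⟩
    rw [hone] at h1
    exact Subtype.ext h1.symm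

end Cfsg.Agent.S5223
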