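import Cfsg.Statements.S5225
import Cfsg.Agent.Lib.Invol.FusionYoshida

set_option autoImplicit false
open Cfsg

namespace Cfsg.Agent.S5225

/-- Yoshida's Theorem for fusion systems. Let F be a saturated fusion system over a finite p-group S and N the normalizer fusion system of S in F. If the focal subgroups of F and N differ (N does not control transfer in F), then S has a quotient isomorphic to the wreath product C_p ≀ C_p (realised as a Sylow p-subgroup of the symmetric group of degree p²). -/
theorem result {Ω : Type*} [Group Ω] {S : Subgroup Ω} [Finite S] (p : ℕ) [Fact p.Prime] (hS : IsPGroup p S) (F : Cfsg.FusionSystem S) (hF : F.IsSaturated p) (N : Cfsg.FusionSystem (Cfsg.FusionSystem.normalizerIn S S)) (hN : F.IsNormalizerSystem S N) (hne : N.focalSubgroup ≠ F.focalSubgroup) : ∃ (W : Sylow p (Equiv.Perm (Fin (p ^ 2)))) (f : ↥S →* ↥(W : Subgroup (Equiv.Perm (Fin (p ^ 2))))), Function.Surjective f := by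
  classical
  have hNS : Cfsg.FusionSystem.normalizerIn S S = S := inf_eq_left.2 Subgroup.le_normalizer
  have hle : N.focalSubgroup ≤ F.focalSubgroup := by
    refine Subgroup.closure_mono ?_
    rintro _ ⟨P, φ, x, hφ, rfl⟩
    rw [hN P] at hφ
    exact ⟨P, φ, x, hφ.1, rfl⟩
  refine CfsgLib.Invol.fusion_wreath_quotient hS hF N.focalSubgroup ?_ ?_
    fun h => hne (le_antisymm hle h)
  · exact (Subgroup.commutator_mono hNS.ge hNS.ge).trans (CfsgLib.Fusion.commutator_le_focal N)
  · intro f hf x hx
    refine Subgroup.subset_closure ⟨S, hf.toHom, ⟨x, hx⟩, ?_, rfl⟩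
    rw [hN S]
    have hfS : CfsgLib.Fusion.IsMap F (S ⊔ S) f := by rw [sup_idem]; exact hf
    refine ⟨hf.toHom_mem, hNS.ge, fun y => hNS.ge (hf.mem y.2), hfS.toHom, hfS.toHom_mem,
      fun y => rfl, ?_⟩
    refine Subgroup.eq_of_le_of_card_ge ?_ ?_
    · rintro _ ⟨y, hy, rfl⟩
      exact hf.mem hy
    · rw [Subgroup.card_map_of_injective (F.injective_of_mem hfS.toHom_mem),
        Nat.card_congr (Subgroup.subgroupOfEquivOfLe (le_sup_left : S ≤ S ⊔ S)).toEquiv]

end Cfsg.Agent.S5225
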