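import Cfsg.Statements.S5226
import Cfsg.Agent.Lib.Fusion.NormalCriteria

set_option autoImplicit false
open Cfsg

namespace Cfsg.Agent.S5226

open scoped commutatorElement

/-- Let F be a saturated fusion system over a finite p-group S and Q a subgroup of S. Then Q is normal in F (F equals the normalizer system of Q) if and only if Q is strongly closed in F and admits a central series 1 = Q₀ ≤ Q₁ ≤ ⋯ ≤ Qₙ = Q ([Qᵢ₊₁, Q] ≤ Qᵢ) all of whose proper terms are weakly closed in F. -/
theorem result {Ω : Type*} [Group Ω] {S : Subgroup Ω} [Finite S] (p : ℕ) [Fact p.Prime] (hS : IsPGroup p S) (F : Cfsg.FusionSystem S) (hF : F.IsSaturated p) (Q : Subgroup Ω) : F.IsNormal Q ↔ F.StronglyClosed Q ∧ ∃ (n : ℕ) (C : Fin (n + 1) → Subgroup Ω), C 0 = ⊥ ∧ C (Fin.last n) = Q ∧ Monotone C ∧ (∀ i : Fin n, ⁅C i.succ, Q⁆ ≤ C i.castSucc) ∧ ∀ i : Fin n, F.WeaklyClosed (C i.castSucc) := by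
  constructor
  · intro h
    obtain ⟨n, C, h0, hn, hmono, hcomm, hN⟩ := CfsgLib.Fusion.IsNormal.exists_series hS h
    exact ⟨CfsgLib.Fusion.IsNormal.stronglyClosed h, n, fun i => C i, h0, hn,
      fun i j hij => hmono hij, fun i => hcomm i,
      fun i => CfsgLib.Fusion.StronglyClosed.weaklyClosed
        (CfsgLib.Fusion.IsNormal.stronglyClosed (hN _))⟩
  · rintro ⟨hsc, n, C, h0, hn, hmono, hcomm, hw⟩
    refine CfsgLib.Fusion.isNormal_of_le_centricRadical hS hF hsc fun P hc hr => ?_
    refine CfsgLib.Fusion.le_centricRadical_of_series hS hsc n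
      (fun k => C ⟨min k n, by omega⟩) (by simpa using h0)
      (by simp only [min_self]; exact hn) (fun k hk => hmono ?_) (fun k hk => ?_) (fun k hk => ?_) hc hr
    · exact Fin.mk_le_mk.2 (by omega)
    · simp only [min_eq_left hk.le, min_eq_left (Nat.succ_le_of_lt hk)]
      exact hcomm ⟨k, hk⟩
    · simp only [min_eq_left hk.le]
      exact hw ⟨k, hk⟩

end Cfsg.Agent.S5226
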