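import Cfsg.Statements.S5233
import Cfsg.Agent.Lib.Invol.ExtraspecialClosed
import Cfsg.Agent.Lib.Invol.Dihedral
import Cfsg.Agent.Lib.Coprime.SymplecticType
import Mathlib

set_option autoImplicit false
open Cfsg

namespace Cfsg.Agent.S5233

universe w

open Subgroup Cfsg.FusionSystem CfsgLib.Fusion CfsgLib.Invol.ExtraspecialClosed
open scoped commutatorElement

theorem exists_group_type_zero (G : Type w) [Group G] [Finite G] :
    ∃ (H : Type) (_ : Group H), Nonempty (G ≃* H) := by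
  let e : {_i : Fin (Nat.card G) // True} ≃ G :=
    (Equiv.subtypeUnivEquiv fun _ => trivial).trans (Finite.equivFin G).symm
  letI := e.group
  exact ⟨{_i : Fin (Nat.card G) // True}, e.group, ⟨(Equiv.mulEquiv e).symm⟩⟩

theorem exists_commGroup_type_zero (G : Type w) [CommGroup G] [Finite G] :
    ∃ (H : Type) (_ : CommGroup H), Nonempty (G ≃* H) := by
  let e : {_i : Fin (Nat.card G) // True} ≃ G :=
    (Equiv.subtypeUnivEquiv fun _ => trivial).trans (Finite.equivFin G).symm
  letI := e.commGroup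
  exact ⟨{_i : Fin (Nat.card G) // True}, e.commGroup, ⟨(Equiv.mulEquiv e).symm⟩⟩

theorem isExtraspecial_equiv {E : Type w} [Group E] [Finite E] {E' : Type} [Group E'] {p : ℕ}
    [Fact p.Prime] (e : E ≃* E') (h : Cfsg.IsExtraspecial p E) : Cfsg.IsExtraspecial p E' := by
  haveI := Finite.of_equiv E e.toEquiv
  obtain ⟨⟨hE, hfr, hcom⟩, hcard⟩ := h
  have hcm : ∀ x, x ∈ (center E).map e.toMonoidHom ↔ e.symm x ∈ center E := fun x =>
    Subgroup.mem_map_equiv
  refine CfsgLib.Coprime.isExtraspecial_of_central (hE.of_equiv e) ((center E).map e.toMonoidHom) ?_ ?_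
    (fun u v => (hcm _).2 ?_) (fun u => (hcm _).2 ?_) ?_
  · rw [card_map_of_injective e.injective, hcard]
  · ext x
    rw [hcm, Subgroup.mem_center_iff, Subgroup.mem_center_iff]
    exact ⟨fun h g => e.injective (by simpa using h (e g)),
      fun h g => e.symm.injective (by simpa using h (e.symm g))⟩
  · rw [map_commutatorElement, ← hcom]
    exact commutator_mem_commutator (mem_top _) (mem_top _)
  · rw [map_pow, ← hfr]
    exact CfsgLib.StructC.pow_mem_frattini hE _
  · intro htop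
    have htop' : center E = ⊤ := eq_top_iff.2 fun x _ => by
      simpa using (hcm (e x)).1 (htop.ge (mem_top _))
    have h1 : commutator E = ⊥ := by
      rw [_root_.commutator_def, eq_bot_iff, commutator_le]
      intro u _ v _
      rw [mem_bot, commutatorElement_eq_one_iff_mul_comm]
      exact Subgroup.mem_center_iff.1 (htop'.ge (mem_top v)) u
    rw [← hcom, h1, card_bot] at hcard
    exact (Fact.out : p.Prime).ne_one hcard.symm

/-- The decomposition `X = E × A`. -/
theorem exists_decomposition {X : Type w} [Group X] [Finite X] {p : ℕ} [Fact p.Prime]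
    (hX : IsPGroup p X) (Z : Subgroup X) (hZ : Nat.card Z = p)
    (hcomm : ∀ u v : X, ⁅u, v⁆ ∈ Z) (hZc : Z ≤ center X) (a y : X) (hay : ¬ Commute a y)
    (ha : a ^ p = 1)
    (hel : ∀ u v : X, Commute u y → Commute v y → Commute u v ∧ u ^ p = 1) :
    ∃ A : Subgroup X, A ≤ center X ∧ (∀ w ∈ A, w ^ p = 1) ∧
      Nonempty (X ≃* (closure ({a, y} : Set X)) × A) ∧
      Nat.card (closure ({a, y} : Set X)) = p ^ 3 ∧
      Cfsg.IsExtraspecial p (closure ({a, y} : Set X)) ∧
      (p ≠ 2 → ∀ e ∈ closure ({a, y} : Set X), e ^ p = 1) := by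
  classical
  have hp : p.Prime := Fact.out
  have hpZ := Nat.prime_iff_prime_int.1 hp
  set c := ⁅a, y⁆ with hcdef
  have hc : c ∈ Z := hcomm a y
  have hc1 : c ≠ 1 := fun h => hay (commutatorElement_eq_one_iff_commute.1 h)
  have hcen : ∀ d ∈ Z, ∀ u : X, Commute u d := fun d hd u => Subgroup.mem_center_iff.1 (hZc hd) u
  have hy : y ^ p = 1 := (hel y y (Commute.refl y) (Commute.refl y)).2
  have hZgen : ∀ d ∈ Z, ∃ k : ℤ, c ^ k = d := by
    intro d hd
    have hle : zpowers c ≤ Z := zpowers_le.2 hc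
    refine mem_zpowers_iff.1 ?_
    rcases (Nat.dvd_prime hp).1 (hZ ▸ card_dvd_of_le hle) with h | h
    · rw [Subgroup.card_eq_one, zpowers_eq_bot] at h; exact absurd h hc1
    · exact (eq_of_le_of_card_ge hle (by rw [h, hZ])).ge hd
  have hcp : c ^ p = 1 := by
    rw [← hZ]; exact congrArg Subtype.val (pow_card_eq_one' (x := (⟨c, hc⟩ : Z)))
  -- powers commuting
  have hpow : ∀ (u v : X) (k : ℤ), u ^ p = 1 → ¬ Commute u v → Commute (u ^ k) v → u ^ k = 1 := by
    intro u v k hu huv hk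
    by_cases hd : (p : ℤ) ∣ k
    · obtain ⟨j, rfl⟩ := hd
      rw [zpow_mul, zpow_natCast, hu, one_zpow]
    · obtain ⟨b, d, hbd⟩ := (hpZ.coprime_iff_not_dvd.2 hd).symm
      refine absurd ?_ huv
      have : u = (u ^ k) ^ b := by
        calc u = u ^ (b * k + d * (p : ℤ)) := by rw [hbd, zpow_one]
          _ = (u ^ k) ^ b := by
            rw [zpow_add, mul_comm d, zpow_mul u (p : ℤ), zpow_natCast, hu, one_zpow, mul_one, mul_comm,
              zpow_mul]
      rw [this]
      exact hk.zpow_left b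
  have hconj : ∀ (u v : X) , ∃ d ∈ Z, u * v = d * (v * u) := fun u v =>
    ⟨⁅u, v⁆, hcomm u v, by simp [commutatorElement_def, mul_assoc]⟩
  have hconjpow : ∀ k : ℤ, a ^ k * y * (a ^ k)⁻¹ = c ^ k * y := by
    intro k
    induction k with
    | zero => simp
    | succ n ih =>
      rw [show a ^ ((n : ℤ) + 1) * y * (a ^ ((n : ℤ) + 1))⁻¹ = a * (a ^ (n : ℤ) * y * (a ^ (n : ℤ))⁻¹) * a⁻¹ by
        group, ih, show a * (c ^ (n : ℤ) * y) * a⁻¹ = (a * c ^ (n : ℤ)) * (y * a⁻¹) by group,
        ((hcen c hc a).zpow_right _).eq, show c ^ ((n : ℤ) + 1) * y = c ^ (n : ℤ) * (c * y) by group]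
      rw [hcdef]; simp [commutatorElement_def, mul_assoc]
    | pred n ih =>
      have h1 : a⁻¹ * y * a = c⁻¹ * y := by
        have : a * y * a⁻¹ = c * y := by rw [hcdef]; simp [commutatorElement_def, mul_assoc]
        calc a⁻¹ * y * a = a⁻¹ * (c⁻¹ * (c * y)) * a := by group
          _ = a⁻¹ * (c⁻¹ * (a * y * a⁻¹)) * a := by rw [this]
          _ = (a⁻¹ * c⁻¹ * a) * y := by group
          _ = c⁻¹ * y := by rw [((hcen c hc a).inv_inv).eq, inv_mul_cancel_right]
      rw [show a ^ (-(n : ℤ) - 1) * y * (a ^ (-(n : ℤ) - 1))⁻¹ =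
        a⁻¹ * (a ^ (-(n : ℤ)) * y * (a ^ (-(n : ℤ)))⁻¹) * a by group, ih,
        show a⁻¹ * (c ^ (-(n : ℤ)) * y) * a = (a⁻¹ * c ^ (-(n : ℤ))) * (y * a) by group,
        (((hcen c hc a).inv_left).zpow_right _).eq, mul_assoc, ← mul_assoc a⁻¹, h1]
      group
  -- every element is central times `y ^ j a ^ k`
  have hform : ∀ x : X, ∃ w ∈ center X, ∃ j k : ℤ, x = w * y ^ j * a ^ k := by
    intro x
    obtain ⟨k, hk⟩ := hZgen _ (hcomm x y)
    set t := x * a ^ (-k) with ht
    have hty : Commute t y := by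
      rw [commute_iff_eq, ← mul_inv_eq_iff_eq_mul, ht,
        show x * a ^ (-k) * y * (x * a ^ (-k))⁻¹ = x * (a ^ (-k) * y * (a ^ (-k))⁻¹) * x⁻¹ by group,
        hconjpow, show x * (c ^ (-k) * y) * x⁻¹ = x * c ^ (-k) * y * x⁻¹ by group,
        ((hcen c hc x).zpow_right (-k)).eq, show c ^ (-k) * x * y * x⁻¹ = c ^ (-k) * (x * y * x⁻¹) by group,
        show x * y * x⁻¹ = c ^ k * y by rw [hk]; simp [commutatorElement_def, mul_assoc], ← mul_assoc,
        ← zpow_add, neg_add_cancel, zpow_zero, one_mul]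
    obtain ⟨j, hj⟩ := hZgen _ (hcomm a t)
    set w := t * y ^ (-j) with hw
    have hwy : Commute w y := hty.mul_left ((Commute.refl y).zpow_left _)
    have hwa : Commute a w := by
      rw [commute_iff_eq, ← mul_inv_eq_iff_eq_mul, hw,
        show a * (t * y ^ (-j)) * a⁻¹ = (a * t * a⁻¹) * (a * y * a⁻¹) ^ (-j) by rw [conj_zpow]; group,
        show a * t * a⁻¹ = c ^ j * t by rw [hj]; simp [commutatorElement_def, mul_assoc],
        show a * y * a⁻¹ = c * y by rw [hcdef]; simp [commutatorElement_def, mul_assoc],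
        (show Commute c y from (hcen c hc y).symm).mul_zpow, mul_assoc, ← mul_assoc t,
        ((hcen c hc t).zpow_right (-j)).eq, ← mul_assoc, ← mul_assoc, ← zpow_add, add_neg_cancel,
        zpow_zero, one_mul]
    refine ⟨w, Subgroup.mem_center_iff.2 fun g => ?_, j, k, by rw [hw, ht]; group⟩
    obtain ⟨k', hk'⟩ := hZgen _ (hcomm g y)
    have hgy : Commute (g * a ^ (-k')) y := by
      rw [commute_iff_eq, ← mul_inv_eq_iff_eq_mul,
        show g * a ^ (-k') * y * (g * a ^ (-k'))⁻¹ = g * (a ^ (-k') * y * (a ^ (-k'))⁻¹) * g⁻¹ by group,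
        hconjpow, show g * (c ^ (-k') * y) * g⁻¹ = g * c ^ (-k') * y * g⁻¹ by group,
        ((hcen c hc g).zpow_right (-k')).eq,
        show c ^ (-k') * g * y * g⁻¹ = c ^ (-k') * (g * y * g⁻¹) by group,
        show g * y * g⁻¹ = c ^ k' * y by rw [hk']; simp [commutatorElement_def, mul_assoc], ← mul_assoc,
        ← zpow_add, neg_add_cancel, zpow_zero, one_mul]
    have h2 := (hel _ w hgy hwy).1.mul_left (hwa.zpow_left k')
    rw [zpow_neg, inv_mul_cancel_right] at h2
    exact h2.eq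
  have hcp' : ∀ w ∈ center X, w ^ p = 1 := fun w hw =>
    (hel w w (Subgroup.mem_center_iff.1 hw y).symm (Subgroup.mem_center_iff.1 hw y).symm).2
  -- complement of `Z` in the centre
  obtain ⟨A, hA⟩ := (Set.toFinite {A : Subgroup X | A ≤ center X ∧ Z ⊓ A = ⊥}).exists_maximal
    ⟨⊥, bot_le, inf_bot_eq _⟩
  obtain ⟨hAc, hZA⟩ := hA.prop
  have hcover : center X ≤ Z ⊔ A := by
    intro w hw
    by_contra hwn
    have hwA : w ∉ A := fun h => hwn (mem_sup_right h)
    have hle : A ≤ A ⊔ zpowers w := le_sup_left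
    have hgood : A ⊔ zpowers w ≤ center X ∧ Z ⊓ (A ⊔ zpowers w) = ⊥ := by
      refine ⟨sup_le hAc (zpowers_le.2 hw), eq_bot_iff.2 fun d hd => ?_⟩
      haveI : A.Normal := ⟨fun x hx g => by
        rw [Subgroup.mem_center_iff.1 (hAc hx) g, mul_inv_cancel_right]; exact hx⟩
      obtain ⟨u, hu, v, hv, rfl⟩ := mem_sup_of_normal_left.1 (mem_inf.1 hd).2
      obtain ⟨k, rfl⟩ := mem_zpowers_iff.1 hv
      by_cases hk : (p : ℤ) ∣ k
      · obtain ⟨j, rfl⟩ := hk
        rw [zpow_mul, zpow_natCast, hcp' w hw, one_zpow, mul_one] at hd ⊢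
        rw [← hZA]
        exact ⟨hd.1, hu⟩
      · exfalso
        obtain ⟨b, e, hbe⟩ := (hpZ.coprime_iff_not_dvd.2 hk).symm
        refine hwn ?_
        have hwk : w ^ k ∈ Z ⊔ A := by
          have h := mul_mem (mem_sup_right (S := Z) (A.inv_mem hu)) (mem_sup_left (T := A) hd.1)
          rwa [inv_mul_cancel_left] at h
        have hwb : w = (w ^ k) ^ b := by
          calc w = w ^ (b * k + e * (p : ℤ)) := by rw [hbe, zpow_one]
            _ = (w ^ k) ^ b := by
              rw [zpow_add, mul_comm e, zpow_mul w (p : ℤ), zpow_natCast, hcp' w hw, one_zpow, mul_one,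
                mul_comm, zpow_mul]
        rw [hwb]
        exact zpow_mem hwk b
    exact hwA (hA.le_of_ge hgood hle (mem_sup_right (mem_zpowers w)))
  -- normal form in `E`
  set E := closure ({a, y} : Set X) with hE
  have haE : a ∈ E := subset_closure (Or.inl rfl)
  have hyE : y ∈ E := subset_closure (Or.inr rfl)
  have hcE : c ∈ E := by
    rw [hcdef, commutatorElement_def]
    exact mul_mem (mul_mem (mul_mem haE hyE) (inv_mem haE)) (inv_mem hyE)
  have hZE : Z ≤ E := fun d hd => by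
    obtain ⟨k, rfl⟩ := hZgen d hd
    exact zpow_mem hcE k
  have hEform : ∀ e ∈ E, ∃ d ∈ Z, ∃ j k : ℤ, e = d * y ^ j * a ^ k := by
    let K : Subgroup X :=
      { carrier := {e | ∃ d ∈ Z, ∃ j k : ℤ, e = d * y ^ j * a ^ k}
        one_mem' := ⟨1, Z.one_mem, 0, 0, by simp⟩
        mul_mem' := by
          rintro _ _ ⟨d, hd, j, k, rfl⟩ ⟨d', hd', j', k', rfl⟩
          obtain ⟨g, hg, hgq⟩ := hconj (a ^ k) (y ^ j')
          refine ⟨d * d' * g, Z.mul_mem (Z.mul_mem hd hd') hg, j + j', k + k', ?_⟩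
          calc d * y ^ j * a ^ k * (d' * y ^ j' * a ^ k')
              = d * ((y ^ j * a ^ k) * d') * y ^ j' * a ^ k' := by group
            _ = d * (d' * (y ^ j * a ^ k)) * y ^ j' * a ^ k' := by rw [(hcen d' hd' _).eq]
            _ = d * d' * y ^ j * (a ^ k * y ^ j') * a ^ k' := by group
            _ = d * d' * (y ^ j * g) * (y ^ j' * a ^ k) * a ^ k' := by rw [hgq]; group
            _ = d * d' * g * (y ^ (j + j') * a ^ (k + k')) := by rw [(hcen g hg _).eq]; group
            _ = d * d' * g * y ^ (j + j') * a ^ (k + k') := by group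
        inv_mem' := by
          rintro _ ⟨d, hd, j, k, rfl⟩
          obtain ⟨g, hg, hgq⟩ := hconj (a ^ (-k)) (y ^ (-j))
          refine ⟨g * d⁻¹, Z.mul_mem hg (Z.inv_mem hd), -j, -k, ?_⟩
          calc (d * y ^ j * a ^ k)⁻¹ = (a ^ (-k) * y ^ (-j)) * d⁻¹ := by group
            _ = g * (y ^ (-j) * a ^ (-k) * d⁻¹) := by rw [hgq]; group
            _ = g * (d⁻¹ * (y ^ (-j) * a ^ (-k))) := by rw [(hcen d⁻¹ (Z.inv_mem hd) _).eq]
            _ = g * d⁻¹ * y ^ (-j) * a ^ (-k) := by group }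
    have : E ≤ K := (closure_le _).2 (by
      rintro v (rfl | rfl)
      · exact ⟨1, Z.one_mem, 0, 1, by simp⟩
      · exact ⟨1, Z.one_mem, 1, 0, by simp⟩)
    exact fun e he => this he
  have huniq : ∀ d ∈ Z, ∀ j k : ℤ, Commute (d * y ^ j * a ^ k) a → Commute (d * y ^ j * a ^ k) y →
      y ^ j = 1 ∧ a ^ k = 1 := by
    intro d hd j k h1 h2
    have hk : a ^ k = 1 := by
      refine hpow a y k ha hay ?_
      have hdy : Commute (d * y ^ j)⁻¹ y :=
        (((hcen d hd y).symm).mul_left ((Commute.refl y).zpow_left j)).inv_left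
      have h3 := hdy.mul_left h2
      rwa [show (d * y ^ j)⁻¹ * (d * y ^ j * a ^ k) = a ^ k by group] at h3
    refine ⟨hpow y a j hy (fun h => hay h.symm) ?_, hk⟩
    rw [hk, mul_one] at h1
    have h3 := ((hcen d hd a).symm.inv_left).mul_left h1
    rwa [inv_mul_cancel_left] at h3
  have hEc : ∀ e ∈ E, Commute e a → Commute e y → e ∈ Z := by
    intro e he h1 h2
    obtain ⟨d, hd, j, k, rfl⟩ := hEform e he
    obtain ⟨hj, hk⟩ := huniq d hd j k h1 h2
    rw [hj, hk, mul_one, mul_one]; exact hd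
  let f : E × A →* X := MonoidHom.mk' (fun t => (t.1 : X) * (t.2 : X)) fun t t' => by
    simp only [Prod.fst_mul, Prod.snd_mul, Subgroup.coe_mul]
    rw [(show Commute (t'.1 : X) (t.2 : X) from Subgroup.mem_center_iff.1 (hAc t.2.2) _).mul_mul_mul_comm]
  have hf : Function.Bijective f := by
    refine ⟨(injective_iff_map_eq_one f).2 ?_, fun x => ?_⟩
    · rintro ⟨⟨e, he⟩, ⟨w, hw⟩⟩ h
      have h' : e * w = 1 := h
      have hec : e ∈ center X := by
        rw [eq_inv_of_mul_eq_one_left h']; exact inv_mem (hAc hw)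
      have heZ := hEc e he (Subgroup.mem_center_iff.1 hec a).symm (Subgroup.mem_center_iff.1 hec y).symm
      have he1 : e = 1 := by
        have : e ∈ Z ⊓ A := ⟨heZ, by rw [eq_inv_of_mul_eq_one_left h']; exact A.inv_mem hw⟩
        rwa [hZA, mem_bot] at this
      rw [he1, one_mul] at h'
      exact Prod.ext (Subtype.ext he1) (Subtype.ext h')
    · obtain ⟨w, hw, j, k, rfl⟩ := hform x
      haveI : Z.Normal := ⟨fun d hd g => by rw [(hcen d hd g).eq, mul_inv_cancel_right]; exact hd⟩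
      obtain ⟨d, hd, u, hu, rfl⟩ := mem_sup_of_normal_left.1 (hcover hw)
      refine ⟨(⟨d * y ^ j * a ^ k, mul_mem (mul_mem (hZE hd) (zpow_mem hyE j)) (zpow_mem haE k)⟩,
        ⟨u, hu⟩), ?_⟩
      show d * y ^ j * a ^ k * u = d * u * y ^ j * a ^ k
      rw [mul_assoc (d * y ^ j), Subgroup.mem_center_iff.1 (hAc hu) (a ^ k), ← mul_assoc, mul_assoc d,
        Subgroup.mem_center_iff.1 (hAc hu) (y ^ j), ← mul_assoc]
  have hoa : orderOf a = p := orderOf_eq_prime ha fun h => hay (h ▸ Commute.one_left y)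
  have hoy : orderOf y = p := orderOf_eq_prime hy fun h => hay (h ▸ Commute.one_right a)
  have hcardE : Nat.card E = p ^ 3 := by
    let g : Z × zpowers y × zpowers a → E := fun t => ⟨(t.1 : X) * (t.2.1 : X) * (t.2.2 : X),
      mul_mem (mul_mem (hZE t.1.2) (zpowers_le.2 hyE t.2.1.2)) (zpowers_le.2 haE t.2.2.2)⟩
    have hg : Function.Bijective g := by
      constructor
      · rintro ⟨⟨d, hd⟩, ⟨_, j, rfl⟩, ⟨_, k, rfl⟩⟩ ⟨⟨d', hd'⟩, ⟨_, j', rfl⟩, ⟨_, k', rfl⟩⟩ h
        have h' : d * y ^ j * a ^ k = d' * y ^ j' * a ^ k' := congrArg Subtype.val h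
        have e1 : d⁻¹ * d' = y ^ (j - j') * (y ^ j' * a ^ (k - k') * (y ^ j')⁻¹) := by
          calc d⁻¹ * d' = d⁻¹ * (d' * y ^ j' * a ^ k') * (y ^ j' * a ^ k')⁻¹ := by group
            _ = d⁻¹ * (d * y ^ j * a ^ k) * (y ^ j' * a ^ k')⁻¹ := by rw [h']
            _ = y ^ (j - j') * (y ^ j' * a ^ (k - k') * (y ^ j')⁻¹) := by group
        obtain ⟨g₀, hg₀, hg₀q⟩ := hconj (y ^ j') (a ^ (k - k'))
        rw [hg₀q, mul_assoc g₀, mul_inv_cancel_right, ← mul_assoc, (hcen g₀ hg₀ _).eq] at e1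
        have hz : g₀ * y ^ (j - j') * a ^ (k - k') ∈ Z := e1 ▸ Z.mul_mem (Z.inv_mem hd) hd'
        obtain ⟨hj, hk⟩ := huniq g₀ hg₀ (j - j') (k - k') (hcen _ hz a).symm (hcen _ hz y).symm
        rw [zpow_sub, mul_inv_eq_one] at hj hk
        rw [hj, hk] at h'
        have hd'' := mul_right_cancel (mul_right_cancel h')
        exact Prod.ext (Subtype.ext hd'') (Prod.ext (Subtype.ext hj) (Subtype.ext hk))
      · rintro ⟨e, he⟩
        obtain ⟨d, hd, j, k, rfl⟩ := hEform e he
        exact ⟨(⟨d, hd⟩, ⟨_, zpow_mem (mem_zpowers y) j⟩, ⟨_, zpow_mem (mem_zpowers a) k⟩), rfl⟩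
    rw [← Nat.card_eq_of_bijective g hg, Nat.card_prod, Nat.card_prod, hZ, Nat.card_zpowers,
      Nat.card_zpowers, hoy, hoa]
    ring
  refine ⟨A, hAc, fun w hw => hcp' w (hAc hw), ⟨(MulEquiv.ofBijective f hf).symm⟩, hcardE, ?_, ?_⟩
  · refine CfsgLib.Coprime.isExtraspecial_of_central (hX.to_subgroup E) (Z.subgroupOf E) ?_ ?_
      (fun u v => mem_subgroupOf.2 (hcomm (u : X) (v : X))) (fun u => mem_subgroupOf.2 ?_) ?_
    · rw [Nat.card_congr (Subgroup.subgroupOfEquivOfLe hZE).toEquiv, hZ]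
    · ext ⟨e, he⟩
      rw [mem_subgroupOf, Subgroup.mem_center_iff]
      refine ⟨fun h => ?_, fun h g => Subtype.ext (hcen e h g).eq⟩
      exact hEc e he (congrArg Subtype.val (h ⟨a, haE⟩)).symm (congrArg Subtype.val (h ⟨y, hyE⟩)).symm
    · -- `e ^ p ∈ Z`
      obtain ⟨d, hd, j, k, hu⟩ := hEform (u : X) u.2
      have hc' : ∀ g : X, Commute ⁅a ^ k, d * y ^ j⁆ g := fun g => (hcen _ (hcomm _ _) g).symm
      rw [Subgroup.coe_pow, hu, CfsgLib.PGroup.mul_pow_of_central_comm _ _ hc' p]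
      refine Z.mul_mem (Z.mul_mem ?_ ?_) (Z.pow_mem (hcomm _ _) _)
      · rw [(show Commute d (y ^ j) from (hcen d hd _).symm).mul_pow, ← zpow_natCast (y ^ j),
          ← zpow_mul, mul_comm, zpow_mul, zpow_natCast, hy, one_zpow, mul_one]
        exact Z.pow_mem hd p
      · rw [← zpow_natCast, ← zpow_mul, mul_comm, zpow_mul, zpow_natCast, ha, one_zpow]
        exact Z.one_mem
    · intro htop
      exact hay (hcen y (mem_subgroupOf.1 (htop.ge (mem_top (⟨y, hyE⟩ : E)))) a)
  · intro hp2 e he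
    induction he using closure_induction with
    | mem v hv => rcases hv with rfl | rfl <;> assumption
    | one => exact one_pow p
    | mul u v hu hv iu iv =>
      obtain ⟨q, hq⟩ := hp.odd_of_ne_two hp2
      rw [CfsgLib.PGroup.mul_pow_of_central_comm u v (fun g => (hcen _ (hcomm v u) g).symm) p, iu, iv,
        one_mul, one_mul, show p.choose 2 = p * q by
          rw [Nat.choose_two_right, show p * (p - 1) = p * q * 2 by rw [hq]; simp; ring,
            Nat.mul_div_cancel _ two_pos], pow_mul, ← hZ]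
      rw [show ⁅v, u⁆ ^ Nat.card Z = 1 from congrArg Subtype.val
        (pow_card_eq_one' (x := (⟨_, hcomm v u⟩ : Z))), one_pow]
    | inv u _ iu => rw [inv_pow, iu, inv_one]

/-- Let F be a saturated fusion system over a finite p-group S and P a subgroup of S strongly closed in F that is generalized extraspecial (its Frattini subgroup equals its commutator subgroup and has order p) and not isomorphic to E × A with A elementary abelian and E dihedral of order 8 (p = 2) or extraspecial of order p³ and exponent p (p odd). Then P is normal in F. -/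
theorem result {Ω : Type*} [Group Ω] {S : Subgroup Ω} [Finite S] (p : ℕ) [Fact p.Prime] (hS : IsPGroup p S) (F : Cfsg.FusionSystem S) (hF : F.IsSaturated p) (P : Subgroup Ω) (hP : F.StronglyClosed P) (hge : frattini ↥P = commutator ↥P ∧ Nat.card ↥(commutator ↥P) = p) (h2 : p = 2 → ¬ ∃ (A : Type) (_ : CommGroup A), (∀ a : A, a ^ 2 = 1) ∧ Nonempty (↥P ≃* DihedralGroup 4 × A)) (hodd : p ≠ 2 → ¬ ∃ (E : Type) (_ : Group E) (A : Type) (_ : CommGroup A), Cfsg.IsExtraspecial p E ∧ Nat.card E = p ^ 3 ∧ Monoid.exponent E = p ∧ (∀ a : A, a ^ p = 1) ∧ Nonempty (↥P ≃* E × A)) : F.IsNormal P := by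
  classical
  have hpp : p.Prime := Fact.out
  have hset := setting_of_extraspecial hS hP hge
  refine (normal_or_moved hS hF hP hset).elim id ?_
  rintro ⟨y, hy, hyZ, z, hz, hz1, f, hf, hfy⟩
  exfalso
  haveI := finite_of_le hP.1
  obtain ⟨a, ha, hay, hap⟩ := exists_order_p hS hF hP hset hy hyZ hz hz1 hf hfy
  obtain ⟨g, -, -, hel⟩ := centralizer_elementary hS hF hP hset hy hyZ hz hz1 hf hfy
  have hZc : commutator P ≤ center P := fun w hw => Subgroup.mem_center_iff.2 fun u =>
    Subtype.ext (hset.central u (hP.1 u.2) w (mem_map_of_mem P.subtype hw))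
  have hel' : ∀ u v : P, Commute u ⟨y, hy⟩ → Commute v ⟨y, hy⟩ → Commute u v ∧ u ^ p = 1 := by
    intro u v hu hv
    obtain ⟨h1, h2⟩ := hel u u.2 (congrArg Subtype.val hu.eq) v v.2 (congrArg Subtype.val hv.eq)
    exact ⟨Subtype.ext h1.eq, Subtype.ext h2⟩
  have hay' : ¬ Commute (⟨a, ha⟩ : P) ⟨y, hy⟩ := fun h => hay (congrArg Subtype.val h.eq)
  have hap' : (⟨a, ha⟩ : P) ^ p = 1 := Subtype.ext hap
  obtain ⟨A, hAc, hAp, ⟨iso⟩, hEcard, hEs, hEexp⟩ := exists_decomposition (hS.to_le hP.1)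
    (commutator P) hge.2 (fun u v => commutator_mem_commutator (mem_top u) (mem_top v)) hZc
    ⟨a, ha⟩ ⟨y, hy⟩ hay' hap' hel'
  letI : CommGroup A :=
    { (inferInstance : Group A) with
      mul_comm := fun u v => Subtype.ext (Subgroup.mem_center_iff.1 (hAc v.2) u) }
  obtain ⟨A₀, hA₀, ⟨eA⟩⟩ := exists_commGroup_type_zero A
  have hA₀p : ∀ w : A₀, w ^ p = 1 := fun w => eA.symm.injective (by
    rw [map_pow, map_one]; exact Subtype.ext (hAp _ (eA.symm w).2))
  rcases eq_or_ne p 2 with rfl | hp2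
  · refine h2 rfl ⟨A₀, hA₀, hA₀p, ?_⟩
    set a' : P := ⟨a, ha⟩
    set y' : P := ⟨y, hy⟩
    have hy2 : y' * y' = 1 := by rw [← sq]; exact (hel' y' y' (Commute.refl _) (Commute.refl _)).2
    have ha2 : a' * a' = 1 := by rw [← sq, hap']
    have hai : a'⁻¹ = a' := inv_eq_of_mul_eq_one_right ha2
    have hyi : y'⁻¹ = y' := inv_eq_of_mul_eq_one_right hy2
    have hsq : (a' * y') ^ 2 = ⁅a', y'⁆ := by
      rw [commutatorElement_def, hai, hyi, sq, mul_assoc]
      simp [mul_assoc]
    have hc2 : ((a' * y') ^ 2) ^ 2 = 1 := by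
      rw [hsq, ← hge.2]
      exact congrArg Subtype.val (pow_card_eq_one'
        (x := (⟨⁅a', y'⁆, commutator_mem_commutator (mem_top a') (mem_top y')⟩ : commutator P)))
    have hor : orderOf (a' * y') = 4 := orderOf_eq_prime_pow (p := 2) (n := 1)
      (by rw [pow_one, hsq]; exact fun e => hay' (commutatorElement_eq_one_iff_commute.1 e))
      (by rw [show (2 : ℕ) ^ (1 + 1) = 2 * 2 from rfl, pow_mul]; exact hc2)
    have hos : orderOf y' = 2 := orderOf_eq_prime (by rw [sq, hy2])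
      fun e => hay' (e ▸ Commute.one_right a')
    have hinv : y' * (a' * y') * y'⁻¹ = (a' * y')⁻¹ := by
      rw [mul_inv_rev, hai, hyi, mul_assoc, mul_assoc, hy2, mul_one]
    have hnot : y' ∉ zpowers (a' * y') := by
      intro hm
      obtain ⟨i, hi⟩ := mem_zpowers_iff.1 hm
      have hc := (Commute.refl (a' * y')).zpow_left i
      rw [hi] at hc
      apply hay'
      have := hc.symm.mul_left ((Commute.refl y').inv_left)
      rwa [mul_inv_cancel_right] at this
    obtain ⟨eD⟩ := CfsgLib.Invol.exists_mulEquiv_dihedral hor hos hinv hnot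
    have hgen : closure ({a', y'} : Set P) = closure ({a' * y', y'} : Set P) := by
      refine le_antisymm ((closure_le _).2 ?_) ((closure_le _).2 ?_) <;> rintro v (rfl | rfl)
      · have := mul_mem (subset_closure (Or.inl rfl) : a' * y' ∈ closure ({a' * y', y'} : Set P))
          (inv_mem (subset_closure (Or.inr rfl) : y' ∈ closure ({a' * y', y'} : Set P)))
        rwa [mul_inv_cancel_right] at this
      · exact subset_closure (Or.inr rfl)
      · exact mul_mem (subset_closure (Or.inl rfl)) (subset_closure (Or.inr rfl))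
      · exact subset_closure (Or.inr rfl)
    exact ⟨iso.trans (MulEquiv.prodCongr ((MulEquiv.subgroupCongr hgen).trans eD) eA)⟩
  · obtain ⟨E₀, hE₀, ⟨eE⟩⟩ := exists_group_type_zero (closure ({⟨a, ha⟩, ⟨y, hy⟩} : Set P))
    refine hodd hp2 ⟨E₀, hE₀, A₀, hA₀, isExtraspecial_equiv eE hEs,
      by rw [← Nat.card_congr eE.toEquiv, hEcard], ?_, hA₀p,
      ⟨iso.trans (MulEquiv.prodCongr eE eA)⟩⟩
    have hdvd : Monoid.exponent E₀ ∣ p := Monoid.exponent_dvd_of_forall_pow_eq_one fun w =>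
      eE.symm.injective (by rw [map_pow, map_one]; exact Subtype.ext (hEexp hp2 _ (eE.symm w).2))
    refine ((Nat.dvd_prime hpp).1 hdvd).resolve_left fun h1 => ?_
    haveI := Monoid.exp_eq_one_iff.1 h1
    rw [Nat.card_congr eE.toEquiv, Nat.card_of_subsingleton (1 : E₀)] at hEcard
    exact absurd hEcard.symm (Nat.one_lt_pow (by norm_num) hpp.one_lt).ne'

end Cfsg.Agent.S5233
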