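import Cfsg.Statements.S5235
import Cfsg.Agent.Lib.Invol.FrattiniKernel
import Cfsg.Agent.Lib.Invol.MetacyclicTwo
import Cfsg.Agent.Lib.Invol.MaxClassRank
import Cfsg.Agent.Lib.PGroup.MetacyclicTwoAutMain
import Mathlib

set_option autoImplicit false
open Cfsg

namespace Cfsg.Agent.S5235

open Subgroup Cfsg.FusionSystem CfsgLib.Fusion CfsgLib.Invol.FrattiniKernel

/-- Let F be a saturated fusion system over a finite 2-group S (p = 2) and P a metacyclic subgroup of S strongly closed in F that is not dihedral, not semidihedral and not generalized quaternion (here the group of order 2, the Klein four-group and the cyclic group of order 4 also count as excluded). Then P is normal in F. -/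
theorem result {Ω : Type*} [Group Ω] {S : Subgroup Ω} [Finite S] (p : ℕ) [Fact p.Prime] (hS : IsPGroup p S) (F : Cfsg.FusionSystem S) (hF : F.IsSaturated p) (P : Subgroup Ω) (hP : F.StronglyClosed P) (hp : p = 2) (hm : Cfsg.IsMetacyclic ↥P) (hd : ¬ ∃ m : ℕ, Nonempty (↥P ≃* DihedralGroup m)) (hq : ¬ ∃ m : ℕ, Nonempty (↥P ≃* QuaternionGroup m)) (hsd : ¬ Cfsg.IsQuasiDihedral ↥P) : F.IsNormal P := by
  classical
  subst hp
  refine isNormal_of_le_centricRadical hS hF hP fun R hc hr => ?_
  by_contra hPR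
  haveI := finite_of_le hP.1
  have hP2 : IsPGroup 2 P := hS.to_le hP.1
  set Q : Subgroup Ω := R ⊓ P with hQdef
  have hQP : Q ≤ P := inf_le_right
  haveI := finite_of_le (hQP.trans hP.1)
  have hQ2 : IsPGroup 2 Q := hP2.to_le hQP
  have hmQ : Cfsg.IsMetacyclic Q := CfsgLib.OddLocal.isMetacyclic_of_equiv
    (Subgroup.subgroupOfEquivOfLe hQP) (CfsgLib.OddLocal.isMetacyclic_subgroup hm _)
  obtain ⟨a, haP, haN, haR, ha2⟩ := exists_outside hS hP hc hPR
  have hcent : P ⊓ centralizer (Q : Set Ω) ≤ R := centralizer_inf_le hS hP hc hr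
  set A : Subgroup P := Q.subgroupOf P
  have hC : centralizer (A : Set P) ≤ A := fun x hx => mem_subgroupOf.2 (Subgroup.mem_inf.2
    ⟨hcent ⟨x.2, fun y hy => congrArg Subtype.val (mem_centralizer_iff.1 hx ⟨y, hQP hy⟩ hy)⟩, x.2⟩)
  have haA : (⟨a, haP⟩ : P) ∉ A := fun h => haR (mem_subgroupOf.1 h).1
  obtain ⟨m, hPm⟩ := hP2.exists_card_eq
  have hlt : Nat.card A < Nat.card P := by
    refine lt_of_le_of_ne (Subgroup.card_le_card_group A) fun e => haA ?_
    exact (Subgroup.eq_top_of_card_eq A e).ge (mem_top _)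
  have hmax : 3 ≤ m → Group.nilpotencyClass P = m - 1 → False := by
    intro hm3 hcl
    rcases CfsgLib.Invol.maxClass_two_types hm3 hPm hcl with h | h | h
    · exact hd h
    · exact hq h
    · exact hsd h
  have hnA : ¬ IsPGroup 2 (MulAut Q) := fun h => haR
    (mem_of_inf_action hS hP hc hr ⊤ (h.to_subgroup _) haP haN fun φ _ => Subgroup.mem_top _)
  rcases CfsgLib.PGroup.quaternion_or_homocyclic hQ2 hmQ hnA with ⟨⟨e⟩⟩ | ⟨n, ⟨e⟩⟩
  · let e' : A ≃* QuaternionGroup 2 := (Subgroup.subgroupOfEquivOfLe hQP).trans e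
    have h8 : Nat.card A = 2 ^ 3 := by
      rw [Nat.card_congr e'.toEquiv, Nat.card_eq_fintype_card, QuaternionGroup.card]; norm_num
    have hnc : ¬ IsMulCommutative A := fun h => by
      have h2 := congrArg e' (h.is_comm.comm (e'.symm (QuaternionGroup.a 1)) (e'.symm (QuaternionGroup.xa 0)))
      simp only [map_mul, MulEquiv.apply_symm_apply] at h2
      revert h2
      decide
    rw [h8, hPm, Nat.pow_lt_pow_iff_right (by norm_num)] at hlt
    exact hmax (by omega) (CfsgLib.Invol.MaxClassRank.maxClass_of_cube hPm A h8 hnc hC)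
  let e' : A ≃* Multiplicative (ZMod (2 ^ n)) × Multiplicative (ZMod (2 ^ n)) :=
    (Subgroup.subgroupOfEquivOfLe hQP).trans e
  have hcard : Nat.card A = 2 ^ n * 2 ^ n := by
    rw [Nat.card_congr e'.toEquiv, Nat.card_prod, Nat.card_congr Multiplicative.toAdd, Nat.card_zmod]
  have hab : ∀ u ∈ A, ∀ v ∈ A, u * v = v * u := fun u hu v hv =>
    congrArg Subtype.val (e'.injective (by rw [map_mul, map_mul, mul_comm]) :
      (⟨u, hu⟩ : A) * ⟨v, hv⟩ = ⟨v, hv⟩ * ⟨u, hu⟩)
  have hexp : ∀ u ∈ A, u ^ 2 ^ n = 1 := fun u hu =>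
    congrArg Subtype.val (e'.injective (by
      rw [map_pow, map_one]
      apply Prod.ext <;>
      · apply Multiplicative.toAdd.injective
        simp) : (⟨u, hu⟩ : A) ^ 2 ^ n = 1)
  have hCeq : centralizer (A : Set P) = A := le_antisymm hC fun u hu =>
    mem_centralizer_iff.2 fun v hv => hab v hv u hu
  rcases Nat.lt_or_ge n 2 with hn | hn
  · interval_cases n
    · refine haA (hC (mem_centralizer_iff.2 fun v hv => ?_))
      have hbot : A = ⊥ := Subgroup.card_eq_one.1 (by rw [hcard]; norm_num)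
      rw [SetLike.mem_coe, hbot, mem_bot] at hv
      rw [hv, one_mul, mul_one]
    · have h4 : Nat.card A = 2 ^ 2 := by rw [hcard]; norm_num
      rw [h4, hPm, Nat.pow_lt_pow_iff_right (by norm_num)] at hlt
      exact hmax (by omega) (CfsgLib.Transfer.maxClass_of_self_centralizing hPm A h4 hCeq)
  -- some element of `P` interchanges two generators
  have haQ : a ∈ Subgroup.normalizer (Q : Set Ω) := fun y => and_congr (haN y)
    ((Subgroup.le_normalizer haP : a ∈ Subgroup.normalizer (P : Set Ω)) y)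
  set φ : MulAut Q := Q.normalizerMonoidHom ⟨a, haQ⟩
  have hφ : ∀ x : Q, ((φ x : Q) : Ω) = a * (x : Ω) * a⁻¹ := fun _ => rfl
  obtain ⟨u, hu⟩ : ∃ u : Q, u⁻¹ * φ u ∉ frattini Q := by
    by_contra hall
    push Not at hall
    refine haR (mem_of_inf_action hS hP hc hr (frattiniKer Q) (isPGroup_frattiniKer hQ2) haP haN
      fun ψ hψ => ?_)
    rw [show ψ = φ from MulEquiv.ext fun x => Subtype.ext ((hψ x).trans (hφ x).symm)]
    exact hall
  have hgen := closure_pair_eq_top hQ2 hmQ φ hu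
  let ι : Q →* P := Subgroup.inclusion hQP
  refine CfsgLib.Invol.not_swap_homocyclic hm A hn hab hexp hcard (a := ι u) (b := ι (φ u))
    (x := ⟨a, haP⟩) (mem_subgroupOf.2 u.2) (mem_subgroupOf.2 (φ u).2) ?_ haA
    (mem_subgroupOf.2 (Subgroup.mem_inf.2 ⟨ha2, P.pow_mem haP 2⟩)) (Subtype.ext (hφ u).symm)
  intro v hv
  have h := mem_map_of_mem ι (hgen.ge (mem_top (⟨(v : Ω), hv⟩ : Q)))
  rw [MonoidHom.map_closure, Set.image_pair] at h
  refine ((closure_le _).2 ?_) h
  rintro z (rfl | rfl)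
  · exact mem_sup_left (mem_zpowers _)
  · exact mem_sup_right (mem_zpowers _)

end Cfsg.Agent.S5235
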