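import Cfsg.Statements.S5236
import Cfsg.Agent.Lib.Fusion.OmegaChain

set_option autoImplicit false
open Cfsg

namespace Cfsg.Agent.S5236

/-- Let p be an odd prime, F a saturated fusion system over a finite p-group S and P a subgroup of S strongly closed in F. Then P is normal in F if and only if Ω₁(P) (the subgroup generated by the elements of order p of P) has a chain of subgroups 1 = Q₀ ≤ Q₁ ≤ ⋯ ≤ Qₙ = Ω₁(P), each strongly closed in F, with [Qᵢ₊₁, P] ≤ Qᵢ for all i. -/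
theorem result {Ω : Type*} [Group Ω] {S : Subgroup Ω} [Finite S] (p : ℕ) [Fact p.Prime] (hS : IsPGroup p S) (F : Cfsg.FusionSystem S) (hF : F.IsSaturated p) (hp : p ≠ 2) (P : Subgroup Ω) (hP : F.StronglyClosed P) : F.IsNormal P ↔ ∃ (n : ℕ) (Q : Fin (n + 1) → Subgroup Ω), Q 0 = ⊥ ∧ Q (Fin.last n) = Cfsg.omegaOne p P ∧ Monotone Q ∧ (∀ i : Fin (n + 1), F.StronglyClosed (Q i)) ∧ ∀ i : Fin n, ⁅Q i.succ, P⁆ ≤ Q i.castSucc := by
  refine ⟨fun h => CfsgLib.Fusion.exists_omega_chain hS hF hp h, ?_⟩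
  rintro ⟨n, Q, h0, hn, hmono, hsc, hcomm⟩
  refine CfsgLib.Fusion.isNormal_of_omega_chain hS hF hp hP n
    (fun i => Q ⟨min i n, by omega⟩) ?_ ?_ ?_ (fun i => hsc _) fun i hi => ?_
  · simpa using h0
  · simp only [min_self]
    exact hn.ge
  · exact fun i j hij => hmono (Fin.mk_le_mk.2 (min_le_min_right n hij))
  · have h := hcomm ⟨i, hi⟩
    simp only [Fin.succ_mk, Fin.castSucc_mk] at h
    simp only [min_eq_left (Nat.succ_le_of_lt hi), min_eq_left hi.le]
    exact h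

end Cfsg.Agent.S5236
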