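import Cfsg.Statements.S5238
import Cfsg.Agent.Lib.Invol.MaxClassRank

set_option autoImplicit false
open Cfsg

namespace Cfsg.Agent.S5238

/-- Let p be an odd prime and F a saturated fusion system over a finite p-group S having a pearl: an F-essential subgroup E that is elementary abelian of order p² or nonabelian of order p³. Then S has maximal nilpotency class (if S has order pⁿ with n ≥ 3, the term of index n − 2 of its lower central series, counting S itself as the term of index 0, is nontrivial), and every subgroup of S can be generated by at most p elements (the sectional rank of S is at most p). -/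
theorem result {Ω : Type*} [Group Ω] {S : Subgroup Ω} [Finite S] (p : ℕ) [Fact p.Prime] (hS : IsPGroup p S) (F : Cfsg.FusionSystem S) (hF : F.IsSaturated p) (hp : p ≠ 2) (E : Subgroup Ω) (hE : F.IsEssential p E) (hpearl : (Nat.card E = p ^ 2 ∧ ∀ x ∈ E, x ^ p = 1 ∧ IsMulCommutative ↥E) ∨ (Nat.card E = p ^ 3 ∧ ¬ IsMulCommutative ↥E)) : (∀ n : ℕ, Nat.card S = p ^ n → 3 ≤ n → Subgroup.lowerCentralSeries S (n - 2) ≠ ⊥) ∧ ∀ H : Subgroup Ω, H ≤ S → ∃ T : Finset Ω, T.card ≤ p ∧ Subgroup.closure (T : Set Ω) = H := by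
  classical
  have hES : E ≤ S := hE.1.1
  have hcen : Cfsg.FusionSystem.centralizerIn S E ≤ E := by
    refine hE.1.2 E ⟨Cfsg.conjHom E 1, F.conj_mem hES (one_mem S), ?_⟩
    ext y
    simp [Cfsg.conjHom, MonoidHom.mem_range]
  set A : Subgroup S := E.subgroupOf S with hAdef
  have hAc : Nat.card A = Nat.card E := Nat.card_congr (Subgroup.subgroupOfEquivOfLe hES).toEquiv
  have hCA : Subgroup.centralizer (A : Set S) ≤ A := by
    intro g hg
    refine Subgroup.mem_subgroupOf.2 (hcen ⟨g.2, Subgroup.mem_centralizer_iff.2 fun a ha => ?_⟩)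
    exact congrArg Subtype.val (Subgroup.mem_centralizer_iff.1 hg ⟨a, hES ha⟩ (Subgroup.mem_subgroupOf.2 ha))
  have hclass : ∀ n : ℕ, Nat.card S = p ^ n → Group.nilpotencyClass S = n - 1 := by
    intro n hn
    rcases hpearl with ⟨h2, -⟩ | ⟨h3, hnc⟩
    · have hA2 : Nat.card A = p ^ 2 := hAc.trans h2
      haveI : IsMulCommutative A := IsPGroup.isMulCommutative_of_card_eq_prime_sq hA2
      exact CfsgLib.Transfer.maxClass_of_self_centralizing hn A hA2
        (le_antisymm hCA (Subgroup.le_centralizer A))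
    · refine CfsgLib.Invol.MaxClassRank.maxClass_of_cube hn A (hAc.trans h3) (fun hc => hnc ?_) hCA
      exact ⟨⟨fun a b => Subtype.ext (congrArg (fun t : A => ((t : S) : Ω))
        (hc.is_comm.comm ⟨⟨a, hES a.2⟩, Subgroup.mem_subgroupOf.2 a.2⟩
          ⟨⟨b, hES b.2⟩, Subgroup.mem_subgroupOf.2 b.2⟩))⟩⟩
  haveI := hS.isNilpotent
  obtain ⟨n, hn⟩ := hS.exists_card_eq
  refine ⟨fun m hm h3 => ?_, fun H hH => ?_⟩
  · intro hbot
    have h1 : (⊤ : Subgroup S).lowerCentralSeries (m - 2) = ⊥ := by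
      rw [← Subgroup.map_subtype_inj, Subgroup.map_bot, Subgroup.top_subtype_lowerCentralSeries, hbot]
    rw [Subgroup.lowerCentralSeries_eq_bot_iff_nilpotencyClass_le, hclass m hm] at h1
    omega
  have hlift : ∃ T : Finset S, T.card ≤ p ∧ Subgroup.closure (T : Set S) = H.subgroupOf S := by
    by_cases h3 : 3 ≤ n
    · exact CfsgLib.Invol.MaxClassRank.exists_gen_le ⟨h3, hn, hclass n hn⟩ _
    · obtain ⟨T, hT, hT'⟩ := CfsgLib.Invol.MaxClassRank.exists_gen_small hS (H.subgroupOf S)
        ((Subgroup.card_le_card_group _).trans (hn ▸ Nat.pow_le_pow_right (Fact.out : p.Prime).pos (by omega)))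
      exact ⟨T, hT.trans (Fact.out : p.Prime).two_le, hT'⟩
  obtain ⟨T, hT, hT'⟩ := hlift
  refine ⟨T.image Subtype.val, Finset.card_image_le.trans hT, ?_⟩
  rw [Finset.coe_image, show (Subtype.val : S → Ω) = S.subtype from rfl, ← MonoidHom.map_closure, hT',
    Subgroup.subgroupOf_map_subtype, inf_eq_left.2 hH]

end Cfsg.Agent.S5238
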