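import Cfsg.Statements.S5239
import Cfsg.Agent.S5238
import Cfsg.Agent.Lib.Invol.MaxClassThree
import Cfsg.Agent.Lib.Invol.PearlExponent

set_option autoImplicit false
open Cfsg
open scoped commutatorElement

namespace Cfsg.Agent.S5239

/-- Let F be a saturated fusion system over a finite 3-group S having a pearl: an F-essential subgroup E that is elementary abelian of order 9 or nonabelian of order 27. Then either S is extraspecial of order 27 and exponent 3, or S has order at least 81 and every subgroup of S can be generated by at most two elements, or S is isomorphic to the wreath product C₃ ≀ C₃ (a Sylow 3-subgroup of the symmetric group of degree 9). -/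
theorem result {Ω : Type*} [Group Ω] {S : Subgroup Ω} [Finite S] (hS : IsPGroup 3 S) (F : Cfsg.FusionSystem S) (hF : F.IsSaturated 3) [Fact (Nat.Prime 3)] (E : Subgroup Ω) (hE : F.IsEssential 3 E) (hpearl : (Nat.card E = 9 ∧ ∀ x ∈ E, x ^ 3 = 1 ∧ IsMulCommutative ↥E) ∨ (Nat.card E = 27 ∧ ¬ IsMulCommutative ↥E)) : (Cfsg.IsExtraspecial 3 ↥S ∧ Nat.card S = 27 ∧ Monoid.exponent ↥S = 3) ∨ (81 ≤ Nat.card S ∧ ∀ H : Subgroup Ω, H ≤ S → ∃ T : Finset Ω, T.card ≤ 2 ∧ Subgroup.closure (T : Set Ω) = H) ∨ (∃ W : Sylow 3 (Equiv.Perm (Fin 9)), Nonempty (↥S ≃* ↥(W : Subgroup (Equiv.Perm (Fin 9))))) := by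
  classical
  haveI := hS.isNilpotent
  obtain ⟨n, hn⟩ := hS.exists_card_eq
  have hpearl' : (Nat.card E = 3 ^ 2 ∧ ∀ x ∈ E, x ^ 3 = 1 ∧ IsMulCommutative ↥E) ∨
      (Nat.card E = 3 ^ 3 ∧ ¬ IsMulCommutative ↥E) := by norm_num; exact hpearl
  have hlt : E < S := CfsgLib.Fusion.lt_of_essential hS hF hE
  have h3 : 3 ≤ n := by
    have h1 : Nat.card E < Nat.card S := by
      refine lt_of_le_of_ne (Subgroup.card_le_of_le hlt.le) fun e => hlt.ne ?_
      exact Subgroup.eq_of_le_of_card_ge hlt.le e.ge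
    have h2 : 3 ^ 2 ≤ Nat.card E := by rcases hpearl' with ⟨h, -⟩ | ⟨h, -⟩ <;> rw [h]; norm_num
    have h4 := h2.trans_lt h1
    rw [hn, Nat.pow_lt_pow_iff_right (by norm_num)] at h4
    omega
  have hne := (Cfsg.Agent.S5238.result 3 hS F hF (by norm_num) E hE hpearl').1 n hn h3
  have hclass : Group.nilpotencyClass S = n - 1 := by
    have h1 : ¬ Group.nilpotencyClass S ≤ n - 2 := by
      rw [← Subgroup.lowerCentralSeries_eq_bot_iff_nilpotencyClass_le]
      intro h
      refine hne ?_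
      rw [← Subgroup.top_subtype_lowerCentralSeries, h, Subgroup.map_bot]
    have h2 := CfsgLib.Transfer.nilpotencyClass_le_of_card hn
    omega
  have hMC : CfsgLib.Coprime.MaxClassUniform.IsMC 3 n S := ⟨h3, hn, hclass⟩
  have hmap : (∀ H : Subgroup S, ∃ T : Finset S, T.card ≤ 2 ∧ Subgroup.closure (T : Set S) = H) →
      ∀ H : Subgroup Ω, H ≤ S → ∃ T : Finset Ω, T.card ≤ 2 ∧ Subgroup.closure (T : Set Ω) = H := by
    intro hgen H hH
    obtain ⟨T, hT, hT'⟩ := hgen (H.subgroupOf S)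
    refine ⟨T.image Subtype.val, Finset.card_image_le.trans hT, ?_⟩
    rw [Finset.coe_image, show (Subtype.val : S → Ω) = S.subtype from rfl, ← MonoidHom.map_closure, hT',
      Subgroup.subgroupOf_map_subtype, inf_eq_left.2 hH]
  rcases (show n = 3 ∨ n = 4 ∨ 5 ≤ n by omega) with rfl | rfl | h5
  · left
    obtain ⟨hEc, hEe⟩ : Nat.card E = 3 ^ 2 ∧ ∀ x ∈ E, x ^ 3 = 1 := by
      rcases hpearl' with ⟨h, h'⟩ | ⟨h, -⟩
      · exact ⟨h, fun x hx => (h' x hx).1⟩
      · exact absurd (Subgroup.eq_of_le_of_card_ge hlt.le (by rw [h, hn])) hlt.ne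
    have hcen : Subgroup.center S = CfsgLib.Coprime.MaxClassUniform.LC S 1 := hMC.center_eq
    have hc : ∀ x y : S, ⁅x, y⁆ ∈ Subgroup.center S := fun x y => by
      rw [hcen]
      exact CfsgLib.Coprime.MaxClassUniform.comm_LC_left (i := 0) (show x ∈ CfsgLib.Coprime.MaxClassUniform.LC S 0 from Subgroup.mem_top x) y
    have hpow : ∀ x : S, x ^ 3 ∈ Subgroup.center S := fun x => by
      rw [hcen]; exact hMC.pow_mem_LC_one x
    have hZne : Subgroup.center S ≠ ⊤ := fun e => by
      have := hMC.card_center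
      rw [e, Subgroup.card_top, hn] at this
      norm_num at this
    have hex : ∀ x ∈ S, x ^ 3 = 1 := by
      refine CfsgLib.Invol.PearlExponent.cube_eq_one hS hF hE hEc hEe hn fun x hx y hy g hg => ?_
      exact congrArg Subtype.val (Subgroup.mem_center_iff.1 (hc ⟨x, hx⟩ ⟨y, hy⟩) ⟨g, hg⟩)
    refine ⟨CfsgLib.Coprime.isExtraspecial_of_central hS _ hMC.card_center rfl hc hpow hZne,
      hn.trans (by norm_num), ?_⟩
    have hdvd : Monoid.exponent S ∣ 3 := Monoid.exponent_dvd_of_forall_pow_eq_one fun x =>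
      Subtype.ext (hex x x.2)
    refine ((Nat.dvd_prime (by norm_num)).1 hdvd).resolve_left fun e => ?_
    have hsub := Monoid.exp_eq_one_iff.1 e
    have h1 := Nat.card_of_subsingleton (1 : S)
    rw [hn] at h1
    norm_num at h1
  · rcases CfsgLib.Invol.MaxClassRank.rank_or_wreath hMC with h | h
    · exact Or.inr (Or.inl ⟨by rw [hn]; norm_num, hmap h⟩)
    · exact Or.inr (Or.inr h)
  · refine Or.inr (Or.inl ⟨?_, hmap fun H => CfsgLib.Invol.MaxClassRank.two_gen_three hMC h5 H⟩)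
    rw [hn, show 81 = 3 ^ 4 by norm_num]
    exact Nat.pow_le_pow_right (by norm_num) (by omega)

end Cfsg.Agent.S5239
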