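import Cfsg.Statements.S5243
import Cfsg.Agent.Lib.Comp.CharacterSubsystem

set_option autoImplicit false
open Cfsg CfsgLib.Fusion CfsgLib.Comp.Fus

namespace Cfsg.Agent.S5243

/-- Let F be a saturated fusion system over a finite p-group S, E a normal subsystem of F over T ≤ S, and χ a surjective homomorphism from Aut_F(T) onto a nontrivial finite group Δ of order prime to p whose kernel contains Aut_E(T). Then there is a proper normal subsystem F₀ of F over S containing E such that Aut_{F₀}(S) consists of those α ∈ Aut_F(S) whose restriction to T is an element of Aut_F(T) in the kernel of χ; moreover every p'-residual subsystem O^{p'}(F) of F is contained in F₀. -/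
theorem result {Ω : Type*} [Group Ω] {S : Subgroup Ω} [Finite S] (p : ℕ) [Fact p.Prime] (hS : IsPGroup p S) (F : Cfsg.FusionSystem S) (hF : F.IsSaturated p) {T : Subgroup Ω} (hTS : T ≤ S) (E : Cfsg.FusionSystem T) (hE : E.IsNormalIn F p) {Δ : Type*} [Group Δ] [Finite Δ] [Nontrivial Δ] (hΔ : (Nat.card Δ).Coprime p) (χ : ↥(F.autGroup T) →* Δ) (hχ : Function.Surjective χ) (hker : (E.autGroup T).subgroupOf (F.autGroup T) ≤ χ.ker) : ∃ F₀ : Cfsg.FusionSystem S, F₀.IsNormalIn F p ∧ ¬ (∀ P : Subgroup Ω, F₀.Hom P = F.Hom P) ∧ E.IsSubsystemOf F₀ ∧ (∀ α : MulAut ↥S, α ∈ F₀.autGroup S ↔ α ∈ F.autGroup S ∧ ∃ β : ↥(F.autGroup T), χ β = 1 ∧ ∀ t : ↥T, (((β : MulAut ↥T) t : ↥T) : Ω) = ((α ⟨(t : Ω), hTS t.2⟩ : ↥S) : Ω)) ∧ ∀ R : Cfsg.FusionSystem S, F.IsPPrimeResidual p R → R.IsSubsystemOf F₀ := by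
  have hw := hE.1
  obtain ⟨hEsat, -, hinv⟩ := id hw
  have hsc := hinv.2.1
  haveI : Finite T := finite_of_le hTS
  have hTp := hS.to_le hTS
  obtain ⟨θ, hθ⟩ := exists_theta hS hw hker hΔ
  set F₀ := indexSys hS hF (charAut hsc χ) (charAut_le hsc)
  have hL : linkAut F p ≤ charAut hsc χ := linkAut_le_charAut hS hw hΔ hθ
  refine ⟨F₀, isNormalIn_indexSys hS hw hL, fun hall => ?_, ?_, fun α => ⟨fun hα => ?_, ?_⟩,
    fun R hR => ?_⟩
  · obtain ⟨d, hd⟩ := exists_ne (1 : Δ)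
    obtain ⟨a, rfl⟩ := hχ d
    obtain ⟨α, -, -, -, hα⟩ := exists_lift_value hS hw hΔ hθ a
    refine hd ?_
    rw [← hα]
    refine (mem_charAut hsc α.2).1 (autGroup_indexSys_top hS hw hΔ hθ ?_)
    refine (autGroup_mem_iff le_rfl).2 ?_
    rw [hall]
    exact (autGroup_mem_iff le_rfl).1 α.2
  · refine isSubsystemOf_iff.2 fun P f hf => ?_
    obtain ⟨d, hd, g, hg, hfx⟩ := exists_frattini hTp hEsat hf
    have hgen : genSys E p ≤ meetSys E F₀ hTS := genSys_le_of fun Q hQ => by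
      rw [Subgroup.map_le_iff_le_comap]
      refine (Subgroup.closure_le _).2 ?_
      rintro β ⟨k, hk⟩
      have hβF : (β : MulAut Q) ∈ F.autGroup Q := (autGroup_mem_iff (hQ.1.trans hTS)).2
        (hinv.1 Q ((autGroup_mem_iff hQ.1).1 β.2))
      have hβg : (β : MulAut Q) ∈ (genSys F p).autGroup Q :=
        pGenAut_le_genSys hS hF (hQ.1.trans hTS) ⟨⟨β, hβF⟩, Subgroup.subset_closure
          ⟨k, by rw [Subgroup.orderOf_mk, Subgroup.orderOf_coe, hk]⟩, rfl⟩
      exact (autGroup_mem_iff hQ.1).2 ⟨(autGroup_mem_iff hQ.1).1 β.2,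
        genSys_le_indexSys hS hF _ _ Q ((autGroup_mem_iff (hQ.1.trans hTS)).1 hβg)⟩
    obtain ⟨φ, hφ, hφx⟩ := le_iff_isMap.1 hgen P g hg
    have hg₀ : IsMap F₀ P g := ⟨φ, hφ.2, hφx⟩
    have hdF : d ∈ F.autGroup T :=
      (autGroup_mem_iff hTS).2 (hinv.1 T ((autGroup_mem_iff le_rfl).1 hd))
    obtain ⟨α, g', hg', hdx, hα⟩ := exists_lift_value hS hw hΔ hθ ⟨d, hdF⟩
    have hαK : (α : MulAut S) ∈ charAut hsc χ := by
      refine (mem_charAut hsc α.2).2 ?_
      rw [hα]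
      exact hker hd
    have hd₀ : IsMap F₀ T (autFun d) := (isMap_indexSys_iff hS hF _ _).2
      ⟨isMap_autFun hTS hdF, α, hαK, g', hg'.mono le_sup_left, hdx⟩
    exact (hg₀.comp hd₀ fun x hx => hg.mem hx).congr fun x hx => (hfx x hx).symm
  · have h := autGroup_indexSys_top hS hw hΔ hθ hα
    have hαF := charAut_le hsc h
    exact ⟨hαF, resT hsc ⟨α, hαF⟩, (mem_charAut hsc hαF).1 h, fun t => by
      rw [coe_resT, autFun_apply _ (hTS t.2)]⟩
  · rintro ⟨hα, β, hβ, hβx⟩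
    refine le_autGroup_indexSys hS hF _ _ ((mem_charAut hsc hα).2 ?_)
    rw [show resT hsc ⟨α, hα⟩ = β from Subtype.ext (MulEquiv.ext fun t => Subtype.ext (by
      rw [coe_resT, hβx, autFun_apply _ (hTS t.2)]))]
    exact hβ
  · exact hR.2.2 F₀ (isSaturated_indexSys hS hF _ _ hL) (hasPrimeToPIndex_indexSys hS hF _ _)

end Cfsg.Agent.S5243
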