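import Cfsg.Statements.S5245
import Cfsg.Agent.Lib.Comp.AutSystem
import Cfsg.Agent.Lib.Comp.PrimeResidualLeast
-- import your own Cfsg.Agent.* helpers here

set_option autoImplicit false
open Cfsg

namespace Cfsg.Agent.S5245

open Cfsg Cfsg.FusionSystem Subgroup CfsgLib.Fusion CfsgLib.Comp.Fus

set_option linter.style.haveILetI false

/-- Let F be an extremely sparse fusion system over a finite p-group S (saturated, not the inner system, and every saturated fusion system over any subgroup T of S contained in F is F itself or the inner system of T). Then S is normal in F, the focal and hyperfocal subgroups of F are both S, and Aut_F(S) is generated by the inner automorphisms of S together with a single automorphism of prime order q ≠ p (F is the fusion system of the semidirect product of S by a cyclic group of prime order). -/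
theorem result {Ω : Type*} [Group Ω] {S : Subgroup Ω} [Finite S] (p : ℕ) [Fact p.Prime] (hS : IsPGroup p S) (F : Cfsg.FusionSystem S) (hF : F.IsSaturated p) (hxs : ¬ (∀ P : Subgroup Ω, F.Hom P = (Cfsg.innerFusionSystem S).Hom P) ∧ ∀ (T : Subgroup Ω) (E : Cfsg.FusionSystem T), E.IsSaturated p → E.IsSubsystemOf F → (T = S ∧ ∀ P : Subgroup Ω, E.Hom P = F.Hom P) ∨ (∀ P : Subgroup Ω, E.Hom P = (Cfsg.innerFusionSystem T).Hom P)) : F.IsNormal S ∧ F.focalSubgroup = S ∧ F.hyperfocalSubgroup p = S ∧ ∃ (q : ℕ) (β : MulAut ↥S), q.Prime ∧ q ≠ p ∧ β ∈ F.autGroup S ∧ orderOf β = q ∧ (F.autGroup S : Subgroup (MulAut ↥S)) = Cfsg.Inn ↥S ⊔ Subgroup.zpowers β := by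
  obtain ⟨hne, hsub⟩ := hxs
  have hp : p.Prime := Fact.out
  -- on a proper subgroup every automorphism group of the system is a `p`-group
  have hproper : ∀ T : Subgroup Ω, T ≤ S → T ≠ S → ∀ β ∈ F.autGroup T,
      (orderOf β).Coprime p → β = 1 := by
    intro T hT hTne β hβ hco
    haveI := finite_of_le hT
    obtain ⟨E, hE, hEF, hβE, -⟩ := exists_autSystem hS hT hβ hco
    rcases hsub T E hE hEF with ⟨h, -⟩ | h
    · exact absurd h hTne
    · have h1 : T.subtype.comp β.toMonoidHom ∈ (innerFusionSystem T).Hom T :=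
        (h T) ▸ (autGroup_mem_iff le_rfl).1 hβE
      obtain ⟨-, t, ht, hx⟩ := h1
      have hb : β = MulAut.conj (⟨t, ht⟩ : T) := MulEquiv.ext fun x => Subtype.ext (hx x)
      obtain ⟨k, hk⟩ := isPGroup_of_le hS hT ⟨t, ht⟩
      have hd : orderOf β ∣ p ^ k := orderOf_dvd_of_pow_eq_one (by rw [hb, ← map_pow, hk, map_one])
      exact orderOf_eq_one_iff.1 (Nat.eq_one_of_dvd_coprimes (Nat.Coprime.pow_right k hco)
        dvd_rfl hd)
  have hpg : ∀ T : Subgroup Ω, T ≤ S → T ≠ S → IsPGroup p (F.autGroup T) := by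
    intro T hT hTne
    haveI := finite_of_le hT
    haveI : Finite (MulAut T) := Finite.of_injective _ MulEquiv.toEquiv_injective
    refine IsPGroup.iff_card.2 ⟨(Nat.card (F.autGroup T)).factorization p, ?_⟩
    have hpp : IsPGroup p (F.autGroup T) := by
      intro α
      obtain ⟨k, m, hm, hkm⟩ := Nat.exists_eq_pow_mul_and_not_dvd (orderOf_pos (α : MulAut T)).ne'
        p hp.ne_one
      refine ⟨k, Subtype.ext ?_⟩
      have ho : orderOf ((α : MulAut T) ^ p ^ k) = m := by
        rw [orderOf_pow' _ (pow_ne_zero _ hp.ne_zero), hkm, Nat.gcd_mul_right_left,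
          Nat.mul_div_cancel_left _ (pow_pos hp.pos k)]
      have := hproper T hT hTne _ (pow_mem α.2 (p ^ k))
        (by rw [ho]; exact (hp.coprime_iff_not_dvd.2 hm).symm)
      simpa using this
    obtain ⟨n, hn⟩ := IsPGroup.iff_card.1 hpp
    rw [hn, hp.factorization_pow, Finsupp.single_eq_same]
  haveI : Finite (MulAut S) := Finite.of_injective _ MulEquiv.toEquiv_injective
  have hnot : ¬ IsPGroup p (F.autGroup S) := fun h => hne fun P => by
    rw [eq_inner_of_pGroup hS hF fun P hP => ?_]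
    by_cases hPS : P = S
    · exact hPS ▸ h
    · exact hpg P (hP.elim (fun e => e.le) fun e => e.1.1) hPS
  obtain ⟨q, hq, hqp, hqdvd⟩ : ∃ q : ℕ, q.Prime ∧ q ≠ p ∧ q ∣ Nat.card (F.autGroup S) := by
    by_contra hc
    push Not at hc
    refine hnot (IsPGroup.iff_card.2 ⟨(Nat.card (F.autGroup S)).primeFactorsList.length, ?_⟩)
    exact Nat.eq_prime_pow_of_unique_prime_dvd Nat.card_pos.ne' fun {d} hd hdd =>
      by_contra fun hne' => hc d hd hne' hdd
  haveI : Fact q.Prime := ⟨hq⟩
  obtain ⟨β', hβ'⟩ := exists_prime_orderOf_dvd_card' q hqdvd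
  obtain ⟨β, hβ, rfl⟩ : ∃ (β : MulAut S) (h : β ∈ F.autGroup S), β' = ⟨β, h⟩ :=
    ⟨β'.1, β'.2, rfl⟩
  have hβq : orderOf β = q := by rw [← hβ', Subgroup.orderOf_mk]
  have hco : (orderOf β).Coprime p := by
    rw [hβq]; exact (Nat.coprime_primes hq hp).2 hqp
  obtain ⟨E, hE, hEF, hβE, hform⟩ := exists_autSystem hS le_rfl hβ hco
  have hEeq : ∀ P, E.Hom P = F.Hom P := by
    rcases hsub S E hE hEF with ⟨-, h⟩ | h
    · exact h
    · exfalso
      have h1 : S.subtype.comp β.toMonoidHom ∈ (innerFusionSystem S).Hom S :=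
        (h S) ▸ (autGroup_mem_iff le_rfl).1 hβE
      obtain ⟨-, t, ht, hx⟩ := h1
      have hb : β = MulAut.conj (⟨t, ht⟩ : S) := MulEquiv.ext fun x => Subtype.ext (hx x)
      obtain ⟨k, hk⟩ := hS ⟨t, ht⟩
      have hd : orderOf β ∣ p ^ k := orderOf_dvd_of_pow_eq_one (by rw [hb, ← map_pow, hk, map_one])
      exact hq.ne_one (hβq ▸ Nat.eq_one_of_dvd_coprimes (Nat.Coprime.pow_right k hco) dvd_rfl hd)
  have hinnF : Inn ↥S ≤ F.autGroup S := by
    rintro _ ⟨s, rfl⟩
    exact (autGroup_iff_isMap (f := fun y => (s : Ω) * y * (s : Ω)⁻¹) le_rfl fun y => rfl).2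
      (isMap_conj F le_rfl s.2)
  have hnormal : F.IsNormal S := by
    refine ⟨le_rfl, fun P φ hφ => ?_⟩
    obtain ⟨γ, hγ, hx⟩ := hform P φ ((hEeq P).symm ▸ hφ)
    have hP : P ≤ S := (F.le_of_mem hφ).1
    have hγF : γ ∈ F.autGroup S := (sup_le hinnF (zpowers_le.2 hβ)) hγ
    have hm : IsMap F (P ⊔ S) (toFun (S.subtype.comp γ.toMonoidHom)) := by
      rw [sup_eq_right.2 hP]
      exact isMap_of_autGroup le_rfl hγF
    refine ⟨hm.toHom, hm.toHom_mem, fun x => ?_, ?_⟩
    · rw [IsMap.toHom_apply]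
      exact (toFun_aut_apply γ (hP x.2)).trans (hx x (hP x.2)).symm
    · ext y
      constructor
      · rintro ⟨x, hxS, rfl⟩
        rw [IsMap.toHom_apply, toFun_aut_apply γ (mem_subgroupOf.1 hxS)]
        exact (γ _).2
      · intro hy
        refine ⟨⟨γ.symm ⟨y, hy⟩, mem_sup_right (γ.symm ⟨y, hy⟩).2⟩, (γ.symm ⟨y, hy⟩).2, ?_⟩
        rw [IsMap.toHom_apply, toFun_aut_apply γ (γ.symm ⟨y, hy⟩).2]
        exact congrArg Subtype.val (γ.apply_symm_apply ⟨y, hy⟩)
  -- the subgroup `[S, β]`
  let K : Subgroup Ω := closure {y : Ω | ∃ x : S, y = (x : Ω)⁻¹ * (β x : S)}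
  have hKle : K ≤ S := by
    rw [closure_le]
    rintro _ ⟨x, rfl⟩
    exact mul_mem (inv_mem x.2) (β x).2
  have hK : K = S := by
    by_contra hKne
    have hgen : ∀ x : S, (x : Ω)⁻¹ * (β x : S) ∈ K := fun x => subset_closure ⟨x, rfl⟩
    have hb := isMap_of_autGroup le_rfl hβ
    have hb' : ∀ x : S, toFun (S.subtype.comp β.toMonoidHom) (x : Ω) = ((β x : S) : Ω) :=
      fun x => toFun_aut_apply β x.2
    set b := toFun (S.subtype.comp β.toMonoidHom) with hbdef
    have hKimg : img K b = K := by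
      haveI := finite_of_le hKle
      refine eq_of_le_of_card_le (fun y hy => ?_) ((hb.mono hKle).card_img).ge
      obtain ⟨x, hx, rfl⟩ := (hb.mono hKle).mem_img.1 hy
      have := hgen ⟨x, hKle hx⟩
      rw [← hb'] at this
      simpa using mul_mem hx this
    haveI := finite_of_le hKle
    have hbK := (hb.mono hKle)
    set a : MulAut K := hbK.toAut hKimg with ha
    have hax : ∀ (x : K), ((a x : K) : Ω) = b x := fun x => IsMap.toAut_apply _ _ _
    have haord : a ^ q = 1 := by
      have hiter : ∀ (n : ℕ) (x : K),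
          (((a ^ n) x : K) : Ω) = (((β ^ n) ⟨(x : Ω), hKle x.2⟩ : S) : Ω) := by
        intro n
        induction n with
        | zero => intro x; rfl
        | succ n ih =>
          intro x
          rw [pow_succ', pow_succ', MulAut.mul_apply, MulAut.mul_apply, hax, ih]
          exact hb' _
      refine MulEquiv.ext fun x => Subtype.ext ?_
      rw [hiter, ← hβq, pow_orderOf_eq_one]
      rfl
    have ha1 : a = 1 := hproper K hKle hKne a (hbK.toAut_mem hKimg) (by
      exact Nat.Coprime.coprime_dvd_left (orderOf_dvd_of_pow_eq_one haord) (hβq ▸ hco))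
    -- `β` fixes `[S, β]` pointwise, hence is trivial
    refine hq.ne_one (hβq ▸ orderOf_eq_one_iff.2 ?_)
    refine MulEquiv.ext fun x => ?_
    set t : S := x⁻¹ * β x with ht
    have htfix : β t = t := by
      refine Subtype.ext ?_
      have h1 := hax ⟨(t : Ω), hgen x⟩
      rw [ha1] at h1
      rw [← hb']
      exact h1.symm
    have hpow : ∀ n : ℕ, (β ^ n) x = x * t ^ n := by
      intro n
      induction n with
      | zero => simp
      | succ n ih =>
        rw [pow_succ', MulAut.mul_apply, ih, map_mul, map_pow, htfix, pow_succ' t, ← mul_assoc,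
          ht, mul_inv_cancel_left]
    have htq : t ^ q = 1 := by
      have h1 := hpow q
      rw [← hβq, pow_orderOf_eq_one, MulAut.one_apply] at h1
      rw [← hβq]
      exact mul_eq_left.1 h1.symm
    obtain ⟨k, hk⟩ := hS t
    have ht1 : t = 1 := by
      refine orderOf_eq_one_iff.1 (Nat.eq_one_of_dvd_coprimes
        (Nat.Coprime.pow_right k ((Nat.coprime_primes hq hp).2 hqp))
        (orderOf_dvd_of_pow_eq_one htq) (orderOf_dvd_of_pow_eq_one hk))
    exact (inv_mul_eq_one.1 (ht ▸ ht1)).symm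
  have hres : (⟨β, hβ⟩ : F.autGroup S) ∈ pResidual p (F.autGroup S) := by
    refine subset_closure ?_
    show Nat.Coprime _ p
    rw [Subgroup.orderOf_mk]
    exact hco
  refine ⟨hnormal, le_antisymm ?_ ?_, le_antisymm ?_ ?_, q, β, hq, hqp, hβ, hβq, ?_⟩
  · refine (closure_le S).2 ?_
    rintro _ ⟨P, φ, x, hφ, rfl⟩
    exact mul_mem (inv_mem ((F.le_of_mem hφ).1 x.2)) ((F.le_of_mem hφ).2 x)
  · refine hK.ge.trans ((closure_le _).2 ?_)
    rintro _ ⟨x, rfl⟩
    exact subset_closure ⟨S, S.subtype.comp β.toMonoidHom, x, (autGroup_mem_iff le_rfl).1 hβ, rfl⟩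
  · refine (closure_le S).2 ?_
    rintro _ ⟨P, α, x, hP, -, rfl⟩
    exact mul_mem (inv_mem (hP x.2)) (hP ((α : MulAut P) x).2)
  · refine hK.ge.trans ((closure_le _).2 ?_)
    rintro _ ⟨x, rfl⟩
    exact subset_closure ⟨S, ⟨β, hβ⟩, x, le_rfl, hres, rfl⟩
  · refine le_antisymm (fun α hα => ?_) (sup_le hinnF (zpowers_le.2 hβ))
    obtain ⟨γ, hγ, hx⟩ := hform S _ ((hEeq S).symm ▸ (autGroup_mem_iff le_rfl).1 hα)
    rwa [show α = γ from MulEquiv.ext fun x => Subtype.ext (hx x x.2)]

end Cfsg.Agent.S5245
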