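import Cfsg.Statements.S5253
import Cfsg.Agent.Lib.Fusion.FunctorGroup

set_option autoImplicit false
universe u
open Cfsg

namespace Cfsg.Agent.S5253

/-- Let p be a prime and W a positive characteristic p-functor with Z(Q) ≤ W(Q): W assigns to every finite p-group Q (in a fixed universe) a subgroup W(Q), nontrivial when Q is, carried to W(R) by every isomorphism Q ≅ R, and containing the centre of Q. Suppose that for every finite group G with Sylow p-subgroup P in which W(P) is not normal there is g ∈ P outside O_p(G) with [Z(O_p(G)), g, g] = 1. Then for every saturated fusion system F over a finite p-group S and every normalizer fusion system N of W(S) in F, every p-th power of an element of Z(S) that lies in the centre of N lies in the centre of F. -/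
theorem result {p : ℕ} [Fact p.Prime] (W : ∀ (Q : Type u) [Group Q], Subgroup Q) (hW1 : ∀ (Q : Type u) [Group Q] [Finite Q], IsPGroup p Q → Nontrivial Q → W Q ≠ ⊥) (hW2 : ∀ (Q R : Type u) [Group Q] [Group R] [Finite Q], IsPGroup p Q → ∀ φ : Q ≃* R, (W Q).map φ.toMonoidHom = W R) (hWZ : ∀ (Q : Type u) [Group Q] [Finite Q], IsPGroup p Q → Subgroup.center Q ≤ W Q) (hq : ∀ (G : Type u) [Group G] [Finite G] (P : Sylow p G), ¬ (((W ↥(P : Subgroup G)).map (P : Subgroup G).subtype : Subgroup G)).Normal → ∃ g : G, g ∈ (P : Subgroup G) ∧ g ∉ Cfsg.pCore p G ∧ ⁅⁅Subgroup.center ↥(Cfsg.pCore p G) |>.map (Cfsg.pCore p G).subtype, Subgroup.zpowers g⁆, Subgroup.zpowers g⁆ = ⊥) {Ω : Type u} [Group Ω] {S : Subgroup Ω} [Finite S] (hS : IsPGroup p S) (F : Cfsg.FusionSystem S) (hF : F.IsSaturated p) (N : Cfsg.FusionSystem (Cfsg.FusionSystem.normalizerIn S ((W ↥S).map S.subtype))) (hN : F.IsNormalizerSystem ((W ↥S).map S.subtype) N) : Subgroup.closure ((fun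 z => z ^ p) '' ((S ⊓ Subgroup.centralizer (S : Set Ω) : Subgroup Ω) : Set Ω)) ⊓ N.center ≤ F.center := by
  have hNS : Cfsg.FusionSystem.normalizerIn S (CfsgLib.Fusion.funcOn W S) = S :=
    CfsgLib.Fusion.normalizerIn_funcOn_top W hW2 hS
  haveI : Finite ↥(Cfsg.FusionSystem.normalizerIn S (CfsgLib.Fusion.funcOn W S)) :=
    CfsgLib.Fusion.finite_normalizerIn
  rintro z ⟨hz1, hz2⟩
  have hpow : ∃ w ∈ S ⊓ Subgroup.centralizer (S : Set Ω), w ^ p = z := by
    refine Subgroup.closure_induction (fun x hx => ?_) ⟨1, one_mem _, one_pow p⟩ ?_ ?_ hz1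
    · obtain ⟨w, hw, rfl⟩ := hx
      exact ⟨w, hw, rfl⟩
    · rintro _ _ _ _ ⟨a, ha, rfl⟩ ⟨b, hb, rfl⟩
      have hcomm : Commute a b := hb.2 a ha.1
      exact ⟨a * b, mul_mem ha hb, hcomm.mul_pow p⟩
    · rintro _ _ ⟨a, ha, rfl⟩
      exact ⟨a⁻¹, inv_mem ha, inv_pow a p⟩
  obtain ⟨w, hw, rfl⟩ := hpow
  have hwC : ∀ a ∈ S, a * w * a⁻¹ = w := fun a ha => by
    rw [hw.2 a ha, mul_inv_cancel_right]
  refine CfsgLib.Fusion.mem_center_of_functor W hW2 hWZ hS hF (S.pow_mem hw.1 p)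
    (fun a ha => by rw [← conj_pow, hwC a ha]) (fun P f hf hWP hWi hzP => ?_)
    fun U hUc G _ _ Ps ι hι hPs hUnorm hUcent hzT hfixW g => ?_
  · refine CfsgLib.Fusion.IsCentral.apply_eq CfsgLib.Fusion.center_isCentral
      ((CfsgLib.Fusion.isMap_normalizerSystem_iff hN).2 ⟨hf.le.trans hNS.ge,
        fun x hx => hNS.ge (hf.mem hx), f, ?_, fun _ _ => rfl, hWi⟩) hz2 hzP
    rwa [sup_eq_left.2 hWP]
  · haveI : Finite ↥(Cfsg.FusionSystem.normalizerIn S U) := CfsgLib.Fusion.finite_normalizerIn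
    have hUS : U ≤ S := hUc.1
    have hwU : w ∈ U := hUc.2 U (CfsgLib.Fusion.isConj_refl hUS)
      ⟨hw.1, fun y hy => hw.2 y (hUS hy)⟩
    have hUT : U ≤ Cfsg.FusionSystem.normalizerIn S U := CfsgLib.Fusion.le_normalizerIn hUS
    have hle : (U.subgroupOf (Cfsg.FusionSystem.normalizerIn S U)).map ι ≤ Cfsg.pCore p G :=
      le_sSup ⟨hUnorm, (((hS.to_le inf_le_left : IsPGroup p
        ↥(Cfsg.FusionSystem.normalizerIn S U))).to_subgroup _).map ι⟩
    have hc : Subgroup.centralizer ((Cfsg.pCore p G : Subgroup G) : Set G) ≤ Cfsg.pCore p G :=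
      ((Subgroup.centralizer_le hle).trans hUcent).trans hle
    have hz : ι ⟨w ^ p, hzT⟩ = ι ⟨w, hUT hwU⟩ ^ p := by rw [← map_pow]; rfl
    rw [hz] at hfixW ⊢
    refine CfsgLib.Fusion.central_pow_of_functor W hW2 (fun G _ _ P _ h => hq G P h) _ G Ps rfl hc
      _ (hle ⟨⟨w, hUT hwU⟩, hwU, rfl⟩) (fun x hx => ?_) hfixW g
    rw [hPs] at hx
    obtain ⟨s, rfl⟩ := hx
    rw [← map_inv, ← map_mul, ← map_mul]
    exact congrArg ι (Subtype.ext (hwC s s.2.1))

end Cfsg.Agent.S5253
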