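import Cfsg.Statements.S5264
import Cfsg.Agent.Lib.Fusion.OrderPFive.Reduce
import Cfsg.Agent.Lib.Fusion.OrderPFive.Transfer
import Cfsg.Agent.Lib.Fusion.OrderPFive.Pearl
import Cfsg.Agent.Lib.Fusion.OrderPFive.Cube

set_option autoImplicit false
open Cfsg

namespace Cfsg.Agent.S5264

/-- Let p be an odd prime other than 7, S a finite p-group of order p^5, and F a saturated fusion system over S with no nontrivial normal subgroup and with hyperfocal subgroup equal to S (so F is its own p-residual subsystem). Then S has an abelian subgroup of index p. -/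
theorem result {Ω : Type*} [Group Ω] {S : Subgroup Ω} [Finite S] (p : ℕ) [Fact p.Prime] (hS : IsPGroup p ↥S) (F : Cfsg.FusionSystem S) (hF : F.IsSaturated p) (hp : p ≠ 2) (hp7 : p ≠ 7) (hcard : Nat.card S = p ^ 5) (hcore : F.core = ⊥) (hhyp : F.hyperfocalSubgroup p = S) : ∃ A : Subgroup Ω, A ≤ S ∧ IsMulCommutative ↥A ∧ (A.subgroupOf S).index = p := by
  by_contra hno
  have h : CfsgLib.Fusion.OrderPFive.Hyp F p := ⟨hS, hF, hp, hp7, hcard, fun A hA hab => hno
    ⟨A.map S.subtype, Subgroup.map_subtype_le A, by haveI := hab; infer_instance, by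
      rw [Subgroup.subgroupOf, Subgroup.comap_map_eq_self_of_injective S.subtype_injective, hA]⟩⟩
  obtain ⟨E, hE, hc⟩ := CfsgLib.Fusion.OrderPFive.exists_abelian_essential h hcore
  rcases hc with hc | ⟨hel, hc⟩
  · obtain ⟨rfl, hfix, hcls⟩ := CfsgLib.Fusion.OrderPFive.pearl_structure h hE hc
    exact CfsgLib.Fusion.OrderPFive.false_of_three h hfix (Or.inr hcls) hhyp
  · obtain ⟨rfl, hfix, hZ, hcls⟩ := CfsgLib.Fusion.OrderPFive.cube_structure h hE hel hc
    exact CfsgLib.Fusion.OrderPFive.false_of_three h hfix (Or.inl ⟨hZ, hcls⟩) hhyp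

end Cfsg.Agent.S5264
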