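import Cfsg.Statements.S5265
import Cfsg.Agent.Lib.Invol.CenterIndexSqElim

set_option autoImplicit false
open Cfsg

namespace Cfsg.Agent.S5265

/-- Let p be a prime, S a nontrivial finite p-group whose centre has index at most p², and F a saturated fusion system over S with no nontrivial normal subgroup and with hyperfocal subgroup equal to S. Then S is extraspecial of order p³; for odd p it has exponent p, and for p = 2 it is dihedral of order 8. -/
theorem result {Ω : Type*} [Group Ω] {S : Subgroup Ω} [Finite S] (p : ℕ) [Fact p.Prime] (hS : IsPGroup p ↥S) (F : Cfsg.FusionSystem S) (hF : F.IsSaturated p) (hS1 : S ≠ ⊥) (hcore : F.core = ⊥) (hhyp : F.hyperfocalSubgroup p = S) (hZ : (Subgroup.center ↥S).index ≤ p ^ 2) : Cfsg.IsExtraspecial p ↥S ∧ Nat.card S = p ^ 3 ∧ (p ≠ 2 → Monoid.exponent ↥S = p) ∧ (p = 2 → Nonempty (↥S ≃* DihedralGroup 4)) := by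
  have hp := (Fact.out : p.Prime)
  have hna : ¬ IsMulCommutative S := by
    intro hab
    have hN : F.IsNormal S := by
      refine CfsgLib.Fusion.isNormal_of_alperin hS hF le_rfl fun P hP => ?_
      have hSP : S ≤ P := by
        rcases hP with rfl | hP
        · exact le_rfl
        · exact fun s hs => hP.1.2 P (CfsgLib.Fusion.isConj_refl hP.1.1)
            ⟨hs, fun y hy => congrArg Subtype.val (hab.is_comm.comm ⟨y, hP.1.1 hy⟩ ⟨s, hs⟩)⟩
      exact ⟨hSP, fun α _ z _ => (hP.elim (fun e => e.le) fun e => e.1.1) (α z).2⟩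
    exact hS1 (eq_bot_iff.2 (hcore ▸ le_sSup (show S ∈ {Q | F.IsNormal Q} from hN)))
  have hidx : (Subgroup.center S).index = p ^ 2 := by
    obtain ⟨k, hk⟩ := IsPGroup.iff_card.1 (hS.to_quotient (Subgroup.center S))
    rw [← Subgroup.index_eq_card] at hk
    rw [hk] at hZ ⊢
    have h2 := (Nat.pow_le_pow_iff_right hp.one_lt).1 hZ
    have h1 : ¬ k ≤ 1 := fun hle => hna (CfsgLib.Coprime.comm_of_index_center_dvd_prime (S := S) hp
      (hk ▸ (pow_dvd_pow p hle).trans (pow_one p).dvd))
    rw [show k = 2 by omega]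
  have h : CfsgLib.Invol.IndexP.SmallCentre p S := ⟨hS, hna, by
    rw [← (Subgroup.center S).card_mul_index, hidx, CfsgLib.Invol.IndexP.card_Zc]
    ring⟩
  refine h.conclude hF hcore ?_
  by_cases h2 : p = 2
  · subst h2
    exact h.card_Zc_two hF hcore hhyp
  · have hess := fun P (hP : F.IsEssential p P) => Or.inl (b := ∀ α : MulAut P, ∀ z : P,
      (z : Ω) ∈ CfsgLib.Invol.IndexP.Zc S → (α z : Ω) ∈ CfsgLib.Invol.IndexP.Zc S) (h.exists_abCase hF hP)
    obtain ⟨A, P, x, c⟩ := CfsgLib.Invol.IndexP.exists_abCase hS hF hna hcore hess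
    have hle := CfsgLib.Invol.IndexP.Zc_le_Dc_of_core_free hS hF h2 hcore hess c
    have := c.card_ZD
    rwa [inf_eq_left.2 hle] at this

end Cfsg.Agent.S5265
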