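import Cfsg.Statements.S5270
import Cfsg.Agent.Lib.Invol.MaxClassSecond

set_option autoImplicit false
open Cfsg CfsgLib.Fusion

namespace Cfsg.Agent.S5270

/-- Let p ≥ 5 be a prime, S a finite p-group of maximal class of order p^n with n ≥ 4, and F a saturated fusion system over S. If some map of F defined on the second centre Z₂(S) with image Z₂(S) does not carry Z(S) into itself, then the centralizer C_S(Z₂(S)) is an F-essential subgroup. -/
theorem result {Ω : Type*} [Group Ω] {S : Subgroup Ω} [Finite S] (p : ℕ) [Fact p.Prime] (hS : IsPGroup p ↥S) (n : ℕ) (hn : Nat.card S = p ^ n) (h4 : 4 ≤ n) (hmax : Subgroup.lowerCentralSeries S (n - 2) ≠ ⊥) (F : Cfsg.FusionSystem S) (hF : F.IsSaturated p) (hp : 5 ≤ p) (φ : ↥((Subgroup.upperCentralSeries ↥S 2).map S.subtype) →* Ω) (hφ : φ ∈ F.Hom ((Subgroup.upperCentralSeries ↥S 2).map S.subtype)) (hφZ : φ.range = ((Subgroup.upperCentralSeries ↥S 2).map S.subtype)) (hmove : ∃ (z : Ω) (hz : z ∈ ((Subgroup.upperCentralSeries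 ↥S 2).map S.subtype)), z ∈ ((Subgroup.center ↥S).map S.subtype) ∧ φ ⟨z, hz⟩ ∉ ((Subgroup.center ↥S).map S.subtype)) : F.IsEssential p (S ⊓ Subgroup.centralizer (((Subgroup.upperCentralSeries ↥S 2).map S.subtype) : Set Ω)) := by
  classical
  haveI := hS.isNilpotent
  have hp' : p.Prime := Fact.out
  have hclass : Group.nilpotencyClass S = n - 1 := by
    have h1 : ¬ Group.nilpotencyClass S ≤ n - 2 := by
      rw [← Subgroup.lowerCentralSeries_eq_bot_iff_nilpotencyClass_le]
      intro h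
      refine hmax ?_
      rw [← Subgroup.top_subtype_lowerCentralSeries, h, Subgroup.map_bot]
    have h2 := CfsgLib.Transfer.nilpotencyClass_le_of_card hn
    omega
  have hMC : CfsgLib.Coprime.MaxClassUniform.IsMC p n S := ⟨by omega, hn, hclass⟩
  revert hmove hφZ hφ φ
  set Z2 : Subgroup Ω := (Subgroup.upperCentralSeries ↥S 2).map S.subtype with hZ2def
  set L : Subgroup Ω := S ⊓ Subgroup.centralizer (Z2 : Set Ω) with hLdef
  intro φ hφ hφZ hmove
  have hZ2S : Z2 ≤ S := Subgroup.map_subtype_le _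
  have hLS : L ≤ S := inf_le_left
  have hL' : L.subgroupOf S = Subgroup.centralizer (Subgroup.upperCentralSeries ↥S 2 : Set S) := by
    ext g
    rw [Subgroup.mem_subgroupOf, hLdef, Subgroup.mem_inf, Subgroup.mem_centralizer_iff,
      Subgroup.mem_centralizer_iff]
    constructor
    · intro hg u hu
      exact Subtype.ext (hg.2 u ⟨u, hu, rfl⟩)
    · rintro hg
      refine ⟨g.2, ?_⟩
      rintro _ ⟨u, hu, rfl⟩
      exact congrArg Subtype.val (hg u hu)
  have hidx : (L.subgroupOf S).index = p := by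
    rw [hL', CfsgLib.Invol.MaxClassSecond.centralizer_upper_two hMC h4]
    exact hMC.TC_index (by omega) (by omega)
  have hnormal : ∀ (N : Subgroup Ω), N ≤ S → (N.subgroupOf S).Normal →
      S ≤ Subgroup.normalizer (N : Set Ω) := by
    intro N hN hNn g hg x
    refine ⟨fun hx => ?_, fun hx => ?_⟩
    · exact Subgroup.mem_subgroupOf.1 (hNn.conj_mem ⟨x, hN hx⟩ (Subgroup.mem_subgroupOf.2 hx) ⟨g, hg⟩)
    · have h1 := Subgroup.mem_subgroupOf.1
        (hNn.conj_mem ⟨_, hN hx⟩ (Subgroup.mem_subgroupOf.2 hx) ⟨g, hg⟩⁻¹)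
      simpa [mul_assoc] using h1
  have hLn : (L.subgroupOf S).Normal := by
    rw [hL', Subgroup.normalizer_eq_top_iff.symm, eq_top_iff]
    intro g _ u
    haveI : (Subgroup.centralizer (Subgroup.upperCentralSeries ↥S 2 : Set S)).Normal :=
      Subgroup.normal_of_characteristic _
    exact ⟨fun hu => ‹Subgroup.Normal _›.conj_mem u hu g, fun hu => by
      have := ‹Subgroup.Normal _›.conj_mem _ hu g⁻¹
      simpa [mul_assoc] using this⟩
  have hZn : (Z2.subgroupOf S).Normal := by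
    rw [hZ2def, Subgroup.subgroupOf, Subgroup.comap_map_eq_self_of_injective S.subtype_injective]
    infer_instance
  have hFNof : ∀ N : Subgroup Ω, N ≤ S → (N.subgroupOf S).Normal → F.IsFullyNormalized N := by
    intro N hN hNn
    refine ⟨hN, fun Q _ => ?_⟩
    haveI := finite_normalizerIn (S := S) (P := N)
    exact Subgroup.card_le_of_le (inf_le_left.trans (le_inf le_rfl (hnormal N hN hNn)))
  have hFN := hFNof L hLS hLn
  have hlt : L < S := lt_of_le_of_ne hLS fun e => hp'.ne_one (by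
    rw [← hidx, e, Subgroup.subgroupOf_self, Subgroup.index_top])
  have hcentral : ∀ g ∈ S, (∀ s ∈ S, s * g = g * s) → g ∈ L := fun g hg hc =>
    Subgroup.mem_inf.2 ⟨hg, Subgroup.mem_centralizer_iff.2 fun u hu => hc u (hZ2S hu)⟩
  have hC : F.IsCentric L := by
    refine centric_of_fullyCentralized hS hF (fullyCentralized_of_fullyNormalized hS hF hFN) ?_
    intro g hg
    by_contra hgL
    refine hgL (hcentral g hg.1 fun s hs => ?_)
    have htop : L.subgroupOf S ⊔ Subgroup.zpowers ⟨g, hg.1⟩ = ⊤ := by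
      have h1 : (L.subgroupOf S ⊔ Subgroup.zpowers ⟨g, hg.1⟩).index ∣ p :=
        hidx ▸ Subgroup.index_dvd_of_le le_sup_left
      rcases (Nat.dvd_prime hp').1 h1 with e | e
      · exact Subgroup.index_eq_one.1 e
      · exfalso
        refine hgL (Subgroup.mem_subgroupOf.1 ((Subgroup.eq_of_le_of_card_ge le_sup_left ?_).ge
          (Subgroup.mem_sup_right (Subgroup.mem_zpowers (⟨g, hg.1⟩ : S)))))
        have e1 := (L.subgroupOf S).card_mul_index
        have e2 := (L.subgroupOf S ⊔ Subgroup.zpowers ⟨g, hg.1⟩).card_mul_index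
        rw [hidx] at e1
        rw [e] at e2
        exact (Nat.eq_of_mul_eq_mul_right hp'.pos (e2.trans e1.symm)).le
    have hle : L.subgroupOf S ⊔ Subgroup.zpowers ⟨g, hg.1⟩ ≤ Subgroup.centralizer {(⟨g, hg.1⟩ : S)} :=
      sup_le (fun x hx => Subgroup.mem_centralizer_singleton_iff.2
        (Subtype.ext (Subgroup.mem_centralizer_iff.1 hg.2 x hx))) (Subgroup.zpowers_le.2
          (Subgroup.mem_centralizer_singleton_iff.2 rfl))
    exact congrArg Subtype.val (Subgroup.mem_centralizer_singleton_iff.1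
      (hle (htop.ge (Subgroup.mem_top ⟨s, hs⟩))))
  haveI := finite_of_le hLS
  have hinnN : ((Inn L).subgroupOf (F.autGroup L)).Normal := inferInstance
  obtain ⟨W, hW, hWeq, hWext⟩ := exists_outSylow hS hF hlt hFN hC
  -- `W` has order `p`
  have hWp : Nat.card (W : Subgroup (OutGrp F L)) = p := by
    have hSN := hnormal L hLS hLn
    let θ : S →* OutGrp F L :=
      MonoidHom.mk' (fun s => QuotientGroup.mk (⟨L.normalizerMonoidHom ⟨s, hSN s.2⟩,
        autInducedBy_le_autGroup hLS (mem_autInducedBy_iff.2 ⟨s, s.2, fun x => rfl⟩)⟩ :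
          F.autGroup L)) fun a b => by
        rw [← QuotientGroup.mk_mul]
        refine congrArg _ (Subtype.ext ?_)
        exact map_mul L.normalizerMonoidHom ⟨(a : Ω), hSN a.2⟩ ⟨(b : Ω), hSN b.2⟩
    have hrange : θ.range = (W : Subgroup (OutGrp F L)) := by
      rw [hWeq]
      ext q
      constructor
      · rintro ⟨s, rfl⟩
        exact ⟨_, mem_autInducedBy_iff.2 ⟨s, s.2, fun x => rfl⟩, rfl⟩
      · rintro ⟨a, ha, rfl⟩
        obtain ⟨u, hu, hux⟩ := mem_autInducedBy_iff.1 ha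
        refine ⟨⟨u, hu⟩, ?_⟩
        show QuotientGroup.mk _ = QuotientGroup.mk a
        refine congrArg _ (Subtype.ext ?_)
        ext x
        exact (hux x).symm
    have hker : L.subgroupOf S ≤ θ.ker := by
      intro s hs
      rw [MonoidHom.mem_ker]
      refine (QuotientGroup.eq_one_iff _).2 ⟨⟨s, hs⟩, ?_⟩
      ext x
      rfl
    have h1 : Nat.card θ.range ∣ p := by
      rw [← Subgroup.index_ker, ← hidx]
      exact Subgroup.index_dvd_of_le hker
    rw [hrange] at h1
    exact ((Nat.dvd_prime hp').1 h1).resolve_left fun e => hW (Subgroup.card_eq_one.1 e)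
  refine ⟨hC, hFN, hinnN, Subgroup.normalizer ((W : Subgroup (OutGrp F L)) : Set (OutGrp F L)),
    isStronglyPEmbedded_of_containsLocals W hW ?_ fun U hU hU1 => ?_⟩
  swap
  · rw [show U = (W : Subgroup (OutGrp F L)) from Subgroup.eq_of_le_of_card_ge hU ?_]
    rw [hWp]
    obtain ⟨k, hk⟩ := (W.isPGroup'.to_le hU).exists_card_eq
    rw [hk]
    refine Nat.le_self_pow (fun e => hU1 (Subgroup.card_eq_one.1 ?_)) p
    rw [hk, e, pow_zero]
  intro htop
  -- extend `φ` to `L`
  have hφi : img Z2 (toFun φ) = Z2 := ((isMap_of_hom hφ).range_toHom).symm.trans (by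
    refine Eq.trans ?_ hφZ
    congr 1
    ext x
    exact toFun_apply φ x)
  obtain ⟨f, hf, hfx⟩ := receptive_extend_centralizer
    (receptive_of_fullyNormalized hS hF (hFNof Z2 hZ2S hZn)) (isMap_of_hom hφ) hφi
  have hf' : IsMap F L f := hf.mono le_sup_right
  have hfi : img L f = L := by
    refine eq_of_le_of_card_le (fun y hy => ?_) hf'.card_img.ge
    obtain ⟨a, ha, rfl⟩ := hf'.mem_img.1 hy
    refine Subgroup.mem_inf.2 ⟨hf'.mem ha, Subgroup.mem_centralizer_iff.2 fun w hw => ?_⟩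
    rw [← hφi, img_congr (fun x hx => (hfx x hx).symm)] at hw
    obtain ⟨v, hv, rfl⟩ := (hf.mono le_sup_left).mem_img.1 hw
    rw [← hf.map_mul (Subgroup.mem_sup_left hv) (Subgroup.mem_sup_right ha),
      ← hf.map_mul (Subgroup.mem_sup_right ha) (Subgroup.mem_sup_left hv),
      Subgroup.mem_centralizer_iff.1 ha.2 v hv]
  let α : F.autGroup L := ⟨hf'.toAut hfi, hf'.toAut_mem hfi⟩
  obtain ⟨w, hw, hw1⟩ := (Subgroup.bot_or_exists_ne_one (W : Subgroup (OutGrp F L))).resolve_left hW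
  have hαw : (α : OutGrp F L) * w * (α : OutGrp F L)⁻¹ ∈ (W : Subgroup (OutGrp F L)) :=
    ((htop.ge (Subgroup.mem_top (α : OutGrp F L))) w).1 hw
  obtain ⟨R, hR, g, hg, hgx⟩ := (hWext α).1 ⟨w, hw, hw1, hαw⟩
  have hRS : R = S := by
    have h1 : (L.subgroupOf S).index = L.relIndex S := rfl
    rw [hidx] at h1
    have h2 := Subgroup.relIndex_mul_relIndex L R S hR.le hg.le
    rw [← h1] at h2
    rcases (Nat.dvd_prime hp').1 (Dvd.intro _ h2) with e | e
    · exact absurd (le_antisymm hR.le (Subgroup.relIndex_eq_one.1 e)) hR.ne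
    · rw [e] at h2
      exact le_antisymm hg.le (Subgroup.relIndex_eq_one.1
        (Nat.eq_of_mul_eq_mul_left hp'.pos (h2.trans (mul_one p).symm)))
  subst hRS
  obtain ⟨z, hz2, hzZ, hzmove⟩ := hmove
  obtain ⟨zc, hzc, hzce⟩ := hzZ
  have hzS : z ∈ R := hZ2S hz2
  have hcomm : ∀ t ∈ R, t * z = z * t := fun t ht => by
    rw [← hzce]
    exact congrArg Subtype.val (Subgroup.mem_center_iff.1 hzc ⟨t, ht⟩)
  have hzL : z ∈ L := hcentral z hzS hcomm
  have hgz : g z = φ ⟨z, hz2⟩ := by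
    rw [← toFun_of_mem φ hz2, ← hfx z hz2]
    exact hgx ⟨z, hzL⟩
  refine hzmove ⟨⟨φ ⟨z, hz2⟩, hgz ▸ hg.mem hzS⟩, ?_, rfl⟩
  rw [SetLike.mem_coe, Subgroup.mem_center_iff]
  rintro ⟨t, ht⟩
  have ht' : t ∈ img R g := (eq_of_le_of_card_le hg.img_le hg.card_img.ge).symm ▸ ht
  obtain ⟨v, hv, rfl⟩ := hg.mem_img.1 ht'
  refine Subtype.ext ?_
  show g v * φ ⟨z, hz2⟩ = φ ⟨z, hz2⟩ * g v
  rw [← hgz, ← hg.map_mul hv hzS, ← hg.map_mul hzS hv, hcomm v hv]

end Cfsg.Agent.S5270
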