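import Cfsg.Statements.S5271
import Cfsg.Agent.Lib.Comp.WeakEmbeddedMain
-- import your own Cfsg.Agent.* helpers here

set_option autoImplicit false
open Cfsg

namespace Cfsg.Agent.S5271

open Cfsg Cfsg.FusionSystem Subgroup CfsgLib.Fusion CfsgLib.Comp.WEmb

set_option linter.style.haveILetI false
set_option linter.unusedVariables false

/-- A nilpotency criterion for fusion systems. Let F be a saturated fusion system over a finite p-group S of order at least p². Call a subgroup Q of S weakly embedded in F when there is a subgroup P of S strongly closed in F such that both the product QP and the intersection Q ∩ P are strongly closed in F. Then F is the inner fusion system of S if and only if there is a subgroup D of S with 1 < D < S such that every subgroup of S of the same order as D is weakly embedded in F and, for every fully normalized subgroup H of S of that order, the normalizer fusion system of H in F is the inner fusion system of N_S(H). -/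
theorem result {Ω : Type*} [Group Ω] {S : Subgroup Ω} [Finite S] (p : ℕ) [Fact p.Prime] (hS : IsPGroup p ↥S) (F : Cfsg.FusionSystem S) (hF : F.IsSaturated p) (hcard : p ^ 2 ≤ Nat.card S) : (∀ P : Subgroup Ω, F.Hom P = (Cfsg.innerFusionSystem S).Hom P) ↔ ∃ D : Subgroup Ω, ⊥ < D ∧ D < S ∧ (∀ Q : Subgroup Ω, Q ≤ S → Nat.card ↥Q = Nat.card ↥D → ∃ P : Subgroup Ω, F.StronglyClosed P ∧ F.StronglyClosed (Q ⊔ P) ∧ F.StronglyClosed (Q ⊓ P)) ∧ (∀ H : Subgroup Ω, F.IsFullyNormalized H → Nat.card ↥H = Nat.card ↥D → ∀ N : Cfsg.FusionSystem (Cfsg.FusionSystem.normalizerIn S H), F.IsNormalizerSystem H N → ∀ P : Subgroup Ω, N.Hom P = (Cfsg.innerFusionSystem (Cfsg.FusionSystem.normalizerIn S H)).Hom P) := by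
  have hp : p.Prime := Fact.out
  obtain ⟨m, hm⟩ := hS.exists_card_eq
  have hm2 : 2 ≤ m := (Nat.pow_le_pow_iff_right hp.one_lt).1 (hm ▸ hcard)
  constructor
  · intro h
    have hin := innerMaps_of_eq h
    obtain ⟨D, -, hDS, hDc⟩ := exists_card_between (p := p) hS (bot_le : ⊥ ≤ S) le_rfl (k := m - 1)
      (by rw [Subgroup.card_bot]; exact Nat.one_le_pow _ _ hp.pos)
      (by rw [hm]; exact Nat.pow_le_pow_right hp.pos (by omega))
    refine ⟨D, bot_lt_iff_ne_bot.2 ?_, lt_of_le_of_ne hDS ?_, fun Q hQ hQc => ?_, ?_⟩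
    · rintro rfl
      rw [Subgroup.card_bot] at hDc
      exact absurd hDc.symm (one_lt_pow₀ hp.one_lt (by omega)).ne'
    · rintro rfl
      rw [hm] at hDc
      exact absurd (Nat.pow_right_injective hp.two_le hDc) (by omega)
    · refine ⟨⊥, stronglyClosed_bot F, ?_, by rw [inf_bot_eq]; exact stronglyClosed_bot F⟩
      rw [sup_bot_eq]
      haveI := finite_of_le hQ
      -- a subgroup of index `p` is normal
      have hidx : (Q.subgroupOf S).index = (Nat.card S).minFac := by
        have h1 := (Q.subgroupOf S).card_mul_index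
        rw [Nat.card_congr (Subgroup.subgroupOfEquivOfLe hQ).toEquiv, hQc, hDc, hm] at h1
        rw [hm, hp.pow_minFac (by omega)]
        have h2 : p ^ m = p ^ (m - 1) * p := by rw [← pow_succ]; congr 1; omega
        rw [h2] at h1
        exact Nat.eq_of_mul_eq_mul_left (pow_pos hp.pos _) h1
      haveI := Subgroup.normal_of_index_eq_minFac_card hidx
      refine stronglyClosed_iff.2 ⟨hQ, fun X f hX hf x hx => ?_⟩
      obtain ⟨a, ha, hax⟩ := hin X f hf
      rw [hax x hx]
      exact ‹(Q.subgroupOf S).Normal›.conj_mem ⟨x, hQ (hX hx)⟩ (hX hx) ⟨a, ha⟩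
    · intro H hH hHc N hN P
      ext φ
      rw [hN P]
      constructor
      · rintro ⟨hφ, hP, hv, ψ, hψ, hψφ, hψH⟩
        obtain ⟨a, ha, hax⟩ := hin _ _ (isMap_of_hom hψ)
        haveI := finite_of_le hH.1
        have hmem : ∀ x ∈ H, a * x * a⁻¹ ∈ H := fun x hx => by
          rw [← hax x (mem_sup_right hx), toFun_of_mem ψ (mem_sup_right hx)]
          exact hψH.le ⟨⟨x, mem_sup_right hx⟩, hx, rfl⟩
        refine ⟨hP, a, ⟨ha, ?_⟩, fun x => ?_⟩
        · have himg : img H (fun x => a * x * a⁻¹) = H := by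
            have hm' := isMap_conj F hH.1 ha
            exact eq_of_le_of_card_le
              (fun y hy => by obtain ⟨x, hx, rfl⟩ := hm'.mem_img.1 hy; exact hmem x hx)
              hm'.card_img.ge
          refine Subgroup.mem_normalizer_iff.2 fun x => ⟨hmem x, fun hx => ?_⟩
          rw [← himg, (isMap_conj F hH.1 ha).mem_img] at hx
          obtain ⟨y, hy, hyx⟩ := hx
          rwa [← mul_left_cancel (mul_right_cancel hyx)]
        · rw [← hψφ x, ← hax x (mem_sup_left x.2), toFun_of_mem ψ (mem_sup_left x.2)]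
          rfl
      · rintro ⟨hP, a, ha, hax⟩
        have e : φ = conjHom P a := MonoidHom.ext hax
        subst e
        rw [← hN P]
        exact N.conj_mem hP ha
  · rintro ⟨D, hD0, hDS, hweak, hnorm⟩
    haveI := finite_of_le hDS.le
    obtain ⟨k, hk⟩ := (isPGroup_of_le hS hDS.le).exists_card_eq
    have hk1 : 1 ≤ k := by
      rcases Nat.eq_zero_or_pos k with rfl | h
      · exact absurd (Subgroup.card_eq_one.1 (by rw [hk, pow_zero])) hD0.ne'
      · exact h
    have hkS : p ^ k < Nat.card S := hk ▸ lt_of_not_ge fun hge =>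
      hDS.ne (Subgroup.eq_of_le_of_card_ge hDS.le hge)
    refine eq_inner_of_innerMaps (innerMaps_of_cond (p := p) _ Ω S F k rfl hS hF hk1 hkS
      ⟨fun Q hQ hQc => hweak Q hQ (hQc.trans hk.symm), fun H hHn hH hHc P f hf hHP hfH => ?_⟩)
    have hN : normalizerIn S H = S := inf_eq_left.2 hHn
    haveI := finite_of_le hH
    have hHfn : F.IsFullyNormalized H := ⟨hH, fun Q hQ => by
      rw [hN]; exact Subgroup.card_le_of_le inf_le_left⟩
    have hS' : P ≤ normalizerIn S H := hN.symm ▸ hf.le
    have hm : IsMap (normalizerSys F H hH) P f := by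
      refine (isMap_normalizerSystem_iff (isNormalizerSystem_normalizerSys F H hH)).2
        ⟨hS', fun x hx => hN.symm ▸ hf.mem hx, f, ?_, fun x hx => rfl, ?_⟩
      · rwa [sup_eq_left.2 hHP]
      · exact eq_of_le_of_card_le (fun y hy => by
          obtain ⟨x, hx, rfl⟩ := (hf.mono hHP).mem_img.1 hy
          exact hfH x hx) (hf.mono hHP).card_img.ge
    obtain ⟨φ, hφ, hφx⟩ := hm
    rw [hnorm H hHfn (hHc.trans hk.symm) _ (isNormalizerSystem_normalizerSys F H hH) P] at hφ
    obtain ⟨-, a, ha, hax⟩ := hφ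
    exact ⟨a, hN ▸ ha, fun x hx => (hφx ⟨x, hx⟩).symm.trans (hax ⟨x, hx⟩)⟩

end Cfsg.Agent.S5271
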