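import Cfsg.Statements.S5274
import Cfsg.Agent.Lib.Fusion.Saturation
import Mathlib.GroupTheory.Sylow
import Mathlib.GroupTheory.OrderOfElement

/-!
Every element conjugate into the centre of a 2-group forces the group to be abelian.

Elementary argument: choose a noncentral element with centralizer `Q` as large as possible, fully
normalized. In the action of `Aut_F(Q)` on `W = Z(Q)` the nontrivial elements of a Sylow 2-subgroup
all fix exactly `W ∩ Z(S)`, and every element of `W` can be moved into `Z(S)`. For an involution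
`x ∈ W` moved by `s` the commutator `v` is the square of some central `z`; then `u = zx` is inverted
by the involution `t` induced by `s` and fixed by a conjugate `r`, which is impossible.
-/

set_option autoImplicit false
open Cfsg

namespace Cfsg.Agent.S5274

open CfsgLib.Fusion Cfsg.FusionSystem

section Helpers

variable {Ω : Type*} [Group Ω] {S : Subgroup Ω}

/-- `C_S(x)`. -/
def cent (S : Subgroup Ω) (x : Ω) : Subgroup Ω := S ⊓ Subgroup.centralizer ({x} : Set Ω)

/-- `Z(S)`. -/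
def zS (S : Subgroup Ω) : Subgroup Ω := S ⊓ Subgroup.centralizer (S : Set Ω)

theorem mem_cent {x y : Ω} : y ∈ cent S x ↔ y ∈ S ∧ y * x = x * y := by
  simp [cent, Subgroup.mem_centralizer_iff, eq_comm]

theorem zS_comm {z y : Ω} (hz : z ∈ zS S) (hy : y ∈ S) : y * z = z * y := hz.2 y hy

theorem self_mem_cent {x : Ω} (hx : x ∈ S) : x ∈ cent S x := mem_cent.2 ⟨hx, rfl⟩

theorem le_cent_of_central {x : Ω} (hx : x ∈ zS S) : S ≤ cent S x :=
  fun y hy => mem_cent.2 ⟨hy, zS_comm hx hy⟩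

theorem exists_pow_two {K : Subgroup Ω} [Finite S] (hS : IsPGroup 2 ↥S) {y : Ω} (hy : y ∈ S)
    (hyK : y ∉ K) : ∃ k : ℕ, y ^ (2 ^ k) ∉ K ∧ (y ^ (2 ^ k)) ^ 2 ∈ K := by
  classical
  obtain ⟨m, hm⟩ := hS ⟨y, hy⟩
  have hm' : y ^ (2 ^ m) = 1 := congrArg Subtype.val hm
  have hex : ∃ k : ℕ, y ^ (2 ^ k) ∈ K := ⟨m, hm'.symm ▸ K.one_mem⟩
  have h0 : Nat.find hex ≠ 0 := by
    intro h
    have := Nat.find_spec hex
    rw [h, pow_zero, pow_one] at this
    exact hyK this
  obtain ⟨j, hj⟩ := Nat.exists_eq_succ_of_ne_zero h0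
  refine ⟨j, Nat.find_min hex (by omega), ?_⟩
  have := Nat.find_spec hex
  rw [hj] at this
  rwa [← pow_mul, ← pow_succ]

variable {F : FusionSystem S} [Finite S] (hS : IsPGroup 2 ↥S) (hF : F.IsSaturated 2)
include hS hF

theorem extend_to_cent {P : Subgroup Ω} {f : Ω → Ω} (hf : IsMap F P f) {x : Ω} (hx : x ∈ P)
    (hfx : f x ∈ zS S) : ∃ g, IsMap F (cent S x) g ∧ g x = f x := by
  haveI : Fact (Nat.Prime 2) := ⟨Nat.prime_two⟩
  have hxS : x ∈ S := hf.le hx
  have hle : Subgroup.zpowers x ≤ P := Subgroup.zpowers_le.2 hx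
  have h1 : IsMap F (Subgroup.zpowers x) f := hf.mono hle
  set T := img (Subgroup.zpowers x) f with hT
  have hTZ : T ≤ zS S := by
    intro y hy
    obtain ⟨a, ha, rfl⟩ := h1.mem_img.1 hy
    obtain ⟨n, rfl⟩ := Subgroup.mem_zpowers_iff.1 ha
    have : h1.toHom (⟨x, Subgroup.mem_zpowers x⟩ ^ n) =
        h1.toHom ⟨x, Subgroup.mem_zpowers x⟩ ^ n := map_zpow _ _ _
    simp only [IsMap.toHom_apply] at this
    have e : f (x ^ n) = f x ^ n := by simpa using this
    rw [e]
    exact (zS S).zpow_mem hfx n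
  have hfc : F.IsFullyCentralized T := by
    refine ⟨h1.img_le, fun R _ => ?_⟩
    have : centralizerIn S T = S := le_antisymm inf_le_left
      fun s hs => ⟨hs, fun t ht => (zS_comm (hTZ ht) hs).symm⟩
    rw [this]
    exact Subgroup.card_le_of_le inf_le_left
  obtain ⟨g, hg, hgx⟩ := receptive_extend (receptive_of_fullyCentralized (p := 2) hS hF hfc) h1 rfl
    (R := cent S x) (Subgroup.zpowers_le.2 (self_mem_cent hxS)) (fun a ha => by
      obtain ⟨haS, hax⟩ := mem_cent.1 ha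
      have hcomm : ∀ y ∈ Subgroup.zpowers x, a * y * a⁻¹ = y := fun y hy => by
        obtain ⟨n, rfl⟩ := Subgroup.mem_zpowers_iff.1 hy
        have hc : Commute a (x ^ n) := Commute.zpow_right (hax : Commute a x) n
        rw [hc.eq, mul_inv_cancel_right]
      refine ⟨haS, ?_, 1, S.one_mem, fun y hy => by rw [hcomm y hy]; simp⟩
      intro y
      constructor
      · intro hy
        rwa [hcomm y hy]
      · intro hy
        have h2 := hcomm _ hy
        have h3 : a * y * a⁻¹ = y := mul_left_cancel (mul_right_cancel h2)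
        rwa [h3] at hy)
  exact ⟨g, hg, hgx x (Subgroup.mem_zpowers x)⟩

omit hS hF in
theorem map_central {g : Ω → Ω} (hg : IsMap F S g) {a : Ω} (ha : a ∈ zS S) : g a ∈ zS S := by
  have hi : img S g = S := eq_of_le_of_card_le hg.img_le hg.card_img.ge
  refine ⟨hg.mem ha.1, fun y hy => ?_⟩
  obtain ⟨b, hb, rfl⟩ := hg.mem_img.1 (hi.symm ▸ hy : y ∈ img S g)
  rw [← hg.map_mul hb ha.1, ← hg.map_mul ha.1 hb, zS_comm ha hb]

variable (h : ∀ x ∈ S, ∃ z ∈ S ⊓ Subgroup.centralizer (S : Set Ω), F.IsConjElt x z)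
include h

theorem exists_central_map {x : Ω} (hx : x ∈ S) :
    ∃ g, IsMap F (cent S x) g ∧ g x ∈ zS S := by
  obtain ⟨z, hz, φ, hφ, hφx⟩ := h x hx
  have e : toFun φ x = z := by rw [toFun_of_mem _ (Subgroup.mem_zpowers x)]; exact hφx
  obtain ⟨g, hg, hgx⟩ := extend_to_cent hS hF (isMap_of_hom hφ) (Subgroup.mem_zpowers x)
    (e.symm ▸ hz)
  exact ⟨g, hg, by rw [hgx, e]; exact hz⟩

/-- A central element conjugate to a square is the square of a central element. -/
theorem central_square {P : Subgroup Ω} {f : Ω → Ω} (hf : IsMap F P f) {v w : Ω} (hv : v ∈ P)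
    (hvZ : v ∈ zS S) (hw : w ∈ S) (e : f v = w ^ 2) : ∃ a ∈ zS S, a ^ 2 = v := by
  obtain ⟨g, hg, hgw⟩ := exists_central_map hS hF h hw
  have h1 : IsMap F (Subgroup.zpowers v) f := hf.mono (Subgroup.zpowers_le.2 hv)
  have hmem : ∀ y ∈ Subgroup.zpowers v, f y ∈ cent S w := by
    intro y hy
    obtain ⟨n, rfl⟩ := Subgroup.mem_zpowers_iff.1 hy
    have : h1.toHom (⟨v, Subgroup.mem_zpowers v⟩ ^ n) =
        h1.toHom ⟨v, Subgroup.mem_zpowers v⟩ ^ n := map_zpow _ _ _
    simp only [IsMap.toHom_apply] at this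
    have e2 : f (v ^ n) = f v ^ n := by simpa using this
    rw [e2, e]
    exact (cent S w).zpow_mem (pow_mem (self_mem_cent hw) 2) n
  have hc := h1.comp hg hmem
  have ev : g (f v) = g w ^ 2 := by rw [e, hg.map_pow (self_mem_cent hw)]
  obtain ⟨k, hk, hkx, -, -⟩ := hc.exists_inv
  have hin : g (f v) ∈ img (Subgroup.zpowers v) (fun y => g (f y)) :=
    hc.apply_mem_img (Subgroup.mem_zpowers v)
  have hkv : k (g (f v)) = v := hkx v (Subgroup.mem_zpowers v)
  obtain ⟨l, hl, hlx⟩ := extend_to_cent hS hF hk hin (hkv.symm ▸ hvZ)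
  have hgfZ : g (f v) ∈ zS S := ev.symm ▸ pow_mem hgw 2
  have hlS : IsMap F S l := hl.mono (le_cent_of_central hgfZ)
  refine ⟨l (g w), map_central hlS hgw, ?_⟩
  rw [← hlS.map_pow hgw.1, ← ev, hlx, hkv]

/-- A central commutator of an involution is the square of a central element. -/
theorem commutator_square {x s : Ω} (hx : x ∈ S) (hx2 : x * x = 1) (hs : s ∈ S)
    (hv : s * x * s⁻¹ * x ∈ zS S) : ∃ a ∈ zS S, a ^ 2 = s * x * s⁻¹ * x := by
  set v := s * x * s⁻¹ * x with hvdef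
  have hsx : s * x * s⁻¹ = v * x := by rw [hvdef, mul_assoc (s * x * s⁻¹), hx2, mul_one]
  have hvx : v * x = x * v := (zS_comm hv hx).symm
  have hvs : v * s = s * v := (zS_comm hv hs).symm
  have hvv : v * v = 1 := by
    have h1 : (s * x * s⁻¹) * (s * x * s⁻¹) = 1 := by
      calc (s * x * s⁻¹) * (s * x * s⁻¹) = s * (x * x) * s⁻¹ := by group
        _ = 1 := by rw [hx2]; group
    rw [hsx] at h1
    calc v * v = v * v * (x * x) := by rw [hx2, mul_one]
      _ = v * (v * x) * x := by group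
      _ = v * (x * v) * x := by rw [hvx]
      _ = 1 := by rw [← h1]; group
  have hqx : s ^ 2 * x = x * s ^ 2 := by
    have h2 : s * s * x * (s * s)⁻¹ = x := by
      calc s * s * x * (s * s)⁻¹ = s * (s * x * s⁻¹) * s⁻¹ := by group
        _ = s * (v * x) * s⁻¹ := by rw [hsx]
        _ = (s * v) * x * s⁻¹ := by group
        _ = (v * s) * x * s⁻¹ := by rw [hvs]
        _ = v * (s * x * s⁻¹) := by group
        _ = v * v * x := by rw [hsx, ← mul_assoc]
        _ = x := by rw [hvv, one_mul]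
    rw [pow_two]
    conv_rhs => rw [← h2]
    group
  obtain ⟨g, hg, hgq⟩ := exists_central_map hS hF h (pow_mem hs 2)
  have hsC : s ∈ cent S (s ^ 2) := mem_cent.2 ⟨hs, ((Commute.refl s).pow_right 2).eq⟩
  have hxC : x ∈ cent S (s ^ 2) := mem_cent.2 ⟨hx, hqx.symm⟩
  have hvC : v ∈ cent S (s ^ 2) := mem_cent.2 ⟨hv.1, (zS_comm hv (pow_mem hs 2)).symm⟩
  have hqC : s ^ 2 ∈ cent S (s ^ 2) := self_mem_cent (pow_mem hs 2)
  obtain ⟨a, ha, hab⟩ := central_square hS hF h (isMap_id F (le_refl S)) hgq.1 hgq (hg.mem hsC)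
    (hg.map_pow hsC 2)
  have hsxC : s * x ∈ cent S (s ^ 2) := (cent S (s ^ 2)).mul_mem hsC hxC
  have hsq : (s * x) ^ 2 = v * s ^ 2 := by
    rw [pow_two, pow_two]
    calc s * x * (s * x) = (s * x * s⁻¹) * (s * s * x) := by group
      _ = (v * x) * (x * (s * s)) := by rw [hsx, ← pow_two, hqx]
      _ = v * (x * x) * (s * s) := by group
      _ = v * (s * s) := by rw [hx2, mul_one]
  have hw : (g (s * x) * a⁻¹) ^ 2 = g v := by
    have hc : Commute (g (s * x)) a⁻¹ := (zS_comm ((zS S).inv_mem ha) (hg.mem hsxC) : _)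
    rw [hc.mul_pow, ← hg.map_pow hsxC, hsq, hg.map_mul hvC hqC, ← hab, inv_pow,
      mul_inv_cancel_right]
  exact central_square hS hF h hg hvC hv
    (S.mul_mem (hg.mem hsxC) (S.inv_mem ha.1)) hw.symm

end Helpers

/-- Restriction of automorphisms to the centre. -/
def resCenter {Q : Type*} [Group Q] : MulAut Q →* MulAut (Subgroup.center Q) where
  toFun α :=
    { toFun := fun w => ⟨α w, Subgroup.mem_center_iff.2 fun g => by
        obtain ⟨g', rfl⟩ := α.surjective g
        rw [← map_mul, ← map_mul, Subgroup.mem_center_iff.1 w.2 g']⟩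
      invFun := fun w => ⟨α.symm w, Subgroup.mem_center_iff.2 fun g => by
        obtain ⟨g', rfl⟩ := α.symm.surjective g
        rw [← map_mul, ← map_mul, Subgroup.mem_center_iff.1 w.2 g']⟩
      left_inv := fun w => Subtype.ext (α.symm_apply_apply _)
      right_inv := fun w => Subtype.ext (α.apply_symm_apply _)
      map_mul' := fun a b => Subtype.ext (map_mul α (a : Q) b) }
  map_one' := by ext w; rfl
  map_mul' α β := by ext w; rfl

theorem resCenter_apply {Q : Type*} [Group Q] (α : MulAut Q) (w : Subgroup.center Q) :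
    ((resCenter α w : Subgroup.center Q) : Q) = α w := rfl

/-- Let F be a saturated fusion system over a finite 2-group S. Suppose that every element of S is F-conjugate to an element of the centre Z(S) (some map of F defined on the cyclic subgroup it generates sends it into Z(S)). Then S is abelian. -/
theorem result {Ω : Type*} [Group Ω] {S : Subgroup Ω} [Finite S] (hS : IsPGroup 2 ↥S) (F : Cfsg.FusionSystem S) (hF : F.IsSaturated 2) (h : ∀ x ∈ S, ∃ z ∈ S ⊓ Subgroup.centralizer (S : Set Ω), F.IsConjElt x z) : IsMulCommutative ↥S := by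
  classical
  haveI : Fact (Nat.Prime 2) := ⟨Nat.prime_two⟩
  by_contra hnc
  have hne : {x : S | (x : Ω) ∉ zS S}.Nonempty := by
    by_contra hem
    apply hnc
    refine ⟨⟨fun a b => Subtype.ext ?_⟩⟩
    have hb : (b : Ω) ∈ zS S := by
      by_contra hb
      exact hem ⟨b, hb⟩
    exact zS_comm hb a.2
  obtain ⟨x₀, hx₀, hmax⟩ := Set.exists_max_image {x : S | (x : Ω) ∉ zS S}
    (fun x => Nat.card (cent S (x : Ω))) (Set.toFinite _) hne
  have hC0 : cent S (x₀ : Ω) < S := by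
    refine lt_of_le_of_ne inf_le_left fun he => hx₀ ⟨x₀.2, fun y hy => ?_⟩
    exact (mem_cent.1 (he.symm ▸ hy : y ∈ cent S (x₀ : Ω))).2
  -- a fully normalized maximal centralizer
  obtain ⟨Q, hconj, hQn⟩ := exists_fullyNormalized_conj F hC0.le
  obtain ⟨ψ, hψ, hψi, -⟩ := exists_map_normalizerIn_of_fullyNormalized hS hF hQn hconj
  obtain ⟨n₀, hn₀, hn₀'⟩ := SetLike.exists_of_lt (lt_normalizerIn hS hC0)
  have hx₀N : (x₀ : Ω) ∈ normalizerIn S (cent S (x₀ : Ω)) :=
    le_normalizerIn hC0.le (self_mem_cent x₀.2)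
  set y := ψ (x₀ : Ω) with hy
  have hyZ : y ∉ zS S := by
    intro hyz
    refine hn₀' (mem_cent.2 ⟨hn₀.1, hψ.inj (Subgroup.mul_mem _ hn₀ hx₀N)
      (Subgroup.mul_mem _ hx₀N hn₀) ?_⟩)
    rw [hψ.map_mul hn₀ hx₀N, hψ.map_mul hx₀N hn₀, ← hy, zS_comm hyz (hψ.mem hn₀)]
  have hQS : Q ≤ S := hQn.1
  have hQc : Nat.card Q = Nat.card (cent S (x₀ : Ω)) := isConj_card hconj
  have hmaxQ : ∀ w ∈ S, w ∉ zS S → Q ≤ cent S w → cent S w = Q := by
    intro w hw hwz hle
    haveI : Finite (cent S w) := finite_of_le inf_le_left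
    exact (eq_of_le_of_card_le hle (hQc ▸ hmax ⟨w, hw⟩ hwz)).symm
  have hyC : cent S y = Q := by
    refine hmaxQ y (hψ.mem hx₀N) hyZ ?_
    intro c hc
    obtain ⟨a, ha, rfl⟩ := (hψ.mono (le_normalizerIn hC0.le)).mem_img.1 (hψi.symm ▸ hc :
      c ∈ img (cent S (x₀ : Ω)) ψ)
    refine mem_cent.2 ⟨hψ.mem (le_normalizerIn hC0.le ha), ?_⟩
    rw [hy, ← hψ.map_mul (le_normalizerIn hC0.le ha) hx₀N,
      ← hψ.map_mul hx₀N (le_normalizerIn hC0.le ha), (mem_cent.1 ha).2]
  have hZQ : zS S ≤ Q := fun z hz => hyC ▸ mem_cent.2 ⟨hz.1, (zS_comm hz (hψ.mem hx₀N)).symm⟩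
  have hyQ : y ∈ Q := hyC ▸ self_mem_cent (hψ.mem hx₀N)
  have hQlt : Q < S := by
    refine lt_of_le_of_ne hQS fun he => hyZ ⟨hQS hyQ, fun a ha => ?_⟩
    exact (mem_cent.1 (hyC.symm ▸ (he.symm ▸ ha : a ∈ Q))).2
  -- an involution in Z(Q) outside Z(S)
  obtain ⟨k, hk1, hk2⟩ := exists_pow_two (K := zS S) hS (hQS hyQ) hyZ
  set y₁ := y ^ (2 ^ k) with hy₁
  have hy₁Q : y₁ ∈ Q := pow_mem hyQ _
  have hy₁c : ∀ q ∈ Q, q * y₁ = y₁ * q := fun q hq =>
    (Commute.pow_right ((mem_cent.1 (hyC.symm ▸ hq)).2 : Commute q y) _).eq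
  obtain ⟨a, haZ, ha2⟩ := central_square hS hF h (isMap_id F (le_refl S)) hk2.1 hk2
    (hQS hy₁Q) rfl
  set x := y₁ * a⁻¹ with hx
  have hxQ : x ∈ Q := Q.mul_mem hy₁Q (Q.inv_mem (hZQ haZ))
  have hxS : x ∈ S := hQS hxQ
  have hxc : ∀ q ∈ Q, q * x = x * q := fun q hq =>
    (Commute.mul_right (hy₁c q hq : Commute q y₁)
      (zS_comm ((zS S).inv_mem haZ) (hQS hq) : Commute q a⁻¹)).eq
  have hxZ : x ∉ zS S := fun hc => hk1 (by simpa [hx] using (zS S).mul_mem hc haZ)
  have hx2 : x * x = 1 := by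
    have hc : Commute y₁ a⁻¹ := zS_comm ((zS S).inv_mem haZ) (hQS hy₁Q)
    rw [← pow_two, hx, hc.mul_pow, ← ha2, inv_pow, mul_inv_cancel]
  have hcentW : ∀ w ∈ Q, (∀ q ∈ Q, q * w = w * q) → w ∉ zS S → cent S w = Q :=
    fun w hw hwc hwz => hmaxQ w (hQS hw) hwz fun q hq => mem_cent.2 ⟨hQS hq, hwc q hq⟩
  -- an element of N_S(Q) inducing an involution on Z(Q)
  obtain ⟨n, hn, hnQ⟩ := SetLike.exists_of_lt (lt_normalizerIn hS hQlt)
  obtain ⟨j, hj1, hj2⟩ := exists_pow_two (K := Q) hS hn.1 hnQ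
  set s := n ^ (2 ^ j) with hs
  have hsN : s ∈ normalizerIn S Q := pow_mem hn _
  have hsS : s ∈ S := hsN.1
  have hsQ : ∀ q ∈ Q, s * q * s⁻¹ ∈ Q := fun q hq => (hsN.2 q).1 hq
  set v := s * x * s⁻¹ * x with hv
  have hvQ : v ∈ Q := Q.mul_mem (hsQ x hxQ) hxQ
  have hvc : ∀ q ∈ Q, q * v = v * q := by
    intro q hq
    have hq' : s⁻¹ * q * s ∈ Q := (Subgroup.mem_normalizer_iff''.1 hsN.2 q).1 hq
    have h1 : Commute q (s * x * s⁻¹) := by
      show q * (s * x * s⁻¹) = s * x * s⁻¹ * q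
      calc q * (s * x * s⁻¹) = s * ((s⁻¹ * q * s) * x) * s⁻¹ := by group
        _ = s * (x * (s⁻¹ * q * s)) * s⁻¹ := by rw [hxc _ hq']
        _ = s * x * s⁻¹ * q := by group
    exact (h1.mul_right (hxc q hq : Commute q x)).eq
  have hvne : v ≠ 1 := by
    intro hv1
    have e : s * x * s⁻¹ = x := by
      calc s * x * s⁻¹ = v * x := by rw [hv, mul_assoc (s * x * s⁻¹), hx2, mul_one]
        _ = x := by rw [hv1, one_mul]
    apply hj1
    rw [← hcentW x hxQ hxc hxZ]
    exact mem_cent.2 ⟨hsS, mul_inv_eq_iff_eq_mul.1 e⟩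
  have hvs : s * v * s⁻¹ = v := by
    have hq : Commute (s ^ 2) x := hxc _ hj2
    calc s * v * s⁻¹ = (s ^ 2 * x * (s ^ 2)⁻¹) * (s * x * s⁻¹) := by rw [hv, pow_two]; group
      _ = x * (s * x * s⁻¹) := by rw [hq.eq, mul_inv_cancel_right]
      _ = v := by rw [hv, hxc _ (hsQ x hxQ)]
  have hvZ : v ∈ zS S := by
    by_contra hcon
    apply hj1
    rw [← hcentW v hvQ hvc hcon]
    exact mem_cent.2 ⟨hsS, mul_inv_eq_iff_eq_mul.1 hvs⟩
  obtain ⟨z, hzZ, hz2⟩ := commutator_square hS hF h hxS hx2 hsS hvZ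
  rw [← hv] at hz2
  set u := z * x with hu
  have huQ : u ∈ Q := Q.mul_mem (hZQ hzZ) hxQ
  have huc : ∀ q ∈ Q, q * u = u * q := fun q hq =>
    (Commute.mul_right (zS_comm hzZ (hQS hq) : Commute q z) (hxc q hq : Commute q x)).eq
  have huZ : u ∉ zS S := fun hc => hxZ (by
    simpa [hu] using (zS S).mul_mem ((zS S).inv_mem hzZ) hc)
  have hu2 : u ^ 2 = v := by
    have hc : Commute z x := (zS_comm hzZ hxS).symm
    rw [hu, hc.mul_pow, hz2, pow_two, hx2, mul_one]
  have hsu : s * u * s⁻¹ = u * v := by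
    have hc1 : s * z = z * s := zS_comm hzZ hsS
    calc s * u * s⁻¹ = (s * z) * x * s⁻¹ := by rw [hu]; group
      _ = z * (s * x * s⁻¹) := by rw [hc1]; group
      _ = z * (v * x) := by rw [hv, mul_assoc (s * x * s⁻¹), hx2, mul_one]
      _ = u * v := by rw [hu, ← zS_comm hvZ hxS]; group
  -- some automorphism moves u into Z(S)
  obtain ⟨φ, hφ, hφu⟩ := exists_central_map hS hF h (hQS huQ)
  rw [hcentW u huQ huc huZ] at hφ
  set P := img Q φ with hP
  have hPS : P < S := by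
    refine lt_of_le_of_ne hφ.img_le fun he => ?_
    have hlt : Nat.card Q < Nat.card S := by
      refine lt_of_le_of_ne (Subgroup.card_le_of_le hQS) fun hc => hQlt.ne ?_
      exact eq_of_le_of_card_le hQS hc.ge
    rw [← hφ.card_img, ← hP, he] at hlt
    exact lt_irrefl _ hlt
  obtain ⟨θ, hθ, hθi, hθN⟩ := exists_map_normalizerIn_of_fullyNormalized hS hF hQn
    (isConj_symm hφ.isConj)
  obtain ⟨n', hn', hn'P⟩ := SetLike.exists_of_lt (lt_normalizerIn hS hPS)
  have hmemN : ∀ q ∈ Q, φ q ∈ normalizerIn S P := fun q hq =>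
    le_normalizerIn hφ.img_le (hφ.apply_mem_img hq)
  have hg : IsMap F Q (fun q => θ (φ q)) := hφ.comp hθ hmemN
  have hgi : img Q (fun q => θ (φ q)) = Q := (img_comp_eq hφ hθ hmemN).trans hθi
  set γ := hg.toAut hgi with hγ
  have hγu : θ (φ u) ∈ zS S := by
    by_contra hcon
    have hw : θ (φ u) ∈ Q := by
      rw [← hgi]
      exact hg.apply_mem_img huQ
    have hwc : ∀ q ∈ Q, q * θ (φ u) = θ (φ u) * q := by
      intro q hq
      obtain ⟨q', hq', rfl⟩ := hg.mem_img.1 (hgi.symm ▸ hq : q ∈ img Q fun q => θ (φ q))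
      rw [← hg.map_mul hq' huQ, ← hg.map_mul huQ hq', huc q' hq']
    have hmem : θ n' ∈ Q := by
      rw [← hcentW _ hw hwc hcon]
      refine mem_cent.2 ⟨hθ.mem hn', ?_⟩
      rw [← hθ.map_mul hn' (hmemN u huQ), ← hθ.map_mul (hmemN u huQ) hn',
        zS_comm hφu hn'.1]
    obtain ⟨p, hp, hpe⟩ := (hθ.mono (le_normalizerIn hφ.img_le)).mem_img.1
      (hθi.symm ▸ hmem : θ n' ∈ img P θ)
    exact hn'P (hθ.inj (le_normalizerIn hφ.img_le hp) hn' hpe ▸ hp)
  -- the action on the centre of Q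
  haveI : Finite Q := finite_of_le hQS
  let f : F.autGroup Q →* MulAut (Subgroup.center Q) := resCenter.comp (F.autGroup Q).subtype
  obtain ⟨T, hT⟩ := (fullyAutomized_of_fullyNormalized hS hF hQn).2
  have hsurj : Function.Surjective f.rangeRestrict := f.rangeRestrict_surjective
  let T' : Sylow 2 f.range := T.mapSurjective hsurj
  have hT'mem : ∀ c : f.range, c ∈ (T' : Subgroup f.range) → ∃ b ∈ S,
      ∀ w : Subgroup.center Q, ((((c : MulAut (Subgroup.center Q)) w : Subgroup.center Q) : Q) : Ω)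
        = b * ((w : Q) : Ω) * b⁻¹ := by
    intro c hc
    obtain ⟨α, hα, rfl⟩ := Subgroup.mem_map.1 (show c ∈ (T : Subgroup _).map f.rangeRestrict from hc)
    rw [hT, Subgroup.mem_subgroupOf] at hα
    obtain ⟨b, hb, hbx⟩ := mem_autInducedBy_iff.1 hα
    exact ⟨b, hb, fun w => hbx _⟩
  have hfixZ : ∀ c : f.range, c ∈ (T' : Subgroup f.range) → ∀ w : Subgroup.center Q,
      ((w : Q) : Ω) ∈ zS S → (c : MulAut (Subgroup.center Q)) w = w := by
    intro c hc w hw
    obtain ⟨b, hb, hbw⟩ := hT'mem c hc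
    apply Subtype.ext
    apply Subtype.ext
    rw [hbw w, zS_comm hw hb, mul_inv_cancel_right]
  have hfix : ∀ c : f.range, c ∈ (T' : Subgroup f.range) → c ≠ 1 → ∀ w : Subgroup.center Q,
      (c : MulAut (Subgroup.center Q)) w = w → ((w : Q) : Ω) ∈ zS S := by
    intro c hc hc1 w hw
    by_contra hcon
    obtain ⟨b, hb, hbw⟩ := hT'mem c hc
    have hwQ := hcentW _ (w : Q).2
      (fun q hq => congrArg Subtype.val (Subgroup.mem_center_iff.1 w.2 ⟨q, hq⟩)) hcon
    have hbQ : b ∈ Q := by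
      rw [← hwQ]
      refine mem_cent.2 ⟨hb, ?_⟩
      have h1 := hbw w
      rw [hw] at h1
      exact mul_inv_eq_iff_eq_mul.1 h1.symm
    apply hc1
    apply Subtype.ext
    refine MulEquiv.ext fun w' => ?_
    apply Subtype.ext
    apply Subtype.ext
    rw [hbw w']
    have hcm : b * ((w' : Q) : Ω) = ((w' : Q) : Ω) * b :=
      congrArg Subtype.val (Subgroup.mem_center_iff.1 w'.2 ⟨b, hbQ⟩)
    rw [hcm, mul_inv_cancel_right]
    rfl
  -- commuting involutions fix the same points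
  have hsame : ∀ c d : f.range, c * d = d * c → c * c = 1 → d * d = 1 → c ≠ 1 →
      ∀ w : Subgroup.center Q, (c : MulAut (Subgroup.center Q)) w = w →
        (d : MulAut (Subgroup.center Q)) w = w := by
    intro c d hcd hcc hdd hc1 w hw
    let K : Subgroup f.range :=
      { carrier := {e | e * c = c * e ∧ e * d = d * e ∧ e * e = 1 ∧ e ∈ Subgroup.closure {c, d}}
        one_mem' := ⟨by simp, by simp, by simp, one_mem _⟩
        mul_mem' := by
          rintro a b ⟨ha1, ha2, ha3, ha4⟩ ⟨hb1, hb2, hb3, hb4⟩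
          have hab : Commute a b := by
            refine Subgroup.closure_induction (p := fun y _ => Commute a y) ?_ (Commute.one_right a)
              (fun _ _ _ _ h1 h2 => h1.mul_right h2) (fun _ _ h1 => h1.inv_right) hb4
            rintro y (rfl | rfl)
            · exact ha1
            · exact ha2
          exact ⟨((show Commute a c from ha1).mul_left hb1).eq,
            ((show Commute a d from ha2).mul_left hb2).eq,
            by rw [hab.symm.mul_mul_mul_comm, ha3, hb3, one_mul], mul_mem ha4 hb4⟩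
        inv_mem' := by
          rintro a ⟨ha1, ha2, ha3, ha4⟩
          have e : a⁻¹ = a := inv_eq_of_mul_eq_one_right ha3
          rw [Set.mem_setOf_eq, e]
          exact ⟨ha1, ha2, ha3, ha4⟩ }
    have hK : IsPGroup 2 K := fun e => ⟨1, Subtype.ext (by
      rw [pow_one, SubgroupClass.coe_pow, pow_two]; exact e.2.2.2.1)⟩
    obtain ⟨U, hU⟩ := hK.exists_le_sylow
    obtain ⟨g, hgU⟩ := MulAction.exists_smul_eq f.range U T'
    have hmem : ∀ e ∈ K, g * e * g⁻¹ ∈ (T' : Subgroup f.range) := by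
      intro e he
      rw [← hgU, Sylow.coe_subgroup_smul, Subgroup.mem_pointwise_smul_iff_inv_smul_mem]
      have h2 : (MulAut.conj g)⁻¹ • (g * e * g⁻¹) = e := by
        rw [MulAut.smul_def, MulAut.conj_inv_apply]
        group
      rw [h2]
      exact hU he
    have hcK : c ∈ K := ⟨rfl, hcd, hcc, Subgroup.subset_closure (by simp)⟩
    have hdK : d ∈ K := ⟨hcd.symm, rfl, hdd, Subgroup.subset_closure (by simp)⟩
    have hc' : ((g * c * g⁻¹ : f.range) : MulAut (Subgroup.center Q))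
        ((g : MulAut (Subgroup.center Q)) w) = (g : MulAut (Subgroup.center Q)) w := by
      simp [MulAut.mul_apply, hw]
    have hgw := hfix _ (hmem c hcK) (fun h1 => hc1 (conj_eq_one_iff.1 h1)) _ hc'
    have hd' := hfixZ _ (hmem d hdK) _ hgw
    simpa [MulAut.mul_apply] using hd'
  -- the involutions t and r
  let sA : MulAut Q := Q.normalizerMonoidHom ⟨s, hsN.2⟩
  have hsA : sA ∈ autInducedBy S Q := mem_autInducedBy_iff.2 ⟨s, hsS, fun _ => rfl⟩
  let tA : F.autGroup Q := ⟨sA, autInducedBy_le_autGroup hQS hsA⟩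
  set t : f.range := f.rangeRestrict tA with ht
  have htT : t ∈ (T' : Subgroup f.range) :=
    Subgroup.mem_map.2 ⟨tA, by rw [hT]; exact hsA, rfl⟩
  have htap : ∀ w : Subgroup.center Q,
      ((((t : MulAut (Subgroup.center Q)) w : Subgroup.center Q) : Q) : Ω)
        = s * ((w : Q) : Ω) * s⁻¹ := fun w => rfl
  let uW : Subgroup.center Q :=
    ⟨⟨u, huQ⟩, Subgroup.mem_center_iff.2 fun q => Subtype.ext (huc q q.2)⟩
  let vW : Subgroup.center Q :=
    ⟨⟨v, hvQ⟩, Subgroup.mem_center_iff.2 fun q => Subtype.ext (hvc q q.2)⟩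
  have htu : (t : MulAut (Subgroup.center Q)) uW = uW * vW :=
    Subtype.ext (Subtype.ext (hsu : _))
  have huv : uW ^ 2 = vW := Subtype.ext (Subtype.ext hu2)
  have hvWne : vW ≠ 1 := fun e => hvne (congrArg (fun a : Subgroup.center Q => ((a : Q) : Ω)) e)
  have htu' : (t : MulAut (Subgroup.center Q)) uW ≠ uW := by
    rw [htu]
    intro e
    exact hvWne (mul_eq_left.1 e)
  have ht1 : t ≠ 1 := fun e => htu' (by rw [e]; rfl)
  have htt : t * t = 1 := by
    apply Subtype.ext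
    refine MulEquiv.ext fun w => Subtype.ext (Subtype.ext ?_)
    rw [Subgroup.coe_mul, MulAut.mul_apply, htap, htap]
    have hcm : s ^ 2 * ((w : Q) : Ω) = ((w : Q) : Ω) * s ^ 2 :=
      congrArg Subtype.val (Subgroup.mem_center_iff.1 w.2 ⟨s ^ 2, hj2⟩)
    calc s * (s * ((w : Q) : Ω) * s⁻¹) * s⁻¹ = (s ^ 2 * ((w : Q) : Ω)) * (s ^ 2)⁻¹ := by
          rw [pow_two]; group
      _ = ((w : Q) : Ω) := by rw [hcm, mul_inv_cancel_right]
  let gA : F.autGroup Q := ⟨γ, hg.toAut_mem hgi⟩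
  set gm : f.range := f.rangeRestrict gA with hgm
  set r := gm⁻¹ * t * gm with hr
  have hrr : r * r = 1 := by
    calc r * r = gm⁻¹ * (t * t) * gm := by rw [hr]; group
      _ = 1 := by rw [htt]; group
  have hr1 : r ≠ 1 := by
    intro e
    apply ht1
    calc t = gm * r * gm⁻¹ := by rw [hr]; group
      _ = 1 := by rw [e]; group
  have hru : (r : MulAut (Subgroup.center Q)) uW = uW := by
    have h1 := hfixZ t htT ((gm : MulAut (Subgroup.center Q)) uW) hγu
    simp [hr, MulAut.mul_apply, h1]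
  set o := t * r with ho
  have hou : (o : MulAut (Subgroup.center Q)) uW = uW * vW := by
    rw [ho, Subgroup.coe_mul, MulAut.mul_apply, hru, htu]
  have hov : (o : MulAut (Subgroup.center Q)) vW = vW := by
    have htv : (t : MulAut (Subgroup.center Q)) vW = vW := hfixZ t htT vW hvZ
    rw [ho, Subgroup.coe_mul, MulAut.mul_apply, ← huv, map_pow, hru, huv, htv]
  have hopow : ∀ m : ℕ, ((o ^ m : f.range) : MulAut (Subgroup.center Q)) uW = uW * vW ^ m := by
    intro m
    induction m with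
    | zero => simp
    | succ m ih =>
      rw [pow_succ', Subgroup.coe_mul, MulAut.mul_apply, ih, map_mul, map_pow, hou, hov,
        mul_assoc, ← pow_succ']
  have hv2 : vW ^ 2 = 1 := by
    refine Subtype.ext (Subtype.ext ?_)
    show v ^ 2 = 1
    have e1 : (s * x * s⁻¹) * (s * x * s⁻¹) = 1 := by
      calc (s * x * s⁻¹) * (s * x * s⁻¹) = s * (x * x) * s⁻¹ := by group
        _ = 1 := by rw [hx2]; group
    have hc : Commute (s * x * s⁻¹) x := hxc _ (hsQ x hxQ)
    rw [pow_two, hv, hc.symm.mul_mul_mul_comm, e1, hx2, one_mul]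
  rcases Nat.even_or_odd (orderOf o) with ⟨k, hk⟩ | ⟨k, hk⟩
  · have hpos : 0 < orderOf o := orderOf_pos o
    set c := o ^ k with hc
    have hcc : c * c = 1 := by rw [hc, ← pow_add, ← hk, pow_orderOf_eq_one]
    have hc1 : c ≠ 1 := pow_ne_one_of_lt_orderOf (by omega) (by omega)
    have hcinv : c⁻¹ = c := inv_eq_of_mul_eq_one_right hcc
    have htinv : t⁻¹ = t := inv_eq_of_mul_eq_one_right htt
    have hrinv : r⁻¹ = r := inv_eq_of_mul_eq_one_right hrr
    have hconjt : t * o * t⁻¹ = o⁻¹ := by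
      rw [ho, mul_inv_rev t r, htinv, hrinv, ← mul_assoc, htt, one_mul]
    have hconjr : r * o * r⁻¹ = o⁻¹ := by
      rw [ho, mul_inv_rev t r, htinv, hrinv, mul_assoc r (t * r) r, mul_assoc t r r, hrr, mul_one]
    have hct : t * c = c * t := by
      have h1 : t * c * t⁻¹ = c := by rw [hc, ← conj_pow, hconjt, inv_pow, ← hc, hcinv]
      exact mul_inv_eq_iff_eq_mul.1 h1
    have hcr : r * c = c * r := by
      have h1 : r * c * r⁻¹ = c := by rw [hc, ← conj_pow, hconjr, inv_pow, ← hc, hcinv]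
      exact mul_inv_eq_iff_eq_mul.1 h1
    exact htu' (hsame c t hct.symm hcc htt hc1 uW (hsame r c hcr hrr hcc hr1 uW hru))
  · have h1 := hopow (orderOf o)
    rw [pow_orderOf_eq_one, hk, pow_succ, pow_mul, hv2, one_pow, one_mul] at h1
    exact hvWne ((mul_eq_left (a := uW)).1 h1.symm)

end Cfsg.Agent.S5274
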