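import Cfsg.Statements.S5275
import Cfsg.Agent.Lib.Fusion.ComplementCriterion

set_option autoImplicit false
open Cfsg

namespace Cfsg.Agent.S5275

/-- A Glauberman–Thompson nilpotency criterion for fusion systems relative to a strongly closed subgroup. Let p be an odd prime, F a saturated fusion system over a finite p-group S, and D a subgroup of S that is strongly closed in F. Let Z(J(D)) be the centre of the subgroup of D generated by the abelian subgroups of D of largest order. Then F is the inner fusion system of S if and only if the normalizer fusion system of Z(J(D)) in F is the inner fusion system of N_S(Z(J(D))) = S. -/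
theorem result {Ω : Type*} [Group Ω] {S : Subgroup Ω} [Finite S] (p : ℕ) [Fact p.Prime] (hS : IsPGroup p ↥S) (F : Cfsg.FusionSystem S) (hF : F.IsSaturated p) (hp : p ≠ 2) (D : Subgroup Ω) (hD : F.StronglyClosed D) : (∀ P : Subgroup Ω, F.Hom P = (Cfsg.innerFusionSystem S).Hom P) ↔ ∀ N : Cfsg.FusionSystem (Cfsg.FusionSystem.normalizerIn S (Cfsg.centerThompsonAOf D)), F.IsNormalizerSystem (Cfsg.centerThompsonAOf D) N → ∀ P : Subgroup Ω, N.Hom P = (Cfsg.innerFusionSystem (Cfsg.FusionSystem.normalizerIn S (Cfsg.centerThompsonAOf D))).Hom P := by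
  have hZS : Cfsg.centerThompsonAOf D ≤ S := (CfsgLib.Complement.centerThompsonAOf_le D).trans hD.1
  have hZn : Cfsg.FusionSystem.normalizerIn S (Cfsg.centerThompsonAOf D) = S :=
    inf_eq_left.2 ((CfsgLib.Fusion.StronglyClosed.le_normalizer hD).trans
      (CfsgLib.Complement.normalizer_le_normalizer_centerThompsonAOf D))
  constructor
  · intro h N hN P
    refine Set.ext fun φ => ⟨fun hφ => ?_, fun hφ => ?_⟩
    · rw [hN P] at hφ
      obtain ⟨hφF, hPN, -, -⟩ := hφ
      rw [h P] at hφF
      obtain ⟨-, g, hg, hgx⟩ := hφF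
      exact ⟨hPN, g, hZn.symm ▸ hg, hgx⟩
    · obtain ⟨hP, g, hg, hgx⟩ := hφ
      have : φ = Cfsg.conjHom P g := MonoidHom.ext hgx
      subst this
      exact N.conj_mem hP hg
  · intro hN
    refine CfsgLib.Fusion.eq_inner_of_functor_closed hS hF
      (CfsgLib.Fusion.centerThompsonComplement p hp) hD fun P hPS hZP α hα hinv hc => ?_
    have hNs := CfsgLib.Fusion.isNormalizerSystem_normalizerSys F (Cfsg.centerThompsonAOf D) hZS
    have hm := CfsgLib.Fusion.isMap_of_autGroup hPS hα
    haveI := CfsgLib.Fusion.finite_of_le hZS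
    have hZP : Cfsg.centerThompsonAOf D ≤ P := hZP
    have hi := hm.img_eq_of_forall hZP fun x hx => by
      rw [CfsgLib.Fusion.toFun_aut_apply α (hZP hx)]
      exact (hinv ⟨x, hZP hx⟩).1 hx
    have hmem : (P.subtype.comp α.toMonoidHom) ∈
        (CfsgLib.Fusion.normalizerSys F (Cfsg.centerThompsonAOf D) hZS).Hom P := by
      rw [hNs P, CfsgLib.Fusion.mem_normalizerHom_iff
        (f := CfsgLib.Fusion.toFun (P.subtype.comp α.toMonoidHom))
        (fun x => (CfsgLib.Fusion.toFun_apply _ x).symm)]
      exact ⟨hZn.symm ▸ hPS, fun x hx => hZn.symm ▸ hm.mem hx, _,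
        by rwa [sup_eq_left.2 (show Cfsg.centerThompsonAOf D ≤ P from hZP)], fun x _ => rfl, hi⟩
    rw [hN _ hNs P] at hmem
    obtain ⟨-, g, hg, hgx⟩ := hmem
    exact CfsgLib.Fusion.eq_one_of_conj hS hc hg.1 hgx

end Cfsg.Agent.S5275
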