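import Cfsg.Statements.S5276
import Cfsg.Agent.Lib.Fusion.Tate

set_option autoImplicit false
open Cfsg

namespace Cfsg.Agent.S5276

/-- Let p be a prime and F a saturated fusion system over a finite p-group S. Then F is the inner fusion system of S if and only if the normalizer fusion system of S itself in F is the inner fusion system (equivalently, Aut_F(S) is induced by S) and the Frattini subgroup Φ(S) is strongly closed in F. -/
theorem result {Ω : Type*} [Group Ω] {S : Subgroup Ω} [Finite S] (p : ℕ) [Fact p.Prime] (hS : IsPGroup p ↥S) (F : Cfsg.FusionSystem S) (hF : F.IsSaturated p) : (∀ P : Subgroup Ω, F.Hom P = (Cfsg.innerFusionSystem S).Hom P) ↔ (∀ N : Cfsg.FusionSystem (Cfsg.FusionSystem.normalizerIn S S), F.IsNormalizerSystem S N → ∀ P : Subgroup Ω, N.Hom P = (Cfsg.innerFusionSystem (Cfsg.FusionSystem.normalizerIn S S)).Hom P) ∧ F.StronglyClosed ((frattini ↥S).map S.subtype) := by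
  have hNS : Cfsg.FusionSystem.normalizerIn S S = S := inf_eq_left.2 Subgroup.le_normalizer
  constructor
  · intro h
    refine ⟨fun N hN P => ?_, ?_⟩
    · refine Set.ext fun φ => ⟨fun hφ => ?_, fun hφ => ?_⟩
      · rw [hN P] at hφ
        obtain ⟨hφF, hPN, -, -⟩ := hφ
        rw [h P] at hφF
        obtain ⟨-, g, hg, hgx⟩ := hφF
        exact ⟨hPN, g, hNS.symm ▸ hg, hgx⟩
      · obtain ⟨hP, g, hg, hgx⟩ := hφ
        rw [hNS] at hg
        have : φ = Cfsg.conjHom P g := MonoidHom.ext hgx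
        subst this
        exact N.conj_mem hP (hNS.symm ▸ hg)
    · refine ⟨Subgroup.map_subtype_le _, fun R hR φ hφ x => ?_⟩
      rw [h R] at hφ
      obtain ⟨-, g, hg, hgx⟩ := hφ
      rw [hgx x]
      obtain ⟨u, hu, hux⟩ := hR x.2
      refine ⟨⟨g, hg⟩ * u * ⟨g, hg⟩⁻¹, (inferInstance : (frattini ↥S).Normal).conj_mem u hu _, ?_⟩
      rw [map_mul, map_mul, map_inv, hux]
      rfl
  · rintro ⟨hN, hΦ⟩
    refine CfsgLib.Fusion.eq_inner_of_frattini_stronglyClosed hS hF (fun α hα hc => ?_) hΦ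
    have hm := CfsgLib.Fusion.isMap_of_autGroup le_rfl hα
    have hNs := CfsgLib.Fusion.isNormalizerSystem_normalizerSys F S le_rfl
    have hmem : (S.subtype.comp α.toMonoidHom) ∈
        (CfsgLib.Fusion.normalizerSys F S le_rfl).Hom S := by
      rw [hNs S, CfsgLib.Fusion.mem_normalizerHom_iff
        (f := CfsgLib.Fusion.toFun (S.subtype.comp α.toMonoidHom))
        (fun x => (CfsgLib.Fusion.toFun_apply _ x).symm)]
      refine ⟨hNS.ge, fun x hx => hNS.symm ▸ hm.mem hx, _, ?_, fun x _ => rfl,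
        CfsgLib.Fusion.img_toFun_aut α⟩
      rw [sup_idem]
      exact hm
    rw [hN _ hNs S] at hmem
    obtain ⟨-, g, hg, hgx⟩ := hmem
    rw [hNS] at hg
    have hinn : α = MulAut.conj (⟨g, hg⟩ : ↥S) := MulEquiv.ext fun x => Subtype.ext (hgx x)
    have hp : ∃ k : ℕ, orderOf α ∣ p ^ k := by
      obtain ⟨k, hk⟩ := hS ⟨g, hg⟩
      exact ⟨k, hinn ▸ orderOf_dvd_of_pow_eq_one (by rw [← map_pow, hk, map_one])⟩
    obtain ⟨k, hk⟩ := hp
    exact orderOf_eq_one_iff.1 (Nat.eq_one_of_dvd_coprimes (hc.pow_right k) dvd_rfl hk)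

end Cfsg.Agent.S5276
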