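import Cfsg.Statements.S5283
import Cfsg.Agent.Lib.Fusion.SupersolubleType

set_option autoImplicit false
open Cfsg

namespace Cfsg.Agent.S5283

/-- Call a saturated fusion system F over a finite p-group S supersoluble when S has a chain of subgroups 1 = S_0 ≤ S_1 ≤ … ≤ S_m = S, each strongly closed in F, with each S_{i+1} generated by S_i together with one further element (cyclic steps). Then every saturated fusion system over S is supersoluble if and only if S is normal in every saturated fusion system over S (S is resistant) and every subgroup of Aut(S) of order prime to p is abelian of exponent dividing p − 1. -/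
theorem result {Ω : Type*} [Group Ω] {S : Subgroup Ω} [Finite S] (p : ℕ) [Fact p.Prime] (hS : IsPGroup p ↥S) : (∀ F : Cfsg.FusionSystem S, F.IsSaturated p → (∃ (m : ℕ) (c : Fin (m + 1) → Subgroup Ω), c 0 = ⊥ ∧ c (Fin.last m) = S ∧ (∀ i : Fin (m + 1), F.StronglyClosed (c i)) ∧ ∀ i : Fin m, c i.castSucc ≤ c i.succ ∧ ∃ x ∈ S, c i.succ = c i.castSucc ⊔ Subgroup.zpowers x)) ↔ (∀ F : Cfsg.FusionSystem S, F.IsSaturated p → F.IsNormal S) ∧ ∀ H : Subgroup (MulAut ↥S), (Nat.card ↥H).Coprime p → IsMulCommutative ↥H ∧ ∀ h ∈ H, h ^ (p - 1) = 1 := by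
  constructor
  · intro hall
    refine ⟨fun F hF => CfsgLib.Fusion.isNormal_of_centralFrom hS hF
      (CfsgLib.Fusion.centralFrom_of_cyclicFrom hS hF (hall F hF) (Nat.card S) ⊥
        (CfsgLib.Fusion.IsNormal.stronglyClosed CfsgLib.Fusion.isNormal_bot) (Nat.le_add_left _ _)),
      fun H hH => ?_⟩
    obtain ⟨F, hF, hFH⟩ := CfsgLib.Fusion.exists_saturated_of_coprime_aut hS H hH
    obtain ⟨n, C, h0, hn, -, hsc, hstep⟩ :=
      CfsgLib.Fusion.centralFrom_of_cyclicFrom hS hF (hall F hF) (Nat.card S) ⊥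
        (CfsgLib.Fusion.IsNormal.stronglyClosed CfsgLib.Fusion.isNormal_bot) (Nat.le_add_left _ _)
    refine CfsgLib.Fusion.abelian_of_series hS H hH h0 hn
      (fun i a z hz => CfsgLib.Fusion.StronglyClosed.conj_mem (hsc i) a.2 hz)
      (fun i α hα z hz => ?_) (fun i => (hsc i).1) (fun i => (hstep i).2)
    have h1 := CfsgLib.Fusion.StronglyClosed.apply_mem (hsc i)
      (CfsgLib.Fusion.isMap_of_hom (hFH α hα)) z.2 hz
    rw [CfsgLib.Fusion.toFun_of_mem _ z.2] at h1
    exact h1
  · rintro ⟨hn, hH⟩ F hF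
    exact CfsgLib.Fusion.cyclicFrom_of_small_aut hS hF (hn F hF) hH

end Cfsg.Agent.S5283
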