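import Cfsg.Statements.S5284
import Cfsg.Agent.Lib.Fusion.SupersolubleAbelian

set_option autoImplicit false
open Cfsg

namespace Cfsg.Agent.S5284

/-- Let S be a finite abelian p-group. Every saturated fusion system over S is supersoluble (S has a chain of F-strongly closed subgroups from 1 to S with cyclic steps) if and only if the invariants of S are pairwise distinct, that is, S is not isomorphic to a direct product (Z/p^n × Z/p^n) × H with n ≥ 1. -/
theorem result {Ω : Type*} [Group Ω] {S : Subgroup Ω} [Finite S] (p : ℕ) [Fact p.Prime] (hS : IsPGroup p ↥S) (hab : IsMulCommutative ↥S) : (∀ F : Cfsg.FusionSystem S, F.IsSaturated p → (∃ (m : ℕ) (c : Fin (m + 1) → Subgroup Ω), c 0 = ⊥ ∧ c (Fin.last m) = S ∧ (∀ i : Fin (m + 1), F.StronglyClosed (c i)) ∧ ∀ i : Fin m, c i.castSucc ≤ c i.succ ∧ ∃ x ∈ S, c i.succ = c i.castSucc ⊔ Subgroup.zpowers x)) ↔ ¬ ∃ (n : ℕ) (H : Type) (_ : CommGroup H), 0 < n ∧ Nonempty (↥S ≃* (Multiplicative (ZMod (p ^ n)) × Multiplicative (ZMod (p ^ n))) × H) := by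
  haveI := hab
  have hp : p.Prime := Fact.out
  constructor
  · rintro hall ⟨n, H, hH, hn, ⟨e⟩⟩
    obtain ⟨F, hF, hno⟩ := CfsgLib.Fusion.exists_not_cyclicFrom (Z := Multiplicative (ZMod (p ^ n)))
      hS e (z := Multiplicative.ofAdd ((p ^ (n - 1) : ℕ) : ZMod (p ^ n)))
      (fun h => by
        have h1 : ((p ^ (n - 1) : ℕ) : ZMod (p ^ n)) = 0 := Multiplicative.ofAdd.injective h
        have h2 := Nat.le_of_dvd (pow_pos hp.pos _) ((ZMod.natCast_eq_zero_iff _ _).1 h1)
        exact absurd h2 (not_le.2 (Nat.pow_lt_pow_right hp.one_lt (by omega))))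
      (by
        rw [← ofAdd_nsmul, nsmul_eq_mul, ← Nat.cast_mul, ← pow_succ', show n - 1 + 1 = n by omega,
          ZMod.natCast_self, ofAdd_zero])
    exact hno (hall F hF)
  · intro hno F hF
    letI : CommGroup S :=
      { (inferInstance : Group S) with mul_comm := (IsMulCommutative.is_comm (M := S)).comm }
    obtain ⟨ι, hι, n, hn, ⟨e⟩⟩ := CommGroup.equiv_prod_multiplicative_zmod_of_finite S
    haveI := hι
    classical
    obtain ⟨N, hN⟩ := hS.exists_card_eq
    haveI : Finite ((i : ι) → Multiplicative (ZMod (n i))) := Finite.of_equiv _ e.toEquiv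
    have hpow : ∀ i, ∃ a, n i = p ^ a := fun i => by
      have h1 : n i ∣ p ^ N := by
        rw [← hN, Nat.card_congr e.toEquiv, Nat.card_pi]
        refine dvd_trans ?_ (Finset.dvd_prod_of_mem _ (Finset.mem_univ i))
        rw [Nat.card_congr Multiplicative.toAdd, Nat.card_zmod]
      obtain ⟨a, -, ha⟩ := (Nat.dvd_prime_pow hp).1 h1
      exact ⟨a, ha⟩
    choose a ha using hpow
    obtain rfl : n = fun i => p ^ a i := funext ha
    have hinj : Function.Injective a := fun i k hik => by
      by_contra hne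
      obtain ⟨q⟩ := CfsgLib.Fusion.exists_split_pair
        (fun j => Multiplicative (ZMod (p ^ a j))) hne
      refine hno ⟨a i, _, inferInstance, ?_, ⟨(e.trans q).trans
        (((MulEquiv.refl _).prodCongr (AddEquiv.toMultiplicative
          (ZMod.ringEquivCongr (by rw [hik])).toAddEquiv)).prodCongr (MulEquiv.refl _))⟩⟩
      by_contra h0
      exact absurd (hn i) (by simp [show a i = 0 by omega])
    exact CfsgLib.Fusion.cyclicFrom_bot_of_distinct hS hinj e hF

end Cfsg.Agent.S5284
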