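import Cfsg.Statements.S5287
import Cfsg.Agent.S5212
import Cfsg.Agent.S5283
import Cfsg.Agent.Lib.Invol.MetacyclicClosed
import Cfsg.Agent.Lib.Invol.MetacyclicChar
import Cfsg.Agent.Lib.Invol.SmallTwoModels
import Mathlib

set_option autoImplicit false
open Cfsg

namespace Cfsg.Agent.S5287

open Subgroup Cfsg.FusionSystem CfsgLib.Fusion CfsgLib.Invol.SmallTwoModels

/-- An automorphism of order three of the quaternion group of order eight. -/
def rotQ : QuaternionGroup 2 → QuaternionGroup 2
  | .a i => if i = 0 then .a 0 else if i = 1 then .xa 0 else if i = 2 then .a 2 else .xa 2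
  | .xa i => if i = 0 then .xa 1 else if i = 1 then .a 1 else if i = 2 then .xa 3 else .a 3

theorem exists_rotQ : ∃ φ : MulAut (QuaternionGroup 2), φ ≠ 1 ∧ φ ^ 3 = 1 := by
  have hinv : ∀ x, rotQ (rotQ (rotQ x)) = x := by decide
  have hmul : ∀ x y, rotQ (x * y) = rotQ x * rotQ y := by decide
  refine ⟨⟨⟨rotQ, fun x => rotQ (rotQ x), hinv, hinv⟩, hmul⟩, fun h => ?_, MulEquiv.ext hinv⟩
  have h1 := DFunLike.congr_fun h (QuaternionGroup.a 1)
  revert h1
  simp only [MulAut.one_apply, MulEquiv.coe_mk, Equiv.coe_fn_mk]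
  decide

theorem small_of_homocyclic_fun {A : Type*} [Group A] [Finite A] (hm : Cfsg.IsMetacyclic A) {n k : ℕ}
    (hn : 1 ≤ n) (e : A ≃* Multiplicative (Fin k → ZMod (2 ^ n))) : k ≤ 2 := by
  classical
  let V := Multiplicative (Fin k → ZMod (2 ^ n))
  have hmV : Cfsg.IsMetacyclic V := CfsgLib.OddLocal.isMetacyclic_of_equiv e hm
  let E : Subgroup V := (powMonoidHom 2).ker
  have h := CfsgLib.OddLocal.card_le_sq_of_metacyclic hmV Nat.prime_two E fun x hx => hx
  have hz : ((2 ^ (n - 1) : ℕ) : ZMod (2 ^ n)) ≠ 0 := by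
    rw [Ne, ZMod.natCast_eq_zero_iff, Nat.pow_dvd_pow_iff_le_right one_lt_two]
    omega
  let f : (Fin k → Bool) → E := fun v =>
    ⟨Multiplicative.ofAdd fun i => if v i then ((2 ^ (n - 1) : ℕ) : ZMod (2 ^ n)) else 0, by
      show _ ^ 2 = (1 : V)
      apply Multiplicative.toAdd.injective
      funext i
      rw [sq, toAdd_mul, toAdd_one, toAdd_ofAdd, Pi.add_apply, Pi.zero_apply]
      split_ifs with hv
      · rw [← Nat.cast_add, ← two_mul, ← pow_succ', show n - 1 + 1 = n by omega, ZMod.natCast_self]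
      · rw [add_zero]⟩
  have hf : Function.Injective f := fun v w hvw => by
    funext i
    have := congrFun (congrArg (fun t : E => Multiplicative.toAdd t.1) hvw) i
    simp only [f, toAdd_ofAdd] at this
    cases hv : v i <;> cases hw : w i <;> simp [hv, hw] at this ⊢ <;>
      first | exact hz (by simpa using this) | exact hz (by simpa using this.symm)
  have h2 := Nat.card_le_card_of_injective f hf
  rw [Nat.card_fun, Nat.card_fin, Nat.card_eq_fintype_card (α := Bool), Fintype.card_bool] at h2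
  exact (Nat.pow_le_pow_iff_right one_lt_two).1 (h2.trans h)

/-- Let S be a finite metacyclic p-group (an extension of a cyclic group by a cyclic group). Every saturated fusion system over S is supersoluble (S has a chain of F-strongly closed subgroups from 1 to S with cyclic steps) if and only if S is not homocyclic of rank two (isomorphic to Z/p^n × Z/p^n with n ≥ 1) and, when p = 2, S is not dihedral of order at least 4, not quasi-dihedral (semidihedral) and not generalized quaternion of order at least 8. -/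
theorem result {Ω : Type*} [Group Ω] {S : Subgroup Ω} [Finite S] (p : ℕ) [Fact p.Prime] (hS : IsPGroup p ↥S) (hm : Cfsg.IsMetacyclic ↥S) : (∀ F : Cfsg.FusionSystem S, F.IsSaturated p → (∃ (m : ℕ) (c : Fin (m + 1) → Subgroup Ω), c 0 = ⊥ ∧ c (Fin.last m) = S ∧ (∀ i : Fin (m + 1), F.StronglyClosed (c i)) ∧ ∀ i : Fin m, c i.castSucc ≤ c i.succ ∧ ∃ x ∈ S, c i.succ = c i.castSucc ⊔ Subgroup.zpowers x)) ↔ ¬ ((∃ n : ℕ, 0 < n ∧ Nonempty (↥S ≃* Multiplicative (ZMod (p ^ n)) × Multiplicative (ZMod (p ^ n)))) ∨ (p = 2 ∧ ((∃ n : ℕ, 2 ≤ n ∧ Nonempty (↥S ≃* DihedralGroup n)) ∨ Cfsg.IsQuasiDihedral ↥S ∨ (∃ n : ℕ, 2 ≤ n ∧ Nonempty (↥S ≃* QuaternionGroup n))))) := by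
  classical
  have hp : p.Prime := Fact.out
  constructor
  · intro hall
    obtain ⟨hnorm, haut⟩ := (Cfsg.Agent.S5283.result p hS).1 hall
    rintro (⟨n, hn, ⟨e⟩⟩ | ⟨rfl, hcase⟩)
    · have hp1 : 1 < p ^ n := Nat.one_lt_pow (by omega) hp.one_lt
      obtain ⟨F, hF, hnc⟩ := CfsgLib.Fusion.exists_not_cyclicFrom hS (e.trans
          (MulEquiv.prodUnique (M := Multiplicative (ZMod (p ^ n)) × Multiplicative (ZMod (p ^ n)))
            (N := PUnit.{1})).symm)
        (z := Multiplicative.ofAdd (((p ^ (n - 1) : ℕ)) : ZMod (p ^ n))) (by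
          rw [Ne, ofAdd_eq_one, ZMod.natCast_eq_zero_iff, Nat.pow_dvd_pow_iff_le_right hp.one_lt]
          omega) (by
          rw [← ofAdd_nsmul, ofAdd_eq_one, nsmul_eq_mul, ← Nat.cast_mul, ← pow_succ',
            show n - 1 + 1 = n by omega, ZMod.natCast_self])
      exact hnc (hall F hF)
    have hkey : IsPGroup 2 (MulAut S) → Fuses 2 S → False := fun hA hfu => by
      obtain ⟨F, hF, hn⟩ := exists_not_normal hS hA hfu
      exact hn (hnorm F hF)
    have hpow : ∀ n : ℕ, ∀ c : ℕ, c ≠ 0 → Nat.card S = c * n → ∃ k, n = 2 ^ k := fun n c hc h => by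
      obtain ⟨m, hm'⟩ := hS.exists_card_eq
      obtain ⟨k, -, hk⟩ := (Nat.dvd_prime_pow Nat.prime_two).1 (hm' ▸ h ▸ dvd_mul_left n c)
      exact ⟨k, hk⟩
    rcases hcase with ⟨n, hn, ⟨e⟩⟩ | hqd | ⟨n, hn, ⟨e⟩⟩
    · obtain ⟨k, rfl⟩ := hpow n 2 two_ne_zero (by rw [Nat.card_congr e.toEquiv, DihedralGroup.nat_card])
      rcases Nat.lt_or_ge k 2 with hk | hk
      · -- the four-group
        obtain rfl : k = 1 := by
          rcases k with _ | k
          · norm_num at hn
          · omega
        haveI : IsKleinFour (DihedralGroup (2 ^ 1)) := by rw [pow_one]; infer_instance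
        haveI : IsKleinFour (Multiplicative (ZMod 2) × Multiplicative (ZMod 2)) :=
          ⟨by rw [Nat.card_prod, Nat.card_congr Multiplicative.toAdd, Nat.card_zmod],
            by rw [Monoid.exponent_prod]; simp [Monoid.exponent_multiplicative, ZMod.exponent]⟩
        obtain ⟨e'⟩ := IsKleinFour.nonempty_mulEquiv (G₁ := DihedralGroup (2 ^ 1))
          (G₂ := Multiplicative (ZMod 2) × Multiplicative (ZMod 2))
        obtain ⟨F, hF, hnc⟩ := CfsgLib.Fusion.exists_not_cyclicFrom hS ((e.trans e').trans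
            (MulEquiv.prodUnique (M := Multiplicative (ZMod 2) × Multiplicative (ZMod 2))
              (N := PUnit.{1})).symm)
          (z := Multiplicative.ofAdd (1 : ZMod 2)) (by rw [Ne, ofAdd_eq_one]; exact one_ne_zero)
          (by rw [← ofAdd_nsmul, ofAdd_eq_one]; rfl)
        exact hnc (hall F hF)
      · exact hkey ((isPGroup_mulAut_dihedral hk).of_equiv (MulAut.congr e.symm))
          (Fuses.congr e (fuses_dihedral hk))
    · exact hkey (isPGroup_mulAut_qd hqd) (fuses_qd hqd)
    · obtain ⟨k, rfl⟩ := hpow n 4 four_ne_zero (by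
        haveI : NeZero n := ⟨by omega⟩
        rw [Nat.card_congr e.toEquiv, Nat.card_eq_fintype_card, QuaternionGroup.card])
      rcases Nat.lt_or_ge k 2 with hk | hk
      · obtain rfl : k = 1 := by
          rcases k with _ | k
          · norm_num at hn
          · omega
        obtain ⟨φ, hφ, hφ3⟩ := exists_rotQ
        set ψ : MulAut S := MulAut.congr e.symm φ
        have hψ3 : ψ ^ 3 = 1 := by rw [← map_pow]; exact (congrArg _ hφ3).trans (map_one _)
        have hd : orderOf ψ ∣ 3 := orderOf_dvd_of_pow_eq_one hψ3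
        have h1 := (haut (zpowers ψ) (by
          rw [Nat.card_zpowers]; exact Nat.Coprime.coprime_dvd_left hd (by norm_num))).2 ψ (mem_zpowers ψ)
        rw [show 2 - 1 = 1 from rfl, pow_one] at h1
        exact hφ ((MulAut.congr e.symm).injective (h1.trans (map_one _).symm))
      · exact hkey ((isPGroup_mulAut_quaternion hk).of_equiv (MulAut.congr e.symm))
          (Fuses.congr e (fuses_quaternion hk))
  intro hnot F hF
  have hbot : F.StronglyClosed ⊥ := IsNormal.stronglyClosed isNormal_bot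
  by_cases hcyc : IsCyclic S
  · obtain ⟨g, hg⟩ := hcyc.exists_generator
    refine CyclicFrom.cons cyclicFrom_self hbot g.2 ?_
    rw [bot_sup_eq]
    exact le_antisymm (fun x hx => by
      obtain ⟨k, hk⟩ := mem_zpowers_iff.1 (hg ⟨x, hx⟩)
      exact mem_zpowers_iff.2 ⟨k, congrArg Subtype.val hk⟩) (zpowers_le.2 g.2)
  rcases eq_or_ne p 2 with rfl | hp2
  · have hh : ¬ ∃ n k : ℕ, Nonempty (S ≃* Multiplicative (Fin k → ZMod (2 ^ n))) := by
      rintro ⟨n, k, ⟨e⟩⟩
      rcases Nat.eq_zero_or_pos n with rfl | hn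
      · haveI : Subsingleton (ZMod (2 ^ 0)) := by rw [pow_zero]; infer_instance
        haveI := e.injective.subsingleton
        exact hcyc inferInstance
      have hk := small_of_homocyclic_fun hm hn e
      interval_cases k
      · haveI := e.injective.subsingleton
        exact hcyc inferInstance
      · refine hcyc ((e.trans (AddEquiv.piUnique (fun _ : Fin 1 => ZMod (2 ^ n))).toMultiplicative).isCyclic.2
          inferInstance)
      · obtain ⟨e'⟩ := Cfsg.Agent.S5212.finTwo_equiv (ZMod (2 ^ n))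
        exact hnot (Or.inl ⟨n, hn, ⟨e.trans e'.symm⟩⟩)
    have hd : ¬ ∃ m : ℕ, Nonempty (S ≃* DihedralGroup m) := by
      rintro ⟨m, ⟨e⟩⟩
      rcases m with _ | _ | m
      · haveI := Finite.of_equiv S e.toEquiv
        have h := Nat.card_pos (α := DihedralGroup 0)
        rw [DihedralGroup.nat_card] at h
        omega
      · refine hcyc (isCyclic_of_prime_card (p := 2) ?_)
        rw [Nat.card_congr e.toEquiv, DihedralGroup.nat_card]
      · exact hnot (Or.inr ⟨rfl, Or.inl ⟨m + 2, by omega, ⟨e⟩⟩⟩)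
    have hq : ¬ ∃ m : ℕ, Nonempty (S ≃* QuaternionGroup m) := by
      rintro ⟨m, ⟨e⟩⟩
      rcases m with _ | _ | m
      · haveI := Finite.of_equiv S e.toEquiv
        haveI : Infinite (QuaternionGroup 0) :=
          Infinite.of_injective (fun i : ℤ => QuaternionGroup.a (n := 0) i)
            fun i j h => QuaternionGroup.a.inj h
        exact not_finite (QuaternionGroup 0)
      · haveI : IsCyclic (QuaternionGroup (0 + 1)) := QuaternionGroup.quaternionGroup_one_isCyclic
        exact hcyc (e.isCyclic.2 inferInstance)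
      · exact hnot (Or.inr ⟨rfl, Or.inr (Or.inr ⟨m + 2, by omega, ⟨e⟩⟩)⟩)
    have hsd : ¬ Cfsg.IsQuasiDihedral S := fun h => hnot (Or.inr ⟨rfl, Or.inr (Or.inl h)⟩)
    have hinner := Cfsg.Agent.S5212.result hS F hF hm hh hd hq hsd
    obtain ⟨N, hN, hNc, hQc⟩ := hm
    haveI := hN
    have hsc : F.StronglyClosed (N.map S.subtype) := by
      refine ⟨map_subtype_le N, fun X hX φ hφ => ?_⟩
      rw [hinner] at hφ
      obtain ⟨hXS, a, ha, hax⟩ := hφ
      intro x
      obtain ⟨z, hz, hzx⟩ := hX x.2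
      refine ⟨⟨a, ha⟩ * z * ⟨a, ha⟩⁻¹, hN.conj_mem z hz _, ?_⟩
      rw [hax]
      simp [← hzx]
    obtain ⟨g, hg⟩ := (Subgroup.isCyclic_iff_exists_zpowers_eq_top N).1 hNc
    obtain ⟨q, hq'⟩ := hQc.exists_generator
    obtain ⟨b, rfl⟩ := QuotientGroup.mk_surjective q
    refine CyclicFrom.cons (CyclicFrom.cons cyclicFrom_self hsc b.2 ?_) hbot g.2 ?_
    · refine le_antisymm (fun x hx => ?_) (sup_le (map_subtype_le N) (zpowers_le.2 b.2))
      obtain ⟨j, hj⟩ := mem_zpowers_iff.1 (hq' ((⟨x, hx⟩ : S) : S ⧸ N))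
      rw [← QuotientGroup.mk_zpow, eq_comm] at hj
      have h1 := QuotientGroup.eq.1 hj
      have h2 : x = ((⟨x, hx⟩ : S) * ((⟨x, hx⟩ : S)⁻¹ * b ^ j) * ((⟨x, hx⟩ : S))⁻¹ : S)⁻¹ * (b : Ω) ^ j := by
        simp [mul_assoc]
      rw [h2]
      exact Subgroup.mul_mem _
        (mem_sup_left (Subgroup.inv_mem _ (mem_map_of_mem S.subtype (hN.conj_mem _ h1 _))))
        (mem_sup_right (Subgroup.zpow_mem _ (mem_zpowers _) j))
    · rw [bot_sup_eq, ← hg, MonoidHom.map_zpowers]
      rfl
  · have hh : ¬ ∃ n : ℕ, 0 < n ∧ Nonempty (S ≃* Multiplicative (ZMod (p ^ n)) × Multiplicative (ZMod (p ^ n))) :=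
      fun h => hnot (Or.inl h)
    obtain ⟨M, hMc, hM⟩ := CfsgLib.Invol.MetacyclicChar.exists_char_index_p hp2 hS hm hcyc hh
    haveI := hMc
    have hΦ : (frattini S).index = p ^ 2 := by
      have hle : Nat.card (S ⧸ frattini S) ≤ p ^ 2 := by
        rw [← card_top (G := S ⧸ frattini S)]
        exact CfsgLib.OddLocal.card_le_sq_of_metacyclic (CfsgLib.Invol.isMetacyclic_quotient hm _) hp ⊤
          fun x _ => by
            obtain ⟨y, rfl⟩ := QuotientGroup.mk_surjective x
            rw [← QuotientGroup.mk_pow, QuotientGroup.eq_one_iff]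
            exact CfsgLib.Transfer.pow_mem_frattini hS y
      obtain ⟨j, hj⟩ := (hS.to_quotient (frattini S)).exists_card_eq
      rw [hj, Nat.pow_le_pow_iff_right hp.one_lt] at hle
      rw [index_eq_card, hj]
      interval_cases j
      · exfalso
        rw [pow_zero, Nat.card_eq_one_iff_unique] at hj
        refine hcyc ((CfsgLib.Invol.MetacyclicChar.cyclic_of_sup_frattini (1 : S) fun y => ?_))
        haveI := hj.1
        exact mem_sup_right ((QuotientGroup.eq_one_iff y).1 (Subsingleton.elim _ _))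
      · exfalso
        rw [pow_one] at hj
        haveI : IsCyclic (S ⧸ frattini S) := isCyclic_of_prime_card hj
        obtain ⟨q, hq⟩ := IsCyclic.exists_generator (α := S ⧸ frattini S)
        obtain ⟨b, rfl⟩ := QuotientGroup.mk_surjective q
        refine hcyc (CfsgLib.Invol.MetacyclicChar.cyclic_of_sup_frattini b fun y => ?_)
        obtain ⟨i, hi⟩ := mem_zpowers_iff.1 (hq y)
        rw [← QuotientGroup.mk_zpow] at hi
        have h3 := mul_mem (mem_sup_left (T := frattini S) (zpow_mem (mem_zpowers b) i))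
          (mem_sup_right (S := zpowers b) (QuotientGroup.eq.1 hi))
        rwa [mul_inv_cancel_left] at h3
      · rfl
    exact CfsgLib.Fusion.cyclicFrom_of_small_aut hS hF
      (CfsgLib.Invol.MetacyclicClosed.isNormal hS hF hp2 stronglyClosed_top_self hm)
      (CfsgLib.Invol.MetacyclicChar.small_aut_of_char hS M hM hΦ)

end Cfsg.Agent.S5287
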