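import Cfsg.Statements.S5291
import Cfsg.Agent.Lib.Fusion.InvariantTransport

set_option autoImplicit false
open Cfsg

namespace Cfsg.Agent.S5291

/-- Let F be a saturated fusion system over a finite p-group S and E a weakly normal subsystem of F over a subgroup T. Suppose a subgroup R of T is normal in E (E = N_E(R)), and let R* be the subgroup of T generated by the images of R under all maps of F with source R. Then R* is normal in F (F = N_F(R*)). -/
theorem result {Ω : Type*} [Group Ω] {S : Subgroup Ω} [Finite S] (p : ℕ) [Fact p.Prime] (hS : IsPGroup p S)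
    (F : Cfsg.FusionSystem S) (hF : F.IsSaturated p)
    {T : Subgroup Ω} (E : Cfsg.FusionSystem T) (hE : E.IsWeaklyNormalIn F p)
    (R : Subgroup Ω) (hR : E.IsNormal R) :
    F.IsNormal (Subgroup.closure {x : Ω | ∃ φ ∈ F.Hom R, ∃ r : R, x = φ r}) := by
  classical
  obtain ⟨hEs, -, hinvt⟩ := hE
  have hsub := hinvt.1
  have hsc : F.StronglyClosed T := hinvt.2.1
  have hfr := hinvt.2.2.2
  have hT : T ≤ S := hsc.1
  haveI : Finite T := CfsgLib.Fusion.finite_of_le hT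
  set Z : Subgroup Ω := Subgroup.closure {x : Ω | ∃ φ ∈ F.Hom R, ∃ r : R, x = φ r} with hZ
  have hRE := CfsgLib.Fusion.IsNormal.stronglyClosed hR
  -- the generators are images of `R` under automorphisms of `T`
  have hgen : ∀ x : Ω, (∃ φ ∈ F.Hom R, ∃ r : R, x = φ r) ↔
      ∃ α ∈ F.autGroup T, ∃ r ∈ R, x = CfsgLib.Fusion.autFun α r := by
    intro x
    constructor
    · rintro ⟨φ, hφ, r, rfl⟩
      obtain ⟨α, hα, φ₀, hφ₀, hαx⟩ := hfr R hR.1 φ hφ
      have hr : φ₀ r ∈ R := hRE.2 R le_rfl φ₀ hφ₀ r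
      exact ⟨α, hα, _, hr, by rw [CfsgLib.Fusion.autFun_apply α (hR.1 hr)]; exact hαx r (hR.1 hr)⟩
    · rintro ⟨α, hα, r, hr, rfl⟩
      have hm := (CfsgLib.Fusion.isMap_autFun hT hα).mono hR.1
      exact ⟨hm.toHom, hm.toHom_mem, ⟨r, hr⟩, rfl⟩
  have himg : ∀ α ∈ F.autGroup T, CfsgLib.Fusion.img R (CfsgLib.Fusion.autFun α) ≤ Z := by
    intro α hα y hy
    obtain ⟨r, hr, rfl⟩ :=
      (CfsgLib.Fusion.mem_img_autFun (CfsgLib.Fusion.isMap_autFun hT hα) hR.1).1 hy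
    exact Subgroup.subset_closure ((hgen _).2 ⟨α, hα, r, hr, rfl⟩)
  have hZT : Z ≤ T := (Subgroup.closure_le _).2 fun x hx => by
    obtain ⟨α, hα, r, hr, rfl⟩ := (hgen x).1 hx
    exact CfsgLib.Fusion.autFun_mem α (hR.1 hr)
  have hZn : E.IsNormal Z := by
    have h1 := CfsgLib.Fusion.exists_max_of_sup_closed (S := T)
      (fun Q => E.IsNormal Q ∧ Q ≤ Z)
      ⟨CfsgLib.Fusion.isNormal_bot, bot_le⟩ (fun _ h => h.1.1)
      fun _ _ h h' => ⟨CfsgLib.Fusion.isNormal_sup h.1 h'.1, sup_le h.2 h'.2⟩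
    have h2 : sSup {Q | E.IsNormal Q ∧ Q ≤ Z} = Z := by
      refine le_antisymm h1.2 ((Subgroup.closure_le _).2 fun x hx => ?_)
      obtain ⟨α, hα, r, hr, rfl⟩ := (hgen x).1 hx
      exact (le_sSup (show CfsgLib.Fusion.img R (CfsgLib.Fusion.autFun α) ∈
          {Q | E.IsNormal Q ∧ Q ≤ Z} from
          ⟨CfsgLib.Fusion.IsInvariantIn.isNormal_img hinvt hα hR, himg α hα⟩))
        (((CfsgLib.Fusion.isMap_autFun hT hα).mono hR.1).apply_mem_img hr)
    exact h2 ▸ h1.1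
  have hZinv : ∀ α ∈ F.autGroup T, ∀ z ∈ Z, CfsgLib.Fusion.autFun α z ∈ Z := by
    intro α hα
    have hm := (CfsgLib.Fusion.isMap_autFun hT hα).mono hZT
    intro z hz
    have hz' : (⟨z, hz⟩ : Z) ∈ Z.comap hm.toHom := by
      have htop : (⊤ : Subgroup Z) ≤ Z.comap hm.toHom := by
        rw [← Subgroup.closure_closure_coe_preimage
          (k := {x : Ω | ∃ φ ∈ F.Hom R, ∃ r : R, x = φ r})]
        refine (Subgroup.closure_le _).2 fun y hy => ?_
        obtain ⟨β, hβ, r, hr, hyr⟩ := (hgen _).1 hy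
        refine Subgroup.subset_closure ((hgen _).2 ⟨α * β, mul_mem hα hβ, r, hr, ?_⟩)
        rw [CfsgLib.Fusion.autFun_mul_apply _ _ (hR.1 hr), ← hyr]
        rfl
      exact htop trivial
    exact hz'
  refine CfsgLib.Fusion.isNormal_of_maps_extend hS hF (hZT.trans hT) fun P f hf hPZ => ?_
  obtain ⟨α, hα, φ₀, hφ₀, hαx⟩ := hfr P (hPZ.trans hZT) hf.toHom hf.toHom_mem
  obtain ⟨g, hg, hgx, hgZ⟩ := (CfsgLib.Fusion.isNormal_iff.1 hZn).2 P _
    (CfsgLib.Fusion.isMap_of_hom hφ₀)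
  have hg' : CfsgLib.Fusion.IsMap F Z g := by
    have h0 := hg.mono (le_sup_right : Z ≤ P ⊔ Z)
    exact ⟨h0.toHom, hsub Z h0.toHom_mem, fun x => rfl⟩
  have hgz : ∀ z ∈ Z, g z ∈ Z := fun z hz => by
    have h1 := (hg.mono (le_sup_right : Z ≤ P ⊔ Z)).apply_mem_img hz
    rwa [hgZ] at h1
  have hc := hg'.comp ((CfsgLib.Fusion.isMap_autFun hT hα).mono hZT) hgz
  haveI : Finite Z := CfsgLib.Fusion.finite_of_le hZT
  have hci : CfsgLib.Fusion.img Z (fun x => CfsgLib.Fusion.autFun α (g x)) = Z := by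
    refine CfsgLib.Fusion.eq_of_le_of_card_le (fun y hy => ?_) hc.card_img.ge
    obtain ⟨z, hz, rfl⟩ := hc.mem_img.1 hy
    exact hZinv α hα _ (hgz z hz)
  refine ⟨hc.toAut hci, hc.toAut_mem hci, fun x hx hxZ => ?_⟩
  rw [CfsgLib.Fusion.IsMap.toAut_apply]
  have hm : φ₀ ⟨x, hx⟩ ∈ T := (E.le_of_mem hφ₀).2 _
  show CfsgLib.Fusion.autFun α (g x) = f x
  rw [hgx x hx, CfsgLib.Fusion.toFun_of_mem φ₀ hx, CfsgLib.Fusion.autFun_apply α hm,
    ← hαx ⟨x, hx⟩ hm]
  rfl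

end Cfsg.Agent.S5291
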