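import Cfsg.Statements.S5299
import Cfsg.Agent.Lib.Fusion.FactorSectionFree
import Cfsg.Agent.Lib.PLocal.QdFree

set_option autoImplicit false
universe u
open Cfsg

namespace Cfsg.Agent.S5299

/-- Let F be a saturated fusion system over a finite p-group S, H a finite group and Q a p-subgroup of H. If Q is not involved in S (no section of S is isomorphic to Q), then F is H-free: H is involved in no model of the normalizer system of a fully normalized centric subgroup. -/
theorem result {Ω : Type u} [Group Ω] {S : Subgroup Ω} [Finite S] (p : ℕ) [Fact p.Prime] (hS : IsPGroup p S)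
    (F : Cfsg.FusionSystem S) (hF : F.IsSaturated p) (H : Type*) [Group H] [Finite H] (Q : Subgroup H) (hQ : IsPGroup p Q)
    (hfree : ¬ Cfsg.Involves (↥Q) (↥S)) : F.IsSectionFree p H := by
  intro Q' hQn hQc N hN L _ ι hm hinv
  obtain ⟨hfin, hr, ⟨T, hT⟩, -⟩ := hm
  haveI := hfin
  obtain ⟨K, f, hf⟩ := CfsgLib.PLocal.exists_sec_of_involves hinv
  let K₁ : Subgroup K := Q.comap f
  let f₁ : K₁ →* Q := f.subgroupComap Q
  have hf₁ : Function.Surjective f₁ := fun q => by
    obtain ⟨k, hk⟩ := hf q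
    exact ⟨⟨k, by show f k ∈ Q; rw [hk]; exact q.2⟩, Subtype.ext hk⟩
  obtain ⟨P₁⟩ := (inferInstance : Nonempty (Sylow p K₁))
  have hsur : Function.Surjective (f₁.comp (P₁ : Subgroup K₁).subtype) := by
    intro q
    have htop : (P₁.mapSurjective hf₁ : Subgroup Q) = ⊤ :=
      ((P₁.mapSurjective hf₁).is_maximal' (hQ.to_subgroup ⊤) le_top).symm
    have hq : q ∈ (P₁ : Subgroup K₁).map f₁ := by
      show q ∈ (P₁.mapSurjective hf₁ : Subgroup Q)
      rw [htop]
      exact Subgroup.mem_top q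
    obtain ⟨x, hx, hxq⟩ := hq
    exact ⟨⟨x, hx⟩, hxq⟩
  let j₀ : K₁ →* L := K.subtype.comp K₁.subtype
  have hj₀ : Function.Injective j₀ := K.subtype_injective.comp K₁.subtype_injective
  obtain ⟨T₁, hT₁⟩ := (P₁.isPGroup'.map j₀).exists_le_sylow
  obtain ⟨g, hg⟩ := MulAction.exists_smul_eq L T₁ T
  have hmem : ∀ x : (P₁ : Subgroup K₁), MulAut.conj g (j₀ x) ∈ ι.range := fun x => by
    rw [← hT, ← hg, Sylow.coe_subgroup_smul]
    exact Subgroup.smul_mem_pointwise_smul _ (MulAut.conj g) _ (hT₁ ⟨x, x.2, rfl⟩)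
  let e := (MonoidHom.ofInjective hr.1).symm
  have hTS : Cfsg.FusionSystem.normalizerIn S Q' ≤ S := inf_le_left
  let j : (P₁ : Subgroup K₁) →* S := ((Subgroup.inclusion hTS).comp e.toMonoidHom).comp
    (((MulAut.conj g).toMonoidHom.comp (j₀.comp (P₁ : Subgroup K₁).subtype)).codRestrict ι.range hmem)
  have hj : Function.Injective j := fun a b h => by
    have h1 := e.injective (Subgroup.inclusion_injective hTS h)
    exact Subtype.ext (hj₀ ((MulAut.conj g).injective (congrArg Subtype.val h1)))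
  refine hfree (CfsgLib.Fusion.involves_of_hom j hj ?_)
  refine CfsgLib.PLocal.involves_of_sec (K := (⊤ : Subgroup (P₁ : Subgroup K₁)))
    ((f₁.comp (P₁ : Subgroup K₁).subtype).comp (⊤ : Subgroup (P₁ : Subgroup K₁)).subtype) fun q => ?_
  obtain ⟨x, hx⟩ := hsur q
  exact ⟨⟨x, Subgroup.mem_top x⟩, hx⟩

end Cfsg.Agent.S5299
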