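import Cfsg.Statements.S5301
import Cfsg.Agent.Lib.Fusion.NormalCriteria

set_option autoImplicit false
universe u
open Cfsg

namespace Cfsg.Agent.S5301

open scoped commutatorElement

/-- Let F be a saturated fusion system over a finite p-group S. If for every subgroup P of S that is fully normalized, centric and radical in F the automorphism group that F induces on P has a normal Sylow p-subgroup, then S is normal in F. -/
theorem result {Ω : Type u} [Group Ω] {S : Subgroup Ω} [Finite S] (p : ℕ) [Fact p.Prime] (hS : IsPGroup p S)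
    (F : Cfsg.FusionSystem S) (hF : F.IsSaturated p)
    (hcl : ∀ P : Subgroup Ω, F.IsFullyNormalized P → F.IsCentric P → F.IsRadical p P →
      ∃ R : Sylow p ↥(F.autGroup P), (R : Subgroup ↥(F.autGroup P)).Normal) :
    F.IsNormal S := by
  have hle : ∀ P : Subgroup Ω, F.IsFullyNormalized P → F.IsCentric P → F.IsRadical p P → P = S := by
    intro P hn hc hr
    haveI := CfsgLib.Fusion.finite_of_le hc.1
    obtain ⟨R, hR⟩ := hcl P hn hc hr
    obtain ⟨T, hT⟩ := (CfsgLib.Fusion.fullyAutomized_of_fullyNormalized hS hF hn).2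
    haveI := hR
    have hTn : (T : Subgroup (F.autGroup P)).Normal := by
      haveI := Sylow.unique_of_normal R hR
      exact (Subsingleton.elim R T) ▸ hR
    refine le_antisymm hc.1 (CfsgLib.Fusion.le_of_normalizer_inf_le hS hc.1 le_rfl
      (fun a ha => Subgroup.le_normalizer (hc.1 ha)) fun a haS haP => ?_)
    haveI := hTn
    refine CfsgLib.Fusion.mem_of_aut_mem_pGroup hc hr (T : Subgroup (F.autGroup P)) T.2
      ⟨haS, haP⟩ fun α hα => ?_
    rw [hT, Subgroup.mem_subgroupOf, hα]
    exact CfsgLib.Fusion.mem_autInducedBy_iff.2 ⟨a, haS, fun x => rfl⟩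
  refine CfsgLib.Fusion.isNormal_of_alperin hS hF le_rfl fun P hP => ?_
  have hPS : P ≤ S := hP.elim (fun e => e.le) fun e => e.1.1
  refine ⟨?_, fun α hα x _ => hPS (α x).2⟩
  rcases hP with rfl | hP
  · exact le_rfl
  · exact (hle P hP.2.1 hP.1 (CfsgLib.Fusion.essential_isRadical hS hF hP)).ge

end Cfsg.Agent.S5301
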