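import Cfsg.Statements.S5306
import Cfsg.Agent.Lib.Fusion.QuotientLift

set_option autoImplicit false
open Cfsg

namespace Cfsg.Agent.S5306

/-- Let P be a Sylow p-subgroup of the finite group X and J = J(P) its Thompson subgroup (generated by the elementary abelian subgroups of P of largest order). If x and y lie in the centre of J and y = g x g⁻¹ for some g in X, then y = n x n⁻¹ for some n in the normalizer N_X(J). -/
theorem result {X : Type*} [Group X] [Finite X] (p : ℕ) [Fact p.Prime] (P : Sylow p X) (J : Subgroup X) (hJ : J = Cfsg.thompsonSubgroupOf p (P : Subgroup X))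
    (x y : X) (hx : x ∈ J ∧ ∀ j ∈ J, Commute j x) (hy : y ∈ J ∧ ∀ j ∈ J, Commute j y) (g : X) (hg : g * x * g⁻¹ = y) :
    ∃ n ∈ Subgroup.normalizer (J : Set X), n * x * n⁻¹ = y := by
  subst hJ
  set J := Cfsg.thompsonSubgroupOf p (P : Subgroup X) with hJdef
  set C := Subgroup.centralizer ({y} : Set X) with hC
  have hJC : J ≤ C := fun j hj => Subgroup.mem_centralizer_singleton_iff.2 (hy.2 j hj)
  have hJgC : CfsgLib.Fusion.conjSub g J ≤ C := by
    rintro _ ⟨j, hj, rfl⟩
    refine Subgroup.mem_centralizer_singleton_iff.2 ?_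
    rw [← hg]
    exact (hx.2 j hj).map (MulAut.conj g)
  have hJp : IsPGroup p J := P.isPGroup'.to_le (CfsgLib.PLocal.thompsonOf_le _)
  obtain ⟨W, hW⟩ := (hJp.of_equiv (Subgroup.subgroupOfEquivOfLe hJC).symm).exists_le_sylow
  have hJT : J ≤ (W : Subgroup C).map C.subtype := fun j hj => ⟨⟨j, hJC hj⟩, hW hj, rfl⟩
  obtain ⟨c, hc, hcT⟩ := CfsgLib.Fusion.exists_conj_le_of_sylow (W.isPGroup'.map C.subtype)
    (Subgroup.map_subtype_le _) (CfsgLib.Fusion.not_dvd_relIndex_of_sylow W)
    (R := CfsgLib.Fusion.conjSub g J) (hJp.map _) hJgC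
  rw [← CfsgLib.Fusion.conjSub_mul] at hcT
  have heq := CfsgLib.Fusion.thompsonOf_conj_eq P (W.isPGroup'.map C.subtype) hJT hcT
  refine ⟨c * g, ?_, ?_⟩
  · refine Subgroup.mem_normalizer_iff.2 fun n => ⟨fun hn => ?_, fun hn => ?_⟩
    · exact heq.le (CfsgLib.Fusion.conj_mem_conjSub hn)
    · have h2 := CfsgLib.Fusion.mem_conjSub.1 (heq.ge hn)
      simpa [mul_assoc] using h2
  · have h1 : c * y = y * c := Subgroup.mem_centralizer_singleton_iff.1 hc
    calc c * g * x * (c * g)⁻¹ = c * (g * x * g⁻¹) * c⁻¹ := by group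
      _ = y := by rw [hg, h1]; group

end Cfsg.Agent.S5306
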