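import Cfsg.Statements.S5310
import Cfsg.Agent.Lib.Comp.ConstrainedComponent
import Cfsg.Agent.Lib.Fusion.ProductSystem
import Cfsg.Agent.S5148

set_option autoImplicit false
open Cfsg Cfsg.FusionSystem Subgroup CfsgLib.Fusion CfsgLib.Comp.Fus

namespace Cfsg.Agent.S5310

/-- The central product with the system over the trivial subgroup changes nothing. -/
theorem isCentralProductOf_bot {Ω : Type*} [Group Ω] {T : Subgroup Ω} (E : Cfsg.FusionSystem T) :
    IsCentralProductOf E (innerFusionSystem (⊥ : Subgroup Ω)) E := by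
  refine ⟨productSys E (innerFusionSystem ⊥), isProductSystem_productSys, ⊥,
    (MonoidHom.fst Ω Ω).comp (T.prod ⊥).subtype, bot_le, bot_inf_eq _, bot_inf_eq _,
    fun x hx => rfl, fun y hy => ?_, bot_le, fun s => ?_, ?_, fun P' φ' => ?_⟩
  · exact (Subgroup.mem_bot.1 (Subgroup.mem_prod.1 hy).2).symm
  · obtain ⟨⟨a, b⟩, hs⟩ := s
    have hb : b = 1 := Subgroup.mem_bot.1 (Subgroup.mem_prod.1 hs).2
    show a = 1 ↔ (a, b) ∈ (⊥ : Subgroup (Ω × Ω))
    rw [Subgroup.mem_bot, Prod.mk_eq_one]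
    exact ⟨fun h => ⟨h, hb⟩, fun h => h.1⟩
  · refine le_antisymm ?_ fun x hx => ⟨⟨(x, 1), hx, Subgroup.one_mem _⟩, rfl⟩
    rintro _ ⟨⟨⟨a, b⟩, hs⟩, rfl⟩
    exact hs.1
  constructor
  · intro hφ
    have hP := (E.le_of_mem hφ).1
    set θ := (MonoidHom.fst Ω Ω).comp (T.prod (⊥ : Subgroup Ω)).subtype with hθ
    have hpre : preimageAlong θ P' = P'.prod ⊥ := by
      ext ⟨a, b⟩
      rw [mem_preimageAlong]
      constructor
      · rintro ⟨hs, hm⟩
        exact ⟨hm, hs.2⟩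
      · rintro ⟨ha, hb⟩
        exact ⟨⟨hP ha, hb⟩, ha⟩
    have h1 : prOne (preimageAlong θ P') = P' := by
      ext a
      constructor
      · rintro ⟨x, hx, rfl⟩
        exact (mem_preimageAlong.1 hx).2
      · intro ha
        exact ⟨(a, 1), mem_preimageAlong.2 ⟨⟨hP ha, Subgroup.one_mem _⟩, ha⟩, rfl⟩
    have h2 : prTwo (preimageAlong θ P') ≤ ⊥ := by
      rintro _ ⟨⟨a, b⟩, hx, rfl⟩
      exact (mem_preimageAlong.1 hx).choose.2
    have hm₁ : IsMap E (prOne (preimageAlong θ P')) (toFun φ') := by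
      rw [h1]
      exact isMap_of_hom hφ
    have hm : IsMap (productSys E (innerFusionSystem (⊥ : Subgroup Ω))) (preimageAlong θ P')
        (fun x => (toFun φ' x.1, x.2)) :=
      (isMap_product_iff isProductSystem_productSys).2 ⟨preimageAlong_le, toFun φ', id, hm₁,
        isMap_id _ h2, fun x _ => rfl⟩
    exact ⟨hP, hm.toHom, hm.toHom_mem, preimageAlong_le, fun x => hm.mem x.2,
      fun x => (mem_preimageAlong.1 x.2).2, fun x => (toFun_of_mem φ' (mem_preimageAlong.1 x.2).2).symm⟩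
  · rintro ⟨hP, φ, hφ, hPS, hv, hP', hx⟩
    obtain ⟨-, φ₁, hφ₁, φ₂, -, h⟩ :=
      (isProductSystem_productSys (F₁ := E) (F₂ := innerFusionSystem (⊥ : Subgroup Ω))
        _ φ).1 hφ
    have hle : P' ≤ (preimageAlong ((MonoidHom.fst Ω Ω).comp (T.prod (⊥ : Subgroup Ω)).subtype)
        P').map (MonoidHom.fst Ω Ω) := fun a ha =>
      ⟨(a, 1), mem_preimageAlong.2 ⟨⟨hP ha, Subgroup.one_mem _⟩, ha⟩, rfl⟩
    refine ((isMap_of_hom hφ₁).mono hle).mem_hom fun ⟨a, ha⟩ => ?_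
    have hmem : ((a, 1) : Ω × Ω) ∈
        preimageAlong ((MonoidHom.fst Ω Ω).comp (T.prod (⊥ : Subgroup Ω)).subtype) P' :=
      mem_preimageAlong.2 ⟨⟨hP ha, Subgroup.one_mem _⟩, ha⟩
    refine (hx ⟨(a, 1), hmem⟩).trans ?_
    show (φ ⟨(a, 1), hmem⟩).1 = toFun φ₁ a
    rw [h ⟨(a, 1), hmem⟩ (hle ha) ⟨(a, 1), hmem, rfl⟩]
    exact (toFun_of_mem φ₁ (hle ha)).symm

/-- A finite p-group system is constrained iff its inner core system is generalized Fitting. -/
theorem result {Ω : Type*} [Group Ω] {S : Subgroup Ω} [Finite S] (p : ℕ) [Fact p.Prime] (hS : IsPGroup p S) (F : Cfsg.FusionSystem S) (hF : F.IsSaturated p) :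
    F.IsConstrained p ↔ (Cfsg.innerFusionSystem F.core).IsGeneralizedFittingOf F p := by
  rw [CfsgLib.Comp.CC.constrained_iff_no_component hS hF]
  constructor
  · intro hno
    have hbot : F.IsNormal ⊥ := isNormal_bot
    refine ⟨⊥, innerFusionSystem ⊥, ⟨CfsgLib.Comp.CoreCent.isNormalIn_innerFusionSystem hS hF hbot,
      fun U C hC => absurd ⟨U, C, hC⟩ hno, fun R D hD _ P φ hφ => ?_⟩,
      isCentralProductOf_bot _⟩
    obtain ⟨hP, g, hg, hx⟩ := hφ
    refine (isMap_id D (hP.trans bot_le)).mem_hom fun x => ?_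
    rw [hx x, Subgroup.mem_bot.1 hg, one_mul, inv_one, mul_one]
    rfl
  · rintro ⟨T, E, hE, D₀, -, Z, θ, -, -, -, h1, h2, -, -, hr, -⟩ ⟨U, C, hC⟩
    have hTQ : ∀ t ∈ T, t ∈ F.core := fun t ht => by
      rw [← hr]
      exact ⟨⟨(1, t), Subgroup.one_mem _, ht⟩, h2 t _⟩
    have hUT : U ≤ T := by
      have hs := hC.2.1
      intro u hu
      exact (E.le_of_mem (hE.2.1 U C hC U ((isMap_id C le_rfl).toHom_mem))).1 hu
    have hUS : U ≤ S := hUT.trans hE.1.1.2.2.2.1.1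
    haveI := finite_of_le hUS
    refine Cfsg.Agent.S5148.result p (hS.to_le hUS) C hC.2 ⟨⟨fun a b => ?_⟩⟩
    have ha : (a : Ω) ∈ F.core := hTQ a (hUT a.2)
    have hb : (b : Ω) ∈ T := hUT b.2
    have e : (⟨((a : Ω), 1), ha, Subgroup.one_mem _⟩ : ↥(F.core.prod T)) *
        ⟨(1, (b : Ω)), Subgroup.one_mem _, hb⟩ =
        ⟨(1, (b : Ω)), Subgroup.one_mem _, hb⟩ * ⟨((a : Ω), 1), ha, Subgroup.one_mem _⟩ :=
      Subtype.ext (Prod.ext (by simp) (by simp))
    have e2 := congrArg θ e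
    rw [map_mul, map_mul] at e2
    exact Subtype.ext ((congrArg₂ (· * ·) (h1 _ _) (h2 _ _)).symm.trans
      (e2.trans (congrArg₂ (· * ·) (h2 _ _) (h1 _ _))))

end Cfsg.Agent.S5310
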