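import Cfsg.Statements.S5311
import Cfsg.Agent.Lib.Comp.LayerChar

set_option autoImplicit false
open Cfsg Cfsg.FusionSystem CfsgLib.Fusion CfsgLib.Comp.Fus

namespace Cfsg.Agent.S5311

/-- The layer of a saturated fusion system F over a finite p-group S is characteristic in F: for every automorphism α of S that is an automorphism of F (α and its inverse are morphisms from F to F) and every layer E of F over T, α carries T onto T and, for every map φ of E with source P, the map induced by α on α(P) (that is, α ∘ φ ∘ α⁻¹) is a map of E. -/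
theorem result {Ω : Type*} [Group Ω] {S : Subgroup Ω} [Finite S] (p : ℕ) [Fact p.Prime] (hS : IsPGroup p S) (F : Cfsg.FusionSystem S) (hF : F.IsSaturated p)
    (α : ↥S ≃* ↥S) (hα : F.IsMorphism F (S.subtype.comp α.toMonoidHom))
    (hα' : F.IsMorphism F (S.subtype.comp α.symm.toMonoidHom))
    {T : Subgroup Ω} (E : Cfsg.FusionSystem T) (hE : E.IsLayerOf F p) :
    Cfsg.FusionSystem.imageAlong (S.subtype.comp α.toMonoidHom) T = T ∧
      ∀ (P : Subgroup Ω) (φ : ↥P →* Ω), φ ∈ E.Hom P →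
        ∀ φ' : ↥(Cfsg.FusionSystem.imageAlong (S.subtype.comp α.toMonoidHom) P) →* Ω,
          Cfsg.FusionSystem.InducedAlong (S.subtype.comp α.toMonoidHom) φ φ' →
            φ' ∈ E.Hom (Cfsg.FusionSystem.imageAlong (S.subtype.comp α.toMonoidHom) P) := by
  have hTS : T ≤ S := hE.1.1.2.2.2.1.1
  obtain ⟨heq, hiso⟩ := layer_invariant hS hE (isIso_of_morphism α hα hα')
  refine ⟨(imageAlong_eq_push α hTS).trans heq, fun P φ hφ φ' hφ' => ?_⟩
  have hP := (E.le_of_mem hφ).1
  have h1 := hiso.map P _ (isMap_of_hom hφ)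
  rw [← imageAlong_eq_push α (hP.trans hTS)] at h1
  refine h1.mem_hom ?_
  rintro ⟨_, x, hxP', rfl⟩
  have hxP : (x : Ω) ∈ P := hxP'
  obtain ⟨hPS, hv, hP', hx⟩ := hφ'
  refine (hx ⟨x, hxP⟩).trans ?_
  show ((α _ : S) : Ω) = funOf _ (toFun φ (funOf _ ((α x : S) : Ω)))
  rw [funOf_apply_equiv α.symm (α x).2, Subtype.coe_eta, MulEquiv.symm_apply_apply,
    toFun_of_mem φ hxP, funOf_apply_equiv α (hv ⟨x, hxP⟩)]

end Cfsg.Agent.S5311
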