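import Cfsg.Statements.S5316
import Cfsg.Agent.Lib.MaxClassEss.Bridge
-- import your own Cfsg.Agent.* helpers here

set_option autoImplicit false
open Cfsg

namespace Cfsg.Agent.S5316

/-- Let p ≥ 5 be a prime, S a finite p-group of maximal class of order p^n with n ≥ 5 (nilpotency class n − 1), F a saturated fusion system over S, and E an F-essential subgroup that is not a pearl (not elementary abelian of order p² and not extraspecial of order p³ and exponent p). Then E has order at least p⁴. -/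
theorem result {Ω : Type*} [Group Ω] {S : Subgroup Ω} [Finite S] (p : ℕ) [Fact p.Prime] (hp : 5 ≤ p) (hS : IsPGroup p ↥S) (n : ℕ) (hn : Nat.card S = p ^ n) (h5 : 5 ≤ n)
    (hmax : Subgroup.lowerCentralSeries S (n - 2) ≠ ⊥) (F : Cfsg.FusionSystem S) (hF : F.IsSaturated p)
    (E : Subgroup Ω) (hE : F.IsEssential p E)
    (hnp : ¬ ((Nat.card ↥E = p ^ 2 ∧ Cfsg.IsElementaryAbelian p E) ∨ (Nat.card ↥E = p ^ 3 ∧ Cfsg.IsExtraspecial p ↥E ∧ Monoid.exponent ↥E = p))) :
    p ^ 4 ≤ Nat.card ↥E := by
  haveI : Finite E := CfsgLib.Fusion.finite_of_le hE.1.1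
  obtain ⟨k, hk⟩ := IsPGroup.iff_card.1 (hS.to_le hE.1.1)
  rw [hk]
  refine Nat.pow_le_pow_right (Fact.out : p.Prime).pos ?_
  by_contra hk4
  have hp' := (Fact.out : p.Prime)
  rcases (show k ≤ 1 ∨ k = 2 ∨ k = 3 by omega) with h | h | h
  · -- a centric subgroup contains the centre properly
    have hmc := CfsgLib.MaxClassEss.isMC_of_class hn (by omega) hmax
    have hle : (Subgroup.center S).map S.subtype ≤ E := by
      rintro _ ⟨z, hz, rfl⟩
      refine hE.1.2 E (CfsgLib.Fusion.isConj_refl hE.1.1) ⟨z.2, fun x hx => ?_⟩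
      exact congrArg Subtype.val (Subgroup.mem_center_iff.1 hz ⟨x, hE.1.1 hx⟩)
    have heq : (Subgroup.center S).map S.subtype = E := Subgroup.eq_of_le_of_card_ge hle (by
      rw [Subgroup.card_map_of_injective S.subtype_injective, hmc.card_center, hk]
      exact (Nat.pow_le_pow_right hp'.pos h).trans_eq (pow_one p))
    have hSE : S ≤ E := fun a ha => by
      refine hE.1.2 E (CfsgLib.Fusion.isConj_refl hE.1.1) ⟨ha, fun x hx => ?_⟩
      rw [← heq] at hx
      obtain ⟨z, hz, rfl⟩ := hx
      exact (congrArg Subtype.val (Subgroup.mem_center_iff.1 hz ⟨a, ha⟩)).symm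
    have h1 := Subgroup.card_le_of_le hSE
    rw [hn, hk, Nat.pow_le_pow_iff_right hp'.one_lt] at h1
    omega
  · subst h
    exact hnp (Or.inl ⟨hk, CfsgLib.Invol.EssentialSmall.card_sq hS hF hE hk⟩)
  · subst h
    rcases CfsgLib.Invol.EssentialSmall.card_cube hS hF hE hk with hel | ⟨-, hex, hexp⟩ | ⟨h2, -⟩
    · exact CfsgLib.MaxClassEss.no_elementary_cube hp hS hn h5 hmax hF hE hel hk
    · refine hnp (Or.inr ⟨hk, hex, ?_⟩)
      rcases (Nat.dvd_prime hp').1 (Monoid.exponent_dvd_of_forall_pow_eq_one (G := E) (n := p)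
        fun x => Subtype.ext (by simpa using hexp x x.2)) with h1 | h1
      · haveI := Monoid.exp_eq_one_iff.1 h1
        rw [Nat.card_unique] at hk
        exact absurd hk.symm (Nat.one_lt_pow (by norm_num) hp'.one_lt).ne'
      · exact h1
    · omega

end Cfsg.Agent.S5316
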