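import Cfsg.Statements.S5319
import Cfsg.Agent.Lib.Invol.QWSimpleFusion
import Cfsg.Agent.Lib.Invol.GLTwoTypes
import Cfsg.Agent.Lib.Invol.PSUThreeEmbed
import Cfsg.Agent.Lib.Classical.UnitaryGen
import Cfsg.Agent.Lib.Classical.SUCenter

set_option autoImplicit false
open Cfsg

namespace Cfsg.Agent.S5319

/-- Let q be an odd prime power and F a field with q² elements. Then the 2-fusion system of PSU(3,q) (realised as the special unitary group of the standard Hermitian form over F modulo its centre) on a Sylow 2-subgroup is simple. -/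
theorem result {F : Type*} [Field F] [Fintype F] (q : ℕ) (hq : Fintype.card F = q ^ 2) (hodd : q % 2 = 1) (S : Sylow 2 (Cfsg.PSU 3 F q)) :
    (Cfsg.groupFusionSystem (S : Subgroup (Cfsg.PSU 3 F q))).IsSimple 2 := by
  classical
  have hq1 : 1 < q := by
    by_contra hc
    have h1 : 1 < q ^ 2 := hq ▸ Fintype.one_lt_card
    have : q ^ 2 ≤ 1 ^ 2 := Nat.pow_le_pow_left (by omega) 2
    omega
  haveI := CfsgLib.Classical.isSimpleGroup_psu hq (n := 3) le_rfl (by omega)
  obtain ⟨P⟩ := (inferInstance : Nonempty (Sylow 2 (Cfsg.GU 2 F q)))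
  have hP : CfsgLib.Invol.IsQW (P : Subgroup (Cfsg.GU 2 F q)) := by
    rcases (show q % 4 = 1 ∨ q % 4 = 3 by omega) with h | h
    · exact Or.inl (CfsgLib.Invol.gu_two_sylow_quasiDihedral hq h P)
    · exact Or.inr (CfsgLib.Invol.gu_two_sylow_wreathed hq h P)
  have hgcd : Odd (Nat.gcd 3 (q + 1)) := Odd.of_dvd_nat (by decide) (Nat.gcd_dvd_left 3 (q + 1))
  refine CfsgLib.Invol.qw_group_isSimple_of_hom
    ((QuotientGroup.mk' (Subgroup.center (Cfsg.SU 3 F q))).comp (CfsgLib.Invol.guToSU3 hq))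
    (fun z hz => ?_) P hP ?_ S
  · have h1 : CfsgLib.Invol.guToSU3 hq z ∈ Subgroup.center (Cfsg.SU 3 F q) :=
      (QuotientGroup.eq_one_iff _).1 hz
    have h2 := Subgroup.orderOf_dvd_natCard _ h1
    rw [orderOf_injective _ (CfsgLib.Invol.guToSU3_injective hq),
      CfsgLib.Classical.card_center_su hq (by norm_num)] at h2
    exact Odd.of_dvd_nat hgcd h2
  · have hc := CfsgLib.Classical.card_psu_mul hq (n := 3) (by norm_num)
    rw [CfsgLib.Classical.card_gu hq] at hc
    rw [CfsgLib.Classical.card_gu hq]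
    simp [Finset.prod_range_succ, -Nat.card_eq_fintype_card] at hc ⊢
    obtain ⟨k, hk⟩ : ∃ k, q = k + 1 := ⟨q - 1, by omega⟩
    subst hk
    have h2 : (k + 1) ^ 2 - 1 = k * (k + 2) := Nat.sub_eq_of_eq_add (by ring)
    rw [h2] at hc ⊢
    have hk1 : k ^ 2 + k + 1 = (k + 1) ^ 2 - (k + 1) + 1 := by
      rw [show (k + 1) ^ 2 - (k + 1) = k ^ 2 + k from Nat.sub_eq_of_eq_add (by ring)]
    refine CfsgLib.Invol.factorization_two_eq_of_odd_mul (a := Nat.gcd 3 (k + 1 + 1))
      (b := (k + 1) ^ 2 * (k ^ 2 + k + 1)) hgcd ?_ Nat.card_pos.ne'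
      (mul_ne_zero (by omega) (mul_ne_zero (by omega) (mul_ne_zero (by omega) (by omega)))) ?_
    · refine (Odd.pow (Nat.odd_iff.2 hodd)).mul ?_
      rw [show k ^ 2 + k + 1 = k * (k + 1) + 1 by ring]
      exact (Nat.even_mul_succ_self k).add_one
    · refine mul_left_cancel₀ (show k + 1 + 1 ≠ 0 by omega) ?_
      linear_combination hc

end Cfsg.Agent.S5319
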