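import Cfsg.Statements.S5328
import Cfsg.Agent.Lib.Fusion.Biset

set_option autoImplicit false
universe u
open Cfsg

namespace Cfsg.Agent.S5328

open CfsgLib.Fusion MulAction

/-- Every fusion system over a finite p-group S, saturated or not, is realized inside some finite group: there is a finite group G and an injective homomorphism ι of S into G such that the maps of the system are exactly the homomorphisms between subgroups of S that become conjugations by elements of G (the image of S need not be a Sylow p-subgroup of G). -/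
theorem result {Ω : Type u} [Group Ω] {S : Subgroup Ω} [Finite S] (p : ℕ) [Fact p.Prime] (hS : IsPGroup p S) (F : Cfsg.FusionSystem S) : ∃ (G : Type u) (_ : Group G) (_ : Finite G) (ι : ↥S →* G), F.IsRealizedBy ι := by
  obtain ⟨c, hsupp, hst, hne⟩ := exists_semiBiset F
  let G : Subgroup (Equiv.Perm (BSet c)) :=
    { carrier := {g | ∀ (s : S) (w : BSet c),
        g (((1, s) : ↥S × ↥S) • w) = ((1, s) : ↥S × ↥S) • g w}
      one_mem' := fun _ _ => rfl
      mul_mem' := fun {a b} ha hb s w => by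
        rw [Equiv.Perm.mul_apply, hb, ha, ← Equiv.Perm.mul_apply]
      inv_mem' := fun {a} ha s w => by
        apply a.injective
        rw [ha, Equiv.Perm.coe_inv, Equiv.apply_symm_apply, Equiv.apply_symm_apply] }
  have hmem : ∀ x : S, MulAction.toPermHom (↥S × ↥S) (BSet c) (x, 1) ∈ G := fun x s w => by
    show ((x, 1) : ↥S × ↥S) • ((1, s) : ↥S × ↥S) • w = ((1, s) : ↥S × ↥S) • ((x, 1) : ↥S × ↥S) • w
    rw [smul_smul, smul_smul, Prod.mk_mul_mk, Prod.mk_mul_mk, one_mul, mul_one, one_mul, mul_one]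
  let ι : ↥S →* G :=
    ((MulAction.toPermHom (↥S × ↥S) (BSet c)).comp (MonoidHom.inl ↥S ↥S)).codRestrict G hmem
  refine ⟨G, inferInstance, inferInstance, ι, ?_, ?_⟩
  · open CfsgLib.Fusion MulAction in
    refine (injective_iff_map_eq_one ι).2 fun x hx => ?_
    have hd : IsGraph F (diagOf F (bot_le : (⊥ : Subgroup Ω) ≤ S)) := isGraph_graphOf _
    obtain ⟨hw, -⟩ := Nat.card_ne_zero.1 (hne _ hd)
    obtain ⟨w, -⟩ := hw
    have h : ((x, 1) : ↥S × ↥S) • w = w :=
      Equiv.congr_fun (congrArg (fun g : G => (g : Equiv.Perm (BSet c))) hx) w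
    exact (isGraph_stabilizer hsupp w).eq_one_of_snd h
  · open CfsgLib.Fusion MulAction in
    intro P hP φ hφ
    constructor
    · intro h
      obtain ⟨e, he1, he2⟩ := exists_stable_equiv hsupp hst (isMap_of_hom h)
      refine ⟨⟨e, he1⟩, fun x => ?_⟩
      rw [eq_mul_inv_iff_mul_eq]
      refine Subtype.ext (Equiv.ext fun w => ?_)
      show ((⟨φ x, hφ x⟩, 1) : ↥S × ↥S) • e w = e (((⟨x, hP x.2⟩, 1) : ↥S × ↥S) • w)
      exact (he2 ⟨x, hP x.2⟩ ⟨φ x, hφ x⟩ x.2 (toFun_apply φ x).symm w).symm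
    · rintro ⟨g, hg⟩
      have hd : IsGraph F (diagOf F hP) := isGraph_graphOf _
      obtain ⟨hw, -⟩ := Nat.card_ne_zero.1 (hne _ hd)
      obtain ⟨w, hw⟩ := hw
      have key : ∀ x : P, ((⟨φ x, hφ x⟩, ⟨x, hP x.2⟩) : ↥S × ↥S) ∈
          stabilizer (↥S × ↥S) ((g : Equiv.Perm (BSet c)) w) := fun x => by
        have h1 := hg x
        rw [eq_mul_inv_iff_mul_eq] at h1
        have h2 : ((⟨φ x, hφ x⟩, 1) : ↥S × ↥S) • (g : Equiv.Perm (BSet c)) w =
            (g : Equiv.Perm (BSet c)) (((⟨x, hP x.2⟩, 1) : ↥S × ↥S) • w) :=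
          Equiv.congr_fun (congrArg (fun g : G => (g : Equiv.Perm (BSet c))) h1) w
        have h3 : ((1, ⟨x, hP x.2⟩) : ↥S × ↥S) • ((⟨x, hP x.2⟩, 1) : ↥S × ↥S) • w = w := by
          rw [smul_smul, Prod.mk_mul_mk, one_mul, mul_one]
          exact hw ⟨x.2, rfl⟩
        rw [mem_stabilizer_iff]
        calc ((⟨φ x, hφ x⟩, ⟨x, hP x.2⟩) : ↥S × ↥S) • (g : Equiv.Perm (BSet c)) w
            = ((1, ⟨x, hP x.2⟩) : ↥S × ↥S) • ((⟨φ x, hφ x⟩, 1) : ↥S × ↥S) •
                (g : Equiv.Perm (BSet c)) w := by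
              rw [smul_smul ((1, ⟨x, hP x.2⟩) : ↥S × ↥S), Prod.mk_mul_mk, one_mul, mul_one]
          _ = (g : Equiv.Perm (BSet c)) (((1, ⟨x, hP x.2⟩) : ↥S × ↥S) •
                ((⟨x, hP x.2⟩, 1) : ↥S × ↥S) • w) := by rw [h2, g.2]
          _ = _ := by rw [h3]
      obtain ⟨f, hf, hfx⟩ := isGraph_stabilizer hsupp ((g : Equiv.Perm (BSet c)) w)
      have hr : φ.range ≤ pr₁ (stabilizer (↥S × ↥S) ((g : Equiv.Perm (BSet c)) w)) := by
        rintro _ ⟨x, rfl⟩
        exact mem_pr₁.2 ⟨_, key x, rfl⟩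
      obtain ⟨h, hh, hhf, -, -⟩ := (hf.mono hr).exists_inv
      have hfP : ∀ x : P, f (φ x) = x := fun x => (hfx _ (key x)).symm
      have hPi : P ≤ img φ.range f := fun x hx =>
        (hf.mono hr).mem_img.2 ⟨φ ⟨x, hx⟩, ⟨⟨x, hx⟩, rfl⟩, hfP ⟨x, hx⟩⟩
      refine (hh.mono hPi).mem_hom fun x => ?_
      conv_rhs => rw [← hfP x]
      exact (hhf _ ⟨x, rfl⟩).symm

end Cfsg.Agent.S5328
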