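import Cfsg.Statements.S5330
import Cfsg.Agent.Lib.Fusion.Transfer

set_option autoImplicit false
open Cfsg

namespace Cfsg.Agent.S5330

/-- Let F be a saturated fusion system over a finite abelian p-group S. Then S is the internal direct product of the centre of the system and the focal subgroup: Z(F) ∩ foc(F) = 1 and Z(F)·foc(F) = S. -/
theorem result {Ω : Type*} [Group Ω] {S : Subgroup Ω} [Finite S] (p : ℕ) [Fact p.Prime] (hS : IsPGroup p S) (F : Cfsg.FusionSystem S) (hF : F.IsSaturated p) (hab : ∀ x ∈ S, ∀ y ∈ S, x * y = y * x) : F.center ⊓ F.focalSubgroup = ⊥ ∧ F.center ⊔ F.focalSubgroup = S := by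

  refine ⟨?_, ?_⟩
  · refine (Subgroup.eq_bot_iff_forall _).2 fun x hx => ?_
    have h := CfsgLib.Fusion.mem_commutator_of_focal_center hS hF hx.2 hx.1
    have hb : ⁅(S : Subgroup Ω), (S : Subgroup Ω)⁆ = ⊥ :=
      Subgroup.commutator_eq_bot_iff_le_centralizer.2 fun a ha b hb => hab b hb a ha
    rw [hb] at h
    exact h
  · classical
    have hfle : F.focalSubgroup ≤ S := by
      refine (Subgroup.closure_le _).2 ?_
      rintro _ ⟨P, φ, x, hφ, rfl⟩
      exact S.mul_mem (S.inv_mem ((F.le_of_mem hφ).1 x.2)) ((F.le_of_mem hφ).2 x)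
    refine le_antisymm (sup_le (CfsgLib.Fusion.center_le F) hfle) fun x hx => ?_
    letI : CommGroup ↥S := { (inferInstance : Group ↥S) with
      mul_comm := fun a b => Subtype.ext (hab a a.2 b b.2) }
    haveI := Fintype.ofFinite (F.autGroup S)
    have hnorm : ∀ R : Subgroup Ω, R ≤ S → Cfsg.FusionSystem.normalizerIn S R = S := fun R hR => by
      refine inf_eq_left.2 fun a ha => Subgroup.mem_normalizer_iff.2 fun b => ⟨fun hb => ?_, fun hb => ?_⟩
      · rwa [hab a ha b (hR hb), mul_inv_cancel_right]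
      · have h1 : a⁻¹ * (a * b * a⁻¹) = b * a⁻¹ := by group
        rw [hab a⁻¹ (S.inv_mem ha) _ (hR hb), mul_assoc, mul_assoc] at h1
        have : b = a * b * a⁻¹ := by
          apply mul_right_cancel (b := a⁻¹)
          rw [← h1]; group
        exact this ▸ hb
    have hFN : F.IsFullyNormalized S := CfsgLib.Fusion.fullyNormalized_top F
    have hcop : ∀ z : ↥S, (Nat.card (F.autGroup S)).Coprime (orderOf z) := by
      obtain ⟨-, T, hT⟩ := CfsgLib.Fusion.fullyAutomized_of_fullyNormalized hS hF hFN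
      have hb : Cfsg.autInducedBy S S = ⊥ := by
        rw [eq_bot_iff, Cfsg.autInducedBy, Subgroup.closure_le]
        rintro α ⟨g, hg, hgx⟩
        refine MulEquiv.ext fun y => Subtype.ext ((hgx y).trans ?_)
        rw [hab g hg y y.2, mul_inv_cancel_right]
        rfl
      have hnd := T.not_dvd_index
      rw [hT, hb, Subgroup.bot_subgroupOf, Subgroup.index_bot] at hnd
      intro z
      obtain ⟨k, hk⟩ := hS z
      obtain ⟨j, -, hj⟩ := (Nat.dvd_prime_pow Fact.out).1 (orderOf_dvd_of_pow_eq_one hk)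
      rw [hj]
      exact (((Fact.out : p.Prime).coprime_iff_not_dvd.2 hnd).symm).pow_right j
    set x' : ↥S := ⟨x, hx⟩ with hx'
    set y : ↥S := ∏ α : F.autGroup S, (α : MulAut ↥S) x' with hy
    have hfix : ∀ β : F.autGroup S, (β : MulAut ↥S) y = y := fun β => by
      rw [hy, map_prod]
      exact Fintype.prod_equiv (Equiv.mulLeft β) _ _ fun α => rfl
    have hyZ : (y : Ω) ∈ F.center := by
      refine (CfsgLib.Fusion.mem_center_iff hS hF).2 ⟨y.2, fun P f hf hyP => ?_⟩
      have hQ : F.IsFullyNormalized (CfsgLib.Fusion.img P f) := ⟨hf.img_le, fun R hR => by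
        rw [hnorm R (CfsgLib.Fusion.isConj_le_right hR), hnorm _ hf.img_le]⟩
      obtain ⟨g, hg, hgf⟩ := CfsgLib.Fusion.receptive_extend_centralizer
        (CfsgLib.Fusion.receptive_of_fullyNormalized hS hF hQ) hf rfl
      have hle : S ≤ P ⊔ Cfsg.FusionSystem.centralizerIn S P := fun a ha =>
        Subgroup.mem_sup_right ⟨ha, fun b hb => hab b (hf.le hb) a ha⟩
      have hg' := hg.mono hle
      have hi : CfsgLib.Fusion.img S g = S :=
        CfsgLib.Fusion.eq_of_le_of_card_le hg'.img_le hg'.card_img.ge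
      rw [← hgf y hyP]
      have := congrArg (fun z : ↥S => (z : Ω)) (hfix ⟨_, hg'.toAut_mem hi⟩)
      simp only [CfsgLib.Fusion.IsMap.toAut_apply] at this
      exact this
    have hd : ∀ α : F.autGroup S, x'⁻¹ * (α : MulAut ↥S) x' ∈ F.focalSubgroup.subgroupOf S :=
      fun α => Subgroup.subset_closure
        ⟨S, S.subtype.comp (α : MulAut ↥S).toMonoidHom, x',
          (CfsgLib.Fusion.autGroup_mem_iff le_rfl).1 α.2, rfl⟩
    have hprod : x' ^ (-(Nat.card (F.autGroup S)) : ℤ) * y ∈ F.focalSubgroup.subgroupOf S := by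
      have h := Subgroup.prod_mem _ (t := Finset.univ) fun α _ => hd α
      rw [Finset.prod_mul_distrib, Finset.prod_const, Finset.card_univ] at h
      rwa [zpow_neg, zpow_natCast, ← inv_pow, Nat.card_eq_fintype_card, hy]
    obtain ⟨m, hm⟩ := exists_pow_eq_self_of_coprime (hcop x')
    have h1 : (x' ^ Nat.card (F.autGroup S) : ↥S) = y * (x' ^ (-(Nat.card (F.autGroup S)) : ℤ) * y)⁻¹ := by
      rw [mul_inv_rev, zpow_neg, inv_inv, zpow_natCast, mul_inv_cancel_left]
    have h2 : ((x' ^ Nat.card (F.autGroup S) : ↥S) : Ω) ∈ F.center ⊔ F.focalSubgroup := by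
      rw [h1, Subgroup.coe_mul]
      exact Subgroup.mul_mem_sup hyZ (Subgroup.mem_subgroupOf.1 ((Subgroup.inv_mem_iff _).2 hprod))
    have h3 := Subgroup.pow_mem _ h2 m
    rw [← Subgroup.coe_pow, hm] at h3
    exact h3

end Cfsg.Agent.S5330
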