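import Cfsg.Statements.S5332
import Cfsg.Agent.Lib.Fusion.ConstrainedPart

set_option autoImplicit false
open Cfsg

namespace Cfsg.Agent.S5332

/-- Let p be odd and F a saturated fusion system over a finite p-group S that is not the inner system of S. Then F contains a saturated constrained subsystem over S that is itself not the inner system. -/
theorem result {Ω : Type*} [Group Ω] {S : Subgroup Ω} [Finite S] (p : ℕ) [Fact p.Prime] (hS : IsPGroup p S) (F : Cfsg.FusionSystem S) (hF : F.IsSaturated p) (hp : p ≠ 2) (hne : ∃ P : Subgroup Ω, F.Hom P ≠ (Cfsg.innerFusionSystem S).Hom P) : ∃ E : Cfsg.FusionSystem S, E ≤ F ∧ E.IsConstrained p ∧ ∃ P : Subgroup Ω, E.Hom P ≠ (Cfsg.innerFusionSystem S).Hom P := by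
  have hnt : ¬ CfsgLib.Fusion.CoprimeTrivial F p := fun h => by
    obtain ⟨P, hP⟩ := hne
    exact hP (CfsgLib.Fusion.eq_inner_of_coprime_trivial hS hF
      (fun R hR α hα hc => h R hR.1 α hα hc) P)
  obtain ⟨E, hle, hE, hEt⟩ := CfsgLib.Fusion.exists_constrained_of_not_trivial hS hF hnt
    (CfsgLib.Fusion.centerThompsonComplement p hp)
  refine ⟨E, hle, hE, ?_⟩
  by_contra hall
  simp only [not_exists, not_not] at hall
  refine hEt fun R hR α hα hc => ?_
  obtain ⟨f, hf⟩ : ∃ f, f = CfsgLib.Fusion.toFun (R.subtype.comp α.toMonoidHom) := ⟨_, rfl⟩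
  have hm := CfsgLib.Fusion.isMap_of_autGroup hR hα
  have h1 : R.subtype.comp α.toMonoidHom ∈ E.Hom R :=
    hm.mem_hom fun x => (CfsgLib.Fusion.toFun_apply _ x).symm
  rw [hall R] at h1
  obtain ⟨-, a, ha, hax⟩ := h1
  exact CfsgLib.Fusion.eq_one_of_conj hS hc ha hax

end Cfsg.Agent.S5332
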