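import Cfsg.Statements.S5333
import Cfsg.Agent.Lib.Fusion.NormalizerSaturated

set_option autoImplicit false
open Cfsg

namespace Cfsg.Agent.S5333

/-- Let F′ ≤ F be saturated fusion systems over the same finite p-group S. Suppose that for every subgroup Z ≤ S of order p that is fully centralized in F′, the maps of F and of F′ with source Z coincide and the centralizer systems C_F(Z) and C_{F′}(Z) coincide. Then F = F′. -/
theorem result {Ω : Type*} [Group Ω] {S : Subgroup Ω} [Finite S] (p : ℕ) [Fact p.Prime] (hS : IsPGroup p S) (F : Cfsg.FusionSystem S) (hF : F.IsSaturated p) (F' : Cfsg.FusionSystem S) (hF' : F'.IsSaturated p) (hle : F' ≤ F) (hZ : ∀ Z : Subgroup Ω, Z ≤ S → Nat.card Z = p → F'.IsFullyCentralized Z → F.Hom Z = F'.Hom Z ∧ ∀ (C C' : Cfsg.FusionSystem (Cfsg.FusionSystem.centralizerIn S Z)), F.IsCentralizerSystem Z C → F'.IsCentralizerSystem Z C' → ∀ P : Subgroup Ω, C.Hom P = C'.Hom P) (P :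 Subgroup Ω) : F.Hom P = F'.Hom P := by
  classical
  suffices hmain : ∀ (P : Subgroup Ω) (f : Ω → Ω),
      CfsgLib.Fusion.IsMap F P f → CfsgLib.Fusion.IsMap F' P f by
    refine Set.Subset.antisymm (fun φ hφ => ?_) (hle P)
    exact (hmain P _ (CfsgLib.Fusion.isMap_of_hom hφ)).mem_hom fun x =>
      (CfsgLib.Fusion.toFun_apply φ x).symm
  intro P f hf
  rcases eq_or_ne P ⊥ with rfl | hP1
  · refine (CfsgLib.Fusion.isMap_id F' bot_le).congr fun x hx => ?_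
    rw [Subgroup.mem_bot] at hx
    rw [hx, hf.map_one, id]
  have toF : ∀ {U : Subgroup Ω} {g : Ω → Ω},
      CfsgLib.Fusion.IsMap F' U g → CfsgLib.Fusion.IsMap F U g :=
    fun {U g} hg => ⟨hg.toHom, hle U hg.toHom_mem, fun _ => rfl⟩
  haveI := CfsgLib.Fusion.finite_of_le hf.le
  haveI : Nontrivial P := P.nontrivial_iff_ne_bot.2 hP1
  have hPp : IsPGroup p P := hS.to_le hf.le
  haveI := hPp.center_nontrivial
  obtain ⟨k, hk, hcard⟩ :=
    (IsPGroup.nontrivial_iff_card (hPp.to_subgroup (Subgroup.center P))).1 inferInstance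
  obtain ⟨z, hz⟩ := exists_prime_orderOf_dvd_card' (G := Subgroup.center P) p
    (hcard ▸ dvd_pow_self p hk.ne')
  set z' : Ω := ((z : P) : Ω) with hz'
  set Z : Subgroup Ω := Subgroup.zpowers z' with hZdef
  have hZP : Z ≤ P := Subgroup.zpowers_le.2 (z : P).2
  have hZc : Nat.card Z = p := by
    rw [hZdef, Nat.card_zpowers, hz', Subgroup.orderOf_coe, Subgroup.orderOf_coe, hz]
  have hcent : ∀ a ∈ P, ∀ y ∈ Z, y * a = a * y := by
    rintro a ha _ ⟨j, rfl⟩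
    have h1 : Commute z' a :=
      congrArg Subtype.val (Subgroup.mem_center_iff.1 z.2 ⟨a, ha⟩).symm
    exact (h1.zpow_left j).eq
  obtain ⟨Z₀, hconj, hfc⟩ := CfsgLib.Fusion.exists_fullyCentralized_conj F' (hZP.trans hf.le)
  have hZ₀S := hfc.1
  obtain ⟨heq, hsys⟩ := hZ Z₀ hZ₀S (by rw [CfsgLib.Fusion.isConj_card hconj, hZc]) hfc
  have fromF : ∀ {g : Ω → Ω},
      CfsgLib.Fusion.IsMap F Z₀ g → CfsgLib.Fusion.IsMap F' Z₀ g :=
    fun {g} hg => ⟨hg.toHom, heq ▸ hg.toHom_mem, fun _ => rfl⟩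
  have hrec := CfsgLib.Fusion.receptive_of_fullyCentralized hS hF' hfc
  obtain ⟨χ, hχ, hχi⟩ := CfsgLib.Fusion.isConj_iff.1 hconj
  -- `χ ∘ (f|Z)⁻¹` is a map of the smaller system
  obtain ⟨k₀, hk₀, hk₀x, hk₀y, hk₀i⟩ := hχ.exists_inv
  rw [hχi] at hk₀ hk₀i hk₀y
  have hfZ := hf.mono hZP
  have h3 := fromF ((toF hk₀).comp hfZ fun y hy => (hk₀y y hy).1)
  obtain ⟨m, hm, hmx, hmy, hmi⟩ := h3.exists_inv
  have himg : CfsgLib.Fusion.img Z₀ (fun y => f (k₀ y)) = CfsgLib.Fusion.img Z f := by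
    rw [CfsgLib.Fusion.img_comp_eq (toF hk₀) hfZ fun y hy => (hk₀y y hy).1, hk₀i]
  rw [himg] at hm hmi
  have hPC : P ≤ Cfsg.FusionSystem.centralizerIn S Z := fun a ha =>
    ⟨hf.le ha, fun y hy => hcent a ha y hy⟩
  obtain ⟨g₁, hg₁, hg₁x⟩ := CfsgLib.Fusion.receptive_extend_centralizer hrec hχ hχi
  obtain ⟨g₂, hg₂, hg₂x⟩ := CfsgLib.Fusion.receptive_extend_centralizer hrec hm hmi
  have hP1' : P ≤ Z ⊔ Cfsg.FusionSystem.centralizerIn S Z := hPC.trans le_sup_right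
  have hfC : ∀ a ∈ P, f a ∈ Cfsg.FusionSystem.centralizerIn S (CfsgLib.Fusion.img Z f) :=
    fun a ha => hf.apply_mem_centralizerIn hZP ha fun y hy => hcent a ha y hy
  have hg₁C : ∀ a ∈ P, g₁ a ∈ Cfsg.FusionSystem.centralizerIn S Z₀ := fun a ha => by
    rw [← hχi, ← CfsgLib.Fusion.img_congr hg₁x]
    exact hg₁.apply_mem_centralizerIn le_sup_left (hP1' ha) fun y hy => hcent a ha y hy
  have hg₂C : ∀ a ∈ P, g₂ (f a) ∈ Cfsg.FusionSystem.centralizerIn S Z₀ := fun a ha => by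
    rw [← hmi, ← CfsgLib.Fusion.img_congr hg₂x]
    exact hg₂.apply_mem_centralizerIn le_sup_left (Subgroup.mem_sup_right (hfC a ha)) (hfC a ha).2
  obtain ⟨j, hj, hjx, hjy, -⟩ := (hg₁.mono hP1').exists_inv
  have hθ := ((toF hj).comp hf fun y hy => (hjy y hy).1).comp (toF hg₂) fun y hy =>
    Subgroup.mem_sup_right (hfC _ (hjy y hy).1)
  have hZ₀P : Z₀ ≤ CfsgLib.Fusion.img P g₁ := by
    rw [← hχi, ← CfsgLib.Fusion.img_congr hg₁x]
    exact CfsgLib.Fusion.img_mono hZP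
  have hC := CfsgLib.Fusion.isCentralizerSystem_centralizerSys F Z₀ hZ₀S
  have hC' := CfsgLib.Fusion.isCentralizerSystem_centralizerSys F' Z₀ hZ₀S
  have hθC : CfsgLib.Fusion.IsMap (CfsgLib.Fusion.centralizerSys F Z₀ hZ₀S)
      (CfsgLib.Fusion.img P g₁) (fun y => g₂ (f (j y))) := by
    refine (CfsgLib.Fusion.isMap_centralizerSystem_iff hC).2
      ⟨fun y hy => ?_, fun y hy => hg₂C _ (hjy y hy).1, _,
        by rw [sup_eq_left.2 hZ₀P]; exact hθ, fun _ _ => rfl, fun y hy => ?_⟩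
    · obtain ⟨x, hx, rfl⟩ := (hg₁.mono hP1').mem_img.1 hy
      exact hg₁C x hx
    · rw [← hχi] at hy
      obtain ⟨x, hx, rfl⟩ := hχ.mem_img.1 hy
      show g₂ (f (j (χ x))) = χ x
      rw [← hg₁x x hx, hjx x (hZP hx), hg₂x _ (hfZ.apply_mem_img hx), hg₁x x hx]
      have h5 := hmx (χ x) (hχi ▸ hχ.apply_mem_img hx)
      rwa [hk₀x x hx] at h5
  have hθC' : CfsgLib.Fusion.IsMap (CfsgLib.Fusion.centralizerSys F' Z₀ hZ₀S)
      (CfsgLib.Fusion.img P g₁) (fun y => g₂ (f (j y))) :=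
    ⟨hθC.toHom, hsys _ _ hC hC' _ ▸ hθC.toHom_mem, fun _ => rfl⟩
  obtain ⟨-, -, u, hu, hux, -⟩ := (CfsgLib.Fusion.isMap_centralizerSystem_iff hC').1 hθC'
  obtain ⟨l, hl, hlx, -, -⟩ := hg₂.exists_inv
  have h6 := ((hg₁.mono hP1').comp ((hu.mono le_sup_left).congr hux) fun x hx =>
    (hg₁.mono hP1').apply_mem_img hx).comp hl fun x hx => by
      show g₂ (f (j (g₁ x))) ∈ _
      rw [hjx x hx]
      exact hg₂.apply_mem_img (Subgroup.mem_sup_right (hfC x hx))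
  exact h6.congr fun x hx => by
    show l (g₂ (f (j (g₁ x)))) = f x
    rw [hjx x hx, hlx _ (Subgroup.mem_sup_right (hfC x hx))]

end Cfsg.Agent.S5333
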