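import Cfsg.Statements.S5336
import Cfsg.Agent.Lib.Fusion.NormalSubgroup

set_option autoImplicit false
open Cfsg

namespace Cfsg.Agent.S5336

/-- Let G be a finite group with Sylow p-subgroup S whose fusion system F_S(G) is simple. If G has no nontrivial normal subgroup of order prime to p and no proper subgroup H containing S induces the same fusion system on S as G does, then G is a simple group. -/
theorem result {G : Type*} [Group G] [Finite G] (p : ℕ) [Fact p.Prime] (S : Sylow p G) (hsimple : (Cfsg.groupFusionSystem (S : Subgroup G)).IsSimple p) (hcore : Cfsg.pPrimeCore p G = ⊥) (hmin : ∀ (H : Subgroup G) (hSH : (S : Subgroup G) ≤ H), H ≠ ⊤ → ∃ P : Subgroup G, (Cfsg.fusionSystemOfSubgroup H (S : Subgroup G) hSH).Hom P ≠ (Cfsg.groupFusionSystem (S : Subgroup G)).Hom P) : IsSimpleGroup G := by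
  haveI : Nontrivial G := by
    rcases subsingleton_or_nontrivial G with h | h
    · exact absurd (Subgroup.eq_bot_of_subsingleton _) hsimple.2.1
    · exact h
  refine ⟨fun N hN => ?_⟩
  haveI := hN
  rcases hsimple.2.2 _ _ (CfsgLib.Fusion.isNormalIn_of_normal S N) with hT | ⟨hT, hhom⟩
  · left
    have h1 := CfsgLib.PLocal.sylow_inf_normal_not_dvd S N
    rw [hT, Subgroup.relIndex_bot_left] at h1
    have h2 : N ≤ Cfsg.pPrimeCore p G :=
      le_sSup ⟨hN, ((Fact.out : p.Prime).coprime_iff_not_dvd.2 h1).symm⟩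
    rw [hcore] at h2
    exact le_bot_iff.1 h2
  · right
    have hSN : (S : Subgroup G) ≤ N := inf_eq_left.1 hT
    by_contra hne
    obtain ⟨P, hP⟩ := hmin N hSN hne
    refine hP ?_
    rw [← hhom P]
    ext φ
    show (P ≤ (S : Subgroup G) ∧ (∀ x : P, φ x ∈ (S : Subgroup G)) ∧ _) ↔
      (P ≤ (S : Subgroup G) ⊓ N ∧ (∀ x : P, φ x ∈ (S : Subgroup G) ⊓ N) ∧ _)
    rw [hT]

end Cfsg.Agent.S5336
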