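import Cfsg.Statements.S5338
import Cfsg.Agent.Lib.Fusion.Simple

set_option autoImplicit false
open Cfsg

namespace Cfsg.Agent.S5338

/-- Let F be a saturated fusion system over a finite p-group S and F′ ≤ F a saturated subsystem over all of S that is invariant under F in the conjugation sense: for every map φ of F with source Q and every map ψ of F′ between subgroups R ≤ Q (with values in Q), the transported map φψφ⁻¹ defined on φ(R) is again a map of F′. If moreover Aut_{F′}(S) = Aut_F(S), then F′ = F. -/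
theorem result {Ω : Type*} [Group Ω] {S : Subgroup Ω} [Finite S] (p : ℕ) [Fact p.Prime] (hS : IsPGroup p S) (F : Cfsg.FusionSystem S) (hF : F.IsSaturated p) (F' : Cfsg.FusionSystem S) (hF' : F'.IsSaturated p) (hle : F' ≤ F) (hinv : ∀ (Q : Subgroup Ω) (φ : ↥Q →* Ω), φ ∈ F.Hom Q → ∀ (R : Subgroup Ω) (hRQ : R ≤ Q) (ψ : ↥R →* Ω), ψ ∈ F'.Hom R → ∀ (hψQ : ∀ x : R, ψ x ∈ Q), ∃ χ ∈ F'.Hom ((R.subgroupOf Q).map φ), ∀ (x : R) (hx : φ ⟨(x : Ω), hRQ x.2⟩ ∈ (R.subgroupOf Q).map φ), χ ⟨φ ⟨(x : Ω), hRQ x.2⟩, hx⟩ = φ ⟨ψ x, hψQ x⟩) (htop : F'.autGroup S = F.autGroup S) (P : Subgroup Ω) : F'.Hom P = F.Hom P := by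
  refine CfsgLib.Fusion.hom_eq_of_le_le hle
    (CfsgLib.Fusion.le_of_invariant_of_top hS hF hle (fun R hR α hα β hβ => ?_) htop.ge) P
  have hφ := (CfsgLib.Fusion.autGroup_mem_iff hR.1).1 hα
  have hψ := (CfsgLib.Fusion.autGroup_mem_iff hR.1).1 hβ
  obtain ⟨χ, hχ, hχx⟩ := hinv R _ hφ R le_rfl _ hψ fun x => (β x).2
  have hRR : (R.subgroupOf R).map (R.subtype.comp α.toMonoidHom) = R := by
    ext y
    constructor
    · rintro ⟨s, -, rfl⟩
      exact (α s).2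
    · intro hy
      obtain ⟨s, hs⟩ := α.surjective ⟨y, hy⟩
      exact ⟨s, s.2, congrArg Subtype.val hs⟩
  refine (CfsgLib.Fusion.autGroup_iff_isMap hR.1 fun y => ?_).2
    ((CfsgLib.Fusion.isMap_of_hom hχ).mono hRR.ge)
  obtain ⟨x, rfl⟩ := α.surjective y
  have hmem : ((α x : R) : Ω) ∈ (R.subgroupOf R).map (R.subtype.comp α.toMonoidHom) :=
    hRR.ge (α x).2
  rw [CfsgLib.Fusion.toFun_of_mem χ hmem]
  refine Eq.trans ?_ (hχx x hmem).symm
  show ((α (β (α⁻¹ (α x))) : R) : Ω) = ((α ⟨((β x : R) : Ω), _⟩ : R) : Ω)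
  rw [MulAut.inv_apply_self]

end Cfsg.Agent.S5338
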