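import Cfsg.Statements.S5340
import Cfsg.Agent.Lib.Fusion.Simple

set_option autoImplicit false
open Cfsg

namespace Cfsg.Agent.S5340

/-- Let F be a saturated fusion system over a nontrivial finite p-group S such that S is generated by its elements of order p, any two subgroups of S of order p are F-conjugate, and Aut_F(S) consists of inner automorphisms only. Then F is simple. -/
theorem result {Ω : Type*} [Group Ω] {S : Subgroup Ω} [Finite S] (p : ℕ) [Fact p.Prime] (hS : IsPGroup p S) (F : Cfsg.FusionSystem S) (hF : F.IsSaturated p) (hS1 : S ≠ ⊥) (hgen : Subgroup.closure {x : Ω | x ∈ S ∧ orderOf x = p} = S) (htr : ∀ A B : Subgroup Ω, A ≤ S → B ≤ S → Nat.card A = p → Nat.card B = p → F.IsConj A B) (htop : F.autGroup S = Cfsg.Inn ↥S) : F.IsSimple p := by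
  refine CfsgLib.Fusion.isSimple_of_autGroup_top_inn hS hF hS1 htop.le fun T hT => ?_
  rcases eq_or_ne T ⊥ with h | h
  · exact Or.inl h
  refine Or.inr (le_antisymm hT.1 ?_)
  haveI : Finite T := CfsgLib.Fusion.finite_of_le hT.1
  haveI : Nontrivial T := T.nontrivial_iff_ne_bot.2 h
  obtain ⟨k, hk, hcard⟩ := (IsPGroup.nontrivial_iff_card (hS.to_le hT.1)).1 inferInstance
  obtain ⟨a, ha⟩ := exists_prime_orderOf_dvd_card' (G := T) p
    (hcard ▸ dvd_pow_self p hk.ne')
  rw [← hgen, Subgroup.closure_le]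
  rintro x ⟨hxS, hx⟩
  have hao : orderOf (a : Ω) = p := (Subgroup.orderOf_coe a).trans ha
  obtain ⟨φ, hφ, hr⟩ := htr (Subgroup.zpowers (a : Ω)) (Subgroup.zpowers x)
    (Subgroup.zpowers_le.2 (hT.1 a.2)) (Subgroup.zpowers_le.2 hxS)
    ((Nat.card_zpowers _).trans hao) ((Nat.card_zpowers _).trans hx)
  obtain ⟨y, hy⟩ : x ∈ φ.range := hr.symm ▸ Subgroup.mem_zpowers x
  exact hy ▸ hT.2 _ (Subgroup.zpowers_le.2 a.2) φ hφ y

end Cfsg.Agent.S5340
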