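import Cfsg.Statements.S5342
import Cfsg.Agent.Lib.Fusion.ConstrainedSubnormal

set_option autoImplicit false
open Cfsg

namespace Cfsg.Agent.S5342

/-- Let F be a constrained saturated fusion system over a finite p-group S. Then every subsystem of F that is subnormal in F (reached from F by a finite chain of successive normal subsystems) is constrained. -/
theorem result {Ω : Type*} [Group Ω] {S : Subgroup Ω} [Finite S] (p : ℕ) [Fact p.Prime] (hS : IsPGroup p S) (F : Cfsg.FusionSystem S) (hF : F.IsConstrained p) {T : Subgroup Ω} (E : Cfsg.FusionSystem T) (hE : E.IsSubnormalIn F p) : E.IsConstrained p := by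
  suffices h : ∀ {T : Subgroup Ω} (E : Cfsg.FusionSystem T) {S : Subgroup Ω}
      (F : Cfsg.FusionSystem S) (p : ℕ), E.IsSubnormalIn F p →
      ∀ (_ : Fact p.Prime) (_ : Finite S), IsPGroup p S → F.IsConstrained p →
        E.IsConstrained p from h E F p hE inferInstance inferInstance hS hF
  intro T E S F p hE
  induction hE with
  | refl F p => exact fun _ _ _ h => h
  | step h₁ h₂ ih =>
    intro _ _ hS hF
    obtain ⟨⟨hDs, -, hsub, hsc, -, -⟩, -⟩ := h₂
    exact ih inferInstance (CfsgLib.Fusion.finite_of_le hsc.1) (hS.to_le hsc.1)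
      (CfsgLib.Fusion.isConstrained_of_subsystem hS hF hsub hDs hsc)

end Cfsg.Agent.S5342
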