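import Cfsg.Statements.S5343
import Cfsg.Agent.Lib.Fusion.NormalSubgroup
import Cfsg.Agent.Lib.Fusion.RealizedPSolvable
import Cfsg.Agent.Lib.Comp.SystemTransport
-- import your own Cfsg.Agent.* helpers here

set_option autoImplicit false
universe u
open Cfsg

namespace Cfsg.Agent.S5343

open Cfsg Cfsg.FusionSystem Subgroup CfsgLib.Fusion CfsgLib.Comp.Fus

set_option linter.style.haveILetI false
set_option linter.unusedVariables false

/-- Let F be a simple saturated fusion system over a finite p-group S that is realized by some finite group on a Sylow p-subgroup. Then F is realized by a finite simple group on a Sylow p-subgroup. -/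
theorem result {Ω : Type u} [Group Ω] {S : Subgroup Ω} [Finite S] (p : ℕ) [Fact p.Prime] (hS : IsPGroup p S) (F : Cfsg.FusionSystem S) (hsimple : F.IsSimple p) (hreal : F.IsRealizable p) : ∃ (G : Type u) (_ : Group G) (_ : Finite G) (_ : IsSimpleGroup G) (ι : ↥S →* G), F.IsRealizedBy ι ∧ ∃ T : Sylow p G, (T : Subgroup G) = ι.range := by
  suffices key : ∀ (n : ℕ) (G : Type u) (_ : Group G) (_ : Finite G) (ι : ↥S →* G),
      Nat.card G = n → F.IsRealizedBy ι → (∃ T : Sylow p G, (T : Subgroup G) = ι.range) →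
      ∃ (G : Type u) (_ : Group G) (_ : Finite G) (_ : IsSimpleGroup G) (ι : ↥S →* G),
        F.IsRealizedBy ι ∧ ∃ T : Sylow p G, (T : Subgroup G) = ι.range by
    obtain ⟨G, iG, fG, ι, hι, hT⟩ := hreal
    exact key _ G iG fG ι rfl hι hT
  intro n
  induction n using Nat.strong_induction_on with
  | _ n ih =>
    intro G iG fG ι hn hι hTex
    by_cases hcore : pPrimeCore p G = ⊥
    swap
    · haveI := CfsgLib.Solvable.pPrimeCore_normal p G
      obtain ⟨hr', hT'⟩ := realized_quotient hι hTex (pPrimeCore p G)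
        (CfsgLib.Solvable.pPrimeCore_coprime p)
      refine ih _ ?_ (G ⧸ pPrimeCore p G) inferInstance inferInstance _ rfl hr' hT'
      have h1 := Subgroup.card_eq_card_quotient_mul_card_subgroup (pPrimeCore p G)
      have h2 : 1 < Nat.card (pPrimeCore p G) := Subgroup.one_lt_card_iff_ne_bot _ |>.2 hcore
      have h3 : 0 < Nat.card (G ⧸ pPrimeCore p G) := Nat.card_pos
      nlinarith
    obtain ⟨T, hT⟩ := hTex
    by_cases hnorm : ∃ N : Subgroup G, N.Normal ∧ N ≠ ⊥ ∧ N ≠ ⊤
    swap
    · push Not at hnorm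
      haveI : Nontrivial G := by
        by_contra hnt
        haveI := not_nontrivial_iff_subsingleton.1 hnt
        exact hsimple.2.1 ((Subgroup.eq_bot_iff_forall _).2 fun x hx =>
          congrArg Subtype.val (hι.1 (Subsingleton.elim (ι ⟨x, hx⟩) (ι 1))))
      haveI : IsSimpleGroup G := ⟨fun N hN => or_iff_not_imp_left.2 fun h => hnorm N hN h⟩
      exact ⟨G, iG, fG, inferInstance, ι, hι, T, hT⟩
    obtain ⟨N, hN, hNb, hNt⟩ := hnorm
    obtain ⟨k, hk⟩ := exists_isIso_of_realized hι
    have hs' : (groupFusionSystem ι.range).IsSimple p := isSimple_transport hk hsimple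
    rw [← hT] at hs'
    have hidx := CfsgLib.PLocal.sylow_inf_normal_not_dvd T N
    rcases hs'.2.2 _ _ (isNormalIn_of_normal T N) with hb | ⟨hTN, hhom⟩
    · exfalso
      rw [hb, Subgroup.relIndex_bot_left] at hidx
      exact hNb (le_bot_iff.1 (hcore ▸ le_sSup (s := {K : Subgroup G | K.Normal ∧
        Nat.Coprime (Nat.card K) p}) ⟨hN, ((Fact.out : p.Prime).coprime_iff_not_dvd.2 hidx).symm⟩))
    have hιN : ∀ s : S, ι s ∈ N := fun s =>
      inf_eq_left.1 hTN (hT.ge ⟨s, rfl⟩)
    refine ih _ ?_ N inferInstance inferInstance (ι.codRestrict N hιN) rfl ⟨?_, ?_⟩ ?_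
    · rw [← hn]
      exact lt_of_le_of_ne (Subgroup.card_le_card_group N)
        fun e => hNt (Subgroup.card_eq_iff_eq_top N |>.1 e)
    · exact fun a b hab => hι.1 (congrArg Subtype.val hab)
    · intro P hP φ hφ
      rw [hι.2 P hP φ hφ]
      constructor
      swap
      · rintro ⟨g, hg⟩
        exact ⟨g, fun x => congrArg Subtype.val (hg x)⟩
      rintro ⟨g, hg⟩
      set P' : Subgroup G := (P.subgroupOf S).map ι with hP'
      have hmem : conjHom P' g ∈ (groupFusionSystem (T : Subgroup G)).Hom P' := by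
        refine ⟨?_, ?_, g, fun x => rfl⟩
        · rintro _ ⟨x, hx, rfl⟩
          exact hT.ge ⟨x, rfl⟩
        · rintro ⟨_, x, hx, rfl⟩
          show g * ι x * g⁻¹ ∈ (T : Subgroup G)
          have h1 := hg ⟨(x : Ω), hx⟩
          rw [show (⟨((⟨(x : Ω), hx⟩ : P) : Ω), hP hx⟩ : S) = x from rfl] at h1
          rw [← h1]
          exact hT.ge ⟨_, rfl⟩
      rw [← hhom P'] at hmem
      obtain ⟨-, -, m, hmN, hm⟩ := hmem
      refine ⟨⟨m, hmN⟩, fun x => Subtype.ext ?_⟩
      have h2 := hm ⟨ι ⟨x, hP x.2⟩, ⟨⟨x, hP x.2⟩, x.2, rfl⟩⟩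
      exact (hg x).trans h2
    · haveI : Fintype N := Fintype.ofFinite N
      have hr : (ι.codRestrict N hιN).range = ((T : Subgroup G)).subgroupOf N := by
        ext y
        constructor
        · rintro ⟨s, rfl⟩
          exact hT.ge ⟨s, rfl⟩
        · intro hy
          obtain ⟨s, hs⟩ := hT.le hy
          exact ⟨s, Subtype.ext hs⟩
      have hle : (T : Subgroup G) ≤ N := inf_eq_left.1 hTN
      exact ⟨(T.subtype hle), by rw [hr]; rfl⟩

end Cfsg.Agent.S5343
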