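import Cfsg.Statements.S5346
import Cfsg.Agent.Lib.Trans3.Classes
import Cfsg.Agent.Lib.Trans3.Large

set_option autoImplicit false
open Cfsg

namespace Cfsg.Agent.S5346

/-- Let D be a conjugation-invariant generating set of 3-transpositions of a finite group G and d a member of D. Then D has width 1 (no two different members of D commute) if and only if G is the product of the subgroup generated by d with the largest normal 3-subgroup of G. -/
theorem result {G : Type*} [Group G] [Finite G] {D : Set G} (hD : Cfsg.IsThreeTranspositionGroup D) {d : G} (hd : d ∈ D) : Cfsg.commutingWidth D = 1 ↔ Subgroup.zpowers d ⊔ Cfsg.pCore 3 G = ⊤ := by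
  haveI : Fact (Nat.Prime 3) := ⟨Nat.prime_three⟩
  haveI hN := CfsgLib.Amalgam.normal_pCore (G := G) (p := 3)
  constructor
  · intro hw
    have hnc : ∀ a ∈ D, ∀ b ∈ D, a ≠ b → ¬ Commute a b := fun a ha b hb hne hc => by
      have := CfsgLib.Trans3.le_commutingWidth (D := D) (E := ({a, b} : Set G))
        (Set.insert_subset ha (Set.singleton_subset_iff.2 hb)) (by
          rintro x (rfl | rfl) y (rfl | rfl)
          exacts [Commute.refl _, hc, hc.symm, Commute.refl _])
      rw [Set.ncard_pair hne, hw] at this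
      omega
    have hP := CfsgLib.Trans3.isPGroup_products (D := D) (fun x hx => CfsgLib.Trans3.sq_one hD.1 hx)
      (fun x hx y hy => by
        by_cases h : x = y
        · rw [h, CfsgLib.Trans3.sq_one hD.1 hy, one_pow]
        · exact CfsgLib.Trans3.pow_three hD.1 hx hy (hnc x hx y hy h))
      (fun x hx y hy => CfsgLib.Trans3.self_conj_mem hD hx hy)
    have hle := CfsgLib.Amalgam.le_pCore (CfsgLib.Trans3.closure_normal_of_conj_mem (by
      rintro g _ ⟨a, ha, b, hb, rfl⟩
      exact ⟨_, hD.2.1 g a ha, _, hD.2.1 g b hb, by group⟩)) hP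
    refine top_le_iff.1 (hD.2.2 ▸ (Subgroup.closure_le _).2 fun e he => ?_)
    rw [show e = d * (d * e) from (CfsgLib.Trans3.invol_cancel (hD.1.1 d hd) e).symm]
    exact Subgroup.mul_mem_sup (Subgroup.mem_zpowers d)
      (hle (Subgroup.subset_closure ⟨d, hd, e, he, rfl⟩))
  · intro htop
    have hmem : ∀ a ∈ D, d * a ∈ Cfsg.pCore 3 G := by
      intro a ha
      have h : a ∈ Subgroup.zpowers d ⊔ Cfsg.pCore 3 G := htop ▸ Subgroup.mem_top a
      obtain ⟨z, hz, n, hn, rfl⟩ := Subgroup.mem_sup_of_normal_right.1 h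
      rcases CfsgLib.Trans3.mem_zpowers_invol (hD.1.1 d hd) hz with rfl | rfl
      · exfalso
        rw [one_mul] at ha
        exact CfsgLib.Trans3.invol_ne_one (hD.1.1 _ ha)
          (CfsgLib.Trans3.sq_eq_one_of_mem_three_pCore hn
            ((pow_two n).trans (CfsgLib.Trans3.sq_one hD.1 ha)))
      · rw [CfsgLib.Trans3.invol_cancel (hD.1.1 z hd)]; exact hn
    refine le_antisymm ?_ ?_
    · obtain ⟨E, hE, hc, hn⟩ := CfsgLib.Trans3.exists_commutingWidth D
      rw [← hn]
      refine Set.ncard_le_one_iff_subsingleton.2 fun a ha b hb => ?_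
      have hab : a * b ∈ Cfsg.pCore 3 G := by
        have := mul_mem (inv_mem (hmem a (hE ha))) (hmem b (hE hb))
        rwa [mul_inv_rev, mul_assoc, inv_mul_cancel_left, CfsgLib.Trans3.inv_eq hD.1 (hE ha)] at this
      have := CfsgLib.Trans3.sq_eq_one_of_mem_three_pCore hab
        ((CfsgLib.Trans3.commute_iff_pow_two hD.1 (hE ha) (hE hb)).1 (hc a ha b hb))
      rw [eq_inv_of_mul_eq_one_left this, CfsgLib.Trans3.inv_eq hD.1 (hE hb)]
    · simpa using CfsgLib.Trans3.le_commutingWidth (D := D) (E := ({d} : Set G))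
        (Set.singleton_subset_iff.2 hd) (by
          rintro x rfl y rfl
          exact Commute.refl _)

end Cfsg.Agent.S5346
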