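import Cfsg.Statements.S5349
import Cfsg.Agent.Lib.Trans3.Classes

set_option autoImplicit false
open Cfsg

namespace Cfsg.Agent.S5349

/-- Let D be a conjugacy class of 3-transpositions generating the finite group G, with at least two members, and d a member of D. Then the set of members of D commuting with exactly the same members of D as d coincides with the set of members of D lying in the coset of d modulo the largest normal 2-subgroup of G, and also with the orbit of d under conjugation by that normal 2-subgroup. -/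
theorem result {G : Type*} [Group G] [Finite G] {D : Set G} (hD : Cfsg.IsThreeTranspositionClass D) (hD2 : ∃ a ∈ D, ∃ b ∈ D, a ≠ b) {d : G} (hd : d ∈ D) : {v : G | v ∈ D ∧ ∀ e ∈ D, Commute v e ↔ Commute d e} = {v : G | v ∈ D ∧ d⁻¹ * v ∈ Cfsg.pCore 2 G} ∧ {v : G | v ∈ D ∧ ∀ e ∈ D, Commute v e ↔ Commute d e} = {v : G | ∃ g ∈ Cfsg.pCore 2 G, v = g * d * g⁻¹} := by
  open CfsgLib.Trans3 in
  have hG := class_isGroup hD
  open CfsgLib.Trans3 in
  have h1 : ∀ v, (v ∈ D ∧ ∀ e ∈ D, Commute v e ↔ Commute d e) ↔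
      v ∈ D ∧ d⁻¹ * v ∈ Cfsg.pCore 2 G := fun v => by
    rw [inv_eq hG.1 hd]
    exact ⟨fun h => (vRel_iff hG hd).1 ⟨hd, h⟩, fun h => ((vRel_iff hG hd).2 h).2⟩
  refine ⟨Set.ext h1, Set.ext fun v => ⟨fun hv => ?_, ?_⟩⟩
  · obtain ⟨e, he, hn⟩ := CfsgLib.Trans3.exists_noncomm hD hD2 hd
    have h := ((h1 v).1 hv).2
    rw [CfsgLib.Trans3.inv_eq hG.1 hd] at h
    refine ⟨e * (d * v) * e, ?_, (CfsgLib.Trans3.conj_eq_of_vRel hG ⟨hd, hv⟩ he hn).symm⟩
    have := (CfsgLib.Amalgam.normal_pCore (G := G) (p := 2)).conj_mem _ h e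
    rwa [CfsgLib.Trans3.inv_eq hG.1 he] at this
  · rintro ⟨g, hg, rfl⟩
    refine (h1 _).2 ⟨CfsgLib.Trans3.conj_mem hG hd, ?_⟩
    rw [show d⁻¹ * (g * d * g⁻¹) = (d⁻¹ * g * d⁻¹⁻¹) * g⁻¹ by group]
    exact mul_mem ((CfsgLib.Amalgam.normal_pCore (G := G) (p := 2)).conj_mem _ hg d⁻¹) (inv_mem hg)

end Cfsg.Agent.S5349
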