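import Cfsg.Statements.S5350
import Cfsg.Agent.Lib.Trans3.Classes

set_option autoImplicit false
open Cfsg

namespace Cfsg.Agent.S5350

/-- Let D be a conjugacy class of 3-transpositions generating the finite group G, with at least two members, and d a member of D. Then the set of members w of D whose commuting partners in D (other than w) are exactly those of d (other than d) coincides with the set of members of D lying in the coset of d modulo the largest normal 3-subgroup of G, and also with the orbit of d under conjugation by that normal 3-subgroup. -/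
theorem result {G : Type*} [Group G] [Finite G] {D : Set G} (hD : Cfsg.IsThreeTranspositionClass D) (hD2 : ∃ a ∈ D, ∃ b ∈ D, a ≠ b) {d : G} (hd : d ∈ D) : {w : G | w ∈ D ∧ {y : G | y ∈ D ∧ y ≠ d ∧ Commute d y} = {y : G | y ∈ D ∧ y ≠ w ∧ Commute w y}} = {w : G | w ∈ D ∧ d⁻¹ * w ∈ Cfsg.pCore 3 G} ∧ {w : G | w ∈ D ∧ {y : G | y ∈ D ∧ y ≠ d ∧ Commute d y} = {y : G | y ∈ D ∧ y ≠ w ∧ Commute w y}} = {w : G | ∃ g ∈ Cfsg.pCore 3 G, w = g * d * g⁻¹} := by
  open CfsgLib.Trans3 in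
  have hG := class_isGroup hD
  open CfsgLib.Trans3 in
  have h1 : ∀ w, (w ∈ D ∧ {y : G | y ∈ D ∧ y ≠ d ∧ Commute d y} =
      {y : G | y ∈ D ∧ y ≠ w ∧ Commute w y}) ↔ w ∈ D ∧ d⁻¹ * w ∈ Cfsg.pCore 3 G := fun w => by
    rw [inv_eq hG.1 hd]
    exact ⟨fun h => (wRel_iff hG hd).1 ⟨hd, h⟩, fun h => ((wRel_iff hG hd).2 h).2⟩
  refine ⟨Set.ext h1, Set.ext fun w => ⟨fun hw => ?_, ?_⟩⟩
  · have h := ((h1 w).1 hw).2
    by_cases hwd : w = d
    · exact ⟨1, one_mem _, by simp [hwd]⟩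
    · rw [CfsgLib.Trans3.inv_eq hG.1 hd] at h
      exact ⟨d * w, h, (CfsgLib.Trans3.conj_of_noncomm hG.1 hd hw.1
        (CfsgLib.Trans3.WRel.not_commute ⟨hd, hw⟩ hwd)).symm⟩
  · rintro ⟨g, hg, rfl⟩
    refine (h1 _).2 ⟨CfsgLib.Trans3.conj_mem hG hd, ?_⟩
    rw [show d⁻¹ * (g * d * g⁻¹) = (d⁻¹ * g * d⁻¹⁻¹) * g⁻¹ by group]
    exact mul_mem ((CfsgLib.Amalgam.normal_pCore (G := G) (p := 3)).conj_mem _ hg d⁻¹) (inv_mem hg)

end Cfsg.Agent.S5350
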