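import Cfsg.Statements.S5351
import Cfsg.Agent.Lib.Trans3.Fitting

set_option autoImplicit false
open Cfsg

namespace Cfsg.Agent.S5351

/-- Let D be a conjugacy class of 3-transpositions generating the finite group G, with at least two members. Then for every prime p > 3 the largest normal p-subgroup of G is central, and exactly one of the following holds: the largest normal 2-subgroup of G is not central; the largest normal 3-subgroup of G is not central; the layer of G (the product of its components) is non-trivial. -/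
theorem result {G : Type*} [Group G] [Finite G] {D : Set G} (hD : Cfsg.IsThreeTranspositionClass D) (hD2 : ∃ a ∈ D, ∃ b ∈ D, a ≠ b) : (∀ p : ℕ, p.Prime → 3 < p → Cfsg.pCore p G ≤ Subgroup.center G) ∧ ((¬ Cfsg.pCore 2 G ≤ Subgroup.center G ∧ Cfsg.pCore 3 G ≤ Subgroup.center G ∧ Cfsg.layer G = ⊥) ∨ (Cfsg.pCore 2 G ≤ Subgroup.center G ∧ ¬ Cfsg.pCore 3 G ≤ Subgroup.center G ∧ Cfsg.layer G = ⊥) ∨ (Cfsg.pCore 2 G ≤ Subgroup.center G ∧ Cfsg.pCore 3 G ≤ Subgroup.center G ∧ Cfsg.layer G ≠ ⊥)) := by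
  open CfsgLib.Trans3 in
  refine ⟨fun p hp h3 => pCore_le_center_of_three_lt (class_isGroup hD) hp h3, ?_⟩
  by_cases h2 : Cfsg.pCore 2 G ≤ Subgroup.center G
  · by_cases h3 : Cfsg.pCore 3 G ≤ Subgroup.center G
    · exact Or.inr (Or.inr ⟨h2, h3, CfsgLib.Trans3.layer_ne_bot hD hD2 h2 h3⟩)
    · exact Or.inr (Or.inl ⟨h2, h3, CfsgLib.Trans3.layer_eq_bot_of_three hD h3⟩)
  · refine Or.inl ⟨h2, not_not.1 fun h3 => ?_, CfsgLib.Trans3.layer_eq_bot_of_two hD h2⟩
    obtain ⟨d, hd, -⟩ := hD.2.1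
    obtain ⟨v, hv, hvd⟩ := CfsgLib.Trans3.exists_vRel_ne hD h2 hd
    obtain ⟨w, hw, hwd⟩ := CfsgLib.Trans3.exists_wRel_ne hD h3 hd
    rcases CfsgLib.Trans3.perp_classes_trivial hD.1 hd with h | h
    · exact hvd (Set.mem_singleton_iff.1 (h ▸ (show v ∈ {v : G | v ∈ D ∧ ∀ e ∈ D, Commute v e ↔ Commute d e} from hv.2)))
    · exact hwd (Set.mem_singleton_iff.1 (h ▸ (show w ∈ {w : G | w ∈ D ∧ {y : G | y ∈ D ∧ y ≠ d ∧ Commute d y} = {y : G | y ∈ D ∧ y ≠ w ∧ Commute w y}} from hw.2)))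

end Cfsg.Agent.S5351
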