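import Cfsg.Statements.S5354
import Cfsg.Agent.Lib.Trans3.Structure

set_option autoImplicit false
open Cfsg

namespace Cfsg.Agent.S5354

/-- Let D be a conjugation-invariant generating set of 3-transpositions of the finite group G on which G acts primitively by conjugation, and suppose two different members of D commute (width at least 2). Then G has a quasisimple normal subgroup L of index at most 2 with the generalized Fitting subgroup of G equal to L times the centre, the commuting graph of D is connected, and for d in D the subgroup generated by the members of D commuting with d is a maximal D-subgroup: it is proper, and every subgroup generated by members of D that contains it is either it or G. -/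
theorem result {G : Type*} [Group G] [Finite G] {D : Set G} (hD : Cfsg.IsThreeTranspositionGroup D) (hprim : Cfsg.IsPrimitiveUnderConj D) (hw : ∃ a ∈ D, ∃ b ∈ D, a ≠ b ∧ Commute a b) : (∃ L : Subgroup G, L.Normal ∧ Cfsg.IsQuasisimple L ∧ L.index ≤ 2 ∧ Cfsg.generalizedFittingSubgroup G = L ⊔ Subgroup.center G) ∧ (Cfsg.commutingGraph D).Connected ∧ ∀ d ∈ D, Subgroup.closure {y : G | y ∈ D ∧ Commute d y} ≠ ⊤ ∧ ∀ H : Subgroup G, Cfsg.IsDSubgroup D H → Subgroup.closure {y : G | y ∈ D ∧ Commute d y} ≤ H → H = Subgroup.closure {y : G | y ∈ D ∧ Commute d y} ∨ H = ⊤ := by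
  open CfsgLib.Trans3 in
  have hC := primitive_isClass hD hprim
  open CfsgLib.Trans3 in
  have h2 := primitive_pCore_two hD hprim
  open CfsgLib.Trans3 in
  have h3 := primitive_pCore_three hD hprim hw
  open CfsgLib.Trans3 in
  have hconn := connected hD hprim hw
  refine ⟨?_, hconn, fun d hd => ⟨fun htop => ?_, fun H hH hle => ?_⟩⟩
  · obtain ⟨L, hn, hq, hF⟩ := CfsgLib.Trans3.exists_quasisimple hC hprim.2.1 h2 h3
    exact ⟨L, hn, hq, (CfsgLib.Trans3.index_le_two_of_connected hC L hq hconn).1, hF⟩
  · obtain ⟨e, he, hde⟩ := CfsgLib.Trans3.exists_noncomm_of_primitive hD hprim hd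
    apply hde
    have : Subgroup.closure {y : G | y ∈ D ∧ Commute d y} ≤ Subgroup.centralizer {d} :=
      (Subgroup.closure_le _).2 fun y hy => Subgroup.mem_centralizer_singleton_iff.2 hy.2.symm
    exact (Subgroup.mem_centralizer_singleton_iff.1 (this (htop ▸ Subgroup.mem_top e))).symm
  · by_cases hex : ∃ e ∈ D, e ∈ H ∧ ¬ Commute d e
    · obtain ⟨e, he, heH, hde⟩ := hex
      refine Or.inr (top_le_iff.1 (hD.2.2 ▸ (Subgroup.closure_le H).2 fun x hx => ?_))
      by_cases hdx : Commute d x
      · exact hle (Subgroup.subset_closure ⟨hx, hdx⟩)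
      · obtain ⟨g, hg, rfl⟩ := CfsgLib.Trans3.trans_noncomm_closure hD hprim hw hd he hde hx hdx
        exact H.mul_mem (H.mul_mem (hle hg) heH) (H.inv_mem (hle hg))
    · refine Or.inl (le_antisymm ?_ hle)
      conv_lhs => rw [← (hH : Subgroup.closure {d : G | d ∈ D ∧ d ∈ H} = H)]
      exact Subgroup.closure_mono fun x hx => ⟨hx.1, not_not.1 fun h => hex ⟨x, hx.1, hx.2, h⟩⟩

end Cfsg.Agent.S5354
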