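import Cfsg.Statements.S5357
import Cfsg.Agent.Lib.Geom.ReflThree

set_option autoImplicit false
open scoped MatrixGroups
open Cfsg

namespace Cfsg.Agent.S5357

/-- Let Q be a non-degenerate quadratic form on the n-dimensional coordinate space over the field with three elements, n ≥ 5, and c a non-zero scalar. In the subgroup of the isometry group of Q generated by the reflections in vectors v with Q(v) = c, these reflections form a single conjugacy class of 3-transpositions generating that subgroup. -/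
theorem result (n : ℕ) (hn : 5 ≤ n) (Q : QuadraticForm (ZMod 3) (Fin n → ZMod 3)) (hQ : (QuadraticMap.polarBilin Q).Nondegenerate) (c : ZMod 3) (hc : c ≠ 0) : Cfsg.IsThreeTranspositionClass {g : ↥(Cfsg.reflectionSubgroup (⇑Q) c) | (g : ↥(Cfsg.isometryGroup (ZMod 3) (⇑Q))) ∈ Cfsg.reflectionsOfNorm (⇑Q) c} := by
  open CfsgLib.Geom in
  open CfsgLib.Geom.ReflThree in
  open QuadraticMap (polar) in
  have : Fact (Nat.Prime 3) := ⟨Nat.prime_three⟩
  have hsep := sep_of_nondegenerate Q hQ
  refine CfsgLib.Trans3.isThreeTranspositionClass_of_braid _ ?_ ?_ ?_ ?_ ?_ ?_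
  · obtain ⟨v, hv⟩ := exists_value Q two_ne hsep (by rw [Module.finrank_fin_fun]; omega) c hc
    obtain ⟨g, hg⟩ := exists_refl Q (v := v) (by rw [hv]; exact hc)
    exact ⟨⟨g, Subgroup.subset_closure ⟨v, hv, hg⟩⟩, v, hv, hg⟩
  · rintro d ⟨v, hv, hd⟩ g
    exact ⟨_, (map_act Q _ v).trans hv, IsRefl.conj Q hd g.1⟩
  · rintro d ⟨v, hv, hd⟩
    obtain ⟨h1, h2⟩ := IsRefl.sq_ne Q hd (by rw [hv]; exact hc)
    exact ⟨Subtype.ext h1, fun e => h2 (congrArg Subtype.val e)⟩
  · rintro d ⟨v, hv, hd⟩ e ⟨w, hw, he⟩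
    obtain ⟨h1, h2⟩ := comm_or_braid Q hd he (by rw [hv]; exact hc) (by rw [hw, hv])
    by_cases hp : polar Q v w = 0
    · exact Or.inl (Subtype.ext (h1 hp))
    · exact Or.inr (Subtype.ext (h2 hp))
  · rintro d ⟨v, hv, hd⟩ e ⟨w, hw, he⟩ hde
    have hv0 : Q v ≠ 0 := by rw [hv]; exact hc
    by_cases hp : polar Q v w = 0
    · obtain ⟨z, hz, hvz, hwz⟩ := exists_value_perp Q hn hQ v w hv0 (neg_ne_zero.2 hc)
      have hu : Q (v + w + z) = c := by
        rw [QuadraticMap.map_add (⇑Q), QuadraticMap.map_add (⇑Q), QuadraticMap.polar_add_left, hv, hw, hz, hp,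
          hvz, hwz]
        ring
      obtain ⟨f, hf⟩ := exists_refl Q (v := v + w + z) (by rw [hu]; exact hc)
      refine ⟨⟨f, Subgroup.subset_closure ⟨_, hu, hf⟩⟩, ⟨_, hu, hf⟩, Subtype.ext ?_, Subtype.ext ?_⟩
      · refine (comm_or_braid Q hd hf hv0 (by rw [hu, hv])).2 ?_
        rw [QuadraticMap.polar_add_right, QuadraticMap.polar_add_right, hp, hvz, polar_self_two, hv, add_zero,
          add_zero]
        exact mul_ne_zero two_ne hc
      · refine (comm_or_braid Q hf he (by rw [hu]; exact hc) (by rw [hu, hw])).2 ?_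
        rw [QuadraticMap.polar_add_left, QuadraticMap.polar_add_left, QuadraticMap.polar_comm (⇑Q) z w, hp, hwz,
          polar_self_two, hw, zero_add, add_zero]
        exact mul_ne_zero two_ne hc
    · have h := (comm_or_braid Q hd he hv0 (by rw [hw, hv])).2 hp
      have h' : d * e * d = e * d * e := Subtype.ext h
      have hd2 : d * d = 1 := Subtype.ext (IsRefl.sq_ne Q hd hv0).1
      have he2 : e * e = 1 := Subtype.ext (IsRefl.sq_ne Q he (by rw [hw]; exact hc)).1
      have hed : e = d := by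
        calc e = d * d * e := by rw [hd2, one_mul]
          _ = d * e * d := by rw [mul_assoc, mul_assoc, hde]
          _ = e * d * e := h'
          _ = d * (e * e) := by rw [← hde, mul_assoc]
          _ = d := by rw [he2, mul_one]
      subst hed
      exact ⟨e, ⟨v, hv, hd⟩, rfl, rfl⟩
  · exact Subgroup.closure_closure_coe_preimage

end Cfsg.Agent.S5357
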