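import Cfsg.Statements.S5358


set_option autoImplicit false
open scoped MatrixGroups
open Cfsg

namespace Cfsg.Agent.S5358

/-- Let Q be a non-degenerate quadratic form on the n-dimensional coordinate space over the field with three elements and u, v vectors of the same non-zero norm Q(u) = Q(v) spanning different lines (v ≠ u and v ≠ −u). Then the reflection matrices of u and v commute if and only if u and v are orthogonal for the polar form of Q. -/
theorem result (n : ℕ) (Q : QuadraticForm (ZMod 3) (Fin n → ZMod 3)) (hQ : (QuadraticMap.polarBilin Q).Nondegenerate) (u v : Fin n → ZMod 3) (hu : Q u ≠ 0) (huv : Q u = Q v) (h1 : v ≠ u) (h2 : v ≠ -u) : Commute (Cfsg.reflectionMatrix (⇑Q) u) (Cfsg.reflectionMatrix (⇑Q) v) ↔ QuadraticMap.polar (⇑Q) u v = 0 := by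
  set p := Cfsg.polarVec (⇑Q) with hp
  have hdot : ∀ x w : Fin n → ZMod 3, p x ⬝ᵥ w = QuadraticMap.polar (⇑Q) x w := by
    intro x w
    have e : QuadraticMap.polar (⇑Q) x w = (QuadraticMap.polarBilin Q) x w := rfl
    conv_rhs => rw [e, pi_eq_sum_univ w, map_sum]
    refine Finset.sum_congr rfl fun j _ => ?_
    rw [map_smul, smul_eq_mul, mul_comm]
    congr 1
    show QuadraticMap.polar (⇑Q) x _ = QuadraticMap.polar (⇑Q) x _
    congr 1
    funext i
    simp [Pi.single_apply, eq_comm]
  have expand : ∀ x y : Fin n → ZMod 3, Cfsg.reflectionMatrix (⇑Q) x * Cfsg.reflectionMatrix (⇑Q) y =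
      1 - (Q x)⁻¹ • Matrix.vecMulVec x (p x) - (Q y)⁻¹ • Matrix.vecMulVec y (p y) +
        ((Q x)⁻¹ * (Q y)⁻¹ * QuadraticMap.polar (⇑Q) x y) • Matrix.vecMulVec x (p y) := by
    intro x y
    rw [Cfsg.reflectionMatrix, Cfsg.reflectionMatrix, ← hp, sub_mul, one_mul, mul_sub,
      mul_one, smul_mul_assoc, mul_smul_comm, Matrix.vecMulVec_mul_vecMulVec, hdot,
      Matrix.vecMulVec_smul, smul_smul, smul_smul]
    abel
  rw [commute_iff_eq, expand, expand, QuadraticMap.polar_comm (⇑Q) v u, huv, sub_right_comm,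
    add_right_inj]
  constructor
  · intro h
    by_contra hf
    have hs : (Q v)⁻¹ * (Q v)⁻¹ * QuadraticMap.polar (⇑Q) u v ≠ 0 :=
      mul_ne_zero (mul_ne_zero (inv_ne_zero (huv ▸ hu)) (inv_ne_zero (huv ▸ hu))) hf
    have h' := congrArg (fun M : Matrix (Fin n) (Fin n) (ZMod 3) => M.mulVec v)
      (smul_right_injective _ hs h)
    simp only [Matrix.vecMulVec_mulVec, hdot, op_smul_eq_smul] at h'
    rw [QuadraticMap.polar_self] at h'
    set c := QuadraticMap.polar (⇑Q) u v
    have h2a : (2 : ℕ) • Q v ≠ 0 := by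
      rw [nsmul_eq_mul]
      exact mul_ne_zero (by decide) (huv ▸ hu)
    have key : ∀ a b : ZMod 3, a ≠ 0 → b ≠ 0 → b = a ∨ b = -a := by decide
    rcases key _ _ hf h2a with e | e <;> rw [e] at h'
    · exact h1 (smul_right_injective _ hf h').symm
    · refine h2 (smul_right_injective _ hf (?_ : c • v = c • -u))
      rw [← h', neg_smul, smul_neg]
  · intro h
    rw [h, mul_zero, zero_smul, zero_smul]

end Cfsg.Agent.S5358
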