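import Cfsg.Statements.S5360
import Cfsg.Agent.Lib.Geom.ReflThreeGraph
import Cfsg.Agent.S5357

set_option autoImplicit false
open scoped MatrixGroups
open Cfsg

namespace Cfsg.Agent.S5360

/-- Let Q be a non-degenerate quadratic form on the n-dimensional coordinate space over the field with three elements, n ≥ 5, c a non-zero scalar, and R the subgroup of the isometry group generated by the reflections of norm c. Then the commutator subgroup of R is quasisimple of index at most 2, the generalized Fitting subgroup of R is the product of the centre and the commutator subgroup, and R acts primitively by conjugation on its reflections of norm c. -/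
theorem result (n : ℕ) (hn : 5 ≤ n) (Q : QuadraticForm (ZMod 3) (Fin n → ZMod 3)) (hQ : (QuadraticMap.polarBilin Q).Nondegenerate) (c : ZMod 3) (hc : c ≠ 0) : Cfsg.IsQuasisimple (commutator ↥(Cfsg.reflectionSubgroup (⇑Q) c)) ∧ (commutator ↥(Cfsg.reflectionSubgroup (⇑Q) c)).index ≤ 2 ∧ Cfsg.generalizedFittingSubgroup ↥(Cfsg.reflectionSubgroup (⇑Q) c) = Subgroup.center ↥(Cfsg.reflectionSubgroup (⇑Q) c) ⊔ commutator ↥(Cfsg.reflectionSubgroup (⇑Q) c) ∧ Cfsg.IsPrimitiveUnderConj {g : ↥(Cfsg.reflectionSubgroup (⇑Q) c) | (g : ↥(Cfsg.isometryGroup (ZMod 3) (⇑Q))) ∈ Cfsg.reflectionsOfNorm (⇑Q) c} := by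
  have : Fact (Nat.Prime 3) := ⟨Nat.prime_three⟩
  have hD := Cfsg.Agent.S5357.result n hn Q hQ c hc
  have h2 := CfsgLib.Geom.ReflThree.pCore_two_le hn hQ hc hD
  have h3 := CfsgLib.Geom.ReflThree.pCore_three_le hn hQ hc hD
  obtain ⟨a, ha, b, hb, hab, -⟩ := CfsgLib.Geom.ReflThree.exists_pair hn hQ hc
  have hD2 : ∃ a ∈ {g : ↥(Cfsg.reflectionSubgroup (⇑Q) c) |
      (g : ↥(Cfsg.isometryGroup (ZMod 3) (⇑Q))) ∈ Cfsg.reflectionsOfNorm (⇑Q) c},
      ∃ b ∈ {g : ↥(Cfsg.reflectionSubgroup (⇑Q) c) |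
      (g : ↥(Cfsg.isometryGroup (ZMod 3) (⇑Q))) ∈ Cfsg.reflectionsOfNorm (⇑Q) c}, a ≠ b :=
    ⟨a, ha, b, hb, hab⟩
  obtain ⟨L, hn', hq, hF⟩ := CfsgLib.Trans3.exists_quasisimple hD hD2 h2 h3
  obtain ⟨hidx, hcL⟩ := CfsgLib.Trans3.index_le_two_of_connected hD L hq
    (CfsgLib.Geom.ReflThree.graph_connected hn hQ hc)
  have hLc : L ≤ commutator ↥(Cfsg.reflectionSubgroup (⇑Q) c) := by
    rw [← (Subgroup.isPerfect_iff.1 hq.1 : ⁅L, L⁆ = L)]
    exact Subgroup.commutator_mono le_top le_top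
  rw [le_antisymm hcL hLc]
  refine ⟨hq, hidx, hF.trans (sup_comm _ _), ?_⟩
  exact CfsgLib.Trans3.primitive_of_normal hD hD2 h2 L hidx
    (CfsgLib.Trans3.quasisimple_minimal (CfsgLib.Trans3.class_isGroup hD) h2 h3 L hq hF)

end Cfsg.Agent.S5360
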