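import Cfsg.Statements.S5361
import Cfsg.Agent.Lib.Trans3.Structure

set_option autoImplicit false
open Cfsg

namespace Cfsg.Agent.S5361

/-- Let D be a conjugacy class of 3-transpositions generating the finite group G, and suppose the centre of G is trivial and some two different members of D commute. Then the following are equivalent: (1) the commutator subgroup of G is simple (possibly of prime order); (2) G acts primitively on D by conjugation; (3) the largest normal 2-subgroup and the largest normal 3-subgroup of G are trivial and the commuting graph of D is connected. -/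
theorem result {G : Type*} [Group G] [Finite G] {D : Set G} (hD : Cfsg.IsThreeTranspositionClass D) (hZ : Subgroup.center G = ⊥) (hw : ∃ a ∈ D, ∃ b ∈ D, a ≠ b ∧ Commute a b) : (IsSimpleGroup (commutator G) ↔ Cfsg.IsPrimitiveUnderConj D) ∧ (Cfsg.IsPrimitiveUnderConj D ↔ (Cfsg.pCore 2 G = ⊥ ∧ Cfsg.pCore 3 G = ⊥ ∧ (Cfsg.commutingGraph D).Connected)) := by
  have hG := CfsgLib.Trans3.class_isGroup hD
  have hD2 : ∃ a ∈ D, ∃ b ∈ D, a ≠ b := by
    obtain ⟨a, ha, b, hb, hab, -⟩ := hw
    exact ⟨a, ha, b, hb, hab⟩
  refine ⟨⟨fun hs => ?_, fun hP => ?_⟩, ⟨fun hP => ?_, ?_⟩⟩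
  · haveI := hs
    by_cases hnab : ∃ x y : commutator G, x * y ≠ y * x
    · exact (CfsgLib.Trans3.primitive_of_simple_commutator hD hnab).1
    · exfalso
      haveI : IsMulCommutative (commutator G) :=
        ⟨⟨fun x y => not_not.1 fun h => hnab ⟨x, y, h⟩⟩⟩
      letI : CommGroup (commutator G) :=
        { mul_comm := fun x y => not_not.1 fun h => hnab ⟨x, y, h⟩ }
      haveI := Fact.mk (IsSimpleGroup.prime_card (α := commutator G))
      set p := Nat.card (commutator G) with hp
      have hpg : IsPGroup p (commutator G) := IsPGroup.of_card (n := 1) (by rw [pow_one])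
      have hle : commutator G ≤ Cfsg.pCore p G := CfsgLib.Amalgam.le_pCore inferInstance hpg
      have hne : ¬ commutator G ≤ Subgroup.center G := fun h => by
        rw [hZ, le_bot_iff] at h
        have h1 := (IsSimpleGroup.prime_card (α := commutator G)).one_lt
        rw [Subgroup.card_eq_one.2 h] at h1
        omega
      have hp2 := (Fact.out : p.Prime).two_le
      rcases lt_or_ge 3 p with h | h
      · exact hne (hle.trans (CfsgLib.Trans3.pCore_le_center_of_three_lt hG Fact.out h))
      obtain h' | h' : p = 2 ∨ p = 3 := by omega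
      · apply hne
        intro x hx
        rw [Subgroup.mem_center_iff]
        intro g
        by_cases hx1 : x = 1
        · simp [hx1]
        obtain ⟨y, hy, huniq⟩ := Nat.card_eq_two_iff' (1 : commutator G) |>.1 (hp.symm.trans h')
        have e1 : (⟨x, hx⟩ : commutator G) = y := huniq _ fun e => hx1 (congrArg Subtype.val e)
        have e2 : (⟨g * x * g⁻¹, (inferInstance : (commutator G).Normal).conj_mem x hx g⟩ :
            commutator G) = y := huniq _ fun e => hx1 (by
          have := congrArg Subtype.val e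
          simpa using this)
        exact mul_inv_eq_iff_eq_mul.1 (congrArg Subtype.val (e2.trans e1.symm))
      · obtain ⟨a, ha, b, hb, hab, hc⟩ := hw
        apply hab
        have hm : a⁻¹ * b ∈ Cfsg.pCore p G := hle (CfsgLib.Trans3.congr_commutator hD ha hb)
        rw [h', CfsgLib.Trans3.inv_eq hD.1 ha] at hm
        rw [eq_inv_of_mul_eq_one_left (CfsgLib.Trans3.sq_eq_one_of_mem_three_pCore hm
          ((CfsgLib.Trans3.commute_iff_pow_two hD.1 ha hb).1 hc)), CfsgLib.Trans3.inv_eq hD.1 hb]
  · have h2 := CfsgLib.Trans3.primitive_pCore_two hG hP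
    have h3 := CfsgLib.Trans3.primitive_pCore_three hG hP hw
    obtain ⟨L, hn, hq, hF⟩ := CfsgLib.Trans3.exists_quasisimple hD hD2 h2 h3
    obtain ⟨-, hcL⟩ := CfsgLib.Trans3.index_le_two_of_connected hD L hq
      (CfsgLib.Trans3.connected hG hP hw)
    have hLc : L ≤ commutator G := by
      rw [← (Subgroup.isPerfect_iff.1 hq.1 : ⁅L, L⁆ = L)]
      exact Subgroup.commutator_mono le_top le_top
    rw [le_antisymm hcL hLc]
    have hcen : Subgroup.center L = ⊥ := by
      rw [eq_bot_iff]
      intro x hx
      have : (x : G) ∈ Subgroup.center G := CfsgLib.Trans3.centralizer_le_center hG h2 h3 hF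
        (Subgroup.mem_centralizer_iff.2 fun y hy =>
          congrArg Subtype.val (Subgroup.mem_center_iff.1 hx ⟨y, hy⟩))
      rw [hZ, Subgroup.mem_bot] at this
      exact Subgroup.mem_bot.2 (Subtype.ext this)
    exact ((QuotientGroup.quotientMulEquivOfEq hcen).trans
      QuotientGroup.quotientBot).isSimpleGroup_congr.1 hq.2
  · refine ⟨le_bot_iff.1 (hZ ▸ CfsgLib.Trans3.primitive_pCore_two hG hP),
      le_bot_iff.1 (hZ ▸ CfsgLib.Trans3.primitive_pCore_three hG hP hw),
      CfsgLib.Trans3.connected hG hP hw⟩
  · rintro ⟨h2, h3, hc⟩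
    have h2' : Cfsg.pCore 2 G ≤ Subgroup.center G := h2 ▸ bot_le
    have h3' : Cfsg.pCore 3 G ≤ Subgroup.center G := h3 ▸ bot_le
    obtain ⟨L, hn, hq, hF⟩ := CfsgLib.Trans3.exists_quasisimple hD hD2 h2' h3'
    exact CfsgLib.Trans3.primitive_of_normal hD hD2 h2' L
      (CfsgLib.Trans3.index_le_two_of_connected hD L hq hc).1
      (CfsgLib.Trans3.quasisimple_minimal hG h2' h3' L hq hF)

end Cfsg.Agent.S5361
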