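import Cfsg.Statements.S5363
import Cfsg.Agent.Lib.Trans3.Basic

set_option autoImplicit false
open Cfsg

namespace Cfsg.Agent.S5363

/-- Let D be a conjugation-invariant set of involutions of a finite group G. Then every product of two members of D has odd order or order 2 if and only if, for every a in D and every b in D different from a and commuting with a, the members of D commuting with a b are exactly those commuting with both a and b. -/
theorem result {G : Type*} [Group G] [Finite G] {D : Set G} (hinv : ∀ d ∈ D, orderOf d = 2) (hconj : ∀ g : G, ∀ d ∈ D, g * d * g⁻¹ ∈ D) : (∀ a ∈ D, ∀ b ∈ D, Odd (orderOf (a * b)) ∨ orderOf (a * b) = 2) ↔ ∀ a ∈ D, ∀ b ∈ D, b ≠ a → Commute a b → {y : G | y ∈ D ∧ Commute (a * b) y} = {y : G | y ∈ D ∧ Commute a y} ∩ {y : G | y ∈ D ∧ Commute b y} := by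
  constructor
  · intro h a ha b hb hba hab
    ext y
    refine ⟨fun hy => ?_, fun hy => ⟨hy.1.1, hy.1.2.mul_left hy.2.2⟩⟩
    obtain ⟨hyD, hy⟩ := hy
    have ha2 := CfsgLib.Trans3.invol_mul_self (hinv a ha)
    suffices hay : Commute a y by
      refine ⟨⟨hyD, hay⟩, hyD, ?_⟩
      have := hay.inv_left.mul_left hy
      rwa [inv_mul_cancel_left] at this
    have hyC : y * a = a * y ∨ Odd (orderOf (y * a)) := by
      rcases h y hyD a ha with h' | h'
      · exact Or.inr h'
      · left
        have h1 : y * a * (y * a) = 1 := by rw [← pow_two, ← h']; exact pow_orderOf_eq_one _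
        rw [eq_inv_of_mul_eq_one_left h1, mul_inv_rev, CfsgLib.Trans3.invol_inv (hinv y hyD),
          CfsgLib.Trans3.invol_inv (hinv a ha)]
    rcases hyC with h' | hodd
    · exact h'.symm
    by_cases hone : y * a = 1
    · have : y = a := (eq_inv_of_mul_eq_one_left hone).trans (CfsgLib.Trans3.invol_inv (hinv a ha))
      rw [this]
    exfalso
    have hx2 : orderOf (a * b) = 2 := by
      haveI : Fact (Nat.Prime 2) := ⟨Nat.prime_two⟩
      refine orderOf_eq_prime ?_ fun h1 => hba ?_
      · rw [hab.mul_pow, pow_two, pow_two, ha2, CfsgLib.Trans3.invol_mul_self (hinv b hb), one_mul]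
      · rw [← inv_eq_of_mul_eq_one_right h1, CfsgLib.Trans3.invol_inv (hinv a ha)]
    have hcm : Commute (y * a) (a * b) :=
      hy.symm.mul_left ((Commute.refl a).mul_right hab)
    have hco : Nat.Coprime (orderOf (y * a)) (orderOf (a * b)) := by
      rw [hx2]; exact hodd.coprime_two_right
    have hord := hcm.orderOf_mul_eq_mul_orderOf_of_coprime hco
    have he : y * a * (a * b) = y * b := by
      rw [mul_assoc, ← mul_assoc a a b, ha2, one_mul]
    rw [he, hx2] at hord
    rcases h y hyD b hb with h' | h'
    · rw [hord] at h'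
      simp [Nat.odd_iff] at h'
    · exact hone (orderOf_eq_one_iff.1 (by omega))
  · intro h a ha b hb
    rcases Nat.even_or_odd (orderOf (a * b)) with ⟨m, hm⟩ | ho
    swap
    · exact Or.inl ho
    right
    have hm0 : 0 < m := by have := orderOf_pos (a * b); omega
    have hai := CfsgLib.Trans3.invol_inv (hinv a ha)
    have hbi := CfsgLib.Trans3.invol_inv (hinv b hb)
    have hiA := CfsgLib.Trans3.invol_cancel (hinv a ha)
    have hrefl : ∀ k : ℕ, a * (a * b) ^ k ∈ D ∧ a * (a * b) ^ (k + 1) ∈ D := by
      intro k
      induction k with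
      | zero => simp [ha, hb, hiA]
      | succ k ih =>
        refine ⟨ih.2, ?_⟩
        have := hconj (a * b)⁻¹ _ ih.1
        rw [inv_inv, mul_inv_rev, hai, hbi] at this
        have e : a * (a * b) ^ (k + 1 + 1) = b * a * (a * (a * b) ^ k) * (a * b) := by
          rw [pow_succ, pow_succ']
          simp only [mul_assoc, hiA]
        rw [e]; exact this
    set c := a * (a * b) ^ m with hc
    have hcD : c ∈ D := (hrefl m).1
    have ht : (a * b) ^ m * (a * b) ^ m = 1 := by rw [← pow_add, ← hm]; exact pow_orderOf_eq_one _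
    have hat : Commute a ((a * b) ^ m) := by
      have h1 : a * (a * b) ^ m * a⁻¹ = ((a * b) ^ m)⁻¹ := by
        rw [← conj_pow, ← inv_pow]
        congr 1
        rw [mul_inv_rev, hai, hbi, hiA]
      rw [inv_eq_of_mul_eq_one_right ht] at h1
      exact mul_inv_eq_iff_eq_mul.1 h1
    have hbt : Commute b ((a * b) ^ m) := by
      have := hat.inv_left.mul_left ((Commute.refl (a * b)).pow_right m)
      rwa [inv_mul_cancel_left] at this
    have hca : c ≠ a := by
      intro e
      have : (a * b) ^ m = 1 := by
        have := congrArg (a * ·) e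
        simpa [hc, hiA, CfsgLib.Trans3.invol_mul_self (hinv a ha)] using this
      have := orderOf_le_of_pow_eq_one hm0 this
      omega
    have hac : Commute a c := (Commute.refl a).mul_right hat
    have hacx : a * c = (a * b) ^ m := hiA _
    have hset := h a ha c hcD hca hac
    have hbm : b ∈ {y : G | y ∈ D ∧ Commute (a * c) y} := ⟨hb, by rw [hacx]; exact hbt.symm⟩
    rw [hset] at hbm
    have hab : Commute a b := hbm.1.2
    have h2 : (a * b) ^ 2 = 1 := by
      rw [hab.mul_pow, pow_two, pow_two, CfsgLib.Trans3.invol_mul_self (hinv a ha),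
        CfsgLib.Trans3.invol_mul_self (hinv b hb), one_mul]
    have hle := orderOf_le_of_pow_eq_one (by norm_num) h2
    omega

end Cfsg.Agent.S5363
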