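import Cfsg.Statements.S5364
import Cfsg.Agent.Lib.Trans3.Basic

set_option autoImplicit false
open Cfsg

namespace Cfsg.Agent.S5364

/-- Let D be a conjugation-invariant set of involutions of a finite group G and t an involution in the centre of G such that d t does not lie in D for any d in D. If the images of the members of D in G modulo the subgroup generated by t satisfy the 3-transposition order conditions (each has order 2 and any two have product of order at most 3), then so do the members of D. -/
theorem result {G : Type*} [Group G] [Finite G] {D : Set G} (hinv : ∀ d ∈ D, orderOf d = 2) (hconj : ∀ g : G, ∀ d ∈ D, g * d * g⁻¹ ∈ D) (t : G) (ht : orderOf t = 2) (htZ : t ∈ Subgroup.center G) (hDt : ∀ d ∈ D, d * t ∉ D) [(Subgroup.zpowers t).Normal] (himg : Cfsg.IsThreeTranspositionSet ((QuotientGroup.mk : G → G ⧸ Subgroup.zpowers t) '' D)) : Cfsg.IsThreeTranspositionSet D := by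
  refine ⟨hinv, fun d hd e he => ?_⟩
  have hmem : ∀ {x : G}, x ∈ Subgroup.zpowers t → x = 1 ∨ x = t := by
    intro x hx
    classical
    rw [(orderOf_pos_iff.1 (by omega : 0 < orderOf t)).mem_zpowers_iff_mem_range_orderOf, ht] at hx
    simp only [Finset.mem_image, Finset.mem_range] at hx
    obtain ⟨i, hi, rfl⟩ := hx
    interval_cases i <;> simp
  have hdi := CfsgLib.Trans3.invol_inv (hinv d hd)
  have hei := CfsgLib.Trans3.invol_inv (hinv e he)
  have hiD := CfsgLib.Trans3.invol_cancel (hinv d hd)
  have hiE := CfsgLib.Trans3.invol_cancel (hinv e he)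
  have hte : t * e = e * t := (Subgroup.mem_center_iff.1 htZ e).symm
  rcases himg.2 _ ⟨d, hd, rfl⟩ _ ⟨e, he, rfl⟩ with h | h <;>
    rw [← QuotientGroup.mk_mul, ← QuotientGroup.mk_pow, QuotientGroup.eq_one_iff] at h <;>
    rcases hmem h with h1 | h1
  · exact Or.inl h1
  · exfalso
    apply hDt e he
    have := hconj d e he
    rw [hdi] at this
    have e1 : d * e * d = t * e := by
      rw [← h1, pow_two]
      simp only [mul_assoc]
      rw [CfsgLib.Trans3.invol_mul_self (hinv e he), mul_one]
    rwa [e1, hte] at this
  · exact Or.inr h1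
  · exfalso
    apply hDt e he
    have := hconj (d * e) d hd
    rw [mul_inv_rev, hdi, hei] at this
    have e1 : d * e * d * (e * d) = t * e := by
      rw [← h1, pow_succ, pow_two]
      simp only [mul_assoc]
      rw [CfsgLib.Trans3.invol_mul_self (hinv e he), mul_one]
    rwa [e1, hte] at this

end Cfsg.Agent.S5364
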