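import Cfsg.Statements.S5365
import Cfsg.Agent.Lib.Trans3.Basic
import Cfsg.Agent.Lib.Recog.MoorePresentation

set_option autoImplicit false
set_option synthInstance.maxSize 2000
open Cfsg

namespace Cfsg.Agent.S5365

open CfsgLib.Trans3

/-- The members other than `d` commuting with `d`. -/
def nb {G : Type*} [Group G] (D : Set G) (d : G) : Set G := {y | y ∈ D ∧ y ≠ d ∧ Commute d y}

/-- The adjacent transpositions of five points. -/
def adjU (i : ℕ) : Equiv.Perm (Fin 5) := if i = 0 then Equiv.swap 0 1 else if i = 1 then Equiv.swap 1 2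
    else if i = 2 then Equiv.swap 2 3 else Equiv.swap 3 4

/-- The members with the same neighbours as `d`. -/
def tw {G : Type*} [Group G] (D : Set G) (d : G) : Set G := {y | y ∈ D ∧ nb D y = nb D d}

section
variable {G : Type*} [Group G] {D : Set G}

theorem nb_symm {d a : G} (hd : d ∈ D) (ha : a ∈ nb D d) : d ∈ nb D a :=
  ⟨hd, fun h => ha.2.1 h.symm, ha.2.2.symm⟩

theorem nb_conj (hconj : ∀ g : G, ∀ d ∈ D, g * d * g⁻¹ ∈ D) {d y : G} (g : G) (h : y ∈ nb D d) :
    g * y * g⁻¹ ∈ nb D (g * d * g⁻¹) :=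
  ⟨hconj g y h.1, fun e => h.2.1 (by simpa using e), by
    show g * d * g⁻¹ * (g * y * g⁻¹) = g * y * g⁻¹ * (g * d * g⁻¹)
    simp [mul_assoc, ← mul_assoc d, h.2.2.eq]⟩

theorem nb_conj_eq (hconj : ∀ g : G, ∀ d ∈ D, g * d * g⁻¹ ∈ D) (g d : G) :
    nb D (g * d * g⁻¹) = (fun y => g * y * g⁻¹) '' nb D d := by
  ext z
  constructor
  · intro hz
    refine ⟨g⁻¹ * z * g, ?_, by group⟩
    have h := nb_conj hconj g⁻¹ hz
    simpa [mul_assoc] using h
  · rintro ⟨y, hy, rfl⟩; exact nb_conj hconj g hy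

theorem nb_facts (hD : Cfsg.IsThreeTranspositionSet D) {d : G}
    (hl : Nonempty (↥(Subgroup.closure (nb D d)) ≃* Equiv.Perm (Fin 3))) :
    (∃ a ∈ nb D d, ∃ b ∈ nb D d, a ≠ b) ∧ (∀ a ∈ nb D d, ∀ b ∈ nb D d, a ≠ b → ¬ Commute a b) ∧
      ∀ a ∈ nb D d, ∀ b ∈ nb D d, a ≠ b → ∀ c ∈ nb D d, c = a ∨ c = b ∨ c = a * b * a := by
  obtain ⟨e⟩ := hl
  have sq : ∀ a (ha : a ∈ nb D d), e ⟨a, Subgroup.subset_closure ha⟩ * e ⟨a, Subgroup.subset_closure ha⟩ = 1 := by
    intro a ha
    rw [← map_mul, show (⟨a, Subgroup.subset_closure ha⟩ : Subgroup.closure (nb D d)) *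
      ⟨a, Subgroup.subset_closure ha⟩ = 1 from Subtype.ext (sq_one hD ha.1), map_one]
  have n1 : ∀ a (ha : a ∈ nb D d), e ⟨a, Subgroup.subset_closure ha⟩ ≠ 1 := by
    intro a ha h
    exact invol_ne_one (hD.1 a ha.1) (congrArg Subtype.val (e.map_eq_one_iff.1 h))
  refine ⟨?_, ?_, ?_⟩
  · by_contra h; push Not at h
    have hc : ∀ x y : Subgroup.closure (nb D d), x * y = y * x := by
      have : ∀ x ∈ nb D d, ∀ y ∈ nb D d, x * y = y * x := fun x hx y hy => by rw [h x hx y hy]
      have := Subgroup.isMulCommutative_closure this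
      exact mul_comm'
    have := congrArg e (hc (e.symm (Equiv.swap 0 1)) (e.symm (Equiv.swap 1 2)))
    rw [map_mul, map_mul, e.apply_symm_apply, e.apply_symm_apply] at this
    revert this; decide
  · intro a ha b hb hab hc
    have key : ∀ σ τ : Equiv.Perm (Fin 3), σ * σ = 1 → τ * τ = 1 → σ ≠ 1 → τ ≠ 1 → σ * τ = τ * σ → σ = τ := by
      decide
    refine hab (congrArg Subtype.val (e.injective (key _ _ (sq a ha) (sq b hb) (n1 a ha) (n1 b hb) ?_)))
    rw [← map_mul, ← map_mul]
    exact congrArg e (Subtype.ext hc.eq)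
  · intro a ha b hb hab c hc
    have key : ∀ σ τ ρ : Equiv.Perm (Fin 3), σ * σ = 1 → τ * τ = 1 → ρ * ρ = 1 → σ ≠ 1 → τ ≠ 1 → ρ ≠ 1 →
        σ ≠ τ → ρ = σ ∨ ρ = τ ∨ ρ = σ * τ * σ := by decide
    rcases key _ _ _ (sq a ha) (sq b hb) (sq c hc) (n1 a ha) (n1 b hb) (n1 c hc)
      (fun h => hab (congrArg Subtype.val (e.injective h))) with h | h | h
    · exact Or.inl (congrArg Subtype.val (e.injective h))
    · exact Or.inr (Or.inl (congrArg Subtype.val (e.injective h)))
    · rw [← map_mul, ← map_mul] at h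
      exact Or.inr (Or.inr (congrArg Subtype.val (e.injective h)))

theorem pair_move (hD : Cfsg.IsThreeTranspositionSet D) (hconj : ∀ g : G, ∀ d ∈ D, g * d * g⁻¹ ∈ D)
    {d a e : G} (hd : d ∈ D) (ha : a ∈ nb D d) (he : e ∈ D) (hde : ¬ Commute d e) (hae : ¬ Commute a e) :
    (a * d) * e * (a * d)⁻¹ ∈ nb D e := by
  have b1 : d * e * d = e * d * e := CfsgLib.Recog.Moore.braid_of (sq_one hD hd) (sq_one hD he) (pow_three hD hd he hde)
  have b2 : a * e * a = e * a * e := CfsgLib.Recog.Moore.braid_of (sq_one hD ha.1) (sq_one hD he) (pow_three hD ha.1 he hae)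
  have h1 : (e * d) * e * (e * d)⁻¹ = d := by
    rw [mul_inv_rev, inv_eq hD hd, inv_eq hD he, show e * d * e * (d * e) = (e * d * e) * (d * e) from rfl, ← b1]
    rw [show d * e * d * (d * e) = d * (e * (d * (d * e))) by simp [mul_assoc], invol_cancel (hD.1 d hd),
      sq_one hD he, mul_one]
  have h2 : (e * d) * ((a * d) * e * (a * d)⁻¹) * (e * d)⁻¹ = a := by
    rw [mul_inv_rev, mul_inv_rev, inv_eq hD hd, inv_eq hD he, inv_eq hD ha.1,
      show a * d = d * a from ha.2.2.eq.symm]
    rw [show e * d * (d * a * e * (d * a)) * (d * e) = e * (d * (d * a)) * e * ((d * a) * d) * e by simp [mul_assoc],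
      invol_cancel (hD.1 d hd), show d * a * d = a by rw [ha.2.2.eq, mul_assoc, sq_one hD hd, mul_one]]
    rw [show e * a * e * a * e = (e * a * e) * (a * e) by simp [mul_assoc], ← b2]
    rw [show a * e * a * (a * e) = a * (e * (a * (a * e))) by simp [mul_assoc], invol_cancel (hD.1 a ha.1),
      sq_one hD he, mul_one]
  refine ⟨hconj _ e he, fun h => ha.2.1 ?_, ?_⟩
  · rw [h] at h2; exact h2.symm.trans h1
  · have := ha.2.2
    rw [← h1, ← h2] at this
    have hc := this.map (MulAut.conj (e * d)⁻¹ : G ≃* G).toMonoidHom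
    simpa [mul_assoc] using hc

theorem cube_conj {x : G} (h : x ^ 3 = 1) (y : G) : x * (x * (x * y * x⁻¹) * x⁻¹) * x⁻¹ = y := by
  calc _ = (x * x * x) * y * (x * x * x)⁻¹ := by group
    _ = y := by rw [show x * x * x = x ^ 3 by simp [pow_succ], h]; simp

theorem perm3_comm_of_cube {α : Type*} (hα : Nat.card α = 3) (σ τ : Equiv.Perm α)
    (hs : σ ^ 3 = 1) (ht : τ ^ 3 = 1) : σ * τ = τ * σ := by
  have : Finite α := Nat.finite_of_card_ne_zero (by omega)
  let e : α ≃ Fin 3 := (Finite.equivFin α).trans (finCongr hα)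
  have key : ∀ s t : Equiv.Perm (Fin 3), s ^ 3 = 1 → t ^ 3 = 1 → s * t = t * s := by decide
  apply e.permCongrHom.injective
  rw [map_mul, map_mul]
  exact key _ _ (by rw [← map_pow, hs, map_one]) (by rw [← map_pow, ht, map_one])

end

section
variable {G : Type*} [Group G] [Finite G] {D : Set G} (hD : Cfsg.IsThreeTranspositionSet D)
  (hconj : ∀ g : G, ∀ d ∈ D, g * d * g⁻¹ ∈ D)
  (hloc : ∀ d ∈ D, Nonempty (↥(Subgroup.closure (nb D d)) ≃* Equiv.Perm (Fin 3)) ∧
    Nat.card (Cfsg.pCore 3 ↥(Subgroup.centralizer ({d} : Set G))) = 3)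

include hD hconj hloc in
theorem nb_card {d : G} (hd : d ∈ D) : Nat.card (nb D d) = 3 := by
  obtain ⟨⟨a, ha, b, hb, hab⟩, hn, h3⟩ := nb_facts hD (hloc d hd).1
  have hc := hn a ha b hb hab
  rw [Nat.card_coe_set_eq, Set.ncard_eq_three]
  have hmem : a * b * a ∈ Subgroup.closure (nb D d) :=
    mul_mem (mul_mem (Subgroup.subset_closure ha) (Subgroup.subset_closure hb)) (Subgroup.subset_closure ha)
  by_cases hin : ∀ c ∈ nb D d, c = a ∨ c = b
  · exfalso
    obtain ⟨e⟩ := (hloc d hd).1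
    have hb' : a * b * a⁻¹ ∈ D := by
      exact hconj a b hb.1
    have : a * b * a⁻¹ ∈ nb D d := ⟨hb', fun h => hb.2.1 (by
        rw [mul_inv_eq_iff_eq_mul, ha.2.2.eq] at h; exact mul_left_cancel h),
      (ha.2.2.mul_right hb.2.2).mul_right ha.2.2.inv_right⟩
    rw [inv_eq hD ha.1] at this
    rcases hin _ this with h | h
    · apply hab
      rw [mul_assoc] at h
      have := mul_left_cancel (h.trans (mul_one a).symm)
      rw [eq_inv_of_mul_eq_one_left this, inv_eq hD ha.1]
    · apply hc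
      show a * b = b * a
      calc a * b = a * b * a * a := by rw [mul_assoc _ a a, sq_one hD ha.1, mul_one]
        _ = b * a := by rw [h]
  · push Not at hin
    obtain ⟨c, hc', hca, hcb⟩ := hin
    refine ⟨a, b, c, hab, hca.symm, hcb.symm, ?_⟩
    ext z
    constructor
    · intro hz
      rcases h3 a ha b hb hab z hz with h | h | h
      · simp [h]
      · simp [h]
      · rcases h3 a ha b hb hab c hc' with h' | h' | h'
        · exact absurd h' hca
        · exact absurd h' hcb
        · simp [h, h']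
    · rintro (rfl | rfl | rfl) <;> assumption

include hD hconj hloc in
theorem sym5_case {d a b : G} (hd : d ∈ D) (ha : a ∈ nb D d) (hb : b ∈ nb D d)
    (hne : nb D a ≠ nb D b) : Nonempty (↥(Subgroup.closure D) ≃* Equiv.Perm (Fin 5)) := by
  have hab : a ≠ b := fun h => hne (by rw [h])
  obtain ⟨-, hnd, h3d⟩ := nb_facts hD (hloc d hd).1
  obtain ⟨-, hnb, -⟩ := nb_facts hD (hloc b hb.1).1
  have hsub : ¬ nb D b ⊆ nb D a := fun h => hne ((Set.eq_of_subset_of_ncard_le h (by
    rw [← Nat.card_coe_set_eq, ← Nat.card_coe_set_eq, nb_card hD hconj hloc ha.1,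
      nb_card hD hconj hloc hb.1]) (Set.toFinite _)).symm)
  obtain ⟨s, hs, hsa⟩ := Set.not_subset.1 hsub
  have hsd : s ≠ d := fun h => hsa (h ▸ nb_symm hd ha)
  have nds : ¬ Commute d s := hnb d (nb_symm hd hb) s hs hsd.symm
  have nab : ¬ Commute a b := hnd a ha b hb hab
  have nsa : ¬ Commute s a := fun h => by
    by_cases e : s = a
    · exact nab (e ▸ hs.2.2.symm)
    · exact hsa ⟨hs.1, e, h.symm⟩
  let t : ℕ → G := fun i => if i = 0 then d else if i = 1 then s else if i = 2 then a else b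
  have hu : CfsgLib.Recog.Moore.Rel adjU 4 := by
    refine ⟨?_, ?_, ?_⟩
    · intro i hi; interval_cases i <;> decide +kernel
    · intro i hi
      have hi' : i < 3 := by omega
      interval_cases i <;> decide +kernel
    · intro i j hij hj
      have hi2 : i < 2 := by omega
      show _ * _ = _ * _
      interval_cases i <;> interval_cases j <;> decide +kernel
  have ht : CfsgLib.Recog.Moore.Rel t 4 := by
    refine ⟨?_, ?_, ?_⟩
    · intro i hi
      interval_cases i
      exacts [sq_one hD hd, sq_one hD hs.1, sq_one hD ha.1, sq_one hD hb.1]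
    · intro i hi
      have hi' : i < 3 := by omega
      interval_cases i
      exacts [CfsgLib.Recog.Moore.braid_of (sq_one hD hd) (sq_one hD hs.1) (pow_three hD hd hs.1 nds),
        CfsgLib.Recog.Moore.braid_of (sq_one hD hs.1) (sq_one hD ha.1) (pow_three hD hs.1 ha.1 nsa),
        CfsgLib.Recog.Moore.braid_of (sq_one hD ha.1) (sq_one hD hb.1) (pow_three hD ha.1 hb.1 nab)]
    · intro i j hij hj
      have hi2 : i < 2 := by omega
      interval_cases i <;> interval_cases j
      exacts [ha.2.2, hb.2.2, hs.2.2.symm]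
  have hrel : CfsgLib.Recog.Moore.Rel (fun i => (adjU i, t i)) 4 :=
    ⟨fun i hi => Prod.ext (hu.sq i hi) (ht.sq i hi), fun i hi => Prod.ext (hu.braid i hi) (ht.braid i hi),
      fun i j h1 h2 => Prod.ext (hu.comm i j h1 h2).eq (ht.comm i j h1 h2).eq⟩
  obtain ⟨hfin, hle⟩ := CfsgLib.Recog.Moore.finite_card_le hrel 4 le_rfl
  set K := Subgroup.closure {y | ∃ i < 4, y = (adjU i, t i)}
  let π : K →* Equiv.Perm (Fin 5) := (MonoidHom.fst _ _).comp K.subtype
  have hπ : Function.Surjective π := by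
    rw [← MonoidHom.range_eq_top, eq_top_iff]
    rw [← Equiv.Perm.closure_isSwap]
    rw [Subgroup.closure_le]
    have gen : ∀ i < 4, adjU i ∈ π.range := fun i hi =>
      ⟨⟨(adjU i, t i), Subgroup.subset_closure ⟨i, hi, rfl⟩⟩, rfl⟩
    rintro σ ⟨x, y, hxy, rfl⟩
    have g0 := gen 0 (by omega); have g1 := gen 1 (by omega); have g2 := gen 2 (by omega); have g3 := gen 3 (by omega)
    have c2 := mul_mem (mul_mem g0 g1) g0
    have c3 := mul_mem (mul_mem c2 g2) c2
    have c4 := mul_mem (mul_mem c3 g3) c3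
    have d3 := mul_mem (mul_mem g1 g2) g1
    have d4 := mul_mem (mul_mem d3 g3) d3
    have e4 := mul_mem (mul_mem g2 g3) g2
    have all : Equiv.swap x y ∈ ([adjU 0, adjU 1, adjU 2, adjU 3, adjU 0 * adjU 1 * adjU 0, adjU 0 * adjU 1 * adjU 0 * adjU 2 * (adjU 0 * adjU 1 * adjU 0),
      adjU 0 * adjU 1 * adjU 0 * adjU 2 * (adjU 0 * adjU 1 * adjU 0) * adjU 3 * (adjU 0 * adjU 1 * adjU 0 * adjU 2 * (adjU 0 * adjU 1 * adjU 0)),
      adjU 1 * adjU 2 * adjU 1, adjU 1 * adjU 2 * adjU 1 * adjU 3 * (adjU 1 * adjU 2 * adjU 1), adjU 2 * adjU 3 * adjU 2] : List (Equiv.Perm (Fin 5))) := by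
      revert hxy; revert x y; decide +kernel
    simp only [List.mem_cons, List.not_mem_nil, or_false] at all
    rcases all with h | h | h | h | h | h | h | h | h | h <;> rw [h]
    exacts [g0, g1, g2, g3, c2, c3, c4, d3, d4, e4]
  have hbij : Function.Bijective π := (Nat.bijective_iff_surjective_and_card π).2 ⟨hπ, le_antisymm
    (by rw [Nat.card_perm, Nat.card_fin]; exact hle)
    (Nat.card_le_card_of_surjective π hπ)⟩
  let φ : Equiv.Perm (Fin 5) →* G :=
    ((MonoidHom.snd _ _).comp K.subtype).comp (MulEquiv.ofBijective π hbij).symm.toMonoidHom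
  have hφ : ∀ i < 4, φ (adjU i) = t i := by
    intro i hi
    have : (MulEquiv.ofBijective π hbij).symm (adjU i) = ⟨(adjU i, t i), Subgroup.subset_closure ⟨i, hi, rfl⟩⟩ := by
      rw [MulEquiv.symm_apply_eq]; rfl
    show ((((MulEquiv.ofBijective π hbij).symm (adjU i)) : K) : Equiv.Perm (Fin 5) × G).2 = _
    rw [this]
  have f0 : φ (Equiv.swap 0 1) = d := hφ 0 (by omega)
  have f1 : φ (Equiv.swap 1 2) = s := hφ 1 (by omega)
  have f2 : φ (Equiv.swap 2 3) = a := hφ 2 (by omega)
  have f3 : φ (Equiv.swap 3 4) = b := hφ 3 (by omega)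
  have hinj : Function.Injective φ := by
    rw [injective_iff_map_eq_one]
    intro σ hσ
    have key : ∀ σ : Equiv.Perm (Fin 5), σ = 1 ∨ ∃ i ∈ [adjU 0, adjU 1, adjU 2, adjU 3], ∃ g,
        g * (σ * i * σ⁻¹ * i) * g⁻¹ = adjU 0 * adjU 2 ∨ g * (σ * i * σ⁻¹ * i) * g⁻¹ = adjU 0 * adjU 1 := by decide +kernel
    rcases key σ with h | ⟨i, hi, g, h⟩
    · exact h
    · exfalso
      have hii : φ i * φ i = 1 := by
        rw [← map_mul]
        simp only [List.mem_cons, List.not_mem_nil, or_false] at hi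
        rcases hi with rfl | rfl | rfl | rfl <;> exact (congrArg φ (Equiv.swap_mul_self _ _)).trans (map_one φ)
      have one : ∀ p, g * (σ * i * σ⁻¹ * i) * g⁻¹ = p → φ p = 1 := by
        intro p hp; rw [← hp]; simp [hσ, hii]
      rcases h with h | h
      · have := one _ h
        rw [map_mul, hφ 0 (by omega), hφ 2 (by omega)] at this
        exact ha.2.1 ((eq_inv_of_mul_eq_one_right this).trans (inv_eq hD hd))
      · have := one _ h
        rw [map_mul, hφ 0 (by omega), hφ 1 (by omega)] at this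
        exact hsd ((eq_inv_of_mul_eq_one_right this).trans (inv_eq hD hd))
  have hP : ∀ g, φ (g * Equiv.swap 0 1 * g⁻¹) ∈ D := fun g => by
    rw [map_mul, map_mul, map_inv, f0]; exact hconj _ d hd
  have trans : ∀ x y : Fin 5, x ≠ y → ∃ g : Equiv.Perm (Fin 5), g * Equiv.swap 0 1 * g⁻¹ = Equiv.swap x y := by
    decide +kernel
  have all : ∀ e ∈ D, ∃ g, e = φ (g * Equiv.swap 0 1 * g⁻¹) := by
    by_contra h; push Not at h
    obtain ⟨e, he, hout⟩ := h
    have nc : ∀ x y : Fin 5, x ≠ y → ¬ Commute (φ (Equiv.swap x y)) e := by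
      intro x y hxy hc
      obtain ⟨g, hg⟩ := trans x y hxy
      rw [← hg, map_mul, map_mul, map_inv, f0] at hc
      have hc' : Commute d ((φ g)⁻¹ * e * (φ g)) := by
        have := hc.map (MulAut.conj (φ g)⁻¹ : G ≃* G).toMonoidHom
        simpa [mul_assoc] using this
      by_cases he' : (φ g)⁻¹ * e * (φ g) = d
      · exact hout g (by rw [map_mul, map_mul, map_inv, f0, ← he']; group)
      · have hm : (φ g)⁻¹ * e * (φ g) ∈ nb D d := ⟨by simpa using hconj (φ g)⁻¹ e he, he', hc'⟩
        have key : ∀ p, (φ g)⁻¹ * e * (φ g) = φ p → (∃ k, p = k * Equiv.swap 0 1 * k⁻¹) → False := by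
          rintro p hp ⟨k, rfl⟩
          exact hout (g * k) (by
            rw [show g * k * Equiv.swap 0 1 * (g * k)⁻¹ = g * (k * Equiv.swap 0 1 * k⁻¹) * g⁻¹ by group,
              map_mul, map_mul, map_inv, ← hp]; group)
        rcases h3d a ha b hb hab _ hm with h | h | h
        · exact key (Equiv.swap 2 3) (h.trans f2.symm) (by decide +kernel)
        · exact key (Equiv.swap 3 4) (h.trans f3.symm) (by decide +kernel)
        · exact key (Equiv.swap 2 3 * Equiv.swap 3 4 * Equiv.swap 2 3)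
            (by rw [map_mul, map_mul, f2, f3, h]) (by decide +kernel)
    have mv : ∀ x y z w : Fin 5, x ≠ y → z ≠ w →
        Equiv.swap x y * Equiv.swap z w = Equiv.swap z w * Equiv.swap x y → Equiv.swap x y ≠ Equiv.swap z w →
        φ (Equiv.swap x y * Equiv.swap z w) * e * (φ (Equiv.swap x y * Equiv.swap z w))⁻¹ ∈ nb D e := by
      intro x y z w hxy hzw hcm hdf
      obtain ⟨g, hg⟩ := trans x y hxy
      obtain ⟨k, hk⟩ := trans z w hzw
      rw [map_mul]
      exact pair_move hD hconj (hk ▸ hP k) ⟨hg ▸ hP g, fun h => hdf (hinj h),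
        by show _ * _ = _ * _; rw [← map_mul, ← map_mul, hcm]⟩ he (nc z w hzw) (nc x y hxy)
    have m1 := mv 0 1 2 3 (by decide) (by decide) (by decide) (by decide)
    have m2 := mv 0 2 1 3 (by decide) (by decide) (by decide) (by decide)
    have m3 := mv 0 3 1 2 (by decide) (by decide) (by decide) (by decide)
    rw [show Equiv.swap (0 : Fin 5) 3 * Equiv.swap 1 2 =
      Equiv.swap 0 2 * Equiv.swap 1 3 * (Equiv.swap 0 1 * Equiv.swap 2 3) by decide +kernel, map_mul] at m3
    set U := φ (Equiv.swap (0 : Fin 5) 1 * Equiv.swap 2 3)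
    set V := φ (Equiv.swap (0 : Fin 5) 2 * Equiv.swap 1 3)
    have hcc := nb_conj hconj V m1
    have e3 : V * (U * e * U⁻¹) * V⁻¹ = V * U * e * (V * U)⁻¹ := by group
    rw [e3] at hcc
    exact (nb_facts hD (hloc e he).1).2.1 _ m3 _ m2 hcc.2.1 hcc.2.2.symm
  have hr : φ.range = Subgroup.closure D := by
    apply le_antisymm
    · rintro _ ⟨σ, rfl⟩
      show φ σ ∈ _
      have : (⊤ : Subgroup (Equiv.Perm (Fin 5))) ≤ (Subgroup.closure D).comap φ := by
        rw [← Equiv.Perm.closure_isSwap, Subgroup.closure_le]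
        rintro τ ⟨x, y, hxy, rfl⟩
        obtain ⟨g, hg⟩ := trans x y hxy
        rw [← hg]
        exact Subgroup.subset_closure (hP g)
      exact this (Subgroup.mem_top σ)
    · rw [Subgroup.closure_le]
      intro e he
      obtain ⟨g, rfl⟩ := all e he
      exact ⟨_, rfl⟩
  exact ⟨((MonoidHom.ofInjective hinj).trans (MulEquiv.subgroupCongr hr)).symm⟩

variable (htw : ∀ d ∈ D, ∀ a ∈ nb D d, ∀ b ∈ nb D d, nb D a = nb D b)

include htw in
theorem tw_eq {d a : G} (hd : d ∈ D) (ha : a ∈ nb D d) : tw D d = nb D a := by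
  ext y
  constructor
  · rintro ⟨hy, e⟩
    exact nb_symm hy (e ▸ ha)
  · intro hy
    exact ⟨hy.1, htw a ha.1 y hy d (nb_symm hd ha)⟩

include hD hconj hloc htw in
theorem twin_group_props (m : G) (hm : m ∈ Subgroup.closure {x : G | ∃ d ∈ D, ∃ d' ∈ tw D d, x = d * d'}) :
    m ∈ Subgroup.closure D ∧ m ^ 3 = 1 ∧ ∀ e ∈ D, m * e * m⁻¹ ∈ tw D e := by
  set P : G → Prop := fun m => m ∈ Subgroup.closure D ∧ m ^ 3 = 1 ∧ ∀ e ∈ D, m * e * m⁻¹ ∈ tw D e with hPdef
  have hmul : ∀ m n, P m → P n → P (m * n) := by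
    rintro m n ⟨hm1, hm3, hme⟩ ⟨hn1, hn3, hne⟩
    have step : ∀ x, P x → ∀ e ∈ D, ∀ y ∈ tw D e, x * y * x⁻¹ ∈ tw D e := by
      rintro x ⟨-, -, hx⟩ e he y hy
      exact ⟨(hx y hy.1).1, (hx y hy.1).2.trans hy.2⟩
    have sym : ∀ e ∈ D, m * (n * e * n⁻¹) * m⁻¹ = n * (m * e * m⁻¹) * n⁻¹ := by
      intro e he
      obtain ⟨⟨a, ha, -⟩, -⟩ := nb_facts hD (hloc e he).1
      have hc : Nat.card (tw D e) = 3 := by rw [tw_eq htw he ha]; exact nb_card hD hconj hloc ha.1
      let σ : (x : G) → (hx : P x) → Equiv.Perm (tw D e) := fun x hx =>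
        { toFun := fun y => ⟨x * y * x⁻¹, step x hx e he y y.2⟩
          invFun := fun y => ⟨x * (x * y * x⁻¹) * x⁻¹, step x hx e he _ (step x hx e he y y.2)⟩
          left_inv := fun y => Subtype.ext (by
            exact cube_conj hx.2.1 y)
          right_inv := fun y => Subtype.ext (by
            exact cube_conj hx.2.1 y) }
      have cube : ∀ x (hx : P x), σ x hx ^ 3 = 1 := fun x hx => by
        refine Equiv.ext fun y => Subtype.ext ?_
        simp only [pow_succ, pow_zero, one_mul, Equiv.Perm.mul_apply]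
        exact cube_conj hx.2.1 y
      have hcomm := perm3_comm_of_cube hc (σ m ⟨hm1, hm3, hme⟩) (σ n ⟨hn1, hn3, hne⟩)
        (cube m ⟨hm1, hm3, hme⟩) (cube n ⟨hn1, hn3, hne⟩)
      have h := congrArg Subtype.val (Equiv.congr_fun hcomm ⟨e, he, rfl⟩)
      exact h
    have cent : ∀ e ∈ D, Commute (m * n * m⁻¹ * n⁻¹) e := by
      intro e he
      have h := sym _ (show (n * m)⁻¹ * e * (n * m) ∈ D by simpa using hconj (n * m)⁻¹ e he)
      show _ * _ = _ * _
      calc m * n * m⁻¹ * n⁻¹ * e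
          = m * (n * ((n * m)⁻¹ * e * (n * m)) * n⁻¹) * m⁻¹ * (m * n * m⁻¹ * n⁻¹) := by group
        _ = e * (m * n * m⁻¹ * n⁻¹) := by rw [h]; group
    have hc : ∀ x ∈ Subgroup.closure D, Commute (m * n * m⁻¹ * n⁻¹) x := fun x hx => by
      have : Subgroup.closure D ≤ Subgroup.centralizer {m * n * m⁻¹ * n⁻¹} := by
        rw [Subgroup.closure_le]
        intro e he
        exact Subgroup.mem_centralizer_singleton_iff.2 (cent e he).eq.symm
      exact (Subgroup.mem_centralizer_singleton_iff.1 (this hx)).symm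
    set c := m * n * m⁻¹ * n⁻¹ with hcdef
    have cm := hc m hm1
    have cn := hc n hn1
    have swap : m * n = c * n * m := by rw [hcdef]; group
    have c3 : c ^ 3 = 1 := by
      have e1 : ∀ k : ℕ, m ^ k * n = c ^ k * n * m ^ k := by
        intro k
        induction k with
        | zero => simp
        | succ k ih =>
          calc m ^ (k + 1) * n = m ^ k * (m * n) := by rw [pow_succ, mul_assoc]
            _ = m ^ k * c * (n * m) := by rw [swap]; simp [mul_assoc]
            _ = c * (m ^ k * n) * m := by rw [(cm.symm.pow_left k).eq]; simp [mul_assoc]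
            _ = c ^ (k + 1) * n * m ^ (k + 1) := by rw [ih, pow_succ' c, pow_succ m]; simp [mul_assoc]
      have := e1 3
      rw [hm3, one_mul, mul_one] at this
      exact mul_eq_right.1 this.symm
    refine ⟨mul_mem hm1 hn1, ?_, fun e he => ?_⟩
    · have back : n * m = c⁻¹ * (m * n) := by rw [swap]; group
      have q2 : (m * n) ^ 2 = c⁻¹ * (m ^ 2 * n ^ 2) := by
        calc (m * n) ^ 2 = m * (n * m) * n := by rw [pow_two]; simp [mul_assoc]
          _ = c⁻¹ * (m ^ 2 * n ^ 2) := by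
            rw [back, ← mul_assoc m, (cm.inv_left.symm).eq]; simp [pow_two, mul_assoc]
      have n2m : n ^ 2 * m = c⁻¹ * c⁻¹ * (m * n ^ 2) := by
        calc n ^ 2 * m = n * (n * m) := by rw [pow_two, mul_assoc]
          _ = c⁻¹ * (n * (m * n)) := by rw [back, ← mul_assoc, (cn.inv_left.symm).eq, mul_assoc]
          _ = c⁻¹ * c⁻¹ * (m * n ^ 2) := by rw [← mul_assoc n m n, back]; simp [pow_two, mul_assoc]
      calc (m * n) ^ 3 = c⁻¹ * (m ^ 2 * (n ^ 2 * m) * n) := by rw [pow_succ, q2]; simp [mul_assoc]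
        _ = c⁻¹ * ((c⁻¹ * c⁻¹) * (m ^ 2 * (m * n ^ 2) * n)) := by
          rw [n2m, ← mul_assoc (m ^ 2), ((cm.inv_left.mul_left cm.inv_left).symm.pow_left 2).eq]
          simp [mul_assoc]
        _ = (c⁻¹) ^ 3 * (m ^ 3 * n ^ 3) := by simp [pow_succ, mul_assoc]
        _ = 1 := by rw [hm3, hn3, inv_pow, c3]; simp
    · rw [show m * n * e * (m * n)⁻¹ = m * (n * e * n⁻¹) * m⁻¹ by group]
      exact step m ⟨hm1, hm3, hme⟩ e he _ (hne e he)
  induction hm using Subgroup.closure_induction with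
  | one => exact ⟨one_mem _, one_pow 3, fun e he => ⟨by simpa using he, by simp⟩⟩
  | mul x y _ _ hx hy => exact hmul x y hx hy
  | inv x _ hx =>
    have : x⁻¹ = x * x := inv_eq_of_mul_eq_one_left (by rw [← pow_two, ← pow_succ]; exact hx.2.1)
    rw [this]; exact hmul x x hx hx
  | mem x hx =>
    obtain ⟨d, hd, d', hd', rfl⟩ := hx
    obtain ⟨⟨a, ha, -⟩, -⟩ := nb_facts hD (hloc d hd).1
    have htd := tw_eq htw hd ha
    have hd'a : d' ∈ nb D a := htd ▸ hd'
    refine ⟨mul_mem (Subgroup.subset_closure hd) (Subgroup.subset_closure hd'.1), ?_, ?_⟩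
    · by_cases h : d = d'
      · rw [← h, sq_one hD hd, one_pow]
      · exact pow_three hD hd hd'.1 ((nb_facts hD (hloc a ha.1).1).2.1 d (nb_symm hd ha) d' hd'a h)
    intro e he
    by_cases h1 : e ∈ nb D a
    · have hca : (d * d') * a * (d * d')⁻¹ = a := by
        rw [(Commute.mul_left (ha.2.2) (nb_symm hd ha |> fun _ => hd'a.2.2.symm)).eq, mul_inv_cancel_right]
      have hte : tw D e = nb D a := tw_eq htw he (nb_symm ha.1 h1)
      rw [hte]
      have := nb_conj hconj (d * d') h1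
      rwa [hca] at this
    by_cases h2 : e ∈ nb D d
    · have : Commute (d * d') e := h2.2.2.mul_left ((hd'.2.symm ▸ h2 : e ∈ nb D d').2.2)
      rw [this.eq, mul_inv_cancel_right]
      exact ⟨he, rfl⟩
    have nae : ¬ Commute a e := fun hc => by
      by_cases h : e = a
      · exact h2 (h ▸ ha)
      · exact h1 ⟨he, h, hc⟩
    have nt : ∀ t ∈ tw D d, ¬ Commute t e := fun t ht hc => by
      by_cases h : e = t
      · exact h1 (h ▸ htd ▸ ht)
      · exact h2 (ht.2 ▸ ⟨he, h, hc⟩)
    have m1 := pair_move hD hconj hd ha he (nt d ⟨hd, rfl⟩) nae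
    have m2 := pair_move hD hconj hd'.1 (nb_symm ha.1 hd'a) he (nt d' hd') nae
    have := nb_conj hconj (a * d) m2
    rw [show d * d' = (a * d) * (a * d') by
      rw [ha.2.2.eq.symm, mul_assoc, ← mul_assoc a a, sq_one hD ha.1, one_mul]]
    rw [tw_eq htw he m1]
    rw [show a * d * (a * d') * e * (a * d * (a * d'))⁻¹ =
      a * d * (a * d' * e * (a * d')⁻¹) * (a * d)⁻¹ by group]
    exact this

end

section
variable {G : Type*} [Group G] [Finite G] {D : Set G}

theorem square_case (hD : Cfsg.IsThreeTranspositionSet D) (hconj : ∀ g : G, ∀ d ∈ D, g * d * g⁻¹ ∈ D)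
    (hloc : ∀ d ∈ D, Nonempty (↥(Subgroup.closure (nb D d)) ≃* Equiv.Perm (Fin 3)) ∧
      Nat.card (Cfsg.pCore 3 ↥(Subgroup.centralizer ({d} : Set G))) = 3)
    (htw : ∀ d ∈ D, ∀ a ∈ nb D d, ∀ b ∈ nb D d, nb D a = nb D b) {d : G} (hd : d ∈ D) :
    Nonempty (↥(Subgroup.closure D) ≃* Equiv.Perm (Fin 3) × Equiv.Perm (Fin 3)) := by
  obtain ⟨⟨a, ha, b, hb, hab⟩, hnd, -⟩ := nb_facts hD (hloc d hd).1
  have htd := tw_eq htw hd ha
  obtain ⟨d', hd', hdd'⟩ : ∃ d' ∈ nb D a, d' ≠ d := by
    obtain ⟨⟨p, hp, q, hq, hpq⟩, -⟩ := nb_facts hD (hloc a ha.1).1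
    by_cases h : p = d
    · exact ⟨q, hq, fun h' => hpq (h.trans h'.symm)⟩
    · exact ⟨p, hp, h⟩
  have hcov : ∀ e ∈ D, e ∈ nb D a ∨ e ∈ nb D d := by
    intro e he
    by_contra hcon; push Not at hcon
    obtain ⟨h1, h2⟩ := hcon
    have nae : ¬ Commute a e := fun hc => by
      by_cases h : e = a
      · exact h2 (h ▸ ha)
      · exact h1 ⟨he, h, hc⟩
    have nde : ¬ Commute d e := fun hc => by
      by_cases h : e = d
      · exact h1 (h ▸ nb_symm hd ha)
      · exact h2 ⟨he, h, hc⟩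
    set X := {x : G | ∃ d ∈ D, ∃ d' ∈ tw D d, x = d * d'}
    set M := Subgroup.closure X with hM
    have hp := twin_group_props hD hconj hloc htw
    have hMn : M.Normal := by
      refine ⟨fun m hm g => ?_⟩
      have : M ≤ M.comap (MulAut.conj g).toMonoidHom := by
        rw [hM, Subgroup.closure_le]
        rintro _ ⟨p, hp, q, hq, rfl⟩
        refine Subgroup.subset_closure ⟨g * p * g⁻¹, hconj g p hp, g * q * g⁻¹, ⟨hconj g q hq.1, ?_⟩, ?_⟩
        · rw [nb_conj_eq hconj, nb_conj_eq hconj, hq.2]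
        · simp [mul_assoc]
      exact this hm
    have hMp : IsPGroup 3 M := fun m => ⟨1, Subtype.ext (by rw [pow_one]; exact (hp m m.2).2.1)⟩
    set C := Subgroup.centralizer ({d} : Set G)
    have hcard : Nat.card (M.subgroupOf C) ≤ 3 := by
      rw [← (hloc d hd).2]
      have hle : M.subgroupOf C ≤ Cfsg.pCore 3 C := le_sSup
        (show M.subgroupOf C ∈ {N : Subgroup C | N.Normal ∧ IsPGroup 3 N} from
          ⟨Subgroup.Normal.subgroupOf hMn C, hMp.comap_subtype⟩)
      exact Nat.card_le_card_of_injective _ (Subgroup.inclusion_injective hle)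
    have hxM : d * d' ∈ M := Subgroup.subset_closure ⟨d, hd, d', htd ▸ hd', rfl⟩
    have hyM : a * b ∈ M := Subgroup.subset_closure ⟨a, ha.1, b, ⟨hb.1, (htw d hd b hb a ha)⟩, rfl⟩
    have hyC : a * b ∈ C := Subgroup.mem_centralizer_singleton_iff.2
      ((ha.2.2.mul_right hb.2.2).eq.symm)
    let y : M.subgroupOf C := ⟨⟨a * b, hyC⟩, hyM⟩
    have hy : orderOf y = 3 := by
      have h1 : orderOf y = orderOf (a * b) := by
        rw [← Subgroup.orderOf_coe, ← Subgroup.orderOf_coe]
      rw [h1]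
      exact orderOf_eq_prime (pow_three hD ha.1 hb.1 (hnd a ha b hb hab))
        (fun h => hab ((eq_inv_of_mul_eq_one_left h).trans (inv_eq hD hb.1)))
    have hgen : Subgroup.zpowers y = ⊤ := Subgroup.eq_top_of_le_card _ (by rw [Nat.card_zpowers, hy]; exact hcard)
    set w := a * d with hw
    have hwx : w * (d * d') * w⁻¹ = (d * d')⁻¹ := by
      have had' : a * d' = d' * a := hd'.2.2.eq
      rw [hw, mul_inv_rev, mul_inv_rev, inv_eq hD hd, inv_eq hD ha.1, inv_eq hD hd'.1,
        show a * d * (d * d') * (d * a) = a * (d * (d * d')) * (d * a) by simp [mul_assoc],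
        invol_cancel (hD.1 d hd), had', show d' * a * (d * a) = d' * ((a * d) * a) by simp [mul_assoc],
        ha.2.2.eq.symm, show d * a * a = d by rw [mul_assoc, sq_one hD ha.1, mul_one]]
    have hwy : w * (a * b) * w⁻¹ = (a * b)⁻¹ := by
      rw [hw, mul_inv_rev, mul_inv_rev, inv_eq hD hd, inv_eq hD ha.1, inv_eq hD hb.1]
      have hdab : d * (a * b) = a * b * d := (ha.2.2.mul_right hb.2.2).eq
      calc a * d * (a * b) * (d * a) = a * (d * (a * b)) * (d * a) := by simp [mul_assoc]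
        _ = a * (a * (b * (d * (d * a)))) := by rw [hdab]; simp [mul_assoc]
        _ = b * a := by rw [invol_cancel (hD.1 d hd), invol_cancel (hD.1 a ha.1)]
    have hxy : Commute (d * d') (a * b) :=
      (ha.2.2.mul_right hb.2.2).mul_left ((hd'.2.2.symm).mul_right
        ((htw d hd a ha b hb ▸ hd' : d' ∈ nb D b).2.2.symm))
    have hinv : ∀ m ∈ M, w * m * w⁻¹ = m⁻¹ := by
      intro m hm
      obtain ⟨i, hi⟩ : ∃ i : ℤ, (d * d') ^ i * m ∈ C := by
        have hmd := ((hp m hm).2.2 d hd)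
        rw [htd] at hmd
        have h3 := (nb_facts hD (hloc a ha.1).1).2.2 d (nb_symm hd ha) d' hd' hdd'.symm _ hmd
        have step : ∀ i : ℤ, (d * d') ^ i * (m * d * m⁻¹) * ((d * d') ^ i)⁻¹ = d →
            (d * d') ^ i * m ∈ C := fun i h => by
          rw [Subgroup.mem_centralizer_singleton_iff]
          calc (d * d') ^ i * m * d = ((d * d') ^ i * (m * d * m⁻¹) * ((d * d') ^ i)⁻¹) * ((d * d') ^ i * m) := by
                group
            _ = d * ((d * d') ^ i * m) := by rw [h]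
        have i1 : d⁻¹ = d := inv_eq hD hd
        have i2 : d'⁻¹ = d' := inv_eq hD hd'.1
        have br : d * d' * d = d' * d * d' := CfsgLib.Recog.Moore.braid_of (sq_one hD hd) (sq_one hD hd'.1)
          (pow_three hD hd hd'.1 ((nb_facts hD (hloc a ha.1).1).2.1 d (nb_symm hd ha) d' hd' hdd'.symm))
        rcases h3 with h | h | h
        · exact ⟨0, step 0 (by simpa using h)⟩
        · refine ⟨-1, step (-1) ?_⟩
          rw [h, zpow_neg_one, inv_inv, mul_inv_rev, i1, i2,
            show d' * d * d' * (d * d') = (d' * d * d') * (d * d') from rfl, ← br,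
            show d * d' * d * (d * d') = d * (d' * (d * (d * d'))) by simp [mul_assoc],
            invol_cancel (hD.1 d hd), sq_one hD hd'.1, mul_one]
        · refine ⟨1, step 1 ?_⟩
          rw [h, zpow_one, mul_inv_rev, i1, i2,
            show d * d' * (d * d' * d) * (d' * d) = (d * d') * (d * d') * (d * d') * d by simp [mul_assoc]]
          have : (d * d') * (d * d') * (d * d') = 1 := by
            rw [← pow_two, ← pow_succ]; exact (hp _ hxM).2.1
          rw [this, one_mul]
      let z : M.subgroupOf C := ⟨⟨(d * d') ^ i * m, hi⟩, M.mul_mem (M.zpow_mem hxM i) hm⟩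
      obtain ⟨j, hj⟩ := Subgroup.mem_zpowers_iff.1 (hgen ▸ Subgroup.mem_top z : z ∈ Subgroup.zpowers y)
      have hj' : (a * b) ^ j = (d * d') ^ i * m := by
        have := congrArg (fun q : M.subgroupOf C => ((q : C) : G)) hj
        simpa [y, z] using this
      have hm' : m = (d * d') ^ (-i) * (a * b) ^ j := by rw [hj']; group
      rw [hm', ← conj_mul, ← conj_zpow, ← conj_zpow, hwx, hwy, inv_zpow, inv_zpow, ← mul_inv_rev,
        (hxy.zpow_zpow (-i) j).eq]
    have F : ∀ m ∈ M, (e * a) * m * (e * a)⁻¹ = ((e * d) * m * (e * d)⁻¹)⁻¹ := by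
      intro m hm
      rw [show e * a = (e * d) * w by
        rw [hw, ha.2.2.eq.symm, mul_assoc e, ← mul_assoc d d, sq_one hD hd, one_mul],
        show e * d * w * m * (e * d * w)⁻¹ = e * d * (w * m * w⁻¹) * (e * d)⁻¹ by group, hinv m hm]
      group
    have q1 : (e * a) ^ 3 = 1 := pow_three hD he ha.1 (fun h => nae h.symm)
    have q2 : (e * d) ^ 3 = 1 := pow_three hD he hd (fun h => nde h.symm)
    set x := d * d' with hx
    set u := e * d with hu
    set v := e * a with hv
    have m1 : u * x * u⁻¹ ∈ M := hMn.conj_mem _ hxM u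
    have m2 : u * (u * x * u⁻¹) * u⁻¹ ∈ M := hMn.conj_mem _ m1 u
    have s1 : v * (v * (v * x * v⁻¹) * v⁻¹) * v⁻¹ = x⁻¹ := by
      rw [F x hxM, show v * (u * x * u⁻¹)⁻¹ * v⁻¹ = (v * (u * x * u⁻¹) * v⁻¹)⁻¹ by group, F _ m1, inv_inv,
        F _ m2]
      rw [cube_conj q2 x]
    have s2 : x = x⁻¹ := by
      rw [← s1, cube_conj q1 x]
    have : x * x = 1 := by nth_rewrite 1 [s2]; exact inv_mul_cancel x
    have x1 : x = 1 := by
      have h3 : x ^ 3 = 1 := (hp x hxM).2.1
      rwa [pow_succ, pow_two, this, one_mul] at h3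
    exact hdd' ((eq_inv_of_mul_eq_one_right x1).trans (inv_eq hD hd))
  obtain ⟨eA⟩ := (hloc a ha.1).1
  obtain ⟨eB⟩ := (hloc d hd).1
  set A := Subgroup.closure (nb D a)
  set B := Subgroup.closure (nb D d)
  have hcm : ∀ p ∈ nb D a, ∀ q ∈ nb D d, Commute p q := by
    intro p hp q hq
    have : nb D p = nb D d := htw a ha.1 p hp d (nb_symm hd ha)
    exact (this.symm ▸ hq : q ∈ nb D p).2.2
  have hAB : ∀ x ∈ A, ∀ y ∈ B, Commute x y := by
    have h1 : ∀ q ∈ nb D d, ∀ x ∈ A, Commute x q := fun q hq x hx => by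
      have : A ≤ Subgroup.centralizer {q} := (Subgroup.closure_le _).2 fun p hp =>
        Subgroup.mem_centralizer_singleton_iff.2 (hcm p hp q hq).eq
      exact Subgroup.mem_centralizer_singleton_iff.1 (this hx)
    intro x hx y hy
    have : B ≤ Subgroup.centralizer {x} := (Subgroup.closure_le _).2 fun q hq =>
      Subgroup.mem_centralizer_singleton_iff.2 (h1 q hq x hx).eq.symm
    exact (Subgroup.mem_centralizer_singleton_iff.1 (this hy)).symm
  let f := MonoidHom.noncommCoprod A.subtype B.subtype (fun x y => hAB x x.2 y y.2)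
  have hinj : Function.Injective f := by
    rw [injective_iff_map_eq_one]
    rintro ⟨x, y⟩ hxy
    have hxy' : (x : G) * y = 1 := hxy
    have cz : ∀ σ : Equiv.Perm (Fin 3), σ * Equiv.swap 0 1 = Equiv.swap 0 1 * σ →
        σ * Equiv.swap 1 2 = Equiv.swap 1 2 * σ → σ = 1 := by decide
    have hcen : ∀ z : A, x * z = z * x := fun z => Subtype.ext (by
      have : (x : G) = (y : G)⁻¹ := eq_inv_of_mul_eq_one_left hxy'
      show (x : G) * z = z * x
      rw [this]; exact (hAB z z.2 y y.2).inv_right.eq.symm)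
    have hx1 : x = 1 := by
      apply eA.injective
      rw [map_one]
      refine cz _ ?_ ?_ <;>
      · conv_lhs => rw [← eA.apply_symm_apply (Equiv.swap _ _), ← map_mul, hcen, map_mul, eA.apply_symm_apply]
    subst hx1
    have : y = 1 := Subtype.ext (by simpa using hxy')
    rw [this]; rfl
  have hr : f.range = Subgroup.closure D := by
    refine (MonoidHom.noncommCoprod_range _ _ _).trans ?_
    rw [Subgroup.range_subtype, Subgroup.range_subtype, ← Subgroup.closure_union]
    congr 1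
    ext e
    exact ⟨fun h => h.elim (fun h => h.1) (fun h => h.1), hcov e⟩
  exact ⟨((MonoidHom.ofInjective hinj).trans (MulEquiv.subgroupCongr hr)).symm.trans (eA.prodCongr eB)⟩

end


/-- Let D be a non-empty conjugation-invariant set of involutions of a finite group G satisfying the 3-transposition order conditions, and suppose that for every d in D the members of D other than d commuting with d generate a subgroup isomorphic to the symmetric group of degree 3, and the largest normal 3-subgroup of the centralizer of d has order 3. Then the subgroup generated by D is isomorphic to the symmetric group of degree 5 or to the direct product of two symmetric groups of degree 3. -/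
theorem result {G : Type*} [Group G] [Finite G] {D : Set G} (hD : Cfsg.IsThreeTranspositionSet D) (hconj : ∀ g : G, ∀ d ∈ D, g * d * g⁻¹ ∈ D) (hne : D.Nonempty) (hloc : ∀ d ∈ D, Nonempty (↥(Subgroup.closure {y : G | y ∈ D ∧ y ≠ d ∧ Commute d y}) ≃* Equiv.Perm (Fin 3)) ∧ Nat.card (Cfsg.pCore 3 ↥(Subgroup.centralizer ({d} : Set G))) = 3) : Nonempty (↥(Subgroup.closure D) ≃* Equiv.Perm (Fin 5)) ∨ Nonempty (↥(Subgroup.closure D) ≃* Equiv.Perm (Fin 3) × Equiv.Perm (Fin 3)) := by
  obtain ⟨d₀, hd₀⟩ := hne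
  by_cases h : ∀ d ∈ D, ∀ a ∈ nb D d, ∀ b ∈ nb D d, nb D a = nb D b
  · exact Or.inr (square_case hD hconj hloc h hd₀)
  · push Not at h
    obtain ⟨d, hd, a, ha, b, hb, hne⟩ := h
    exact Or.inl (sym5_case hD hconj hloc hd ha hb hne)

end Cfsg.Agent.S5365
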