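import Cfsg.Statements.S5371
import Cfsg.Agent.Lib.Trans3.FiConf.Iso23
-- import your own Cfsg.Agent.* helpers here

set_option autoImplicit false
open Cfsg

namespace Cfsg.Agent.S5371

theorem image_group {X Y : Type*} [Group X] [Group Y] (e : X ≃* Y) {V : Set X}
    (hV : Cfsg.IsThreeTranspositionGroup V) : Cfsg.IsThreeTranspositionGroup (e '' V) := by
  refine ⟨⟨?_, ?_⟩, ?_, ?_⟩
  · rintro _ ⟨d, hd, rfl⟩
    rw [MulEquiv.orderOf_eq]; exact hV.1.1 d hd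
  · rintro _ ⟨d, hd, rfl⟩ _ ⟨u, hu, rfl⟩
    rcases hV.1.2 d hd u hu with h | h
    · exact Or.inl (by rw [← map_mul, ← map_pow, h, map_one])
    · exact Or.inr (by rw [← map_mul, ← map_pow, h, map_one])
  · rintro g _ ⟨d, hd, rfl⟩
    exact ⟨e.symm g * d * (e.symm g)⁻¹, hV.2.1 _ d hd, by simp⟩
  · have h := congrArg (Subgroup.map e.toMonoidHom) hV.2.2
    rw [MonoidHom.map_closure, Subgroup.map_top_of_surjective e.toMonoidHom e.surjective] at h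
    exact h


/-- Uniqueness of the 3-transposition groups of type M(23). Let G₁ and G₂ be finite groups with trivial centres, each generated by a conjugation-invariant set of 3-transpositions Dᵢ on which it acts primitively, such that for some member d of Dᵢ the subgroup generated by the members of Dᵢ other than d commuting with d has central largest normal 2- and 3-subgroups, and suppose each Gᵢ with Dᵢ is of type M(23). Then there is an isomorphism from G₁ to G₂ carrying D₁ onto D₂. -/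
theorem result {G₁ G₂ : Type*} [Group G₁] [Finite G₁] [Group G₂] [Finite G₂] {D₁ : Set G₁} {D₂ : Set G₂} (hD₁ : Cfsg.IsThreeTranspositionGroup D₁) (hprim₁ : Cfsg.IsPrimitiveUnderConj D₁) (hZ₁ : Subgroup.center G₁ = ⊥) (d₁ : G₁) (hd₁ : d₁ ∈ D₁) (h3₁ : Cfsg.pCore 3 ↥(Subgroup.closure {y : G₁ | y ∈ D₁ ∧ y ≠ d₁ ∧ Commute d₁ y}) ≤ Subgroup.center ↥(Subgroup.closure {y : G₁ | y ∈ D₁ ∧ y ≠ d₁ ∧ Commute d₁ y})) (h2₁ : Cfsg.pCore 2 ↥(Subgroup.closure {y : G₁ | y ∈ D₁ ∧ y ≠ d₁ ∧ Commute d₁ y}) ≤ Subgroup.center ↥(Subgroup.closure {y : G₁ | y ∈ D₁ ∧ y ≠ d₁ ∧ Commute d₁ y})) (hD₂ : Cfsg.IsThreeTranspositionGroup D₂) (hprim₂ : Cfsg.IsPrimitiveUnderConj D₂) (hZ₂ : Subgroup.center G₂ = ⊥) (d₂ : G₂) (hd₂ : d₂ ∈ D₂) (h3₂ : Cfsg.pCore 3 ↥(Subgroup.closure {y : G₂ | y ∈ D₂ ∧ y ≠ d₂ ∧ Commute d₂ y}) ≤ Subgroup.center ↥(Subgroup.closure {y : G₂ | y ∈ D₂ ∧ y ≠ d₂ ∧ Commute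 d₂ y})) (h2₂ : Cfsg.pCore 2 ↥(Subgroup.closure {y : G₂ | y ∈ D₂ ∧ y ≠ d₂ ∧ Commute d₂ y}) ≤ Subgroup.center ↥(Subgroup.closure {y : G₂ | y ∈ D₂ ∧ y ≠ d₂ ∧ Commute d₂ y})) (ht₁ : Cfsg.IsOfTypeM23 G₁ D₁) (ht₂ : Cfsg.IsOfTypeM23 G₂ D₂) : ∃ e : G₁ ≃* G₂, e '' D₁ = D₂ := by
  obtain ⟨e₁⟩ := CfsgLib.Trans3.FiConf.m23_iso hD₁ hprim₁ ht₁
  obtain ⟨e₂⟩ := CfsgLib.Trans3.FiConf.m23_iso hD₂ hprim₂ ht₂
  refine ⟨e₁.trans e₂.symm, Set.Subset.antisymm ?_ fun y hy => ?_⟩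
  · exact CfsgLib.Trans3.Fi.m23_unique hD₂ hprim₂ ht₂ (image_group _ hD₁)
  · exact ⟨(e₁.trans e₂.symm).symm y,
      CfsgLib.Trans3.Fi.m23_unique hD₁ hprim₁ ht₁ (image_group (e₁.trans e₂.symm).symm hD₂) ⟨y, hy, rfl⟩,
      MulEquiv.apply_symm_apply _ _⟩

end Cfsg.Agent.S5371
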