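import Cfsg.Statements.S5378
import Cfsg.Agent.Lib.ClassK.ConwayMain

set_option autoImplicit false
open Cfsg

namespace Cfsg.Agent.S5378

/-- Let G be a finite group of Conway type: it has an involution z whose centralizer C has generalized Fitting subgroup Q extraspecial of order 2^9 with C/Q isomorphic to the commutator subgroup of the isometry group of the hyperbolic quadratic form in dimension 8 over the field with two elements, and some conjugate of z other than z lies in Q. Then G has exactly three conjugacy classes of involutions. -/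
theorem result {G : Type*} [Group G] [Finite G] (z : G) (hz : orderOf z = 2) (Q : Subgroup (Subgroup.centralizer ({z} : Set G))) [Q.Normal] (hF : Cfsg.generalizedFittingSubgroup (Subgroup.centralizer ({z} : Set G)) = Q) (hQ : Cfsg.IsExtraspecial 2 Q) (hcard : Nat.card Q = 2 ^ 9) (e : (Subgroup.centralizer ({z} : Set G)) ⧸ Q ≃* Cfsg.Omega (ZMod 2) (Cfsg.quadFormPlus 4 (ZMod 2))) (hnwc : ∃ g : G, (∃ hq : g * z * g⁻¹ ∈ Subgroup.centralizer ({z} : Set G), (⟨g * z * g⁻¹, hq⟩ : Subgroup.centralizer ({z} : Set G)) ∈ Q) ∧ g * z * g⁻¹ ≠ z) : ∃ a b c : G, orderOf a = 2 ∧ orderOf b = 2 ∧ orderOf c = 2 ∧ ¬ IsConj a b ∧ ¬ IsConj a c ∧ ¬ IsConj b c ∧ ∀ x : G, orderOf x = 2 → IsConj x a ∨ IsConj x b ∨ IsConj x c := by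
  let C := Subgroup.centralizer ({z} : Set G)
  let QG : Subgroup G := Q.map C.subtype
  have hQC : QG ≤ C := Subgroup.map_subtype_le _
  have hsub : QG.subgroupOf C = Q := Subgroup.comap_map_eq_self_of_injective C.subtype_injective _
  let eq : ↥Q ≃* ↥QG := Q.equivMapOfInjective _ C.subtype_injective
  have hpack := CfsgLib.PLocal.LargeExtra.pack_of_fstar hz hQC (by rw [hF])
    (CfsgLib.Trans3.LargeLinear.isExtraspecial_of_equiv eq hQ)
  haveI : (QG.subgroupOf C).Normal := by rw [hsub]; infer_instance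
  refine CfsgLib.ClassK.Conway.three_classes_main hz hpack hQC
    (by rw [← hcard]; exact (Nat.card_congr eq.toEquiv).symm)
    (by rw [hsub, Subgroup.index_eq_card, Nat.card_congr e.toEquiv,
      CfsgLib.ClassK.Conway.card_omega8plus]) ?_
  obtain ⟨g, ⟨hq, hmem⟩, hne⟩ := hnwc
  exact ⟨g, ⟨_, hmem, rfl⟩, hne⟩

end Cfsg.Agent.S5378
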