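import Cfsg.Statements.S5382
import Cfsg.Agent.Lib.InvChar.HallJankoOuterCentralizer
import Cfsg.Agent.Lib.InvChar.HallJankoSetup
-- import your own Cfsg.Agent.* helpers here

set_option autoImplicit false
open Cfsg

namespace Cfsg.Agent.S5382

/-- Let G be a finite group of Hall–Janko type: it has more than one class of involutions and an involution z whose centralizer C has generalized Fitting subgroup Q extraspecial of order 32 with C/Q isomorphic to the commutator subgroup of the isometry group of the elliptic quadratic form in dimension 4 over the field with two elements (the alternating group of degree 5), with z not weakly closed in Q. Then for every involution t not conjugate to z, the centralizer of t is isomorphic to the direct product of an elementary abelian group of order 4 and the alternating group of degree 5, and the normalizer of the largest normal 2-subgroup of that centralizer is isomorphic to the direct product of the alternating groups of degrees 4 and 5. -/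
theorem result {G : Type*} [Group G] [Finite G] (z : G) (hz : orderOf z = 2) (Q : Subgroup (Subgroup.centralizer ({z} : Set G))) [Q.Normal] (hF : Cfsg.generalizedFittingSubgroup (Subgroup.centralizer ({z} : Set G)) = Q) (hQ : Cfsg.IsExtraspecial 2 Q) (hcard : Nat.card Q = 2 ^ 5) (e : (Subgroup.centralizer ({z} : Set G)) ⧸ Q ≃* Cfsg.Omega (ZMod 2) (Cfsg.quadFormMinus 1 (ZMod 2) 1 1)) (hnwc : ∃ g : G, (∃ hq : g * z * g⁻¹ ∈ Subgroup.centralizer ({z} : Set G), (⟨g * z * g⁻¹, hq⟩ : Subgroup.centralizer ({z} : Set G)) ∈ Q) ∧ g * z * g⁻¹ ≠ z) (hcl : ∃ x y : G, orderOf x = 2 ∧ orderOf y = 2 ∧ ¬ IsConj x y) (t : G) (ht : orderOf t = 2) (htz : ¬ IsConj t z) : Nonempty (↥(Subgroup.centralizer ({t} : Set G)) ≃* (Multiplicative (ZMod 2) × Multiplicative (ZMod 2)) × alternatingGroup (Fin 5)) ∧ Nonempty (↥(Subgroup.normalizer (((Cfsg.pCore 2 ↥(Subgroup.centralizer ({t} : Set G))).map (Subgroup.subtype (Subgroup.centralizer ({t} : Set G))) : Subgroup G) : Set G)) ≃* alternatingGroup (Fin 4) × alternatingGroup (Fin 5)) := by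
  have S := CfsgLib.InvChar.HJType.data_of_type z hz Q hF hQ hcard e hnwc hcl
  obtain ⟨a, W, X0, f, v, k, A, F⟩ := S.exists_five_config
  obtain ⟨⟨e1⟩, hcore, ⟨e2⟩⟩ := F.outer_structure S
  obtain ⟨g, hg⟩ := isConj_iff.1 ((S.conj_cases F.L.ha ht).resolve_left fun h => htz h.symm)
  -- transport by conjugation
  let c : G ≃* G := MulAut.conj g
  have hC : (Subgroup.centralizer ({a} : Set G)).map c.toMonoidHom =
      Subgroup.centralizer ({t} : Set G) := by
    ext x
    rw [Subgroup.mem_map_equiv, Subgroup.mem_centralizer_singleton_iff,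
      Subgroup.mem_centralizer_singleton_iff, ← hg]
    show g⁻¹ * x * g * a = a * (g⁻¹ * x * g) ↔ _
    constructor
    · intro h
      calc x * (g * a * g⁻¹) = g * (g⁻¹ * x * g * a) * g⁻¹ := by group
        _ = g * a * g⁻¹ * x := by rw [h]; group
    · intro h
      calc g⁻¹ * x * g * a = g⁻¹ * (x * (g * a * g⁻¹)) * g := by group
        _ = a * (g⁻¹ * x * g) := by rw [h]; group
  let eC : ↥(Subgroup.centralizer ({a} : Set G)) ≃* ↥(Subgroup.centralizer ({t} : Set G)) :=
    (c.subgroupMap _).trans (MulEquiv.subgroupCongr hC)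
  refine ⟨⟨eC.symm.trans e1⟩, ?_⟩
  have hW : (Cfsg.pCore 2 ↥(Subgroup.centralizer ({t} : Set G))).map
      (Subgroup.subtype (Subgroup.centralizer ({t} : Set G))) = W.map c.toMonoidHom := by
    rw [← hcore, ← CfsgLib.Amalgam.map_pCore_eq eC, Subgroup.map_map, Subgroup.map_map]
    congr 1
  rw [hW, show ((W.map c.toMonoidHom : Subgroup G) : Set G) = c '' (W : Set G) from Subgroup.coe_map _ _]
  have hN : (Subgroup.normalizer (W : Set G)).map c.toMonoidHom = Subgroup.normalizer (c '' (W : Set G)) := by
    show (Subgroup.normalizer (W : Set G)).map c.toMonoidHom =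
      Subgroup.normalizer ((W.map c.toMonoidHom : Subgroup G) : Set G)
    exact Subgroup.map_equiv_normalizer_eq W c
  exact ⟨((c.subgroupMap _).trans (MulEquiv.subgroupCongr hN)).symm.trans e2⟩

end Cfsg.Agent.S5382
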