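import Cfsg.Statements.S5384
import Cfsg.Agent.Lib.InvChar.SuzT.Frame
import Cfsg.Agent.Lib.InvChar.SuzOrder.Order
import Cfsg.Agent.Lib.InvChar.SuzFive.Five
import Cfsg.Agent.Lib.KnownA.U4ThreeSchur.Model
import Cfsg.Agent.S5380

set_option autoImplicit false
open Cfsg

namespace Cfsg.Agent.S5384

/-- Let G be a finite group of Suzuki sporadic type (involution z with generalized Fitting subgroup Q of its centralizer C extraspecial of order 2^7, C/Q the commutator subgroup of the isometry group of the elliptic quadratic form in dimension 6 over the field with two elements, z not weakly closed in Q). Then G has exactly two conjugacy classes of subgroups of order 5, and the normalizer of a Sylow 5-subgroup P of G has order 600, with P of order 25 and N(P)/P isomorphic to the direct product of a cyclic group of order 4 and the symmetric group of degree 3. -/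
theorem result {G : Type*} [Group G] [Finite G] (z : G) (hz : orderOf z = 2) (Q : Subgroup (Subgroup.centralizer ({z} : Set G))) [Q.Normal] (hF : Cfsg.generalizedFittingSubgroup (Subgroup.centralizer ({z} : Set G)) = Q) (hQ : Cfsg.IsExtraspecial 2 Q) (hcard : Nat.card Q = 2 ^ 7) (e : (Subgroup.centralizer ({z} : Set G)) ⧸ Q ≃* Cfsg.Omega (ZMod 2) (Cfsg.quadFormMinus 2 (ZMod 2) 1 1)) (hnwc : ∃ g : G, (∃ hq : g * z * g⁻¹ ∈ Subgroup.centralizer ({z} : Set G), (⟨g * z * g⁻¹, hq⟩ : Subgroup.centralizer ({z} : Set G)) ∈ Q) ∧ g * z * g⁻¹ ≠ z) (P : Sylow 5 G) : (∃ A B : Subgroup G, Nat.card A = 5 ∧ Nat.card B = 5 ∧ (∀ g : G, A.map (MulAut.conj g).toMonoidHom ≠ B) ∧ ∀ C : Subgroup G, Nat.card C = 5 → ∃ g : G, C.map (MulAut.conj g).toMonoidHom = A ∨ C.map (MulAut.conj g).toMonoidHom = B) ∧ Nat.card (P : Subgroup G) = 25 ∧ Nat.card ↥(Subgroup.normalizer ((P : Subgroup G) : Set G)) = 600 ∧ Nonempty (↥(Subgroup.normalizer ((P : Subgroup G) : Set G)) ⧸ (P : Subgroup G).subgroupOf (Subgroup.normalizer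 ((P : Subgroup G) : Set G)) ≃* Multiplicative (ZMod 4) × Equiv.Perm (Fin 3)) := by
  obtain ⟨φ, S⟩ := CfsgLib.InvChar.SuzType.exists_data z hz Q hF hQ hcard e
  obtain ⟨g, ⟨hq, hgQ⟩, hne⟩ := hnwc
  obtain ⟨ψ, ψ', P'⟩ := CfsgLib.InvChar.SuzType.exists_pair S
    (show g * z * g⁻¹ ∈ Q.map (Subgroup.centralizer ({z} : Set G)).subtype from ⟨_, hgQ, rfl⟩) hne
  suffices h : Nonempty (CfsgLib.InvChar.SuzT.TFrame z) by
    obtain ⟨F⟩ := h
    exact CfsgLib.InvChar.SuzFive.five_of_tframe F (CfsgLib.InvChar.SuzOrder.card_of_pair P') P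
  refine CfsgLib.InvChar.SuzT.exists_tframe P' fun d hdC hd hd8 hdna => ?_
  have hsub : (Q.map (Subgroup.centralizer ({z} : Set G)).subtype).subgroupOf (Subgroup.centralizer ({z} : Set G)) = Q :=
    Subgroup.comap_map_eq_self_of_injective (Subgroup.subtype_injective _) _
  rw [hsub] at hd8 hdna
  have hY : Nat.card ↥(Subgroup.zpowers (⟨d, hdC⟩ : (Subgroup.centralizer ({z} : Set G) : Subgroup G))) = 3 := by
    rw [Nat.card_zpowers, Subgroup.orderOf_mk, hd]
  have hmap : (Subgroup.zpowers (⟨d, hdC⟩ : (Subgroup.centralizer ({z} : Set G) : Subgroup G))).map (Subgroup.centralizer ({z} : Set G)).subtype = Subgroup.zpowers d := by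
    rw [MonoidHom.map_zpowers]; rfl
  haveI : (((Subgroup.zpowers (⟨d, hdC⟩ : (Subgroup.centralizer ({z} : Set G) : Subgroup G))).map (Subgroup.centralizer ({z} : Set G)).subtype).subgroupOf
      (Subgroup.centralizer (((Subgroup.zpowers (⟨d, hdC⟩ : (Subgroup.centralizer ({z} : Set G) : Subgroup G))).map (Subgroup.centralizer ({z} : Set G)).subtype) : Set G))).Normal :=
    ⟨fun n hn c => by
      have h : (n : G) * c = c * n := Subgroup.mem_centralizer_iff.1 c.2 _ hn
      rw [show c * n * c⁻¹ = n from Subtype.ext (by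
        rw [Subgroup.coe_mul, Subgroup.coe_mul, InvMemClass.coe_inv, ← h, mul_inv_cancel_right])]
      exact hn⟩
  let K : Type := GaloisField 3 2
  haveI : Fintype K := Fintype.ofFinite K
  have hK : Fintype.card K = 9 := by
    rw [← Nat.card_eq_fintype_card]; exact (GaloisField.card 3 2 two_ne_zero).trans (by norm_num)
  obtain ⟨-, ⟨f⟩, -⟩ := Cfsg.Agent.S5380.result z hz Q hF hQ hcard e ⟨g, ⟨hq, hgQ⟩, hne⟩
    (Subgroup.zpowers (⟨d, hdC⟩ : (Subgroup.centralizer ({z} : Set G) : Subgroup G))) hY hd8 hdna K hK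
  have hcen : Subgroup.centralizer (((Subgroup.zpowers (⟨d, hdC⟩ : (Subgroup.centralizer ({z} : Set G) : Subgroup G))).map (Subgroup.centralizer ({z} : Set G)).subtype) : Set G) =
      Subgroup.centralizer ({d} : Set G) := by
    rw [hmap, Subgroup.zpowers_eq_closure, Subgroup.centralizer_closure]
  rw [← hcen, Subgroup.card_eq_card_quotient_mul_card_subgroup
    (((Subgroup.zpowers (⟨d, hdC⟩ : (Subgroup.centralizer ({z} : Set G) : Subgroup G))).map (Subgroup.centralizer ({z} : Set G)).subtype).subgroupOf _), Nat.card_congr f.toEquiv,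
    CfsgLib.KnownA.U4ThreeSchur.card_psu hK,
    Nat.card_congr (Subgroup.subgroupOfEquivOfLe (fun a ha => Subgroup.mem_centralizer_iff.2 fun b hb => by
      rw [SetLike.mem_coe, hmap] at hb
      rw [hmap] at ha
      obtain ⟨i, rfl⟩ := Subgroup.mem_zpowers_iff.1 ha
      obtain ⟨j, rfl⟩ := Subgroup.mem_zpowers_iff.1 hb
      exact ((Commute.refl d).zpow_zpow j i).eq)).toEquiv,
    hmap, Nat.card_zpowers, hd]

end Cfsg.Agent.S5384
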