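import Cfsg.Statements.S5385
import Cfsg.Agent.Lib.Trans3.ConwayJ2

set_option autoImplicit false
open Cfsg

namespace Cfsg.Agent.S5385

/-- Let G be a finite group of Conway type (involution z with generalized Fitting subgroup Q of its centralizer C extraspecial of order 2^9, C/Q the commutator subgroup of the isometry group of the hyperbolic quadratic form in dimension 8 over the field with two elements, z not weakly closed in Q), and let B be a subgroup of C of order 5 such that the centralizer of B in Q is extraspecial of order 32 containing no elementary abelian subgroup of order 8 (the quaternion-times-dihedral type). Then the layer L of the centralizer of B in G is isomorphic to the Hall–Janko group and the centralizer of L is isomorphic to the alternating group of degree 5. -/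
theorem result {G : Type*} [Group G] [Finite G] (z : G) (hz : orderOf z = 2) (Q : Subgroup (Subgroup.centralizer ({z} : Set G))) [Q.Normal] (hF : Cfsg.generalizedFittingSubgroup (Subgroup.centralizer ({z} : Set G)) = Q) (hQ : Cfsg.IsExtraspecial 2 Q) (hcard : Nat.card Q = 2 ^ 9) (e : (Subgroup.centralizer ({z} : Set G)) ⧸ Q ≃* Cfsg.Omega (ZMod 2) (Cfsg.quadFormPlus 4 (ZMod 2))) (hnwc : ∃ g : G, (∃ hq : g * z * g⁻¹ ∈ Subgroup.centralizer ({z} : Set G), (⟨g * z * g⁻¹, hq⟩ : Subgroup.centralizer ({z} : Set G)) ∈ Q) ∧ g * z * g⁻¹ ≠ z) (B : Subgroup (Subgroup.centralizer ({z} : Set G))) (hB : Nat.card B = 5) (hCQ : Cfsg.IsExtraspecial 2 ↥(Q ⊓ Subgroup.centralizer (B : Set (Subgroup.centralizer ({z} : Set G))))) (hCQcard : Nat.card ↥(Q ⊓ Subgroup.centralizer (B : Set (Subgroup.centralizer ({z} : Set G)))) = 32) (hminus : ∀ A : Subgroup (Subgroup.centralizer ({z} : Set G)), A ≤ Q ⊓ Subgroup.centralizer (B : Set (Subgroup.centralizer ({z} : Set G))) → Cfsg.IsElementaryAbelian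 2 A → Nat.card A ≤ 4) : Cfsg.Spor.IsoJ2 ↥(Cfsg.layer ↥(Subgroup.centralizer ((B.map (Subgroup.subtype (Subgroup.centralizer ({z} : Set G)))) : Set G))) ∧ Nonempty (↥(Subgroup.centralizer (((Cfsg.layer ↥(Subgroup.centralizer ((B.map (Subgroup.subtype (Subgroup.centralizer ({z} : Set G)))) : Set G))).map (Subgroup.subtype _)) : Set G)) ≃* alternatingGroup (Fin 5)) := by
  classical
  haveI : Fact (Nat.Prime 5) := ⟨by norm_num⟩
  -- a generator of `B`
  obtain ⟨b0, hb0⟩ := exists_prime_orderOf_dvd_card' (G := B) 5 (by rw [hB])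
  set b : G := b0.1.1 with hbdef
  have hob : orderOf b = 5 := by rw [hbdef, Subgroup.orderOf_coe, Subgroup.orderOf_coe, hb0]
  have hgen : ∀ y ∈ B, y ∈ Subgroup.zpowers b0.1 := by
    intro y hy
    have h : (⟨y, hy⟩ : B) ∈ Subgroup.zpowers b0 := by
      rw [Subgroup.eq_top_of_card_eq (Subgroup.zpowers b0) (by rw [Nat.card_zpowers, hb0, hB])]
      trivial
    obtain ⟨n, hn⟩ := h
    exact ⟨n, by simpa using congrArg Subtype.val hn⟩
  have hBG : Subgroup.centralizer ((B.map (Subgroup.subtype (Subgroup.centralizer ({z} : Set G)))) : Set G) =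
      Subgroup.centralizer ({b} : Set G) := by
    refine le_antisymm (fun x hx => ?_) (fun x hx => ?_)
    · exact Subgroup.mem_centralizer_singleton_iff.2
        (Subgroup.mem_centralizer_iff.1 hx b ⟨b0.1, b0.2, rfl⟩).symm
    · refine Subgroup.mem_centralizer_iff.2 ?_
      rintro _ ⟨y, hy, rfl⟩
      obtain ⟨n, rfl⟩ := hgen y hy
      show ((b0.1 ^ n : ↥(Subgroup.centralizer ({z} : Set G))) : G) * x = x * _
      rw [SubgroupClass.coe_zpow]
      exact ((show Commute x b from Subgroup.mem_centralizer_singleton_iff.1 hx).zpow_right n).eq.symm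
  rw [hBG]
  -- `Q` as a subgroup of `G`
  set QG := Q.map (Subgroup.centralizer ({z} : Set G)).subtype with hQG
  let eQ : ↥Q ≃* ↥QG := Q.equivMapOfInjective (Subgroup.centralizer ({z} : Set G)).subtype (Subgroup.centralizer ({z} : Set G)).subtype_injective
  have hCQ' : Subgroup.centralizer (Q : Set ↥(Subgroup.centralizer ({z} : Set G))) ≤ Q := by
    have h := CfsgLib.Comp.centralizer_generalizedFitting_le ↥(Subgroup.centralizer ({z} : Set G))
    rwa [hF] at h
  have hzC : z ∈ (Subgroup.centralizer ({z} : Set G)) := Subgroup.mem_centralizer_singleton_iff.2 rfl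
  have hzQ : (⟨z, hzC⟩ : ↥(Subgroup.centralizer ({z} : Set G))) ∈ Q := hCQ' (Subgroup.mem_centralizer_iff.2 fun q _ =>
    Subtype.ext (Subgroup.mem_centralizer_singleton_iff.1 q.2))
  have hnorm : ∀ c ∈ (Subgroup.centralizer ({z} : Set G)), ∀ a ∈ QG, c * a * c⁻¹ ∈ QG := by
    rintro c hc _ ⟨q, hq, rfl⟩
    exact ⟨⟨c, hc⟩ * q * ⟨c, hc⟩⁻¹, Subgroup.Normal.conj_mem inferInstance q hq _, rfl⟩
  have hself : Subgroup.centralizer (QG : Set G) ≤ QG := by
    intro c hc
    have hcH : c ∈ (Subgroup.centralizer ({z} : Set G)) := Subgroup.mem_centralizer_singleton_iff.2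
      (Subgroup.mem_centralizer_iff.1 hc z ⟨_, hzQ, rfl⟩).symm
    exact ⟨⟨c, hcH⟩, hCQ' (Subgroup.mem_centralizer_iff.2 fun q hq =>
      Subtype.ext (Subgroup.mem_centralizer_iff.1 hc _ ⟨q, hq, rfl⟩)), rfl⟩
  have hbz : b * z = z * b := Subgroup.mem_centralizer_singleton_iff.1 b0.1.2
  have hRmap : (Q ⊓ Subgroup.centralizer (B : Set ↥(Subgroup.centralizer ({z} : Set G)))).map (Subgroup.centralizer ({z} : Set G)).subtype =
      QG ⊓ Subgroup.centralizer ({b} : Set G) := by
    refine le_antisymm ?_ ?_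
    · rintro _ ⟨y, hy, rfl⟩
      exact ⟨⟨y, hy.1, rfl⟩, Subgroup.mem_centralizer_singleton_iff.2
        (congrArg Subtype.val (Subgroup.mem_centralizer_iff.1 hy.2 b0.1 b0.2)).symm⟩
    · rintro _ ⟨⟨y, hy, rfl⟩, hyb⟩
      refine ⟨y, ⟨hy, Subgroup.mem_centralizer_iff.2 fun c hc => ?_⟩, rfl⟩
      obtain ⟨n, rfl⟩ := hgen c hc
      have h : Commute y b0.1 := Subtype.ext (Subgroup.mem_centralizer_singleton_iff.1 hyb)
      exact (h.zpow_right n).eq.symm
  let eR := ((Q ⊓ Subgroup.centralizer (B : Set ↥(Subgroup.centralizer ({z} : Set G)))).equivMapOfInjective (Subgroup.centralizer ({z} : Set G)).subtype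
    (Subgroup.centralizer ({z} : Set G)).subtype_injective).trans (MulEquiv.subgroupCongr hRmap)
  have hR := CfsgLib.InvChar.HJType.extraspecial_of_equiv eR hCQ
  have hRc : Nat.card ↥(QG ⊓ Subgroup.centralizer ({b} : Set G)) = 32 := by
    rw [← Nat.card_congr eR.toEquiv, hCQcard]
  have hRA : ∀ A : Subgroup G, A ≤ QG ⊓ Subgroup.centralizer ({b} : Set G) →
      Cfsg.IsElementaryAbelian 2 A → Nat.card A ≤ 4 := by
    intro A hA hEA
    have hAC : A ≤ (Subgroup.centralizer ({z} : Set G)) := hA.trans (inf_le_left.trans (Subgroup.map_subtype_le Q))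
    have hle : A.subgroupOf (Subgroup.centralizer ({z} : Set G)) ≤ Q ⊓ Subgroup.centralizer (B : Set ↥(Subgroup.centralizer ({z} : Set G))) := by
      intro a ha
      have h := hA ha
      rw [← hRmap] at h
      obtain ⟨a', ha', e'⟩ := h
      exact (Subgroup.centralizer ({z} : Set G)).subtype_injective e' ▸ ha'
    have h := hminus (A.subgroupOf (Subgroup.centralizer ({z} : Set G))) hle ⟨⟨⟨fun p q => Subtype.ext (Subtype.ext
      (congrArg Subtype.val (hEA.1.is_comm.comm ⟨p.1.1, p.2⟩ ⟨q.1.1, q.2⟩) :))⟩⟩,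
      fun p hp => Subtype.ext (hEA.2 p.1 hp)⟩
    rwa [Nat.card_congr (Subgroup.subgroupOfEquivOfLe hAC).toEquiv] at h
  have hom : CfsgLib.Trans3.Conway.Om = Cfsg.Omega (ZMod 2) ⇑(CfsgLib.Classical.qfPlus 4 (ZMod 2)) := rfl
  obtain ⟨e'⟩ : Nonempty (↥(Subgroup.centralizer ({z} : Set G)) ⧸ Q ≃* ↥CfsgLib.Trans3.Conway.Om) := by
    have key : ∀ q : (Fin 4 ⊕ Fin 4 → ZMod 2) → ZMod 2, q = Cfsg.quadFormPlus 4 (ZMod 2) →
        Nonempty (↥(Subgroup.centralizer ({z} : Set G)) ⧸ Q ≃* ↥(Cfsg.Omega (ZMod 2) q)) := by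
      rintro q rfl
      exact ⟨e⟩
    exact key _ (CfsgLib.Classical.qfPlus_coe 4)
  obtain ⟨u, S⟩ := CfsgLib.Trans3.Conway.exists_cfg hz (Subgroup.map_subtype_le Q) hnorm hself
    (CfsgLib.InvChar.HJType.extraspecial_of_equiv eQ hQ) ⟨_, hzQ, rfl⟩
    (by rw [← Nat.card_congr eQ.toEquiv, hcard]; norm_num) hob hbz hR hRc hRA
    (by obtain ⟨g, ⟨hq, hgQ⟩, hne⟩ := hnwc; exact ⟨g, ⟨_, hgQ, rfl⟩, hne⟩)
    ⟨e'.toMonoidHom.comp (QuotientGroup.mk' Q),
      e'.surjective.comp (QuotientGroup.mk'_surjective Q), by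
      ext h
      rw [Subgroup.mem_subgroupOf, MonoidHom.mem_ker]
      show e' (QuotientGroup.mk' Q h) = 1 ↔ _
      rw [map_eq_one_iff _ e'.injective, QuotientGroup.mk'_apply, QuotientGroup.eq_one_iff]
      exact (Subgroup.mem_map_iff_mem (Subgroup.centralizer ({z} : Set G)).subtype_injective).symm⟩
  obtain ⟨gs, w, F⟩ := S.exists_frame
  exact S.layer_and_centralizer F hR hRc

end Cfsg.Agent.S5385
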