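import Cfsg.Statements.S5386
import Cfsg.Agent.Lib.StructB.CoA9.VMain
import Cfsg.Agent.Lib.ClassK.ConwayMain
import Cfsg.Agent.Lib.Trans3.LargeLinear
import Cfsg.Agent.Lib.PLocal.LargeExtraCriterion

set_option autoImplicit false
open Cfsg

namespace Cfsg.Agent.S5386

/-- Let G be a finite group of Conway type (involution z with generalized Fitting subgroup Q of its centralizer C extraspecial of order 2^9, C/Q the commutator subgroup of the isometry group of the hyperbolic quadratic form in dimension 8 over the field with two elements, z not weakly closed in Q). Then G has a subgroup V of order 7 whose centralizer is isomorphic to the direct product of a cyclic group of order 7 and the alternating group of degree 7, and a subgroup W of order 3 whose normalizer is isomorphic to the direct product of the symmetric group of degree 3 and the alternating group of degree 9. -/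
theorem result {G : Type*} [Group G] [Finite G] (z : G) (hz : orderOf z = 2) (Q : Subgroup (Subgroup.centralizer ({z} : Set G))) [Q.Normal] (hF : Cfsg.generalizedFittingSubgroup (Subgroup.centralizer ({z} : Set G)) = Q) (hQ : Cfsg.IsExtraspecial 2 Q) (hcard : Nat.card Q = 2 ^ 9) (e : (Subgroup.centralizer ({z} : Set G)) ⧸ Q ≃* Cfsg.Omega (ZMod 2) (Cfsg.quadFormPlus 4 (ZMod 2))) (hnwc : ∃ g : G, (∃ hq : g * z * g⁻¹ ∈ Subgroup.centralizer ({z} : Set G), (⟨g * z * g⁻¹, hq⟩ : Subgroup.centralizer ({z} : Set G)) ∈ Q) ∧ g * z * g⁻¹ ≠ z) : (∃ V : Subgroup G, Nat.card V = 7 ∧ Nonempty (↥(Subgroup.centralizer (V : Set G)) ≃* Multiplicative (ZMod 7) × alternatingGroup (Fin 7))) ∧ ∃ W : Subgroup G, Nat.card W = 3 ∧ Nonempty (↥(Subgroup.normalizer (W : Set G)) ≃* Equiv.Perm (Fin 3) × alternatingGroup (Fin 9)) := by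
  classical
  let C := Subgroup.centralizer ({z} : Set G)
  let QG : Subgroup G := Q.map C.subtype
  have hQC : QG ≤ C := Subgroup.map_subtype_le _
  have hsub : QG.subgroupOf C = Q := Subgroup.comap_map_eq_self_of_injective C.subtype_injective _
  let eq : ↥Q ≃* ↥QG := Q.equivMapOfInjective _ C.subtype_injective
  have hpack := CfsgLib.PLocal.LargeExtra.pack_of_fstar hz hQC (by rw [hF])
    (CfsgLib.Trans3.LargeLinear.isExtraspecial_of_equiv eq hQ)
  haveI : (QG.subgroupOf C).Normal := by rw [hsub]; infer_instance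
  obtain ⟨g, ⟨hq, hmem⟩, hne⟩ := hnwc
  obtain ⟨e', S⟩ := CfsgLib.ClassK.Conway.exists_setup hpack hQC
    (by rw [← hcard]; exact (Nat.card_congr eq.toEquiv).symm)
    (by rw [hsub, Subgroup.index_eq_card, Nat.card_congr e.toEquiv,
      CfsgLib.ClassK.Conway.card_omega8plus]) ⟨g, ⟨_, hmem, rfl⟩, hne⟩
  obtain ⟨ρ, T⟩ := S.exists_tri
  obtain ⟨e₁⟩ : Nonempty (↥C ⧸ Q ≃* ↥CfsgLib.Trans3.Conway.Om) := by
    have key : ∀ q : (Fin 4 ⊕ Fin 4 → ZMod 2) → ZMod 2, q = Cfsg.quadFormPlus 4 (ZMod 2) →
        Nonempty (↥C ⧸ Q ≃* ↥(Cfsg.Omega (ZMod 2) q)) := by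
      rintro q rfl
      exact ⟨e⟩
    exact key _ (CfsgLib.Classical.qfPlus_coe 4)
  have hOm : CfsgLib.StructB.CoA9.HasOmega z QG :=
    ⟨e₁.toMonoidHom.comp (QuotientGroup.mk' Q),
      e₁.surjective.comp (QuotientGroup.mk'_surjective Q), by
      ext h
      rw [hsub, MonoidHom.mem_ker]
      show e₁ (QuotientGroup.mk' Q h) = 1 ↔ _
      rw [map_eq_one_iff _ e₁.injective, QuotientGroup.mk'_apply, QuotientGroup.eq_one_iff]⟩
  exact ⟨CfsgLib.StructB.CoA9.exists_V T hOm, CfsgLib.StructB.CoA9.exists_W T hOm⟩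

end Cfsg.Agent.S5386
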