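import Cfsg.Statements.S5387
import Cfsg.Agent.Lib.Trans3.L34Cover
-- import your own Cfsg.Agent.* helpers here

set_option autoImplicit false
open Cfsg

namespace Cfsg.Agent.S5387

open scoped commutatorElement

/-- Up to isomorphism there is at most one quasisimple group whose centre is elementary abelian of order 4 and whose central quotient is isomorphic to the projective special linear group of dimension 3 over the field with four elements: any two such groups are isomorphic. -/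
theorem result {L₁ L₂ : Type*} [Group L₁] [Finite L₁] [Group L₂] [Finite L₂] (F : Type) [Field F] [Fintype F] (hF : Fintype.card F = 4) (h₁ : Cfsg.IsQuasisimple L₁) (h₂ : Cfsg.IsQuasisimple L₂) (hc₁ : Nat.card (Subgroup.center L₁) = 4) (hc₂ : Nat.card (Subgroup.center L₂) = 4) (he₁ : ∀ x ∈ Subgroup.center L₁, x * x = 1) (he₂ : ∀ x ∈ Subgroup.center L₂, x * x = 1) (e₁ : L₁ ⧸ Subgroup.center L₁ ≃* Matrix.ProjectiveSpecialLinearGroup (Fin 3) F) (e₂ : L₂ ⧸ Subgroup.center L₂ ≃* Matrix.ProjectiveSpecialLinearGroup (Fin 3) F) : Nonempty (L₁ ≃* L₂) := by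
  classical
  -- the two coverings
  let p₁ : L₁ →* Matrix.ProjectiveSpecialLinearGroup (Fin 3) F :=
    e₁.toMonoidHom.comp (QuotientGroup.mk' (Subgroup.center L₁))
  let p₂ : L₂ →* Matrix.ProjectiveSpecialLinearGroup (Fin 3) F :=
    e₂.toMonoidHom.comp (QuotientGroup.mk' (Subgroup.center L₂))
  have hs₁ : Function.Surjective p₁ := e₁.surjective.comp (QuotientGroup.mk'_surjective _)
  have hs₂ : Function.Surjective p₂ := e₂.surjective.comp (QuotientGroup.mk'_surjective _)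
  have hk₁ : ∀ {x}, p₁ x = 1 ↔ x ∈ Subgroup.center L₁ := fun {x} => by
    simp [p₁, MulEquiv.map_eq_one_iff]
  have hk₂ : ∀ {x}, p₂ x = 1 ↔ x ∈ Subgroup.center L₂ := fun {x} => by
    simp [p₂, MulEquiv.map_eq_one_iff]
  -- the derived subgroup of the fibre product
  let P : Subgroup (L₁ × L₂) :=
    { carrier := {a | p₁ a.1 = p₂ a.2}
      one_mem' := by simp
      mul_mem' := fun {a b} ha hb => by
        show p₁ (a.1 * b.1) = p₂ (a.2 * b.2)
        rw [map_mul, map_mul, (ha : p₁ a.1 = p₂ a.2), (hb : p₁ b.1 = p₂ b.2)]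
      inv_mem' := fun {a} ha => by
        show p₁ a.1⁻¹ = p₂ a.2⁻¹
        rw [map_inv, map_inv, (ha : p₁ a.1 = p₂ a.2)] }
  let K : Subgroup (L₁ × L₂) := ⁅P, P⁆
  have hKP : K ≤ P := Subgroup.commutator_le_self P
  -- projections are onto
  have hPfst : ∀ a, ∃ b, (a, b) ∈ P := fun a => by
    obtain ⟨b, hb⟩ := hs₂ (p₁ a); exact ⟨b, hb.symm⟩
  have hPsnd : ∀ b, ∃ a, (a, b) ∈ P := fun b => by
    obtain ⟨a, ha⟩ := hs₁ (p₂ b); exact ⟨a, ha⟩
  have hK₁ : K.map (MonoidHom.fst L₁ L₂) = ⊤ := by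
    rw [Subgroup.map_commutator, show P.map (MonoidHom.fst L₁ L₂) = ⊤ from ?_, ← commutator_def, h₁.1.1]
    refine eq_top_iff.2 fun a _ => ?_
    obtain ⟨b, hb⟩ := hPfst a
    exact ⟨(a, b), hb, rfl⟩
  have hK₂ : K.map (MonoidHom.snd L₁ L₂) = ⊤ := by
    rw [Subgroup.map_commutator, show P.map (MonoidHom.snd L₁ L₂) = ⊤ from ?_, ← commutator_def, h₂.1.1]
    refine eq_top_iff.2 fun b _ => ?_
    obtain ⟨a, ha⟩ := hPsnd b
    exact ⟨(a, b), ha, rfl⟩
  -- central part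
  let Z : Subgroup (L₁ × L₂) := (Subgroup.center L₁).prod (Subgroup.center L₂)
  have hZc : ∀ z ∈ Z, ∀ a, z * a = a * z := fun z hz a =>
    Prod.ext (Subgroup.mem_center_iff.1 hz.1 a.1).symm (Subgroup.mem_center_iff.1 hz.2 a.2).symm
  -- the derived subgroup is perfect
  have hdec : ∀ a ∈ P, ∃ k ∈ K, k⁻¹ * a ∈ Z := fun a ha => by
    obtain ⟨k, hk, hke⟩ := (hK₁ ▸ Subgroup.mem_top a.1 : a.1 ∈ K.map (MonoidHom.fst L₁ L₂))
    have hke' : k.1 = a.1 := hke
    refine ⟨k, hk, ?_, ?_⟩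
    · show k.1⁻¹ * a.1 ∈ Subgroup.center L₁
      rw [hke', inv_mul_cancel]; exact one_mem _
    · show k.2⁻¹ * a.2 ∈ Subgroup.center L₂
      rw [← hk₂, map_mul, map_inv, ← (hKP hk : p₁ k.1 = p₂ k.2), ← (ha : p₁ a.1 = p₂ a.2), hke', inv_mul_cancel]
  have hperf : commutator K = ⊤ := by
    refine Subgroup.map_injective K.subtype_injective ?_
    rw [Subgroup.map_subtype_commutator, ← MonoidHom.range_eq_map, Subgroup.range_subtype]
    refine le_antisymm (Subgroup.commutator_le_self K) ?_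
    refine Subgroup.commutator_le.2 fun a ha b hb => ?_
    obtain ⟨k, hk, hkz⟩ := hdec a ha
    obtain ⟨l, hl, hlz⟩ := hdec b hb
    have e : ⁅a, b⁆ = ⁅k, l⁆ := by
      obtain ⟨z, rfl⟩ : ∃ z, a = k * z := ⟨k⁻¹ * a, by group⟩
      obtain ⟨w, rfl⟩ : ∃ w, b = l * w := ⟨l⁻¹ * b, by group⟩
      rw [inv_mul_cancel_left] at hkz hlz
      have cz : ∀ x, Commute z x := hZc z hkz
      have cw : ∀ x, Commute w x := hZc w hlz
      simp only [commutatorElement_def, mul_inv_rev]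
      calc k * z * (l * w) * (z⁻¹ * k⁻¹) * (w⁻¹ * l⁻¹) = k * (z * (l * w)) * z⁻¹ * k⁻¹ * (w⁻¹ * l⁻¹) := by group
        _ = k * l * (w * k⁻¹) * w⁻¹ * l⁻¹ := by rw [(cz (l * w)).eq]; group
        _ = k * l * k⁻¹ * l⁻¹ := by rw [(cw k⁻¹).eq]; group
    rw [e]
    exact Subgroup.commutator_mem_commutator hk hl
  -- the covering of the derived subgroup
  let p : K →* Matrix.ProjectiveSpecialLinearGroup (Fin 3) F := (p₁.comp (MonoidHom.fst L₁ L₂)).comp K.subtype
  have hps : Function.Surjective p := fun y => by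
    obtain ⟨a, rfl⟩ := hs₁ y
    obtain ⟨k, hk, hke⟩ := (hK₁ ▸ Subgroup.mem_top a : a ∈ K.map (MonoidHom.fst L₁ L₂))
    exact ⟨⟨k, hk⟩, congrArg p₁ hke⟩
  have hker : ∀ k : K, p k = 1 → (k : L₁ × L₂) ∈ Z := fun k hk => by
    refine ⟨hk₁.1 hk, hk₂.1 ?_⟩
    rw [← (hKP k.2 : p₁ (k : L₁ × L₂).1 = p₂ (k : L₁ × L₂).2)]
    exact hk
  have h4 := CfsgLib.Trans3.L34.kernel_card_le hF hperf p hps
    (fun z hz e => Subtype.ext (hZc _ (hker z hz) _))
    (fun z hz => Subtype.ext (Prod.ext (he₁ _ (hker z hz).1) (he₂ _ (hker z hz).2)))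
  -- the projections are bijective
  have hN₁ : Nat.card L₁ = 4 * Nat.card (Matrix.ProjectiveSpecialLinearGroup (Fin 3) F) := by
    rw [Subgroup.card_eq_card_quotient_mul_card_subgroup (Subgroup.center L₁), hc₁, Nat.card_congr e₁.toEquiv, mul_comm]
  have hN₂ : Nat.card L₂ = 4 * Nat.card (Matrix.ProjectiveSpecialLinearGroup (Fin 3) F) := by
    rw [Subgroup.card_eq_card_quotient_mul_card_subgroup (Subgroup.center L₂), hc₂, Nat.card_congr e₂.toEquiv, mul_comm]
  have hKle : Nat.card K ≤ 4 * Nat.card (Matrix.ProjectiveSpecialLinearGroup (Fin 3) F) := by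
    have h := p.ker.card_mul_index
    rw [Subgroup.index_ker, MonoidHom.range_eq_top.2 hps, Subgroup.card_top] at h
    rw [← h]
    exact Nat.mul_le_mul_right _ h4
  let q₁ : K →* L₁ := (MonoidHom.fst L₁ L₂).comp K.subtype
  let q₂ : K →* L₂ := (MonoidHom.snd L₁ L₂).comp K.subtype
  have hq₁ : Function.Surjective q₁ := fun a => by
    obtain ⟨k, hk, hke⟩ := (hK₁ ▸ Subgroup.mem_top a : a ∈ K.map (MonoidHom.fst L₁ L₂))
    exact ⟨⟨k, hk⟩, hke⟩
  have hq₂ : Function.Surjective q₂ := fun a => by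
    obtain ⟨k, hk, hke⟩ := (hK₂ ▸ Subgroup.mem_top a : a ∈ K.map (MonoidHom.snd L₁ L₂))
    exact ⟨⟨k, hk⟩, hke⟩
  have hb₁ : Function.Bijective q₁ := hq₁.bijective_of_nat_card_le (hKle.trans hN₁.ge)
  have hb₂ : Function.Bijective q₂ := hq₂.bijective_of_nat_card_le (hKle.trans hN₂.ge)
  exact ⟨(MulEquiv.ofBijective q₁ hb₁).symm.trans (MulEquiv.ofBijective q₂ hb₂)⟩

end Cfsg.Agent.S5387
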