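import Cfsg.Statements.S5389
import Cfsg.Agent.Lib.InvChar.SuzCo.Conway
import Cfsg.Agent.Lib.Golay.E8Co1
import Cfsg.Agent.S5388

set_option autoImplicit false
open Cfsg

namespace Cfsg.Agent.S5389

/-- A simple section of the automorphism group of the Leech lattice satisfying the Suzuki-sporadic-type hypothesis (the group so obtained is the sporadic Suzuki group; that identification is not part of this statement): there is a subgroup A of order 3 of that automorphism group such that the centralizer of A modulo the subgroup generated by A and the centre of the automorphism group is a non-abelian simple group satisfying the large extraspecial hypothesis of minus type in dimension 6 — an involution whose centralizer has extraspecial generalized Fitting subgroup of order 2^7 with quotient the commutator subgroup of the isometry group of the elliptic quadratic form in dimension 6 over the field with two elements, the involution not weakly closed in that extraspecial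 group. -/
theorem result : ∃ A : Subgroup ↥Cfsg.Co0, Nat.card A = 3 ∧ ∃ (hn : ((A ⊔ Subgroup.center ↥Cfsg.Co0).subgroupOf (Subgroup.centralizer (A : Set ↥Cfsg.Co0))).Normal), ∃ (S : Type) (_ : Group S) (_ : Finite S), Nonempty (S ≃* ↥(Subgroup.centralizer (A : Set ↥Cfsg.Co0)) ⧸ (A ⊔ Subgroup.center ↥Cfsg.Co0).subgroupOf (Subgroup.centralizer (A : Set ↥Cfsg.Co0))) ∧ IsSimpleGroup S ∧ ¬ IsMulCommutative S ∧ ∃ z : S, orderOf z = 2 ∧ ∃ (Q : Subgroup (Subgroup.centralizer ({z} : Set S))) (_ : Q.Normal), Cfsg.generalizedFittingSubgroup (Subgroup.centralizer ({z} : Set S)) = Q ∧ Cfsg.IsExtraspecial 2 Q ∧ Nat.card Q = 2 ^ 7 ∧ Nonempty ((Subgroup.centralizer ({z} : Set S)) ⧸ Q ≃* Cfsg.Omega (ZMod 2) (Cfsg.quadFormMinus 2 (ZMod 2) 1 1)) ∧ ∃ g : S, (∃ hq : g * z * g⁻¹ ∈ Subgroup.centralizer ({z} : Set S), (⟨g * z * g⁻¹, hq⟩ : Subgroup.centralizer ({z} : Set S)) ∈ Q) ∧ g * z * g⁻¹ ≠ z := by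
  classical
  obtain ⟨z, hz, Q, hn, hF, hQ, hcard, ⟨e⟩, hnwc⟩ := Cfsg.Agent.S5388.result
  obtain ⟨x, hx, hS⟩ := CfsgLib.InvChar.SuzCo.exists_suz_element z hz Q hF hQ hcard e hnwc
  let pr := QuotientGroup.mk' (Subgroup.center ↥Cfsg.Co0)
  -- the centre has exponent two
  have hk2 : ∀ k ∈ Subgroup.center ↥Cfsg.Co0, k * k = 1 := fun k hk => by
    have h := pow_card_eq_one' (x := (⟨k, hk⟩ : Subgroup.center ↥Cfsg.Co0))
    rw [CfsgLib.Golay.card_center_Co0, pow_two] at h
    exact congrArg Subtype.val h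
  obtain ⟨a₀, ha₀⟩ : ∃ a₀, pr a₀ = x := QuotientGroup.mk'_surjective _ x
  have hx3 : x ^ 3 = 1 := by rw [← hx, pow_orderOf_eq_one]
  have ha₀3 : a₀ ^ 3 ∈ Subgroup.center ↥Cfsg.Co0 := by
    rw [← QuotientGroup.eq_one_iff]
    show pr (a₀ ^ 3) = 1
    rw [map_pow, ha₀, hx3]
  obtain ⟨a, hpa, ha3⟩ : ∃ a, pr a = x ∧ a ^ 3 = 1 := by
    refine ⟨a₀ ^ 4, by rw [map_pow, ha₀, pow_succ, hx3, one_mul], ?_⟩
    rw [← pow_mul, show 4 * 3 = 3 * 4 from rfl, pow_mul, show (4 : ℕ) = 2 * 2 from rfl, pow_mul, pow_two,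
      pow_two, hk2 _ ha₀3, one_mul]
  have hoa : orderOf a = 3 := by
    haveI : Fact (Nat.Prime 3) := ⟨Nat.prime_three⟩
    refine orderOf_eq_prime ha3 fun h => ?_
    rw [h, map_one] at hpa
    rw [← hpa, orderOf_one] at hx
    omega
  set A := Subgroup.zpowers a with hA
  set C := Subgroup.centralizer (A : Set ↥Cfsg.Co0) with hC
  have hCa : ∀ g, g ∈ C ↔ g * a = a * g := fun g => by
    rw [hC, hA, Subgroup.zpowers_eq_closure, Subgroup.centralizer_closure,
      Subgroup.mem_centralizer_singleton_iff]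
  set D := Subgroup.centralizer ({x} : Set Cfsg.Spor.Co1) with hD
  haveI hN : ((Subgroup.zpowers x).subgroupOf D).Normal := ⟨fun n hn c => by
    obtain ⟨i, hi⟩ := Subgroup.mem_zpowers_iff.1 (show (n : Cfsg.Spor.Co1) ∈ Subgroup.zpowers x from hn)
    have h : (c : Cfsg.Spor.Co1) * n = n * c := by
      rw [← hi]
      exact ((show Commute (c : Cfsg.Spor.Co1) x from Subgroup.mem_centralizer_singleton_iff.1 c.2).zpow_right i).eq
    rw [show c * n * c⁻¹ = n from Subtype.ext (by
      rw [Subgroup.coe_mul, Subgroup.coe_mul, InvMemClass.coe_inv, h, mul_inv_cancel_right])]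
    exact hn⟩
  let f : ↥C →* ↥D ⧸ (Subgroup.zpowers x).subgroupOf D :=
    (QuotientGroup.mk' _).comp ((pr.comp C.subtype).codRestrict D fun c =>
      Subgroup.mem_centralizer_singleton_iff.2 (by
        show pr (c : ↥Cfsg.Co0) * x = x * pr (c : ↥Cfsg.Co0)
        rw [← hpa, ← map_mul, ← map_mul, (hCa _).1 c.2]))
  have hsurj : Function.Surjective f := by
    intro y
    obtain ⟨⟨d, hd⟩, rfl⟩ := QuotientGroup.mk'_surjective _ y
    obtain ⟨g, rfl⟩ : ∃ g, pr g = d := QuotientGroup.mk'_surjective _ d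
    have hk : a⁻¹ * (g * a * g⁻¹) ∈ Subgroup.center ↥Cfsg.Co0 := by
      rw [← QuotientGroup.eq_one_iff]
      show pr (a⁻¹ * (g * a * g⁻¹)) = 1
      rw [map_mul, map_mul, map_mul, map_inv, map_inv, hpa,
        Subgroup.mem_centralizer_singleton_iff.1 hd, mul_inv_cancel_right, inv_mul_cancel]
    set k := a⁻¹ * (g * a * g⁻¹) with hkdef
    have e1 : g * a * g⁻¹ = a * k := by rw [hkdef, mul_inv_cancel_left]
    have e3 : (g * a * g⁻¹) ^ 3 = 1 := by
      rw [conj_pow, ha3, mul_one, mul_inv_cancel]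
    rw [e1, (show Commute a k from Subgroup.mem_center_iff.1 hk a).mul_pow, ha3, one_mul, pow_succ,
      pow_two, hk2 k hk, one_mul] at e3
    rw [e3, mul_one, mul_inv_eq_iff_eq_mul] at e1
    exact ⟨⟨g, (hCa g).2 e1⟩, rfl⟩
  have hf : ∀ c : ↥C, f c = 1 ↔ pr (c : ↥Cfsg.Co0) ∈ Subgroup.zpowers x := fun c =>
    QuotientGroup.eq_one_iff _
  have hker : f.ker = (A ⊔ Subgroup.center ↥Cfsg.Co0).subgroupOf C := by
    ext c
    rw [MonoidHom.mem_ker, hf, Subgroup.mem_subgroupOf]
    constructor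
    · intro h
      obtain ⟨i, hi⟩ := Subgroup.mem_zpowers_iff.1 h
      have hc : (a ^ i)⁻¹ * (c : ↥Cfsg.Co0) ∈ Subgroup.center ↥Cfsg.Co0 := by
        rw [← QuotientGroup.eq_one_iff]
        show pr ((a ^ i)⁻¹ * (c : ↥Cfsg.Co0)) = 1
        rw [map_mul, map_inv, map_zpow, hpa, hi, inv_mul_cancel]
      rw [show (c : ↥Cfsg.Co0) = a ^ i * ((a ^ i)⁻¹ * c) by rw [mul_inv_cancel_left]]
      exact Subgroup.mul_mem_sup (Subgroup.zpow_mem _ (Subgroup.mem_zpowers a) i) hc
    · intro h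
      refine (sup_le ?_ ?_ : A ⊔ Subgroup.center ↥Cfsg.Co0 ≤ (Subgroup.zpowers x).comap pr) h
      · rw [hA, Subgroup.zpowers_le, Subgroup.mem_comap, hpa]; exact Subgroup.mem_zpowers x
      · intro k hk
        rw [Subgroup.mem_comap, show pr k = 1 from (QuotientGroup.eq_one_iff k).2 hk]
        exact one_mem _
  have hn' : ((A ⊔ Subgroup.center ↥Cfsg.Co0).subgroupOf C).Normal := hker ▸ f.normal_ker
  have hsuz := @hS hN
  refine ⟨A, by rw [hA, Nat.card_zpowers, hoa], hn', ↥D ⧸ (Subgroup.zpowers x).subgroupOf D,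
    inferInstance, inferInstance, ⟨?_⟩, hsuz.simple.1, hsuz.simple.2, hsuz⟩
  exact (QuotientGroup.quotientKerEquivOfSurjective f hsurj).symm.trans
    (QuotientGroup.quotientMulEquivOfEq hker)

end Cfsg.Agent.S5389
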