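import Cfsg.Statements.S5392
import Cfsg.Agent.Lib.Trans3.LeechModule
import Cfsg.Agent.Lib.Golay.Co0Simple

set_option autoImplicit false
open Cfsg

namespace Cfsg.Agent.S5392

/-- The Leech lattice modulo twice itself is a faithful irreducible module for the first Conway group: an automorphism of the rank-24 lattice built from the length-24 code that moves every lattice vector only by twice a lattice vector lies in the centre of the automorphism group (the centre consists of ±1, which act trivially there, so the kernel is exactly the centre), and an additive subgroup lying between twice the lattice and the lattice that is invariant under all lattice automorphisms is one of the two. -/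
theorem result : (∀ g : ↥Cfsg.Co0, (∀ v : ↥Cfsg.leechLattice, ∃ w : ↥Cfsg.leechLattice, ((g • v : ↥Cfsg.leechLattice) : Cfsg.GolayPt → ℤ) - (v : Cfsg.GolayPt → ℤ) = 2 • (w : Cfsg.GolayPt → ℤ)) → g ∈ Subgroup.center ↥Cfsg.Co0) ∧ ∀ M : AddSubgroup (Cfsg.GolayPt → ℤ), (∀ v ∈ Cfsg.leechLattice, (2 : ℤ) • v ∈ M) → M ≤ Cfsg.leechLattice → (∀ g : ↥Cfsg.Co0, ∀ v : ↥Cfsg.leechLattice, (v : Cfsg.GolayPt → ℤ) ∈ M → ((g • v : ↥Cfsg.leechLattice) : Cfsg.GolayPt → ℤ) ∈ M) → (∀ x ∈ M, ∃ w ∈ Cfsg.leechLattice, x = (2 : ℤ) • w) ∨ M = Cfsg.leechLattice := by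
  open CfsgLib.Trans3 CfsgLib.Golay in
  exact by
    refine ⟨fun g hg => ?_, fun M h2 hle hinv => ?_⟩
    · have : ∀ x, leechR.q x = 8 → g ∈ classStab x := fun x _ => by
        obtain ⟨w, hw⟩ := hg x
        exact mem_classStab.2 (exists_two_smul_iff.2 ⟨w, w.2, hw⟩)
      rcases scalar_of_all_fixed this with rfl | rfl
      · exact Subgroup.one_mem _
      · exact negCo0_central
    · by_cases hx : ∀ x ∈ M, ∃ w ∈ Cfsg.leechLattice, x = (2 : ℤ) • w
      · exact Or.inl hx
      right
      simp only [not_forall] at hx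
      obtain ⟨x, hxM, hx2⟩ := hx
      obtain ⟨r, hr, hr8⟩ := leech_short_rep ⟨x, hle hxM⟩
      obtain ⟨z, hz, e⟩ := exists_two_smul_iff.1 hr
      simp only at e
      have hrM : (r : Cfsg.GolayPt → ℤ) ∈ M := by
        have : (r : Cfsg.GolayPt → ℤ) = x + (2 : ℤ) • z := by
          rw [two_smul, ← two_nsmul, ← e]; abel
        rw [this]
        exact M.add_mem hxM (h2 z hz)
      have hr0 : r ≠ 0 := fun h => hx2 ⟨-z, Cfsg.leechLattice.neg_mem hz, by
        subst h
        rw [smul_neg, two_smul, ← two_nsmul, ← e]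
        simp⟩
      have key : ∀ v : Cfsg.leechLattice, leechR.q v = leechR.q r → (v : Cfsg.GolayPt → ℤ) ∈ M :=
        fun v hv => by
          obtain ⟨g, rfl⟩ := co0_shell_trans hr0 hr8 hv
          exact hinv g r hrM
      refine le_antisymm hle (minSpan_eq ▸ (AddSubgroup.closure_le M).2 fun y hy => ?_)
      obtain ⟨k, hk⟩ := leechR.even r
      have h4 := leechR.q_ge_four hr0
      have hq : leechR.q r = 4 ∨ leechR.q r = 6 ∨ leechR.q r = 8 := by
        have : leechR.q r = 2 * k := hk
        omega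
      obtain ⟨a, b, ha, hb⟩ := shell_diff hq
      have hy4 : leechR.q (⟨y, hy.1⟩ : Cfsg.leechLattice) = 4 :=
        (leech_q_iff _ 4).2 (by simpa using hy.2)
      rcases hb with h | ⟨hb, hab⟩
      · exact key ⟨y, hy.1⟩ (hy4.trans h.symm)
      · obtain ⟨g, hg⟩ := co0_trans32 (v := a - b) (w := ⟨y, hy.1⟩) ((leech_q_iff _ 4).1 hab) hy.2
        rw [show y = ((g • (a - b) : Cfsg.leechLattice) : Cfsg.GolayPt → ℤ) by rw [hg], co0_sub,
          AddSubgroup.coe_sub]
        exact M.sub_mem (hinv g a (key a ha)) (hinv g b (key b hb))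

end Cfsg.Agent.S5392
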