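import Cfsg.Statements.S5394
import Cfsg.Agent.Lib.Mathieu.Action

set_option autoImplicit false
open Cfsg

namespace Cfsg.Agent.S5394

/-- The automorphism group of the length-24 code built from the squares modulo 23 has exactly two conjugacy classes of involutions: an involution either fixes exactly the eight points of an octad or has no fixed points, both kinds occur, and any two involutions of the same kind are conjugate in the group. -/
theorem result : (∀ g ∈ Cfsg.M24, orderOf g = 2 → (Finset.univ.filter fun p => g p = p) ∈ Cfsg.octads ∨ ∀ p, g p ≠ p) ∧ (∃ g ∈ Cfsg.M24, orderOf g = 2 ∧ (Finset.univ.filter fun p => g p = p) ∈ Cfsg.octads) ∧ (∃ g ∈ Cfsg.M24, orderOf g = 2 ∧ ∀ p, g p ≠ p) ∧ ∀ g ∈ Cfsg.M24, ∀ h ∈ Cfsg.M24, orderOf g = 2 → orderOf h = 2 → ((∀ p, g p ≠ p) ↔ (∀ p, h p ≠ p)) → ∃ k ∈ Cfsg.M24, k * g * k⁻¹ = h := by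
  open CfsgLib.Mathieu in
  refine ⟨fun g hg h2 => ?_, ?_, ?_, fun g hg h hh h2 h2' hiff => ?_⟩
  · rcases invol_cases hg h2 with ⟨c, hc, rfl, -⟩ | ⟨c, hc, -, hf⟩
    · left
      show fixS _ ∈ _
      rw [fixS_conj]
      exact CfsgLib.Golay.M24_smul_octad hc fixS_tOct_octad
    · exact Or.inr (fixS_eq_empty_iff.1 hf)
  · exact ⟨_, tOct_mem, orderOf_eq_prime (CfsgLib.Golay.powOneIn_sound (X := [])
      (by decide +kernel : CfsgLib.Golay.powOneIn [] 2 tOct = true)).2
      (fun e => by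
        have h8 := fixS_tOct_card
        rw [e] at h8; simp [fixS] at h8), fixS_tOct_octad⟩
  · exact ⟨_, tFree_mem, orderOf_eq_prime (CfsgLib.Golay.powOneIn_sound (X := [])
      (by decide +kernel : CfsgLib.Golay.powOneIn [] 2 tFree = true)).2
      (fun e => (fixS_eq_empty_iff.1 fixS_tFree none) (by rw [e]; rfl)),
      fixS_eq_empty_iff.1 fixS_tFree⟩
  · have key : ∀ {a b r c d : Equiv.Perm GolayPt}, c ∈ M24 → d ∈ M24 →
        a = c * r * c⁻¹ → b = d * r * d⁻¹ → ∃ k ∈ M24, k * a * k⁻¹ = b := by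
      intro a b r c d hc hd ha hb
      refine ⟨d * c⁻¹, Subgroup.mul_mem _ hd (Subgroup.inv_mem _ hc), ?_⟩
      rw [ha, hb]; group
    rcases invol_cases hg h2 with ⟨c, hc, e, hf⟩ | ⟨c, hc, e, hf⟩ <;>
      rcases invol_cases hh h2' with ⟨d, hd, e', hf'⟩ | ⟨d, hd, e', hf'⟩
    · exact key hc hd e e'
    · exfalso
      rw [fixS_eq_empty_iff.2 (hiff.2 (fixS_eq_empty_iff.1 hf')), Finset.card_empty] at hf
      omega
    · exfalso
      rw [fixS_eq_empty_iff.2 (hiff.1 (fixS_eq_empty_iff.1 hf)), Finset.card_empty] at hf'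
      omega
    · exact key hc hd e e'

end Cfsg.Agent.S5394
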