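import Cfsg.Statements.S5401
import Cfsg.Agent.Lib.InvChar.TypeFi24

set_option autoImplicit false
open Cfsg

namespace Cfsg.Agent.S5401

/-- Existence of the Fischer 3-transposition groups: there exist finite groups generated by a conjugacy class of 3-transpositions on which they act primitively that are of type M(22), of type M(23), and of type M(24) respectively. -/
theorem result : (∃ (X : Type) (_ : Group X) (_ : Finite X) (E : Set X), Cfsg.IsThreeTranspositionClass E ∧ Cfsg.IsPrimitiveUnderConj E ∧ Cfsg.IsOfTypeM22 X E) ∧ (∃ (X : Type) (_ : Group X) (_ : Finite X) (E : Set X), Cfsg.IsThreeTranspositionClass E ∧ Cfsg.IsPrimitiveUnderConj E ∧ Cfsg.IsOfTypeM23 X E) ∧ (∃ (X : Type) (_ : Group X) (_ : Finite X) (E : Set X), Cfsg.IsThreeTranspositionClass E ∧ Cfsg.IsPrimitiveUnderConj E ∧ Cfsg.IsOfTypeM24 X E) := by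
  refine ⟨?_, ?_, ?_⟩
  · exact ⟨Cfsg.Spor.Fi22, inferInstance, CfsgLib.InvChar.SporFi22.card_le.1, _,
      CfsgLib.InvChar.SporFi22.isThreeTranspositionClass, CfsgLib.InvChar.TypeFi22.isPrimitive,
      CfsgLib.InvChar.TypeFi22.typeM22⟩
  · exact ⟨Cfsg.Spor.Fi23, inferInstance, CfsgLib.InvChar.SporFi23.finite, _,
      CfsgLib.InvChar.SporFi23.isThreeTranspositionClass, CfsgLib.InvChar.TypeFi23.isPrimitive,
      CfsgLib.InvChar.TypeFi23.typeM23⟩
  · exact ⟨Cfsg.Spor.Fi24, inferInstance, CfsgLib.InvChar.SporFi24.finite, _,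
      CfsgLib.InvChar.SporFi24.isThreeTranspositionClass, CfsgLib.InvChar.SporFi24.isPrimitive,
      CfsgLib.InvChar.TypeFi24.typeM24⟩

end Cfsg.Agent.S5401
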