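import Cfsg.Statements.S5403
import Cfsg.Agent.Lib.KnownA.Co0J2.Bound
import Cfsg.Agent.Lib.KnownA.Co0J2.Hyp

set_option autoImplicit false
open Cfsg

namespace Cfsg.Agent.S5403

/-- A simple section of the automorphism group of the Leech lattice satisfying the Hall–Janko-type hypothesis (the group so obtained is the Hall–Janko group; that identification is not part of this statement): there is a subgroup A of order 5 of that automorphism group such that the centralizer of A modulo the subgroup generated by A and the centre of the automorphism group is a non-abelian simple group satisfying the large extraspecial hypothesis of minus type in dimension 4 — an involution whose centralizer has extraspecial generalized Fitting subgroup of order 32 with quotient the commutator subgroup of the isometry group of the elliptic quadratic form in dimension 4 over the field with two elements (the alternating group of degree 5), the involution not weakly closed in that extraspecial group. -/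
theorem result : ∃ A : Subgroup ↥Cfsg.Co0, Nat.card A = 5 ∧ ∃ (hn : ((A ⊔ Subgroup.center ↥Cfsg.Co0).subgroupOf (Subgroup.centralizer (A : Set ↥Cfsg.Co0))).Normal), ∃ (S : Type) (_ : Group S) (_ : Finite S), Nonempty (S ≃* ↥(Subgroup.centralizer (A : Set ↥Cfsg.Co0)) ⧸ (A ⊔ Subgroup.center ↥Cfsg.Co0).subgroupOf (Subgroup.centralizer (A : Set ↥Cfsg.Co0))) ∧ IsSimpleGroup S ∧ ¬ IsMulCommutative S ∧ ∃ z : S, orderOf z = 2 ∧ ∃ (Q : Subgroup (Subgroup.centralizer ({z} : Set S))) (_ : Q.Normal), Cfsg.generalizedFittingSubgroup (Subgroup.centralizer ({z} : Set S)) = Q ∧ Cfsg.IsExtraspecial 2 Q ∧ Nat.card Q = 2 ^ 5 ∧ Nonempty ((Subgroup.centralizer ({z} : Set S)) ⧸ Q ≃* Cfsg.Omega (ZMod 2) (Cfsg.quadFormMinus 1 (ZMod 2) 1 1)) ∧ ∃ g : S, (∃ hq : g * z * g⁻¹ ∈ Subgroup.centralizer ({z} : Set S), (⟨g * z * g⁻¹, hq⟩ : Subgroup.centralizer ({z} : Set S)) ∈ Q) ∧ g * z * g⁻¹ ≠ z := by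
  classical
  open KnownA.Co0J2 CfsgLib.Golay in
  obtain ⟨hsimp, hnc, hyp⟩ := KnownA.Co0J2.hyp_J2
  open KnownA.Co0J2 CfsgLib.Golay in
  refine ⟨Subgroup.zpowers aElt, by rw [Nat.card_zpowers, orderOf_aElt], ?_⟩
  set A := Subgroup.zpowers KnownA.Co0J2.aElt with hA
  have hCA : Subgroup.centralizer (A : Set ↥Cfsg.Co0) = KnownA.Co0J2.CA := by
    refine le_antisymm (Subgroup.centralizer_le (by simp [hA, Subgroup.mem_zpowers])) fun g hg => ?_
    rw [Subgroup.mem_centralizer_iff]
    intro a ha
    obtain ⟨n, rfl⟩ := Subgroup.mem_zpowers_iff.1 ha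
    exact (Commute.zpow_left (Subgroup.mem_centralizer_singleton_iff.1 hg).symm n)
  set C := Subgroup.centralizer (A : Set ↥Cfsg.Co0) with hC
  set W := A ⊔ Subgroup.center ↥Cfsg.Co0 with hWdef
  have hWC : W ≤ C := by
    refine sup_le (fun a ha => Subgroup.mem_centralizer_iff.2 fun b hb => ?_)
      (Subgroup.center_le_centralizer _)
    exact congrArg Subtype.val (mul_comm' (⟨b, hb⟩ : A) ⟨a, ha⟩)
  have hcen : W ≤ Subgroup.centralizer (C : Set ↥Cfsg.Co0) :=
    sup_le (Subgroup.le_centralizer_iff.1 le_rfl) (Subgroup.center_le_centralizer _)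
  have hn : (W.subgroupOf C).Normal := ⟨fun a ha g => by
    have e : g * a = a * g := Subtype.ext (Subgroup.mem_centralizer_iff.1 (hcen ha) g g.2)
    rw [e, mul_inv_cancel_right]
    exact ha⟩
  have hmem : ∀ f, KnownA.Co0J2.theta f ∈ C := fun f => by
    rw [hCA]
    exact Subgroup.mem_centralizer_singleton_iff.2 (KnownA.Co0J2.theta_comm f)
  let t : ↥Cfsg.Spor.twoJ2 →* ↥C ⧸ W.subgroupOf C :=
    (QuotientGroup.mk' (W.subgroupOf C)).comp (KnownA.Co0J2.theta.codRestrict C hmem)
  have hker : t.ker = Subgroup.center ↥Cfsg.Spor.twoJ2 := by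
    ext f
    have e : f ∈ t.ker ↔ KnownA.Co0J2.theta f ∈ W := by
      rw [MonoidHom.mem_ker]
      exact QuotientGroup.eq_one_iff _
    rw [e]
    constructor
    · intro hf
      refine Subgroup.mem_center_iff.2 fun g => KnownA.Co0J2.theta_injective ?_
      rw [map_mul, map_mul]
      exact Subgroup.mem_centralizer_iff.1 (hcen hf) _ (hmem g)
    · intro hf
      obtain ⟨hc2, m, hm, hmv⟩ := CfsgLib.Janko2.card_center
      have hneg := KnownA.Co0J2.theta_neg hmv
      have hm1 : m ≠ 1 := fun h => CfsgLib.Golay.negCo0_ne_one (by rw [← hneg, h, map_one])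
      obtain ⟨y, -, hy⟩ := (Nat.card_eq_two_iff' (1 : Subgroup.center ↥Cfsg.Spor.twoJ2)).1 hc2
      refine le_sup_right (a := A) ?_
      by_cases h1 : f = 1
      · rw [h1, map_one]; exact one_mem _
      · have e1 := hy ⟨f, hf⟩ (fun h => h1 (congrArg Subtype.val h))
        have e2 := hy ⟨m, hm⟩ (fun h => hm1 (congrArg Subtype.val h))
        rw [show f = m from congrArg Subtype.val (e1.trans e2.symm), hneg]
        exact CfsgLib.Golay.negCo0_central
  let ι : Cfsg.Spor.J2 →* ↥C ⧸ W.subgroupOf C :=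
    QuotientGroup.lift (Subgroup.center ↥Cfsg.Spor.twoJ2) t hker.ge
  have hinj : Function.Injective ι := by
    rw [← MonoidHom.ker_eq_bot_iff, QuotientGroup.ker_lift, hker, QuotientGroup.map_mk'_self]
  have hW : 10 ∣ Nat.card W := by
    refine Nat.Coprime.mul_dvd_of_dvd_of_dvd (m := 5) (n := 2) (by norm_num) ?_ ?_
    · have h := Subgroup.card_dvd_of_le (le_sup_left : A ≤ W)
      rwa [Nat.card_zpowers, KnownA.Co0J2.orderOf_aElt] at h
    · have h := Subgroup.card_dvd_of_le (le_sup_right : Subgroup.center ↥Cfsg.Co0 ≤ W)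
      rwa [CfsgLib.Golay.card_center_Co0] at h
  have hle : Nat.card (↥C ⧸ W.subgroupOf C) ≤ Nat.card Cfsg.Spor.J2 := by
    have h := Subgroup.card_eq_card_quotient_mul_card_subgroup (W.subgroupOf C)
    rw [Nat.card_congr (Subgroup.subgroupOfEquivOfLe hWC).toEquiv] at h
    have hb : Nat.card C ≤ 6048000 := hCA ▸ KnownA.Co0J2.card_CA
    have h10 : 10 ≤ Nat.card W := Nat.le_of_dvd Nat.card_pos hW
    have h2 := Nat.mul_le_mul_left (Nat.card (↥C ⧸ W.subgroupOf C)) h10
    rw [CfsgLib.Janko2.card_J2]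
    omega
  haveI : Finite Cfsg.Spor.J2 := Nat.finite_of_card_ne_zero (by rw [CfsgLib.Janko2.card_J2]; norm_num)
  exact ⟨hn, Cfsg.Spor.J2, inferInstance, inferInstance,
    ⟨MulEquiv.ofBijective ι (hinj.bijective_of_nat_card_le hle)⟩, hsimp, hnc, hyp⟩

end Cfsg.Agent.S5403
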