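import Cfsg.Statements.S5411
import Cfsg.Agent.Lib.Trans3.MonsterInter

set_option autoImplicit false
open Cfsg

namespace Cfsg.Agent.S5411

/-- Let G be a finite group of Monster type at the involution z with Q the extraspecial normal subgroup of order 2^25 of C = C_G(z) (so C/Q is identified with the first Conway group with Q modulo its centre the Leech lattice modulo 2, and z is not weakly closed in Q). Then C acts transitively by conjugation on the involutions of Q that are not conjugate to z in G. -/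
theorem result {G : Type*} [Group G] [Finite G] (z : G) (Q : Subgroup (Subgroup.centralizer ({z} : Set G))) [Q.Normal] (hM : Cfsg.IsOfMonsterType z Q) (s t : G) (hsQ : ∃ hsc : s ∈ Subgroup.centralizer ({z} : Set G), (⟨s, hsc⟩ : Subgroup.centralizer ({z} : Set G)) ∈ Q) (htQ : ∃ htc : t ∈ Subgroup.centralizer ({z} : Set G), (⟨t, htc⟩ : Subgroup.centralizer ({z} : Set G)) ∈ Q) (hs2 : orderOf s = 2) (ht2 : orderOf t = 2) (hs : ¬ IsConj z s) (ht : ¬ IsConj z t) : ∃ h ∈ Subgroup.centralizer ({z} : Set G), h * s * h⁻¹ = t := by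
  obtain ⟨hS, e, ψ, hψ⟩ := hM
  obtain ⟨hsc, hsQ⟩ := hsQ
  obtain ⟨htc, htQ⟩ := htQ
  have key : ∀ (u : Q), orderOf (CfsgLib.Trans3.qv u) = 2 → ¬ IsConj z (CfsgLib.Trans3.qv u) →
      ∃ v : Cfsg.leechLattice, CfsgLib.Golay.leechR.q v = 4 ∧ ψ v = QuotientGroup.mk u := by
    intro u hu hnc
    have hu2 : u ^ 2 = 1 := CfsgLib.Trans3.qv_injective
      (show CfsgLib.Trans3.qv u ^ 2 = 1 from orderOf_dvd_iff_pow_eq_one.1 (by rw [hu]))
    have huz : CfsgLib.Trans3.qv u ≠ z := fun h => hnc (isConj_iff.2 ⟨1, by simp [h]⟩)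
    have huc : u ∉ Subgroup.center Q := fun h => by
      rcases (CfsgLib.Trans3.mon_center_iff hS u).1 h with h1 | h1
      · rw [h1, orderOf_one] at hu; omega
      · exact huz h1
    obtain ⟨v, hq | hq, hv⟩ := CfsgLib.Trans3.mon_invol_q hS hψ hu2 huc
    · exact ⟨v, hq, hv⟩
    · exact absurd ((CfsgLib.Trans3.mon_conj_iff hS hψ u).2 ⟨v, hq, hv⟩).1 hnc
  obtain ⟨v, hv4, hv⟩ := key ⟨⟨s, hsc⟩, hsQ⟩ hs2 hs
  obtain ⟨w, hw4, hw⟩ := key ⟨⟨t, htc⟩, htQ⟩ ht2 ht
  obtain ⟨h, hh⟩ := CfsgLib.Trans3.mon_conj hS hψ hv hw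
    (fun e0 => by rw [e0, CfsgLib.Golay.Rootless.q_zero] at hv4; omega) (by omega) (hw4.trans hv4.symm)
  exact ⟨h, h.2, hh⟩

end Cfsg.Agent.S5411
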