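import Cfsg.Statements.S5413
import Cfsg.Agent.Lib.Trans3.LocalFiveGroup
import Cfsg.Agent.Lib.Trans3.MonsterJoint

set_option autoImplicit false
set_option maxRecDepth 100000
open Cfsg

namespace Cfsg.Agent.S5413

/-- Let G be a finite group of Monster type at the involution z with Q the extraspecial normal subgroup of order 2^25 of C = C_G(z) (so C/Q is identified with the first Conway group with Q modulo its centre the Leech lattice modulo 2, and z is not weakly closed in Q). Let s be a conjugate of z in Q other than z and let B be a Sylow 5-subgroup of the joint centralizer of z and s. Then the centralizer of B modulo B is a group of Harada–Norton type (an involution whose centralizer D has generalized Fitting subgroup R extraspecial of order 2^9 with D/R the wreath product of the alternating group of degree 5 by a group of order 2, the involution not weakly closed in R). -/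
theorem result {G : Type*} [Group G] [Finite G] (z : G) (Q : Subgroup (Subgroup.centralizer ({z} : Set G))) [Q.Normal] (hM : Cfsg.IsOfMonsterType z Q) (s : G) (hsQ : ∃ hsc : s ∈ Subgroup.centralizer ({z} : Set G), (⟨s, hsc⟩ : Subgroup.centralizer ({z} : Set G)) ∈ Q) (hs : IsConj z s) (hs1 : s ≠ z) (B : Subgroup G) (hB : B ≤ Subgroup.centralizer ({z, s} : Set G)) (hBp : Nat.card B = 5 ^ (Nat.card ↥(Subgroup.centralizer ({z, s} : Set G))).factorization 5) [hn : (B.subgroupOf (Subgroup.centralizer (B : Set G))).Normal] : Cfsg.IsOfHaradaNortonType (↥(Subgroup.centralizer (B : Set G)) ⧸ B.subgroupOf (Subgroup.centralizer (B : Set G))) := by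
  classical
  haveI : Fact (Nat.Prime 5) := ⟨by norm_num⟩
  obtain ⟨hS, e, ψ, hψ⟩ := hM
  obtain ⟨hsc, hsQ'⟩ := hsQ
  set x : Q := ⟨⟨s, hsc⟩, hsQ'⟩
  obtain ⟨e', ψ', hψ', hxv⟩ := CfsgLib.Trans3.mon_frame hS hψ (x := x) hs hs1
  obtain ⟨f, hfs, ⟨n, hfk⟩, hf⟩ := CfsgLib.Trans3.mon_joint hS hψ' hxv
  have h24 : (Nat.card M24).factorization 5 = 1 := by
    rw [CfsgLib.Golay.card_M24, show 244823040 = 5 ^ 1 * 48964608 by norm_num,
      Nat.factorization_mul (by norm_num) (by norm_num), Finsupp.add_apply,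
      Nat.Prime.factorization_pow (by norm_num), Finsupp.single_eq_same,
      Nat.factorization_eq_zero_of_not_dvd (by omega)]
  have hL : (Nat.card ↥(Subgroup.centralizer ({z, s} : Set G))).factorization 5 = 1 := by
    have h1 := f.ker.card_mul_index
    rw [Subgroup.index_ker, MonoidHom.range_eq_top.2 hfs, Subgroup.card_top, hfk] at h1
    show (Nat.card ↥(Subgroup.centralizer ({z, CfsgLib.Trans3.qv x} : Set G))).factorization 5 = 1
    rw [← h1, Nat.factorization_mul (pow_ne_zero _ (by norm_num)) Nat.card_pos.ne', Finsupp.add_apply,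
      h24, Nat.factorization_eq_zero_of_not_dvd
        (fun hd => absurd (Nat.Prime.dvd_of_dvd_pow (by norm_num) hd) (by norm_num))]
  rw [hL, pow_one] at hBp
  set P := CfsgLib.Trans3.fiveData.perm CfsgLib.Trans3.five_lattice
  obtain ⟨nn, hnM, hn2⟩ := CfsgLib.Mathieu.elt24_five.fusion
  rw [CfsgLib.Golay.fixMasks_nil] at hnM
  have hsq : SemiconjBy (⟨nn, hnM⟩ : M24) P (P ^ 2) := Subtype.ext (by
    exact mul_inv_eq_iff_eq_mul.1 hn2)
  have hrat : ∀ k : ℕ, k % 5 ≠ 0 → ∃ σ : M24, σ * P * σ⁻¹ = P ^ k := by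
    intro k hk
    have hm : P ^ 5 = 1 := orderOf_dvd_iff_pow_eq_one.1 (dvd_of_eq (CfsgLib.Trans3.LocalData.orderOf_perm CfsgLib.Trans3.five_lattice))
    have red : ∀ i, P ^ i = P ^ (i % 5) := fun i => by
      conv_lhs => rw [← Nat.mod_add_div i 5, pow_add, pow_mul, hm, one_pow, mul_one]
    have h4 := (hsq.pow_right 2).mul_left hsq
    rw [← pow_mul] at h4
    have h8 := (hsq.pow_right 4).mul_left h4
    rw [← pow_mul] at h8
    have done : ∀ g i, SemiconjBy g P (P ^ i) → i % 5 = k % 5 → g * P * g⁻¹ = P ^ k :=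
      fun g i hg hi => by rw [hg.eq, mul_inv_cancel_right, red i, hi, ← red k]
    have hlt := Nat.mod_lt k (show 5 > 0 by norm_num)
    interval_cases hj : k % 5
    · exact absurd rfl hk
    · exact ⟨1, done 1 1 (by simp) (by norm_num)⟩
    · exact ⟨_, done _ 2 hsq (by norm_num)⟩
    · exact ⟨_, done _ 8 h8 (by norm_num)⟩
    · exact ⟨_, done _ 4 h4 (by norm_num)⟩
  have hclass : ∀ y : Subgroup.centralizer ({z, CfsgLib.Trans3.qv x} : Set G),
      orderOf y = CfsgLib.Trans3.fiveData.p → True → ∃ σ : M24, σ * f y * σ⁻¹ = P := by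
    intro y hy _
    have hy5 : orderOf y = 5 := hy
    have hfy : orderOf (f y) = 5 := orderOf_eq_prime (by rw [← map_pow, ← hy5, pow_orderOf_eq_one, map_one]) fun h1 => by
      have h2 : orderOf (⟨y, h1⟩ : f.ker) ∣ 2 ^ n := hfk ▸ orderOf_dvd_natCard _
      rw [← Subgroup.orderOf_coe, hy5] at h2
      exact absurd (Nat.Prime.dvd_of_dvd_pow (by norm_num) h2) (by norm_num)
    have hP5 : orderOf P = 5 := CfsgLib.Trans3.LocalData.orderOf_perm CfsgLib.Trans3.five_lattice
    let P₁ : Sylow 5 M24 := Sylow.ofCard (Subgroup.zpowers (f y)) (by rw [Nat.card_zpowers, hfy, h24, pow_one])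
    let P₂ : Sylow 5 M24 := Sylow.ofCard (Subgroup.zpowers P) (by rw [Nat.card_zpowers, hP5, h24, pow_one])
    obtain ⟨t, ht⟩ := MulAction.exists_smul_eq M24 P₁ P₂
    have hmem : t * f y * t⁻¹ ∈ Subgroup.zpowers P := by
      have h1 : MulAut.conj t (f y) ∈ ((t • P₁ : Sylow 5 M24) : Subgroup M24) :=
        Subgroup.mem_map_of_mem _ (Subgroup.mem_zpowers _)
      rw [ht] at h1
      exact h1
    obtain ⟨k, hk⟩ := (mem_powers_iff_mem_zpowers (x := P)).2 hmem
    have hk' : P ^ k = t * f y * t⁻¹ := hk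
    have hk5 : k % 5 ≠ 0 := fun h0 => by
      have h1 : P ^ k = 1 := orderOf_dvd_iff_pow_eq_one.1 (hP5 ▸ Nat.dvd_of_mod_eq_zero h0)
      rw [h1, eq_comm, conj_eq_one_iff] at hk'
      rw [hk', orderOf_one] at hfy
      omega
    obtain ⟨σ, hσ⟩ := hrat k hk5
    refine ⟨σ⁻¹ * t, ?_⟩
    rw [show σ⁻¹ * t * f y * (σ⁻¹ * t)⁻¹ = σ⁻¹ * (t * f y * t⁻¹) * σ by group, ← hk', ← hσ]
    group
  obtain ⟨φ, h1, h2, h3, h4⟩ := CfsgLib.Trans3.five_hom
  obtain ⟨zb, R, hR, hset, hiso⟩ := CfsgLib.Trans3.mon_local_of_class hS hψ' CfsgLib.Trans3.five_lattice φ h1 h2 h3 h4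
    CfsgLib.Trans3.wreath_no_two_normal hxv hfs hfk hf (fun _ => True) hclass (fun _ _ _ _ _ => trivial)
    B hB hBp (fun _ _ _ => trivial) (hn := hn)
  exact ⟨zb, R, hR, hset, hiso⟩

end Cfsg.Agent.S5413
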