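import Cfsg.Statements.S5414
import Cfsg.Agent.Lib.Trans3.LocalThreeGroup
import Cfsg.Agent.Lib.Trans3.MonsterJoint

set_option autoImplicit false
set_option maxRecDepth 100000
open Cfsg

namespace Cfsg.Agent.S5414

/-- Let G be a finite group of Monster type at the involution z with Q the extraspecial normal subgroup of order 2^25 of C = C_G(z) (so C/Q is identified with the first Conway group with Q modulo its centre the Leech lattice modulo 2, and z is not weakly closed in Q). Let s be a conjugate of z in Q other than z and let Y be a subgroup of order 3 of the joint centralizer L of z and s that is not 3-central in L (Y lies in the centre of no Sylow 3-subgroup of L). Then the centralizer of Y modulo Y is a group of Thompson type (an involution whose centralizer D has generalized Fitting subgroup R extraspecial of order 2^9 with D/R the alternating group of degree 9, the involution not weakly closed in R). -/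
theorem result {G : Type*} [Group G] [Finite G] (z : G) (Q : Subgroup (Subgroup.centralizer ({z} : Set G))) [Q.Normal] (hM : Cfsg.IsOfMonsterType z Q) (s : G) (hsQ : ∃ hsc : s ∈ Subgroup.centralizer ({z} : Set G), (⟨s, hsc⟩ : Subgroup.centralizer ({z} : Set G)) ∈ Q) (hs : IsConj z s) (hs1 : s ≠ z) (Y : Subgroup G) (hY : Y ≤ Subgroup.centralizer ({z, s} : Set G)) (hY3 : Nat.card Y = 3) (hnc : ∀ P : Sylow 3 ↥(Subgroup.centralizer ({z, s} : Set G)), ¬ Y.subgroupOf (Subgroup.centralizer ({z, s} : Set G)) ≤ (Subgroup.center ↥(P : Subgroup ↥(Subgroup.centralizer ({z, s} : Set G)))).map (P : Subgroup ↥(Subgroup.centralizer ({z, s} : Set G))).subtype) [hn : (Y.subgroupOf (Subgroup.centralizer (Y : Set G))).Normal] : Cfsg.IsOfThompsonType (↥(Subgroup.centralizer (Y : Set G)) ⧸ Y.subgroupOf (Subgroup.centralizer (Y : Set G))) := by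
  classical
  haveI : Fact (Nat.Prime 3) := ⟨by norm_num⟩
  obtain ⟨hS, e, ψ, hψ⟩ := hM
  obtain ⟨hsc, hsQ'⟩ := hsQ
  set x : Q := ⟨⟨s, hsc⟩, hsQ'⟩
  obtain ⟨e', ψ', hψ', hxv⟩ := CfsgLib.Trans3.mon_frame hS hψ (x := x) hs hs1
  set L := Subgroup.centralizer ({z, CfsgLib.Trans3.qv x} : Set G)
  obtain ⟨f, hfs, ⟨n, hfk⟩, hf⟩ := CfsgLib.Trans3.mon_joint hS hψ' hxv
  have h24 : (Nat.card M24).factorization 3 = 3 := by
    rw [CfsgLib.Golay.card_M24, show 244823040 = 3 ^ 3 * 9067520 by norm_num,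
      Nat.factorization_mul (by norm_num) (by norm_num), Finsupp.add_apply,
      Nat.Prime.factorization_pow (by norm_num), Finsupp.single_eq_same,
      Nat.factorization_eq_zero_of_not_dvd (by omega)]
  have hL : (Nat.card L).factorization 3 = 3 := by
    have h1 := f.ker.card_mul_index
    rw [Subgroup.index_ker, MonoidHom.range_eq_top.2 hfs, Subgroup.card_top, hfk] at h1
    rw [← h1, Nat.factorization_mul (pow_ne_zero _ (by norm_num)) Nat.card_pos.ne', Finsupp.add_apply,
      h24, Nat.factorization_eq_zero_of_not_dvd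
        (fun hd => absurd (Nat.Prime.dvd_of_dvd_pow (by norm_num) hd) (by norm_num))]
  let Pr : G → Prop := fun y => ∀ P : Subgroup G, P ≤ L → Nat.card P = 27 → y ∈ P → ∃ a ∈ P, a * y ≠ y * a
  set σ₀ := CfsgLib.Trans3.threeData.perm CfsgLib.Trans3.three_lattice
  have hnv : CfsgLib.Golay.inM24 47604375937822422419552315562592992 = true := by decide +kernel
  set nn : M24 := ⟨_, CfsgLib.Golay.inM24_mem hnv⟩
  have hinvn : nn * σ₀ * nn⁻¹ = σ₀ * σ₀ := by
    rw [mul_inv_eq_iff_eq_mul]
    refine Subtype.ext (Equiv.ext fun q => ?_)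
    have hv := CfsgLib.Golay.inM24_valid hnv
    have hs' := CfsgLib.Trans3.LocalData.sigma_valid CfsgLib.Trans3.three_lattice
    have key : ∀ i < 24, CfsgLib.Golay.img 47604375937822422419552315562592992
          (CfsgLib.Golay.img CfsgLib.Trans3.threeData.sigma i) =
        CfsgLib.Golay.img CfsgLib.Trans3.threeData.sigma (CfsgLib.Golay.img CfsgLib.Trans3.threeData.sigma
          (CfsgLib.Golay.img 47604375937822422419552315562592992 i)) := by decide +kernel
    show CfsgLib.Golay.permOf 47604375937822422419552315562592992 (CfsgLib.Golay.permOf CfsgLib.Trans3.threeData.sigma q) =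
      CfsgLib.Golay.permOf CfsgLib.Trans3.threeData.sigma (CfsgLib.Golay.permOf CfsgLib.Trans3.threeData.sigma
        (CfsgLib.Golay.permOf 47604375937822422419552315562592992 q))
    have b1 := CfsgLib.Golay.valid_lt hs' (CfsgLib.Golay.idx_lt q)
    have b2 := CfsgLib.Golay.valid_lt hv (CfsgLib.Golay.idx_lt q)
    have b3 := CfsgLib.Golay.valid_lt hs' b2
    rw [CfsgLib.Golay.permOf_apply hs' q, CfsgLib.Golay.permOf_pt hv b1, CfsgLib.Golay.permOf_apply hv q,
      CfsgLib.Golay.permOf_pt hs' b2, CfsgLib.Golay.permOf_pt hs' b3, key _ (CfsgLib.Golay.idx_lt q)]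
  have hclass : ∀ y : L, orderOf y = CfsgLib.Trans3.threeData.p → Pr (y : G) →
      ∃ σ : M24, σ * f y * σ⁻¹ = σ₀ := by
    intro y hy hPr
    have hy3 : orderOf y = 3 := hy
    have hfy : orderOf (f y) = 3 := orderOf_eq_prime (by rw [← map_pow, ← hy3, pow_orderOf_eq_one, map_one]) fun h1 => by
      have h2 : orderOf (⟨y, h1⟩ : f.ker) ∣ 2 ^ n := hfk ▸ orderOf_dvd_natCard _
      rw [← Subgroup.orderOf_coe, hy3] at h2
      exact absurd (Nat.Prime.dvd_of_dvd_pow (by norm_num) h2) (by norm_num)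
    rcases CfsgLib.Mathieu.order3_cases (f y).2 (by rw [Subgroup.orderOf_coe]; exact hfy) with
      ⟨c, hc, hr, -⟩ | ⟨c, hc, hr, -⟩
    · exfalso
      -- the element is central in a Sylow subgroup
      let K : Subgroup M24 :=
        ((CfsgLib.Mathieu.commFix [] CfsgLib.Mathieu.sSixPows).subgroupOf M24).map
          (MulAut.conj (⟨c, hc⟩ : M24)).toMonoidHom
      have hKcard : Nat.card K = 1080 := by
        rw [← CfsgLib.Mathieu.card_comm_sSix]
        refine (Nat.card_congr (Subgroup.equivMapOfInjective _ _ (MulEquiv.injective _)).toEquiv).symm.trans ?_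
        exact Nat.card_congr (Subgroup.subgroupOfEquivOfLe fun σ hσ => by
          have := (CfsgLib.Mathieu.mem_commFix.1 hσ).1
          rwa [CfsgLib.Golay.fixMasks_nil] at this).toEquiv
      have hKcomm : ∀ k ∈ K, k * f y = f y * k := by
        rintro _ ⟨σ, hσ, rfl⟩
        obtain ⟨-, hσc⟩ := CfsgLib.Mathieu.mem_commFix.1 (Subgroup.mem_subgroupOf.1 hσ)
        refine Subtype.ext ?_
        show c * (σ : Equiv.Perm GolayPt) * c⁻¹ * ((f y : M24) : Equiv.Perm GolayPt) = _ * (c * σ * c⁻¹)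
        rcases hr with hr | hr <;> rw [hr]
        · rw [show c * (σ : Equiv.Perm GolayPt) * c⁻¹ * (c * CfsgLib.Golay.permOf CfsgLib.Mathieu.sSix * c⁻¹) =
            c * ((σ : Equiv.Perm GolayPt) * CfsgLib.Golay.permOf CfsgLib.Mathieu.sSix) * c⁻¹ by group,
            hσc _ (by rw [CfsgLib.Mathieu.sSixPows_eq]; simp)]
          group
        · rw [show c * (σ : Equiv.Perm GolayPt) * c⁻¹ * (c * CfsgLib.Golay.permOf CfsgLib.Mathieu.sSixSq * c⁻¹) =
            c * ((σ : Equiv.Perm GolayPt) * CfsgLib.Golay.permOf CfsgLib.Mathieu.sSixSq) * c⁻¹ by group,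
            hσc _ (by rw [CfsgLib.Mathieu.sSixPows_eq]; simp)]
          group
      have hfK : f y ∈ K := by
        have e0 : ((f y : M24) : Equiv.Perm GolayPt) = _ ∨ _ := hr
        have hmem : ∀ r ∈ CfsgLib.Mathieu.sSixPows, CfsgLib.Golay.permOf r ∈
            CfsgLib.Mathieu.commFix [] CfsgLib.Mathieu.sSixPows := by
          rw [CfsgLib.Mathieu.sSixPows_eq]
          intro r hr'
          refine CfsgLib.Mathieu.mem_commFix.2 ⟨?_, fun t ht => ?_⟩
          · rw [CfsgLib.Golay.fixMasks_nil]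
            simp only [List.mem_cons, List.not_mem_nil, or_false] at hr'
            rcases hr' with rfl | rfl
            · exact CfsgLib.Golay.inM24_mem (by decide +kernel)
            · exact CfsgLib.Golay.inM24_mem (by decide +kernel)
          · simp only [List.mem_cons, List.not_mem_nil, or_false] at ht hr'
            rcases hr' with rfl | rfl <;> rcases ht with rfl | rfl <;>
              simp only [CfsgLib.Mathieu.sSixSq_eq.2, mul_assoc]
        rcases hr with hr | hr
        · have hm := hmem _ (by rw [CfsgLib.Mathieu.sSixPows_eq]; simp : CfsgLib.Mathieu.sSix ∈ _)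
          refine ⟨⟨_, by have := (CfsgLib.Mathieu.mem_commFix.1 hm).1; rwa [CfsgLib.Golay.fixMasks_nil] at this⟩,
            Subgroup.mem_subgroupOf.2 hm, Subtype.ext hr.symm⟩
        · have hm := hmem _ (by rw [CfsgLib.Mathieu.sSixPows_eq]; simp : CfsgLib.Mathieu.sSixSq ∈ _)
          refine ⟨⟨_, by have := (CfsgLib.Mathieu.mem_commFix.1 hm).1; rwa [CfsgLib.Golay.fixMasks_nil] at this⟩,
            Subgroup.mem_subgroupOf.2 hm, Subtype.ext hr.symm⟩
      obtain ⟨P₀, hP₀⟩ := (IsPGroup.of_card (n := 1) (by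
        rw [Nat.card_zpowers, ← Subgroup.orderOf_coe]
        show orderOf (f y) = 3 ^ 1
        rw [hfy, pow_one]) : IsPGroup 3 (Subgroup.zpowers (⟨f y, hfK⟩ : K))).exists_le_sylow
      have hP₀c : Nat.card P₀ = 27 := by
        rw [P₀.card_eq_multiplicity, hKcard, show 1080 = 3 ^ 3 * 40 by norm_num,
          Nat.factorization_mul (by norm_num) (by norm_num), Finsupp.add_apply,
          Nat.Prime.factorization_pow (by norm_num), Finsupp.single_eq_same,
          Nat.factorization_eq_zero_of_not_dvd (by norm_num)]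
        norm_num
      let P24 : Subgroup M24 := (P₀ : Subgroup K).map K.subtype
      have hP24 : Nat.card P24 = 27 := by rw [Subgroup.card_subtype]; exact hP₀c
      set T := P24.comap f
      have hT : Nat.card T = 27 * 2 ^ n := by
        have h := (f.comp T.subtype).ker.card_mul_index
        rw [Subgroup.index_ker, MonoidHom.range_comp, Subgroup.range_subtype,
          Subgroup.map_comap_eq_self_of_surjective hfs] at h
        have hk' : Nat.card (f.comp T.subtype).ker = 2 ^ n := by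
          rw [← hfk]
          refine Nat.card_congr ⟨fun a => ⟨((a : T) : L), MonoidHom.mem_ker.1 a.2⟩,
            fun a => ⟨⟨(a : L), ?_⟩, a.2⟩, fun _ => rfl, fun _ => rfl⟩
          show f (a : L) ∈ P24
          rw [MonoidHom.mem_ker.1 a.2]; exact Subgroup.one_mem _
        rw [← h, hP24, hk', mul_comm]
      have hyT : y ∈ T := ⟨⟨f y, hfK⟩, hP₀ (Subgroup.mem_zpowers _), rfl⟩
      obtain ⟨P, hP⟩ := (IsPGroup.of_card (n := 1) (by
        rw [Nat.card_zpowers, ← Subgroup.orderOf_coe]
        show orderOf y = 3 ^ 1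
        rw [hy3, pow_one]) : IsPGroup 3 (Subgroup.zpowers (⟨y, hyT⟩ : T))).exists_le_sylow
      have hPc : Nat.card P = 27 := by
        rw [P.card_eq_multiplicity, hT, show 27 * 2 ^ n = 3 ^ 3 * 2 ^ n from rfl,
          Nat.factorization_mul (by norm_num) (pow_ne_zero _ (by norm_num)), Finsupp.add_apply,
          Nat.Prime.factorization_pow (by norm_num), Finsupp.single_eq_same,
          Nat.factorization_eq_zero_of_not_dvd
            (fun hd => absurd (Nat.Prime.dvd_of_dvd_pow (by norm_num) hd) (by norm_num))]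
        norm_num
      obtain ⟨a, ha, hne⟩ := hPr (((P : Subgroup T).map T.subtype).map L.subtype)
        (Subgroup.map_subtype_le _) (by rw [Subgroup.card_subtype, Subgroup.card_subtype]; exact hPc)
        ⟨y, ⟨⟨y, hyT⟩, hP (Subgroup.mem_zpowers _), rfl⟩, rfl⟩
      obtain ⟨_, ⟨a', ha', rfl⟩, rfl⟩ := ha
      apply hne
      obtain ⟨k₀, -, hk₀⟩ := a'.2
      have hk : f (a' : L) * f y = f y * f (a' : L) := by
        rw [← hk₀]; exact hKcomm _ k₀.2
      set w : T := a' * ⟨y, hyT⟩ * a'⁻¹ * ⟨y, hyT⟩⁻¹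
      have hwP : w ∈ (P : Subgroup T) :=
        Subgroup.mul_mem _ (Subgroup.mul_mem _ (Subgroup.mul_mem _ ha' (hP (Subgroup.mem_zpowers _)))
          (Subgroup.inv_mem _ ha')) (Subgroup.inv_mem _ (hP (Subgroup.mem_zpowers _)))
      have hwk : f (w : L) = 1 := by
        show f ((a' : L) * y * (a' : L)⁻¹ * y⁻¹) = 1
        rw [map_mul, map_mul, map_mul, map_inv, map_inv, hk, mul_inv_cancel_right, mul_inv_cancel]
      have hw1 : w = 1 := by
        have e1 : orderOf w ∣ 3 ^ 3 := by
          rw [show (3 : ℕ) ^ 3 = Nat.card (P : Subgroup T) by rw [hPc]; norm_num,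
            ← Subgroup.orderOf_mk w hwP]
          exact orderOf_dvd_natCard _
        have e2 : orderOf w ∣ 2 ^ n := by
          rw [← Subgroup.orderOf_coe, ← Subgroup.orderOf_mk (w : L) (show (w : L) ∈ f.ker from hwk), ← hfk]
          exact orderOf_dvd_natCard _
        exact orderOf_eq_one_iff.1 (Nat.dvd_one.1 ((Nat.Coprime.pow 3 n (by norm_num : Nat.Coprime 3 2)) ▸ Nat.dvd_gcd e1 e2))
      have hcm := congrArg (fun v : T => ((v : L) : G)) hw1
      simp only [w, Subgroup.coe_mul, Subgroup.coe_inv, Subgroup.coe_one] at hcm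
      exact mul_inv_eq_iff_eq_mul.1 (mul_inv_eq_one.1 hcm)
    · rcases hr with hr | hr
      · refine ⟨(⟨c, hc⟩ : M24)⁻¹, Subtype.ext ?_⟩
        show c⁻¹ * ((f y : M24) : Equiv.Perm GolayPt) * c⁻¹⁻¹ = _
        rw [hr]
        show c⁻¹ * (c * CfsgLib.Golay.permOf CfsgLib.Mathieu.sFree * c⁻¹) * c⁻¹⁻¹ = CfsgLib.Golay.permOf CfsgLib.Mathieu.sFree
        group
      · refine ⟨((⟨c, hc⟩ : M24) * nn)⁻¹, ?_⟩
        have e0 : f y = (⟨c, hc⟩ : M24) * (σ₀ * σ₀) * (⟨c, hc⟩ : M24)⁻¹ := Subtype.ext (by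
          rw [hr, CfsgLib.Mathieu.sFreeSq_eq.2]; rfl)
        rw [e0, ← hinvn]
        group
  have hinvP : ∀ u a : G, (∀ a ∈ L, u * a * u⁻¹ ∈ L) → a ∈ L → Pr a → Pr (u * a * u⁻¹) := by
    intro u a hu _ hPr P hPL hPc haP
    let g : L → L := fun w => ⟨u * w * u⁻¹, hu w w.2⟩
    have hg : Function.Surjective g := Finite.injective_iff_surjective.1 fun w v hwv =>
      Subtype.ext (mul_left_cancel (mul_right_cancel (congrArg Subtype.val hwv)))
    obtain ⟨b, hb, hne⟩ := hPr (P.map (MulAut.conj u⁻¹).toMonoidHom)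
      (fun w hw => by
        obtain ⟨v, hv, rfl⟩ := hw
        obtain ⟨w', hw'⟩ := hg ⟨v, hPL hv⟩
        have e1 : u * (w' : G) * u⁻¹ = v := congrArg Subtype.val hw'
        show u⁻¹ * v * u⁻¹⁻¹ ∈ L
        rw [← e1, show u⁻¹ * (u * (w' : G) * u⁻¹) * u⁻¹⁻¹ = (w' : G) by group]
        exact w'.2)
      (by rw [← hPc]; exact (Nat.card_congr (Subgroup.equivMapOfInjective P _ (MulEquiv.injective _)).toEquiv).symm)
      ⟨_, haP, by show u⁻¹ * (u * a * u⁻¹) * u⁻¹⁻¹ = a; group⟩
    obtain ⟨v, hv, rfl⟩ := hb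
    refine ⟨v, hv, fun h => hne ?_⟩
    show u⁻¹ * v * u⁻¹⁻¹ * a = a * (u⁻¹ * v * u⁻¹⁻¹)
    calc u⁻¹ * v * u⁻¹⁻¹ * a = u⁻¹ * (v * (u * a * u⁻¹)) * u := by group
      _ = a * (u⁻¹ * v * u⁻¹⁻¹) := by rw [h]; group
  have hPY : ∀ β ∈ Y, β ≠ 1 → Pr β := by
    intro β hβ hβ1 P hPL hPc hβP
    by_contra hall
    push Not at hall
    let P' : Sylow 3 L := Sylow.ofCard (P.subgroupOf L) (by
      rw [Nat.card_congr (Subgroup.subgroupOfEquivOfLe hPL).toEquiv, hPc, hL]; norm_num)
    refine hnc P' fun w hw => ?_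
    have hgen := (Subgroup.eq_top_iff' _).1 (zpowers_eq_top_of_prime_card (p := 3) hY3 (g := (⟨β, hβ⟩ : Y))
      fun h => hβ1 (congrArg Subtype.val h))
    obtain ⟨i, hi⟩ := Subgroup.mem_zpowers_iff.1 (hgen ⟨(w : G), hw⟩)
    have hi' : β ^ i = (w : G) := by simpa using congrArg Subtype.val hi
    have hwP : w ∈ (P' : Subgroup L) := by
      show (w : G) ∈ P
      rw [← hi']; exact Subgroup.zpow_mem _ hβP i
    refine ⟨⟨w, hwP⟩, Subgroup.mem_center_iff.2 fun v => Subtype.ext (Subtype.ext ?_), rfl⟩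
    show ((v : L) : G) * (w : G) = (w : G) * ((v : L) : G)
    rw [← hi']
    exact ((show Commute ((v : L) : G) β from hall _ v.2).zpow_right i).eq
  obtain ⟨φ, h1, h2, h3, h4⟩ := CfsgLib.Trans3.three_hom
  obtain ⟨zb, R, hR, hset, hiso⟩ := CfsgLib.Trans3.mon_local_of_class hS hψ' CfsgLib.Trans3.three_lattice φ h1 h2 h3 h4
    (CfsgLib.Trans3.alt_no_two_normal (by norm_num)) hxv hfs hfk hf Pr hclass hinvP
    Y hY hY3 hPY (hn := hn)
  exact ⟨zb, R, hR, hset, hiso⟩

end Cfsg.Agent.S5414
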