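import Cfsg.Statements.S5415
import Cfsg.Agent.Lib.Trans3.MonsterSix

set_option autoImplicit false
set_option maxRecDepth 100000
open Cfsg

namespace Cfsg.Agent.S5415

/-- Let G be a finite group of Monster type at the involution z with Q the extraspecial normal subgroup of order 2^25 of C = C_G(z) (so C/Q is identified with the first Conway group with Q modulo its centre the Leech lattice modulo 2, and z is not weakly closed in Q). Let s be a conjugate of z in Q other than z and let Y be a subgroup of order 3 of the joint centralizer L of z and s that is 3-central in L (Y lies in the centre of some Sylow 3-subgroup of L). Then the centralizer of Y modulo Y is a group of large Fischer type (an involution whose centralizer D has generalized Fitting subgroup R extraspecial of order 2^13 and normal subgroups R ≤ N ≤ M with N/R of order 3, M/N the projective special unitary group of dimension 4 over the field with nine elements and M of index 2 in D; the involution not weakly closed in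 R). -/
theorem result {G : Type*} [Group G] [Finite G] (z : G) (Q : Subgroup (Subgroup.centralizer ({z} : Set G))) [Q.Normal] (hM : Cfsg.IsOfMonsterType z Q) (s : G) (hsQ : ∃ hsc : s ∈ Subgroup.centralizer ({z} : Set G), (⟨s, hsc⟩ : Subgroup.centralizer ({z} : Set G)) ∈ Q) (hs : IsConj z s) (hs1 : s ≠ z) (Y : Subgroup G) (hY : Y ≤ Subgroup.centralizer ({z, s} : Set G)) (hY3 : Nat.card Y = 3) (hc : ∃ P : Sylow 3 ↥(Subgroup.centralizer ({z, s} : Set G)), Y.subgroupOf (Subgroup.centralizer ({z, s} : Set G)) ≤ (Subgroup.center ↥(P : Subgroup ↥(Subgroup.centralizer ({z, s} : Set G)))).map (P : Subgroup ↥(Subgroup.centralizer ({z, s} : Set G))).subtype) [hn : (Y.subgroupOf (Subgroup.centralizer (Y : Set G))).Normal] : Cfsg.IsOfLargeFischerType (↥(Subgroup.centralizer (Y : Set G)) ⧸ Y.subgroupOf (Subgroup.centralizer (Y : Set G))) := by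
  classical
  haveI : Fact (Nat.Prime 3) := ⟨by norm_num⟩
  obtain ⟨hS, e, ψ, hψ⟩ := hM
  obtain ⟨hsc, hsQ'⟩ := hsQ
  set x : Q := ⟨⟨s, hsc⟩, hsQ'⟩
  obtain ⟨e', ψ', hψ', hxv⟩ := CfsgLib.Trans3.mon_frame hS hψ (x := x) hs hs1
  set L := Subgroup.centralizer ({z, CfsgLib.Trans3.qv x} : Set G)
  obtain ⟨f, hfs, ⟨n, hfk⟩, hf⟩ := CfsgLib.Trans3.mon_joint hS hψ' hxv
  have h24 : (Nat.card M24).factorization 3 = 3 := by
    rw [CfsgLib.Golay.card_M24, show 244823040 = 3 ^ 3 * 9067520 by norm_num,
      Nat.factorization_mul (by norm_num) (by norm_num), Finsupp.add_apply,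
      Nat.Prime.factorization_pow (by norm_num), Finsupp.single_eq_same,
      Nat.factorization_eq_zero_of_not_dvd (by omega)]
  have hL : (Nat.card L).factorization 3 = 3 := by
    have h1 := f.ker.card_mul_index
    rw [Subgroup.index_ker, MonoidHom.range_eq_top.2 hfs, Subgroup.card_top, hfk] at h1
    rw [← h1, Nat.factorization_mul (pow_ne_zero _ (by norm_num)) Nat.card_pos.ne', Finsupp.add_apply,
      h24, Nat.factorization_eq_zero_of_not_dvd
        (fun hd => absurd (Nat.Prime.dvd_of_dvd_pow (by norm_num) hd) (by norm_num))]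
  let Pr : G → Prop := fun y => ∃ P : Subgroup G, P ≤ L ∧ Nat.card P = 27 ∧ y ∈ P ∧ ∀ a ∈ P, a * y = y * a
  have hclass : ∀ y : L, orderOf y = 3 → Pr (y : G) → ∃ σ : M24, σ * f y * σ⁻¹ = CfsgLib.Trans3.sixPerm := by
    intro y hy hPr
    have hfy : orderOf (f y) = 3 := orderOf_eq_prime (by rw [← map_pow, ← hy, pow_orderOf_eq_one, map_one]) fun h1 => by
      have h2 : orderOf (⟨y, h1⟩ : f.ker) ∣ 2 ^ n := hfk ▸ orderOf_dvd_natCard _
      rw [← Subgroup.orderOf_coe, hy] at h2
      exact absurd (Nat.Prime.dvd_of_dvd_pow (by norm_num) h2) (by norm_num)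
    rcases CfsgLib.Mathieu.order3_cases (f y).2 (by rw [Subgroup.orderOf_coe]; exact hfy) with
      ⟨c, hc, -, hfix⟩ | ⟨c, hc, hr, -⟩
    · obtain ⟨p, hp⟩ : (CfsgLib.Mathieu.fixS ((f y : M24) : Equiv.Perm GolayPt)).Nonempty :=
        Finset.card_pos.1 (by omega)
      exact CfsgLib.Trans3.six_perm_conj hfy (p := p) (Finset.mem_filter.1 hp).2
    · exfalso
      obtain ⟨P, hPL, hPc, hyP, hcen⟩ := hPr
      let g : P →* M24 := f.comp (Subgroup.inclusion hPL)
      have hg : Function.Injective g := by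
        rw [← MonoidHom.ker_eq_bot_iff, Subgroup.eq_bot_iff_forall]
        intro a ha
        have e1 : orderOf a ∣ 3 ^ 3 := by
          rw [show (3 : ℕ) ^ 3 = Nat.card P by rw [hPc]; norm_num]
          exact orderOf_dvd_natCard _
        have e2 : orderOf a ∣ 2 ^ n := by
          rw [← Subgroup.orderOf_coe a, ← hfk,
            ← Subgroup.orderOf_mk (a : G) (hPL a.2), ← Subgroup.orderOf_mk (⟨(a : G), hPL a.2⟩ : L) (show _ ∈ f.ker from ha)]
          exact orderOf_dvd_natCard _
        exact orderOf_eq_one_iff.1 (Nat.dvd_one.1 ((Nat.Coprime.pow 3 n (by norm_num : Nat.Coprime 3 2)) ▸ Nat.dvd_gcd e1 e2))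
      let K : Subgroup M24 :=
        ((CfsgLib.Mathieu.commFix [] CfsgLib.Mathieu.sFreePows).subgroupOf M24).map
          (MulAut.conj (⟨c, hc⟩ : M24)).toMonoidHom
      have hKcard : Nat.card K = 504 := by
        rw [← CfsgLib.Mathieu.card_comm_sFree]
        refine (Nat.card_congr (Subgroup.equivMapOfInjective _ _ (MulEquiv.injective _)).toEquiv).symm.trans ?_
        exact Nat.card_congr (Subgroup.subgroupOfEquivOfLe fun σ hσ => by
          have := (CfsgLib.Mathieu.mem_commFix.1 hσ).1
          rwa [CfsgLib.Golay.fixMasks_nil] at this).toEquiv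
      have hle : g.range ≤ K := by
        rintro _ ⟨a, rfl⟩
        refine ⟨(⟨c, hc⟩ : M24)⁻¹ * g a * ⟨c, hc⟩, Subgroup.mem_subgroupOf.2 ?_, by
          show (⟨c, hc⟩ : M24) * ((⟨c, hc⟩ : M24)⁻¹ * g a * ⟨c, hc⟩) * (⟨c, hc⟩ : M24)⁻¹ = g a
          group⟩
        have hcomm : g a * f y = f y * g a := by
          show f _ * f y = f y * f _
          rw [← map_mul, ← map_mul]
          exact congrArg f (Subtype.ext (hcen a a.2))
        have hcomm' : ((g a : M24) : Equiv.Perm GolayPt) * ((f y : M24) : Equiv.Perm GolayPt) =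
            ((f y : M24) : Equiv.Perm GolayPt) * ((g a : M24) : Equiv.Perm GolayPt) := congrArg Subtype.val hcomm
        show c⁻¹ * ((g a : M24) : Equiv.Perm GolayPt) * c ∈ _
        refine CfsgLib.Mathieu.mem_commFix.2 ⟨by
          rw [CfsgLib.Golay.fixMasks_nil]; exact M24.mul_mem (M24.mul_mem (M24.inv_mem hc) (g a).2) hc, ?_⟩
        generalize ((g a : M24) : Equiv.Perm GolayPt) = u at hcomm' ⊢
        have hboth : (c⁻¹ * u * c) * CfsgLib.Golay.permOf CfsgLib.Mathieu.sFree =
              CfsgLib.Golay.permOf CfsgLib.Mathieu.sFree * (c⁻¹ * u * c) ∨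
            (c⁻¹ * u * c) * (CfsgLib.Golay.permOf CfsgLib.Mathieu.sFree * CfsgLib.Golay.permOf CfsgLib.Mathieu.sFree) =
              (CfsgLib.Golay.permOf CfsgLib.Mathieu.sFree * CfsgLib.Golay.permOf CfsgLib.Mathieu.sFree) * (c⁻¹ * u * c) := by
          rw [← CfsgLib.Mathieu.sFreeSq_eq.2]
          rcases hr with hr | hr <;> rw [hr] at hcomm'
          · left
            generalize CfsgLib.Golay.permOf CfsgLib.Mathieu.sFree = r at hcomm' ⊢
            calc c⁻¹ * u * c * r = c⁻¹ * (u * (c * r * c⁻¹)) * c := by group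
              _ = r * (c⁻¹ * u * c) := by rw [hcomm']; group
          · right
            generalize CfsgLib.Golay.permOf CfsgLib.Mathieu.sFreeSq = r at hcomm' ⊢
            calc c⁻¹ * u * c * r = c⁻¹ * (u * (c * r * c⁻¹)) * c := by group
              _ = r * (c⁻¹ * u * c) := by rw [hcomm']; group
        have hb := CfsgLib.Mathieu.comm_sq CfsgLib.Mathieu.sFree_cube hboth
        intro t ht
        simp only [CfsgLib.Mathieu.sFreePows_eq, List.mem_cons, List.not_mem_nil, or_false] at ht
        rcases ht with rfl | rfl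
        · exact hb.1
        · rw [CfsgLib.Mathieu.sFreeSq_eq.2]; exact hb.2
      have h1 := Subgroup.card_dvd_of_le hle
      rw [hKcard, ← Nat.card_congr (MonoidHom.ofInjective hg).toEquiv, hPc] at h1
      norm_num at h1
  have hinvP : ∀ u a : G, (∀ a ∈ L, u * a * u⁻¹ ∈ L) → a ∈ L → Pr a → Pr (u * a * u⁻¹) := by
    rintro u a hu - ⟨P, hPL, hPc, haP, hcen⟩
    refine ⟨P.map (MulAut.conj u).toMonoidHom, ?_, ?_, ⟨a, haP, rfl⟩, ?_⟩
    · rintro _ ⟨v, hv, rfl⟩
      exact hu v (hPL hv)
    · rw [← hPc]; exact (Nat.card_congr (Subgroup.equivMapOfInjective P _ (MulEquiv.injective _)).toEquiv).symm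
    · rintro _ ⟨v, hv, rfl⟩
      show u * v * u⁻¹ * (u * a * u⁻¹) = u * a * u⁻¹ * (u * v * u⁻¹)
      calc u * v * u⁻¹ * (u * a * u⁻¹) = u * (v * a) * u⁻¹ := by group
        _ = u * a * u⁻¹ * (u * v * u⁻¹) := by rw [hcen v hv]; group
  have hPY : ∀ β ∈ Y, β ≠ 1 → Pr β := by
    intro β hβ _
    obtain ⟨P, hP⟩ := hc
    refine ⟨(P : Subgroup L).map L.subtype, Subgroup.map_subtype_le _, ?_, ?_, ?_⟩
    · rw [Subgroup.card_subtype, P.card_eq_multiplicity, hL]; norm_num
    · obtain ⟨w, -, hw⟩ := hP (show (⟨β, hY hβ⟩ : L) ∈ Y.subgroupOf L from hβ)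
      exact ⟨w, w.2, congrArg Subtype.val hw⟩
    · rintro _ ⟨v, hv, rfl⟩
      obtain ⟨w, hwc, hw⟩ := hP (show (⟨β, hY hβ⟩ : L) ∈ Y.subgroupOf L from hβ)
      have h1 := congrArg (fun q : (P : Subgroup L) => ((q : L) : G)) (Subgroup.mem_center_iff.1 hwc ⟨v, hv⟩)
      have h2 : ((w : L) : G) = β := congrArg Subtype.val hw
      show (v : G) * β = β * (v : G)
      rw [← h2]
      exact h1
  exact CfsgLib.Trans3.six_local_of_class hS hψ' hxv hfs hfk hf Pr hclass hinvP Y hY hY3 hPY (hn := hn)

end Cfsg.Agent.S5415
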