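import Cfsg.Statements.S5416
import Cfsg.Agent.Lib.Trans3.MonsterHeld

set_option autoImplicit false
set_option maxRecDepth 100000
open Cfsg

namespace Cfsg.Agent.S5416

/-- Let G be a finite group of Monster type at the involution z with Q the extraspecial normal subgroup of order 2^25 of C = C_G(z) (so C/Q is identified with the first Conway group with Q modulo its centre the Leech lattice modulo 2, and z is not weakly closed in Q). Let s be a conjugate of z in Q other than z and let B be a Sylow 7-subgroup of the joint centralizer of z and s. Then the centralizer of B modulo B is a group of Held type (an involution whose centralizer D has generalized Fitting subgroup R extraspecial of order 2^7 with D/R isomorphic to SL(3, 2), exactly 29 of its conjugates lying in R, and the involution not weakly closed in R). -/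
theorem result {G : Type*} [Group G] [Finite G] (z : G) (Q : Subgroup (Subgroup.centralizer ({z} : Set G))) [Q.Normal] (hM : Cfsg.IsOfMonsterType z Q) (s : G) (hsQ : ∃ hsc : s ∈ Subgroup.centralizer ({z} : Set G), (⟨s, hsc⟩ : Subgroup.centralizer ({z} : Set G)) ∈ Q) (hs : IsConj z s) (hs1 : s ≠ z) (B : Subgroup G) (hB : B ≤ Subgroup.centralizer ({z, s} : Set G)) (hBp : Nat.card B = 7 ^ (Nat.card ↥(Subgroup.centralizer ({z, s} : Set G))).factorization 7) [hn : (B.subgroupOf (Subgroup.centralizer (B : Set G))).Normal] : Cfsg.IsOfHeldType (↥(Subgroup.centralizer (B : Set G)) ⧸ B.subgroupOf (Subgroup.centralizer (B : Set G))) := by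
  classical
  haveI : Fact (Nat.Prime 7) := ⟨by norm_num⟩
  obtain ⟨hS, e, ψ, hψ⟩ := hM
  obtain ⟨hsc, hsQ'⟩ := hsQ
  set x : Q := ⟨⟨s, hsc⟩, hsQ'⟩
  obtain ⟨v, hv8, hv⟩ := (CfsgLib.Trans3.mon_conj_iff hS hψ x).1 ⟨hs, hs1⟩
  obtain ⟨h, rfl⟩ := CfsgLib.Golay.co0_trans8 (CfsgLib.Golay.vec8_q CfsgLib.Golay.pinf) hv8
  set L := Subgroup.centralizer ({z, s} : Set G) with hL
  have hLC : ∀ a ∈ L, a ∈ Subgroup.centralizer ({z} : Set G) := fun a ha =>
    Subgroup.mem_centralizer_singleton_iff.2 (Subgroup.mem_centralizer_iff.1 ha z (by simp)).symm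
  -- the seven-part of the joint centralizer
  have hxs : CfsgLib.Trans3.qv x = s := rfl
  have h49 : ¬ 7 ^ 2 ∣ Nat.card L := by
    have h := CfsgLib.Trans3.held_seven_part hS hψ hv8 hv
    rw [hxs] at h
    exact h
  have h7 : 7 ∣ Nat.card L := by
    have hg0 : h * CfsgLib.Trans3.heldA * h⁻¹ ∈ CfsgLib.Golay.classStab (h • CfsgLib.Golay.vec8 CfsgLib.Golay.pinf) := by
      rw [CfsgLib.Golay.mem_classStab, mul_smul, mul_smul, inv_smul_smul]
      exact CfsgLib.Golay.co0_cls h (CfsgLib.Golay.mem_classStab.1 CfsgLib.Trans3.heldA_mem_N0)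
    obtain ⟨y, hy, hyx⟩ := CfsgLib.Trans3.mon_stab_lift hS hψ hv hg0
    have hd : 7 ∣ orderOf y := by
      have h1 : orderOf (QuotientGroup.mk (h * CfsgLib.Trans3.heldA * h⁻¹) : Spor.Co1) = 7 := by
        rw [QuotientGroup.mk_mul, QuotientGroup.mk_mul, QuotientGroup.mk_inv]
        exact (MulEquiv.orderOf_eq (MulAut.conj (QuotientGroup.mk h : Spor.Co1)) _).trans
          CfsgLib.Trans3.orderOf_mk_heldA
      rw [← h1, hy, MulEquiv.orderOf_eq]
      exact orderOf_map_dvd (QuotientGroup.mk' Q) y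
    have hyL : (y : G) ∈ L := Subgroup.mem_centralizer_iff.2 fun a ha => by
      rcases (show a = z ∨ a = s by simpa using ha) with h' | h' <;> rw [h']
      · exact (CfsgLib.Trans3.comm_z y).symm
      · exact hyx.symm
    refine hd.trans ?_
    rw [← Subgroup.orderOf_coe, ← Subgroup.orderOf_mk (y : G) hyL]
    exact orderOf_dvd_natCard _
  have hfac : (Nat.card L).factorization 7 = 1 := by
    have hne : Nat.card L ≠ 0 := Nat.card_pos.ne'
    refine le_antisymm ?_ ((Nat.Prime.pow_dvd_iff_le_factorization (by norm_num) hne).1 (by simpa using h7))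
    by_contra hlt
    exact h49 ((Nat.Prime.pow_dvd_iff_le_factorization (by norm_num) hne).2 (by omega))
  rw [hfac, pow_one] at hBp
  -- a generator
  obtain ⟨β, hβ⟩ := (isCyclic_of_prime_card hBp).exists_generator
  have hβo : orderOf β = 7 := by rw [orderOf_eq_card_of_forall_mem_zpowers hβ, hBp]
  have hβC : (β : G) ∈ Subgroup.centralizer ({z} : Set G) := hLC _ (hB β.2)
  set bC : Subgroup.centralizer ({z} : Set G) := ⟨β, hβC⟩
  have hbo : orderOf bC = 7 := by rw [← Subgroup.orderOf_coe]; exact (Subgroup.orderOf_coe β).trans hβo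
  have hmk : e (QuotientGroup.mk bC) ≠ 1 := fun h1 => by
    have h2 : bC ∈ Q := (QuotientGroup.eq_one_iff bC).1 (e.map_eq_one_iff.1 h1)
    have h3 : orderOf (⟨bC, h2⟩ : Q) ∣ 2 ^ 25 := hS.2.2.2.1 ▸ orderOf_dvd_natCard _
    rw [← Subgroup.orderOf_coe, hbo] at h3
    norm_num at h3
  obtain ⟨a, ha⟩ := QuotientGroup.mk_surjective (e (QuotientGroup.mk bC))
  have hast := CfsgLib.Trans3.mon_stab_of_comm hψ hv (h := bC) ha
    (Subgroup.mem_centralizer_iff.1 (hB β.2) s (by simp)).symm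
  have hb7 : bC ^ 7 = 1 := hbo ▸ pow_orderOf_eq_one bC
  have ha7 : a ^ 7 ∈ Subgroup.center Co0 := by
    rw [← QuotientGroup.eq_one_iff, QuotientGroup.mk_pow, ha, ← map_pow, ← QuotientGroup.mk_pow, hb7]
    exact map_one e
  obtain ⟨a', ha', ha'7, hast'⟩ : ∃ a' : Co0, (QuotientGroup.mk a' : Spor.Co1) = e (QuotientGroup.mk bC) ∧
      a' ^ 7 = 1 ∧ a' ∈ CfsgLib.Golay.classStab (h • CfsgLib.Golay.vec8 CfsgLib.Golay.pinf) := by
    rcases CfsgLib.Golay.center_Co0 ha7 with h1 | h1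
    · exact ⟨a, ha, h1, hast⟩
    · refine ⟨CfsgLib.Golay.negCo0 * a, ?_, ?_, Subgroup.mul_mem _ (CfsgLib.Trans3.negCo0_mem_classStab _) hast⟩
      · rw [QuotientGroup.mk_mul, CfsgLib.Trans3.negCo0_mk, one_mul, ha]
      · rw [(show Commute CfsgLib.Golay.negCo0 a from
          (Subgroup.mem_center_iff.1 CfsgLib.Golay.negCo0_central a).symm).mul_pow, h1]
        simp [pow_succ, CfsgLib.Trans3.negCo0_sq]
  -- into the monomial group
  set c := h⁻¹ * a' * h
  have hcN : c ∈ CfsgLib.Golay.N0 := by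
    rw [CfsgLib.Golay.mem_classStab] at hast'
    show c ∈ CfsgLib.Golay.classStab (CfsgLib.Golay.vec8 CfsgLib.Golay.pinf)
    rw [CfsgLib.Golay.mem_classStab]
    have h1 := CfsgLib.Golay.co0_cls h⁻¹ hast'
    rw [inv_smul_smul] at h1
    show _ = _
    rw [mul_smul, mul_smul]
    exact h1
  have hco : orderOf c = 7 := by
    refine orderOf_eq_prime ?_ fun h1 => hmk ?_
    · rw [show c = h⁻¹ * a' * h⁻¹⁻¹ by rw [inv_inv], conj_pow, ha'7]; group
    · rw [← ha', show a' = h * c * h⁻¹ by simp only [c]; group, h1, mul_one, mul_inv_cancel]; rfl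
  have hN0 : (Nat.card CfsgLib.Golay.N0).factorization 7 = 1 := by
    have h1 := CfsgLib.Golay.N0.card_mul_index
    rw [CfsgLib.Golay.index_N0, CfsgLib.Golay.card_Co0] at h1
    rw [show Nat.card CfsgLib.Golay.N0 = 7 ^ 1 * 143256453120 from
        Nat.eq_of_mul_eq_mul_right (by norm_num : 0 < 8292375) (h1.trans (by norm_num)),
      Nat.factorization_mul (by omega) (by omega), Finsupp.add_apply,
      Nat.Prime.factorization_pow (by norm_num), Finsupp.single_eq_same,
      Nat.factorization_eq_zero_of_not_dvd (by omega)]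
  let P₁ : Sylow 7 CfsgLib.Golay.N0 := Sylow.ofCard
    (Subgroup.zpowers ⟨CfsgLib.Trans3.heldA, CfsgLib.Trans3.heldA_mem_N0⟩)
    (by rw [Nat.card_zpowers, ← Subgroup.orderOf_coe, CfsgLib.Trans3.orderOf_heldA, hN0]; norm_num)
  let P₂ : Sylow 7 CfsgLib.Golay.N0 := Sylow.ofCard (Subgroup.zpowers ⟨c, hcN⟩)
    (by rw [Nat.card_zpowers, ← Subgroup.orderOf_coe, hco, hN0]; norm_num)
  obtain ⟨n, hn'⟩ := MulAction.exists_smul_eq CfsgLib.Golay.N0 P₁ P₂
  have hmem : n * ⟨CfsgLib.Trans3.heldA, CfsgLib.Trans3.heldA_mem_N0⟩ * n⁻¹ ∈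
      Subgroup.zpowers (⟨c, hcN⟩ : CfsgLib.Golay.N0) := by
    have h1 : MulAut.conj n (⟨CfsgLib.Trans3.heldA, CfsgLib.Trans3.heldA_mem_N0⟩ : CfsgLib.Golay.N0) ∈
        ((n • P₁ : Sylow 7 CfsgLib.Golay.N0) : Subgroup CfsgLib.Golay.N0) :=
      Subgroup.mem_map_of_mem _ (Subgroup.mem_zpowers _)
    rw [hn'] at h1
    exact h1
  obtain ⟨k, hk⟩ := (mem_powers_iff_mem_zpowers (x := (⟨c, hcN⟩ : CfsgLib.Golay.N0))).2 hmem
  have hk' : c ^ k = (n : Co0) * CfsgLib.Trans3.heldA * (n : Co0)⁻¹ := by simpa using congrArg Subtype.val hk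
  have hk7 : ¬ 7 ∣ k := fun hd => CfsgLib.Trans3.heldA_ne_one (by
    rw [orderOf_dvd_iff_pow_eq_one.1 (hco ▸ hd : orderOf c ∣ k)] at hk'
    exact conj_eq_one_iff.1 hk'.symm)
  set g := h * (n : Co0)
  set gq : Spor.Co1 := QuotientGroup.mk g
  set e' := e.trans (MulAut.conj gq⁻¹)
  set ψ' : leechLattice → Q ⧸ Subgroup.center Q := fun w => ψ (g • w)
  have hψ' : IsLeechModTwoIso Q e' ψ' := by
    obtain ⟨h1, h2, h3, h4⟩ := hψ
    refine ⟨fun u w => ?_, fun q => ?_, fun u => ?_, fun y k' hy u q hq => ?_⟩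
    · show ψ (g • (u + w)) = _
      rw [CfsgLib.Golay.co0_add, h1]
    · obtain ⟨u, rfl⟩ := h2 q
      exact ⟨g⁻¹ • u, by show ψ (g • g⁻¹ • u) = _; rw [smul_inv_smul]⟩
    · show ψ (g • u) = 1 ↔ _
      rw [h3]
      constructor
      · rintro ⟨w, hw⟩
        exact ⟨g⁻¹ • w, by rw [← CfsgLib.Golay.co0_add, ← hw, inv_smul_smul]⟩
      · rintro ⟨w, hw⟩
        exact ⟨g • w, by rw [hw, CfsgLib.Golay.co0_add]⟩
    · show ψ (g • k' • u) = _
      have hy' : (QuotientGroup.mk k' : Spor.Co1) = gq⁻¹ * e (QuotientGroup.mk y) * gq := by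
        rw [hy]; show gq⁻¹ * e (QuotientGroup.mk y) * (gq⁻¹)⁻¹ = _; rw [inv_inv]
      have hg' : (QuotientGroup.mk (g * k' * g⁻¹) : Spor.Co1) = e (QuotientGroup.mk y) := by
        rw [QuotientGroup.mk_mul, QuotientGroup.mk_mul, QuotientGroup.mk_inv, hy']
        show gq * (gq⁻¹ * e (QuotientGroup.mk y) * gq) * gq⁻¹ = _
        group
      have := h4 y (g * k' * g⁻¹) hg' (g • u) q hq
      rwa [mul_smul, mul_smul, inv_smul_smul] at this
  have hbA : e' (QuotientGroup.mk (bC ^ k)) = QuotientGroup.mk CfsgLib.Trans3.heldA := by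
    show gq⁻¹ * e (QuotientGroup.mk (bC ^ k)) * (gq⁻¹)⁻¹ = _
    have h1 : e (QuotientGroup.mk (bC ^ k)) = gq * QuotientGroup.mk CfsgLib.Trans3.heldA * gq⁻¹ := by
      rw [QuotientGroup.mk_pow, map_pow, ← ha']
      show _ = (QuotientGroup.mk g : Spor.Co1) * _ * _
      rw [← QuotientGroup.mk_inv, ← QuotientGroup.mk_mul, ← QuotientGroup.mk_mul, ← QuotientGroup.mk_pow]
      congr 1
      have hac : a' = h * c * h⁻¹ := by simp only [c]; group
      rw [hac, conj_pow, hk']
      simp only [g]; group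
    rw [h1]; group
  have hBeq : B = Subgroup.zpowers ((bC ^ k : Subgroup.centralizer ({z} : Set G)) : G) := by
    refine (Subgroup.eq_of_le_of_card_ge ?_ ?_).symm
    · rw [Subgroup.zpowers_le]
      exact B.pow_mem β.2 k
    · rw [hBp, Nat.card_zpowers, Subgroup.orderOf_coe, orderOf_pow, hbo,
        Nat.Coprime.gcd_eq_one ((Nat.Prime.coprime_iff_not_dvd (by norm_num)).2 hk7)]
  have key : ∀ (B' : Subgroup G),
      B' = Subgroup.zpowers ((bC ^ k : Subgroup.centralizer ({z} : Set G)) : G) →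
      ∀ [(B'.subgroupOf (Subgroup.centralizer (B' : Set G))).Normal],
      Cfsg.IsOfHeldType (↥(Subgroup.centralizer (B' : Set G)) ⧸ B'.subgroupOf (Subgroup.centralizer (B' : Set G))) := by
    rintro _ rfl hn'
    exact CfsgLib.Trans3.mon_held hS hψ' (by rw [← pow_mul, mul_comm, pow_mul, hb7, one_pow]) hbA (hn := hn')
  exact key B hBeq

end Cfsg.Agent.S5416
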