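import Cfsg.Statements.S5418
import Cfsg.Agent.Lib.Trans3.MonsterHeldOuter
import Cfsg.Agent.Lib.Trans3.HeldTypeFitting
import Cfsg.Agent.Lib.Comp.PComponentEquiv
-- import your own Cfsg.Agent.* helpers here

set_option autoImplicit false
set_option maxRecDepth 100000
open Cfsg

namespace Cfsg.Agent.S5418

/-- Let G be a finite group of Monster type at the involution z with Q the extraspecial normal subgroup of order 2^25 of C = C_G(z) (so C/Q is identified with the first Conway group with Q modulo its centre the Leech lattice modulo 2, and z is not weakly closed in Q). Let s be a conjugate of z in Q other than z and let B be a Sylow 7-subgroup of the joint centralizer of z and s. Then the centralizer of B has index 6 in the normalizer of B; and some involution inverting B induces, by conjugation, a non-inner automorphism of the layer of the centralizer of B. -/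
theorem result {G : Type*} [Group G] [Finite G] (z : G) (Q : Subgroup (Subgroup.centralizer ({z} : Set G))) [Q.Normal] (hM : Cfsg.IsOfMonsterType z Q) (s : G) (hsQ : ∃ hsc : s ∈ Subgroup.centralizer ({z} : Set G), (⟨s, hsc⟩ : Subgroup.centralizer ({z} : Set G)) ∈ Q) (hs : IsConj z s) (hs1 : s ≠ z) (B : Subgroup G) (hB : B ≤ Subgroup.centralizer ({z, s} : Set G)) (hBp : Nat.card B = 7 ^ (Nat.card ↥(Subgroup.centralizer ({z, s} : Set G))).factorization 7) : (Subgroup.centralizer (B : Set G)).relIndex (Subgroup.normalizer (B : Set G)) = 6 ∧ ∃ t : G, orderOf t = 2 ∧ (∀ b ∈ B, t * b * t⁻¹ = b⁻¹) ∧ (∀ x ∈ (Cfsg.layer ↥(Subgroup.centralizer (B : Set G))).map (Subgroup.centralizer (B : Set G)).subtype, t * x * t⁻¹ ∈ (Cfsg.layer ↥(Subgroup.centralizer (B : Set G))).map (Subgroup.centralizer (B : Set G)).subtype) ∧ ¬ ∃ l ∈ (Cfsg.layer ↥(Subgroup.centralizer (B : Set G))).map (Subgroup.centralizer (B : Set G)).subtype, ∀ x ∈ (Cfsg.layer ↥(Subgroup.centralizer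 (B : Set G))).map (Subgroup.centralizer (B : Set G)).subtype, t * x * t⁻¹ = l * x * l⁻¹ := by
  classical
  haveI : Fact (Nat.Prime 7) := ⟨by norm_num⟩
  obtain ⟨hS, e, ψ, hψ⟩ := hM
  obtain ⟨hsc, hsQ'⟩ := hsQ
  set x : Q := ⟨⟨s, hsc⟩, hsQ'⟩
  obtain ⟨v, hv8, hv⟩ := (CfsgLib.Trans3.mon_conj_iff hS hψ x).1 ⟨hs, hs1⟩
  obtain ⟨h, rfl⟩ := CfsgLib.Golay.co0_trans8 (CfsgLib.Golay.vec8_q CfsgLib.Golay.pinf) hv8
  set L := Subgroup.centralizer ({z, s} : Set G) with hL
  have hLC : ∀ a ∈ L, a ∈ Subgroup.centralizer ({z} : Set G) := fun a ha =>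
    Subgroup.mem_centralizer_singleton_iff.2 (Subgroup.mem_centralizer_iff.1 ha z (by simp)).symm
  -- the seven-part of the joint centralizer
  have hxs : CfsgLib.Trans3.qv x = s := rfl
  have h49 : ¬ 7 ^ 2 ∣ Nat.card L := by
    have h := CfsgLib.Trans3.held_seven_part hS hψ hv8 hv
    rw [hxs] at h
    exact h
  have h7 : 7 ∣ Nat.card L := by
    have hg0 : h * CfsgLib.Trans3.heldA * h⁻¹ ∈ CfsgLib.Golay.classStab (h • CfsgLib.Golay.vec8 CfsgLib.Golay.pinf) := by
      rw [CfsgLib.Golay.mem_classStab, mul_smul, mul_smul, inv_smul_smul]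
      exact CfsgLib.Golay.co0_cls h (CfsgLib.Golay.mem_classStab.1 CfsgLib.Trans3.heldA_mem_N0)
    obtain ⟨y, hy, hyx⟩ := CfsgLib.Trans3.mon_stab_lift hS hψ hv hg0
    have hd : 7 ∣ orderOf y := by
      have h1 : orderOf (QuotientGroup.mk (h * CfsgLib.Trans3.heldA * h⁻¹) : Spor.Co1) = 7 := by
        rw [QuotientGroup.mk_mul, QuotientGroup.mk_mul, QuotientGroup.mk_inv]
        exact (MulEquiv.orderOf_eq (MulAut.conj (QuotientGroup.mk h : Spor.Co1)) _).trans
          CfsgLib.Trans3.orderOf_mk_heldA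
      rw [← h1, hy, MulEquiv.orderOf_eq]
      exact orderOf_map_dvd (QuotientGroup.mk' Q) y
    have hyL : (y : G) ∈ L := Subgroup.mem_centralizer_iff.2 fun a ha => by
      rcases (show a = z ∨ a = s by simpa using ha) with h' | h' <;> rw [h']
      · exact (CfsgLib.Trans3.comm_z y).symm
      · exact hyx.symm
    refine hd.trans ?_
    rw [← Subgroup.orderOf_coe, ← Subgroup.orderOf_mk (y : G) hyL]
    exact orderOf_dvd_natCard _
  have hfac : (Nat.card L).factorization 7 = 1 := by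
    have hne : Nat.card L ≠ 0 := Nat.card_pos.ne'
    refine le_antisymm ?_ ((Nat.Prime.pow_dvd_iff_le_factorization (by norm_num) hne).1 (by simpa using h7))
    by_contra hlt
    exact h49 ((Nat.Prime.pow_dvd_iff_le_factorization (by norm_num) hne).2 (by omega))
  rw [hfac, pow_one] at hBp
  -- a generator
  obtain ⟨β, hβ⟩ := (isCyclic_of_prime_card hBp).exists_generator
  have hβo : orderOf β = 7 := by rw [orderOf_eq_card_of_forall_mem_zpowers hβ, hBp]
  have hβC : (β : G) ∈ Subgroup.centralizer ({z} : Set G) := hLC _ (hB β.2)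
  set bC : Subgroup.centralizer ({z} : Set G) := ⟨β, hβC⟩
  have hbo : orderOf bC = 7 := by rw [← Subgroup.orderOf_coe]; exact (Subgroup.orderOf_coe β).trans hβo
  have hmk : e (QuotientGroup.mk bC) ≠ 1 := fun h1 => by
    have h2 : bC ∈ Q := (QuotientGroup.eq_one_iff bC).1 (e.map_eq_one_iff.1 h1)
    have h3 : orderOf (⟨bC, h2⟩ : Q) ∣ 2 ^ 25 := hS.2.2.2.1 ▸ orderOf_dvd_natCard _
    rw [← Subgroup.orderOf_coe, hbo] at h3
    norm_num at h3
  obtain ⟨a, ha⟩ := QuotientGroup.mk_surjective (e (QuotientGroup.mk bC))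
  have hast := CfsgLib.Trans3.mon_stab_of_comm hψ hv (h := bC) ha
    (Subgroup.mem_centralizer_iff.1 (hB β.2) s (by simp)).symm
  have hb7 : bC ^ 7 = 1 := hbo ▸ pow_orderOf_eq_one bC
  have ha7 : a ^ 7 ∈ Subgroup.center Co0 := by
    rw [← QuotientGroup.eq_one_iff, QuotientGroup.mk_pow, ha, ← map_pow, ← QuotientGroup.mk_pow, hb7]
    exact map_one e
  obtain ⟨a', ha', ha'7, hast'⟩ : ∃ a' : Co0, (QuotientGroup.mk a' : Spor.Co1) = e (QuotientGroup.mk bC) ∧
      a' ^ 7 = 1 ∧ a' ∈ CfsgLib.Golay.classStab (h • CfsgLib.Golay.vec8 CfsgLib.Golay.pinf) := by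
    rcases CfsgLib.Golay.center_Co0 ha7 with h1 | h1
    · exact ⟨a, ha, h1, hast⟩
    · refine ⟨CfsgLib.Golay.negCo0 * a, ?_, ?_, Subgroup.mul_mem _ (CfsgLib.Trans3.negCo0_mem_classStab _) hast⟩
      · rw [QuotientGroup.mk_mul, CfsgLib.Trans3.negCo0_mk, one_mul, ha]
      · rw [(show Commute CfsgLib.Golay.negCo0 a from
          (Subgroup.mem_center_iff.1 CfsgLib.Golay.negCo0_central a).symm).mul_pow, h1]
        simp [pow_succ, CfsgLib.Trans3.negCo0_sq]
  -- into the monomial group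
  set c := h⁻¹ * a' * h
  have hcN : c ∈ CfsgLib.Golay.N0 := by
    rw [CfsgLib.Golay.mem_classStab] at hast'
    show c ∈ CfsgLib.Golay.classStab (CfsgLib.Golay.vec8 CfsgLib.Golay.pinf)
    rw [CfsgLib.Golay.mem_classStab]
    have h1 := CfsgLib.Golay.co0_cls h⁻¹ hast'
    rw [inv_smul_smul] at h1
    show _ = _
    rw [mul_smul, mul_smul]
    exact h1
  have hco : orderOf c = 7 := by
    refine orderOf_eq_prime ?_ fun h1 => hmk ?_
    · rw [show c = h⁻¹ * a' * h⁻¹⁻¹ by rw [inv_inv], conj_pow, ha'7]; group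
    · rw [← ha', show a' = h * c * h⁻¹ by simp only [c]; group, h1, mul_one, mul_inv_cancel]; rfl
  have hN0 : (Nat.card CfsgLib.Golay.N0).factorization 7 = 1 := by
    have h1 := CfsgLib.Golay.N0.card_mul_index
    rw [CfsgLib.Golay.index_N0, CfsgLib.Golay.card_Co0] at h1
    rw [show Nat.card CfsgLib.Golay.N0 = 7 ^ 1 * 143256453120 from
        Nat.eq_of_mul_eq_mul_right (by norm_num : 0 < 8292375) (h1.trans (by norm_num)),
      Nat.factorization_mul (by omega) (by omega), Finsupp.add_apply,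
      Nat.Prime.factorization_pow (by norm_num), Finsupp.single_eq_same,
      Nat.factorization_eq_zero_of_not_dvd (by omega)]
  let P₁ : Sylow 7 CfsgLib.Golay.N0 := Sylow.ofCard
    (Subgroup.zpowers ⟨CfsgLib.Trans3.heldA, CfsgLib.Trans3.heldA_mem_N0⟩)
    (by rw [Nat.card_zpowers, ← Subgroup.orderOf_coe, CfsgLib.Trans3.orderOf_heldA, hN0]; norm_num)
  let P₂ : Sylow 7 CfsgLib.Golay.N0 := Sylow.ofCard (Subgroup.zpowers ⟨c, hcN⟩)
    (by rw [Nat.card_zpowers, ← Subgroup.orderOf_coe, hco, hN0]; norm_num)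
  obtain ⟨n, hn'⟩ := MulAction.exists_smul_eq CfsgLib.Golay.N0 P₁ P₂
  have hmem : n * ⟨CfsgLib.Trans3.heldA, CfsgLib.Trans3.heldA_mem_N0⟩ * n⁻¹ ∈
      Subgroup.zpowers (⟨c, hcN⟩ : CfsgLib.Golay.N0) := by
    have h1 : MulAut.conj n (⟨CfsgLib.Trans3.heldA, CfsgLib.Trans3.heldA_mem_N0⟩ : CfsgLib.Golay.N0) ∈
        ((n • P₁ : Sylow 7 CfsgLib.Golay.N0) : Subgroup CfsgLib.Golay.N0) :=
      Subgroup.mem_map_of_mem _ (Subgroup.mem_zpowers _)
    rw [hn'] at h1
    exact h1
  obtain ⟨k, hk⟩ := (mem_powers_iff_mem_zpowers (x := (⟨c, hcN⟩ : CfsgLib.Golay.N0))).2 hmem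
  have hk' : c ^ k = (n : Co0) * CfsgLib.Trans3.heldA * (n : Co0)⁻¹ := by simpa using congrArg Subtype.val hk
  have hk7 : ¬ 7 ∣ k := fun hd => CfsgLib.Trans3.heldA_ne_one (by
    rw [orderOf_dvd_iff_pow_eq_one.1 (hco ▸ hd : orderOf c ∣ k)] at hk'
    exact conj_eq_one_iff.1 hk'.symm)
  set g := h * (n : Co0)
  set gq : Spor.Co1 := QuotientGroup.mk g
  set e' := e.trans (MulAut.conj gq⁻¹)
  set ψ' : leechLattice → Q ⧸ Subgroup.center Q := fun w => ψ (g • w)
  have hψ' : IsLeechModTwoIso Q e' ψ' := by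
    obtain ⟨h1, h2, h3, h4⟩ := hψ
    refine ⟨fun u w => ?_, fun q => ?_, fun u => ?_, fun y k' hy u q hq => ?_⟩
    · show ψ (g • (u + w)) = _
      rw [CfsgLib.Golay.co0_add, h1]
    · obtain ⟨u, rfl⟩ := h2 q
      exact ⟨g⁻¹ • u, by show ψ (g • g⁻¹ • u) = _; rw [smul_inv_smul]⟩
    · show ψ (g • u) = 1 ↔ _
      rw [h3]
      constructor
      · rintro ⟨w, hw⟩
        exact ⟨g⁻¹ • w, by rw [← CfsgLib.Golay.co0_add, ← hw, inv_smul_smul]⟩
      · rintro ⟨w, hw⟩
        exact ⟨g • w, by rw [hw, CfsgLib.Golay.co0_add]⟩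
    · show ψ (g • k' • u) = _
      have hy' : (QuotientGroup.mk k' : Spor.Co1) = gq⁻¹ * e (QuotientGroup.mk y) * gq := by
        rw [hy]; show gq⁻¹ * e (QuotientGroup.mk y) * (gq⁻¹)⁻¹ = _; rw [inv_inv]
      have hg' : (QuotientGroup.mk (g * k' * g⁻¹) : Spor.Co1) = e (QuotientGroup.mk y) := by
        rw [QuotientGroup.mk_mul, QuotientGroup.mk_mul, QuotientGroup.mk_inv, hy']
        show gq * (gq⁻¹ * e (QuotientGroup.mk y) * gq) * gq⁻¹ = _
        group
      have := h4 y (g * k' * g⁻¹) hg' (g • u) q hq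
      rwa [mul_smul, mul_smul, inv_smul_smul] at this
  have hbA : e' (QuotientGroup.mk (bC ^ k)) = QuotientGroup.mk CfsgLib.Trans3.heldA := by
    show gq⁻¹ * e (QuotientGroup.mk (bC ^ k)) * (gq⁻¹)⁻¹ = _
    have h1 : e (QuotientGroup.mk (bC ^ k)) = gq * QuotientGroup.mk CfsgLib.Trans3.heldA * gq⁻¹ := by
      rw [QuotientGroup.mk_pow, map_pow, ← ha']
      show _ = (QuotientGroup.mk g : Spor.Co1) * _ * _
      rw [← QuotientGroup.mk_inv, ← QuotientGroup.mk_mul, ← QuotientGroup.mk_mul, ← QuotientGroup.mk_pow]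
      congr 1
      have hac : a' = h * c * h⁻¹ := by simp only [c]; group
      rw [hac, conj_pow, hk']
      simp only [g]; group
    rw [h1]; group
  have hBeq : B = Subgroup.zpowers ((bC ^ k : Subgroup.centralizer ({z} : Set G)) : G) := by
    refine (Subgroup.eq_of_le_of_card_ge ?_ ?_).symm
    · rw [Subgroup.zpowers_le]
      exact B.pow_mem β.2 k
    · rw [hBp, Nat.card_zpowers, Subgroup.orderOf_coe, orderOf_pow, hbo,
        Nat.Coprime.gcd_eq_one ((Nat.Prime.coprime_iff_not_dvd (by norm_num)).2 hk7)]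
  set bb : ↥(Subgroup.centralizer ({z} : Set G)) := bC ^ k with hbb
  have hb7' : bb ^ 7 = 1 := by rw [hbb, ← pow_mul, mul_comm, pow_mul, hb7, one_pow]
  have hBdef : B = Subgroup.zpowers (bb : G) := hBeq
  have hbo' : orderOf (bb : G) = 7 := by rw [← Nat.card_zpowers, ← hBdef, hBp]
  have hBmem : ∀ c, c ∈ B ↔ ∃ i : ℤ, (bb : G) ^ i = c := fun c => by
    rw [hBdef, Subgroup.mem_zpowers_iff]
  set K := Subgroup.centralizer (B : Set G) with hKdef
  set N := Subgroup.normalizer (B : Set G) with hNdef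
  have hbB : (bb : G) ∈ B := (hBmem _).2 ⟨1, zpow_one _⟩
  have hK : ∀ c : G, c ∈ K ↔ (bb : G) * c = c * (bb : G) := fun c => by
    rw [hKdef, Subgroup.mem_centralizer_iff]
    refine ⟨fun h => h _ hbB, fun h d hd => ?_⟩
    obtain ⟨i, rfl⟩ := (hBmem _).1 hd
    exact (show Commute (bb : G) c from h).zpow_left i
  have hKN : K ≤ N := Subgroup.centralizer_le_normalizer _
  constructor
  · -- the automorphisms of `B` induced by the normaliser
    have hsurj : Function.Surjective (Subgroup.normalizerMonoidHom B) := by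
      intro σ
      obtain ⟨i, hi⟩ := (mem_powers_iff_mem_zpowers (x := (⟨bb, hbB⟩ : B))).2
        (show σ ⟨bb, hbB⟩ ∈ Subgroup.zpowers (⟨bb, hbB⟩ : B) by
          obtain ⟨j, hj⟩ := (hBmem _).1 (σ ⟨bb, hbB⟩).2
          exact ⟨j, Subtype.ext (by simpa using hj)⟩)
      have hi' : (bb : G) ^ i = (σ ⟨bb, hbB⟩ : G) := by simpa using congrArg Subtype.val hi
      have hi7 : i % 7 ≠ 0 := fun h0 => by
        rw [← pow_mod_orderOf, hbo', h0, pow_zero] at hi'
        have h1 : (⟨bb, hbB⟩ : B) = 1 := σ.injective ((Subtype.ext hi'.symm).trans (map_one σ).symm)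
        have h2 := congrArg Subtype.val h1
        rw [show (bb : G) = 1 from h2, orderOf_one] at hbo'
        omega
      obtain ⟨gA, hgA⟩ := CfsgLib.Trans3.held_conj_power i hi7
      obtain ⟨n, -, hn⟩ := CfsgLib.Trans3.held_lift hS hb7' hbA hgA
      have hn' : (n : G) * (bb : G) * (n : G)⁻¹ = (bb : G) ^ i := congrArg Subtype.val hn
      have hnN : (n : G) ∈ N := by
        refine Subgroup.mem_normalizer_iff_map_conj_eq.2 ?_
        rw [hBdef, MonoidHom.map_zpowers]
        have hmem : (MulAut.conj (n : G)).toMonoidHom (bb : G) ∈ Subgroup.zpowers (bb : G) := by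
          show (n : G) * (bb : G) * (n : G)⁻¹ ∈ _
          rw [hn']; exact Subgroup.pow_mem _ (Subgroup.mem_zpowers _) i
        refine Subgroup.eq_of_le_of_card_ge (Subgroup.zpowers_le.2 hmem) ?_
        rw [Nat.card_zpowers, Nat.card_zpowers]
        exact le_of_eq (MulEquiv.orderOf_eq (MulAut.conj (n : G)) _).symm
      refine ⟨⟨n, hnN⟩, MulEquiv.ext fun w => ?_⟩
      obtain ⟨j, hj⟩ := (hBmem _).1 w.2
      have hw : w = (⟨bb, hbB⟩ : B) ^ j := Subtype.ext (by simpa using hj.symm)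
      rw [hw, map_zpow, map_zpow]
      congr 1
      exact Subtype.ext (hn'.trans hi')
    have hidx : K.relIndex N = (Subgroup.normalizerMonoidHom B).ker.index := by
      rw [Subgroup.normalizerMonoidHom_ker]; rfl
    rw [hidx, Subgroup.index_ker, MonoidHom.range_eq_top.2 hsurj, Subgroup.card_top]
    haveI : IsCyclic B := isCyclic_of_prime_card hBp
    rw [IsCyclic.card_mulAut, hBp]
    decide
  · obtain ⟨t, ht2, htb⟩ := CfsgLib.Trans3.held_inverter hS hψ' hb7' hbA
    have hconjB : ∀ c ∈ B, t * c * t⁻¹ = c⁻¹ := by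
      intro c hc
      obtain ⟨i, rfl⟩ := (hBmem _).1 hc
      rw [← conj_zpow, htb, inv_zpow]
    have htB : ∀ c, t * c * t⁻¹ ∈ B ↔ c ∈ B := by
      have ht1 : t * t = 1 := by rw [← pow_two, ← ht2, pow_orderOf_eq_one]
      intro c
      refine ⟨fun h => ?_, fun h => by rw [hconjB c h]; exact B.inv_mem h⟩
      have h1 := hconjB _ h
      rw [show c = t * (t * c * t⁻¹) * t⁻¹ by
        calc c = (t * t) * c * (t * t)⁻¹ := by rw [ht1]; group
          _ = _ := by group, h1]
      exact B.inv_mem h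
    have htK : ∀ c, c ∈ K → t * c * t⁻¹ ∈ K := by
      intro c hc
      rw [hK] at hc ⊢
      have hc' : Commute (bb : G)⁻¹ c := (show Commute (bb : G) c from hc).inv_left
      have h1 : t * ((bb : G)⁻¹) * t⁻¹ = bb := by
        rw [← conj_inv, htb, inv_inv]
      calc (bb : G) * (t * c * t⁻¹) = t * ((bb : G)⁻¹ * c) * t⁻¹ := by
            conv_lhs => rw [← h1]
            group
        _ = t * (c * (bb : G)⁻¹) * t⁻¹ := by rw [hc'.eq]
        _ = t * c * t⁻¹ * bb := by
            conv_rhs => rw [← h1]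
            group
    have ht1 : t * t = 1 := by rw [← pow_two, ← ht2, pow_orderOf_eq_one]
    let τ : MulAut K :=
      { toFun := fun c => ⟨t * c * t⁻¹, htK c c.2⟩
        invFun := fun c => ⟨t * c * t⁻¹, htK c c.2⟩
        left_inv := fun c => Subtype.ext (by
          show t * (t * c * t⁻¹) * t⁻¹ = c
          calc t * (t * c * t⁻¹) * t⁻¹ = (t * t) * c * (t * t)⁻¹ := by group
            _ = c := by rw [ht1]; group)
        right_inv := fun c => Subtype.ext (by
          show t * (t * c * t⁻¹) * t⁻¹ = c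
          calc t * (t * c * t⁻¹) * t⁻¹ = (t * t) * c * (t * t)⁻¹ := by group
            _ = c := by rw [ht1]; group)
        map_mul' := fun c d => Subtype.ext (by
          show t * (c * d) * t⁻¹ = t * c * t⁻¹ * (t * d * t⁻¹)
          group) }
    set E := (Cfsg.layer ↥K).map K.subtype with hEdef
    haveI hEn : (Cfsg.layer ↥K).Normal := CfsgLib.Comp.layer_normal _
    have hτE : ∀ x ∈ E, t * x * t⁻¹ ∈ E := by
      rintro _ ⟨c, hc, rfl⟩
      refine ⟨τ c, ?_, rfl⟩
      have := CfsgLib.Comp.layer_map_equiv τ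
      exact this ▸ Subgroup.mem_map_of_mem τ.toMonoidHom hc
    refine ⟨t, ht2, hconjB, hτE, ?_⟩
    rintro ⟨l, hl, hlx⟩
    -- the centraliser of the layer
    set Bs := B.subgroupOf K
    have hBc : Bs ≤ Subgroup.center ↥K := fun c hc => Subgroup.mem_center_iff.2 fun d =>
      Subtype.ext (Subgroup.mem_centralizer_iff.1 d.2 c hc).symm
    haveI : Bs.Normal := ⟨fun c hc d => by
      rwa [Subgroup.mem_center_iff.1 (hBc hc) d, mul_inv_cancel_right]⟩
    have hX : Cfsg.IsOfHeldType (↥K ⧸ Bs) := by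
      have key : ∀ (B' : Subgroup G), B' = Subgroup.zpowers (bb : G) →
          ∀ [(B'.subgroupOf (Subgroup.centralizer (B' : Set G))).Normal],
          Cfsg.IsOfHeldType (↥(Subgroup.centralizer (B' : Set G)) ⧸ B'.subgroupOf (Subgroup.centralizer (B' : Set G))) := by
        rintro _ rfl hn'
        exact CfsgLib.Trans3.mon_held hS hψ' hb7' hbA (hn := hn')
      exact key B hBdef
    have hFK : Cfsg.fittingSubgroup ↥K ≤ Bs := by
      haveI : (Cfsg.fittingSubgroup ↥K).Normal := CfsgLib.Solvable.fittingSubgroup_normal _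
      haveI : Group.IsNilpotent (Cfsg.fittingSubgroup ↥K) := CfsgLib.Solvable.fittingSubgroup_isNilpotent
      have hle : (Cfsg.fittingSubgroup ↥K).map (QuotientGroup.mk' Bs) ≤ Cfsg.fittingSubgroup (↥K ⧸ Bs) :=
        le_sSup ⟨Subgroup.Normal.map inferInstance _ (QuotientGroup.mk'_surjective Bs),
          Group.nilpotent_of_surjective ((QuotientGroup.mk' Bs).subgroupMap _)
            ((QuotientGroup.mk' Bs).subgroupMap_surjective _)⟩
      rw [CfsgLib.Trans3.heldType_fitting hX, le_bot_iff, Subgroup.map_eq_bot_iff, QuotientGroup.ker_mk'] at hle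
      exact hle
    have hCE : ∀ c : ↥K, c ∈ Subgroup.centralizer (Cfsg.layer ↥K : Set ↥K) → c ∈ Bs := by
      intro c hc
      refine hFK (CfsgLib.Comp.centralizer_generalizedFitting_le_fitting ↥K ?_)
      have hF : Subgroup.zpowers c ≤ Subgroup.centralizer
          ((Cfsg.layer ↥K ⊔ Cfsg.fittingSubgroup ↥K : Subgroup ↥K) : Set ↥K) := by
        rw [Subgroup.le_centralizer_iff]
        refine sup_le ?_ ((hFK.trans hBc).trans (Subgroup.center_le_centralizer _))
        rw [← Subgroup.le_centralizer_iff]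
        exact Subgroup.zpowers_le.2 hc
      exact hF (Subgroup.mem_zpowers c)
    -- the element acting trivially
    obtain ⟨lK, hlK, rfl⟩ := hl
    set l : G := (lK : G)
    set u := l⁻¹ * t with hu
    have hlb : (bb : G) * l = l * bb := (hK l).1 lK.2
    have hub : u * (bb : G) * u⁻¹ = (bb : G)⁻¹ := by
      calc u * (bb : G) * u⁻¹ = l⁻¹ * (t * (bb : G) * t⁻¹) * l := by rw [hu]; group
        _ = l⁻¹ * ((bb : G)⁻¹ * l) := by rw [htb]; group
        _ = (bb : G)⁻¹ := by
          rw [((show Commute (bb : G) l from hlb).inv_left).eq]; group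
    refine CfsgLib.Trans3.held_outer hS hψ' hb7' hbA (u := u) hub fun c hc => ?_
    rw [← hBdef]
    have hcK : c ∈ K := (hK c).2 hc
    have hucK : u * c * u⁻¹ ∈ K := by
      rw [show u * c * u⁻¹ = l⁻¹ * (t * c * t⁻¹) * l by rw [hu]; group]
      exact K.mul_mem (K.mul_mem (K.inv_mem lK.2) (htK c hcK)) lK.2
    have hfixE : ∀ w ∈ E, u * w * u⁻¹ = w := by
      intro w hw
      rw [show u * w * u⁻¹ = l⁻¹ * (t * w * t⁻¹) * l by rw [hu]; group, hlx w hw]
      show l⁻¹ * (l * w * l⁻¹) * l = w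
      group
    have hm : (⟨c, hcK⟩ : ↥K)⁻¹ * ⟨u * c * u⁻¹, hucK⟩ ∈ Bs := by
      refine hCE _ (Subgroup.mem_centralizer_iff.2 fun e' he' => ?_)
      have hw : (e' : G) ∈ E := Subgroup.mem_map_of_mem _ he'
      have hcw : c * (e' : G) * c⁻¹ ∈ E :=
        ⟨⟨c, hcK⟩ * e' * ⟨c, hcK⟩⁻¹, hEn.conj_mem _ he' _, rfl⟩
      have h1 : u * (c * (e' : G) * c⁻¹) * u⁻¹ = c * (e' : G) * c⁻¹ := hfixE _ hcw
      have h2 := hfixE _ hw
      refine Subtype.ext ?_
      show (e' : G) * (c⁻¹ * (u * c * u⁻¹)) = c⁻¹ * (u * c * u⁻¹) * (e' : G)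
      calc (e' : G) * (c⁻¹ * (u * c * u⁻¹)) = c⁻¹ * (c * (e' : G) * c⁻¹) * (u * c * u⁻¹) := by group
        _ = c⁻¹ * (u * (c * (e' : G) * c⁻¹) * u⁻¹) * (u * c * u⁻¹) := by rw [h1]
        _ = c⁻¹ * (u * c * u⁻¹) * (u * (e' : G) * u⁻¹) := by group
        _ = c⁻¹ * (u * c * u⁻¹) * (e' : G) := by rw [h2]
    exact hm

end Cfsg.Agent.S5418
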