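import Cfsg.Statements.S5420
import Cfsg.Agent.Lib.Trans3.Large
import Cfsg.Agent.Lib.Comp.Subnormal
import Cfsg.Agent.Lib.Amalgam.PCore

set_option autoImplicit false
open Cfsg

namespace Cfsg.Agent.S5420

/-- Let Q be an extraspecial 2-subgroup of the finite group G whose centralizer in G is its centre Z and which is normal in the centralizer of Z. If Z lies in the largest normal 2-subgroup of G, then Q is a large extraspecial 2-subgroup of G: it normalizes no non-trivial subgroup of G of odd order. -/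
theorem result {G : Type*} [Group G] [Finite G] (Q : Subgroup G) (hL1 : Cfsg.IsExtraspecial 2 ↥Q) (hL2 : Subgroup.centralizer (Q : Set G) = ((Subgroup.center ↥Q).map Q.subtype)) (hL3 : Subgroup.centralizer (((Subgroup.center ↥Q).map Q.subtype) : Set G) ≤ Subgroup.normalizer (Q : Set G)) (hZ : ((Subgroup.center ↥Q).map Q.subtype) ≤ Cfsg.pCore 2 G) : Cfsg.IsLargeExtraspecial Q := by
  refine ⟨hL1, hL2, hL3, fun K hK hQK => ?_⟩
  obtain ⟨z, hz, hzQ, hzc, hZ'⟩ := CfsgLib.Trans3.exists_centre_gen hL1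
  rw [hZ'] at hZ hL3 hL2
  have hzO : z ∈ Cfsg.pCore 2 G := hZ (Subgroup.mem_zpowers z)
  have hnO : (Cfsg.pCore 2 G).Normal := by
    exact CfsgLib.Amalgam.normal_pCore
  have h2 : ∀ x ∈ K, x ∈ Cfsg.pCore 2 G → x = 1 := by
    intro x hx hxO
    obtain ⟨k, hk⟩ := CfsgLib.Comp.isPGroup_pCore 2 G ⟨x, hxO⟩
    have h1 : x ^ 2 ^ k = 1 := by simpa using congrArg Subtype.val hk
    have h2 : x ^ Nat.card K = 1 := orderOf_dvd_iff_pow_eq_one.1 (Subgroup.orderOf_dvd_natCard K hx)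
    have h3 : Nat.Coprime (2 ^ k) (Nat.card K) := (Nat.coprime_two_left.2 hK).pow_left k
    exact orderOf_eq_one_iff.1 (Nat.eq_one_of_dvd_coprimes h3 (orderOf_dvd_of_pow_eq_one h1)
      (orderOf_dvd_of_pow_eq_one h2))
  have hKC : ∀ k ∈ K, k ∈ Subgroup.centralizer ((Subgroup.zpowers z : Subgroup G) : Set G) := by
    intro k hk
    rw [CfsgLib.Trans3.centralizer_zpowers, Subgroup.mem_centralizer_singleton_iff]
    have hzk : z * k * z⁻¹ * k⁻¹ ∈ K :=
      mul_mem ((hQK hzQ k).1 hk) (inv_mem hk)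
    have hzO' : z * k * z⁻¹ * k⁻¹ ∈ Cfsg.pCore 2 G := by
      rw [show z * k * z⁻¹ * k⁻¹ = z * (k * z⁻¹ * k⁻¹) by group]
      exact mul_mem hzO (hnO.conj_mem _ (inv_mem hzO) k)
    have := h2 _ hzk hzO'
    rw [mul_inv_eq_one, mul_inv_eq_iff_eq_mul] at this
    exact this.symm
  -- `[K, Q] ≤ K ∩ Q = 1`
  rw [Subgroup.eq_bot_iff_forall]
  intro k hk
  have hkQ : k ∈ Subgroup.centralizer (Q : Set G) := by
    intro q hq
    have h1 : q * k * q⁻¹ * k⁻¹ ∈ K := mul_mem ((hQK hq k).1 hk) (inv_mem hk)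
    have h3 : k * q⁻¹ * k⁻¹ ∈ Q := (hL3 (hKC k hk) q⁻¹).1 (inv_mem hq)
    have h4 : q * k * q⁻¹ * k⁻¹ ∈ Q := by
      rw [show q * k * q⁻¹ * k⁻¹ = q * (k * q⁻¹ * k⁻¹) by group]
      exact mul_mem hq h3
    obtain ⟨n, hn⟩ := hL1.1.1 ⟨_, h4⟩
    have e1 : (q * k * q⁻¹ * k⁻¹) ^ 2 ^ n = 1 := by simpa using congrArg Subtype.val hn
    have e2 : (q * k * q⁻¹ * k⁻¹) ^ Nat.card K = 1 :=
      orderOf_dvd_iff_pow_eq_one.1 (Subgroup.orderOf_dvd_natCard K h1)
    have h5 := orderOf_eq_one_iff.1 (Nat.eq_one_of_dvd_coprimes ((Nat.coprime_two_left.2 hK).pow_left n)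
      (orderOf_dvd_of_pow_eq_one e1) (orderOf_dvd_of_pow_eq_one e2))
    rw [mul_inv_eq_one, mul_inv_eq_iff_eq_mul] at h5
    exact h5
  rw [hL2] at hkQ
  exact h2 k hk (hZ hkQ)

end Cfsg.Agent.S5420
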