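import Cfsg.Statements.S5423
import Cfsg.Agent.Lib.Trans3.LargeAffine

set_option autoImplicit false
open Cfsg

namespace Cfsg.Agent.S5423

/-- Let G be a finite group that is the split extension of an elementary abelian normal subgroup U of order 2^(n+1), n ≥ 1, by its full automorphism group: U has a complement M in G whose conjugation action on U is faithful and realizes every automorphism of U. Let Z be a subgroup of U of order 2 and Q the largest normal 2-subgroup of the centralizer C of Z. Then Q is extraspecial of order 2^(2n+1) with an elementary abelian subgroup of order 2^(n+1) (plus type), Q is a large extraspecial 2-subgroup of G, and C is the split extension of Q by the general linear group of degree n over the field with two elements. -/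
theorem result {G : Type*} [Group G] [Finite G] (n : ℕ) (hn : 1 ≤ n) (U M : Subgroup G) [U.Normal] (hU : Cfsg.IsElementaryAbelian 2 U) (hUcard : Nat.card ↥U = 2 ^ (n + 1)) (hUM : U ⊓ M = ⊥) (hUM' : U ⊔ M = ⊤) (hfaith : ∀ m ∈ M, (∀ u ∈ U, m * u * m⁻¹ = u) → m = 1) (hfull : ∀ φ : ↥U ≃* ↥U, ∃ m ∈ M, ∀ u : ↥U, ((φ u : ↥U) : G) = m * u * m⁻¹) (Z : Subgroup G) (hZU : Z ≤ U) (hZ : Nat.card ↥Z = 2) (Q : Subgroup G) (hQ : Q = (Cfsg.pCore 2 ↥(Subgroup.centralizer (Z : Set G))).map (Subgroup.centralizer (Z : Set G)).subtype) : Cfsg.IsExtraspecial 2 ↥Q ∧ Nat.card ↥Q = 2 ^ (2 * n + 1) ∧ (∃ E : Subgroup G, E ≤ Q ∧ Cfsg.IsElementaryAbelian 2 E ∧ Nat.card ↥E = 2 ^ (n + 1)) ∧ Cfsg.IsLargeExtraspecial Q ∧ ∃ K : Subgroup G, K ≤ Subgroup.centralizer (Z : Set G) ∧ Q ⊓ K = ⊥ ∧ Q ⊔ K = Subgroup.centralizer (Z : Set G) ∧ Nonempty (↥K ≃* Matrix.GeneralLinearGroup (Fin n) (ZMod 2)) := by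
  open CfsgLib.Trans3.LargeAffine in
  open Matrix in
  classical
  have : Fact (Nat.Prime 2) := ⟨Nat.prime_two⟩
  have hUc : IsMulCommutative ↥U := hU.1
  let _ : CommGroup ↥U := { (inferInstance : Group ↥U) with mul_comm := fun a b => hU.1.is_comm.comm a b }
  have h2 : ∀ x : Additive ↥U, 2 • x = 0 := fun x => Subtype.ext (hU.2 _ (Additive.toMul x).2)
  let _ : Module (ZMod 2) (Additive ↥U) := AddCommGroup.zmodModule h2
  have hrank : Module.finrank (ZMod 2) (Additive ↥U) = n + 1 := by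
    have h := Module.natCard_eq_pow_finrank (K := ZMod 2) (V := Additive ↥U)
    rw [Nat.card_zmod, show Nat.card (Additive ↥U) = Nat.card ↥U from rfl, hUcard] at h
    exact (Nat.pow_right_injective le_rfl h).symm
  let e₁ : Additive ↥U ≃ₗ[ZMod 2] (Fin (n + 1) → ZMod 2) :=
    (Module.finBasisOfFinrankEq (ZMod 2) (Additive ↥U) hrank).equivFun
  obtain ⟨⟨zz, hzz⟩, hzz1⟩ : ∃ zz : ↥Z, zz ≠ 1 := by
    have : Nontrivial ↥Z := Finite.one_lt_card_iff_nontrivial.1 (by omega)
    exact exists_ne _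
  have hz1 : zz ≠ 1 := fun e => hzz1 (Subtype.ext e)
  have hZc : Subgroup.centralizer (Z : Set G) = Subgroup.centralizer ({zz} : Set G) := by
    refine le_antisymm (Subgroup.centralizer_le (by simpa using hzz)) fun g hg => ?_
    refine Subgroup.mem_centralizer_iff.2 fun y hy => ?_
    obtain ⟨y', hy', huniq⟩ := Nat.card_eq_two_iff' (1 : ↥Z) |>.1 hZ
    by_cases h : y = 1
    · rw [h, one_mul, mul_one]
    · have e1 : (⟨y, hy⟩ : ↥Z) = y' := huniq _ fun e => h (congrArg Subtype.val e)
      have e2 : (⟨zz, hzz⟩ : ↥Z) = y' := huniq _ hzz1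
      rw [show y = zz from congrArg Subtype.val (e1.trans e2.symm)]
      exact (Subgroup.mem_centralizer_singleton_iff.1 hg).symm
  obtain ⟨h, hh⟩ := CfsgLib.Trans3.LargeLinear.exists_gl_map
    (w := e₁ (Additive.ofMul ⟨zz, hZU hzz⟩)) (u := e0 n)
    (fun e => hz1 (congrArg (fun t : Additive ↥U => ((Additive.toMul t : ↥U) : G))
      (e₁.injective (e.trans e₁.map_zero.symm))))
    (fun e => one_ne_zero (congrFun e 0 : (1 : ZMod 2) = 0))
  let e₂ : (Fin (n + 1) → ZMod 2) ≃ₗ[ZMod 2] (Fin (n + 1) → ZMod 2) :=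
    LinearMap.GeneralLinearGroup.toLinearEquiv (GeneralLinearGroup.toLin h)
  let ee : Additive ↥U ≃ₗ[ZMod 2] (Fin (n + 1) → ZMod 2) := e₁.trans e₂
  let em : ↥U ≃* Multiplicative (Fin (n + 1) → ZMod 2) :=
    { toFun := fun u => Multiplicative.ofAdd (ee (Additive.ofMul u))
      invFun := fun w => Additive.toMul (ee.symm (Multiplicative.toAdd w))
      left_inv := fun u => by simp
      right_inv := fun w => by simp
      map_mul' := fun u v => by simp }
  let ε : Multiplicative (Fin (n + 1) → ZMod 2) →* G := U.subtype.comp em.symm.toMonoidHom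
  have hεi : Function.Injective ε := U.subtype_injective.comp em.symm.injective
  have hεr : ε.range = U := by
    refine le_antisymm ?_ fun u hu => ⟨em ⟨u, hu⟩, ?_⟩
    · rintro _ ⟨w, rfl⟩; exact (em.symm w).2
    · show ((em.symm (em ⟨u, hu⟩) : ↥U) : G) = u
      rw [MulEquiv.symm_apply_apply]
  have hεz : ε (Multiplicative.ofAdd (e0 n)) = zz := by
    have : em ⟨zz, hZU hzz⟩ = Multiplicative.ofAdd (e0 n) := congrArg Multiplicative.ofAdd hh
    rw [← this]
    show ((em.symm (em ⟨zz, hZU hzz⟩) : ↥U) : G) = zz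
    rw [MulEquiv.symm_apply_apply]
  let lin : GL (Fin (n + 1)) (ZMod 2) → (Multiplicative (Fin (n + 1) → ZMod 2) ≃* Multiplicative (Fin (n + 1) → ZMod 2)) :=
    fun A => AddEquiv.toMultiplicative
      (LinearMap.GeneralLinearGroup.toLinearEquiv (GeneralLinearGroup.toLin A)).toAddEquiv
  have hm : ∀ A, ∃ m ∈ M, ∀ w, m * ε w * m⁻¹ = ε (lin A w) := fun A => by
    obtain ⟨m, hm, he⟩ := hfull (em.trans ((lin A).trans em.symm))
    refine ⟨m, hm, fun w => ?_⟩
    have := he (em.symm w)
    simp only [MulEquiv.trans_apply, MulEquiv.apply_symm_apply] at this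
    exact this.symm
  choose μ hμM hμ using hm
  have huniq : ∀ m ∈ M, ∀ m' ∈ M, (∀ w, m * ε w * m⁻¹ = m' * ε w * m'⁻¹) → m = m' := by
    intro m hm m' hm' he
    refine mul_left_cancel (a := m'⁻¹) ?_
    rw [inv_mul_cancel]
    refine hfaith _ (mul_mem (inv_mem hm') hm) fun u hu => ?_
    obtain ⟨w, rfl⟩ := hεr.ge hu
    calc m'⁻¹ * m * ε w * (m'⁻¹ * m)⁻¹ = m'⁻¹ * (m * ε w * m⁻¹) * m' := by group
      _ = ε w := by rw [he w]; group
  have hlin : ∀ A w, lin A (Multiplicative.ofAdd w) =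
      Multiplicative.ofAdd ((A : Matrix (Fin (n + 1)) (Fin (n + 1)) (ZMod 2)) *ᵥ w) := fun A w => rfl
  have hμmul : ∀ A A', μ (A * A') = μ A * μ A' := fun A A' => by
    refine huniq _ (hμM _) _ (mul_mem (hμM A) (hμM A')) fun w => ?_
    rw [hμ, show μ A * μ A' * ε w * (μ A * μ A')⁻¹ = μ A * (μ A' * ε w * (μ A')⁻¹) * (μ A)⁻¹ by group, hμ, hμ]
    congr 1
    obtain ⟨w, rfl⟩ := Multiplicative.ofAdd.surjective w
    rw [hlin, hlin, hlin, Units.val_mul, mulVec_mulVec]
  have hC : ∀ g : G, g ∈ Subgroup.centralizer ({zz} : Set G) ↔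
      ∃ (w : Fin (n + 1) → ZMod 2) (A : GL (Fin (n + 1)) (ZMod 2)),
        (A : Matrix (Fin (n + 1)) (Fin (n + 1)) (ZMod 2)) *ᵥ e0 n = e0 n ∧ g = ε (Multiplicative.ofAdd w) * μ A := by
    intro g
    have hcomm : ∀ w, ε w * zz = zz * ε w := fun w => by
      rw [← hεz, ← map_mul, ← map_mul, mul_comm]
    constructor
    · intro hg
      have hgtop : g ∈ ((U ⊔ M : Subgroup G) : Set G) := by rw [hUM']; exact Subgroup.mem_top g
      rw [Subgroup.normal_mul] at hgtop
      obtain ⟨u, hu, m, hmM, rfl⟩ := hgtop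
      obtain ⟨w, rfl⟩ := hεr.ge hu
      let ψ : Multiplicative (Fin (n + 1) → ZMod 2) →* Multiplicative (Fin (n + 1) → ZMod 2) :=
        MonoidHom.mk' (fun v => em ⟨m * ε v * m⁻¹, (inferInstance : U.Normal).conj_mem _ (em.symm v).2 m⟩) fun v v' => by
          rw [← map_mul]
          congr 1
          refine Subtype.ext ?_
          show m * ε (v * v') * m⁻¹ = m * ε v * m⁻¹ * (m * ε v' * m⁻¹)
          rw [map_mul]; group
      have hψ : ∀ v, ε (ψ v) = m * ε v * m⁻¹ := fun v => by
        show ((em.symm (em _) : ↥U) : G) = _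
        rw [MulEquiv.symm_apply_apply]
      have hψi : Function.Injective ψ := fun v v' e => hεi (by
        have := (hψ v).symm.trans ((congrArg ε e).trans (hψ v'))
        exact mul_left_cancel (mul_right_cancel this))
      let L : (Fin (n + 1) → ZMod 2) →ₗ[ZMod 2] (Fin (n + 1) → ZMod 2) :=
        (AddMonoidHom.mk' (fun v => Multiplicative.toAdd (ψ (Multiplicative.ofAdd v)))
          (fun v v' => congrArg Multiplicative.toAdd (map_mul ψ (Multiplicative.ofAdd v) (Multiplicative.ofAdd v')))).toZModLinearMap 2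
      have hLi : Function.Injective L := fun v v' e => Multiplicative.ofAdd.injective (hψi (Multiplicative.toAdd.injective e))
      let Le := LinearEquiv.ofInjectiveEndo L hLi
      let A : GL (Fin (n + 1)) (ZMod 2) :=
        ⟨LinearMap.toMatrix' Le.toLinearMap, LinearMap.toMatrix' Le.symm.toLinearMap,
          by rw [← LinearMap.toMatrix'_comp, LinearEquiv.comp_coe, LinearEquiv.symm_trans_self,
            LinearEquiv.refl_toLinearMap, LinearMap.toMatrix'_id],
          by rw [← LinearMap.toMatrix'_comp, LinearEquiv.comp_coe, LinearEquiv.self_trans_symm,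
            LinearEquiv.refl_toLinearMap, LinearMap.toMatrix'_id]⟩
      have hA : ∀ v, (A : Matrix (Fin (n + 1)) (Fin (n + 1)) (ZMod 2)) *ᵥ v = L v := fun v => by
        show LinearMap.toMatrix' Le.toLinearMap *ᵥ v = L v
        rw [LinearMap.toMatrix'_mulVec]
        rfl
      have hmA : μ A = m := huniq _ (hμM A) _ hmM fun v => by
        rw [hμ, ← hψ]
        obtain ⟨v, rfl⟩ := Multiplicative.ofAdd.surjective v
        rw [hlin, hA]
        rfl
      refine ⟨Multiplicative.toAdd w, A, ?_, by rw [hmA]; rfl⟩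
      have hg' := Subgroup.mem_centralizer_singleton_iff.1 hg
      have hmz : m * zz * m⁻¹ = zz := by
        have h1 : ε w * (m * zz) = ε w * (zz * m) := by
          rw [← mul_assoc, hg', ← mul_assoc, ← hcomm, mul_assoc]
        rw [mul_left_cancel h1, mul_inv_cancel_right]
      have h2 : ε (ψ (Multiplicative.ofAdd (e0 n))) = ε (Multiplicative.ofAdd (e0 n)) := by
        rw [hψ, hεz, hmz]
      rw [hA]
      exact Multiplicative.ofAdd.injective (hεi h2)
    · rintro ⟨w, A, hA, rfl⟩
      refine Subgroup.mem_centralizer_singleton_iff.2 ?_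
      have h1 := hμ A (Multiplicative.ofAdd (e0 n))
      rw [hlin, hA, hεz] at h1
      rw [mul_assoc, show μ A * zz = zz * μ A by
        calc μ A * zz = μ A * zz * (μ A)⁻¹ * μ A := by group
          _ = zz * μ A := by rw [h1], ← mul_assoc, hcomm, mul_assoc]
  rw [hZc] at hQ ⊢
  exact structure_affine zz hn ε hεi μ (fun A A' _ _ => hμmul A A') (fun A _ w => by rw [hμ, hlin]) hεz hC
    (fun a _ _ => by rw [hεr, Subgroup.normalizer_eq_top (H := U)]; exact le_top) Q hQ

end Cfsg.Agent.S5423
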