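import Cfsg.Statements.S5426
import Cfsg.Agent.Lib.PLocal.LargeExtraStructure

set_option autoImplicit false
open Cfsg

namespace Cfsg.Agent.S5426

/-- Let Q be a large extraspecial 2-subgroup of the finite group G (extraspecial; centralizer equal to its centre; normal in the centralizer of its centre; normalizing no non-trivial subgroup of odd order) with centre generated by z, and let M be the normal closure of z in G. Then one of the following holds: Q is normal in G; or M is abelian and the generalized Fitting subgroup of G is its largest normal 2-subgroup; or M is the generalized Fitting subgroup of G and is a non-abelian simple group; or M is the generalized Fitting subgroup of G and is the direct product of a non-abelian simple subgroup L and its conjugate u L u⁻¹ by some u in Q (the two meet trivially and commute elementwise), with z = z₁ (u z₁ u⁻¹) for some z₁ in L whose centralizer in L is a Sylow 2-subgroup of L with Frattini subgroup inside the subgroup generated by z₁, and Q is not the largest normal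 2-subgroup of the centralizer of z. -/
theorem result {G : Type*} [Group G] [Finite G] (Q : Subgroup G) (hQ : Cfsg.IsLargeExtraspecial Q) (z : G) (hz : ((Subgroup.center ↥Q).map Q.subtype) = Subgroup.zpowers z) (M : Subgroup G) (hM : M = Subgroup.normalClosure ({z} : Set G)) : Q.Normal ∨ (IsMulCommutative ↥M ∧ Cfsg.generalizedFittingSubgroup G = Cfsg.pCore 2 G) ∨ (M = Cfsg.generalizedFittingSubgroup G ∧ IsSimpleGroup ↥M ∧ ¬ IsMulCommutative ↥M) ∨ (M = Cfsg.generalizedFittingSubgroup G ∧ ∃ (L : Subgroup G) (u : G), u ∈ Q ∧ IsSimpleGroup ↥L ∧ ¬ IsMulCommutative ↥L ∧ L ⊓ (L).map (MulAut.conj u).toMonoidHom = ⊥ ∧ (∀ x ∈ L, ∀ y ∈ (L).map (MulAut.conj u).toMonoidHom, x * y = y * x) ∧ L ⊔ (L).map (MulAut.conj u).toMonoidHom = M ∧ ∃ z₁ ∈ L, z = z₁ * (u * z₁ * u⁻¹) ∧ (∃ R : Sylow 2 ↥L, (R : Subgroup ↥L) = (Subgroup.centralizer ({z₁} : Set G)).subgroupOf L ∧ (frattini ↥(R : Subgroup ↥L)).map ((L.subtype).comp (R : Subgroup ↥L).subtype) ≤ Subgroup.zpowers z₁) ∧ Q ≠ (Cfsg.pCore 2 ↥(Subgroup.centralizer ({z} : Set G))).map (Subgroup.centralizer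 ({z} : Set G)).subtype) := by
  obtain ⟨z', hz2', -, -, hz'⟩ := CfsgLib.Trans3.exists_centre_gen hQ.1
  have hz2 : orderOf z = 2 := by
    have e : Subgroup.zpowers z = Subgroup.zpowers z' := hz.symm.trans hz'
    rw [← Nat.card_zpowers, e, Nat.card_zpowers, hz2']
  have h := CfsgLib.PLocal.LargeExtra.pack_of_large hQ hz hz2
  subst hM
  by_cases hP : Cfsg.pCore 2 G = ⊥
  · obtain ⟨N, T, hN, hT, hzN, hC, hMN, hF⟩ := h.exists_socle hQ hP
    obtain ⟨hzT, htrans⟩ := h.factor_transitive hQ hT hC
    by_cases hfix : ∀ q ∈ Q, CfsgLib.Recog.cj q T = T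
    · refine Or.inr (Or.inr (Or.inl ?_))
      have hTN : T = N := le_antisymm hT.le (by
        rw [← hT.iSup_eq]
        refine iSup_le fun g => ?_
        obtain ⟨q, hq, e⟩ := htrans g
        rw [e, hfix q hq])
      rw [hMN, ← hTN]
      exact ⟨hTN.trans hF.symm, hT.simple, hT.nonabelian⟩
    · push Not at hfix
      obtain ⟨u, hu, hne⟩ := hfix
      obtain ⟨z₁, M⟩ := h.exists_moved hQ hT hC hzN hu hne
      refine Or.inr (Or.inr (Or.inr ⟨hMN.trans hF.symm, T, u, hu, hT.simple, hT.nonabelian, ?_, ?_, ?_,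
        z₁, M.mem₁, M.split_eq h htrans hzN, M.exists_sylow h, M.ne_pCore h htrans hN hzN⟩))
      · exact le_bot_iff.1 (hT.inf_centralizer ▸ inf_le_inf le_rfl M.move)
      · exact fun x hx y hy => Subgroup.mem_centralizer_iff.1 (M.move hy) x hx
      · rw [hMN]; exact M.sup_eq h htrans
  · exact Or.inr (Or.inl (h.two_core_case hQ hP))

end Cfsg.Agent.S5426
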