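import Cfsg.Statements.S5427
import Cfsg.Agent.Lib.PLocal.LargeExtraCriterion

set_option autoImplicit false
open Cfsg

namespace Cfsg.Agent.S5427

/-- Let z be an involution of the finite group G whose centralizer C has generalized Fitting subgroup Q, an extraspecial 2-group of width at least 2 (order 2^(2w+1), w ≥ 2). Let K be a subgroup of G such that the subgroup U generated by the K-conjugates of z is abelian and C is generated by the C-conjugates of U. Suppose that either some K-conjugate of z other than z lies in Q, or some element u of U ∩ Q outside the subgroup generated by z has z in the largest normal 2-subgroup of its centralizer. Then G is simple and Q is a large extraspecial 2-subgroup of G. -/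
theorem result {G : Type*} [Group G] [Finite G] (z : G) (hz : orderOf z = 2) (Q : Subgroup G) (hQC : Q ≤ Subgroup.centralizer ({z} : Set G)) (hF : (Cfsg.generalizedFittingSubgroup ↥(Subgroup.centralizer ({z} : Set G))).map (Subgroup.centralizer ({z} : Set G)).subtype = Q) (hQ : Cfsg.IsExtraspecial 2 ↥Q) (w : ℕ) (hw : 2 ≤ w) (hcard : Nat.card ↥Q = 2 ^ (2 * w + 1)) (K U : Subgroup G) (hU : U = Subgroup.closure {x : G | ∃ k ∈ K, x = k * z * k⁻¹}) (hUab : IsMulCommutative ↥U) (hgen : Subgroup.closure {x : G | ∃ c ∈ Subgroup.centralizer ({z} : Set G), ∃ u ∈ U, x = c * u * c⁻¹} = Subgroup.centralizer ({z} : Set G)) (h3 : (∃ k ∈ K, k * z * k⁻¹ ∈ Q ∧ k * z * k⁻¹ ≠ z) ∨ ∃ u ∈ U ⊓ Q, u ∉ Subgroup.zpowers z ∧ (∃ hz' : z ∈ Subgroup.centralizer ({u} : Set G), (⟨z, hz'⟩ : ↥(Subgroup.centralizer ({u} : Set G))) ∈ Cfsg.pCore 2 ↥(Subgroup.centralizer ({u} : Set G)))) : IsSimpleGroup G ∧ Cfsg.IsLargeExtraspecial Q := by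
  have h := CfsgLib.PLocal.LargeExtra.pack_of_fstar hz hQC hF hQ
  have hUM : U ≤ Subgroup.normalClosure ({z} : Set G) := by
    rw [hU, Subgroup.closure_le]
    rintro _ ⟨k, -, rfl⟩
    exact Subgroup.normalClosure_normal.conj_mem _ (Subgroup.subset_normalClosure (Set.mem_singleton z)) k
  have hCM : Subgroup.centralizer ({z} : Set G) ≤ Subgroup.normalClosure ({z} : Set G) := by
    rw [← hgen, Subgroup.closure_le]
    rintro _ ⟨c, -, u, hu, rfl⟩
    exact Subgroup.normalClosure_normal.conj_mem _ (hUM hu) c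
  have hlarge : Cfsg.IsLargeExtraspecial Q := by
    rcases h3 with ⟨k, -, hkQ, hkz⟩ | ⟨u, hu, huz, hzC, hzp⟩
    · exact h.isLarge_of_conj hkQ hkz
    · have hU2 : ∀ y ∈ U, y * y = 1 := by
        have hcomm : ∀ a ∈ U, ∀ b ∈ U, a * b = b * a := fun a ha b hb =>
          congrArg Subtype.val (hUab.is_comm.comm (⟨a, ha⟩ : ↥U) ⟨b, hb⟩)
        intro y hy
        rw [hU] at hy
        suffices key : y ∈ U ∧ y * y = 1 from key.2
        induction hy using Subgroup.closure_induction with
        | mem y hy =>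
          refine ⟨hU ▸ Subgroup.subset_closure hy, ?_⟩
          obtain ⟨k, -, rfl⟩ := hy
          rw [show k * z * k⁻¹ * (k * z * k⁻¹) = k * (z * z) * k⁻¹ by group, h.z_mul_z, mul_one,
            mul_inv_cancel]
        | one => exact ⟨one_mem _, mul_one 1⟩
        | mul a b _ _ ha hb =>
          refine ⟨mul_mem ha.1 hb.1, ?_⟩
          calc a * b * (a * b) = a * (b * a) * b := by group
            _ = (a * a) * (b * b) := by rw [← hcomm a ha.1 b hb.1]; group
            _ = 1 := by rw [ha.2, hb.2, mul_one]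
        | inv a _ ha => exact ⟨inv_mem ha.1, by rw [← mul_inv_rev, ha.2, inv_one]⟩
      exact h.isLarge hu.2 (fun e => huz (e ▸ one_mem _)) (fun e => huz (e ▸ Subgroup.mem_zpowers z))
        (hU2 u hu.1) (CfsgLib.Amalgam.isPGroup_pCoreOf (p := 2) (Subgroup.centralizer ({u} : Set G)))
        ⟨⟨z, hzC⟩, hzp, rfl⟩ (CfsgLib.Amalgam.le_normalizer_pCoreOf _)
  exact ⟨h.isSimpleGroup hlarge hQC hCM, hlarge⟩

end Cfsg.Agent.S5427
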