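import Cfsg.Statements.S5428
import Cfsg.Agent.Lib.PLocal.LargeExtraSection

set_option autoImplicit false
open Cfsg

namespace Cfsg.Agent.S5428

/-- Let z be an involution of the finite group G whose centralizer C has generalized Fitting subgroup Q extraspecial (as a 2-group), let A be a subgroup of C of odd order, and let R be the centralizer of A in Q; suppose R has order at least 32, the largest normal subgroup of odd order of the centralizer of the subgroup generated by A and R lies in A, the order of that centralizer is not divisible by 4, and g is an element of G with g z g⁻¹ in R but outside the centre Z of Q. Let M be the subgroup generated by A and the centralizer of A (A is normal in it). Then: the centralizer in M of the subgroup generated by R and A, joined with A, equals the subgroup generated by A and Z; the image of R in M/A is a large extraspecial 2-subgroup of M/A; and g z g⁻¹ is conjugate to z inside the subgroup generated by R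 and the centralizer of A in g Q g⁻¹. -/
theorem result {G : Type*} [Group G] [Finite G] (z : G) (hz : orderOf z = 2) (Q : Subgroup G) (hQC : Q ≤ Subgroup.centralizer ({z} : Set G)) (hF : (Cfsg.generalizedFittingSubgroup ↥(Subgroup.centralizer ({z} : Set G))).map (Subgroup.centralizer ({z} : Set G)).subtype = Q) (hQ : Cfsg.IsExtraspecial 2 ↥Q) (A : Subgroup G) (hA : A ≤ Subgroup.centralizer ({z} : Set G)) (hAodd : Odd (Nat.card ↥A)) (R : Subgroup G) (hR : R = Q ⊓ Subgroup.centralizer (A : Set G)) (hR32 : 32 ≤ Nat.card ↥R) (hO : (Cfsg.oddCore ↥(Subgroup.centralizer ((A ⊔ R : Subgroup G) : Set G))).map (Subgroup.centralizer ((A ⊔ R : Subgroup G) : Set G)).subtype ≤ A) (h4 : ¬ 4 ∣ Nat.card ↥(Subgroup.centralizer ((A ⊔ R : Subgroup G) : Set G))) (g : G) (hgR : g * z * g⁻¹ ∈ R) (hgZ : g * z * g⁻¹ ∉ ((Subgroup.center ↥Q).map Q.subtype)) (M : Subgroup G) (hM : M = Subgroup.centralizer (A : Set G) ⊔ A) [hn : (A.subgroupOf M).Normal] : (M ⊓ Subgroup.centralizer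 ((R ⊔ A : Subgroup G) : Set G)) ⊔ A = A ⊔ ((Subgroup.center ↥Q).map Q.subtype) ∧ Cfsg.IsLargeExtraspecial ((R.subgroupOf M).map (QuotientGroup.mk' (A.subgroupOf M))) ∧ ∃ x ∈ R ⊔ ((Q).map (MulAut.conj g).toMonoidHom ⊓ Subgroup.centralizer (A : Set G)), x * (g * z * g⁻¹) * x⁻¹ = z := by
  have h := CfsgLib.PLocal.LargeExtra.pack_of_fstar hz hQC hF hQ
  rw [h.cen] at hgZ ⊢
  have hgR' : g * z * g⁻¹ ∈ Q ∧ g * z * g⁻¹ ∈ Subgroup.centralizer (A : Set G) :=
    Subgroup.mem_inf.1 (hR ▸ hgR)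
  have hx1 : g * z * g⁻¹ ≠ 1 := (h.map g).z_ne
  have hxz : g * z * g⁻¹ ≠ z := fun e => hgZ (e.symm ▸ Subgroup.mem_zpowers z)
  have hAN : A ≤ Subgroup.normalizer (Q : Set G) := hA.trans h.norm
  have hzA : z ∈ Subgroup.centralizer (A : Set G) := Subgroup.mem_centralizer_iff.2 fun a ha =>
    Subgroup.mem_centralizer_singleton_iff.1 (hA ha)
  have hzR : z ∈ R := hR ▸ ⟨h.mem, hzA⟩
  have hRA : R ≤ Subgroup.centralizer (A : Set G) := hR ▸ inf_le_right
  have hRQ : R ≤ Q := hR ▸ inf_le_left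
  have hMC : Subgroup.centralizer (A : Set G) ≤ M := hM ▸ le_sup_left
  have hzM : z ∈ M := hMC hzA
  -- the centraliser of `A R`
  obtain ⟨D, hD⟩ : ∃ D, D = Subgroup.centralizer ((A ⊔ R : Subgroup G) : Set G) := ⟨_, rfl⟩
  rw [← hD] at hO h4
  have hDA : D ≤ Subgroup.centralizer (A : Set G) :=
    hD ▸ Subgroup.centralizer_le (show (A : Set G) ⊆ (A ⊔ R : Subgroup G) from fun a ha => Subgroup.mem_sup_left ha)
  have hDz : ∀ d ∈ D, d * z = z * d := fun d hd =>
    (Subgroup.mem_centralizer_iff.1 (hD ▸ hd) z (Subgroup.mem_sup_right hzR)).symm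
  have hzD : z ∈ D := by
    have hle : A ⊔ R ≤ Subgroup.centralizer ({z} : Set G) := sup_le hA (hRQ.trans hQC)
    rw [hD]
    exact Subgroup.mem_centralizer_iff.2 fun y hy => Subgroup.mem_centralizer_singleton_iff.1 (hle hy)
  have hDle : D ≤ A ⊔ Subgroup.zpowers z :=
    (CfsgLib.PLocal.LargeExtra.exists_eq_mul_of_not_four_dvd hzD hz hDz h4).trans (sup_le_sup hO le_rfl)
  have hDeq : M ⊓ Subgroup.centralizer ((R ⊔ A : Subgroup G) : Set G) = D := by
    rw [sup_comm R A, ← hD]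
    exact inf_eq_right.2 (hDA.trans hMC)
  refine ⟨?_, ?_, ?_⟩
  · rw [hDeq]
    exact le_antisymm (sup_le hDle le_sup_left)
      (sup_le le_sup_right (Subgroup.zpowers_le.2 (Subgroup.mem_sup_left hzD)))
  · obtain ⟨f, hf⟩ : ∃ f, f = QuotientGroup.mk' (A.subgroupOf M) := ⟨_, rfl⟩
    rw [← hf]
    have hfs : Function.Surjective f := hf ▸ QuotientGroup.mk'_surjective _
    have hfk : ∀ {y : ↥M}, f y = 1 ↔ (y : G) ∈ A := by
      intro y
      rw [hf, QuotientGroup.mk'_apply, QuotientGroup.eq_one_iff, Subgroup.mem_subgroupOf]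
    have hfc : ∀ {y w : ↥M}, f y * f w = f w * f y ↔ (y : G) * w * (y : G)⁻¹ * (w : G)⁻¹ ∈ A := by
      intro y w
      rw [← mul_inv_eq_iff_eq_mul, ← mul_inv_eq_one, ← map_inv, ← map_inv, ← map_mul, ← map_mul,
        ← map_mul, hfk]
      rfl
    have hk : A.subgroupOf M = f.ker := by rw [hf, QuotientGroup.ker_mk']
    -- representatives in the centraliser of `A`
    have hlift : ∀ c : ↥M, ∃ c' : ↥M, (c' : G) ∈ Subgroup.centralizer (A : Set G) ∧ f c = f c' := by
      intro c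
      have hle : Subgroup.centralizer (A : Set G) ≤ Subgroup.normalizer (A : Set G) :=
        Subgroup.centralizer_le_normalizer _
      have hc : (c : G) ∈ ((Subgroup.centralizer (A : Set G) ⊔ A : Subgroup G) : Set G) := hM.le c.2
      rw [Subgroup.coe_mul_of_left_le_normalizer_right _ _ hle] at hc
      obtain ⟨c', hc', a, ha, e⟩ := Set.mem_mul.1 hc
      refine ⟨⟨c', hMC hc'⟩, hc', ?_⟩
      have haM : a ∈ M := hM ▸ Subgroup.mem_sup_right ha
      have : c = ⟨c', hMC hc'⟩ * ⟨a, haM⟩ := Subtype.ext e.symm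
      rw [this, map_mul, (hfk (y := ⟨a, haM⟩)).2 ha, mul_one]
    have hfix : ∀ {c y : G}, c ∈ Subgroup.centralizer (A : Set G) → y ∈ R →
        c * y * c⁻¹ * y⁻¹ ∈ A → c * y = y * c := by
      intro c y hc hy hcy
      obtain ⟨k, hk⟩ := h.ext.1.1 ⟨y, hRQ hy⟩
      exact CfsgLib.PLocal.LargeExtra.lift_fix hAodd hc (hRA hy) (congrArg Subtype.val hk) hcy
    have hQA : ∀ y ∈ Q, y ∈ A → y = 1 := fun y hyQ hyA => by
      obtain ⟨k, hk⟩ := h.ext.1.1 ⟨y, hyQ⟩
      exact CfsgLib.PLocal.LargeExtra.eq_one_of_odd_of_two_pow hAodd hyA (congrArg Subtype.val hk)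
    have hk' := h.map g
    obtain ⟨S, hS⟩ : ∃ S, S = (Q.map (MulAut.conj g).toMonoidHom) ⊓ Subgroup.centralizer (A : Set G) :=
      ⟨_, rfl⟩
    refine CfsgLib.PLocal.LargeExtra.isLarge_map f hfs (R.subgroupOf M) ⟨z, hzM⟩
      ⟨g * z * g⁻¹, hMC hgR'.2⟩ (S.subgroupOf M) ?_ hzR hgR (Subtype.ext h.z_mul_z)
      (Subtype.ext hk'.z_mul_z) ?_ ?_ ?_ ?_ ?_ ?_ ?_ ?_ ?_ ?_ ?_ ?_
    · exact (h.ext.1.1.to_le hRQ).of_equiv
        (Subgroup.subgroupOfEquivOfLe (hRA.trans hMC)).symm
    · exact fun e => h.z_ne (hQA z h.mem (hfk.1 e))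
    · exact fun e => hx1 (hQA _ hgR'.1 (hfk.1 e))
    · intro e
      have h1 : f (⟨g * z * g⁻¹, hMC hgR'.2⟩⁻¹ * ⟨z, hzM⟩) = 1 := by
        rw [map_mul, map_inv, e, inv_mul_cancel]
      exact hxz (inv_mul_eq_one.1 (hQA _ (mul_mem (inv_mem hgR'.1) h.mem) (hfk.1 h1)))
    · intro a ha
      replace ha : (a : G) ∈ R := ha
      refine hfc.2 ?_
      show (a : G) * z * (a : G)⁻¹ * z⁻¹ ∈ A
      rw [mul_inv_eq_iff_eq_mul.2 (h.comm_z (hRQ ha)), mul_inv_cancel]
      exact one_mem _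
    · intro a ha b hb
      replace ha : (a : G) ∈ R := ha
      replace hb : (b : G) ∈ R := hb
      rcases h.comm_cases (hRQ ha) (hRQ hb) with e | e
      · exact Or.inl (hfk.2 (show (a : G) * b * (a : G)⁻¹ * (b : G)⁻¹ ∈ A by rw [e]; exact one_mem _))
      · exact Or.inr (congrArg f (Subtype.ext e))
    · intro a ha
      replace ha : (a : G) ∈ R := ha
      rcases h.sq_cases (hRQ ha) with e | e
      · exact Or.inl (hfk.2 (show (a : G) * a ∈ A by rw [e]; exact one_mem _))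
      · exact Or.inr (congrArg f (Subtype.ext e))
    · intro a ha hab
      replace ha : (a : G) ∈ R := ha
      by_contra hne
      push Not at hne
      obtain ⟨q, hq, hqa⟩ := h.exists_noncommute_fixed hAN hAodd (y := (a : G)) (hR ▸ ha)
        (fun e => hne.1 (hfk.2 (e ▸ one_mem _))) (fun e => hne.2 (congrArg f (Subtype.ext e)))
      refine hqa ?_
      have h1 := hfc.1 (hab ⟨q, hMC hq.2⟩ (show q ∈ R from hR ▸ hq))
      exact (mul_inv_eq_iff_eq_mul.1 (mul_inv_eq_one.1 (hQA _ (mul_mem (mul_mem (mul_mem (hRQ ha) hq.1)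
        (inv_mem (hRQ ha))) (inv_mem hq.1)) h1))).symm
    · intro c hc
      obtain ⟨c', hc', e⟩ := hlift c
      rw [e] at hc ⊢
      have hcD : (c' : G) ∈ D := by
        rw [hD]
        refine Subgroup.le_centralizer_iff.1 (sup_le ?_ ?_ :
          A ⊔ R ≤ Subgroup.centralizer (Subgroup.zpowers (c' : G) : Set G)) (Subgroup.mem_zpowers _)
        · rw [CfsgLib.Trans3.centralizer_zpowers]
          exact fun a ha => Subgroup.mem_centralizer_singleton_iff.2 (Subgroup.mem_centralizer_iff.1 hc' a ha)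
        · rw [CfsgLib.Trans3.centralizer_zpowers]
          intro y hy
          refine Subgroup.mem_centralizer_singleton_iff.2 (hfix hc' hy ?_).symm
          have h1 := hfc.1 (hc ⟨y, hMC (hRA hy)⟩ hy).symm
          exact h1
      have hle : (A ⊔ Subgroup.zpowers z) ≤
          (((R.subgroupOf M).map f).comap f).map M.subtype := by
        refine sup_le (fun a ha => ?_) ?_
        · have haM : a ∈ M := hM ▸ Subgroup.mem_sup_right ha
          exact ⟨⟨a, haM⟩, by rw [SetLike.mem_coe, Subgroup.mem_comap, hfk.2 ha]; exact one_mem _, rfl⟩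
        · rw [Subgroup.zpowers_le]
          exact ⟨⟨z, hzM⟩, ⟨⟨z, hzM⟩, hzR, rfl⟩, rfl⟩
      obtain ⟨y, hy, hye⟩ := hle (hDle hcD)
      rw [← show y = c' from Subtype.ext hye]
      exact hy
    · intro c hc b hb
      obtain ⟨c', hc', e⟩ := hlift c
      rw [e] at hc
      rw [map_mul, map_mul, map_inv, e, ← map_inv, ← map_mul, ← map_mul]
      refine ⟨_, ?_, rfl⟩
      have hcz := hfix hc' hzR (hfc.1 hc)
      show (c' : G) * b * (c' : G)⁻¹ ∈ R
      rw [hR]
      exact Subgroup.mem_inf.2 ⟨(Subgroup.mem_normalizer_iff.1 (h.norm (Subgroup.mem_centralizer_singleton_iff.2 hcz))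
        _).1 (hRQ hb), mul_mem (mul_mem hc' (hRA hb)) (inv_mem hc')⟩
    · exact (hk'.ext.1.1.to_le (hS ▸ inf_le_left)).of_equiv
        (Subgroup.subgroupOfEquivOfLe ((hS ▸ inf_le_right : S ≤ Subgroup.centralizer (A : Set G)).trans hMC)).symm
    · exact hS ▸ ⟨h.mem_conj hgR'.1, hzA⟩
    · intro c hc n hn
      obtain ⟨c', hc', e⟩ := hlift c
      rw [e] at hc
      rw [map_mul, map_mul, map_inv, e, ← map_inv, ← map_mul, ← map_mul]
      refine ⟨_, ?_, rfl⟩
      have hcx := hfix hc' hgR (hfc.1 hc)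
      show (c' : G) * n * (c' : G)⁻¹ ∈ S
      have hn' : (n : G) ∈ S := hn
      rw [hS] at hn' ⊢
      exact Subgroup.mem_inf.2 ⟨(Subgroup.mem_normalizer_iff.1 (hk'.norm (Subgroup.mem_centralizer_singleton_iff.2 hcx))
        _).1 hn'.1, mul_mem (mul_mem hc' hn'.2) (inv_mem hc')⟩
  · have k := h.map g
    have hzT := h.mem_conj hgR'.1
    obtain ⟨q, hq, hqx⟩ := h.exists_noncommute_fixed hAN hAodd (y := g * z * g⁻¹) ⟨hgR'.1, hgR'.2⟩
      hx1 hxz
    have hAk : A ≤ Subgroup.normalizer ((Q.map (MulAut.conj g).toMonoidHom : Subgroup G) : Set G) :=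
      fun a ha => k.norm (Subgroup.mem_centralizer_singleton_iff.2
        (Subgroup.mem_centralizer_iff.1 hgR'.2 a ha))
    obtain ⟨r, hr, hrz⟩ := k.exists_noncommute_fixed hAk hAodd (y := z) ⟨hzT, hzA⟩ h.z_ne hxz.symm
    refine ⟨r⁻¹ * q, mul_mem (inv_mem (Subgroup.mem_sup_right hr)) (Subgroup.mem_sup_left (hR ▸ hq)), ?_⟩
    have e1 := h.conj_of_not_commute hq.1 hgR'.1 hqx
    have e2 := k.conj_of_not_commute hr.1 hzT hrz
    calc r⁻¹ * q * (g * z * g⁻¹) * (r⁻¹ * q)⁻¹ = r⁻¹ * (q * (g * z * g⁻¹) * q⁻¹) * r := by group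
      _ = r⁻¹ * (g * z * g⁻¹ * z) * r := by rw [e1, ← h.comm_z hgR'.1]
      _ = r⁻¹ * (r * z * r⁻¹) * r := by rw [e2]
      _ = z := by group

end Cfsg.Agent.S5428
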