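import Cfsg.Statements.S5429
import Cfsg.Agent.Lib.PLocal.LargeExtraSection

set_option autoImplicit false
open Cfsg

namespace Cfsg.Agent.S5429

/-- Let z be an involution of the finite group G with centralizer C whose generalized Fitting subgroup Q is extraspecial of width at least 3 (order 2^(2w+1), w ≥ 3); let g be an element of G with g z g⁻¹ in Q but outside the centre Z of Q, and t an involution lying in both Q and g Q g⁻¹ that is not conjugate to z; write P for the centralizer of t in Q and suppose that the elements of C acting trivially by conjugation on P modulo the subgroup generated by t and z are exactly the elements of Q. Then the image of P in the centralizer of t modulo the subgroup generated by t is a large extraspecial 2-subgroup there, and g z g⁻¹ is conjugate to z inside the subgroup generated by P and the centralizer of t in g Q g⁻¹. -/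
theorem result {G : Type*} [Group G] [Finite G] (z : G) (hz : orderOf z = 2) (Q : Subgroup G) (hQC : Q ≤ Subgroup.centralizer ({z} : Set G)) (hF : (Cfsg.generalizedFittingSubgroup ↥(Subgroup.centralizer ({z} : Set G))).map (Subgroup.centralizer ({z} : Set G)).subtype = Q) (hQ : Cfsg.IsExtraspecial 2 ↥Q) (w : ℕ) (hw : 3 ≤ w) (hcard : Nat.card ↥Q = 2 ^ (2 * w + 1)) (g : G) (hgQ : g * z * g⁻¹ ∈ Q) (hgZ : g * z * g⁻¹ ∉ ((Subgroup.center ↥Q).map Q.subtype)) (t : G) (ht : orderOf t = 2) (htQ : t ∈ Q ⊓ (Q).map (MulAut.conj g).toMonoidHom) (htz : ¬ IsConj z t) (P : Subgroup G) (hP : P = Q ⊓ Subgroup.centralizer ({t} : Set G)) (hCP : ∀ c ∈ Subgroup.centralizer ({z} : Set G), (∀ x ∈ P, ∃ y ∈ Subgroup.closure ({t, z} : Set G), c * x * c⁻¹ = x * y) ↔ c ∈ Q) [hn : ((Subgroup.zpowers t).subgroupOf (Subgroup.centralizer ({t} : Set G))).Normal] : Cfsg.IsLargeExtraspecial ((P.subgroupOf (Subgroup.centralizer ({t} : Set G))).map (QuotientGroup.mk' ((Subgroup.zpowers t).subgroupOf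 (Subgroup.centralizer ({t} : Set G))))) ∧ ∃ x ∈ P ⊔ ((Q).map (MulAut.conj g).toMonoidHom ⊓ Subgroup.centralizer ({t} : Set G)), x * (g * z * g⁻¹) * x⁻¹ = z := by
  have h := CfsgLib.PLocal.LargeExtra.pack_of_fstar hz hQC hF hQ
  rw [h.cen] at hgZ
  have k := h.map g
  have hzT := h.mem_conj hgQ
  obtain ⟨T, hT⟩ : ∃ T, T = (Q.map (MulAut.conj g).toMonoidHom) ⊓ Subgroup.centralizer ({t} : Set G) :=
    ⟨_, rfl⟩
  rw [← hT]
  have hxz : g * z * g⁻¹ ≠ z := fun e => hgZ (e.symm ▸ Subgroup.mem_zpowers z)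
  obtain ⟨htQ, htR⟩ := Subgroup.mem_inf.1 htQ
  have ht2 : t * t = 1 := CfsgLib.Trans3.invol_mul_self ht
  have ht1 : t ≠ 1 := CfsgLib.Trans3.invol_ne_one ht
  have htz' : t ≠ z := fun e => htz (e ▸ IsConj.refl z)
  have hxconj : IsConj z (g * z * g⁻¹) := isConj_iff.2 ⟨g, rfl⟩
  have htx : t ≠ g * z * g⁻¹ := fun e => htz (e ▸ hxconj)
  have hxc : z * (g * z * g⁻¹) = g * z * g⁻¹ * z := (h.comm_z hgQ).symm
  -- no element congruent to `z` or to the conjugate modulo `t` is conjugate to `z`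
  have hzt : ¬ IsConj z (z * t) := by
    obtain ⟨q, hq, hqt⟩ : ∃ q ∈ Q, q * t ≠ t * q := by
      by_contra hn
      push Not at hn
      rcases h.eq_of_central htQ fun b hb => (hn b hb).symm with e | e
      exacts [ht1 e, htz' e]
    exact fun e => htz (e.trans (isConj_iff.2 ⟨q, h.conj_of_not_commute hq htQ hqt⟩).symm)
  have hxt : ¬ IsConj z (g * z * g⁻¹ * t) := by
    obtain ⟨r, hr, hrt⟩ : ∃ r ∈ Q.map (MulAut.conj g).toMonoidHom, r * t ≠ t * r := by
      by_contra hn
      push Not at hn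
      rcases k.eq_of_central htR fun b hb => (hn b hb).symm with e | e
      exacts [ht1 e, htx e]
    exact fun e => htz (e.trans (isConj_iff.2 ⟨r, k.conj_of_not_commute hr htR hrt⟩).symm)
  have htzx : t ≠ z * (g * z * g⁻¹) := by
    obtain ⟨q, hq, hqx⟩ : ∃ q ∈ Q, q * (g * z * g⁻¹) ≠ g * z * g⁻¹ * q := by
      by_contra hn
      push Not at hn
      rcases h.eq_of_central hgQ fun b hb => (hn b hb).symm with e | e
      exacts [k.z_ne e, hxz e]
    exact fun e => htz (e ▸ hxconj.trans (isConj_iff.2 ⟨q, h.conj_of_not_commute hq hgQ hqx⟩))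
  have hPQ : P ≤ Q := hP ▸ inf_le_left
  have hPC : P ≤ Subgroup.centralizer ({t} : Set G) := hP ▸ inf_le_right
  have hTC : T ≤ Subgroup.centralizer ({t} : Set G) := hT ▸ inf_le_right
  have hTR : T ≤ Q.map (MulAut.conj g).toMonoidHom := hT ▸ inf_le_left
  have hzC : z ∈ Subgroup.centralizer ({t} : Set G) :=
    Subgroup.mem_centralizer_singleton_iff.2 (h.comm_z htQ).symm
  have hxC : g * z * g⁻¹ ∈ Subgroup.centralizer ({t} : Set G) :=
    Subgroup.mem_centralizer_singleton_iff.2 (k.comm_z htR).symm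
  have hzP : z ∈ P := hP ▸ ⟨h.mem, hzC⟩
  have hxP : g * z * g⁻¹ ∈ P := hP ▸ ⟨hgQ, hxC⟩
  have hzT' : z ∈ T := hT ▸ ⟨hzT, hzC⟩
  have hP4 : ∀ a ∈ P, (∀ b ∈ P, a * b = b * a) → a = 1 ∨ a = z ∨ a = t ∨ a = z * t :=
    fun a ha hab => h.eq_of_commute_centralizer htQ ⟨ht1, htz'⟩ ht2 (hPQ ha) fun p hp hpt =>
      hab p (hP ▸ ⟨hp, Subgroup.mem_centralizer_singleton_iff.2 hpt⟩)
  constructor
  · obtain ⟨f, hf⟩ : ∃ f, f = QuotientGroup.mk'
        ((Subgroup.zpowers t).subgroupOf (Subgroup.centralizer ({t} : Set G))) := ⟨_, rfl⟩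
    rw [← hf]
    have hfs : Function.Surjective f := hf ▸ QuotientGroup.mk'_surjective _
    have hfk : ∀ {y : ↥(Subgroup.centralizer ({t} : Set G))}, f y = 1 ↔ (y : G) = 1 ∨ (y : G) = t := by
      intro y
      rw [hf, QuotientGroup.mk'_apply, QuotientGroup.eq_one_iff, Subgroup.mem_subgroupOf]
      refine ⟨CfsgLib.Trans3.mem_zpowers_invol ht, ?_⟩
      rintro (e | e) <;> rw [e]
      exacts [one_mem _, Subgroup.mem_zpowers t]
    have hfc : ∀ {y w : ↥(Subgroup.centralizer ({t} : Set G))}, f y * f w = f w * f y →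
        (y : G) * w * (y : G)⁻¹ = w ∨ (y : G) * w * (y : G)⁻¹ = t * w := by
      intro y w e
      rw [← mul_inv_eq_iff_eq_mul, ← mul_inv_eq_one, ← map_inv, ← map_inv, ← map_mul, ← map_mul,
        ← map_mul, hfk] at e
      rcases e with e | e
      · exact Or.inl (mul_inv_eq_one.1 e)
      · exact Or.inr (mul_inv_eq_iff_eq_mul.1 e)
    have hcz : ∀ {c : ↥(Subgroup.centralizer ({t} : Set G))}, f c * f ⟨z, hzC⟩ = f ⟨z, hzC⟩ * f c →
        (c : G) * z = z * c := by
      intro c e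
      rcases hfc e with e | e
      · exact mul_inv_eq_iff_eq_mul.1 e
      · refine absurd (isConj_iff.2 ⟨(c : G), ?_⟩) hzt
        rw [e]; exact h.comm_z htQ
    refine CfsgLib.PLocal.LargeExtra.isLarge_map f hfs _ ⟨z, hzC⟩ ⟨g * z * g⁻¹, hxC⟩
      (T.subgroupOf (Subgroup.centralizer ({t} : Set G))) ?_ hzP hxP (Subtype.ext h.z_mul_z)
      (Subtype.ext k.z_mul_z) ?_ ?_ ?_ ?_ ?_ ?_ ?_ ?_ ?_ ?_ ?_ ?_
    · exact (h.ext.1.1.to_le hPQ).of_equiv (Subgroup.subgroupOfEquivOfLe hPC).symm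
    · intro e
      rcases hfk.1 e with e | e
      exacts [h.z_ne e, htz' e.symm]
    · intro e
      rcases hfk.1 e with e | e
      exacts [k.z_ne e, htx e.symm]
    · intro e
      have h1 : f (⟨g * z * g⁻¹, hxC⟩⁻¹ * ⟨z, hzC⟩) = 1 := by
        rw [map_mul, map_inv, e, inv_mul_cancel]
      rcases hfk.1 h1 with e' | e'
      · exact hxz (inv_mul_eq_one.1 e')
      · refine htzx (e'.symm.trans ?_)
        show (g * z * g⁻¹)⁻¹ * z = z * (g * z * g⁻¹)
        rw [inv_eq_of_mul_eq_one_right k.z_mul_z, hxc]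
    · intro a ha
      rw [← map_mul, ← map_mul]
      exact congrArg f (Subtype.ext (h.comm_z (hPQ ha)))
    · intro a ha b hb
      replace ha : (a : G) ∈ P := ha
      replace hb : (b : G) ∈ P := hb
      rcases h.comm_cases (hPQ ha) (hPQ hb) with e | e
      · exact Or.inl (hfk.2 (Or.inl e))
      · exact Or.inr (congrArg f (Subtype.ext e))
    · intro a ha
      replace ha : (a : G) ∈ P := ha
      rcases h.sq_cases (hPQ ha) with e | e
      · exact Or.inl (hfk.2 (Or.inl e))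
      · exact Or.inr (congrArg f (Subtype.ext e))
    · intro a ha hab
      replace ha : (a : G) ∈ P := ha
      have hcomm : ∀ b ∈ P, (a : G) * b = b * a := by
        intro b hb
        rcases hfc (hab ⟨b, hPC hb⟩ hb) with e | e
        · exact mul_inv_eq_iff_eq_mul.1 e
        · rcases h.comm_cases (hPQ ha) (hPQ hb) with e' | e'
          · exact mul_inv_eq_iff_eq_mul.1 (mul_inv_eq_one.1 e')
          · exact absurd ((mul_inv_eq_iff_eq_mul.2 e).symm.trans e') htz'
      rcases hP4 a ha hcomm with e | e | e | e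
      · exact Or.inl (hfk.2 (Or.inl e))
      · exact Or.inr (congrArg f (Subtype.ext e))
      · exact Or.inl (hfk.2 (Or.inr e))
      · refine Or.inr ?_
        rw [show a = ⟨z, hzC⟩ * ⟨t, Subgroup.mem_centralizer_singleton_iff.2 rfl⟩ from Subtype.ext e,
          map_mul, (hfk (y := ⟨t, Subgroup.mem_centralizer_singleton_iff.2 rfl⟩)).2 (Or.inr rfl), mul_one]
    · intro c hc
      have hc1 := hcz (hc ⟨z, hzC⟩ hzP).symm
      have hcQ : (c : G) ∈ Q := by
        refine (hCP c (Subgroup.mem_centralizer_singleton_iff.2 hc1)).1 fun b hb => ?_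
        rcases hfc (hc ⟨b, hPC hb⟩ hb).symm with e | e
        · exact ⟨1, one_mem _, by rw [mul_one]; exact e⟩
        · refine ⟨t, Subgroup.subset_closure (by simp), e.trans ?_⟩
          exact (Subgroup.mem_centralizer_singleton_iff.1 (hPC hb)).symm
      exact ⟨c, show (c : G) ∈ P from hP ▸ ⟨hcQ, c.2⟩, rfl⟩
    · intro c hc b hb
      refine ⟨_, ?_, rfl⟩
      show (c : G) * b * (c : G)⁻¹ ∈ P
      rw [hP]
      exact Subgroup.mem_inf.2 ⟨(Subgroup.mem_normalizer_iff.1 (h.norm (Subgroup.mem_centralizer_singleton_iff.2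
        (hcz hc))) _).1 (hPQ hb), mul_mem (mul_mem c.2 b.2) (inv_mem c.2)⟩
    · exact (k.ext.1.1.to_le hTR).of_equiv (Subgroup.subgroupOfEquivOfLe hTC).symm
    · exact hzT'
    · intro c hc n hn
      refine ⟨_, ?_, rfl⟩
      have hcx : (c : G) * (g * z * g⁻¹) = g * z * g⁻¹ * c := by
        rcases hfc hc with e | e
        · exact mul_inv_eq_iff_eq_mul.1 e
        · refine absurd (hxconj.trans (isConj_iff.2 ⟨(c : G), ?_⟩)) hxt
          rw [e]; exact k.comm_z htR
      show (c : G) * n * (c : G)⁻¹ ∈ T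
      rw [hT]
      exact Subgroup.mem_inf.2 ⟨(Subgroup.mem_normalizer_iff.1 (k.norm (Subgroup.mem_centralizer_singleton_iff.2
        hcx)) _).1 (hTR hn), mul_mem (mul_mem c.2 n.2) (inv_mem c.2)⟩
  · obtain ⟨q, hq, hqx⟩ : ∃ q ∈ P, q * (g * z * g⁻¹) ≠ g * z * g⁻¹ * q := by
      by_contra hn
      push Not at hn
      rcases hP4 _ hxP fun b hb => (hn b hb).symm with e | e | e | e
      · exact k.z_ne e
      · exact hxz e
      · exact htx e.symm
      · refine htzx ?_
        rw [e, ← mul_assoc, h.z_mul_z, one_mul]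
    obtain ⟨r, hr, hrz⟩ : ∃ r ∈ T, r * z ≠ z * r := by
      by_contra hn
      push Not at hn
      rcases k.eq_of_commute_centralizer htR ⟨ht1, htx⟩ ht2 hzT fun p hp hpt =>
        (hn p (hT ▸ ⟨hp, Subgroup.mem_centralizer_singleton_iff.2 hpt⟩)).symm with e | e | e | e
      · exact h.z_ne e
      · exact hxz e.symm
      · exact htz' e.symm
      · refine htzx ?_
        calc t = g * z * g⁻¹ * (g * z * g⁻¹) * t := by rw [k.z_mul_z, one_mul]
          _ = g * z * g⁻¹ * z := by rw [mul_assoc, ← e]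
          _ = z * (g * z * g⁻¹) := hxc.symm
    refine ⟨r⁻¹ * q, mul_mem (inv_mem (Subgroup.mem_sup_right hr)) (Subgroup.mem_sup_left hq), ?_⟩
    have e1 := h.conj_of_not_commute (hPQ hq) hgQ hqx
    have e2 := k.conj_of_not_commute (hTR hr) hzT hrz
    calc r⁻¹ * q * (g * z * g⁻¹) * (r⁻¹ * q)⁻¹ = r⁻¹ * (q * (g * z * g⁻¹) * q⁻¹) * r := by group
      _ = r⁻¹ * (r * z * r⁻¹) * r := by rw [e1, e2, hxc]
      _ = z := by group

end Cfsg.Agent.S5429
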