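import Cfsg.Statements.S5435
import Cfsg.Agent.Lib.Invol.Dihedral
import Cfsg.Agent.Lib.Transfer.Thompson
import Cfsg.Agent.Lib.Transfer.Frobenius
import Cfsg.Agent.Lib.StructC.BurnsideBasis
import Cfsg.Agent.Lib.Perm.SwappedPair

set_option autoImplicit false
open Cfsg

namespace Cfsg.Agent.S5435

/-- Let L be a finite non-abelian simple group with an involution z whose centralizer R is a Sylow 2-subgroup of L whose Frattini subgroup is the subgroup generated by z. Then R is dihedral of order 8. -/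
theorem result {L : Type*} [Group L] [Finite L] [IsSimpleGroup L] (hL : ¬ IsMulCommutative L) (z : L) (hz : orderOf z = 2) (R : Sylow 2 L) (hR : (R : Subgroup L) = Subgroup.centralizer ({z} : Set L)) (hΦ : (frattini ↥(R : Subgroup L)).map (R : Subgroup L).subtype = Subgroup.zpowers z) : Nonempty (↥(R : Subgroup L) ≃* DihedralGroup 4) := by
  classical
  haveI : Fact (Nat.Prime 2) := ⟨Nat.prime_two⟩
  obtain ⟨C, hCe⟩ : ∃ C, C = Subgroup.centralizer ({z} : Set L) := ⟨_, rfl⟩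
  rw [← hCe] at hR
  have hzz : z * z = 1 := by rw [← sq, ← hz, pow_orderOf_eq_one]
  have hz1 : z ≠ 1 := fun h => by rw [h, orderOf_one] at hz; norm_num at hz
  have hmemC : ∀ x, x ∈ C ↔ x * z = z * x := fun x => by
    rw [hCe, Subgroup.mem_centralizer_singleton_iff]
  have hzC : z ∈ C := (hmemC z).2 rfl
  -- squares and commutators lie in `⟨z⟩`
  have hfr : ∀ w : ↥(R : Subgroup L), w ∈ frattini ↥(R : Subgroup L) → (w : L) = 1 ∨ (w : L) = z := by
    intro w hw
    have h : (w : L) ∈ Subgroup.zpowers z := hΦ ▸ ⟨w, hw, rfl⟩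
    obtain ⟨k, hk⟩ := h
    rcases Int.even_or_odd k with ⟨j, rfl⟩ | ⟨j, rfl⟩
    · left
      rw [← hk]
      show z ^ (j + j) = 1
      rw [← two_mul, zpow_mul, zpow_two, hzz, one_zpow]
    · right
      rw [← hk]
      show z ^ (2 * j + 1) = z
      rw [zpow_add, zpow_mul, zpow_two, hzz, one_zpow, one_mul, zpow_one]
  have hsq : ∀ x ∈ C, x * x = 1 ∨ x * x = z := by
    intro x hx
    have h := hfr _ (CfsgLib.StructC.pow_mem_frattini R.2 ⟨x, hR ▸ hx⟩)
    simpa [sq] using h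
  have hcomm : ∀ x ∈ C, ∀ y ∈ C, x * y = y * x ∨ x * y = z * (y * x) := by
    intro x hx y hy
    have h := hfr _ (CfsgLib.StructC.comm_mem_frattini R.2
      ⟨x⁻¹, hR ▸ inv_mem hx⟩ ⟨y⁻¹, hR ▸ inv_mem hy⟩)
    simp only [Subgroup.coe_mul, InvMemClass.coe_inv, inv_inv] at h
    rcases h with h | h
    · left
      calc x * y = x * y * x⁻¹ * y⁻¹ * (y * x) := by group
        _ = y * x := by rw [h, one_mul]
    · right
      calc x * y = x * y * x⁻¹ * y⁻¹ * (y * x) := by group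
        _ = z * (y * x) := by rw [h]
  have hzc : ∀ x ∈ C, z * x = x * z := fun x hx => ((hmemC x).1 hx).symm
  have hsplit : ∀ x ∈ C, ∀ x' ∈ C, ∀ y ∈ C, x * y ≠ y * x → x' * y ≠ y * x' → x * x' * y = y * (x * x') := by
    intro x hx x' hx' y hy hxy hxy'
    have e1 := (hcomm x hx y hy).resolve_left hxy
    have e2 := (hcomm x' hx' y hy).resolve_left hxy'
    calc x * x' * y = x * (x' * y) := mul_assoc _ _ _
      _ = x * z * (y * x') := by rw [e2, ← mul_assoc]
      _ = z * x * (y * x') := by rw [hzc x hx]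
      _ = z * (x * y) * x' := by group
      _ = (z * z) * (y * (x * x')) := by rw [e1]; group
      _ = y * (x * x') := by rw [hzz, one_mul]
  -- the centre of `L` is trivial
  have hCtop : C ≠ ⊤ := by
    intro h
    have hzcen : z ∈ Subgroup.center L := Subgroup.mem_center_iff.2 fun g =>
      ((hmemC g).1 (h ▸ Subgroup.mem_top g))
    rcases (inferInstance : (Subgroup.center L).Normal).eq_bot_or_eq_top with hb | hb
    · rw [hb, Subgroup.mem_bot] at hzcen; exact hz1 hzcen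
    · exact hL ⟨⟨fun a b => (Subgroup.mem_center_iff.1 (hb ▸ Subgroup.mem_top a) b).symm⟩⟩
  have hnoindex : ∀ M : Subgroup L, M.Normal → M.index = 2 → ∀ u, u ∉ M → u * u = 1 → False := by
    intro M hM hM2 u huM huu
    rcases hM.eq_bot_or_eq_top with hb | hb
    · rw [hb, Subgroup.index_bot] at hM2
      haveI : IsCyclic L := isCyclic_of_prime_card (p := 2) hM2
      exact hL ⟨⟨fun a b => IsCyclic.commGroup.mul_comm a b⟩⟩
    · exact huM (hb ▸ Subgroup.mem_top u)
  have hnab : ∃ x ∈ C, ∃ y ∈ C, x * y ≠ y * x := by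
    by_contra hab
    push Not at hab
    have hN : Subgroup.normalizer ((R : Subgroup L) : Set L) ≤
        Subgroup.centralizer ((R : Subgroup L) : Set L) := by
      intro n hn
      have hnC : n ∈ C := by
        rw [hmemC, ← mul_inv_eq_iff_eq_mul]
        -- `z` is the only nontrivial Frattini element
        haveI : (frattini ↥(R : Subgroup L)).Characteristic := inferInstance
        obtain ⟨f, hf, hfz⟩ : z ∈ (frattini ↥(R : Subgroup L)).map (R : Subgroup L).subtype :=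
          hΦ.symm ▸ Subgroup.mem_zpowers z
        let c : ↥(R : Subgroup L) ≃* ↥(R : Subgroup L) :=
          Subgroup.normalizerMonoidHom (R : Subgroup L) ⟨n, hn⟩
        have hcf : c f ∈ frattini ↥(R : Subgroup L) := by
          have h := Subgroup.characteristic_iff_map_eq.1 (inferInstance :
            (frattini ↥(R : Subgroup L)).Characteristic) c
          exact h.le ⟨f, hf, rfl⟩
        have hval : (c f : L) = n * z * n⁻¹ := by rw [← hfz]; rfl
        rcases hfr _ hcf with h | h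
        · exact absurd (conj_eq_one_iff.1 (hval.symm.trans h)) hz1
        · exact hval.symm.trans h
      exact Subgroup.mem_centralizer_iff.2 fun y hy => hab y (hR ▸ hy) n hnC
    obtain ⟨Q, N, hN', hcompl⟩ := CfsgLib.Transfer.hasNormalPComplement_of_normalizer_le_centralizer R hN
    rcases hN'.eq_bot_or_eq_top with hb | hb
    · have h1 := hcompl.card_mul
      rw [hb, Subgroup.card_bot, one_mul, Q.card_eq_multiplicity, ← R.card_eq_multiplicity, hR] at h1
      exact hCtop (Subgroup.eq_top_of_card_eq C h1)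
    · have h1 := hcompl.card_mul
      rw [hb, Subgroup.card_top, Q.card_eq_multiplicity, ← R.card_eq_multiplicity, hR] at h1
      have h2 : Nat.card C = 1 := by
        have hpos : 0 < Nat.card L := Nat.card_pos
        exact Nat.eq_of_mul_eq_mul_left hpos (h1.trans (mul_one _).symm)
      have := (Subgroup.eq_bot_of_card_eq C h2) ▸ hzC
      exact hz1 (Subgroup.mem_bot.1 this)
  -- central elements are not fused
  obtain ⟨Cen, hCen⟩ : ∃ Cen : L → Prop, Cen = fun a => a ∈ C ∧ ∀ x ∈ C, a * x = x * a := ⟨_, rfl⟩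
  have hcdef : ∀ a, Cen a ↔ a ∈ C ∧ ∀ x ∈ C, a * x = x * a := fun a => by rw [hCen]
  have L0 : ∀ a b g, Cen a → Cen b → g * a * g⁻¹ = b → a = b := by
    intro a b g ha hb hg
    rw [hcdef] at ha hb
    have hcent : ∀ u, u ∈ C → (∀ x ∈ C, u * x = x * u) →
        u ∈ Subgroup.centralizer ((R : Subgroup L) : Set L) := fun u _ hu =>
      Subgroup.mem_centralizer_iff.2 fun y hy => (hu y (hR ▸ hy)).symm
    obtain ⟨n, hn, hne⟩ := R.conj_eq_normalizer_conj_of_mem_centralizer a g⁻¹ (hcent a ha.1 ha.2)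
      (by rw [inv_inv, hg]; exact hcent b hb.1 hb.2)
    rw [inv_inv, hg] at hne
    have hnC : n ∈ C := by
      rw [hmemC, ← mul_inv_eq_iff_eq_mul]
      obtain ⟨x, hx, y, hy, hxy⟩ := hnab
      have hzxy : z = x * y * (y * x)⁻¹ := by
        rw [(hcomm x hx y hy).resolve_left hxy, mul_inv_cancel_right]
      have hx' : n * x * n⁻¹ ∈ C := hR ▸ (Subgroup.mem_normalizer_iff.1 hn x).1 (hR ▸ hx)
      have hy' : n * y * n⁻¹ ∈ C := hR ▸ (Subgroup.mem_normalizer_iff.1 hn y).1 (hR ▸ hy)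
      have e : n * z * n⁻¹ =
          (n * x * n⁻¹) * (n * y * n⁻¹) * ((n * y * n⁻¹) * (n * x * n⁻¹))⁻¹ := by rw [hzxy]; group
      rcases hcomm _ hx' _ hy' with h | h
      · rw [h, mul_inv_cancel, conj_eq_one_iff] at e; exact absurd e hz1
      · rw [h, mul_inv_cancel_right] at e; exact e
    rw [hne, mul_assoc, ha.2 n hnC, inv_mul_cancel_left]
  have hzCen : Cen z := (hcdef z).2 ⟨hzC, hzc⟩
  have hCenmul : ∀ a b, Cen a → Cen b → Cen (a * b) := fun a b ha hb => by
    rw [hcdef] at ha hb ⊢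
    exact ⟨mul_mem ha.1 hb.1, fun x hx => by rw [mul_assoc, hb.2 x hx, ← mul_assoc, ha.2 x hx, mul_assoc]⟩
  -- noncentral conjugates of `z`
  obtain ⟨Zc, hZc⟩ : ∃ Zc : L → L → Prop,
      Zc = fun y g => y ∈ C ∧ ¬ Cen y ∧ g * y * g⁻¹ = z := ⟨_, rfl⟩
  have hzdef : ∀ y g, Zc y g ↔ y ∈ C ∧ ¬ Cen y ∧ g * y * g⁻¹ = z := fun y g => by rw [hZc]
  have hmk : ∀ y g, y ∈ C → g * y * g⁻¹ = z → y ≠ z → Zc y g := fun y g hy hg hne =>
    (hzdef y g).2 ⟨hy, fun hc => hne (L0 y z g hc hzCen hg), hg⟩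
  have hyy : ∀ y g, Zc y g → y * y = 1 := fun y g h => by
    have hg := ((hzdef y g).1 h).2.2
    calc y * y = g⁻¹ * ((g * y * g⁻¹) * (g * y * g⁻¹)) * g := by group
      _ = 1 := by rw [hg, hzz]; group
  have hi : ∀ y g, Zc y g → ∀ q ∈ C, q * y = y * q → q * q = 1 := by
    intro y g h q hq hqy
    obtain ⟨hy, hyc, hg⟩ := (hzdef y g).1 h
    have hqC : g * q * g⁻¹ ∈ C := by
      rw [hmemC, ← hg]
      calc g * q * g⁻¹ * (g * y * g⁻¹) = g * (q * y) * g⁻¹ := by group
        _ = g * (y * q) * g⁻¹ := by rw [hqy]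
        _ = g * y * g⁻¹ * (g * q * g⁻¹) := by group
    refine (hsq q hq).resolve_right fun hqz => ?_
    have hgz : g * z * g⁻¹ = g * q * g⁻¹ * (g * q * g⁻¹) := by rw [← hqz]; group
    rcases hsq _ hqC with h' | h' <;> rw [h'] at hgz
    · exact hz1 (conj_eq_one_iff.1 hgz)
    · have hgC : g ∈ C := (hmemC g).2 (mul_inv_eq_iff_eq_mul.1 hgz)
      refine hyc ?_
      have : y = z := by
        calc y = g⁻¹ * (g * y * g⁻¹) * g := by group
          _ = g⁻¹ * (z * g) := by rw [hg, mul_assoc]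
          _ = z := by rw [← (hmemC g).1 hgC, inv_mul_cancel_left]
      exact this ▸ hzCen
  have hii : ∀ y g, Zc y g → ∀ q ∈ C, ∀ q' ∈ C, q * y = y * q → q' * y = y * q' → q * q' = q' * q := by
    intro y g h q hq q' hq' e e'
    have e1 := hi y g h q hq e
    have e2 := hi y g h q' hq' e'
    have e3 := hi y g h (q * q') (mul_mem hq hq') (by rw [mul_assoc, e', ← mul_assoc, e, mul_assoc])
    calc q * q' = (q * q') * ((q' * q') * (q * q)) := by rw [e1, e2, mul_one, mul_one]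
      _ = (q * q') * q' * q' * q * q := by group
      _ = q' * q := by
          calc q * q' * q' * q' * q * q = q * (q' * q') * (q' * q) * q := by group
            _ = q * q' * (q * q) := by rw [e2]; group
            _ = (q * q')⁻¹ := by rw [e1, mul_one, inv_eq_of_mul_eq_one_right e3]
            _ = q' * q := by rw [mul_inv_rev, inv_eq_of_mul_eq_one_right e1, inv_eq_of_mul_eq_one_right e2]
  have hncen : ∀ y, y ∈ C → ¬ Cen y → ∃ r ∈ C, r * y ≠ y * r := fun y hy h => by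
    by_contra h'
    push Not at h'
    exact h ((hcdef y).2 ⟨hy, fun x hx => (h' x hx).symm⟩)
  have hiii : ∀ y g, Zc y g → ∀ q ∈ C, q * y = y * q → Cen q ∨ Cen (q * y) := by
    intro y g h q hq hqy
    obtain ⟨hy, hyc, hg⟩ := (hzdef y g).1 h
    obtain ⟨r, hr, hry⟩ := hncen y hy hyc
    have key : ∀ q ∈ C, q * y = y * q → r * q = q * r → Cen q := by
      intro q hq hqy hrq
      refine (hcdef q).2 ⟨hq, fun x hx => ?_⟩
      by_cases hxy : x * y = y * x
      · exact hii y g h q hq x hx hqy hxy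
      · have h1 := hsplit x hx r hr y hy hxy hry
        have h2 := hii y g h q hq (x * r) (mul_mem hx hr) hqy h1
        calc q * x = q * (x * r) * r⁻¹ := by group
          _ = x * (r * q) * r⁻¹ := by rw [h2]; group
          _ = x * q := by rw [hrq]; group
    by_cases hrq : r * q = q * r
    · exact Or.inl (key q hq hqy hrq)
    · refine Or.inr (key (q * y) (mul_mem hq hy) (by rw [mul_assoc, ← mul_assoc y q y, ← hqy, mul_assoc, ← mul_assoc]) ?_)
      exact (hsplit q hq y hy r hr (Ne.symm hrq) (Ne.symm hry)).symm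
  have hiv : ∀ y g, Zc y g → ∀ a, Cen a → g * a * g⁻¹ = a ∨ g * (a * z) * g⁻¹ = a * z := by
    intro y g h a ha
    obtain ⟨hy, hyc, hg⟩ := (hzdef y g).1 h
    obtain ⟨haC, hac⟩ := (hcdef a).1 ha
    have hy'C : g * z * g⁻¹ ∈ C := by
      rw [hmemC]
      calc g * z * g⁻¹ * z = g * z * g⁻¹ * (g * y * g⁻¹) := by rw [hg]
        _ = g * (z * y) * g⁻¹ := by group
        _ = g * (y * z) * g⁻¹ := by rw [hzc y hy]
        _ = g * y * g⁻¹ * (g * z * g⁻¹) := by group
        _ = z * (g * z * g⁻¹) := by rw [hg]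
    have hy'z : g * z * g⁻¹ ≠ z := fun e => hyc (by
      have : y = z := mul_left_cancel (mul_right_cancel (hg.trans e.symm))
      exact this ▸ hzCen)
    have hy' : Zc (g * z * g⁻¹) g⁻¹ := hmk _ _ hy'C (by group) hy'z
    have hxC : g * a * g⁻¹ ∈ C := by
      rw [hmemC, ← hg]
      calc g * a * g⁻¹ * (g * y * g⁻¹) = g * (a * y) * g⁻¹ := by group
        _ = g * (y * a) * g⁻¹ := by rw [hac y hy]
        _ = g * y * g⁻¹ * (g * a * g⁻¹) := by group
    rcases hiii _ _ hy' _ hxC (by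
        calc g * a * g⁻¹ * (g * z * g⁻¹) = g * (a * z) * g⁻¹ := by group
          _ = g * (z * a) * g⁻¹ := by rw [hac z hzC]
          _ = g * z * g⁻¹ * (g * a * g⁻¹) := by group) with h' | h'
    · exact Or.inl (L0 a _ g ha h' rfl).symm
    · have e : g * (a * z) * g⁻¹ = g * a * g⁻¹ * (g * z * g⁻¹) := by group
      exact Or.inr (e.trans (L0 (a * z) _ g (hCenmul a z ha hzCen) h' e).symm)
  -- a first noncentral conjugate
  obtain ⟨y0, g0, hy0⟩ : ∃ y g, Zc y g := by
    by_contra hno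
    push Not at hno
    have hiso : Cfsg.IsIsolatedInvolution z := by
      refine ⟨hz, fun g hg => by_contra fun hne => ?_⟩
      exact hno (g * z * g⁻¹) g⁻¹ (hmk _ _ ((hmemC _).2 hg.eq.symm) (by group) hne)
    have hsup := CfsgLib.Perm.SwappedPair.sup_oddCore_eq_top hiso
    have hn : (Cfsg.oddCore L).Normal := CfsgLib.Solvable.pPrimeCore_normal 2 L
    rcases hn.eq_bot_or_eq_top with hb | hb
    · rw [hb, sup_bot_eq, ← hCe] at hsup
      exact hCtop hsup
    · have hodd : Odd (Nat.card (Cfsg.oddCore L)) :=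
        Nat.coprime_two_right.mp (CfsgLib.Solvable.pPrimeCore_coprime 2)
      rw [hb, Subgroup.card_top] at hodd
      have h2 : 2 ∣ Nat.card L := hz ▸ orderOf_dvd_natCard z
      exact Nat.not_even_iff_odd.2 hodd (even_iff_two_dvd.2 h2)
  obtain ⟨hy0C, hy0c, hg0⟩ := (hzdef y0 g0).1 hy0
  have hy0y0 := hyy y0 g0 hy0
  have hconjz : ∀ y, y ∈ C → ∀ r ∈ C, r * y ≠ y * r → r * y * r⁻¹ = z * y := by
    intro y hy r hr h
    rw [(hcomm r hr y hy).resolve_left h, mul_assoc z, mul_assoc y, mul_inv_cancel, mul_one]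
  have hform : ∀ m ∈ C, ¬ Cen m → m * y0 = y0 * m → ∃ a g1, Cen a ∧ m = a * y0 ∧
      (g0 * a * g0⁻¹ = a ∧ g1 = g0 ∧ g1 * m * g1⁻¹ = a * z ∨
        g0 * (a * z) * g0⁻¹ = a * z ∧ g1 * m * g1⁻¹ = a ∧ g1 * z * g1⁻¹ = g0 * z * g0⁻¹) := by
    intro m hm hmc hmy
    have ha : Cen (m * y0) := (hiii y0 g0 hy0 m hm hmy).resolve_left hmc
    have hma : m = m * y0 * y0 := by rw [mul_assoc, hy0y0, mul_one]
    rcases hiv y0 g0 hy0 _ ha with h | h
    · refine ⟨_, g0, ha, hma, Or.inl ⟨h, rfl, ?_⟩⟩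
      calc g0 * m * g0⁻¹ = g0 * (m * y0) * g0⁻¹ * (g0 * y0 * g0⁻¹) := by
            nth_rw 1 [hma]; group
        _ = m * y0 * z := by rw [h, hg0]
    · obtain ⟨r, hr, hry⟩ := hncen y0 hy0C hy0c
      have hrz : r⁻¹ * z * r = z := by rw [mul_assoc, ← (hmemC r).1 hr, inv_mul_cancel_left]
      have hry' : r⁻¹ * (z * y0) * r = y0 := by rw [← hconjz y0 hy0C r hr hry]; group
      refine ⟨_, g0 * r⁻¹, ha, hma, Or.inr ⟨h, ?_, ?_⟩⟩
      · have hra : r⁻¹ * (m * y0) * r = m * y0 := by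
          rw [mul_assoc, ((hcdef _).1 ha).2 r hr, inv_mul_cancel_left]
        calc g0 * r⁻¹ * m * (g0 * r⁻¹)⁻¹ = g0 * (r⁻¹ * (m * y0 * y0) * r) * g0⁻¹ := by
              rw [← hma]; group
          _ = g0 * (r⁻¹ * (m * y0 * (z * z) * y0) * r) * g0⁻¹ := by rw [hzz, mul_one]
          _ = g0 * ((r⁻¹ * (m * y0) * r) * (r⁻¹ * z * r) * (r⁻¹ * (z * y0) * r)) * g0⁻¹ := by group
          _ = (g0 * (m * y0 * z) * g0⁻¹) * (g0 * y0 * g0⁻¹) := by rw [hra, hrz, hry']; group
          _ = m * y0 := by rw [h, hg0, mul_assoc, hzz, mul_one]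
      · calc g0 * r⁻¹ * z * (g0 * r⁻¹)⁻¹ = g0 * (r⁻¹ * z * r) * g0⁻¹ := by group
          _ = g0 * z * g0⁻¹ := by rw [hrz]
  have hgz0 : g0 * z * g0⁻¹ ∈ C ∧ g0 * z * g0⁻¹ ≠ z := by
    refine ⟨?_, fun e => ?_⟩
    · rw [hmemC]
      calc g0 * z * g0⁻¹ * z = g0 * z * g0⁻¹ * (g0 * y0 * g0⁻¹) := by rw [hg0]
        _ = g0 * (z * y0) * g0⁻¹ := by group
        _ = g0 * (y0 * z) * g0⁻¹ := by rw [hzc y0 hy0C]
        _ = g0 * y0 * g0⁻¹ * (g0 * z * g0⁻¹) := by group
        _ = z * (g0 * z * g0⁻¹) := by rw [hg0]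
    · have : y0 = z := mul_left_cancel (mul_right_cancel (hg0.trans e.symm))
      exact hy0c (this ▸ hzCen)
  -- a second one
  obtain ⟨y1, g1, hy1, hy01⟩ : ∃ y g, Zc y g ∧ y * y0 ≠ y0 * y := by
    by_contra H
    push Not at H
    obtain ⟨r, hr, hry⟩ := hncen y0 hy0C hy0c
    obtain ⟨v, hv, hvy, hvv⟩ : ∃ v ∈ C, v * y0 ≠ y0 * v ∧ v * v = 1 := by
      rcases hsq r hr with h | h
      · exact ⟨r, hr, hry, h⟩
      · refine ⟨r * y0, mul_mem hr hy0C, fun e => hry (mul_right_cancel (by rw [e, ← mul_assoc])), ?_⟩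
        have e := (hcomm r hr y0 hy0C).resolve_left hry
        have e' : y0 * r = z * (r * y0) := by rw [e, ← mul_assoc z, hzz, one_mul]
        calc r * y0 * (r * y0) = r * (y0 * r) * y0 := by group
          _ = r * z * r * (y0 * y0) := by rw [e']; group
          _ = z * (r * r) := by rw [← hzc r hr, hy0y0]; group
          _ = 1 := by rw [h, hzz]
    obtain ⟨B, hB⟩ : ∃ B : Subgroup L, B = C ⊓ Subgroup.centralizer ({y0} : Set L) := ⟨_, rfl⟩
    have hmB : ∀ x, x ∈ B ↔ x ∈ C ∧ x * y0 = y0 * x := fun x => by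
      rw [hB, Subgroup.mem_inf, Subgroup.mem_centralizer_singleton_iff]
    have hBR : B ≤ (R : Subgroup L) := by rw [hR, hB]; exact inf_le_left
    have hBi : B.relIndex (R : Subgroup L) = 2 := by
      rw [Subgroup.relIndex_eq_two_iff]
      refine ⟨v, hR ▸ hv, fun b hb => ?_⟩
      rw [hR] at hb
      by_cases hby : b * y0 = y0 * b
      · refine Or.inr ⟨(hmB b).2 ⟨hb, hby⟩, fun h => hvy ?_⟩
        have h' := mul_mem (inv_mem ((hmB b).2 ⟨hb, hby⟩)) h
        rw [inv_mul_cancel_left] at h'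
        exact ((hmB v).1 h').2
      · exact Or.inl ⟨(hmB _).2 ⟨mul_mem hb hv, hsplit b hb v hv y0 hy0C hby hvy⟩,
          fun h => hby ((hmB b).1 h).2⟩
    rcases CfsgLib.Transfer.thompson_transfer_involution R hBR hBi (u := v) (by rw [sq, hvv]) (hR ▸ hv) with
      ⟨M, hM, hM2, hvM⟩ | ⟨k, hk⟩
    · exact hnoindex M hM hM2 v hvM hvv
    obtain ⟨h, c, hc, hhv⟩ : ∃ h c, Cen c ∧ h * v * h⁻¹ = c := by
      obtain ⟨hmC, hmy⟩ := (hmB _).1 hk
      by_cases hmc : Cen (k * v * k⁻¹)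
      · exact ⟨k, _, hmc, rfl⟩
      · obtain ⟨a, g2, ha, -, h' | h'⟩ := hform _ hmC hmc hmy
        · exact ⟨g2 * k, a * z, hCenmul a z ha hzCen, by rw [← h'.2.2]; group⟩
        · exact ⟨g2 * k, a, ha, by rw [← h'.2.1]; group⟩
    obtain ⟨hcC, hcc⟩ := (hcdef c).1 hc
    obtain ⟨D, hD⟩ : ∃ D : Subgroup L, D = Subgroup.centralizer ({c} : Set L) := ⟨_, rfl⟩
    have hCD : (R : Subgroup L) ≤ D := fun x hx => by
      rw [hD, Subgroup.mem_centralizer_singleton_iff]; exact (hcc x (hR ▸ hx)).symm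
    have hzD : h * z * h⁻¹ ∈ D := by
      rw [hD, Subgroup.mem_centralizer_singleton_iff, ← hhv]
      calc h * z * h⁻¹ * (h * v * h⁻¹) = h * (z * v) * h⁻¹ := by group
        _ = h * (v * z) * h⁻¹ := by rw [hzc v hv]
        _ = h * v * h⁻¹ * (h * z * h⁻¹) := by group
    obtain ⟨k', hk'⟩ := CfsgLib.Invol.exists_conj_mem_sylow (R.subtype hCD)
      (H := Subgroup.zpowers (⟨h * z * h⁻¹, hzD⟩ : D)) (IsPGroup.of_card (n := 1) (by
        rw [Nat.card_zpowers, ← Subgroup.orderOf_coe, pow_one]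
        exact (MulEquiv.orderOf_eq (MulAut.conj h) z).trans hz))
    obtain ⟨h1, hh1⟩ : ∃ h1, h1 = (k' : L) * h := ⟨_, rfl⟩
    have hz'C : h1 * z * h1⁻¹ ∈ C := by
      have := hk' _ (Subgroup.mem_zpowers (⟨h * z * h⁻¹, hzD⟩ : D))
      have h'' : (k' : L) * (h * z * h⁻¹) * (k' : L)⁻¹ ∈ (R : Subgroup L) := this
      rw [hh1, show (k' : L) * h * z * ((k' : L) * h)⁻¹ = (k' : L) * (h * z * h⁻¹) * (k' : L)⁻¹ by group, ← hR]
      exact h''
    have hh1v : h1 * v * h1⁻¹ = c := by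
      have hk'c : (k' : L) * c = c * k' := Subgroup.mem_centralizer_singleton_iff.1 (hD ▸ k'.2)
      rw [hh1, show (k' : L) * h * v * ((k' : L) * h)⁻¹ = (k' : L) * (h * v * h⁻¹) * (k' : L)⁻¹ by group,
        hhv, hk'c, mul_inv_cancel_right]
    have hz'ne : h1 * z * h1⁻¹ ≠ z := fun e => by
      have hh1C : h1 ∈ C := (hmemC h1).2 (mul_inv_eq_iff_eq_mul.1 e)
      have hvc : v = c := by
        calc v = h1⁻¹ * (h1 * v * h1⁻¹) * h1 := by group
          _ = h1⁻¹ * (c * h1) := by rw [hh1v, mul_assoc]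
          _ = c := by rw [hcc h1 hh1C, inv_mul_cancel_left]
      exact hvy (by rw [hvc]; exact hcc y0 hy0C)
    have hz' : Zc (h1 * z * h1⁻¹) h1⁻¹ := hmk _ _ hz'C (by group) hz'ne
    obtain ⟨a, g2, ha, -, hcases⟩ := hform _ hz'C ((hzdef _ _).1 hz').2.1 (H _ _ hz')
    obtain ⟨hg2z, hg2z'⟩ : g2 * (h1 * z * h1⁻¹) * g2⁻¹ = z ∧ g2 * z * g2⁻¹ = g0 * z * g0⁻¹ := by
      rcases hcases with ⟨-, e2, e3⟩ | ⟨-, e2, e3⟩
      · have h' := L0 z (a * z) (g2 * h1) hzCen (hCenmul a z ha hzCen) (by rw [← e3]; group)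
        exact ⟨e3.trans h'.symm, by rw [e2]⟩
      · have h' := L0 z a (g2 * h1) hzCen ha (by rw [← e2]; group)
        exact ⟨e2.trans h'.symm, e3⟩
    obtain ⟨s, hs⟩ : ∃ s, s = g2 * h1 := ⟨_, rfl⟩
    have hsC : s ∈ C := (hmemC s).2 (mul_inv_eq_iff_eq_mul.1
      ((by rw [hs]; group : s * z * s⁻¹ = g2 * (h1 * z * h1⁻¹) * g2⁻¹).trans hg2z))
    have hsv : s * v * s⁻¹ = g2 * c * g2⁻¹ := by rw [hs, ← hh1v]; group
    have hsvC : g2 * c * g2⁻¹ ∈ C := hsv ▸ mul_mem (mul_mem hsC hv) (inv_mem hsC)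
    have hy' : Zc (g0 * z * g0⁻¹) g0⁻¹ := hmk _ _ hgz0.1 (by group) hgz0.2
    have hcy' : g2 * c * g2⁻¹ * (g0 * z * g0⁻¹) = g0 * z * g0⁻¹ * (g2 * c * g2⁻¹) := by
      rw [← hg2z']
      calc g2 * c * g2⁻¹ * (g2 * z * g2⁻¹) = g2 * (c * z) * g2⁻¹ := by group
        _ = g2 * (z * c) * g2⁻¹ := by rw [hcc z hzC]
        _ = g2 * z * g2⁻¹ * (g2 * c * g2⁻¹) := by group
    have hcomm0 : g2 * c * g2⁻¹ * y0 = y0 * (g2 * c * g2⁻¹) :=
      hii _ _ hy' _ hsvC y0 hy0C hcy' (H _ _ hy').symm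
    rw [← hsv] at hcomm0
    apply hvy
    have hvs : v * (s⁻¹ * y0 * s) = s⁻¹ * y0 * s * v := by
      calc v * (s⁻¹ * y0 * s) = s⁻¹ * (s * v * s⁻¹ * y0) * s := by group
        _ = s⁻¹ * (y0 * (s * v * s⁻¹)) * s := by rw [hcomm0]
        _ = s⁻¹ * y0 * s * v := by group
    by_cases hsy : s * y0 = y0 * s
    · rwa [mul_assoc s⁻¹, ← hsy, inv_mul_cancel_left] at hvs
    · have hcz := hconjz y0 hy0C s⁻¹ (inv_mem hsC) (fun e => hsy (by
        calc s * y0 = s * (y0 * s⁻¹) * s := by group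
          _ = s * (s⁻¹ * y0) * s := by rw [e]
          _ = y0 * s := by group))
      rw [inv_inv] at hcz
      rw [hcz, ← mul_assoc, ← hzc v hv, mul_assoc z, mul_assoc z] at hvs
      exact mul_left_cancel hvs
  obtain ⟨hy1C, hy1c, hg1⟩ := (hzdef y1 g1).1 hy1
  have hy1y1 := hyy y1 g1 hy1
  have hsqcen : ∀ a, Cen a → a * a = 1 := fun a ha =>
    hi y0 g0 hy0 a ((hcdef a).1 ha).1 (((hcdef a).1 ha).2 y0 hy0C)
  have hrepr : ∀ m ∈ C, m * y0 ≠ y0 * m → m * y1 ≠ y1 * m → Cen (m * y1 * y0) := by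
    intro m hm hm0 hm1
    have hq : m * y1 * y0 = y0 * (m * y1) := hsplit m hm y1 hy1C y0 hy0C hm0 hy01
    refine (hiii y0 g0 hy0 (m * y1) (mul_mem hm hy1C) hq).resolve_left fun hc => ?_
    apply hm1
    have h := ((hcdef _).1 hc).2 y1 hy1C
    calc m * y1 = m * y1 * y1 * y1 := by rw [mul_assoc (m * y1), hy1y1, mul_one]
      _ = y1 * (m * y1) * y1 := by rw [h]
      _ = y1 * m * (y1 * y1) := by group
      _ = y1 * m := by rw [hy1y1, mul_one]
  have hry0 : y0 * y1 * (y0 * y1) = z := by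
    have e := (hcomm y1 hy1C y0 hy0C).resolve_left hy01
    calc y0 * y1 * (y0 * y1) = y0 * (y1 * y0) * y1 := by group
      _ = y0 * z * y0 * (y1 * y1) := by rw [e]; group
      _ = z := by rw [← hzc y0 hy0C, hy1y1, mul_one, mul_assoc, hy0y0, mul_one]
  -- every central element is in `⟨z⟩`
  have hcen2 : ∀ a, Cen a → a = 1 ∨ a = z := by
    intro a ha
    by_contra hne
    push Not at hne
    obtain ⟨w, hw, hw1, hwz, hwfix⟩ : ∃ w, Cen w ∧ w ≠ 1 ∧ w ≠ z ∧ g0 * w * g0⁻¹ = w := by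
      rcases hiv y0 g0 hy0 a ha with h | h
      · exact ⟨a, ha, hne.1, hne.2, h⟩
      · refine ⟨a * z, hCenmul a z ha hzCen, fun e => hne.2 ?_, fun e => hne.1 ?_, h⟩
        · rw [← inv_eq_of_mul_eq_one_left e, inv_eq_of_mul_eq_one_right hzz]
        · exact mul_eq_right.1 e
    obtain ⟨hwC, hwc⟩ := (hcdef w).1 hw
    have hww := hsqcen w hw
    let S0 : Subgroup L :=
      { carrier := {x | x = 1 ∨ x = z ∨ x = y1 ∨ x = z * y1}
        one_mem' := Or.inl rfl
        mul_mem' := by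
          have e1 : y1 * z = z * y1 := (hzc y1 hy1C).symm
          have e2 : y1 * (z * y1) = z := by rw [← mul_assoc, e1, mul_assoc, hy1y1, mul_one]
          have e3 : z * y1 * y1 = z := by rw [mul_assoc, hy1y1, mul_one]
          have e4 : z * y1 * z = y1 := by rw [mul_assoc, e1, ← mul_assoc, hzz, one_mul]
          have e5 : z * (z * y1) = y1 := by rw [← mul_assoc, hzz, one_mul]
          have e6 : z * y1 * (z * y1) = 1 := by rw [← mul_assoc, e4, hy1y1]
          rintro x y (hx | hx | hx | hx) (hy | hy | hy | hy) <;>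
            simp only [Set.mem_ofPred_eq, hx, hy, one_mul, mul_one, hzz, hy1y1, e1, e2, e3, e4,
              e5, e6, true_or, or_true]
        inv_mem' := by
          have e1 : y1 * z = z * y1 := (hzc y1 hy1C).symm
          rintro x (rfl | rfl | rfl | rfl)
          · exact Or.inl inv_one
          · exact Or.inr (Or.inl (inv_eq_of_mul_eq_one_right hzz))
          · exact Or.inr (Or.inr (Or.inl (inv_eq_of_mul_eq_one_right hy1y1)))
          · refine Or.inr (Or.inr (Or.inr ?_))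
            rw [mul_inv_rev, inv_eq_of_mul_eq_one_right hzz, inv_eq_of_mul_eq_one_right hy1y1, e1] }
    let Good : Subgroup L → Prop := fun M => M ≤ C ∧ z ∈ M ∧ y1 ∈ M ∧ w ∉ M
    haveI : Nonempty {M // Good M} := ⟨⟨S0, by
      refine ⟨?_, Or.inr (Or.inl rfl), Or.inr (Or.inr (Or.inl rfl)), ?_⟩
      · rintro x (rfl | rfl | rfl | rfl)
        exacts [one_mem C, hzC, hy1C, mul_mem hzC hy1C]
      · rintro (e | e | e | e)
        · exact hw1 e
        · exact hwz e
        · exact hy1c (e ▸ hw)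
        · refine hy1c ?_
          have : y1 = z * w := by rw [e, ← mul_assoc, hzz, one_mul]
          exact this ▸ hCenmul z w hzCen hw⟩⟩
    haveI : Finite (Subgroup L) := Finite.of_injective _ SetLike.coe_injective
    obtain ⟨⟨M, hMC, hzM, hy1M, hwM⟩, hmax⟩ :=
      Finite.exists_max (fun M : {M // Good M} => Nat.card M.1)
    have hMn : ∀ x ∈ C, ∀ m ∈ M, x * m * x⁻¹ ∈ M := by
      intro x hx m hm
      rcases hcomm x hx m (hMC hm) with h | h
      · rw [h, mul_inv_cancel_right]; exact hm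
      · rw [h, mul_assoc z, mul_assoc m, mul_inv_cancel, mul_one]; exact mul_mem hzM hm
    have hstep : ∀ x ∈ C, x ∉ M → x * w ∈ M := by
      intro x hx hxM
      have hx2 : x * x ∈ M := by
        rcases hsq x hx with h | h <;> rw [h]
        exacts [one_mem M, hzM]
      let M' : Subgroup L :=
        { carrier := {g | g ∈ M ∨ x⁻¹ * g ∈ M}
          one_mem' := Or.inl (one_mem M)
          mul_mem' := by
            rintro a b (ha | ha) (hb | hb)
            · exact Or.inl (mul_mem ha hb)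
            · refine Or.inr ?_
              rw [show x⁻¹ * (a * b) = (x⁻¹ * a * x⁻¹⁻¹) * (x⁻¹ * b) by group]
              exact mul_mem (hMn _ (inv_mem hx) a ha) hb
            · refine Or.inr ?_
              rw [← mul_assoc]
              exact mul_mem ha hb
            · refine Or.inl ?_
              rw [show a * b = (x * (x⁻¹ * a) * x⁻¹) * (x * x) * (x⁻¹ * b) by group]
              exact mul_mem (mul_mem (hMn x hx _ ha) hx2) hb
          inv_mem' := by
            rintro a (ha | ha)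
            · exact Or.inl (inv_mem ha)
            · refine Or.inr ?_
              rw [show x⁻¹ * a⁻¹ = (x⁻¹ * (x⁻¹ * a)⁻¹ * x⁻¹⁻¹) * (x * x)⁻¹ by group]
              exact mul_mem (hMn _ (inv_mem hx) _ (inv_mem ha)) (inv_mem hx2) }
      have hM'C : M' ≤ C := by
        rintro g (hg | hg)
        · exact hMC hg
        · simpa using mul_mem hx (hMC hg)
      have hlt : M < M' := lt_of_le_of_ne (fun g hg => Or.inl hg) fun e => hxM (e ▸ (Or.inr (by simp) : x ∈ M'))
      have hwM' : w ∈ M' := by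
        by_contra hw'
        have := hmax ⟨M', hM'C, Or.inl hzM, Or.inl hy1M, hw'⟩
        exact absurd (Subgroup.eq_of_le_of_card_ge hlt.le this) hlt.ne
      have hxw : x⁻¹ * w ∈ M := hwM'.resolve_left hwM
      rw [show x * w = (x * x) * (x⁻¹ * w) by group]
      exact mul_mem hx2 hxw
    have hMR : M ≤ (R : Subgroup L) := hR ▸ hMC
    have hMi : M.relIndex (R : Subgroup L) = 2 := by
      rw [Subgroup.relIndex_eq_two_iff]
      refine ⟨w, hR ▸ hwC, fun b hb => ?_⟩
      rw [hR] at hb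
      by_cases hbM : b ∈ M
      · exact Or.inr ⟨hbM, fun h => hwM (by simpa using mul_mem (inv_mem hbM) h)⟩
      · exact Or.inl ⟨hstep b hb hbM, hbM⟩
    rcases CfsgLib.Transfer.thompson_transfer_involution R hMR hMi (u := w) (by rw [sq, hww]) (hR ▸ hwC) with
      ⟨N, hN, hN2, hwN⟩ | ⟨k, hk⟩
    · exact hnoindex N hN hN2 w hwN hww
    obtain ⟨m, hm⟩ : ∃ m, m = k * w * k⁻¹ := ⟨_, rfl⟩
    rw [← hm] at hk
    have hmC := hMC hk
    by_cases hmc : Cen m
    · exact hwM (L0 w m k hw hmc hm.symm ▸ hk)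
    by_cases hm0 : m * y0 = y0 * m
    · obtain ⟨b, g2, hb, -, ⟨e1, e2, e3⟩ | ⟨e1, e2, -⟩⟩ := hform m hmC hmc hm0
      · have h' := L0 w (b * z) (g2 * k) hw (hCenmul b z hb hzCen) (by rw [← e3, hm]; group)
        apply hgz0.2
        have hzb : z = b * w := by rw [h', ← mul_assoc, hsqcen b hb, one_mul]
        rw [hzb]
        calc g0 * (b * w) * g0⁻¹ = (g0 * b * g0⁻¹) * (g0 * w * g0⁻¹) := by group
          _ = b * w := by rw [e1, hwfix]
      · have h' := L0 w b (g2 * k) hw hb (by rw [← e2, hm]; group)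
        apply hgz0.2
        rw [← h'] at e1
        have hzw : z = w * (w * z) := by rw [← mul_assoc, hww, one_mul]
        rw [hzw]
        calc g0 * (w * (w * z)) * g0⁻¹ = (g0 * w * g0⁻¹) * (g0 * (w * z) * g0⁻¹) := by group
          _ = w * (w * z) := by rw [e1, hwfix]
    by_cases hm1 : m * y1 = y1 * m
    · have hb : Cen (m * y1) := (hiii y1 g1 hy1 m hmC hm1).resolve_left hmc
      have hmb : m = m * y1 * y1 := by rw [mul_assoc, hy1y1, mul_one]
      apply hwM
      rcases hiv y1 g1 hy1 _ hb with h | h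
      · have h' := L0 w (m * y1 * z) (g1 * k) hw (hCenmul _ z hb hzCen) (by
          calc g1 * k * w * (g1 * k)⁻¹ = g1 * (m * y1 * y1) * g1⁻¹ := by rw [← hmb, hm]; group
            _ = (g1 * (m * y1) * g1⁻¹) * (g1 * y1 * g1⁻¹) := by group
            _ = m * y1 * z := by rw [h, hg1])
        rw [h']
        exact mul_mem (mul_mem hk hy1M) hzM
      · obtain ⟨r, hr, hry⟩ := hncen y1 hy1C hy1c
        have hrz : r⁻¹ * z * r = z := by rw [mul_assoc, ← (hmemC r).1 hr, inv_mul_cancel_left]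
        have hry' : r⁻¹ * (z * y1) * r = y1 := by rw [← hconjz y1 hy1C r hr hry]; group
        have hra : r⁻¹ * (m * y1) * r = m * y1 := by
          rw [mul_assoc, ((hcdef _).1 hb).2 r hr, inv_mul_cancel_left]
        have h' := L0 w (m * y1) (g1 * r⁻¹ * k) hw hb (by
          calc g1 * r⁻¹ * k * w * (g1 * r⁻¹ * k)⁻¹ = g1 * (r⁻¹ * (m * y1 * y1) * r) * g1⁻¹ := by
                rw [← hmb, hm]; group
            _ = g1 * (r⁻¹ * (m * y1 * (z * z) * y1) * r) * g1⁻¹ := by rw [hzz, mul_one]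
            _ = g1 * ((r⁻¹ * (m * y1) * r) * (r⁻¹ * z * r) * (r⁻¹ * (z * y1) * r)) * g1⁻¹ := by group
            _ = (g1 * (m * y1 * z) * g1⁻¹) * (g1 * y1 * g1⁻¹) := by rw [hra, hrz, hry']; group
            _ = m * y1 := by rw [h, hg1, mul_assoc, hzz, mul_one])
        rw [h']
        exact mul_mem hk hy1M
    obtain ⟨d, hd⟩ : ∃ d, d = m * y1 * y0 := ⟨_, rfl⟩
    have hdc : Cen d := hd ▸ hrepr m hmC hm0 hm1
    have hmd : m = d * (y0 * y1) := by
      rw [hd]
      calc m = m * (y1 * y1) := by rw [hy1y1, mul_one]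
        _ = m * y1 * (y0 * y0) * y1 := by rw [hy0y0]; group
        _ = m * y1 * y0 * (y0 * y1) := by group
    have h1 : m * m = z := by
      rw [hmd]
      calc d * (y0 * y1) * (d * (y0 * y1)) = d * ((y0 * y1) * d) * (y0 * y1) := by group
        _ = d * d * (y0 * y1 * (y0 * y1)) := by
            rw [← ((hcdef d).1 hdc).2 _ (mul_mem hy0C hy1C)]; group
        _ = z := by rw [hsqcen d hdc, hry0, one_mul]
    have h2 : m * m = 1 := by
      rw [hm]
      calc k * w * k⁻¹ * (k * w * k⁻¹) = k * (w * w) * k⁻¹ := by group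
        _ = 1 := by rw [hww]; group
    exact hz1 (h1.symm.trans h2)
  -- conclusion
  obtain ⟨r, hr⟩ : ∃ r, r = y0 * y1 := ⟨_, rfl⟩
  have hrr : r * r = z := hr ▸ hry0
  have hr4 : orderOf r = 4 := by
    refine orderOf_eq_prime_pow (p := 2) (n := 1) ?_ ?_
    · rw [pow_one, sq, hrr]; exact hz1
    · rw [show (2 : ℕ) ^ (1 + 1) = 2 + 2 from rfl, pow_add, sq, hrr, hzz]
  have hy0o : orderOf y0 = 2 := orderOf_eq_prime (by rw [sq, hy0y0]) fun h => hy0c (h ▸ (hcdef 1).2
    ⟨one_mem C, fun x _ => by rw [one_mul, mul_one]⟩)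
  have hsr : y0 * r * y0⁻¹ = r⁻¹ := by
    rw [hr, mul_inv_rev, inv_eq_of_mul_eq_one_right hy0y0, inv_eq_of_mul_eq_one_right hy1y1,
      ← mul_assoc, hy0y0, one_mul]
  have hnot : y0 ∉ Subgroup.zpowers r := by
    rintro ⟨k, hk⟩
    apply hy01
    have hcr : Commute y0 r := hk ▸ (Commute.refl r).zpow_left k
    have h := hcr.eq
    rw [hr, ← mul_assoc, hy0y0, one_mul] at h
    calc y1 * y0 = y0 * y1 * y0 * y0 := by rw [← h]
      _ = y0 * y1 := by rw [mul_assoc (y0 * y1), hy0y0, mul_one]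
  obtain ⟨eD⟩ := CfsgLib.Invol.exists_mulEquiv_dihedral hr4 hy0o hsr hnot
  have hcl : Subgroup.closure ({r, y0} : Set L) = C := by
    refine le_antisymm ((Subgroup.closure_le _).2 (Set.insert_subset (hr ▸ mul_mem hy0C hy1C)
      (Set.singleton_subset_iff.2 hy0C))) fun x hx => ?_
    have hrK : r ∈ Subgroup.closure ({r, y0} : Set L) := Subgroup.subset_closure (Or.inl rfl)
    have hyK : y0 ∈ Subgroup.closure ({r, y0} : Set L) := Subgroup.subset_closure (Or.inr rfl)
    have hy1K : y1 ∈ Subgroup.closure ({r, y0} : Set L) := by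
      have e : y0 * r = y1 := by rw [hr, ← mul_assoc, hy0y0, one_mul]
      exact e ▸ mul_mem hyK hrK
    have hcK : ∀ a, Cen a → a ∈ Subgroup.closure ({r, y0} : Set L) := fun a ha => by
      rcases hcen2 a ha with rfl | rfl
      · exact one_mem _
      · exact hrr ▸ mul_mem hrK hrK
    by_cases hx0 : x * y0 = y0 * x
    · rcases hiii y0 g0 hy0 x hx hx0 with h | h
      · exact hcK x h
      · have := mul_mem (hcK _ h) hyK
        rwa [mul_assoc, hy0y0, mul_one] at this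
    by_cases hx1 : x * y1 = y1 * x
    · rcases hiii y1 g1 hy1 x hx hx1 with h | h
      · exact hcK x h
      · have := mul_mem (hcK _ h) hy1K
        rwa [mul_assoc, hy1y1, mul_one] at this
    have := mul_mem (mul_mem (hcK _ (hrepr x hx hx0 hx1)) hyK) hy1K
    rwa [mul_assoc _ y0 y0, hy0y0, mul_one, mul_assoc, hy1y1, mul_one] at this
  exact ⟨(MulEquiv.subgroupCongr (hR.trans hcl.symm)).trans eD⟩

end Cfsg.Agent.S5435
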