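import Cfsg.Statements.S5436
import Cfsg.Agent.Lib.PLocal.LargeExtraCriterion

set_option autoImplicit false
open Cfsg

namespace Cfsg.Agent.S5436

/-- Let z be an involution of the finite group G with centralizer H whose generalized Fitting subgroup Q is extraspecial of width at least 2 (order 2^(2w+1), w ≥ 2); suppose some conjugate of z other than z lies in Q, H/Q is a non-abelian simple group, H acts irreducibly by conjugation on Q modulo the subgroup generated by z (the only H-invariant subgroups of Q containing z are that subgroup and Q), and Q is not the subgroup generated by the conjugates of z lying in H. Then G is simple. -/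
theorem result {G : Type*} [Group G] [Finite G] (z : G) (hz : orderOf z = 2) (Q : Subgroup (Subgroup.centralizer ({z} : Set G))) [Q.Normal] (hF : Cfsg.generalizedFittingSubgroup ↥(Subgroup.centralizer ({z} : Set G)) = Q) (hQ : Cfsg.IsExtraspecial 2 ↥Q) (w : ℕ) (hw : 2 ≤ w) (hcard : Nat.card ↥Q = 2 ^ (2 * w + 1)) (hnwc : ∃ g : G, (∃ hq : g * z * g⁻¹ ∈ Subgroup.centralizer ({z} : Set G), (⟨g * z * g⁻¹, hq⟩ : Subgroup.centralizer ({z} : Set G)) ∈ Q) ∧ g * z * g⁻¹ ≠ z) (hsimp : IsSimpleGroup (↥(Subgroup.centralizer ({z} : Set G)) ⧸ Q)) (hna : ¬ IsMulCommutative (↥(Subgroup.centralizer ({z} : Set G)) ⧸ Q)) (hirr : ∀ W : Subgroup (Subgroup.centralizer ({z} : Set G)), W.Normal → W ≤ Q → (W = Q ∨ ∀ x ∈ W, (x : G) ∈ Subgroup.zpowers z)) (hwcl : Subgroup.closure {x : Subgroup.centralizer ({z} : Set G) | IsConj z (x : G)} ≠ Q) : IsSimpleGroup G := by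
  obtain ⟨Q', hQ'⟩ : ∃ Q', Q' = Q.map (Subgroup.centralizer ({z} : Set G)).subtype := ⟨_, rfl⟩
  have hQC : Q' ≤ Subgroup.centralizer ({z} : Set G) := hQ' ▸ Subgroup.map_subtype_le Q
  have h : CfsgLib.PLocal.LargeExtra.Pack Q' z :=
    CfsgLib.PLocal.LargeExtra.pack_of_fstar hz hQC (by rw [hF, hQ'])
      (hQ' ▸ CfsgLib.PLocal.LargeExtra.isExtraspecial_equiv
        (Q.equivMapOfInjective _ (Subgroup.subtype_injective _)) hQ)
  obtain ⟨g, ⟨hq, hgQ⟩, hgne⟩ := hnwc
  have hlarge : Cfsg.IsLargeExtraspecial Q' := h.isLarge_of_conj (hQ' ▸ ⟨_, hgQ, rfl⟩) hgne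
  refine h.isSimpleGroup hlarge hQC ?_
  obtain ⟨D, hD⟩ : ∃ D, D =
      Subgroup.closure {x : Subgroup.centralizer ({z} : Set G) | IsConj z (x : G)} := ⟨_, rfl⟩
  have hDM : D.map (Subgroup.centralizer ({z} : Set G)).subtype ≤ Subgroup.normalClosure ({z} : Set G) := by
    rw [hD, MonoidHom.map_closure, Subgroup.closure_le]
    rintro _ ⟨y, hy, rfl⟩
    obtain ⟨k, hk⟩ := isConj_iff.1 (hy : IsConj z (y : G))
    rw [SetLike.mem_coe, show (Subgroup.centralizer ({z} : Set G)).subtype y = (y : G) from rfl, ← hk]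
    exact Subgroup.normalClosure_normal.conj_mem _ (Subgroup.subset_normalClosure (Set.mem_singleton z)) k
  suffices hDtop : D = ⊤ by
    intro c hc
    exact hDM ⟨⟨c, hc⟩, hDtop ▸ Subgroup.mem_top _, rfl⟩
  have hDn : D.Normal := by
    refine ⟨fun y hy c => ?_⟩
    rw [hD] at hy ⊢
    induction hy using Subgroup.closure_induction with
    | mem y hy =>
      refine Subgroup.subset_closure ?_
      exact IsConj.trans (hy : IsConj z (y : G)) (isConj_iff.2 ⟨(c : G), rfl⟩)
    | one => simp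
    | mul a b _ _ ha hb =>
      rw [show c * (a * b) * c⁻¹ = c * a * c⁻¹ * (c * b * c⁻¹) by group]
      exact mul_mem ha hb
    | inv a _ ha =>
      rw [show c * a⁻¹ * c⁻¹ = (c * a * c⁻¹)⁻¹ by group]
      exact inv_mem ha
  have hQD : Q ≤ D := by
    have hxD : (⟨g * z * g⁻¹, hq⟩ : Subgroup.centralizer ({z} : Set G)) ∈ D ⊓ Q :=
      ⟨hD ▸ Subgroup.subset_closure (show IsConj z (g * z * g⁻¹) from isConj_iff.2 ⟨g, rfl⟩), hgQ⟩
    rcases hirr (D ⊓ Q) (Subgroup.normal_inf_normal _ _) inf_le_right with e | e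
    · exact e ▸ inf_le_left
    · exfalso
      rcases CfsgLib.Trans3.mem_zpowers_invol hz (e _ hxD) with e' | e'
      · exact (h.map g).z_ne e'
      · exact hgne e'
  rcases hsimp.eq_bot_or_eq_top_of_normal (D.map (QuotientGroup.mk' Q))
      (hDn.map _ (QuotientGroup.mk'_surjective Q)) with e | e
  · rw [Subgroup.map_eq_bot_iff, QuotientGroup.ker_mk'] at e
    exact absurd (hD ▸ le_antisymm e hQD) hwcl
  · have h1 : (D.map (QuotientGroup.mk' Q)).comap (QuotientGroup.mk' Q) = D :=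
      Subgroup.comap_map_eq_self (by rwa [QuotientGroup.ker_mk'])
    rw [e, Subgroup.comap_top] at h1
    exact h1.symm

end Cfsg.Agent.S5436
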