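import Cfsg.Statements.S5437
import Cfsg.Agent.Lib.Trans3.Basic

set_option autoImplicit false
open Cfsg

namespace Cfsg.Agent.S5437

/-- Let I be a set of involutions of the finite group G closed under conjugation, and H a subgroup of G. The following are equivalent: (1) for every member x of I lying in H, the conjugates of x lying in H form a single H-class and the centralizer of x lies in H; (2) for every g outside H, no member of I lies in both H and g H g⁻¹; (3) every member of I lying in H fixes exactly one coset in the action of G on the cosets of H. -/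
theorem result {G : Type*} [Group G] [Finite G] (I : Set G) (hI : ∀ x ∈ I, orderOf x = 2) (hIc : ∀ g : G, ∀ x ∈ I, g * x * g⁻¹ ∈ I) (H : Subgroup G) : ((∀ x ∈ I, x ∈ H → (∀ g : G, g * x * g⁻¹ ∈ H → ∃ h ∈ H, h * x * h⁻¹ = g * x * g⁻¹) ∧ Subgroup.centralizer ({x} : Set G) ≤ H) ↔ (∀ g : G, g ∉ H → ∀ x ∈ I, ¬ (x ∈ H ∧ x ∈ (H : Subgroup G).map (MulAut.conj g).toMonoidHom))) ∧ ((∀ g : G, g ∉ H → ∀ x ∈ I, ¬ (x ∈ H ∧ x ∈ (H : Subgroup G).map (MulAut.conj g).toMonoidHom)) ↔ ∀ x ∈ I, x ∈ H → ∃! c : G ⧸ H, x • c = c) := by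
  have hmem : ∀ (g x : G), x ∈ (H : Subgroup G).map (MulAut.conj g).toMonoidHom ↔ g⁻¹ * x * g ∈ H := by
    intro g x
    simp only [Subgroup.mem_map, MulEquiv.coe_toMonoidHom, MulAut.conj_apply]
    constructor
    · rintro ⟨y, hy, rfl⟩; rwa [show g⁻¹ * (g * y * g⁻¹) * g = y by group]
    · exact fun h => ⟨_, h, by group⟩
  have hfix : ∀ x g : G, x • (g : G ⧸ H) = (g : G ⧸ H) ↔ g⁻¹ * x * g ∈ H := by
    intro x g
    rw [MulAction.Quotient.smul_coe, QuotientGroup.eq, smul_eq_mul]
    rw [show (x * g)⁻¹ * g = (g⁻¹ * x * g)⁻¹ by group, inv_mem_iff]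
  constructor
  · constructor
    · rintro h g hg x hx ⟨hxH, hxg⟩
      apply hg
      obtain ⟨h1, h2⟩ := h x hx hxH
      have hc := (hmem g x).1 hxg
      obtain ⟨k, hk, hkx⟩ := h1 g⁻¹ (by simpa using hc)
      rw [inv_inv] at hkx
      have hgk : g * k ∈ Subgroup.centralizer ({x} : Set G) := by
        rw [Subgroup.mem_centralizer_singleton_iff]
        calc g * k * x = g * (k * x * k⁻¹) * k := by group
          _ = g * (g⁻¹ * x * g) * k := by rw [hkx]
          _ = x * (g * k) := by group
      have := H.mul_mem (h2 hgk) (H.inv_mem hk)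
      simpa using this
    · intro h x hx hxH
      refine ⟨fun g hg => ⟨g, ?_, rfl⟩, fun c hc => ?_⟩
      · by_contra hgH
        refine h g hgH _ (hIc g x hx) ⟨hg, (hmem g _).2 ?_⟩
        rwa [show g⁻¹ * (g * x * g⁻¹) * g = x by group]
      · by_contra hcH
        refine h c hcH x hx ⟨hxH, (hmem c x).2 ?_⟩
        rw [Subgroup.mem_centralizer_singleton_iff] at hc
        rwa [show c⁻¹ * x * c = x by rw [mul_assoc, ← hc]; group]
  · constructor
    · intro h x hx hxH
      refine ⟨((1 : G) : G ⧸ H), (hfix x 1).2 (by simpa using hxH), fun c hc => ?_⟩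
      induction c using QuotientGroup.induction_on with
      | H g =>
        have hg : g ∈ H := by
          by_contra hgH
          exact h g hgH x hx ⟨hxH, (hmem g x).2 ((hfix x g).1 hc)⟩
        rw [QuotientGroup.eq]; simpa using hg
    · intro h g hg x hx ⟨hxH, hxg⟩
      obtain ⟨c, -, huniq⟩ := h x hx hxH
      have h1 := huniq ((1 : G) : G ⧸ H) ((hfix x 1).2 (by simpa using hxH))
      have h2 := huniq (g : G ⧸ H) ((hfix x g).2 ((hmem g x).1 hxg))
      have := h1.trans h2.symm
      rw [QuotientGroup.eq] at this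
      exact hg (by simpa using this)

end Cfsg.Agent.S5437
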