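import Cfsg.Statements.S5438
import Cfsg.Agent.Lib.Trans3.Basic
import Cfsg.Agent.Lib.Transfer.Frobenius

set_option autoImplicit false
open Cfsg

namespace Cfsg.Agent.S5438

/-- Let z be a 2-central involution of the finite group G (an involution central in some Sylow 2-subgroup) and H a subgroup containing z such that the coset H is the only coset of H fixed by z (in the action of G on the cosets of H). Then H has odd index in G, and for every 2-element x of H the conjugates of x lying in H form a single H-class. -/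
theorem result {G : Type*} [Group G] [Finite G] (z : G) (hz : Cfsg.IsTwoCentralInvolution z) (H : Subgroup G) (hzH : z ∈ H) (hfix : ∀ g : G, g⁻¹ * z * g ∈ H → g ∈ H) : Odd H.index ∧ ∀ x ∈ H, (∃ k : ℕ, orderOf x = 2 ^ k) → ∀ g : G, g * x * g⁻¹ ∈ H → ∃ h ∈ H, h * x * h⁻¹ = g * x * g⁻¹ := by
  haveI : Fact (Nat.Prime 2) := ⟨Nat.prime_two⟩
  obtain ⟨hz2, P, hzP, hPz⟩ := hz
  have hPH : (P : Subgroup G) ≤ H := fun p hp => hfix p (by
    rwa [mul_assoc, ← hPz p hp, inv_mul_cancel_left])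
  refine ⟨?_, fun x hx hxo g hgx => ?_⟩
  · rw [← Nat.not_even_iff_odd, even_iff_two_dvd]
    exact fun h => P.not_dvd_index (h.trans (Subgroup.index_dvd_of_le hPH))
  -- every 2-element of `H` commutes with some `H`-conjugate of `z`
  have hcom : ∀ w ∈ H, (∃ k : ℕ, orderOf w = 2 ^ k) →
      ∃ a ∈ H, Commute w (a * z * a⁻¹) := by
    intro w hw ⟨k, hk⟩
    have hp : IsPGroup 2 (Subgroup.zpowers (⟨w, hw⟩ : H)) := IsPGroup.of_card
      (n := k) (by rw [Nat.card_zpowers, Subgroup.orderOf_mk, hk])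
    obtain ⟨T, hT⟩ := hp.exists_le_sylow
    obtain ⟨a, ha⟩ := MulAction.exists_smul_eq H (P.subtype hPH) T
    have hwT : (⟨w, hw⟩ : H) ∈ (T : Subgroup H) := hT (Subgroup.mem_zpowers _)
    rw [← ha, Sylow.coe_subgroup_smul, Subgroup.mem_pointwise_smul_iff_inv_smul_mem] at hwT
    simp only [MulAut.smul_def, ← map_inv, MulAut.conj_apply, inv_inv, Sylow.coe_subtype,
      Subgroup.mem_subgroupOf, Subgroup.coe_mul, Subgroup.coe_inv] at hwT
    refine ⟨a, a.2, ?_⟩
    have h1 := hPz _ hwT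
    calc w * (a * z * (a : G)⁻¹) = a * ((a : G)⁻¹ * w * a * z) * (a : G)⁻¹ := by group
      _ = a * (z * ((a : G)⁻¹ * w * a)) * (a : G)⁻¹ := by rw [h1]
      _ = a * z * (a : G)⁻¹ * w := by group
  -- conjugates of `z` by elements of `H` still fix only the coset `H`
  have hfix' : ∀ a ∈ H, ∀ c : G, c⁻¹ * (a * z * a⁻¹) * c ∈ H → c ∈ H := by
    intro a ha c hc
    have := H.mul_mem ha (hfix (a⁻¹ * c) (by
      rwa [show (a⁻¹ * c)⁻¹ * z * (a⁻¹ * c) = c⁻¹ * (a * z * a⁻¹) * c by group]))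
    rwa [mul_inv_cancel_left] at this
  set y := g * x * g⁻¹ with hy
  obtain ⟨a, ha, hax⟩ := hcom x hx hxo
  obtain ⟨b, hb, hby⟩ := hcom y hgx (by rwa [hy, CfsgLib.Trans3.orderOf_conj])
  set C := Subgroup.centralizer ({y} : Set G) with hC
  have hz2C : b * z * b⁻¹ ∈ C := Subgroup.mem_centralizer_singleton_iff.2 hby.symm.eq
  have hp2 : IsPGroup 2 (Subgroup.zpowers (⟨_, hz2C⟩ : C)) := IsPGroup.of_card
    (n := 1) (by rw [Nat.card_zpowers, Subgroup.orderOf_mk, CfsgLib.Trans3.orderOf_conj, hz2, pow_one])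
  obtain ⟨R, hR⟩ := hp2.exists_le_sylow
  have hzR : b * z * b⁻¹ ∈ (R : Subgroup C).map C.subtype :=
    ⟨⟨_, hz2C⟩, hR (Subgroup.mem_zpowers _), rfl⟩
  have hbH : b * z * b⁻¹ ∈ H := H.mul_mem (H.mul_mem hb hzH) (H.inv_mem hb)
  have hRH : (R : Subgroup C).map C.subtype ≤ H := by
    by_contra hcon
    obtain ⟨n, hnR, hnN, hnD⟩ := CfsgLib.Transfer.exists_mem_normalizer_not_mem
      (R.isPGroup'.map C.subtype) (D := (R : Subgroup C).map C.subtype ⊓ H)
      (lt_of_le_of_ne inf_le_left fun e => hcon (inf_eq_left.1 e))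
    refine hnD ⟨hnR, hfix' b hb n ?_⟩
    have := (Subgroup.mem_normalizer_iff''.1 hnN (b * z * b⁻¹)).1 ⟨hzR, hbH⟩
    exact this.2
  have hgC : g * (a * z * a⁻¹) * g⁻¹ ∈ C := by
    rw [hC, Subgroup.mem_centralizer_singleton_iff, hy]
    have h1 := hax.eq
    calc g * (a * z * a⁻¹) * g⁻¹ * (g * x * g⁻¹) = g * (a * z * a⁻¹ * x) * g⁻¹ := by group
      _ = g * (x * (a * z * a⁻¹)) * g⁻¹ := by rw [h1]
      _ = g * x * g⁻¹ * (g * (a * z * a⁻¹) * g⁻¹) := by group
  have hp3 : IsPGroup 2 (Subgroup.zpowers (⟨_, hgC⟩ : C)) := IsPGroup.of_card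
    (n := 1) (by rw [Nat.card_zpowers, Subgroup.orderOf_mk, CfsgLib.Trans3.orderOf_conj,
      CfsgLib.Trans3.orderOf_conj, hz2, pow_one])
  obtain ⟨R', hR'⟩ := hp3.exists_le_sylow
  obtain ⟨c, hc⟩ := MulAction.exists_smul_eq C R' R
  have hcR : c * ⟨_, hgC⟩ * c⁻¹ ∈ (R : Subgroup C) := by
    rw [← hc, Sylow.coe_subgroup_smul, Subgroup.mem_pointwise_smul_iff_inv_smul_mem]
    simpa [MulAut.smul_def, mul_assoc] using hR' (Subgroup.mem_zpowers _)
  have hcH : (c : G) * g ∈ H := by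
    refine inv_mem_iff.1 (hfix' a ha ((c : G) * g)⁻¹ ?_)
    rw [inv_inv]
    have := hRH ⟨_, hcR, rfl⟩
    simpa [mul_assoc] using this
  refine ⟨_, hcH, ?_⟩
  have := Subgroup.mem_centralizer_singleton_iff.1 c.2
  calc (c : G) * g * x * ((c : G) * g)⁻¹ = c * y * (c : G)⁻¹ := by rw [hy]; group
    _ = y := by rw [this]; group

end Cfsg.Agent.S5438
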