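import Cfsg.Statements.S5439


set_option autoImplicit false
open Cfsg

namespace Cfsg.Agent.S5439

/-- Let I and J be two different conjugacy classes of involutions of the finite group G and H a subgroup such that every member of I ∪ J fixes exactly one coset in the action on the cosets of H, and such that for every a in I ∩ H and every b in (I ∪ J) ∩ H different from a and commuting with it, the centralizer of a b lies in H. Then H = G. -/
theorem result {G : Type*} [Group G] [Finite G] (I J : Set G) (a₀ b₀ : G) (ha₀ : orderOf a₀ = 2) (hb₀ : orderOf b₀ = 2) (hI : I = {x | IsConj a₀ x}) (hJ : J = {x | IsConj b₀ x}) (hIJ : I ≠ J) (H : Subgroup G) (hfix : ∀ x ∈ I ∪ J, ∃! c : G ⧸ H, x • c = c) (hcent : ∀ a ∈ I, a ∈ H → ∀ b ∈ I ∪ J, b ∈ H → a ≠ b → a * b = b * a → Subgroup.centralizer ({a * b} : Set G) ≤ H) : H = ⊤ := by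
  have inI : ∀ a, a ∈ I → orderOf a = 2 := by
    intro a ha
    rw [hI] at ha
    obtain ⟨g, rfl⟩ := isConj_iff.1 ha
    rw [← ha₀]
    exact orderOf_injective (MulAut.conj g).toMonoidHom (MulAut.conj g).injective a₀
  have inJ : ∀ a, a ∈ J → orderOf a = 2 := by
    intro a ha
    rw [hJ] at ha
    obtain ⟨g, rfl⟩ := isConj_iff.1 ha
    rw [← hb₀]
    exact orderOf_injective (MulAut.conj g).toMonoidHom (MulAut.conj g).injective b₀
  have conjI : ∀ a ∈ I, ∀ g : G, g * a * g⁻¹ ∈ I := by
    intro a ha g
    rw [hI] at ha ⊢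
    exact ha.trans (isConj_iff.2 ⟨g, rfl⟩)
  have conjJ : ∀ a ∈ J, ∀ g : G, g * a * g⁻¹ ∈ J := by
    intro a ha g
    rw [hJ] at ha ⊢
    exact ha.trans (isConj_iff.2 ⟨g, rfl⟩)
  have disj : ∀ x, x ∈ I → x ∈ J → False := by
    intro x hxI hxJ
    apply hIJ
    rw [hI] at hxI
    rw [hJ] at hxJ
    rw [hI, hJ]
    ext y
    exact ⟨fun h => (hxJ.trans hxI.symm).trans h, fun h => (hxI.trans hxJ.symm).trans h⟩
  have fixconj : ∀ (x g : G) (c : G ⧸ H), x • c = c → (g * x * g⁻¹) • g • c = g • c := by
    intro x g c h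
    rw [mul_smul, inv_smul_smul, mul_smul, h]
  -- two members of different classes fix the same coset
  have key : ∀ a ∈ I, ∀ b ∈ J, ∀ c : G ⧸ H, a • c = c → b • c = c := by
    intro a ha b hb c hc
    obtain ⟨g, rfl⟩ := QuotientGroup.mk_surjective c
    -- move the coset to `H`
    set a' := g⁻¹ * a * g with ha'
    set b' := g⁻¹ * b * g with hb'
    have ha'I : a' ∈ I := by have := conjI a ha g⁻¹; rwa [inv_inv] at this
    have hb'J : b' ∈ J := by have := conjJ b hb g⁻¹; rwa [inv_inv] at this
    have stab : ∀ x : G, x • ((1 : G) : G ⧸ H) = ((1 : G) : G ⧸ H) ↔ x ∈ H := by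
      intro x
      rw [MulAction.Quotient.smul_coe, smul_eq_mul, mul_one, QuotientGroup.eq, mul_one, inv_mem_iff]
    have hgc : g • ((1 : G) : G ⧸ H) = (g : G ⧸ H) := by
      rw [MulAction.Quotient.smul_coe, smul_eq_mul, mul_one]
    have haH : a' ∈ H := by
      rw [← stab, ha', mul_smul, mul_smul, hgc, inv_smul_eq_iff, hgc, hc]
    have a2 : a' * a' = 1 := by
      rw [← pow_two, ← inI a' ha'I]; exact pow_orderOf_eq_one a'
    have b2 : b' * b' = 1 := by
      rw [← pow_two, ← inJ b' hb'J]; exact pow_orderOf_eq_one b'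
    set u := a' * b' with hu
    have hinv : a' * u * a' = u⁻¹ := by
      rw [hu, mul_inv_rev, inv_eq_of_mul_eq_one_right a2, inv_eq_of_mul_eq_one_right b2,
        ← mul_assoc a' a' b', a2, one_mul]
    have parity : ∀ j : ℕ, a' * u ^ j ∈ I ∪ J := by
      intro j
      induction j using Nat.strong_induction_on with
      | _ j ih =>
        match j, ih with
        | 0, _ => left; simpa using ha'I
        | 1, _ => right; rw [pow_one, hu, ← mul_assoc, a2, one_mul]; exact hb'J
        | j + 2, ih =>
          have e : u⁻¹ * (a' * u ^ j) * u⁻¹⁻¹ = a' * u ^ (j + 2) := by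
            rw [inv_inv, ← hinv, show j + 2 = 1 + j + 1 by ring, pow_succ, pow_add, pow_one]
            calc a' * u * a' * (a' * u ^ j) * u = a' * u * (a' * a') * u ^ j * u := by group
              _ = _ := by rw [a2, mul_one]; group
          rcases ih j (by omega) with h | h
          · left; rw [← e]; exact conjI _ h _
          · right; rw [← e]; exact conjJ _ h _
    have h1 : ∀ i : ℕ, a' * u ^ i * a' = (u ^ i)⁻¹ := by
      intro i
      induction i with
      | zero => simp [a2]
      | succ i ih =>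
        calc a' * u ^ (i + 1) * a' = a' * u * (a' * a') * u ^ i * a' := by
              rw [a2, pow_succ']; group
          _ = (a' * u * a') * (a' * u ^ i * a') := by group
          _ = (u ^ (i + 1))⁻¹ := by rw [hinv, ih, ← mul_inv_rev, ← pow_succ]
    have hodd : ¬ Odd (orderOf u) := by
      rintro ⟨k, hk⟩
      have e : u ^ k * a' * (u ^ k)⁻¹ = b' := by
        calc u ^ k * a' * (u ^ k)⁻¹ = u ^ k * a' * (a' * u ^ k * a') := by rw [h1]
          _ = u ^ k * (a' * a') * u ^ k * a' := by group
          _ = u ^ (2 * k) * a' := by rw [a2, mul_one, two_mul, pow_add]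
          _ = u⁻¹ * a' := by
            congr 1
            rw [eq_inv_iff_mul_eq_one, ← pow_succ, ← hk, pow_orderOf_eq_one]
          _ = b' := by
            rw [hu, mul_inv_rev, inv_eq_of_mul_eq_one_right b2, inv_eq_of_mul_eq_one_right a2,
              mul_assoc, a2, mul_one]
      exact disj b' (e ▸ conjI a' ha'I _) hb'J
    obtain ⟨m, hm⟩ := Nat.not_odd_iff_even.1 hodd
    have hm0 : 0 < m := by have := orderOf_pos u; omega
    set z := u ^ m with hz
    have hz1 : z ≠ 1 := fun h => by
      have h' := orderOf_dvd_iff_pow_eq_one.2 h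
      have := Nat.le_of_dvd hm0 h'
      omega
    have hzi : z⁻¹ = z := inv_eq_of_mul_eq_one_right (by
      rw [hz, ← pow_add, ← hm, pow_orderOf_eq_one])
    have hza : a' * z = z * a' := by
      have h := h1 m
      rw [← hz, hzi] at h
      calc a' * z = (a' * z * a') * a' := by rw [mul_assoc (a' * z) a' a', a2, mul_one]
        _ = _ := by rw [h]
    set q := a' * z with hq
    have hqIJ : q ∈ I ∪ J := parity m
    have hcomm : a' * q = q * a' := by rw [hq, mul_assoc a' z a', ← hza]
    have hqH : q ∈ H := by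
      obtain ⟨d, -, uniq⟩ := hfix a' (Or.inl ha'I)
      have e1 := uniq _ ((stab a').2 haH)
      have e2 := uniq (q • ((1 : G) : G ⧸ H)) (by
        show a' • q • ((1 : G) : G ⧸ H) = _
        rw [← mul_smul, hcomm, mul_smul, (stab a').2 haH])
      exact (stab q).1 (e2.trans e1.symm)
    have hne : a' ≠ q := fun h => hz1 (by
      have := congrArg (a' * ·) h
      simp only [hq, ← mul_assoc, a2, one_mul] at this
      exact this.symm)
    have hC := hcent a' ha'I haH q hqIJ hqH hne hcomm
    rw [hq, ← mul_assoc, a2, one_mul] at hC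
    have hbz : b' * z = z * b' := by
      have e : b' = a' * u := by rw [hu, ← mul_assoc, a2, one_mul]
      have h2 : u * z = z * u := by rw [hz, ← pow_succ', pow_succ]
      calc b' * z = a' * (u * z) := by rw [e, mul_assoc]
        _ = a' * z * u := by rw [h2, ← mul_assoc]
        _ = z * (a' * u) := by rw [← mul_assoc z, ← hza]
        _ = z * b' := by rw [← e]
    have hbH : b' ∈ H := hC (Subgroup.mem_centralizer_singleton_iff.2 hbz)
    have := (stab b').2 hbH
    rwa [hb', mul_smul, mul_smul, hgc, inv_smul_eq_iff, hgc] at this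
  have haI : a₀ ∈ I := by rw [hI]; exact IsConj.refl _
  have hbJ : b₀ ∈ J := by rw [hJ]; exact IsConj.refl _
  obtain ⟨c, hc, -⟩ := hfix a₀ (Or.inl haI)
  have hgfix : ∀ g : G, g • c = c := by
    intro g
    have hb := key a₀ haI b₀ hbJ c hc
    have hb' := key a₀ haI _ (conjJ b₀ hbJ g) c hc
    obtain ⟨d, -, uniq⟩ := hfix _ (Or.inr (conjJ b₀ hbJ g))
    exact (uniq _ (fixconj b₀ g c hb)).trans (uniq _ hb').symm
  obtain ⟨x, rfl⟩ := QuotientGroup.mk_surjective c
  refine eq_top_iff.2 fun g _ => ?_
  have := hgfix (x * g * x⁻¹)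
  rw [MulAction.Quotient.smul_coe, smul_eq_mul, QuotientGroup.eq] at this
  simpa [mul_assoc] using this

end Cfsg.Agent.S5439
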