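import Cfsg.Statements.S5440
import Cfsg.Agent.Lib.Trans3.FiLarge.Model
import Cfsg.Agent.Lib.Trans3.FiLarge.Fusion

set_option autoImplicit false
open Cfsg

namespace Cfsg.Agent.S5440

/-- Let G be a finite group of large Fischer type at the involution z: the generalized Fitting subgroup Q of H = C_G(z) is extraspecial of order 2^13, H has normal subgroups Q ≤ H₁ ≤ H₂ with H₁/Q of order 3, H₂/H₁ the projective special unitary group of dimension 4 over the field with nine elements and H₂ of index 2 in H, and some conjugate of z other than z lies in Q. Then H has exactly two orbits, under conjugation, on the involutions of Q other than z. -/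
theorem result {G : Type*} [Group G] [Finite G] (z : G) (Q : Subgroup (Subgroup.centralizer ({z} : Set G))) [Q.Normal] (hF : Cfsg.IsOfLargeFischerTypeAt z Q) : ∃ s t : Subgroup.centralizer ({z} : Set G), s ∈ Q ∧ t ∈ Q ∧ orderOf s = 2 ∧ orderOf t = 2 ∧ (s : G) ≠ z ∧ (t : G) ≠ z ∧ (¬ ∃ h : Subgroup.centralizer ({z} : Set G), h * s * h⁻¹ = t) ∧ ∀ x : Subgroup.centralizer ({z} : Set G), x ∈ Q → orderOf x = 2 → (x : G) ≠ z → (∃ h : Subgroup.centralizer ({z} : Set G), h * s * h⁻¹ = x) ∨ ∃ h : Subgroup.centralizer ({z} : Set G), h * t * h⁻¹ = x := by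
  classical
  obtain ⟨c⟩ := CfsgLib.Trans3.FiLarge.exists_coord hF
  have hS : CfsgLib.Trans3.FiLarge.InSmall c.b
      (CfsgLib.Chev.U43U6.vdec CfsgLib.Trans3.FiLarge.om CfsgLib.Trans3.FiLarge.smallRep) :=
    ⟨1, one_mem _, Matrix.one_mulVec _⟩
  have hB : CfsgLib.Trans3.FiLarge.InBig c.b
      (CfsgLib.Chev.U43U6.vdec CfsgLib.Trans3.FiLarge.om CfsgLib.Trans3.FiLarge.bigRep) :=
    ⟨1, one_mem _, Matrix.one_mulVec _⟩
  obtain ⟨s, hs, hsv, hs2, hsz⟩ := CfsgLib.Trans3.FiLarge.exists_invol c (Or.inl hS)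
  obtain ⟨t, ht, htv, ht2, htz⟩ := CfsgLib.Trans3.FiLarge.exists_invol c (Or.inr hB)
  rw [← hsv] at hS
  rw [← htv] at hB
  have hcz : IsConj z (t : G) := (CfsgLib.Trans3.FiLarge.big_iff_conj hF c ht htz).1 hB
  refine ⟨s, t, hs, ht, hs2, ht2, hsz, htz, ?_, fun x hx hx2 hxz => ?_⟩
  · rintro ⟨h, hh⟩
    have hcs : IsConj z (s : G) := by
      refine hcz.trans (IsConj.symm ?_)
      rw [isConj_iff]
      exact ⟨(h : G), by rw [← hh]; rfl⟩
    exact CfsgLib.Trans3.FiLarge.small_ne_big hS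
      ((CfsgLib.Trans3.FiLarge.big_iff_conj hF c hs hsz).2 hcs)
  · have hx0 := CfsgLib.Trans3.FiLarge.pr_ne_zero c hx hx2 hxz
    rcases CfsgLib.Trans3.FiLarge.class_cases c hx hx2 hxz with h | h
    · obtain ⟨m, -, e⟩ := CfsgLib.Trans3.FiLarge.conj_of_class c hs hx hx0 (hS.trans h)
      exact Or.inl ⟨m, e⟩
    · obtain ⟨m, -, e⟩ := CfsgLib.Trans3.FiLarge.conj_of_class c ht hx hx0 (hB.trans h)
      exact Or.inr ⟨m, e⟩

end Cfsg.Agent.S5440
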