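import Cfsg.Statements.S5452
import Cfsg.Agent.Lib.Trans3.Fi.DoubleCover
-- import your own Cfsg.Agent.* helpers here

set_option autoImplicit false
open Cfsg

namespace Cfsg.Agent.S5452

/-- Let G be a finite group with an involution d whose centralizer C is quasisimple with C modulo the subgroup generated by d isomorphic to the projective special unitary group of dimension 6 over the field with four elements, and suppose some conjugate of d other than d commutes with d. Then every involution of C modulo the subgroup generated by d is the image of an involution of C, and d is not a square in G. -/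
theorem result {G : Type*} [Group G] [Finite G] (d : G) (hd : orderOf d = 2) (hq : Cfsg.IsQuasisimple ↥(Subgroup.centralizer ({d} : Set G))) [hzn : ((Subgroup.zpowers d).subgroupOf (Subgroup.centralizer ({d} : Set G))).Normal] (K : Type) [Field K] [Fintype K] (hK : Fintype.card K = 4) (e : ↥(Subgroup.centralizer ({d} : Set G)) ⧸ (Subgroup.zpowers d).subgroupOf (Subgroup.centralizer ({d} : Set G)) ≃* Cfsg.PSU 6 K 2) (hnwc : ∃ g : G, g * d * g⁻¹ ∈ Subgroup.centralizer ({d} : Set G) ∧ g * d * g⁻¹ ≠ d) : (∀ x : ↥(Subgroup.centralizer ({d} : Set G)) ⧸ (Subgroup.zpowers d).subgroupOf (Subgroup.centralizer ({d} : Set G)), orderOf x = 2 → ∃ y : ↥(Subgroup.centralizer ({d} : Set G)), orderOf y = 2 ∧ (QuotientGroup.mk y : ↥(Subgroup.centralizer ({d} : Set G)) ⧸ (Subgroup.zpowers d).subgroupOf (Subgroup.centralizer ({d} : Set G))) = x) ∧ ¬ ∃ g : G, g ^ 2 = d := by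
  have hC := CfsgLib.Trans3.Fi.dcov_centralizer (d := d) hd
  have hU : CfsgLib.Trans3.Fi.IsU6
      (↥(Subgroup.centralizer ({d} : Set G)) ⧸
        (Subgroup.zpowers d).subgroupOf (Subgroup.centralizer ({d} : Set G))) :=
    ⟨K, inferInstance, inferInstance, hK, ⟨e⟩⟩
  have hl := CfsgLib.Trans3.Fi.u6_dcov_lift hC hU
  refine ⟨fun x hx => ?_, CfsgLib.Trans3.Fi.not_square_of_lifts hd rfl hC hl⟩
  obtain ⟨y, hy, hyx⟩ := hl x (by rw [← pow_two, ← hx]; exact pow_orderOf_eq_one x)
  haveI : Fact (Nat.Prime 2) := ⟨Nat.prime_two⟩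
  refine ⟨y, orderOf_eq_prime (by rw [pow_two]; exact hy) fun h1 => ?_, hyx⟩
  rw [← hyx, h1, map_one, orderOf_one] at hx
  exact absurd hx (by decide)

end Cfsg.Agent.S5452
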