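import Cfsg.Statements.S5454
import Cfsg.Agent.Lib.PLocal.U6JCount

set_option autoImplicit false
open Cfsg

namespace Cfsg.Agent.S5454

/-- Let G be a finite group with an involution d whose centralizer C is quasisimple with C modulo the subgroup generated by d isomorphic to the projective special unitary group of dimension 6 over the field with four elements, and suppose some conjugate of d other than d commutes with d. Let S be a Sylow 2-subgroup of C and A the Thompson subgroup of S (generated by the elementary abelian subgroups of S of largest order), regarded as a subgroup of G. Then A is elementary abelian of order 2^10, exactly 22 conjugates of d lie in A, and the normalizer of A permutes them transitively. -/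
theorem result {G : Type*} [Group G] [Finite G] (d : G) (hd : orderOf d = 2) (hq : Cfsg.IsQuasisimple ↥(Subgroup.centralizer ({d} : Set G))) [hzn : ((Subgroup.zpowers d).subgroupOf (Subgroup.centralizer ({d} : Set G))).Normal] (K : Type) [Field K] [Fintype K] (hK : Fintype.card K = 4) (e : ↥(Subgroup.centralizer ({d} : Set G)) ⧸ (Subgroup.zpowers d).subgroupOf (Subgroup.centralizer ({d} : Set G)) ≃* Cfsg.PSU 6 K 2) (hnwc : ∃ g : G, g * d * g⁻¹ ∈ Subgroup.centralizer ({d} : Set G) ∧ g * d * g⁻¹ ≠ d) (S : Sylow 2 ↥(Subgroup.centralizer ({d} : Set G))) (A : Subgroup G) (hA : A = (Cfsg.thompsonSubgroupOf 2 (S : Subgroup ↥(Subgroup.centralizer ({d} : Set G)))).map (Subgroup.centralizer ({d} : Set G)).subtype) : Cfsg.IsElementaryAbelian 2 A ∧ Nat.card A = 2 ^ 10 ∧ Set.ncard {x : G | x ∈ A ∧ IsConj d x} = 22 ∧ ∀ x ∈ A, ∀ y ∈ A, IsConj d x → IsConj d y → ∃ n ∈ Subgroup.normalizer (A : Set G), n * x * n⁻¹ = y := by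
  classical
  have hU : CfsgLib.Trans3.Fi.IsU6
      (↥(Subgroup.centralizer ({d} : Set G)) ⧸
        (Subgroup.zpowers d).subgroupOf (Subgroup.centralizer ({d} : Set G))) :=
    ⟨K, inferInstance, inferInstance, hK, ⟨e⟩⟩
  have hC := CfsgLib.Trans3.Fi.dcov_centralizer (d := d) hd
  obtain ⟨D, hD⟩ := CfsgLib.Trans3.Fi.u6_exists_group hU
  obtain ⟨E, hE, hJ⟩ := CfsgLib.PLocal.U6J.cover_thompson hC hU hD S
  rw [hJ] at hA
  have hperf := Group.isPerfect_def.1 hq.1
  have hspan := fun (x : G) (hx : x ∈ A) (hc : IsConj d x) =>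
    CfsgLib.PLocal.U6J.span_norm rfl hd hC hU hD hperf hnwc hE (hA ▸ hx) hc
  refine ⟨⟨⟨⟨fun a b => Subtype.ext ?_⟩⟩, fun a ha => ?_⟩, ?_, ?_, fun x hx y hy hcx hcy => ?_⟩
  · obtain ⟨a', ha'⟩ := a
    obtain ⟨b', hb'⟩ := b
    rw [hA] at ha' hb'
    obtain ⟨u, hu, eu⟩ := ha'
    obtain ⟨v, hv, ev⟩ := hb'
    show a' * b' = b' * a'
    rw [← eu, ← ev, ← map_mul, ← map_mul,
      ((CfsgLib.PLocal.U6J.cover_span hC hU hD hE hu).2 v hv).eq]
  · rw [hA] at ha
    obtain ⟨u, hu, rfl⟩ := ha
    rw [pow_two, ← map_mul, (CfsgLib.PLocal.U6J.cover_span hC hU hD hE hu).1, map_one]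
  · rw [hA, Subgroup.card_map_of_injective (Subgroup.subtype_injective _),
      CfsgLib.PLocal.U6J.cover_comap_card hC hU hD hE]
    norm_num
  · rw [hA]
    exact CfsgLib.PLocal.U6J.span_count rfl hd hC hU hD hperf hnwc hE
  · obtain ⟨n, hn, rfl⟩ := hspan x hx hcx
    obtain ⟨m, hm, rfl⟩ := hspan y hy hcy
    rw [← hA] at hn hm
    exact ⟨m * n⁻¹, mul_mem hm (inv_mem hn), by group⟩

end Cfsg.Agent.S5454
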