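import Cfsg.Statements.S5455
import Cfsg.Agent.Lib.PLocal.M22JCount

set_option autoImplicit false
open Cfsg
open scoped commutatorElement

namespace Cfsg.Agent.S5455

/-- Let G be a finite group with an involution d whose centralizer C is quasisimple, such that C modulo the subgroup generated by d is of type M(22) with respect to some conjugacy class of 3-transpositions generating it and also has an involution whose own centralizer is quasisimple with quotient by it isomorphic to the projective special unitary group of dimension 6 over the field with four elements and which is not weakly closed in that centralizer; and suppose some conjugate of d other than d commutes with d. Let S be a Sylow 2-subgroup of C and A the Thompson subgroup of S, regarded as a subgroup of G. Then A is elementary abelian of order 2^11, exactly 23 conjugates of d lie in A, and the normalizer of A permutes them transitively. -/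
theorem result {G : Type*} [Group G] [Finite G] (d : G) (hd : orderOf d = 2) (hq : Cfsg.IsQuasisimple ↥(Subgroup.centralizer ({d} : Set G))) [hzn : ((Subgroup.zpowers d).subgroupOf (Subgroup.centralizer ({d} : Set G))).Normal] (htype : ∃ E : Set (↥(Subgroup.centralizer ({d} : Set G)) ⧸ (Subgroup.zpowers d).subgroupOf (Subgroup.centralizer ({d} : Set G))), Cfsg.IsThreeTranspositionClass E ∧ Cfsg.IsOfTypeM22 _ E) (hinvol : ∃ d' : ↥(Subgroup.centralizer ({d} : Set G)) ⧸ (Subgroup.zpowers d).subgroupOf (Subgroup.centralizer ({d} : Set G)), orderOf d' = 2 ∧ Cfsg.IsQuasisimple ↥(Subgroup.centralizer ({d'} : Set _)) ∧ (∃ (K : Type) (_ : Field K) (_ : Fintype K), Fintype.card K = 4 ∧ ∃ _ : ((Subgroup.zpowers d').subgroupOf (Subgroup.centralizer ({d'} : Set _))).Normal, Nonempty (↥(Subgroup.centralizer ({d'} : Set _)) ⧸ (Subgroup.zpowers d').subgroupOf (Subgroup.centralizer ({d'} : Set _)) ≃* Cfsg.PSU 6 K 2)) ∧ ∃ g, g * d' * g⁻¹ ∈ Subgroup.centralizer ({d'} : Set _) ∧ g * d' * g⁻¹ ≠ d')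 (hnwc : ∃ g : G, g * d * g⁻¹ ∈ Subgroup.centralizer ({d} : Set G) ∧ g * d * g⁻¹ ≠ d) (S : Sylow 2 ↥(Subgroup.centralizer ({d} : Set G))) (A : Subgroup G) (hA : A = (Cfsg.thompsonSubgroupOf 2 (S : Subgroup ↥(Subgroup.centralizer ({d} : Set G)))).map (Subgroup.centralizer ({d} : Set G)).subtype) : Cfsg.IsElementaryAbelian 2 A ∧ Nat.card A = 2 ^ 11 ∧ Set.ncard {x : G | x ∈ A ∧ IsConj d x} = 23 ∧ ∀ x ∈ A, ∀ y ∈ A, IsConj d x → IsConj d y → ∃ n ∈ Subgroup.normalizer (A : Set G), n * x * n⁻¹ = y := by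
  classical
  obtain ⟨E, hE, h⟩ := htype
  have hC := CfsgLib.Trans3.Fi.dcov_centralizer (d := d) hd
  have hD := CfsgLib.Trans3.class_isGroup hE
  obtain ⟨e₀, he₀, c₀, hc₀, hnc₀, -⟩ := h.2
  haveI : Nontrivial (↥(Subgroup.centralizer ({d} : Set G)) ⧸
      (Subgroup.zpowers d).subgroupOf (Subgroup.centralizer ({d} : Set G))) :=
    ⟨⟨e₀, 1, CfsgLib.Trans3.invol_ne_one (hD.1.1 _ he₀)⟩⟩
  haveI : IsSimpleGroup (↥(Subgroup.centralizer ({d} : Set G)) ⧸
      (Subgroup.zpowers d).subgroupOf (Subgroup.centralizer ({d} : Set G))) := by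
    haveI := hq.2
    refine (QuotientGroup.quotientMulEquivOfEq (?_ : (Subgroup.zpowers d).subgroupOf
      (Subgroup.centralizer ({d} : Set G)) =
        Subgroup.center ↥(Subgroup.centralizer ({d} : Set G)))).isSimpleGroup
    refine le_antisymm (fun x hx => ?_) fun x hx => ?_
    · rcases (hC.ker x).1 ((QuotientGroup.eq_one_iff x).2 hx) with rfl | rfl
      · exact one_mem _
      · exact Subgroup.mem_center_iff.2 fun y => (hC.central y).eq
    · have : (QuotientGroup.mk' ((Subgroup.zpowers d).subgroupOf (Subgroup.centralizer ({d} : Set G)))) x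
          ∈ Subgroup.center _ := Subgroup.mem_center_iff.2 fun y => by
        obtain ⟨y', rfl⟩ := hC.surj y
        rw [← map_mul, ← map_mul, Subgroup.mem_center_iff.1 hx y']
      rw [h.1, Subgroup.mem_bot] at this
      exact (QuotientGroup.eq_one_iff x).1 this
  have hcom : _root_.commutator (↥(Subgroup.centralizer ({d} : Set G)) ⧸
      (Subgroup.zpowers d).subgroupOf (Subgroup.centralizer ({d} : Set G))) = ⊤ := by
    refine ((inferInstance : (_root_.commutator _).Normal).eq_bot_or_eq_top).resolve_left fun e => hnc₀ ?_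
    have hm : ⁅e₀, c₀⁆ ∈ _root_.commutator _ := by
      rw [commutator_def]
      exact Subgroup.commutator_mem_commutator (Subgroup.mem_top _) (Subgroup.mem_top _)
    rw [e, Subgroup.mem_bot, commutatorElement_eq_one_iff_mul_comm] at hm
    exact hm
  haveI := ((MulEquiv.subgroupCongr hcom).trans Subgroup.topEquiv).isSimpleGroup
  obtain ⟨hP, hw⟩ := CfsgLib.Trans3.primitive_of_simple_commutator hE
    ⟨⟨e₀, hcom ▸ Subgroup.mem_top _⟩, ⟨c₀, hcom ▸ Subgroup.mem_top _⟩,
      fun e => hnc₀ (congrArg Subtype.val e)⟩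
  have hcl := CfsgLib.PLocal.M22J.m22j_hcl hC hD hP h
  have hsq : ∀ u, (QuotientGroup.mk' ((Subgroup.zpowers d).subgroupOf
      (Subgroup.centralizer ({d} : Set G)))) u ∈ E → u * u = 1 := fun u hu => by
    obtain ⟨g, hg, hgd⟩ := id hnwc
    exact CfsgLib.Trans3.Fi.m22_dcov_sq hd rfl hC hD hP hw h hcl hg hgd hu
  have hlifts := CfsgLib.Trans3.Fi.m22_dcov_main hd hq rfl hC hE h hnwc
  obtain ⟨Y, hY, hJ⟩ := CfsgLib.PLocal.M22J.cover22_thompson hC hD hP h hsq S
  rw [hJ] at hA
  have hperf := Group.isPerfect_def.1 hq.1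
  have hspan := fun (x : G) (hx : x ∈ A) (hc : IsConj d x) =>
    CfsgLib.PLocal.M22J.span22_norm rfl hd hC hD hP h hsq hperf hnwc hY (hA ▸ hx) hc
  refine ⟨⟨⟨⟨fun a b => Subtype.ext ?_⟩⟩, fun a ha => ?_⟩, ?_, ?_, fun x hx y hy hcx hcy => ?_⟩
  · obtain ⟨a', ha'⟩ := a
    obtain ⟨b', hb'⟩ := b
    rw [hA] at ha' hb'
    obtain ⟨u, hu, eu⟩ := ha'
    obtain ⟨v, hv, ev⟩ := hb'
    show a' * b' = b' * a'
    rw [← eu, ← ev, ← map_mul, ← map_mul,
      ((CfsgLib.PLocal.M22J.cover22_span hC hD hP h hsq hY hu).2 v hv).eq]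
  · rw [hA] at ha
    obtain ⟨u, hu, rfl⟩ := ha
    rw [pow_two, ← map_mul, (CfsgLib.PLocal.M22J.cover22_span hC hD hP h hsq hY hu).1, map_one]
  · rw [hA, Subgroup.card_map_of_injective (Subgroup.subtype_injective _),
      CfsgLib.PLocal.M22J.cover22_card hC hD hP h hsq hY]
    norm_num
  · exact CfsgLib.PLocal.M22J.span22_count rfl hd hC hD hP h hsq hperf hnwc hlifts hY hA
  · obtain ⟨n, hn, rfl⟩ := hspan x hx hcx
    obtain ⟨m, hm, rfl⟩ := hspan y hy hcy
    rw [← hA] at hn hm
    exact ⟨m * n⁻¹, mul_mem hm (inv_mem hn), by group⟩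

end Cfsg.Agent.S5455
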