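import Cfsg.Statements.S5458
import Cfsg.Agent.Lib.Trans3.Fi.M22Elem

set_option autoImplicit false
open Cfsg

namespace Cfsg.Agent.S5458

/-- Let G be a finite group with trivial centre generated by a conjugation-invariant set D of 3-transpositions on which it acts primitively, of type M(22), and suppose G also has an involution whose centralizer is quasisimple with quotient by it the projective special unitary group of dimension 6 over the field with four elements and which is not weakly closed in that centralizer. Let T be a Sylow 2-subgroup of G. Then the subgroup generated by the members of D lying in T is the Thompson subgroup of T (generated by the elementary abelian subgroups of T of largest order). -/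
theorem result {G : Type*} [Group G] [Finite G] {D : Set G} (hD : Cfsg.IsThreeTranspositionGroup D) (hprim : Cfsg.IsPrimitiveUnderConj D) (h22 : Cfsg.IsOfTypeM22 G D) (hM : ∃ d : G, orderOf d = 2 ∧ Cfsg.IsQuasisimple ↥(Subgroup.centralizer ({d} : Set G)) ∧ (∃ (_ : ((Subgroup.zpowers d).subgroupOf (Subgroup.centralizer ({d} : Set G))).Normal) (K : Type) (_ : Field K) (_ : Fintype K), Fintype.card K = 4 ∧ Nonempty (↥(Subgroup.centralizer ({d} : Set G)) ⧸ (Subgroup.zpowers d).subgroupOf (Subgroup.centralizer ({d} : Set G)) ≃* Cfsg.PSU 6 K 2)) ∧ ∃ g : G, g * d * g⁻¹ ∈ Subgroup.centralizer ({d} : Set G) ∧ g * d * g⁻¹ ≠ d) (T : Sylow 2 G) : Subgroup.closure {x : G | x ∈ D ∧ x ∈ (T : Subgroup G)} = Cfsg.thompsonSubgroupOf 2 (T : Subgroup G) := by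
  classical
  obtain ⟨X, hX⟩ := CfsgLib.Trans3.Fi.exists_clique22 hD hprim h22
  obtain ⟨W, eW⟩ : ∃ W, W = Subgroup.closure (X : Set G) := ⟨_, rfl⟩
  have hWel : ∀ v ∈ W, v * v = 1 := fun v hv =>
    (CfsgLib.Trans3.Fi.clique_elem hD hX (eW ▸ hv)).1
  obtain ⟨P, hP⟩ := (CfsgLib.Trans3.Fi.sqOne_pgroup hWel).exists_le_sylow
  obtain ⟨g, hg⟩ := MulAction.exists_smul_eq G P T
  -- the 22 members in `T`
  have hin : ∀ z ∈ X, g * z * g⁻¹ ∈ (T : Subgroup G) := by
    intro z hz
    rw [← hg]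
    exact Subgroup.smul_mem_pointwise_smul z (MulAut.conj g) _
      (hP (eW ▸ Subgroup.subset_closure hz))
  obtain ⟨Y, eY⟩ : ∃ Y : Finset G, Y = X.image fun z => g * z * g⁻¹ := ⟨_, rfl⟩
  have hY : CfsgLib.Trans3.Fi.Clique22 D Y := by
    refine ⟨fun y hy => ?_, fun y hy y' hy' => ?_, ?_⟩
    · rw [eY, Finset.mem_image] at hy
      obtain ⟨z, hz, rfl⟩ := hy
      exact hD.2.1 g z (hX.sub z hz)
    · rw [eY, Finset.mem_image] at hy hy'
      obtain ⟨z, hz, rfl⟩ := hy
      obtain ⟨z', hz', rfl⟩ := hy'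
      exact (CfsgLib.Trans3.commute_conj_iff g z z').2 (hX.comm z hz z' hz')
    · rw [eY, Finset.card_image_of_injective _ fun a b e => mul_left_cancel (mul_right_cancel e),
        hX.card]
  have hYT : ∀ y ∈ Y, y ∈ (T : Subgroup G) := by
    intro y hy
    rw [eY, Finset.mem_image] at hy
    obtain ⟨z, hz, rfl⟩ := hy
    exact hin z hz
  have hset : {x : G | x ∈ D ∧ x ∈ (T : Subgroup G)} = (Y : Set G) := by
    ext x
    refine ⟨fun ⟨hxD, hxT⟩ => CfsgLib.Trans3.Fi.clique_mem hD hprim h22 hY hxD fun y hy => ?_,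
      fun hy => ⟨hY.sub x hy, hYT x hy⟩⟩
    by_contra hn
    have h3 := CfsgLib.Trans3.pow_three hD.1 hxD (hY.sub y hy) hn
    obtain ⟨k, hk⟩ := T.isPGroup' ⟨x * y, mul_mem hxT (hYT y hy)⟩
    have hk' : (x * y) ^ 2 ^ k = 1 := congrArg Subtype.val hk
    have hcop : Nat.Coprime 3 (2 ^ k) := (by norm_num : Nat.Coprime 3 2).pow_right k
    have h1 : x * y = 1 := orderOf_eq_one_iff.1 (Nat.eq_one_of_dvd_coprimes hcop
      (orderOf_dvd_of_pow_eq_one h3) (orderOf_dvd_of_pow_eq_one hk'))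
    exact hn (by rw [eq_inv_of_mul_eq_one_left h1]; exact (Commute.refl y).inv_left)
  rw [hset]
  obtain ⟨hcard, -⟩ := CfsgLib.Trans3.Fi.clique_closure hD hprim h22 hY
  have hle : Subgroup.closure (Y : Set G) ≤ (T : Subgroup G) := (Subgroup.closure_le _).2 hYT
  obtain ⟨V, eV⟩ : ∃ V : Subgroup ↥(T : Subgroup G),
      V = (Subgroup.closure (Y : Set G)).subgroupOf (T : Subgroup G) := ⟨_, rfl⟩
  have hV : Nat.card V = 2 ^ 10 := by
    rw [eV, Nat.card_congr (Subgroup.subgroupOfEquivOfLe hle).toEquiv, hcard]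
  have hEA : Cfsg.IsElementaryAbelian 2 V := by
    refine ⟨⟨⟨fun a b => Subtype.ext (Subtype.ext ?_)⟩⟩, fun a ha => Subtype.ext ?_⟩
    · exact ((CfsgLib.Trans3.Fi.clique_elem hD hY (Subgroup.mem_subgroupOf.1 (eV ▸ a.2))).2 _
        (Subgroup.mem_subgroupOf.1 (eV ▸ b.2))).eq
    · rw [pow_two]
      exact (CfsgLib.Trans3.Fi.clique_elem hD hY (Subgroup.mem_subgroupOf.1 (eV ▸ ha))).1
  have hbound : ∀ A : Subgroup ↥(T : Subgroup G), Cfsg.IsElementaryAbelian 2 A →
      Nat.card A ≤ 2 ^ 10 ∧ (Nat.card A = 2 ^ 10 → A = V) := by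
    intro A hA
    have hsq : ∀ a ∈ A.map (T : Subgroup G).subtype, a * a = 1 := by
      rintro _ ⟨a, ha, rfl⟩
      rw [← pow_two, ← map_pow, hA.2 a ha, map_one]
    obtain ⟨h1, h2⟩ := CfsgLib.Trans3.Fi.m22_elem_bound hD hprim h22 hsq
    have ec : Nat.card ↥(A.map (T : Subgroup G).subtype) = Nat.card A :=
      (Nat.card_congr (A.equivMapOfInjective _ (Subgroup.subtype_injective _)).toEquiv).symm
    rw [ec] at h1 h2
    refine ⟨h1, fun e => ?_⟩
    obtain ⟨Z, hZ, eZ⟩ := h2 e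
    have hZY : Z = Y := Finset.eq_of_subset_of_card_le (fun z hz => ?_) (by rw [hZ.card, hY.card])
    · rw [eV, ← hZY, ← eZ]
      exact (Subgroup.comap_map_eq_self_of_injective (Subgroup.subtype_injective _) A).symm
    · have hzT : z ∈ (T : Subgroup G) := by
        have hz' : z ∈ A.map (T : Subgroup G).subtype := eZ ▸ Subgroup.subset_closure hz
        obtain ⟨a, -, ha⟩ := hz'
        exact ha ▸ a.2
      exact (Set.ext_iff.1 hset z).1 ⟨hZ.sub z hz, hzT⟩
  have hmax : Cfsg.maxElementaryAbelianSubgroups 2 ↥(T : Subgroup G) = {V} := by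
    ext A
    refine ⟨fun ⟨hA, hmx⟩ => ?_, fun e => ?_⟩
    · exact (hbound A hA).2 (le_antisymm (hbound A hA).1 (hV ▸ hmx V hEA))
    · rw [Set.mem_singleton_iff] at e
      subst e
      exact ⟨hEA, fun B hB => hV.symm ▸ (hbound B hB).1⟩
  rw [Cfsg.thompsonSubgroupOf, Cfsg.thompsonSubgroup, hmax, sSup_singleton, eV,
    Subgroup.map_subgroupOf_eq_of_le hle]

end Cfsg.Agent.S5458
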