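import Cfsg.Statements.S5459


set_option autoImplicit false
open Cfsg

namespace Cfsg.Agent.S5459

/-- Let G be a finite group with a quasisimple normal subgroup L and an involution d such that G is generated by L and d, the centre of L has odd order, and d inverts every element of the centre of L. If the commuting graph on the conjugacy class of the image of d in G modulo the centre of L is connected, then the commuting graph on the conjugacy class of d is connected. -/
theorem result {G : Type*} [Group G] [Finite G] (L : Subgroup G) [L.Normal] (hL : Cfsg.IsQuasisimple ↥L) (d : G) (hd : orderOf d = 2) (hgen : L ⊔ Subgroup.zpowers d = ⊤) (hodd : Odd (Nat.card ↥(Subgroup.center ↥L))) (hinv : ∀ c ∈ (Subgroup.center ↥L).map L.subtype, d * c * d⁻¹ = c⁻¹) [hn : ((Subgroup.center ↥L).map L.subtype).Normal] (hconn : (Cfsg.commutingGraph (conjugatesOf (QuotientGroup.mk d : G ⧸ (Subgroup.center ↥L).map L.subtype))).Connected) : (Cfsg.commutingGraph (conjugatesOf d)).Connected :=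 by
  set Z := (Subgroup.center ↥L).map L.subtype with hZdef
  set n := Nat.card ↥(Subgroup.center ↥L) with hn'
  have hZL : ∀ c ∈ Z, ∀ l ∈ L, l * c = c * l := by
    rintro c ⟨y, hy, rfl⟩ l hl
    exact congrArg Subtype.val (Subgroup.mem_center_iff.1 hy ⟨l, hl⟩)
  have hZsub : Z ≤ L := by rintro c ⟨y, -, rfl⟩; exact y.2
  have hpow : ∀ c ∈ Z, c ^ n = 1 := by
    rintro c ⟨y, hy, rfl⟩
    have h : (⟨y, hy⟩ : Subgroup.center ↥L) ^ n = 1 := pow_card_eq_one'
    exact congrArg (fun q : Subgroup.center ↥L => ((q : ↥L) : G)) h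
  have hroot : ∀ c ∈ Z, ∃ e ∈ Z, e * e = c := by
    obtain ⟨k, hk⟩ := hodd
    intro c hc
    refine ⟨c ^ (k + 1), Subgroup.pow_mem _ hc _, ?_⟩
    rw [← pow_add, show k + 1 + (k + 1) = n + 1 by omega, pow_succ, hpow c hc, one_mul]
  have hd2 : d * d = 1 := by rw [← pow_two, ← hd]; exact pow_orderOf_eq_one d
  have invd : ∀ x ∈ conjugatesOf d, x * x = 1 ∧ ∀ c ∈ Z, x * c * x⁻¹ = c⁻¹ := by
    intro x hx
    obtain ⟨g, rfl⟩ := isConj_iff.1 hx
    refine ⟨by rw [conj_mul, hd2, mul_one, mul_inv_cancel], fun c hc => ?_⟩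
    have hc' : g⁻¹ * c * g ∈ Z := by
      have := hn.conj_mem c hc g⁻¹
      rwa [inv_inv] at this
    calc g * d * g⁻¹ * c * (g * d * g⁻¹)⁻¹ = g * (d * (g⁻¹ * c * g) * d⁻¹) * g⁻¹ := by group
      _ = g * (g⁻¹ * c * g)⁻¹ * g⁻¹ := by rw [hinv _ hc']
      _ = c⁻¹ := by group
  set Γ := Cfsg.commutingGraph (conjugatesOf d) with hΓ
  have conjmem : ∀ (g x : G), x ∈ conjugatesOf d → g * x * g⁻¹ ∈ conjugatesOf d :=
    fun g x hx => hx.trans (isConj_iff.2 ⟨g, rfl⟩)
  let cg : G → conjugatesOf d → conjugatesOf d := fun g x => ⟨g * x.1 * g⁻¹, conjmem g x.1 x.2⟩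
  have hcomm : ∀ (g : G) (a b : G), Commute a b → Commute (g * a * g⁻¹) (g * b * g⁻¹) := by
    intro g a b h
    rw [commute_iff_eq, conj_mul, conj_mul, h.eq]
  have reach_cg : ∀ (g : G) {x y : conjugatesOf d}, Γ.Reachable x y → Γ.Reachable (cg g x) (cg g y) := by
    intro g x y h
    refine h.map ⟨cg g, fun {a b} hab => ?_⟩
    rw [hΓ, Cfsg.commutingGraph, SimpleGraph.fromRel_adj] at hab ⊢
    refine ⟨fun e => hab.1 (Subtype.ext ?_), hab.2.imp (hcomm g _ _) (hcomm g _ _)⟩
    have := congrArg Subtype.val e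
    exact mul_left_cancel (mul_right_cancel this)
  let x0 : conjugatesOf d := ⟨d, IsConj.refl d⟩
  -- the stabiliser of the component of `d`
  let S : Subgroup G :=
    { carrier := {g | Γ.Reachable x0 (cg g x0)}
      one_mem' := by
        show Γ.Reachable x0 (cg 1 x0)
        rw [show cg 1 x0 = x0 from Subtype.ext (by simp [cg])]
      mul_mem' := by
        intro a b ha hb
        show Γ.Reachable x0 (cg (a * b) x0)
        rw [show cg (a * b) x0 = cg a (cg b x0) from Subtype.ext (by simp [cg, mul_assoc])]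
        exact ha.trans (reach_cg a hb)
      inv_mem' := by
        intro a ha
        show Γ.Reachable x0 (cg a⁻¹ x0)
        have := reach_cg a⁻¹ ha
        rw [show cg a⁻¹ (cg a x0) = x0 from Subtype.ext (by simp [cg, mul_assoc])] at this
        exact this.symm }
  -- every coset of `Z` meets the component
  have step : ∀ (x : conjugatesOf d) (y : G) (hy : y ∈ conjugatesOf d),
      Commute (QuotientGroup.mk x.1 : G ⧸ Z) (QuotientGroup.mk y) →
      ∃ e ∈ Z, Γ.Reachable x (cg e ⟨y, hy⟩) := by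
    intro x y hy hc
    obtain ⟨hx2, hxi⟩ := invd x.1 x.2
    obtain ⟨hy2, hyi⟩ := invd y hy
    have hc' : x.1 * y * x.1 * y ∈ Z := by
      have := hc.eq
      rw [← QuotientGroup.mk_mul, ← QuotientGroup.mk_mul, QuotientGroup.eq] at this
      have h1 : x.1⁻¹ = x.1 := inv_eq_of_mul_eq_one_right hx2
      have h2 : y⁻¹ = y := inv_eq_of_mul_eq_one_right hy2
      rw [mul_inv_rev, h1, h2] at this
      have h3 := hn.conj_mem _ this x.1
      rwa [h1, show x.1 * (y * x.1 * (y * x.1)) * x.1 = x.1 * y * x.1 * y * (x.1 * x.1) by group,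
        hx2, mul_one] at h3
    obtain ⟨f, hf, hff⟩ := hroot _ hc'
    obtain ⟨e, he, hee⟩ := hroot f hf
    refine ⟨e, he, ?_⟩
    by_cases heq : x = cg e ⟨y, hy⟩
    · rw [← heq]
    refine SimpleGraph.Adj.reachable ?_
    rw [hΓ, Cfsg.commutingGraph, SimpleGraph.fromRel_adj]
    refine ⟨heq, Or.inl ?_⟩
    show Commute x.1 (e * y * e⁻¹)
    have ey : e * y * e⁻¹ = f * y := by
      have h := hyi e⁻¹ (Subgroup.inv_mem _ he)
      rw [inv_inv] at h
      calc e * y * e⁻¹ = e * (y * e⁻¹ * y⁻¹) * y := by group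
        _ = _ := by rw [h, hee]
    rw [ey, commute_iff_eq]
    have hxf : x.1 * f = f⁻¹ * x.1 := by rw [← hxi f hf]; group
    have hxy : x.1 * y = x.1 * y * x.1 * y * (y * x.1) := by
      rw [show x.1 * y * x.1 * y * (y * x.1) = x.1 * y * x.1 * (y * y) * x.1 by group, hy2, mul_one,
        mul_assoc (x.1 * y) x.1 x.1, hx2, mul_one]
    calc x.1 * (f * y) = f⁻¹ * (x.1 * y) := by rw [← mul_assoc, hxf, mul_assoc]
      _ = f⁻¹ * (f * f * (y * x.1)) := by rw [hff, ← hxy]
      _ = f * y * x.1 := by group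
  have hcov : ∀ g : G, ∃ e ∈ Z, e * g ∈ S := by
    intro g
    have hg : (QuotientGroup.mk (g * d * g⁻¹) : G ⧸ Z) ∈ conjugatesOf (QuotientGroup.mk d : G ⧸ Z) :=
      isConj_iff.2 ⟨QuotientGroup.mk g, rfl⟩
    obtain ⟨w⟩ := hconn.preconnected ⟨QuotientGroup.mk d, IsConj.refl _⟩ ⟨_, hg⟩
    have main : ∀ {a b : conjugatesOf (QuotientGroup.mk d : G ⧸ Z)}, (Cfsg.commutingGraph _).Walk a b →
        ∀ x : conjugatesOf d, (QuotientGroup.mk x.1 : G ⧸ Z) = a.1 → ∀ y : conjugatesOf d,
        (QuotientGroup.mk y.1 : G ⧸ Z) = b.1 → ∃ e ∈ Z, Γ.Reachable x (cg e y) := by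
      intro a b w
      induction w with
      | nil =>
        intro x hx y hy
        exact step x y.1 y.2 (by rw [hx, hy])
      | @cons a m b hadj w ih =>
        intro x hx y hy
        obtain ⟨g', hg'⟩ := isConj_iff.1 m.2
        obtain ⟨g, rfl⟩ := QuotientGroup.mk_surjective g'
        let z : conjugatesOf d := cg g x0
        have hz : (QuotientGroup.mk z.1 : G ⧸ Z) = m.1 := by rw [← hg']; rfl
        obtain ⟨e, he, hr⟩ := step x z.1 z.2 (by
          rw [hx, hz]
          rw [Cfsg.commutingGraph, SimpleGraph.fromRel_adj] at hadj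
          exact hadj.2.elim id Commute.symm)
        obtain ⟨e', he', hr'⟩ := ih z hz y hy
        refine ⟨e * e', Subgroup.mul_mem _ he he', ?_⟩
        have h2 := reach_cg e hr'
        rw [show cg e (cg e' y) = cg (e * e') y from Subtype.ext (by simp [cg, mul_assoc])] at h2
        exact hr.trans h2
    obtain ⟨e, he, hr⟩ := main w x0 rfl (cg g x0) rfl
    refine ⟨e, he, ?_⟩
    show Γ.Reachable x0 (cg (e * g) x0)
    rw [show cg (e * g) x0 = cg e (cg g x0) from Subtype.ext (by simp [cg, mul_assoc])]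
    exact hr
  have hLS : L ≤ S := by
    have hsplit : ∀ l ∈ L, ∃ e ∈ Z, ∃ s ∈ S, s ∈ L ∧ l = e * s := by
      intro l hl
      obtain ⟨e, he, hs⟩ := hcov l
      exact ⟨e⁻¹, Subgroup.inv_mem _ he, e * l, hs, Subgroup.mul_mem _ (hZsub he) hl, by group⟩
    haveI := hL.1
    have hcom : _root_.commutator ↥L ≤ S.subgroupOf L := by
      rw [commutator_def]
      refine Subgroup.commutator_le.2 fun a _ b _ => ?_
      obtain ⟨e, he, s, hs, hsL, ea⟩ := hsplit a.1 a.2
      obtain ⟨f, hf, t, ht, htL, eb⟩ := hsplit b.1 b.2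
      rw [Subgroup.mem_subgroupOf]
      show a.1 * b.1 * a.1⁻¹ * b.1⁻¹ ∈ S
      rw [ea, eb]
      have : e * s * (f * t) * (e * s)⁻¹ * (f * t)⁻¹ = s * t * s⁻¹ * t⁻¹ := by
        have c1 : e * s = s * e := (hZL e he s hsL).symm
        have c2 : f * t = t * f := (hZL f hf t htL).symm
        have c3 : e * t = t * e := (hZL e he t htL).symm
        have c4 : e * f = f * e := hZL f hf e (hZsub he)
        have c5 : f * s = s * f := (hZL f hf s hsL).symm
        calc e * s * (f * t) * (e * s)⁻¹ * (f * t)⁻¹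
            = s * (e * (f * t) * e⁻¹) * s⁻¹ * (f * t)⁻¹ := by rw [c1]; group
          _ = s * (f * t) * s⁻¹ * (f * t)⁻¹ := by
              rw [show e * (f * t) * e⁻¹ = f * t from by
                rw [← mul_assoc, c4, mul_assoc f e t, c3, ← mul_assoc, mul_inv_cancel_right]]
          _ = f * (s * t * s⁻¹) * (f * t)⁻¹ := by rw [← mul_assoc s f t, ← c5]; group
          _ = s * t * s⁻¹ * f * (f * t)⁻¹ := by
              rw [hZL f hf _ (Subgroup.mul_mem _ (Subgroup.mul_mem _ hsL htL)
                (Subgroup.inv_mem _ hsL))]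
          _ = _ := by rw [c2]; group
      rw [this]
      exact Subgroup.mul_mem _ (Subgroup.mul_mem _ (Subgroup.mul_mem _ hs ht)
        (Subgroup.inv_mem _ hs)) (Subgroup.inv_mem _ ht)
    intro l hl
    have htop : _root_.commutator ↥L = ⊤ := Group.IsPerfect.commutator_eq_top
    exact Subgroup.mem_subgroupOf.1 (hcom (htop ▸ Subgroup.mem_top (⟨l, hl⟩ : ↥L)))
  have hdS : d ∈ S := by
    show Γ.Reachable x0 (cg d x0)
    rw [show cg d x0 = x0 from Subtype.ext (by simp [cg, x0, mul_assoc])]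
  have hS : ∀ g, g ∈ S := fun g => by
    have : (⊤ : Subgroup G) ≤ S := by
      rw [← hgen]
      exact sup_le hLS (Subgroup.zpowers_le.2 hdS)
    exact this (Subgroup.mem_top g)
  have all : ∀ x : conjugatesOf d, Γ.Reachable x0 x := by
    intro x
    obtain ⟨g, hg⟩ := isConj_iff.1 x.2
    have := hS g
    change Γ.Reachable x0 (cg g x0) at this
    rwa [show cg g x0 = x from Subtype.ext hg] at this
  haveI : Nonempty (conjugatesOf d) := ⟨x0⟩
  exact ⟨fun x y => (all x).symm.trans (all y)⟩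

end Cfsg.Agent.S5459
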