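import Cfsg.Statements.S5463
import Cfsg.Agent.Lib.Trans3.Fi.Products

set_option autoImplicit false
open Cfsg

namespace Cfsg.Agent.S5463

/-- Let G be a finite group with trivial centre generated by a conjugation-invariant set D of 3-transpositions on which it acts primitively, such that for some d in D the subgroup generated by the members of D other than d commuting with d has central largest normal 2- and 3-subgroups, and suppose G with D is of type M(22). A product j of two distinct commuting members of D determines the pair: any two 2-element sets of commuting members of D with product j coincide. A product j of three distinct pairwise commuting members of D arises from exactly two such 3-element sets. -/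
theorem result {G : Type*} [Group G] [Finite G] {D : Set G} (hD : Cfsg.IsThreeTranspositionGroup D) (hprim : Cfsg.IsPrimitiveUnderConj D) (d₀ : G) (hd₀ : d₀ ∈ D) (h3 : Cfsg.pCore 3 ↥(Subgroup.closure {y : G | y ∈ D ∧ y ≠ d₀ ∧ Commute d₀ y}) ≤ Subgroup.center ↥(Subgroup.closure {y : G | y ∈ D ∧ y ≠ d₀ ∧ Commute d₀ y})) (h2 : Cfsg.pCore 2 ↥(Subgroup.closure {y : G | y ∈ D ∧ y ≠ d₀ ∧ Commute d₀ y}) ≤ Subgroup.center ↥(Subgroup.closure {y : G | y ∈ D ∧ y ≠ d₀ ∧ Commute d₀ y})) (h22 : Cfsg.IsOfTypeM22 G D) : (∀ (j : G) (l l' : List G), (l.Nodup ∧ l.length = 2 ∧ (∀ a ∈ l, a ∈ D) ∧ (∀ a ∈ l, ∀ b ∈ l, Commute a b) ∧ l.prod = j) → (l'.Nodup ∧ l'.length = 2 ∧ (∀ a ∈ l', a ∈ D) ∧ (∀ a ∈ l', ∀ b ∈ l', Commute a b) ∧ l'.prod = j) → (∀ x : G, x ∈ l ↔ x ∈ l')) ∧ ∀ (j : G) (l₀ : List G), (l₀.Nodup ∧ l₀.length = 3 ∧ (∀ a ∈ l₀, a ∈ D) ∧ (∀ a ∈ l₀, ∀ b ∈ l₀, Commute a b) ∧ l₀.prod = j) → ∃ l₁ l₂ : List G, (l₁.Nodup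 ∧ l₁.length = 3 ∧ (∀ a ∈ l₁, a ∈ D) ∧ (∀ a ∈ l₁, ∀ b ∈ l₁, Commute a b) ∧ l₁.prod = j) ∧ (l₂.Nodup ∧ l₂.length = 3 ∧ (∀ a ∈ l₂, a ∈ D) ∧ (∀ a ∈ l₂, ∀ b ∈ l₂, Commute a b) ∧ l₂.prod = j) ∧ ¬ (∀ x : G, x ∈ l₁ ↔ x ∈ l₂) ∧ ∀ l : List G, (l.Nodup ∧ l.length = 3 ∧ (∀ a ∈ l, a ∈ D) ∧ (∀ a ∈ l, ∀ b ∈ l, Commute a b) ∧ l.prod = j) → ((∀ x : G, x ∈ l ↔ x ∈ l₁) ∨ (∀ x : G, x ∈ l ↔ x ∈ l₂)) := by
  classical
  obtain ⟨-, h4, -⟩ := CfsgLib.Trans3.Fi.m22_noRel hD h22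
  have pairs := fun (j : G) (l l' : List G) (hl : CfsgLib.Trans3.Fi.Fac D 2 j l)
    (hl' : CfsgLib.Trans3.Fi.Fac D 2 j l') =>
    CfsgLib.Trans3.Fi.determined hD (by norm_num : (2 : ℕ) ≤ 3) (fun _ => h4)
      (fun h => absurd h (by norm_num)) hl hl'
  refine ⟨pairs, fun j l₀ hl₀ => ?_⟩
  match l₀, hl₀ with
  | [a, b, c], hl₀ =>
    obtain ⟨hnd, -, hmem, hco, hpr⟩ := id hl₀
    simp only [List.nodup_cons, List.mem_cons, List.not_mem_nil, or_false, not_or] at hnd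
    have hj : a * b * c = j := by
      simp only [List.prod_cons, List.prod_nil, mul_one] at hpr
      rw [mul_assoc, hpr]
    obtain ⟨t₁, t₂, t₃, ht, hat, huniq⟩ := CfsgLib.Trans3.Fi.m22_line hD hprim h22
      (hmem a (by simp)) (b := b) (c := c)
      ⟨hmem b (by simp), Ne.symm hnd.1.1, hco a (by simp) b (by simp)⟩
      ⟨hmem c (by simp), Ne.symm hnd.1.2, hco a (by simp) c (by simp)⟩ hnd.2.1
      (hco b (by simp) c (by simp))
    rw [hj] at ht huniq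
    refine ⟨[a, b, c], [t₁, t₂, t₃], hl₀, ht, fun h => hat ((h a).1 (by simp)), fun l hl => ?_⟩
    by_cases hx : ∃ x ∈ [a, b, c], x ∈ l
    · obtain ⟨x, hx1, hx2⟩ := hx
      left
      intro y
      by_cases hy : y = x
      · subst hy; exact iff_of_true hx2 hx1
      · rw [← List.mem_erase_of_ne (l := l) hy, ← List.mem_erase_of_ne (l := [a, b, c]) hy]
        exact pairs _ _ _ (CfsgLib.Trans3.Fi.fac_erase hl hx2)
          (CfsgLib.Trans3.Fi.fac_erase hl₀ hx1) y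
    · simp only [not_exists, not_and] at hx
      exact Or.inr (huniq l hl hx)
  | [], hl₀ => exact absurd hl₀.2.1 (by simp)
  | [_], hl₀ => exact absurd hl₀.2.1 (by simp)
  | [_, _], hl₀ => exact absurd hl₀.2.1 (by simp)
  | _ :: _ :: _ :: _ :: _, hl₀ => exact absurd hl₀.2.1 (by simp)

end Cfsg.Agent.S5463
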