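import Cfsg.Statements.S5515
import Cfsg.Agent.Lib.Classical.OutPlus
import Cfsg.Agent.Lib.Comp.FStar

set_option autoImplicit false
open Cfsg

namespace Cfsg.Agent.S5515

theorem perm_four_normalizes : ∀ (c h : Equiv.Perm (Fin 4)) (i : Fin 4), c * c * c = 1 → c ≠ 1 →
    c i = i → (h * c * h⁻¹ = c ∨ h * c * h⁻¹ = c * c) → h i = i := by decide +kernel

theorem perm_four_cycle_fix : ∀ c : Equiv.Perm (Fin 4), c * c * c = 1 → ∃ i, c i = i := by decide +kernel

/-- A subgroup of order six of `S₄` is a point stabiliser. -/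
theorem order_six_stab (H : Subgroup (Equiv.Perm (Fin 4))) (hH : Nat.card H = 6) :
    ∃ i, ∀ h, h ∈ H ↔ h i = i := by
  haveI : Fact (Nat.Prime 3) := ⟨Nat.prime_three⟩
  obtain ⟨c₀, hc₀⟩ := exists_prime_orderOf_dvd_card' (G := H) 3 (hH ▸ by norm_num)
  obtain ⟨c, ec⟩ : ∃ c : Equiv.Perm (Fin 4), c = c₀ := ⟨_, rfl⟩
  have hco : orderOf c = 3 := by rw [ec, Subgroup.orderOf_coe, hc₀]
  have hcH : c ∈ H := ec ▸ c₀.2
  have hc3 : c * c * c = 1 := by
    have := pow_orderOf_eq_one c
    rw [hco, pow_succ, pow_two] at this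
    exact this
  have hc1 : c ≠ 1 := fun e => by rw [e, orderOf_one] at hco; norm_num at hco
  obtain ⟨i, hi⟩ := perm_four_cycle_fix c hc3
  have hn : ((Subgroup.zpowers c).subgroupOf H).Normal := Subgroup.normal_of_index_eq_two (by
    have := ((Subgroup.zpowers c).subgroupOf H).card_mul_index
    rw [Nat.card_congr (Subgroup.subgroupOfEquivOfLe (Subgroup.zpowers_le.2 hcH)).toEquiv,
      Nat.card_zpowers, hco, hH] at this
    omega)
  have hle : ∀ h ∈ H, h i = i := by
    intro h hh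
    have hm : h * c * h⁻¹ ∈ Subgroup.zpowers c :=
      hn.conj_mem ⟨c, hcH⟩ (Subgroup.mem_zpowers c) ⟨h, hh⟩
    rw [mem_zpowers_iff_mem_range_orderOf, hco] at hm
    simp only [Finset.mem_image, Finset.mem_range] at hm
    obtain ⟨k, hk, e⟩ := hm
    refine perm_four_normalizes c h i hc3 hc1 hi ?_
    interval_cases k
    · exact absurd (conj_eq_one_iff.1 (by rw [← e, pow_zero])) hc1
    · exact Or.inl (by rw [← e, pow_one])
    · exact Or.inr (by rw [← e, pow_two])
  refine ⟨i, fun h => ⟨hle h, fun hh => ?_⟩⟩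
  have heq : H = MulAction.stabilizer (Equiv.Perm (Fin 4)) i := by
    refine Subgroup.eq_of_le_of_card_ge (fun x hx => hle x hx) ?_
    have h1 := MulAction.index_stabilizer_of_transitive (Equiv.Perm (Fin 4)) i
    have h2 := (MulAction.stabilizer (Equiv.Perm (Fin 4)) i).card_mul_index
    rw [h1, Nat.card_fin, Nat.card_perm, Nat.card_fin] at h2
    rw [hH]
    rw [show Nat.factorial 4 = 24 from rfl] at h2
    omega
  rw [heq]; exact hh

/-- Groups with the same simple `F*` and extensions by subgroups of order six of an outer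
automorphism group `S₄` are isomorphic. -/
theorem embed {X P : Type*} [Group X] [Finite X] [Group P] [Finite P] [IsSimpleGroup P]
    (hP : ∃ a b : P, a * b ≠ b * a) (N : Subgroup X) [N.Normal] (e : ↥N ≃* P)
    (hC : Subgroup.centralizer (N : Set X) ≤ N) (hq : Nat.card (X ⧸ N) = 6) :
    ∃ α : X →* MulAut P, Function.Injective α ∧ Cfsg.Inn P ≤ α.range ∧
      Nat.card (α.range.map (QuotientGroup.mk' (Cfsg.Inn P))) = 6 := by
  obtain ⟨α, hα⟩ : ∃ α : X →* MulAut P, α = (MulAut.congr e).toMonoidHom.comp MulAut.conjNormal :=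
    ⟨_, rfl⟩
  have hz : ∀ z : ↥N, (∀ n, n * z = z * n) → z = 1 := by
    intro z hzn
    have hc : e z ∈ Subgroup.center P := Subgroup.mem_center_iff.2 fun q => by
      obtain ⟨n, rfl⟩ := e.surjective q
      rw [← map_mul, ← map_mul, hzn n]
    rcases (inferInstance : (Subgroup.center P).Normal).eq_bot_or_eq_top with e0 | e0
    · rw [e0, Subgroup.mem_bot, map_eq_one_iff _ e.injective] at hc; exact hc
    · obtain ⟨a, b, hab⟩ := hP
      exact absurd (Subgroup.mem_center_iff.1 (e0 ▸ Subgroup.mem_top b) a) hab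
  have hinj : Function.Injective α := by
    rw [← MonoidHom.ker_eq_bot_iff, Subgroup.eq_bot_iff_forall]
    intro x hx
    have hx' : MulAut.conjNormal (H := N) x = 1 := (MulAut.congr e).injective (by
      rw [map_one]; rw [hα] at hx; exact hx)
    have hcomm : ∀ n ∈ N, n * x = x * n := fun n hn => by
      have := congrArg (fun f : MulAut ↥N => ((f ⟨n, hn⟩ : ↥N) : X)) hx'
      simp only [MulAut.conjNormal_apply, MulAut.one_apply] at this
      exact (mul_inv_eq_iff_eq_mul.1 this).symm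
    have hxN : x ∈ N := hC (Subgroup.mem_centralizer_iff.2 hcomm)
    exact congrArg Subtype.val (hz ⟨x, hxN⟩ fun n => Subtype.ext (hcomm n n.2))
  have hin : ∀ n : ↥N, α n = MulAut.conj (e n) := fun n => MulEquiv.ext fun q => by
    obtain ⟨m, rfl⟩ := e.surjective q
    rw [hα]
    show e (MulAut.conjNormal (n : X) (e.symm (e m))) = e n * e m * (e n)⁻¹
    rw [e.symm_apply_apply, ← map_inv, ← map_mul, ← map_mul]
    rfl
  have hle : Cfsg.Inn P ≤ α.range := by
    rintro _ ⟨q, rfl⟩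
    exact ⟨(e.symm q : X), by rw [hin, e.apply_symm_apply]⟩
  refine ⟨α, hinj, hle, ?_⟩
  rw [← MonoidHom.range_comp, ← Nat.card_congr (QuotientGroup.quotientKerEquivRange _).toEquiv,
    Nat.card_congr (QuotientGroup.quotientMulEquivOfEq
      (show ((QuotientGroup.mk' (Cfsg.Inn P)).comp α).ker = N from ?_)).toEquiv, hq]
  ext x
  rw [MonoidHom.mem_ker, MonoidHom.comp_apply, QuotientGroup.mk'_apply, QuotientGroup.eq_one_iff]
  constructor
  · rintro ⟨q, hqx⟩
    rw [← e.apply_symm_apply q, ← hin] at hqx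
    rw [← hinj hqx]
    exact (e.symm q).2
  · intro hx
    exact ⟨e ⟨x, hx⟩, (hin ⟨x, hx⟩).symm⟩

/-- Let G and G′ be finite groups whose generalized Fitting subgroups are isomorphic to PΩ⁺(8, 3) (the commutator subgroup of the isometry group of the hyperbolic quadratic form in dimension 8 over the field with three elements, modulo its centre) with quotients isomorphic to the symmetric group of degree 3. Then G and G′ are isomorphic. -/
theorem result {G G' : Type*} [Group G] [Finite G] [Group G'] [Finite G'] (hF : Nonempty (↥(Cfsg.generalizedFittingSubgroup G) ≃* Cfsg.POmega (ZMod 3) (Cfsg.quadFormPlus 4 (ZMod 3)))) (hF' : Nonempty (↥(Cfsg.generalizedFittingSubgroup G') ≃* Cfsg.POmega (ZMod 3) (Cfsg.quadFormPlus 4 (ZMod 3)))) [hn : (Cfsg.generalizedFittingSubgroup G).Normal] [hn' : (Cfsg.generalizedFittingSubgroup G').Normal] (hq : Nonempty (G ⧸ Cfsg.generalizedFittingSubgroup G ≃* Equiv.Perm (Fin 3))) (hq' : Nonempty (G' ⧸ Cfsg.generalizedFittingSubgroup G'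 ≃* Equiv.Perm (Fin 3))) : Nonempty (G ≃* G') := by
  haveI : Fact (Nat.Prime 3) := ⟨Nat.prime_three⟩
  obtain ⟨e⟩ := hF
  obtain ⟨e'⟩ := hF'
  have hcoe := CfsgLib.Classical.qfPlus_coe (F := ZMod 3) 4
  haveI : IsSimpleGroup (Cfsg.POmega (ZMod 3) (Cfsg.quadFormPlus 4 (ZMod 3))) :=
    hcoe ▸ CfsgLib.Classical.isSimpleGroup_pOmega (CfsgLib.Classical.qfPlus 4 (ZMod 3))
      (CfsgLib.Classical.qfPlus_sep 4) (by simp)
  have hP : ∃ a b : Cfsg.POmega (ZMod 3) (Cfsg.quadFormPlus 4 (ZMod 3)), a * b ≠ b * a := by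
    by_contra! hall
    haveI : IsMulCommutative (Cfsg.POmega (ZMod 3) (Cfsg.quadFormPlus 4 (ZMod 3))) := ⟨⟨hall⟩⟩
    have hp : (Nat.card (Cfsg.POmega (ZMod 3) (Cfsg.quadFormPlus 4 (ZMod 3)))).Prime :=
      open scoped IsMulCommutative in IsSimpleGroup.prime_card
    have h1 := CfsgLib.Classical.card_pOmega_plus (F := ZMod 3) (ZMod.card 3) 3 (by norm_num)
    simp only [Finset.prod_range_succ, Finset.prod_range_zero, one_mul] at h1
    norm_num at h1
    rw [show Nat.card (Cfsg.POmega (ZMod 3) (Cfsg.quadFormPlus 4 (ZMod 3))) = 4952179814400 from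
      Nat.eq_of_mul_eq_mul_left (show 0 < 4 by norm_num) (h1.trans (by norm_num))] at hp
    norm_num at hp
  obtain ⟨⟨oP⟩, -⟩ := (show Nonempty (Cfsg.Out (Cfsg.POmega (ZMod 3) (Cfsg.quadFormPlus 4 (ZMod 3))) ≃*
      Equiv.Perm (Fin 4) × Multiplicative (ZMod 1)) ∧ True from ⟨by
    have := (CfsgLib.Classical.PlusOut.out_plus_odd (p := 3) (f := 1) (F := ZMod 3) (m := 4) le_rfl
      (by simp) (by norm_num) le_rfl).1 rfl
    exact hcoe ▸ this, trivial⟩)
  let o := oP.trans (MulEquiv.prodUnique (M := Equiv.Perm (Fin 4)) (N := Multiplicative (ZMod 1)))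
  obtain ⟨α, ha, hia, hca⟩ := embed hP (Cfsg.generalizedFittingSubgroup G) e
    (CfsgLib.Comp.centralizer_generalizedFitting_le G) (by
      rw [Nat.card_congr (Classical.choice hq).toEquiv, Nat.card_perm, Nat.card_fin]; rfl)
  obtain ⟨β, hb, hib, hcb⟩ := embed hP (Cfsg.generalizedFittingSubgroup G') e'
    (CfsgLib.Comp.centralizer_generalizedFitting_le G') (by
      rw [Nat.card_congr (Classical.choice hq').toEquiv, Nat.card_perm, Nat.card_fin]; rfl)
  let π := o.toMonoidHom.comp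
    (QuotientGroup.mk' (Cfsg.Inn (Cfsg.POmega (ZMod 3) (Cfsg.quadFormPlus 4 (ZMod 3)))))
  have hπ : Function.Surjective π := o.surjective.comp (QuotientGroup.mk'_surjective _)
  have hk : π.ker = Cfsg.Inn (Cfsg.POmega (ZMod 3) (Cfsg.quadFormPlus 4 (ZMod 3))) := by
    ext x
    rw [MonoidHom.mem_ker, MonoidHom.comp_apply, MulEquiv.coe_toMonoidHom, o.map_eq_one_iff,
      QuotientGroup.mk'_apply, QuotientGroup.eq_one_iff]
  have h6 : ∀ A : Subgroup (MulAut (Cfsg.POmega (ZMod 3) (Cfsg.quadFormPlus 4 (ZMod 3)))),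
      Nat.card (A.map (QuotientGroup.mk' (Cfsg.Inn _))) = 6 → Nat.card (A.map π) = 6 := fun A hA => by
    rw [← Subgroup.map_map, Subgroup.card_map_of_injective o.injective, hA]
  obtain ⟨i, hi⟩ := order_six_stab _ (h6 _ hca)
  obtain ⟨j, hj⟩ := order_six_stab _ (h6 _ hcb)
  obtain ⟨g, hg⟩ := hπ (Equiv.swap i j)
  have hmem : ∀ {A : Subgroup (MulAut (Cfsg.POmega (ZMod 3) (Cfsg.quadFormPlus 4 (ZMod 3))))},
      Cfsg.Inn _ ≤ A → ∀ x, π x ∈ A.map π → x ∈ A := by
    rintro A hA x ⟨y, hy, hxy⟩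
    have h1 : y⁻¹ * x ∈ π.ker := by rw [MonoidHom.mem_ker, map_mul, map_inv, hxy, inv_mul_cancel]
    have := mul_mem hy (hA (hk ▸ h1))
    rwa [mul_inv_cancel_left] at this
  have key : α.range.map (MulAut.conj g).toMonoidHom = β.range := by
    ext x
    constructor
    · rintro ⟨a, haA, rfl⟩
      refine hmem hib _ ((hj _).2 ?_)
      show π (g * a * g⁻¹) j = j
      have h1 : π a i = i := (hi _).1 (Subgroup.mem_map_of_mem π haA)
      rw [map_mul, map_mul, map_inv, hg, Equiv.swap_inv]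
      simp only [Equiv.Perm.mul_apply, Equiv.swap_apply_right, h1, Equiv.swap_apply_left]
    · intro hx
      refine ⟨g⁻¹ * x * g, hmem hia _ ((hi _).2 ?_), by simp [mul_assoc]⟩
      have h1 : π x j = j := (hj _).1 (Subgroup.mem_map_of_mem π hx)
      rw [map_mul, map_mul, map_inv, hg, Equiv.swap_inv]
      simp only [Equiv.Perm.mul_apply, Equiv.swap_apply_left, h1, Equiv.swap_apply_right]
  exact ⟨(MonoidHom.ofInjective ha).trans (((α.range.equivMapOfInjective _
    (MulAut.conj g).injective).trans (MulEquiv.subgroupCongr key)).trans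
    (MonoidHom.ofInjective hb).symm)⟩

end Cfsg.Agent.S5515
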