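import Cfsg.Statements.S5517
import Cfsg.Agent.Lib.InvChar.O7InFi22
import Cfsg.Agent.Lib.InvChar.Fi22Transfer

set_option autoImplicit false
open Cfsg

namespace Cfsg.Agent.S5517

/-- Let G be a finite group with trivial centre generated by a conjugation-invariant set D of 3-transpositions on which it acts primitively, such that for some d in D the subgroup generated by the members of D other than d commuting with d has central largest normal 2- and 3-subgroups, and suppose G with D is of type M(22). Then G has a subgroup L generated by the members of D it contains and isomorphic to Ω(7, 3) (the commutator subgroup of the isometry group of a non-degenerate 7-dimensional quadratic form over the field with three elements, modulo its centre), and every Sylow 3-subgroup of L is a Sylow 3-subgroup of G. -/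
theorem result {G : Type*} [Group G] [Finite G] {D : Set G} (hD : Cfsg.IsThreeTranspositionGroup D) (hprim : Cfsg.IsPrimitiveUnderConj D) (d₀ : G) (hd₀ : d₀ ∈ D) (h3 : Cfsg.pCore 3 ↥(Subgroup.closure {y : G | y ∈ D ∧ y ≠ d₀ ∧ Commute d₀ y}) ≤ Subgroup.center ↥(Subgroup.closure {y : G | y ∈ D ∧ y ≠ d₀ ∧ Commute d₀ y})) (h2 : Cfsg.pCore 2 ↥(Subgroup.closure {y : G | y ∈ D ∧ y ≠ d₀ ∧ Commute d₀ y}) ≤ Subgroup.center ↥(Subgroup.closure {y : G | y ∈ D ∧ y ≠ d₀ ∧ Commute d₀ y})) (h22 : Cfsg.IsOfTypeM22 G D) : ∃ L : Subgroup G, Cfsg.IsDSubgroup D L ∧ Nonempty (↥L ≃* Cfsg.POmega (ZMod 3) (Cfsg.quadFormOdd 3 (ZMod 3))) ∧ ∀ P : Sylow 3 ↥L, ∃ P' : Sylow 3 G, (P : Subgroup ↥L).map L.subtype = (P' : Subgroup G) := by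
  obtain ⟨e, he⟩ := CfsgLib.InvChar.Fi22Transfer.exists_iso hD hprim h22
  obtain ⟨i₀⟩ := CfsgLib.InvChar.O7InFi22.nonempty_iso
  haveI : Finite Cfsg.Spor.Fi22 := CfsgLib.InvChar.SporFi22.card_le.1
  let L₀ := CfsgLib.InvChar.O7InFi22.L
  let em := e.subgroupMap L₀
  refine ⟨L₀.map (e : _ →* G), ?_, ⟨em.symm.trans i₀⟩, fun P => ?_⟩
  · refine le_antisymm ((Subgroup.closure_le _).2 fun d hd => hd.2) ?_
    conv_lhs => rw [show L₀ = Subgroup.closure {d | d ∈ conjugatesOf (CfsgLib.InvChar.SporFi22.gen 0) ∧ d ∈ L₀} from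
      CfsgLib.InvChar.O7InFi22.isDSubgroup.symm, MonoidHom.map_closure]
    refine Subgroup.closure_mono ?_
    rintro _ ⟨d, ⟨hd1, hd2⟩, rfl⟩
    exact ⟨he ▸ ⟨d, hd1, rfl⟩, ⟨d, hd2, rfl⟩⟩
  · obtain ⟨P', hP'⟩ := CfsgLib.InvChar.O7InFi22.sylow_three (P.mapSurjective (f := em.symm.toMonoidHom) em.symm.surjective)
    refine ⟨P'.mapSurjective (f := e.toMonoidHom) e.surjective, ?_⟩
    show _ = (P' : Subgroup Cfsg.Spor.Fi22).map e.toMonoidHom
    have hP'' : ((P : Subgroup ↥(L₀.map (e : _ →* G))).map em.symm.toMonoidHom).map L₀.subtype =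
        (P' : Subgroup Cfsg.Spor.Fi22) := hP'
    rw [← hP'', Subgroup.map_map, Subgroup.map_map]
    refine congrArg (fun f => Subgroup.map f P.1) (MonoidHom.ext fun x => ?_)
    show (x : G) = e ((em.symm x : L₀) : Cfsg.Spor.Fi22)
    rw [← MulEquiv.coe_subgroupMap_apply e L₀, MulEquiv.apply_symm_apply]

end Cfsg.Agent.S5517
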