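import Cfsg.Statements.S5518
import Cfsg.Agent.Lib.MaxSub.M24Pair.Thirteen

set_option autoImplicit false
open Cfsg

namespace Cfsg.Agent.S5518

/-- Let G be a finite group with trivial centre generated by a conjugation-invariant set D of 3-transpositions on which it acts primitively, such that for some d in D the subgroup generated by the members of D other than d commuting with d has central largest normal 2- and 3-subgroups, and suppose G with D is of type M(24). Then any two subgroups of order 13 are conjugate; and there are members a, b, c, d of D generating the direct product T of two symmetric groups of degree 3 (a, d non-commuting; b, c non-commuting; b and c commuting with a and d) whose centralizer K is isomorphic to the Chevalley group G₂(3), such that for every subgroup B of K of order 13: the normalizer of B lies in the normalizer of K, the normalizer F of B in K is a Frobenius group of order 78 with kernel B (order 78, centralizer of B in it equal to B), and the subgroup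 generated by F and T has index 2 in the normalizer of B. -/
theorem result {G : Type*} [Group G] [Finite G] {D : Set G} (hD : Cfsg.IsThreeTranspositionGroup D) (hprim : Cfsg.IsPrimitiveUnderConj D) (d₀ : G) (hd₀ : d₀ ∈ D) (h3 : Cfsg.pCore 3 ↥(Subgroup.closure {y : G | y ∈ D ∧ y ≠ d₀ ∧ Commute d₀ y}) ≤ Subgroup.center ↥(Subgroup.closure {y : G | y ∈ D ∧ y ≠ d₀ ∧ Commute d₀ y})) (h2 : Cfsg.pCore 2 ↥(Subgroup.closure {y : G | y ∈ D ∧ y ≠ d₀ ∧ Commute d₀ y}) ≤ Subgroup.center ↥(Subgroup.closure {y : G | y ∈ D ∧ y ≠ d₀ ∧ Commute d₀ y})) (h24 : Cfsg.IsOfTypeM24 G D) : (∀ X Y : Subgroup G, Nat.card X = 13 → Nat.card Y = 13 → ∃ g : G, X.map (MulAut.conj g).toMonoidHom = Y) ∧ ∃ (a b c d : G) (T K : Subgroup G), (∀ x ∈ [a, b, c, d], x ∈ D) ∧ ¬ Commute a d ∧ ¬ Commute b c ∧ Commute a b ∧ Commute a c ∧ Commute d b ∧ Commute d c ∧ T = Subgroup.closure ({a, b, c, d} : Set G) ∧ K = Subgroup.centralizer (T : Set G) ∧ Nonempty (↥K ≃* ↥(Cfsg.Lie.chevG2.group (ZMod 3))) ∧ ∀ B : Subgroup G, B ≤ K →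 Nat.card B = 13 → Subgroup.normalizer ((B : Subgroup G) : Set G) ≤ Subgroup.normalizer ((K : Subgroup G) : Set G) ∧ Nat.card ↥(K ⊓ Subgroup.normalizer ((B : Subgroup G) : Set G)) = 78 ∧ K ⊓ Subgroup.centralizer ((B : Subgroup G) : Set G) = B ∧ (((K ⊓ Subgroup.normalizer ((B : Subgroup G) : Set G)) ⊔ T).subgroupOf (Subgroup.normalizer ((B : Subgroup G) : Set G))).index = 2 := by
  refine ⟨CfsgLib.MaxSub.M24Pair.thirteen_subgroups_conj hD hprim h24, ?_⟩
  obtain ⟨a, ha, d, hd, had⟩ := (CfsgLib.Trans3.Fi.nice_m24 hD hprim h24).pair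
  open CfsgLib.MaxSub.M24Pair in
  obtain ⟨ψ, hψ, hr, hn, hT⟩ := exists_pair_embed hD hprim h24 ha hd had
  open CfsgLib.MaxSub.M24Pair in
  obtain ⟨x, y, z, hx, -, hz, -, hxz, -, -, -, ⟨e2⟩⟩ := model_pairs hn
  have hmem : ∀ u ∈ CfsgLib.MaxSub.M24Pair.Tset, ∃ v, ψ v = u ∧
      ((v : G) ∈ D ∧ Commute a (v : G) ∧ Commute d (v : G)) := by
    intro u hu
    obtain ⟨v, rfl⟩ : u ∈ ψ.range := hr.ge (by
      obtain ⟨k, hk, rfl⟩ := hu
      exact mul_mem (mul_mem hk CfsgLib.MaxSub.M24Pair.rAut_mem) (inv_mem hk))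
    exact ⟨v, rfl, (hT v).1 hu⟩
  obtain ⟨b, eb, hb, hab, hdb⟩ := hmem x hx
  obtain ⟨c, ec, hc, hac, hdc⟩ := hmem z hz
  have hbc : ¬ Commute (b : G) (c : G) := fun h =>
    hxz (eb ▸ ec ▸ (show Commute b c from Subtype.ext h).map ψ)
  obtain ⟨e1⟩ := CfsgLib.MaxSub.M24Pair.centralizer_image ψ hψ hr b c
  rw [eb, ec] at e1
  obtain ⟨e, -⟩ := CfsgLib.MaxSub.M24Pair.centralizer_four (a := a) (d := d)
    (Subgroup.centralizer ({a, d} : Set G)).subtype (Subgroup.subtype_injective _)
    (Subgroup.range_subtype _) b c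
  let f := (e.symm.trans e1).trans e2
  have hK : Subgroup.centralizer ((Subgroup.closure ({a, (b : G), (c : G), d} : Set G) : Subgroup G) : Set G) =
      Subgroup.centralizer ({a, d, (b : G), (c : G)} : Set G) := by
    rw [Subgroup.centralizer_closure]
    congr 1
    ext w
    simp only [Set.mem_insert_iff, Set.mem_singleton_iff]
    tauto
  refine ⟨a, b, c, d, _, _, ?_, had, hbc, hab, hac, hdb, hdc, rfl, rfl, ?_, fun B hB hBc => ?_⟩
  · intro w hw
    simp only [List.mem_cons, List.not_mem_nil, or_false] at hw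
    rcases hw with rfl | rfl | rfl | rfl
    exacts [ha, hb, hc, hd]
  · rw [hK]
    exact ⟨f⟩
  · rw [hK] at hB ⊢
    exact CfsgLib.MaxSub.M24Pair.thirteen_normalizer hD hprim h24 ha hd hb hc had hbc hab hac hdb hdc
      f B hB hBc

end Cfsg.Agent.S5518
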