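import Cfsg.Statements.S5520
import Cfsg.Agent.Lib.Chev.U43InU6.Main

set_option autoImplicit false
open Cfsg

namespace Cfsg.Agent.S5520

/-- In the special unitary group of dimension 6 over the field with four elements (determinant-one matrices preserving the standard Hermitian form), the subgroups K whose centre has order 3 with K modulo its centre isomorphic to the projective special unitary group of dimension 4 over the field with nine elements fall into exactly three conjugacy classes. -/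
theorem result (F : Type) [Field F] [Fintype F] (hF : Fintype.card F = 4) (F9 : Type) [Field F9] [Fintype F9] (hF9 : Fintype.card F9 = 9) : ∃ K₁ K₂ K₃ : Subgroup ↥(Cfsg.SU 6 F 2), (∀ K ∈ [K₁, K₂, K₃], Nat.card ↥(Subgroup.center ↥K) = 3 ∧ Nonempty (↥K ⧸ Subgroup.center ↥K ≃* Cfsg.PSU 4 F9 3)) ∧ (¬ ∃ g : ↥(Cfsg.SU 6 F 2), K₁.map (MulAut.conj g).toMonoidHom = K₂) ∧ (¬ ∃ g : ↥(Cfsg.SU 6 F 2), K₁.map (MulAut.conj g).toMonoidHom = K₃) ∧ (¬ ∃ g : ↥(Cfsg.SU 6 F 2), K₂.map (MulAut.conj g).toMonoidHom = K₃) ∧ ∀ K : Subgroup ↥(Cfsg.SU 6 F 2), Nat.card ↥(Subgroup.center ↥K) = 3 → Nonempty (↥K ⧸ Subgroup.center ↥K ≃* Cfsg.PSU 4 F9 3) → ∃ g : ↥(Cfsg.SU 6 F 2), K.map (MulAut.conj g).toMonoidHom = K₁ ∨ K.map (MulAut.conj g).toMonoidHom = K₂ ∨ K.map (MulAut.conj g).toMonoidHom = K₃ := by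
  open CfsgLib.Chev.U43U6 in
  have : Fintype.card F9 = 3 ^ 2 := by rw [hF9]; norm_num
  obtain ⟨ψ⟩ := CfsgLib.KnownA.U4ThreeSchur.exists_equiv hF9
  haveI := CfsgLib.Classical.isSimpleGroup_psu (n := 4) (q := 3) this (by norm_num) (by norm_num)
  haveI : IsSimpleGroup CfsgLib.KnownA.U4ThreeSchur.GP := ψ.isSimpleGroup_congr.2 inferInstance
  obtain ⟨ω, hω⟩ := CfsgLib.Chev.U43U6.exists_omega hF
  let K : Fin 3 → Subgroup ↥(Cfsg.SU 6 F 2) := CfsgLib.Chev.U43U6.Kb hω hF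
  refine ⟨K 0, K 1, K 2, ?_, ?_, ?_, ?_, ?_⟩
  · intro L hL
    have h : ∀ b, Nat.card (Subgroup.center (K b)) = 3 ∧
        Nonempty (K b ⧸ Subgroup.center (K b) ≃* Cfsg.PSU 4 F9 3) := fun b => by
      obtain ⟨hc, ⟨e⟩⟩ := CfsgLib.Chev.U43U6.Kb_spec hω hF b
      exact ⟨hc, ⟨e.trans ψ⟩⟩
    simp only [List.mem_cons, List.not_mem_nil, or_false] at hL
    rcases hL with rfl | rfl | rfl
    exacts [h 0, h 1, h 2]
  · rintro ⟨g, hg⟩
    exact absurd (CfsgLib.Chev.U43U6.eq_of_conj hω hF hg) (by decide)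
  · rintro ⟨g, hg⟩
    exact absurd (CfsgLib.Chev.U43U6.eq_of_conj hω hF hg) (by decide)
  · rintro ⟨g, hg⟩
    exact absurd (CfsgLib.Chev.U43U6.eq_of_conj hω hF hg) (by decide)
  · intro L hc ⟨e⟩
    obtain ⟨g, b, hb⟩ := CfsgLib.Chev.U43U6.exists_conj_Kb hω hF hc (e.trans ψ.symm)
    refine ⟨g, ?_⟩
    fin_cases b
    exacts [Or.inl hb, Or.inr (Or.inl hb), Or.inr (Or.inr hb)]

end Cfsg.Agent.S5520
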