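import Cfsg.Statements.S5541


set_option autoImplicit false
open Cfsg

namespace Cfsg.Agent.S5541

/-- Let ρ be a representation of a group H on a finite-dimensional real vector space U whose only ρ-invariant subspaces are the zero subspace and U, and suppose U carries a non-zero ρ-invariant symmetric bilinear form. Then the following are equivalent: (1) there is a non-zero ρ-equivariant commutative bilinear product on U of which every ρ-equivariant bilinear product is a scalar multiple; (2) there is a non-zero ρ-invariant trilinear form on U that is symmetric under all permutations of its arguments and of which every ρ-invariant trilinear form is a scalar multiple. -/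
theorem result {H : Type*} [Group H] {U : Type*} [AddCommGroup U] [Module ℝ U] [FiniteDimensional ℝ U] (ρ : Representation ℝ H U) (hirr : ∀ W : Submodule ℝ U, (∀ g : H, W.map (ρ g) ≤ W) → W = ⊥ ∨ W = ⊤) (B : LinearMap.BilinForm ℝ U) (hB0 : B ≠ 0) (hBs : ∀ u v, B u v = B v u) (hBi : ∀ (g : H) (u v : U), B (ρ g u) (ρ g v) = B u v) : (∃ m : U →ₗ[ℝ] U →ₗ[ℝ] U, m ≠ 0 ∧ (∀ u v, m u v = m v u) ∧ (∀ (g : H) (u v : U), m (ρ g u) (ρ g v) = ρ g (m u v)) ∧ ∀ m' : U →ₗ[ℝ] U →ₗ[ℝ] U, (∀ (g : H) (u v : U), m' (ρ g u) (ρ g v) = ρ g (m' u v)) → ∃ c : ℝ, m' = c • m) ↔ (∃ t : U →ₗ[ℝ] U →ₗ[ℝ] U →ₗ[ℝ] ℝ, t ≠ 0 ∧ (∀ u v w, t u v w = t v u w ∧ t u v w = t u w v) ∧ (∀ (g : H) (u v w : U), t (ρ g u) (ρ g v) (ρ g w) = t u v w) ∧ ∀ t' : U →ₗ[ℝ] U →ₗ[ℝ] U →ₗ[ℝ] ℝ, (∀ (g : H) (u v w : U), t' (ρ g u) (ρ g v) (ρ g w) = t' u v w) → ∃ c : ℝ, t' = c • t) := by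
  -- the form is nondegenerate
  have hinvg : ∀ g u, ρ g⁻¹ (ρ g u) = u := fun g u => by
    rw [← Module.End.mul_apply, ← map_mul, inv_mul_cancel, map_one]; rfl
  have hker : LinearMap.ker B = ⊥ := by
    refine (hirr _ fun g => ?_).resolve_right fun h => hB0 (LinearMap.ker_eq_top.1 h)
    rintro _ ⟨u, hu, rfl⟩
    refine LinearMap.mem_ker.2 (LinearMap.ext fun v => ?_)
    have e : v = ρ g (ρ g⁻¹ v) := by
      have := hinvg g⁻¹ v
      rw [inv_inv] at this; exact this.symm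
    rw [e, hBi, LinearMap.mem_ker.1 hu]; rfl
  have hnd : ∀ a b, (∀ w, B a w = B b w) → a = b := by
    intro a b h
    refine LinearMap.ker_eq_bot.1 hker (LinearMap.ext h)
  let D : U ≃ₗ[ℝ] Module.Dual ℝ U := LinearEquiv.ofBijective B
    ⟨LinearMap.ker_eq_bot.1 hker, (LinearMap.injective_iff_surjective_of_finrank_eq_finrank
      Subspace.dual_finrank_eq.symm).1 (LinearMap.ker_eq_bot.1 hker)⟩
  -- products from forms
  let toM : (U →ₗ[ℝ] U →ₗ[ℝ] U →ₗ[ℝ] ℝ) → (U →ₗ[ℝ] U →ₗ[ℝ] U) := fun t =>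
    (LinearMap.llcomp ℝ U (Module.Dual ℝ U) U D.symm.toLinearMap).comp t
  have hM : ∀ t u v w, B (toM t u v) w = t u v w := by
    intro t u v w
    show (D (D.symm (t u v))) w = _
    rw [D.apply_symm_apply]
  let toT : (U →ₗ[ℝ] U →ₗ[ℝ] U) → (U →ₗ[ℝ] U →ₗ[ℝ] U →ₗ[ℝ] ℝ) := fun m =>
    (LinearMap.llcomp ℝ U U (Module.Dual ℝ U) B).comp m
  have hT : ∀ m u v w, toT m u v w = B (m u v) w := fun m u v w => rfl
  have equivM : ∀ t : U →ₗ[ℝ] U →ₗ[ℝ] U →ₗ[ℝ] ℝ,
      (∀ (g : H) (u v w : U), t (ρ g u) (ρ g v) (ρ g w) = t u v w) →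
      ∀ (g : H) (u v : U), toM t (ρ g u) (ρ g v) = ρ g (toM t u v) := by
    intro t ht g u v
    refine hnd _ _ fun w => ?_
    have e : w = ρ g (ρ g⁻¹ w) := by
      have := hinvg g⁻¹ w
      rw [inv_inv] at this; exact this.symm
    rw [hM, e, ht, hBi, hM]
  have equivT : ∀ m : U →ₗ[ℝ] U →ₗ[ℝ] U,
      (∀ (g : H) (u v : U), m (ρ g u) (ρ g v) = ρ g (m u v)) →
      ∀ (g : H) (u v w : U), toT m (ρ g u) (ρ g v) (ρ g w) = toT m u v w := by
    intro m hm g u v w
    rw [hT, hT, hm, hBi]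
  constructor
  · rintro ⟨m, hm0, hmc, hme, huniq⟩
    obtain ⟨u0, v0, hne⟩ : ∃ u v, m u v ≠ 0 := by
      by_contra! h
      exact hm0 (LinearMap.ext fun u => LinearMap.ext fun v => h u v)
    obtain ⟨c, hc⟩ : ∃ c : ℝ, ∀ u v w, B (m u w) v = c * B (m u v) w := by
      let t' : U →ₗ[ℝ] U →ₗ[ℝ] U →ₗ[ℝ] ℝ :=
        (LinearMap.lflip (R₀ := ℝ)).toLinearMap.comp (toT m)
      have ht' : ∀ u v w, t' u v w = B (m u w) v := fun u v w => rfl
      obtain ⟨c, hc⟩ := huniq (toM t') (equivM t' fun g u v w => by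
        rw [ht', ht', hme, hBi])
      refine ⟨c, fun u v w => ?_⟩
      rw [← ht', ← hM t', hc]
      simp
    obtain ⟨w0, hw0⟩ : ∃ w, B (m u0 v0) w ≠ 0 := by
      by_contra! h
      exact hne (hnd _ 0 fun w => by rw [h, map_zero]; rfl)
    have hc1 : c = 1 := by
      have e := hc u0 w0 v0
      rw [hc u0 v0 w0, ← mul_assoc] at e
      have h2 : c * c = 1 := mul_right_cancel₀ hw0 (by rw [← e, one_mul])
      rcases mul_self_eq_one_iff.1 h2 with h | h
      · exact h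
      exfalso
      have sw : ∀ u v w, B (m u w) v = -B (m u v) w := fun u v w => by rw [hc, h]; ring
      have e1 := sw u0 v0 w0
      have e2 := sw v0 u0 w0
      have e3 := sw w0 v0 u0
      rw [hmc v0 u0] at e2
      rw [hmc w0 u0, hmc w0 v0] at e3
      have : B (m u0 v0) w0 = 0 := by linarith
      exact hw0 this
    subst hc1
    refine ⟨toT m, fun h => hne (hnd _ 0 fun w => by rw [← hT, h, map_zero]; rfl),
      fun u v w => ⟨by rw [hT, hT, hmc], by rw [hT, hT, hc, one_mul]⟩, equivT m hme, fun t' ht' => ?_⟩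
    obtain ⟨c', hc'⟩ := huniq (toM t') (equivM t' ht')
    refine ⟨c', LinearMap.ext fun u => LinearMap.ext fun v => LinearMap.ext fun w => ?_⟩
    rw [← hM t', hc']
    simp [hT]
  · rintro ⟨t, ht0, hts, hte, huniq⟩
    refine ⟨toM t, fun h => ht0 ?_, fun u v => hnd _ _ fun w => by rw [hM, hM, (hts u v w).1],
      equivM t hte, fun m' hm' => ?_⟩
    · refine LinearMap.ext fun u => LinearMap.ext fun v => LinearMap.ext fun w => ?_
      rw [← hM t, h]; simp
    obtain ⟨c, hc⟩ := huniq (toT m') (equivT m' hm')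
    refine ⟨c, LinearMap.ext fun u => LinearMap.ext fun v => hnd _ _ fun w => ?_⟩
    rw [← hT, hc]
    simp [hM]

end Cfsg.Agent.S5541
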