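import Cfsg.Statements.S5543


set_option autoImplicit false
open Cfsg

namespace Cfsg.Agent.S5543

/-- Let V be a finite-dimensional real vector space with a commutative bilinear product and a positive-definite symmetric bilinear form that associates with the product and satisfies the Norton inequality (the Majorana setting of the definitions). Let X be a group of linear automorphisms of V in which every element squares to the identity, and suppose every non-identity element x of X is a Majorana involution with an axial vector a(x) of squared length 1, such that for any two distinct non-identity x, y the product a(x) ∘ a(y) equals (1/8)(a(x) + a(y) − a(xy)) (the dihedral subalgebra of type 2A whose third axis belongs to the involution xy). Then X has order at most 4. -/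
theorem result {V : Type*} [AddCommGroup V] [Module ℝ V] [FiniteDimensional ℝ V] (mul : V →ₗ[ℝ] V →ₗ[ℝ] V) (B : LinearMap.BilinForm ℝ V) (hV : Cfsg.Axial.IsMajoranaAmbient mul B) (X : Subgroup (V ≃ₗ[ℝ] V)) (hX : ∀ x ∈ X, x * x = 1) (ax : (V ≃ₗ[ℝ] V) → V) (hax : ∀ x ∈ X, x ≠ 1 → Cfsg.Axial.IsMajoranaPair mul B x (ax x)) (h1 : ∀ x ∈ X, x ≠ 1 → B (ax x) (ax x) = 1) (h2A : ∀ x ∈ X, ∀ y ∈ X, x ≠ 1 → y ≠ 1 → x ≠ y → mul (ax x) (ax y) = (1 / 8 : ℝ) • (ax x + ax y - ax (x * y))) : Nat.card ↥X ≤ 4 := by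
  classical
  have hcommul : ∀ u v, mul u v = mul v u := hV.1
  have hmem : ∀ {x : V ≃ₗ[ℝ] V} {y : V ≃ₗ[ℝ] V}, x ∈ X → y ∈ X → x * y = y * x := by
    intro x y hx hy
    have h := hX _ (X.mul_mem hx hy)
    calc x * y = x * (x * y * (x * y)) * y := by rw [h, mul_one]
      _ = (x * x) * (y * x) * (y * y) := by group
      _ = y * x := by rw [hX x hx, hX y hy, one_mul, mul_one]
  -- distinct elements have distinct axes
  have hinj : ∀ x ∈ X, ∀ y ∈ X, x ≠ 1 → y ≠ 1 → ax x = ax y → x = y := by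
    intro x hx y hy hx1 hy1 e
    obtain ⟨-, -, ⟨⟨-, -, htop, -⟩, -⟩, hfix, hneg⟩ := hax x hx hx1
    obtain ⟨-, -, -, hfix', hneg'⟩ := hax y hy hy1
    refine LinearEquiv.toLinearMap_injective ?_
    have hle : Cfsg.Axial.eigenSum mul (ax x) Cfsg.Axial.majoranaSpectrum ≤
        LinearMap.eqLocus (x : V →ₗ[ℝ] V) (y : V →ₗ[ℝ] V) := by
      refine iSup₂_le fun c hc v hv => ?_
      rw [LinearMap.mem_eqLocus]
      have hv' : v ∈ Cfsg.Axial.eigen mul (ax y) c := e ▸ hv
      simp only [Cfsg.Axial.majoranaSpectrum, Set.mem_insert_iff, Set.mem_singleton_iff] at hc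
      by_cases h32 : c = 1 / 32
      · subst h32; rw [hneg v hv, hneg' v hv']
      · have hc3 : c ∈ ({1, 0, 1 / 4} : Set ℝ) := by
          simp only [Set.mem_insert_iff, Set.mem_singleton_iff]; tauto
        rw [hfix v (le_iSup₂ (f := fun c (_ : c ∈ ({1, 0, 1 / 4} : Set ℝ)) =>
            Cfsg.Axial.eigen mul (ax x) c) c hc3 hv),
          hfix' v (le_iSup₂ (f := fun c (_ : c ∈ ({1, 0, 1 / 4} : Set ℝ)) =>
            Cfsg.Axial.eigen mul (ax y) c) c hc3 hv')]
    rw [htop] at hle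
    exact LinearMap.ext fun v => hle (Submodule.mem_top (x := v))
  by_contra hcard
  haveI : Finite X := Nat.finite_of_card_ne_zero (by omega)
  haveI : Fintype X := Fintype.ofFinite X
  obtain ⟨x, hx, hx1⟩ : ∃ x ∈ X, x ≠ 1 := by
    by_contra! h
    have : X = ⊥ := (Subgroup.eq_bot_iff_forall _).2 h
    rw [this, Subgroup.card_bot] at hcard; omega
  have outside : ∀ S : Finset (V ≃ₗ[ℝ] V), S.card ≤ 4 → ∃ z ∈ X, z ∉ S := by
    intro S hS
    by_contra! h
    have hle : (X : Set (V ≃ₗ[ℝ] V)) ⊆ S := h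
    have := Set.ncard_le_ncard hle
    rw [Set.ncard_coe_finset, ← Nat.card_coe_set_eq] at this
    exact hcard (this.trans hS)
  obtain ⟨y, hy, hyS⟩ := outside {1, x} (le_trans (Finset.card_le_two) (by norm_num))
  obtain ⟨z, hz, hzS⟩ := outside {1, x, y, x * y} Finset.card_le_four
  simp only [Finset.mem_insert, Finset.mem_singleton, not_or] at hyS hzS
  obtain ⟨hy1, hyx⟩ := hyS
  obtain ⟨hz1, hzx, hzy, hzxy⟩ := hzS
  have e2 : ∀ {u : V ≃ₗ[ℝ] V} (v : V ≃ₗ[ℝ] V), u ∈ X → u * (u * v) = v := fun v hu => by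
    rw [← mul_assoc, hX _ hu, one_mul]
  set q := x * y with hq
  have hqX : q ∈ X := X.mul_mem hx hy
  set r := x * z with hr
  have hrX : r ∈ X := X.mul_mem hx hz
  set f := y * z with hf
  have hfX : f ∈ X := X.mul_mem hy hz
  set k := x * f with hk
  have hkX : k ∈ X := X.mul_mem hx hfX
  have q1 : q ≠ 1 := fun h => hyx (by rw [← e2 y hx, ← hq, h, mul_one])
  have r1 : r ≠ 1 := fun h => hzx (by rw [← e2 z hx, ← hr, h, mul_one])
  have f1 : f ≠ 1 := fun h => hzy (by rw [← e2 z hy, ← hf, h, mul_one])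
  have fx : f ≠ x := fun h => hzxy (by
    rw [← e2 z hy, ← hf, h, hq, hmem hy hx])
  have k1 : k ≠ 1 := fun h => fx (by rw [← e2 f hx, ← hk, h, mul_one])
  have fk : f ≠ k := fun h => hx1 (by
    have h' : 1 * f = x * f := by rw [one_mul]; exact h
    exact (mul_right_cancel h').symm)
  have yr : y * r = k := by rw [hr, hk, hf, ← mul_assoc, hmem hy hx, mul_assoc]
  have qz : q * z = k := by rw [hq, hk, hf, mul_assoc]
  have qr : q * r = f := by
    rw [hq, hr, hf, ← mul_assoc, mul_assoc x y x, hmem hy hx, ← mul_assoc x x y, hX x hx, one_mul]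
  have yne : ∀ w, w ∈ X → y * w ≠ 1 → y ≠ w := by
    rintro w hw h rfl; exact h (hX y hy)
  have qne : ∀ w, w ∈ X → q * w ≠ 1 → q ≠ w := by
    rintro w hw h rfl; exact h (hX q hqX)
  have xk : x * k = f := e2 f hx
  have myz : mul (ax y) (ax z) = (1 / 8 : ℝ) • (ax y + ax z - ax f) :=
    h2A y hy z hz hy1 hz1 (Ne.symm hzy)
  have myr : mul (ax y) (ax r) = (1 / 8 : ℝ) • (ax y + ax r - ax k) := by
    rw [h2A y hy r hrX hy1 r1 (yne r hrX (by rw [yr]; exact k1)), yr]
  have mqz : mul (ax q) (ax z) = (1 / 8 : ℝ) • (ax q + ax z - ax k) := by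
    rw [h2A q hqX z hz q1 hz1 (qne z hz (by rw [qz]; exact k1)), qz]
  have mqr : mul (ax q) (ax r) = (1 / 8 : ℝ) • (ax q + ax r - ax f) := by
    rw [h2A q hqX r hrX q1 r1 (qne r hrX (by rw [qr]; exact f1)), qr]
  have quarter : ∀ u w, u ∈ X → u ≠ 1 → u ≠ x → x * u = w → w ∈ X → w ≠ 1 →
      ax u - ax w ∈ Cfsg.Axial.eigen mul (ax x) (1 / 4) := by
    intro u w hu hu1 hux hw hwX hw1
    have hwx : x ≠ w := fun h => hu1 (by rw [← e2 u hx, hw, ← h, hX x hx])
    have e := h2A x hx w hwX hx1 hw1 hwx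
    rw [← hw, e2 u hx] at e
    rw [Cfsg.Axial.eigen, Module.End.mem_eigenspace_iff, map_sub,
      h2A x hx u hu hx1 hu1 (Ne.symm hux), hw, ← hw, e, hw]
    module
  have p1 := quarter y q hy hy1 hyx rfl hqX q1
  have p2 := quarter z r hz hz1 hzx rfl hrX r1
  have p3 := quarter k f hkX k1 (fun h => f1 (by rw [← xk, h, hX x hx])) xk hfX f1
  obtain ⟨-, -, ⟨⟨-, -, -, hfus⟩, -⟩, -⟩ := hax x hx hx1
  have hin := hfus (1 / 4) (by simp [Cfsg.Axial.majoranaSpectrum]) (1 / 4)
    (by simp [Cfsg.Axial.majoranaSpectrum]) _ p1 _ p2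
  have hprod : mul (ax y - ax q) (ax z - ax r) = (1 / 4 : ℝ) • (ax k - ax f) := by
    simp only [map_sub, LinearMap.sub_apply, myz, myr, mqz, mqr]
    module
  rw [hprod] at hin
  have hlaw : Cfsg.Axial.monsterLaw (1 / 4 : ℝ) (1 / 32) (1 / 4) (1 / 4) = {1, 0} := by
    simp [Cfsg.Axial.monsterLaw]
  rw [hlaw] at hin
  have hzero : (1 / 4 : ℝ) • (ax k - ax f) = 0 := by
    have hind := Module.End.eigenspaces_iSupIndep (mul (ax x))
    have hdis : Disjoint (Cfsg.Axial.eigen mul (ax x) (1 / 4))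
        (Cfsg.Axial.eigenSum mul (ax x) ({1, 0} : Set ℝ)) :=
      (hind.disjoint_biSup (x := (1 / 4 : ℝ)) (y := ({1, 0} : Set ℝ)) (by simp))
    exact Submodule.disjoint_def.1 hdis _ (Submodule.smul_mem _ _ p3) hin
  rw [smul_eq_zero, sub_eq_zero] at hzero
  exact fk (hinj k hkX f hfX k1 f1 (hzero.resolve_left (by norm_num))).symm

end Cfsg.Agent.S5543
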