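import Cfsg.Statements.S5555
import Cfsg.Agent.Lib.Trans3.SUThreeTwoDerived
import Cfsg.Agent.Lib.Trans3.FiftyFourLift

set_option autoImplicit false
open Cfsg

namespace Cfsg.Agent.S5555

/-- Let G be a finite group generated by a conjugacy class D of 3-transpositions, with trivial centre and with generalized Fitting subgroup F*(G) = O₂(G) (so the Fitting subgroup is O₂(G) too). If G/O₂(G) is isomorphic to the derived group of SU₃(2) (the group of order 54 generated by nine 3-transpositions), then O₂(G) has a complement in G. -/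
theorem result {G : Type*} [Group G] [Finite G] {D : Set G} (hD : Cfsg.IsThreeTranspositionClass D)
    (hZ : Subgroup.center G = ⊥) (hF : Cfsg.generalizedFittingSubgroup G = Cfsg.pCore 2 G)
    (hq : ∃ (F : Type) (_ : Field F) (_ : Fintype F), Fintype.card F = 4 ∧ Nonempty (G ⧸ Cfsg.pCore 2 G ≃* ↥(commutator ↥(Cfsg.SU 3 F 2)))) :
    ∃ K : Subgroup G, (Cfsg.pCore 2 G).IsComplement' K := by
  obtain ⟨F, _, _, hF4, ⟨e⟩⟩ := hq
  obtain ⟨h54, ⟨a, b, c, hrel, hgen⟩, -⟩ :=
    CfsgLib.Trans3.Fifty.exists_rel_commutator_su_three_two (F := F) hF4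
  set V := Cfsg.pCore 2 G
  let π : G →* ↥(commutator ↥(Cfsg.SU 3 F 2)) := e.toMonoidHom.comp (QuotientGroup.mk' V)
  have hπ : Function.Surjective π := e.surjective.comp (QuotientGroup.mk'_surjective V)
  obtain ⟨d, hd, hDd⟩ := hD.2.1
  obtain ⟨⟨na, nb, nc⟩, -⟩ :=
    CfsgLib.Trans3.Fifty.distinct_of_six_lt hrel hgen (by rw [h54]; norm_num)
  have hπd : π d ≠ 1 := by
    intro h1
    have h0 : π = 1 := by
      refine MonoidHom.eq_of_eqOn_dense hD.2.2 fun x hx => ?_
      rw [hDd] at hx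
      obtain ⟨g, rfl⟩ := isConj_iff.1 hx
      simp [h1]
    obtain ⟨g, hg⟩ := hπ a
    rw [h0, MonoidHom.one_apply] at hg
    exact na hg.symm
  have hord : orderOf (π d) = 2 := orderOf_eq_prime (by rw [← map_pow, pow_two,
    CfsgLib.Trans3.sq_one hD.1 hd, map_one]) hπd
  have himg : ∀ x, x ≠ 1 → x * x = 1 → x ∈ π '' D := by
    intro x hx1 hx2
    obtain ⟨q, hq⟩ := CfsgLib.Trans3.Fifty.exists_conj_of_card h54 hord
      (orderOf_eq_prime (by rw [pow_two, hx2]) hx1)
    obtain ⟨g, rfl⟩ := hπ q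
    exact ⟨g * d * g⁻¹, CfsgLib.Trans3.class_conj_mem hD g hd, by simpa using hq⟩
  obtain ⟨K, hK⟩ := CfsgLib.Trans3.Fifty.exists_lift hD π hrel hgen h54
    (himg a na hrel.ha) (himg b nb hrel.hb) (himg c nc hrel.hc)
  refine ⟨K, Subgroup.isComplement'_of_disjoint_and_mul_eq_univ ?_ ?_⟩
  · rw [Subgroup.disjoint_def]
    intro x hxV hxK
    have h0 : (π.comp K.subtype) ⟨x, hxK⟩ = (π.comp K.subtype) 1 := by
      rw [map_one]
      show e _ = 1
      rw [map_eq_one_iff e e.injective]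
      exact (QuotientGroup.eq_one_iff x).2 hxV
    exact congrArg Subtype.val (hK.1 h0)
  · refine Set.eq_univ_of_forall fun g => ?_
    obtain ⟨k, hk⟩ := hK.2 (π g)
    refine ⟨g * (k : G)⁻¹, ?_, k, k.2, inv_mul_cancel_right g (k : G)⟩
    show g * (k : G)⁻¹ ∈ V
    rw [← QuotientGroup.eq_one_iff, ← map_eq_one_iff e e.injective]
    show π (g * (k : G)⁻¹) = 1
    rw [map_mul, map_inv, ← hk]
    exact mul_inv_cancel _

end Cfsg.Agent.S5555
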