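import Cfsg.Statements.S5558
import Cfsg.Agent.Lib.Trans3.UniqueClass.Quotient

set_option autoImplicit false
open Cfsg

namespace Cfsg.Agent.S5558

/-- Let G be a finite group generated by a conjugacy class D of 3-transpositions, with trivial centre and with generalized Fitting subgroup F*(G) = O₂(G) (so the Fitting subgroup is O₂(G) too). If moreover O₂(G) is elementary abelian, then D is the only conjugacy class of 3-transpositions generating G. -/
theorem result {G : Type*} [Group G] [Finite G] {D : Set G} (hD : Cfsg.IsThreeTranspositionClass D)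
    (hZ : Subgroup.center G = ⊥) (hF : Cfsg.generalizedFittingSubgroup G = Cfsg.pCore 2 G)
    (hV : Cfsg.IsElementaryAbelian 2 (Cfsg.pCore 2 G)) :
    ∀ E : Set G, Cfsg.IsThreeTranspositionClass E → E = D := by
  haveI := CfsgLib.Amalgam.normal_pCore (G := G) (p := 2)
  haveI : IsMulCommutative (Cfsg.pCore 2 G) := hV.1
  haveI : Fact (Nat.Prime 2) := ⟨Nat.prime_two⟩
  intro E hE
  have hc : Subgroup.centralizer (Cfsg.pCore 2 G : Set G) ≤ Cfsg.pCore 2 G := by
    rw [← hF]; exact CfsgLib.Comp.centralizer_generalizedFitting_le G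
  have hQ := CfsgLib.Solvable.pCore_quotient_eq_bot (G := G) 2
  exact Set.Subset.antisymm
    (CfsgLib.Trans3.UniqueClass.subset_of_elementary _ hV.2 hc hQ hD hZ hE)
    (CfsgLib.Trans3.UniqueClass.subset_of_elementary _ hV.2 hc hQ hE hZ hD)

end Cfsg.Agent.S5558
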