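import Cfsg.Statements.S5562
import Cfsg.Agent.Lib.Trans3.Basic

set_option autoImplicit false
open Cfsg

namespace Cfsg.Agent.S5562

/-- Let G be a finite group, d an involution of G whose conjugates pairwise have products of odd order, and x any involution of G. Then the conjugacy class of d is the disjoint union, over the conjugates a of d commuting with x, of the sets of conjugates of d commuting with ax: every conjugate of d commutes with ax for exactly one conjugate a of d that commutes with x. -/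
theorem result {G : Type*} [Group G] [Finite G] (d : G) (hd : orderOf d = 2)
    (hodd : ∀ a ∈ conjugatesOf d, ∀ b ∈ conjugatesOf d, Odd (orderOf (a * b)))
    (x : G) (hx : orderOf x = 2) :
    ∀ e ∈ conjugatesOf d,
      ∃! a : G, a ∈ conjugatesOf d ∧ Commute a x ∧ Commute e (a * x) := by
  intro e he
  have hordD : ∀ a ∈ conjugatesOf d, orderOf a = 2 := by
    intro a ha
    obtain ⟨g, rfl⟩ := isConj_iff.1 (ha : IsConj d a)
    rw [CfsgLib.Trans3.orderOf_conj, hd]
  have hconjD : ∀ a ∈ conjugatesOf d, ∀ g : G, g * a * g⁻¹ ∈ conjugatesOf d := fun a ha g =>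
    IsConj.trans ha (isConj_iff.2 ⟨g, rfl⟩)
  have hxi := CfsgLib.Trans3.invol_inv hx
  have hxx := CfsgLib.Trans3.invol_mul_self hx
  have hiX := CfsgLib.Trans3.invol_cancel hx
  have hei := CfsgLib.Trans3.invol_inv (hordD e he)
  have hiE := CfsgLib.Trans3.invol_cancel (hordD e he)
  have hee := CfsgLib.Trans3.invol_mul_self (hordD e he)
  set e' := x * e * x with he'def
  have he' : e' ∈ conjugatesOf d := by have := hconjD e he x; rwa [hxi] at this
  have hei' := CfsgLib.Trans3.invol_inv (hordD e' he')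
  have hee' := CfsgLib.Trans3.invol_mul_self (hordD e' he')
  -- a member `a` works iff `a x = x a` and `a e' a = e`
  have crit : ∀ a ∈ conjugatesOf d, Commute a x → (Commute e (a * x) ↔ a * e' * a = e) := by
    intro a ha hax
    have hia := CfsgLib.Trans3.invol_cancel (hordD a ha)
    have haa := CfsgLib.Trans3.invol_mul_self (hordD a ha)
    have h1 : a * x * e * (a * x) = a * e' * a := by
      rw [hax.eq, he'def]; simp only [mul_assoc]
      rw [← mul_assoc x a, ← hax.eq, mul_assoc]
    have h2 : a * x * (a * x) = 1 := by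
      calc a * x * (a * x) = a * (x * a) * x := by group
        _ = a * (a * x) * x := by rw [hax.eq]
        _ = 1 := by rw [hia, hxx]
    constructor
    · intro h
      rw [← h1, mul_assoc (a * x) e, h.eq, ← mul_assoc, h2, one_mul]
    · intro h
      rw [← h1] at h
      calc e * (a * x) = a * x * e * (a * x) * (a * x) := by rw [h]
        _ = a * x * e := by rw [mul_assoc _ (a * x) (a * x), h2, mul_one]
  set u := e * e' with hu
  obtain ⟨k, hk⟩ := hodd e he e' he'
  have hum : u ^ (2 * k + 1) = 1 := by rw [← hk]; exact pow_orderOf_eq_one u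
  have heu : e * u * e⁻¹ = u⁻¹ := by
    rw [hu, mul_inv_rev, hei, hei', hiE]
  have hxu : x * u * x⁻¹ = u⁻¹ := by
    rw [hu, mul_inv_rev, hei, hei', he'def, hxi]
    simp only [mul_assoc, hiX]
    rw [hxx, mul_one]
  set j := (k + 1) ^ 2 with hj
  have hj4 : u ^ (4 * j) = u := by
    have : 4 * j = 1 + (2 * k + 1) * (2 * k + 3) := by rw [hj]; ring
    rw [this, pow_add, pow_mul, hum, one_pow, mul_one, pow_one]
  set a := e * u ^ (2 * j) with ha
  have hconje : ∀ n, e * u ^ n * e⁻¹ = (u ^ n)⁻¹ := fun n => by rw [← conj_pow, heu, inv_pow]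
  have haD : a ∈ conjugatesOf d := by
    have h := hconjD e he (u ^ j)⁻¹
    rw [inv_inv] at h
    have : (u ^ j)⁻¹ * e * u ^ j = a := by
      rw [← hconje j, ha, two_mul, pow_add]; simp only [mul_assoc]; rw [hei, hiE]
    rwa [this] at h
  have hax : Commute a x := by
    show a * x = x * a
    have h1 : x * a * x = e' * (u ^ (2 * j))⁻¹ := by
      have : x * u ^ (2 * j) * x⁻¹ = (u ^ (2 * j))⁻¹ := by rw [← conj_pow, hxu, inv_pow]
      rw [← this, ha, he'def, hxi]; simp only [mul_assoc, hiX]
    have h2 : e' * (u ^ (2 * j))⁻¹ = a := by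
      have e1 : e' = e * u := by rw [hu, hiE]
      have e2 : u ^ (2 * j) * u ^ (2 * j) = u := by rw [← pow_add, ← two_mul, ← mul_assoc]; exact hj4
      rw [e1, ha, mul_assoc]
      congr 1
      rw [mul_inv_eq_iff_eq_mul]; exact e2.symm
    rw [h2] at h1
    calc a * x = x * a * x * x := by rw [h1]
      _ = x * a := by rw [mul_assoc _ x x, hxx, mul_one]
  refine ⟨a, ⟨haD, hax, (crit a haD hax).2 ?_⟩, fun b ⟨hbD, hbx, hbe⟩ => ?_⟩
  · have e1 : e' = e * u := by rw [hu, hiE]
    have e2 : u ^ (2 * j) * u ^ (2 * j) = u := by rw [← pow_add, ← two_mul, ← mul_assoc]; exact hj4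
    rw [e1, ha]
    calc e * u ^ (2 * j) * (e * u) * (e * u ^ (2 * j))
        = (e * u ^ (2 * j) * e⁻¹) * (e * (e * u * e⁻¹) * u ^ (2*j)) := by
          rw [hei]; simp only [mul_assoc, hiE]
      _ = (u ^ (2 * j))⁻¹ * (e * u⁻¹ * u ^ (2 * j)) := by rw [hconje, heu]
      _ = (u ^ (2 * j))⁻¹ * ((e * u⁻¹ * e⁻¹) * (e * u ^ (2 * j) * e⁻¹) * e) := by group
      _ = (u ^ (2 * j))⁻¹ * (u * (u ^ (2 * j))⁻¹ * e) := by
          rw [hconje, show e * u⁻¹ * e⁻¹ = (e * u * e⁻¹)⁻¹ by group, heu, inv_inv]
      _ = (u ^ (2 * j))⁻¹ * (u ^ (2 * j) * u ^ (2 * j) * (u ^ (2 * j))⁻¹ * e) := by rw [e2]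
      _ = e := by group
  · have hbe' := (crit b hbD hbx).1 hbe
    have hae' : a * e' * a = e := by
      apply (crit a haD hax).1
      refine (crit a haD hax).2 ?_
      have e1 : e' = e * u := by rw [hu, hiE]
      have e2 : u ^ (2 * j) * u ^ (2 * j) = u := by rw [← pow_add, ← two_mul, ← mul_assoc]; exact hj4
      rw [e1, ha]
      calc e * u ^ (2 * j) * (e * u) * (e * u ^ (2 * j))
          = (e * u ^ (2 * j) * e⁻¹) * (e * (e * u * e⁻¹) * u ^ (2*j)) := by
            rw [hei]; simp only [mul_assoc, hiE]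
        _ = (u ^ (2 * j))⁻¹ * (e * u⁻¹ * u ^ (2 * j)) := by rw [hconje, heu]
        _ = (u ^ (2 * j))⁻¹ * ((e * u⁻¹ * e⁻¹) * (e * u ^ (2 * j) * e⁻¹) * e) := by group
        _ = (u ^ (2 * j))⁻¹ * (u * (u ^ (2 * j))⁻¹ * e) := by
            rw [hconje, show e * u⁻¹ * e⁻¹ = (e * u * e⁻¹)⁻¹ by group, heu, inv_inv]
        _ = (u ^ (2 * j))⁻¹ * (u ^ (2 * j) * u ^ (2 * j) * (u ^ (2 * j))⁻¹ * e) := by rw [e2]
        _ = e := by group
    clear_value a
    have hia := CfsgLib.Trans3.invol_cancel (hordD a haD)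
    have hib := CfsgLib.Trans3.invol_cancel (hordD b hbD)
    have haa := CfsgLib.Trans3.invol_mul_self (hordD a haD)
    have hbb := CfsgLib.Trans3.invol_mul_self (hordD b hbD)
    set r := b * a with hr
    have hre : Commute e' r := by
      show e' * r = r * e'
      have h1 : b * a * e' * a * b = e' := by
        calc b * a * e' * a * b = b * (a * e' * a) * b := by group
          _ = b * (b * e' * b) * b := by rw [hae', hbe']
          _ = e' := by simp only [mul_assoc]; rw [hib, hbb, mul_one]
      calc e' * r = b * a * e' * a * b * (b * a) := by rw [h1]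
        _ = r * e' := by simp only [hr, mul_assoc]; rw [hib, haa, mul_one]
    have har : a * r * a⁻¹ = r⁻¹ := by
      rw [hr, mul_inv_rev b a, CfsgLib.Trans3.invol_inv (hordD a haD),
        CfsgLib.Trans3.invol_inv (hordD b hbD), mul_assoc, mul_assoc, haa, mul_one]
    obtain ⟨q, hq⟩ := hodd e' he' a haD
    have hflip : ∀ n : ℕ, (e' * a) ^ n * r * ((e' * a) ^ n)⁻¹ = if Even n then r else r⁻¹ := by
      intro n
      induction n with
      | zero => simp
      | succ n ih =>
        have step : ∀ s, Commute e' s → a * s * a⁻¹ = s⁻¹ → e' * a * s * (e' * a)⁻¹ = s⁻¹ := by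
          intro s h1 h2
          calc e' * a * s * (e' * a)⁻¹ = e' * (a * s * a⁻¹) * e'⁻¹ := by group
            _ = s⁻¹ := by rw [h2, h1.inv_right.eq]; group
        rw [pow_succ', show e' * a * (e' * a) ^ n * r * (e' * a * (e' * a) ^ n)⁻¹ =
          e' * a * ((e' * a) ^ n * r * ((e' * a) ^ n)⁻¹) * (e' * a)⁻¹ by
            rw [mul_inv_rev (e' * a)]; simp only [mul_assoc], ih]
        by_cases hn : Even n
        · simp only [hn, if_true, Nat.even_add_one, not_true_eq_false, if_false]
          exact step r hre har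
        · simp only [hn, if_false, Nat.even_add_one, not_false_eq_true, if_true]
          have := step r⁻¹ hre.inv_right (by rw [← conj_inv, har])
          rwa [inv_inv] at this
    have hrr : r = r⁻¹ := by
      have := hflip (2 * q + 1)
      have h1 : (e' * a) ^ (2 * q + 1) = 1 := by rw [← hq]; exact pow_orderOf_eq_one _
      rw [h1] at this
      rw [if_neg (by simp [parity_simps]), one_mul, inv_one, mul_one] at this
      exact this
    obtain ⟨p, hp⟩ := hodd b hbD a haD
    have : r ^ (2 * p + 1) = 1 := by rw [← hp]; exact pow_orderOf_eq_one _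
    rw [pow_succ, pow_mul, pow_two, eq_inv_iff_mul_eq_one.1 hrr, one_pow, one_mul] at this
    rw [← CfsgLib.Trans3.invol_inv (hordD a haD)]
    exact eq_inv_of_mul_eq_one_left this

end Cfsg.Agent.S5562
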