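import Cfsg.Statements.S5566
import Cfsg.Agent.Lib.J4Type.Ident.Main
import Cfsg.Agent.Lib.J4Type.PlaneUnique

/-!
A Sylow 2-subgroup of a group of Janko-four type has exactly one elementary abelian subgroup of order `2 ^ 11`.
-/

set_option autoImplicit false
open Cfsg

namespace Cfsg.Agent.S5566

/-- Let G be a finite non-abelian simple group of Janko-four type (an involution z whose centralizer H has an extraspecial largest normal 2-subgroup E of order 2^13 containing its centralizer in H, a normal subgroup N ≥ E of H with N/E of order 3 and H/N the automorphism group of M₂₂, and a subgroup P ≤ N of order 3 with C_E(P) = ⟨z⟩, N_H(P) ≠ C_H(P) and P ≤ C_H(P)′). Then a Sylow 2-subgroup of G has exactly one elementary abelian subgroup of order 2^11. -/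
theorem result {G : Type*} [Group G] [Finite G] [IsSimpleGroup G] (hG : ¬ IsMulCommutative G) (hJ : Cfsg.IsOfJankoFourType G) (T : Sylow 2 G) :
    ∃! V : Subgroup G, V ≤ (T : Subgroup G) ∧ Cfsg.IsElementaryAbelian 2 V ∧ Nat.card ↥V = 2 ^ 11 := by
  obtain ⟨z, P, h⟩ := hJ
  obtain ⟨F⟩ := CfsgLib.J4Type.frame_exists h
  obtain ⟨D⟩ := CfsgLib.J4Type.vData_exists F
  have : Fact (Nat.Prime 2) := ⟨Nat.prime_two⟩
  have h2 : IsPGroup 2 D.V := IsPGroup.of_card (n := 11) D.card
  obtain ⟨S, hS⟩ := h2.exists_le_sylow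
  obtain ⟨g, hg⟩ := MulAction.exists_smul_eq G S T
  set W := D.V.map (MulAut.conj g).toMonoidHom with hW
  have hWT : W ≤ (T : Subgroup G) := by
    rintro _ ⟨v, hv, rfl⟩
    rw [← hg, Sylow.smul_def]
    exact ⟨v, hS hv, rfl⟩
  have hWe : Cfsg.IsElementaryAbelian 2 W := by
    refine ⟨⟨⟨fun a b => ?_⟩⟩, ?_⟩
    · obtain ⟨_, x, hx, rfl⟩ := a
      obtain ⟨_, y, hy, rfl⟩ := b
      have := congrArg Subtype.val (D.elem.1.1.1 (⟨x, hx⟩ : D.V) ⟨y, hy⟩)
      refine Subtype.ext ?_
      show (MulAut.conj g) x * (MulAut.conj g) y = (MulAut.conj g) y * (MulAut.conj g) x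
      rw [← map_mul, ← map_mul]
      exact congrArg _ this
    · rintro _ ⟨x, hx, rfl⟩
      rw [← map_pow, D.elem.2 x hx, map_one]
  have hWc : Nat.card ↥W = 2 ^ 11 := by
    rw [hW, ← Nat.card_congr (D.V.equivMapOfInjective _ (MulAut.conj g).injective).toEquiv, D.card]
  exact ⟨W, ⟨hWT, hWe, hWc⟩, fun A hA => D.unique T A W hA.1 hWT hA.2.1 hA.2.2 hWe hWc⟩

end Cfsg.Agent.S5566
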