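import Cfsg.Statements.S5579
import Cfsg.Agent.Lib.J4Type.Classes.Count
import Cfsg.Agent.Lib.J4Type.Classes.OddSum
import Cfsg.Agent.Lib.J4Type.Classes.OddCent
import Cfsg.Agent.Lib.J4Type.Classes.OddCentT
import Cfsg.Agent.Lib.J4Type.Classes.RadZ
import Cfsg.Agent.Lib.J4Type.Classes.RootZ
import Cfsg.Agent.Lib.J4Type.Classes.RootT
import Cfsg.Agent.Lib.J4Type.Ident.Main
import Cfsg.Agent.Lib.J4Type.PlaneUnique
import Cfsg.Agent.Lib.J4Type.FusedMain

set_option autoImplicit false
open Cfsg

namespace Cfsg.Agent.S5579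

/-- Let G be a finite non-abelian simple group of Janko-four type (an involution z whose centralizer H has an extraspecial largest normal 2-subgroup E of order 2^13 containing its centralizer in H, a normal subgroup N ≥ E of H with N/E of order 3 and H/N the automorphism group of M₂₂, and a subgroup P ≤ N of order 3 with C_E(P) = ⟨z⟩, N_H(P) ≠ C_H(P) and P ≤ C_H(P)′). Then G has exactly 62 conjugacy classes. -/
theorem result {G : Type*} [Group G] [Finite G] [IsSimpleGroup G] (hG : ¬ IsMulCommutative G) (hJ : Cfsg.IsOfJankoFourType G) :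
    Nat.card (ConjClasses G) = 62 := by
  have hodd := CfsgLib.J4Type.Classes.odd_top hG hJ
  obtain ⟨z, P, hP⟩ := hJ
  obtain ⟨F⟩ := CfsgLib.J4Type.frame_exists hP
  obtain ⟨D⟩ := CfsgLib.J4Type.vData_exists F
  have hf := CfsgLib.J4Type.fused_exists hG D
  obtain ⟨S⟩ := CfsgLib.J4Type.Order.exists_tsetup hf
  exact CfsgLib.J4Type.Classes.count S hodd (CfsgLib.J4Type.Classes.odd_cz F D hf)
    (CfsgLib.J4Type.Classes.odd_ct S) (CfsgLib.J4Type.Classes.rad_z F)
    (by rw [CfsgLib.J4Type.Classes.RootZ.root_z D hf, CfsgLib.J4Type.Classes.root_t S])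

end Cfsg.Agent.S5579
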