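import Cfsg.Statements.S5594
import Cfsg.Agent.Lib.Golay.Co0Simple

set_option autoImplicit false
open Cfsg

namespace Cfsg.Agent.S5594

/-- The automorphism group of the Leech lattice contains the negation map, and the subgroup of order 2 it generates has no complement: the automorphism group is a non-split extension of its quotient by that subgroup (it is not the direct product of a group of order 2 with the first Conway group). -/
theorem result :
    ∃ n : ↥Cfsg.Co0, (∀ v : ↥Cfsg.leechLattice, ((n • v : ↥Cfsg.leechLattice) : Cfsg.GolayPt → ℤ) = -(v : Cfsg.GolayPt → ℤ)) ∧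
    ∀ K : Subgroup ↥Cfsg.Co0, ¬ (Subgroup.zpowers n).IsComplement' K := by
  classical
  open scoped Pointwise in
  open CfsgLib.Golay in
  exact by
    refine ⟨negCo0, fun v => by rw [negCo0_smul]; rfl, fun K hK => ?_⟩
    have hidx : K.index = 2 := by
      rw [hK.index_eq_card, Nat.card_zpowers]
      exact orderOf_eq_prime (by rw [sq]; exact sign0_sq _ _) negCo0_ne_one
    have : K.Normal := Subgroup.normal_of_index_eq_two hidx
    obtain ⟨d, hd⟩ : ∃ d, d ∈ Cfsg.dodecads := ⟨_, sqMask_mem⟩
    have hd1 : d ∈ Cfsg.supports (Cfsg.golayCode : Set (Cfsg.GolayPt → ZMod 2)) := hd.1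
    have hd' : symmDiff Finset.univ d ∈ Cfsg.dodecads :=
      ⟨symmDiff_mem_supports univ_mem_supports hd1, by
        rw [show symmDiff (Finset.univ : Finset Cfsg.GolayPt) d = dᶜ by ext; simp [Finset.mem_symmDiff],
          Finset.card_compl, hd.2]
        simp⟩
    obtain ⟨g, hg⟩ := M24_trans_dodecads hd hd'
    have hm : monoCo0 g g.2 ∅ empty_code * sign0 d hd1 =
        sign0 (symmDiff Finset.univ d) hd'.1 * monoCo0 g g.2 ∅ empty_code := by
      rw [mono_mul_sign0, sign0_mul_mono]
      refine monoCo0_congr rfl ?_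
      rw [show (g : Equiv.Perm Cfsg.GolayPt) • d = symmDiff Finset.univ d from hg]
      ext; simp [Finset.mem_symmDiff]
    have hn : negCo0 = sign0 d hd1 * sign0 (symmDiff Finset.univ d) hd'.1 := by
      rw [sign0_mul]
      exact sign0_congr (by ext; simp [Finset.mem_symmDiff, em])
    have h1 := Subgroup.mul_mem_iff_of_index_two hidx (a := monoCo0 g g.2 ∅ empty_code)
      (b := sign0 d hd1)
    rw [hm, Subgroup.mul_mem_iff_of_index_two hidx] at h1
    have hK1 : negCo0 ∈ K := by
      rw [hn, Subgroup.mul_mem_iff_of_index_two hidx]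
      tauto
    exact negCo0_ne_one (Subgroup.disjoint_def.1 hK.disjoint (Subgroup.mem_zpowers _) hK1)

end Cfsg.Agent.S5594
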