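import Cfsg.Statements.S5601
import Cfsg.Agent.Lib.Mathieu.OrderThree

set_option autoImplicit false
open scoped Pointwise
open Cfsg

namespace Cfsg.Agent.S5601

/-- The group of the length-24 code has exactly two conjugacy classes of subgroups of order 3: a subgroup of order 3 fixes either exactly 6 of the 24 points or none of them, both cases occur, and two subgroups of order 3 with the same number of fixed points are conjugate. -/
theorem result : (∀ X : Subgroup ↥Cfsg.M24, Nat.card X = 3 → {p : Cfsg.GolayPt | ∀ x ∈ X, ((x : ↥Cfsg.M24) : Equiv.Perm Cfsg.GolayPt) p = p}.ncard = 6 ∨ {p : Cfsg.GolayPt | ∀ x ∈ X, ((x : ↥Cfsg.M24) : Equiv.Perm Cfsg.GolayPt) p = p}.ncard = 0) ∧ (∃ X : Subgroup ↥Cfsg.M24, Nat.card X = 3 ∧ {p : Cfsg.GolayPt | ∀ x ∈ X, ((x : ↥Cfsg.M24) : Equiv.Perm Cfsg.GolayPt) p = p}.ncard = 6) ∧ (∃ X : Subgroup ↥Cfsg.M24, Nat.card X = 3 ∧ {p : Cfsg.GolayPt | ∀ x ∈ X,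 ((x : ↥Cfsg.M24) : Equiv.Perm Cfsg.GolayPt) p = p}.ncard = 0) ∧ ∀ X Y : Subgroup ↥Cfsg.M24, Nat.card X = 3 → Nat.card Y = 3 → {p : Cfsg.GolayPt | ∀ x ∈ X, ((x : ↥Cfsg.M24) : Equiv.Perm Cfsg.GolayPt) p = p}.ncard = {p : Cfsg.GolayPt | ∀ x ∈ Y, ((x : ↥Cfsg.M24) : Equiv.Perm Cfsg.GolayPt) p = p}.ncard → ∃ k : ↥Cfsg.M24, MulAut.conj k • X = Y := by
  open CfsgLib.Mathieu in
  have hgen : ∀ X : Subgroup ↥Cfsg.M24, Nat.card X = 3 → ∃ g : ↥Cfsg.M24,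
      orderOf (g : Equiv.Perm GolayPt) = 3 ∧ Subgroup.zpowers g = X ∧
      {p : Cfsg.GolayPt | ∀ x ∈ X, ((x : ↥Cfsg.M24) : Equiv.Perm Cfsg.GolayPt) p = p}.ncard =
        (fixS (g : Equiv.Perm GolayPt)).card := by
    intro X hX
    haveI : Fact (Nat.Prime 3) := ⟨Nat.prime_three⟩
    haveI : IsCyclic X := isCyclic_of_prime_card hX
    obtain ⟨a, ha⟩ := IsCyclic.exists_generator (α := X)
    have hz : Subgroup.zpowers (a : ↥Cfsg.M24) = X := by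
      refine le_antisymm ((Subgroup.zpowers_le).2 a.2) fun x hx => ?_
      obtain ⟨n, hn⟩ := Subgroup.mem_zpowers_iff.1 (ha ⟨x, hx⟩)
      exact Subgroup.mem_zpowers_iff.2 ⟨n, by simpa using congrArg Subtype.val hn⟩
    refine ⟨a, ?_, hz, ?_⟩
    · rw [Subgroup.orderOf_coe, ← Nat.card_zpowers, hz, hX]
    · rw [← Set.ncard_coe_finset]
      congr 1
      ext p
      simp only [Set.mem_ofPred_eq, fixS, Finset.coe_filter, Finset.mem_univ, true_and]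
      constructor
      · exact fun h => h _ a.2
      · intro h x hx
        rw [← hz] at hx
        obtain ⟨n, rfl⟩ := Subgroup.mem_zpowers_iff.1 hx
        have : (a : ↥Cfsg.M24) ∈ MulAction.stabilizer ↥Cfsg.M24 p := h
        exact Subgroup.zpow_mem _ this n
  have mk : ∀ (g : Equiv.Perm GolayPt) (hg : g ∈ Cfsg.M24), g ^ 3 = 1 → g ≠ 1 →
      ∃ X : Subgroup ↥Cfsg.M24, Nat.card X = 3 ∧
        {p : Cfsg.GolayPt | ∀ x ∈ X, ((x : ↥Cfsg.M24) : Equiv.Perm Cfsg.GolayPt) p = p}.ncard =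
          (fixS g).card := by
    intro g hg h3 h1
    haveI : Fact (Nat.Prime 3) := ⟨Nat.prime_three⟩
    refine ⟨Subgroup.zpowers ⟨g, hg⟩, ?_, ?_⟩
    · rw [Nat.card_zpowers, Subgroup.orderOf_mk, orderOf_eq_prime h3 h1]
    · rw [← Set.ncard_coe_finset]
      congr 1
      ext p
      simp only [Set.mem_ofPred_eq, fixS, Finset.coe_filter, Finset.mem_univ, true_and]
      constructor
      · exact fun h => h _ (Subgroup.mem_zpowers _)
      · intro h x hx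
        obtain ⟨n, rfl⟩ := Subgroup.mem_zpowers_iff.1 hx
        have : (⟨g, hg⟩ : ↥Cfsg.M24) ∈ MulAction.stabilizer ↥Cfsg.M24 p := h
        exact Subgroup.zpow_mem _ this n
  refine ⟨fun X hX => ?_, ?_, ?_, fun X Y hX hY he => ?_⟩
  · obtain ⟨g, hg, -, e⟩ := hgen X hX
    rw [e]
    rcases order3_cases g.2 hg with ⟨_, _, _, h⟩ | ⟨_, _, _, h⟩
    · exact Or.inl h
    · exact Or.inr (by rw [h, Finset.card_empty])
  · obtain ⟨X, hX, e⟩ := mk _ sSix_mem sSix_cube (fun e => by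
      have := sSix_fix.1
      rw [e] at this; simp [fixS] at this)
    exact ⟨X, hX, e.trans sSix_fix.1⟩
  · obtain ⟨X, hX, e⟩ := mk _ sFree_mem sFree_cube (fun e => by
      have := sFree_fix.1
      rw [e] at this; simp [fixS] at this; exact Finset.univ_nonempty.ne_empty this)
    exact ⟨X, hX, by rw [e, sFree_fix.1, Finset.card_empty]⟩
  · obtain ⟨g, hg, hgX, eX⟩ := hgen X hX
    obtain ⟨h, hh, hhY, eY⟩ := hgen Y hY
    rw [eX, eY] at he
    have red : ∀ (u r r2 : Equiv.Perm GolayPt) (hr : r ∈ Cfsg.M24), r2 = r * r → r ^ 3 = 1 →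
        ∀ (hu : u ∈ Cfsg.M24), ∀ c (hc : c ∈ Cfsg.M24), (u = c * r * c⁻¹ ∨ u = c * r2 * c⁻¹) →
        MulAut.conj (⟨c, hc⟩ : ↥Cfsg.M24) • Subgroup.zpowers (⟨r, hr⟩ : ↥Cfsg.M24) =
          Subgroup.zpowers ⟨u, hu⟩ := by
      intro u r r2 hr h2 h3 hu c hc hc'
      rw [Subgroup.pointwise_smul_def]
      show Subgroup.map (MulAut.conj (⟨c, hc⟩ : ↥Cfsg.M24)).toMonoidHom _ = _
      rw [MonoidHom.map_zpowers]
      rcases hc' with rfl | rfl
      · congr 1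
      · subst h2
        have e1 : (⟨c * (r * r) * c⁻¹, hu⟩ : ↥Cfsg.M24) =
            (MulAut.conj (⟨c, hc⟩ : ↥Cfsg.M24) ⟨r, hr⟩) ^ 2 := by
          rw [← map_pow]
          exact Subtype.ext (by simp [MulAut.conj_apply, pow_two])
        have e3 : (MulAut.conj (⟨c, hc⟩ : ↥Cfsg.M24) ⟨r, hr⟩) ^ 3 = 1 := by
          rw [← map_pow, show (⟨r, hr⟩ : ↥Cfsg.M24) ^ 3 = 1 from Subtype.ext h3, map_one]
        rw [e1]
        refine le_antisymm (Subgroup.zpowers_le.2 ?_) (Subgroup.zpowers_le.2 (pow_mem (Subgroup.mem_zpowers _) 2))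
        refine Subgroup.mem_zpowers_iff.2 ⟨2, ?_⟩
        show ((MulAut.conj (⟨c, hc⟩ : ↥Cfsg.M24) ⟨r, hr⟩) ^ 2) ^ ((2 : ℕ) : ℤ) = _
        rw [zpow_natCast, ← pow_mul]
        calc _ = (MulAut.conj (⟨c, hc⟩ : ↥Cfsg.M24) ⟨r, hr⟩) ^ 3 *
              MulAut.conj (⟨c, hc⟩ : ↥Cfsg.M24) ⟨r, hr⟩ := by rw [← pow_succ]
          _ = _ := by rw [e3, one_mul]; rfl
    have fin : ∀ (r r2 : Equiv.Perm GolayPt) (hr : r ∈ Cfsg.M24), r2 = r * r → r ^ 3 = 1 →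
        ∀ c (hc : c ∈ Cfsg.M24) d (hd : d ∈ Cfsg.M24),
        ((g : Equiv.Perm GolayPt) = c * r * c⁻¹ ∨ (g : Equiv.Perm GolayPt) = c * r2 * c⁻¹) →
        ((h : Equiv.Perm GolayPt) = d * r * d⁻¹ ∨ (h : Equiv.Perm GolayPt) = d * r2 * d⁻¹) →
        ∃ k : ↥Cfsg.M24, MulAut.conj k • X = Y := by
      intro r r2 hr h2 h3 c hc d hd hgc hhd
      refine ⟨⟨d, hd⟩ * ⟨c, hc⟩⁻¹, ?_⟩
      rw [← hgX, ← hhY, ← red _ r r2 hr h2 h3 g.2 c hc hgc, ← red _ r r2 hr h2 h3 h.2 d hd hhd,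
        map_mul, mul_smul, map_inv, inv_smul_smul]
    rcases order3_cases g.2 hg with ⟨c, hc, hgc, hf⟩ | ⟨c, hc, hgc, hf⟩ <;>
      rcases order3_cases h.2 hh with ⟨d, hd, hhd, hf'⟩ | ⟨d, hd, hhd, hf'⟩
    · exact fin _ _ sSix_mem sSixSq_eq.2 sSix_cube c hc d hd hgc hhd
    · rw [hf, hf', Finset.card_empty] at he; omega
    · rw [hf, hf', Finset.card_empty] at he; omega
    · exact fin _ _ sFree_mem sFreeSq_eq.2 sFree_cube c hc d hd hgc hhd

end Cfsg.Agent.S5601
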