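import Cfsg.Statements.S5602
import Cfsg.Agent.Lib.Mathieu.Action

set_option autoImplicit false
open scoped Pointwise
open Cfsg

namespace Cfsg.Agent.S5602

/-- An element of order 3 of the group of the length-24 code having exactly 6 fixed points maps to themselves exactly 21 octads, exactly 15 trios, exactly 16 sextets and exactly 20 dodecads. -/
theorem result (g : Equiv.Perm Cfsg.GolayPt) (hg : g ∈ Cfsg.M24) (h₃ : orderOf g = 3) (h₆ : (Finset.univ.filter fun p => g p = p).card = 6) : {o : Finset Cfsg.GolayPt | o ∈ Cfsg.octads ∧ g • o = o}.ncard = 21 ∧ {T : Finset (Finset Cfsg.GolayPt) | T ∈ Cfsg.trios ∧ g • T = T}.ncard = 15 ∧ {S : Finset (Finset Cfsg.GolayPt) | S ∈ Cfsg.sextets ∧ g • S = S}.ncard = 16 ∧ {d : Finset Cfsg.GolayPt | d ∈ Cfsg.dodecads ∧ g • d = d}.ncard = 20 := by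
  open CfsgLib.Mathieu CfsgLib.Golay in
  rcases order3_cases hg h₃ with ⟨c, hc, e, -⟩ | ⟨c, hc, -, hf⟩
  swap
  · exfalso
    have : (fixS g).card = 6 := h₆
    rw [hf, Finset.card_empty] at this; omega
  rcases e with rfl | rfl
  · refine ⟨(ncard_fixed_conj (fun c hc a ha => M24_smul_octad hc ha) hc _).trans ?_,
      (ncard_fixed_conj (fun c hc a ha => smul_trio hc ha) hc _).trans ?_,
      (ncard_fixed_conj (fun c hc a ha => smul_sextet hc ha) hc _).trans ?_,
      (ncard_fixed_conj (fun c hc a ha => M24_smul_dodecad hc ha) hc _).trans ?_⟩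
    · rw [ncard_fixed_octads sSix_valid]; decide +kernel
    · rw [ncard_fixed_trios sSix_valid]; decide +kernel
    · rw [ncard_fixed_sextets sSix_valid]; decide +kernel
    · rw [ncard_fixed_dodecads sSix_valid]; decide +kernel
  · refine ⟨(ncard_fixed_conj (fun c hc a ha => M24_smul_octad hc ha) hc _).trans ?_,
      (ncard_fixed_conj (fun c hc a ha => smul_trio hc ha) hc _).trans ?_,
      (ncard_fixed_conj (fun c hc a ha => smul_sextet hc ha) hc _).trans ?_,
      (ncard_fixed_conj (fun c hc a ha => M24_smul_dodecad hc ha) hc _).trans ?_⟩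
    · rw [ncard_fixed_octads sSixSq_eq.1]; decide +kernel
    · rw [ncard_fixed_trios sSixSq_eq.1]; decide +kernel
    · rw [ncard_fixed_sextets sSixSq_eq.1]; decide +kernel
    · rw [ncard_fixed_dodecads sSixSq_eq.1]; decide +kernel

end Cfsg.Agent.S5602
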