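import Cfsg.Statements.S5625
import Mathlib.Tactic

set_option autoImplicit false
open Cfsg

namespace Cfsg.Agent.S5625

/-- In any Steiner system S(5, 8, 24) and for any set Y of three points, the blocks meeting Y in exactly 3, 2, 1 and 0 points number 21, 168, 360 and 210 respectively (so there are 759 blocks in all). -/
theorem result (α : Type*) [Fintype α] [DecidableEq α] (hα : Fintype.card α = 24) (B : Set (Finset α)) (hB : Cfsg.IsSteinerSystem 5 8 B) (Y : Finset α) (hY : Y.card = 3) : {b : Finset α | b ∈ B ∧ (b ∩ Y).card = 3}.ncard = 21 ∧ {b : Finset α | b ∈ B ∧ (b ∩ Y).card = 2}.ncard = 168 ∧ {b : Finset α | b ∈ B ∧ (b ∩ Y).card = 1}.ncard = 360 ∧ {b : Finset α | b ∈ B ∧ (b ∩ Y).card = 0}.ncard = 210 := by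
  classical
  obtain ⟨hk, hu⟩ := hB
  set BB : Finset (Finset α) := Finset.univ.filter (· ∈ B) with hBB
  have hlam : ∀ S : Finset α, S.card ≤ 5 →
      (BB.filter (S ⊆ ·)).card * (8 - S.card).choose (5 - S.card)
        = (24 - S.card).choose (5 - S.card) := by
    intro S hS
    have h1 : (Finset.univ \ S).powersetCard (5 - S.card) =
        (BB.filter (S ⊆ ·)).biUnion fun b => (b \ S).powersetCard (5 - S.card) := by
      ext U
      simp only [Finset.mem_powersetCard, Finset.mem_biUnion, Finset.mem_filter, hBB,
        Finset.mem_univ, true_and, Finset.subset_sdiff, Finset.subset_univ]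
      constructor
      · rintro ⟨hd, hc⟩
        obtain ⟨b, ⟨hb, hsub⟩, -⟩ := hu (S ∪ U) (by rw [Finset.card_union_of_disjoint hd.symm]; omega)
        exact ⟨b, ⟨hb, Finset.subset_union_left.trans hsub⟩,
          ⟨Finset.subset_union_right.trans hsub, hd⟩, hc⟩
      · rintro ⟨b, -, ⟨-, hd⟩, hc⟩; exact ⟨hd, hc⟩
    have h2 : ((BB.filter (S ⊆ ·)) : Set (Finset α)).PairwiseDisjoint
        fun b => (b \ S).powersetCard (5 - S.card) := by
      intro b hb b' hb' hne
      rw [Function.onFun, Finset.disjoint_left]
      intro U hU hU'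
      simp only [Finset.coe_filter, Set.mem_setOf_eq, hBB, Finset.mem_filter] at hb hb'
      simp only [Finset.mem_powersetCard, Finset.subset_sdiff] at hU hU'
      refine hne ((hu (S ∪ U) ?_).unique ⟨hb.1.2, Finset.union_subset hb.2 hU.1.1⟩
        ⟨hb'.1.2, Finset.union_subset hb'.2 hU'.1.1⟩)
      rw [Finset.card_union_of_disjoint hU.1.2.symm]; omega
    have h3 := congrArg Finset.card h1
    rw [Finset.card_biUnion h2, Finset.card_powersetCard, Finset.card_sdiff_of_subset (Finset.subset_univ S),
      Finset.card_univ, hα, Finset.sum_congr rfl (g := fun _ => (8 - S.card).choose (5 - S.card))] at h3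
    · rw [h3, Finset.sum_const, smul_eq_mul]
    · intro b hb
      simp only [Finset.mem_filter, hBB] at hb
      rw [Finset.card_powersetCard, Finset.card_sdiff_of_subset hb.2, hk b hb.1.2]
  have hsum : ∀ i ≤ 3, ∀ l : ℕ, l * (8 - i).choose (5 - i) = (24 - i).choose (5 - i) →
      ∑ b ∈ BB, (b ∩ Y).card.choose i = (3 : ℕ).choose i * l := by
    intro i hi l hl
    have h1 : ∀ S ∈ Y.powersetCard i, (BB.filter (S ⊆ ·)).card = l := by
      intro S hS
      have hc := (Finset.mem_powersetCard.1 hS).2
      have := hlam S (by omega)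
      rw [hc, ← hl] at this
      exact Nat.eq_of_mul_eq_mul_right (Nat.choose_pos (by omega)) this
    have h2 : ∀ b, (b ∩ Y).card.choose i = ((Y.powersetCard i).filter (· ⊆ b)).card := by
      intro b
      rw [← Finset.card_powersetCard]
      congr 1
      ext S
      simp only [Finset.mem_powersetCard, Finset.mem_filter, Finset.subset_inter_iff]
      tauto
    rw [Finset.sum_congr rfl fun b _ => h2 b]
    simp only [Finset.card_filter]
    rw [Finset.sum_comm, Finset.sum_congr rfl (g := fun _ => l)]
    · rw [Finset.sum_const, Finset.card_powersetCard, hY, smul_eq_mul]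
    · intro S hS
      rw [← h1 S hS, Finset.card_filter]
  have e0 := hsum 0 (by norm_num) 759 (by decide)
  have e1 := hsum 1 (by norm_num) 253 (by decide)
  have e2 := hsum 2 (by norm_num) 77 (by decide)
  have e3 := hsum 3 (by norm_num) 21 (by decide)
  have hn : ∀ j, {b : Finset α | b ∈ B ∧ (b ∩ Y).card = j}.ncard
      = (BB.filter fun b => (b ∩ Y).card = j).card := by
    intro j
    rw [← Set.ncard_coe_finset]; congr 1; ext b; simp [hBB]
  have hdec : ∀ i, ∑ b ∈ BB, (b ∩ Y).card.choose i =
      ∑ j ∈ Finset.range 4, (BB.filter fun b => (b ∩ Y).card = j).card * j.choose i := by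
    intro i
    rw [← Finset.sum_fiberwise_of_maps_to (g := fun b => (b ∩ Y).card) (t := Finset.range 4)]
    · refine Finset.sum_congr rfl fun j _ => ?_
      rw [Finset.sum_congr rfl (g := fun _ => j.choose i), Finset.sum_const, smul_eq_mul]
      intro b hb; rw [(Finset.mem_filter.1 hb).2]
    · intro b _
      have := Finset.card_le_card (Finset.inter_subset_right : b ∩ Y ⊆ Y)
      rw [Finset.mem_range]; omega
  rw [hdec] at e0 e1 e2 e3
  simp only [Finset.sum_range_succ, Finset.sum_range_zero, Nat.choose_zero_right,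
    Nat.choose_one_right, Nat.choose_self, zero_add, Nat.choose_succ_succ, Nat.choose_zero_succ,
    mul_zero, mul_one, add_zero] at e0 e1 e2 e3
  norm_num at e0 e1 e2 e3
  simp only [hn]
  have h0 : (BB.filter fun b => b ∩ Y = ∅).card = (BB.filter fun b => (b ∩ Y).card = 0).card := by
    congr 1; ext b; simp [Finset.card_eq_zero]
  omega

end Cfsg.Agent.S5625
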