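import Cfsg.Statements.S5629
import Cfsg.Agent.Lib.J4Type.Rank7.Transport
import Cfsg.Agent.Lib.J4Type.Rank7.Rest
import Cfsg.Agent.Lib.J4Type.Ident.Main
import Cfsg.Agent.Lib.J4Type.TwentyThree.FromType
import Cfsg.Agent.S5570
-- import your own Cfsg.Agent.* helpers here

set_option autoImplicit false
open Cfsg

namespace Cfsg.Agent.S5629

/-- Let G be a finite non-abelian simple group of Janko-four type (an involution z whose centralizer H has an extraspecial largest normal 2-subgroup E of order 2^13 containing its centralizer in H, a normal subgroup N ≥ E of H with N/E of order 3 and H/N the automorphism group of M₂₂, and a subgroup P ≤ N of order 3 with C_E(P) = ⟨z⟩, N_H(P) ≠ C_H(P) and P ≤ C_H(P)′), and let V be an elementary abelian subgroup of G of order 2^11. Then the normalizer of V has index 173067389 in G, and in the action of G on the cosets of this normalizer the normalizer itself has exactly seven orbits, of sizes 1, 15180, 28336, 3400320, 32643072, 54405120 and 82575360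 (a rank-7 permutation representation). -/
theorem result {G : Type*} [Group G] [Finite G] [IsSimpleGroup G] (hG : ¬ IsMulCommutative G) (z : G) (hJ : Cfsg.IsOfJankoFourTypeAt z) (V : Subgroup G) (hV : Cfsg.IsElementaryAbelian 2 V) (hcard : Nat.card ↥V = 2 ^ 11) : (Subgroup.normalizer (V : Set G)).index = 173067389 ∧ ∃ c : Fin 7 → G ⧸ Subgroup.normalizer (V : Set G), (∀ i j : Fin 7, i ≠ j → MulAction.orbit ↥(Subgroup.normalizer (V : Set G)) (c i) ≠ MulAction.orbit ↥(Subgroup.normalizer (V : Set G)) (c j)) ∧ (∀ q : G ⧸ Subgroup.normalizer (V : Set G), ∃ i : Fin 7, q ∈ MulAction.orbit ↥(Subgroup.normalizer (V : Set G)) (c i)) ∧ (List.ofFn fun i => (MulAction.orbit ↥(Subgroup.normalizer (V : Set G)) (c i)).ncard) = [1, 15180, 28336, 3400320, 32643072, 54405120, 82575360] := by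
  obtain ⟨P, hP⟩ := hJ
  have hJ' : Cfsg.IsOfJankoFourType G := ⟨z, P, hP⟩
  obtain ⟨F⟩ := CfsgLib.J4Type.frame_exists hP
  obtain ⟨D⟩ := CfsgLib.J4Type.vData_exists F
  have hf := CfsgLib.J4Type.fused_exists hG D
  obtain ⟨S⟩ := CfsgLib.J4Type.Order.exists_tsetup hf
  have hcG := CfsgLib.J4Type.Rank7.card_group D hf
  have hidx := CfsgLib.J4Type.Rank7.index_NN D hf
  obtain ⟨K⟩ := CfsgLib.J4Type.Rank7.known (CfsgLib.J4Type.Rank7.classes S) hf hidx
  obtain ⟨⟨A, hA, hAc, hAs⟩, -, hN⟩ := Cfsg.Agent.S5570.result hG hJ'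
  obtain ⟨⟨B, -, -, -, hB⟩, -⟩ := hN A hA hAc hAs
  have hFa := CfsgLib.J4Type.BigPrimes.facts_of hG hJ' hcG ⟨B, hB⟩
  obtain ⟨R⟩ := CfsgLib.J4Type.Rank7.rest hf hcG
    (fun b hb => CfsgLib.J4Type.TwentyThree.twentyThree hFa hcG hb) K
  exact CfsgLib.J4Type.Rank7.transport hV hcard hidx (CfsgLib.J4Type.Rank7.seven_orbits
    (CfsgLib.J4Type.Frame.card_norm D hf) hidx K R)

end Cfsg.Agent.S5629
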