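import Cfsg.Statements.S5631
import Cfsg.Agent.Lib.MaxSub.Sub
-- import your own Cfsg.Agent.* helpers here

set_option autoImplicit false
open Cfsg

namespace Cfsg.Agent.S5631

/-- For a finite field F and n ≥ 13, the stabiliser in SL_n(F) of any proper non-zero subspace W of F^n is a maximal subgroup of SL_n(F). Here SL_n(F) is the kernel of the determinant inside GL_n(F) and the stabiliser is the set of elements of determinant one mapping W onto itself. -/
theorem result {F : Type*} [Field F] [Fintype F] (n : ℕ) (hn : 13 ≤ n) (W : Submodule F (Fin n → F)) (hW0 : W ≠ ⊥) (hW1 : W ≠ ⊤) : Cfsg.Geo.IsMaximalIn (Cfsg.Geo.specialLinear (Fin n) F) (Cfsg.Geo.subspaceStabilizer W ⊓ Cfsg.Geo.specialLinear (Fin n) F) := by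
  open Matrix CfsgLib.MaxSub in
  -- `M` has all transvections with centre `a`
  let Full : Subgroup (Matrix.GeneralLinearGroup (Fin n) F) → (Fin n → F) → Prop :=
    fun M a => ∀ φ, φ ⬝ᵥ a = 0 → HasTv M a φ
  refine isMaximalIn_of_lt (lt_of_le_of_ne inf_le_right fun he => ?_) fun M hM hMS g hg hgH => ?_
  · obtain ⟨a, -, ha⟩ := SetLike.exists_of_lt (lt_top_iff_ne_top.2 hW1)
    obtain ⟨χ, hχa, hχ⟩ := exists_dotProduct_of_notMem ha
    obtain ⟨w, hw, hw0⟩ := W.exists_mem_ne_zero_of_ne_bot hW0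
    obtain ⟨i, hi⟩ : ∃ i, w i ≠ 0 := Function.ne_iff.1 hw0
    let φ : Fin n → F := Pi.single i 1 - a i • χ
    have hφa : φ ⬝ᵥ a = 0 := by simp [φ, sub_dotProduct, hχa]
    have hφw : φ ⬝ᵥ w = w i := by simp [φ, sub_dotProduct, hχ w hw]
    have hmem := tvGL_mem_specialLinear a φ hφa
    rw [← he] at hmem
    have := maps_of_mem_subspaceStabilizer hmem.1 hw
    rw [coe_tvGL, tvMat_mulVec, Submodule.add_mem_iff_right _ hw, hφw, W.smul_mem_iff hi] at this
    exact ha this
  · have hbase : ∀ a φ, φ ⬝ᵥ a = 0 → (a ∈ W ∨ ∀ x ∈ W, φ ⬝ᵥ x = 0) → HasTv M a φ :=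
      fun a φ h hor => (hasTv_iff h).2 (hM ⟨mem_subspaceStabilizer_of_maps fun x hx => by
        rw [coe_tvGL, tvMat_mulVec]
        rcases hor with ha | hφ
        · exact add_mem hx (W.smul_mem _ ha)
        · rw [hφ x hx, zero_smul, add_zero]; exact hx, tvGL_mem_specialLinear _ _ _⟩)
    have hconj : ∀ h ∈ M, ∀ a, Full M a → Full M ((h : Matrix (Fin n) (Fin n) F) *ᵥ a) := by
      intro h hh a ha φ hφ
      have := (ha (φ ᵥ* (h : Matrix (Fin n) (Fin n) F)) (by rw [← dotProduct_mulVec]; exact hφ)).conj hh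
      rwa [vecMul_vecMul, ← Units.val_mul, mul_inv_cancel, Units.val_one, vecMul_one] at this
    obtain ⟨w, hw, hgw⟩ : ∃ w ∈ W, (g : Matrix (Fin n) (Fin n) F) *ᵥ w ∉ W := by
      by_contra hno
      push Not at hno
      exact hgH ⟨mem_subspaceStabilizer_of_maps hno, hMS hg⟩
    have hb : Full M ((g : Matrix (Fin n) (Fin n) F) *ᵥ w) :=
      hconj g hg w fun φ hφ => hbase w φ hφ (.inl hw)
    set b := (g : Matrix (Fin n) (Fin n) F) *ᵥ w
    refine specialLinear_le_of_forall_center fun a φ ha0 hφ => ?_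
    revert φ
    change Full M a
    by_cases ha : a ∈ W
    · exact fun φ hφ => hbase a φ hφ (.inl ha)
    by_cases hab : b ∈ W ⊔ Submodule.span F {a - b}
    · -- `a` and `b` are congruent up to a scalar modulo `W`
      obtain ⟨w', hw', u, hu, hsum⟩ := Submodule.mem_sup.1 hab
      obtain ⟨s, rfl⟩ := Submodule.mem_span_singleton.1 hu
      have hs : s ≠ 0 := by rintro rfl; rw [zero_smul, add_zero] at hsum; exact hgw (hsum ▸ hw')
      obtain ⟨χ, hχb, hχ⟩ := exists_dotProduct_of_notMem hgw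
      have hstep : ∀ c : F, c ≠ 0 → Full M (c • b) := fun c hc φ hφ =>
        (hasTv_smul_iff hc).2 (hb _ (by
          rw [dotProduct_smul, smul_eq_mul] at hφ
          rw [smul_dotProduct, smul_eq_mul, hφ]))
      have hsa : s • a = (1 + s) • b - w' := by
        conv_rhs => arg 1; rw [add_smul, one_smul]
        conv_rhs => arg 1; arg 1; rw [← hsum]
        rw [smul_sub]; abel
      have hs1 : 1 + s ≠ 0 := by
        intro e
        rw [e, zero_smul, zero_sub] at hsa
        exact ha ((W.smul_mem_iff hs).1 (hsa ▸ W.neg_mem hw'))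
      have key : Full M ((s⁻¹ * (1 + s)) • b + (-(s⁻¹)) • w') := by
        have hT := hbase ((-(s⁻¹)) • w') ((s⁻¹ * (1 + s))⁻¹ • χ) (by
          rw [smul_dotProduct, hχ _ (W.smul_mem _ hw'), smul_zero]) (.inl (W.smul_mem _ hw'))
        have hc : s⁻¹ * (1 + s) ≠ 0 := mul_ne_zero (inv_ne_zero hs) hs1
        have := hconj _ ((hasTv_iff hT.1).1 hT) _ (hstep _ hc)
        rwa [coe_tvGL, tvMat_mulVec, smul_dotProduct, dotProduct_smul, hχb, smul_eq_mul,
          smul_eq_mul, mul_one, inv_mul_cancel₀ hc, one_smul] at this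
      have hae : (s⁻¹ * (1 + s)) • b + (-(s⁻¹)) • w' = a := by
        rw [neg_smul, ← sub_eq_add_neg, mul_smul, ← smul_sub, ← hsa, smul_smul, inv_mul_cancel₀ hs,
          one_smul]
      rwa [hae] at key
    · obtain ⟨ψ, hψb, hψ⟩ := exists_dotProduct_of_notMem hab
      have hT := hbase (a - b) ψ
        (hψ _ (Submodule.mem_sup_right (Submodule.mem_span_singleton_self _)))
        (.inr fun x hx => hψ x (Submodule.mem_sup_left hx))
      have := hconj _ ((hasTv_iff hT.1).1 hT) _ hb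
      rwa [coe_tvGL, tvMat_mulVec, hψb, one_smul, add_sub_cancel] at this

end Cfsg.Agent.S5631
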