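import Cfsg.Statements.S5632
import Cfsg.Agent.Lib.MaxSub.SmallNonMax

set_option autoImplicit false
open Cfsg

namespace Cfsg.Agent.S5632

open CfsgLib.MaxSub

/-- For a finite field F and subspaces 0 < W < U of F^n with dim W + dim U = n, the elements of SL_n(F) stabilising both W and U form a subgroup that is not maximal in SL_n(F): some subgroup lies strictly between it and SL_n(F). -/
theorem result {F : Type*} [Field F] [Fintype F] (n : ℕ) (W U : Submodule F (Fin n → F)) (hW0 : W ≠ ⊥) (hWU : W < U) (hdim : Module.finrank F W + Module.finrank F U = n) : ∃ K : Subgroup (Matrix.GeneralLinearGroup (Fin n) F), Cfsg.Geo.subspaceStabilizer W ⊓ Cfsg.Geo.subspaceStabilizer U ⊓ Cfsg.Geo.specialLinear (Fin n) F < K ∧ K < Cfsg.Geo.specialLinear (Fin n) F := by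
  obtain ⟨u, huU, huW⟩ := SetLike.exists_of_lt hWU
  have hU1 : U ≠ ⊤ := fun e => hW0 (Submodule.finrank_eq_zero.1 (by
    rw [e, finrank_top, Module.finrank_fin_fun] at hdim; omega))
  have hW1 : W ≠ ⊤ := fun e => by rw [e] at hWU; exact not_top_lt hWU
  obtain ⟨a, -, ha⟩ := SetLike.exists_of_lt (lt_top_iff_ne_top.2 hU1)
  obtain ⟨g, hg, hgW, hgU⟩ := exists_sl_move (W := W) (U := U) (a := a) (u := u) (by
    intro hm
    obtain ⟨w, hw, z, hz, hwz⟩ := Submodule.mem_sup.1 hm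
    obtain ⟨c, rfl⟩ := Submodule.mem_span_singleton.1 hz
    rcases eq_or_ne c 0 with rfl | hc
    · rw [zero_smul, add_zero] at hwz; exact huW (hwz ▸ hw)
    · exact ha ((U.smul_mem_iff hc).1 ((Submodule.add_mem_iff_right U (hWU.le hw)).1 (hwz ▸ huU)))) huU ha
  obtain ⟨k, hk, hkW⟩ := exists_sl_move_any hW0 hW1
  refine ⟨Cfsg.Geo.subspaceStabilizer W ⊓ Cfsg.Geo.specialLinear (Fin n) F,
    lt_of_le_of_ne (inf_le_inf_right _ inf_le_left) fun e => hgU ?_,
    lt_of_le_of_ne inf_le_right fun e => hkW ?_⟩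
  · have hmem : g ∈ Cfsg.Geo.subspaceStabilizer W ⊓ Cfsg.Geo.specialLinear (Fin n) F := ⟨hgW, hg⟩
    rw [← e] at hmem
    exact hmem.1.2
  · exact (e.symm ▸ hk : k ∈ Cfsg.Geo.subspaceStabilizer W ⊓ Cfsg.Geo.specialLinear (Fin n) F).1

end Cfsg.Agent.S5632
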