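import Cfsg.Statements.S5633
import Cfsg.Agent.Lib.MaxSub.SmallNonMax

set_option autoImplicit false
open Cfsg

namespace Cfsg.Agent.S5633

open CfsgLib.MaxSub

/-- For a finite field F and complementary non-zero subspaces W ⊕ U = F^n with dim W < dim U, the elements of SL_n(F) stabilising both W and U form a subgroup that is not maximal in SL_n(F): some subgroup lies strictly between it and SL_n(F). -/
theorem result {F : Type*} [Field F] [Fintype F] (n : ℕ) (W U : Submodule F (Fin n → F)) (hW0 : W ≠ ⊥) (hWU : W ⊓ U = ⊥) (hWU' : W ⊔ U = ⊤) (hdim : Module.finrank F W < Module.finrank F U) : ∃ K : Subgroup (Matrix.GeneralLinearGroup (Fin n) F), Cfsg.Geo.subspaceStabilizer W ⊓ Cfsg.Geo.subspaceStabilizer U ⊓ Cfsg.Geo.specialLinear (Fin n) F < K ∧ K < Cfsg.Geo.specialLinear (Fin n) F := by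
  obtain ⟨a, haW, ha0⟩ := W.exists_mem_ne_zero_of_ne_bot hW0
  have haU : a ∉ U := fun h => ha0 (by
    have := Submodule.mem_inf.2 ⟨haW, h⟩
    rw [hWU] at this; exact (Submodule.mem_bot F).1 this)
  have hle : ¬ U ≤ W := fun h => by
    have := Submodule.finrank_mono h; omega
  obtain ⟨u, huU, huW⟩ := SetLike.not_le_iff_exists.1 hle
  have hW1 : W ≠ ⊤ := fun e => hle (e ▸ le_top)
  obtain ⟨g, hg, hgW, hgU⟩ := exists_sl_move (W := W) (U := U) (a := a) (u := u) (by
    rw [sup_eq_left.2 ((Submodule.span_singleton_le_iff_mem _ _).2 haW)]; exact huW) huU haU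
  obtain ⟨k, hk, hkW⟩ := exists_sl_move_any hW0 hW1
  refine ⟨Cfsg.Geo.subspaceStabilizer W ⊓ Cfsg.Geo.specialLinear (Fin n) F,
    lt_of_le_of_ne (inf_le_inf_right _ inf_le_left) fun e => hgU ?_,
    lt_of_le_of_ne inf_le_right fun e => hkW ?_⟩
  · have hmem : g ∈ Cfsg.Geo.subspaceStabilizer W ⊓ Cfsg.Geo.specialLinear (Fin n) F := ⟨hgW, hg⟩
    rw [← e] at hmem
    exact hmem.1.2
  · exact (e.symm ▸ hk : k ∈ Cfsg.Geo.subspaceStabilizer W ⊓ Cfsg.Geo.specialLinear (Fin n) F).1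

end Cfsg.Agent.S5633
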