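import Cfsg.Statements.S5634
import Cfsg.Agent.Lib.MaxSub.DecompTransport
import Cfsg.Agent.Lib.MaxSub.BlockCore
import Cfsg.Agent.Lib.MaxSub.MonoColumn
import Cfsg.Agent.Lib.MaxSub.Rational

set_option autoImplicit false
open Cfsg

namespace Cfsg.Agent.S5634

open Matrix CfsgLib.MaxSub CfsgLib.MaxSub.DecompMax

/-- For a finite field F with q elements and n ≥ 13, let D be a decomposition of F^n into t ≥ 2 independent subspaces of equal dimension m ≥ 1 spanning F^n. Unless m = 1 and q ≤ 4, or m = 2 and q = 2, the elements of SL_n(F) permuting the members of D form a maximal subgroup of SL_n(F). -/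
theorem result {F : Type*} [Field F] [Fintype F] (n : ℕ) (hn : 13 ≤ n) {t : ℕ} (m : ℕ) (D : Fin t → Submodule F (Fin n → F)) (hD : Cfsg.Geo.IsMDecomposition m D) (h1 : ¬ (m = 1 ∧ Fintype.card F ≤ 4)) (h2 : ¬ (m = 2 ∧ Fintype.card F = 2)) : Cfsg.Geo.IsMaximalIn (Cfsg.Geo.specialLinear (Fin n) F) (Cfsg.Geo.decompositionStabilizer D ⊓ Cfsg.Geo.specialLinear (Fin n) F) := by
  classical
  obtain ⟨ψ, hψ⟩ := Decomp.exists_coord hD
  let E := coordGL (pairCoord ψ)
  have hntm : n = t * m := by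
    have := ψ.finrank_eq
    simpa [Module.finrank_pi_fintype] using this
  suffices h : Cfsg.Geo.IsMaximalIn (Cfsg.Geo.specialLinear (Fin m × Fin t) F)
      ((Cfsg.Geo.decompositionStabilizer D ⊓ Cfsg.Geo.specialLinear (Fin n) F).map E.toMonoidHom) by
    have h' := isMaximalIn_map E.symm h
    rw [Subgroup.map_map, ← map_coordGL_sl (pairCoord ψ), Subgroup.map_map] at h'
    simpa [E, ← MulEquiv.coe_monoidHom_trans, Subgroup.map_id] using h'
  have hH : ∀ y, y ∈ (Cfsg.Geo.decompositionStabilizer D ⊓ Cfsg.Geo.specialLinear (Fin n) F).map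
      E.toMonoidHom ↔ IsBlockMono Prod.snd (y : Matrix (Fin m × Fin t) (Fin m × Fin t) F) ∧
        y ∈ Cfsg.Geo.specialLinear (Fin m × Fin t) F := by
    intro y
    obtain ⟨g, rfl⟩ := E.surjective y
    rw [coordGL_mem_sl, ← mem_decompositionStabilizer_iff hD ψ hψ]
    exact (Subgroup.mem_map_iff_mem E.injective).trans Subgroup.mem_inf
  have h2t : 2 ≤ t := hD.two_le
  let P₀ : Fin m × Fin t := (⟨0, hD.pos⟩, ⟨0, by omega⟩)
  let P₁ : Fin m × Fin t := (⟨0, hD.pos⟩, ⟨1, by omega⟩)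
  have hne : P₀ ≠ P₁ := fun e => by simpa [P₀, P₁] using congrArg (fun p => p.2.val) e
  refine isMaximalIn_of_lt (SetLike.lt_iff_le_and_exists.2 ⟨fun y hy => ((hH y).1 hy).2, ?_⟩) ?_
  · have h0 : Pi.single P₁ (1 : F) ⬝ᵥ Pi.single P₀ 1 = 0 := by simp [hne.symm]
    refine ⟨tvGL _ _ h0, tvGL_mem_specialLinear _ _ h0, fun hm => ?_⟩
    obtain ⟨b, hb⟩ := ((hH _).1 hm).1 P₁.2
    by_cases e : P₀.2 = b
    · have := hb P₁ P₁ rfl (fun e' => absurd (e.trans e'.symm) (by simp [P₀, P₁]))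
      simp [tvMat, Matrix.vecMulVec_apply, hne] at this
    · have := hb P₁ P₀ rfl e
      simp [tvMat, Matrix.vecMulVec_apply, hne] at this
  intro M hle hMle g hg hgH
  have hnm : ¬ IsBlockMono Prod.snd (g : Matrix (Fin m × Fin t) (Fin m × Fin t) F) := fun h =>
    hgH ((hH g).2 ⟨h, hMle hg⟩)
  rcases Nat.lt_or_ge m 2 with hm | hm
  · obtain rfl : m = 1 := by have := hD.pos; omega
    have hinj : Function.Injective (Prod.snd : Fin 1 × Fin t → Fin t) := fun p q e =>
      Prod.ext (Subsingleton.elim _ _) e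
    have hiff : ∀ y : Matrix (Fin 1 × Fin t) (Fin 1 × Fin t) F,
        IsBlockMono Prod.snd y ↔ IsBlockMono id y := by
      intro y
      constructor
      · intro h P
        obtain ⟨b, hb⟩ := h P.2
        exact ⟨(0, b), fun i j hi hj => hb i j (congrArg Prod.snd hi) fun e => hj (hinj e)⟩
      · intro h a
        obtain ⟨Q, hQ⟩ := h (0, a)
        exact ⟨Q.2, fun i j hi hj => hQ i j (hinj hi) fun e => hj (congrArg Prod.snd e)⟩
    refine sl_le_monomial (fun y hy hym => hle ((hH y).2 ⟨(hiff _).2 hym, hy⟩)) hMle ?_ ?_ hg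
      (fun h => hnm ((hiff _).2 h))
    · by_contra hq
      exact h1 ⟨rfl, by omega⟩
    · simp only [Fintype.card_prod, Fintype.card_fin]
      omega
  · refine sl_le_blocks (fun y hy hym => hle ((hH y).2 ⟨hym, hy⟩)) ?_ ?_ ?_ hg hnm
    · simpa using hm
    · simp only [Fintype.card_fin]
      rw [Nat.mul_comm, ← hntm]
      omega
    · simpa using h2

end Cfsg.Agent.S5634
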