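import Cfsg.Statements.S5635
import Cfsg.Agent.Lib.MaxSub.DecompCoord
import Mathlib.LinearAlgebra.Transvection.Basic
import Mathlib.FieldTheory.Finite.Basic

set_option autoImplicit false
open Cfsg

namespace Cfsg.Agent.S5635

open CfsgLib.MaxSub.Decomp Cfsg.Geo

variable {F : Type*} [Field F]

/-- add the total of four chosen components to each of them -/
def blockMap {t m : ℕ} (e : Fin 4 → Fin t) : (Fin t → Fin m → F) →ₗ[F] (Fin t → Fin m → F) :=
  LinearMap.pi fun i => LinearMap.proj i +
    if i ∈ Finset.univ.image e then ∑ k, LinearMap.proj (e k) else 0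

theorem blockMap_apply {t m : ℕ} (e : Fin 4 → Fin t) (f : Fin t → Fin m → F) (i : Fin t) :
    blockMap e f i = f i + if i ∈ Finset.univ.image e then ∑ k, f (e k) else 0 := by
  unfold blockMap
  rw [LinearMap.pi_apply]
  split_ifs <;> simp

theorem blockMap_sq {t m : ℕ} (h6 : (6 : F) = 0) (e : Fin 4 → Fin t) (f : Fin t → Fin m → F) :
    blockMap e (blockMap e f) = f := by
  funext i
  rw [blockMap_apply, blockMap_apply]
  split_ifs with hi
  · have : ∑ k, blockMap e f (e k) = ∑ k, f (e k) + (4 : F) • ∑ k, f (e k) := by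
      simp only [blockMap_apply, Finset.mem_image, Finset.mem_univ, true_and, exists_apply_eq_apply, if_true,
        Finset.sum_add_distrib, Finset.sum_const, Finset.card_univ, Fintype.card_fin]
      rw [← Nat.cast_smul_eq_nsmul F]; norm_num
    rw [this]
    ext j
    simp only [Pi.add_apply, Pi.smul_apply, smul_eq_mul]
    linear_combination (∑ k, f (e k)) j * h6
  · simp

theorem cnt_blockMap {t m : ℕ} (e : Fin 4 → Fin t) (he : Function.Injective e)
    (hid : ∀ y : Fin 4 → Fin m → F, ∑ i, (ind (y i + ∑ k, y k) : F) = ∑ i, ind (y i))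
    (f : Fin t → Fin m → F) : cnt (blockMap e f) = cnt f := by
  classical
  unfold cnt
  rw [← Finset.sum_add_sum_compl (Finset.univ.image e), ← Finset.sum_add_sum_compl (Finset.univ.image e)
    (fun i => (ind (f i) : F))]
  congr 1
  · rw [Finset.sum_image fun a _ b _ h => he h, Finset.sum_image fun a _ b _ h => he h,
      ← hid fun k => f (e k)]
    refine Finset.sum_congr rfl fun k _ => ?_
    rw [blockMap_apply, if_pos (Finset.mem_image_of_mem e (Finset.mem_univ k))]
  · refine Finset.sum_congr rfl fun i hi => ?_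
    rw [blockMap_apply, if_neg (Finset.mem_compl.1 hi), add_zero]

theorem hid_of_card [Fintype F] {m : ℕ} (h : (m = 1 ∧ Fintype.card F ≤ 4) ∨ (m = 2 ∧ Fintype.card F = 2)) :
    (6 : F) = 0 ∧ ∀ y : Fin 4 → Fin m → F, ∑ i, (ind (y i + ∑ k, y k) : F) = ∑ i, ind (y i) := by
  have hc : ((Fintype.card F : ℕ) : F) = 0 := FiniteField.cast_card_eq_zero F
  have hpow : ∀ a : F, (ind a : F) = a ^ (Fintype.card F - 1) := fun a => by
    rcases eq_or_ne a 0 with rfl | ha
    · rw [ind_zero, zero_pow (by have := Fintype.one_lt_card (α := F); omega)]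
    · rw [ind_ne ha, FiniteField.pow_card_sub_one_eq_one a ha]
  have hw : ∀ w : Fin 1 → F, (ind w : F) = ind (w 0) := fun w => by
    rcases eq_or_ne (w 0) 0 with h0 | h0
    · rw [show w = 0 from funext fun i => by rw [Subsingleton.elim i 0]; exact h0, ind_zero, Pi.zero_apply, ind_zero]
    · rw [ind_ne h0, ind_ne (fun e => h0 (congrFun e 0))]
  have h1 := Fintype.one_lt_card (α := F)
  rcases h with ⟨rfl, hle⟩ | ⟨rfl, hq⟩
  · simp only [hw, hpow]
    interval_cases hq : Fintype.card F
    · have h2 : (2 : F) = 0 := by exact_mod_cast hc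
      refine ⟨by linear_combination 3 * h2, fun y => ?_⟩
      simp only [Fin.sum_univ_four, Pi.add_apply]
      norm_num
      linear_combination 2 * (y 0 0 + y 1 0 + y 2 0 + y 3 0) * h2
    · have h3 : (3 : F) = 0 := by exact_mod_cast hc
      refine ⟨by linear_combination 2 * h3, fun y => ?_⟩
      simp only [Fin.sum_univ_four, Pi.add_apply]
      norm_num
      linear_combination 2 * (y 0 0 + y 1 0 + y 2 0 + y 3 0) ^ 2 * h3
    · have h4 : (4 : F) = 0 := by exact_mod_cast hc
      have h2 : (2 : F) = 0 := by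
        have : (2 : F) * 2 = 0 := by linear_combination h4
        exact (mul_eq_zero.1 this).elim id id
      refine ⟨by linear_combination 3 * h2, fun y => ?_⟩
      simp only [Fin.sum_univ_four, Pi.add_apply]
      norm_num
      linear_combination (5 * (y 0 0 + y 1 0 + y 2 0 + y 3 0) ^ 3
        - 3 * (y 0 0 + y 1 0 + y 2 0 + y 3 0) *
          (y 0 0 * y 1 0 + y 0 0 * y 2 0 + y 0 0 * y 3 0 + y 1 0 * y 2 0 + y 1 0 * y 3 0 + y 2 0 * y 3 0)) * h2
  · rw [hq] at hc hpow
    have h2 : (2 : F) = 0 := by exact_mod_cast hc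
    have key : ∀ w : Fin 2 → F, (ind w : F) = w 0 + w 1 + w 0 * w 1 := fun w => by
      have hb : ∀ a : F, a = 0 ∨ a = 1 := fun a => by
        rcases eq_or_ne a 0 with ha | ha
        · exact Or.inl ha
        · refine Or.inr ?_
          have := hpow a
          rw [ind_ne ha] at this
          simpa using this.symm
      rcases hb (w 0) with a | a <;> rcases hb (w 1) with b | b <;> rw [a, b]
      · rw [show w = 0 from funext (Fin.forall_fin_two.2 ⟨a, b⟩), ind_zero]; ring
      · rw [ind_ne fun e => one_ne_zero (α := F) (by rw [← b, e, Pi.zero_apply])]; ring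
      · rw [ind_ne fun e => one_ne_zero (α := F) (by rw [← a, e, Pi.zero_apply])]; ring
      · rw [ind_ne fun e => one_ne_zero (α := F) (by rw [← a, e, Pi.zero_apply])]; linear_combination -h2
    refine ⟨by linear_combination 3 * h2, fun y => ?_⟩
    simp only [key, Fin.sum_univ_four, Pi.add_apply]
    linear_combination (2 * (y 0 0 + y 1 0 + y 2 0 + y 3 0) + 2 * (y 0 1 + y 1 1 + y 2 1 + y 3 1) +
      3 * (y 0 0 + y 1 0 + y 2 0 + y 3 0) * (y 0 1 + y 1 1 + y 2 1 + y 3 1)) * h2

/-- For a finite field F with q elements and n ≥ 13, let D be a decomposition of F^n into t ≥ 2 independent subspaces of equal dimension m spanning F^n, where m = 1 and q ≤ 4, or m = 2 and q = 2. Then the elements of SL_n(F) permuting the members of D form a subgroup that is not maximal: some subgroup lies strictly between it and SL_n(F). -/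
theorem result {F : Type*} [Field F] [Fintype F] (n : ℕ) (hn : 13 ≤ n) {t : ℕ} (m : ℕ) (D : Fin t → Submodule F (Fin n → F)) (hD : Cfsg.Geo.IsMDecomposition m D) (h : (m = 1 ∧ Fintype.card F ≤ 4) ∨ (m = 2 ∧ Fintype.card F = 2)) : ∃ K : Subgroup (Matrix.GeneralLinearGroup (Fin n) F), Cfsg.Geo.decompositionStabilizer D ⊓ Cfsg.Geo.specialLinear (Fin n) F < K ∧ K < Cfsg.Geo.specialLinear (Fin n) F := by
  classical
  obtain ⟨h6, hid⟩ := hid_of_card h
  obtain ⟨ψ, hψ⟩ := exists_coord hD
  have hm : m = 1 ∨ m = 2 := h.imp And.left And.left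
  have htm : Fintype.card (Fin n) = t * m := by
    have := ψ.finrank_eq
    simpa [Module.finrank_pi, Module.finrank_pi_fintype] using this
  have ht : 5 ≤ t := by rw [Fintype.card_fin] at htm; rcases hm with rfl | rfl <;> omega
  let N : (Fin n → F) → F := fun x => cnt (ψ x)
  let K : Subgroup (Matrix.GeneralLinearGroup (Fin n) F) := keep N ⊓ specialLinear (Fin n) F
  have hle : decompositionStabilizer D ⊓ specialLinear (Fin n) F ≤ K :=
    inf_le_inf_right _ fun g hg x => cnt_stab ψ hψ hg x
  let w : Fin m → F := Pi.single ⟨0, hD.pos⟩ 1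
  have hw : w ≠ 0 := fun e => one_ne_zero (α := F) (Pi.single_eq_zero_iff.1 e)
  let i : ℕ → Fin t := fun k => ⟨k % t, Nat.mod_lt _ (by omega)⟩
  have hi : ∀ a b, a < 5 → b < 5 → i a = i b → a = b := fun a b ha hb e => by
    have := congrArg Fin.val e
    simpa [i, Nat.mod_eq_of_lt (show a < t by omega), Nat.mod_eq_of_lt (show b < t by omega)] using this
  refine ⟨K, lt_of_le_of_ne hle ?_, lt_of_le_of_ne inf_le_right ?_⟩
  · -- two overlapping block maps
    let e₁ : Fin 4 → Fin t := fun k => i k.val
    let sw : Equiv.Perm (Fin t) := Equiv.swap (i 0) (i 4)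
    let e₂ : Fin 4 → Fin t := fun k => sw (i k.val)
    have he₁ : Function.Injective e₁ := fun a b e => Fin.ext (hi _ _ (by omega) (by omega) e)
    have he₂ : Function.Injective e₂ := sw.injective.comp he₁
    let T : (Fin 4 → Fin t) → ((Fin t → Fin m → F) ≃ₗ[F] (Fin t → Fin m → F)) := fun e =>
      { blockMap e with invFun := blockMap e, left_inv := blockMap_sq h6 e, right_inv := blockMap_sq h6 e }
    let P : (Fin t → Fin m → F) ≃ₗ[F] (Fin t → Fin m → F) := LinearEquiv.funCongrLeft F (Fin m → F) sw
    have hconj : (T e₂).toLinearMap = P.toLinearMap ∘ₗ (T e₁).toLinearMap ∘ₗ P.toLinearMap := by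
      refine LinearMap.ext fun f => funext fun j => ?_
      show blockMap e₂ f j = blockMap e₁ (fun a => f (sw a)) (sw j)
      rw [blockMap_apply, blockMap_apply]
      simp only [e₂, e₁, sw, Equiv.swap_apply_self, Finset.mem_image, Finset.mem_univ, true_and]
      congr 1
      refine if_congr (exists_congr fun k => ?_) rfl rfl
      exact ⟨fun hk => by rw [← hk, Equiv.swap_apply_self], fun hk => by rw [hk, Equiv.swap_apply_self]⟩
    have hPP : LinearMap.det P.toLinearMap * LinearMap.det P.toLinearMap = 1 := by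
      rw [← map_mul, show P.toLinearMap * P.toLinearMap = 1 from LinearMap.ext fun f => funext fun j => by
        show f (sw (sw j)) = f j
        simp [sw], map_one]
    have hTT : LinearMap.det (T e₁).toLinearMap * LinearMap.det (T e₁).toLinearMap = 1 := by
      rw [← map_mul, show (T e₁).toLinearMap * (T e₁).toLinearMap = 1 from
        LinearMap.ext fun f => blockMap_sq h6 e₁ f, map_one]
    let g := glOf (ψ.trans ((T e₂).trans ((T e₁).trans ψ.symm)))
    have hgv : ∀ x, ψ ((g : Matrix (Fin n) (Fin n) F).mulVec x) = blockMap e₁ (blockMap e₂ (ψ x)) := fun x => by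
      rw [glOf_mulVec]
      exact ψ.apply_symm_apply _
    have hgK : g ∈ K := by
      refine ⟨fun x => ?_, glOf_mem_specialLinear ?_⟩
      · show cnt (ψ _) = cnt (ψ x)
        rw [hgv, cnt_blockMap e₁ he₁ hid, cnt_blockMap e₂ he₂ hid]
      · rw [show ((ψ.trans ((T e₂).trans ((T e₁).trans ψ.symm))) : (Fin n → F) →ₗ[F] (Fin n → F)) =
            (ψ.symm : _ →ₗ[F] (Fin n → F)) ∘ₗ ((T e₁).toLinearMap ∘ₗ (T e₂).toLinearMap) ∘ₗ
              (ψ.symm.symm : (Fin n → F) →ₗ[F] _) from rfl, LinearMap.det_conj]
        rw [hconj, LinearMap.det_comp, LinearMap.det_comp, LinearMap.det_comp]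
        linear_combination (LinearMap.det P.toLinearMap * LinearMap.det P.toLinearMap) * hTT + hPP
    intro e
    have hgS : g ∈ decompositionStabilizer D := ((e.symm ▸ hgK : g ∈ decompositionStabilizer D ⊓ specialLinear (Fin n) F)).1
    refine notMem_stab ψ hψ (single_of_coord ψ hψ (i 0) w) (a := i 1) (b := i 2)
      (fun e => absurd (hi 1 2 (by omega) (by omega) e) (by omega)) ?_ ?_ hgS
    all_goals
      rw [hgv, ψ.apply_symm_apply]
      have hfix : blockMap e₂ (Pi.single (i 0) w) = (Pi.single (i 0) w : Fin t → Fin m → F) := by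
        funext j
        rw [blockMap_apply]
        have hne : ∀ k : Fin 4, e₂ k ≠ i 0 := fun k e => by
          have h1 : i k.val = i 4 := by
            have := congrArg sw e
            simpa [e₂, sw] using this
          exact absurd (hi _ _ (by omega) (by omega) h1) (by omega)
        split_ifs
        · rw [Finset.sum_eq_zero fun k _ => Pi.single_eq_of_ne (hne k) _, add_zero]
        · exact add_zero _
      rw [hfix, blockMap_apply, Pi.single_eq_of_ne (fun e => absurd (hi _ _ (by omega) (by omega) e) (by omega)),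
        zero_add, if_pos, Finset.sum_eq_single (0 : Fin 4)]
      · show (Pi.single (i 0) w : Fin t → Fin m → F) (i 0) ≠ 0
        rw [Pi.single_eq_same]; exact hw
      · exact fun k _ hk => Pi.single_eq_of_ne (fun e => hk (he₁ e)) _
      · simp
    · exact Finset.mem_image.2 ⟨1, Finset.mem_univ _, rfl⟩
    · exact Finset.mem_image.2 ⟨2, Finset.mem_univ _, rfl⟩
  · -- a transvection changing the count
    intro e
    have h01 : i 1 ≠ i 0 := fun e => absurd (hi _ _ (by omega) (by omega) e) (by omega)
    let φ : Module.Dual F (Fin n → F) :=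
      (LinearMap.proj ⟨0, hD.pos⟩).comp ((LinearMap.proj (i 0)).comp ψ.toLinearMap)
    have hφ : φ (ψ.symm (Pi.single (i 1) w)) = 0 := by simp [φ, Pi.single_eq_of_ne h01.symm]
    let g := glOf (LinearEquiv.transvection hφ)
    have hgS : g ∈ specialLinear (Fin n) F := glOf_mem_specialLinear (by
      rw [LinearEquiv.transvection.coe_toLinearMap hφ, LinearMap.transvection.det, hφ, add_zero])
    have hgK : g ∈ K := e.symm ▸ hgS
    have h1 := hgK.1 (ψ.symm (Pi.single (i 0) w))
    simp only [N, g, glOf_mulVec, LinearEquiv.transvection.apply, map_add, map_smul, ψ.apply_symm_apply] at h1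
    have hφ1 : φ (ψ.symm (Pi.single (i 0) w)) = 1 := by simp [φ, w]
    rw [hφ1, one_smul] at h1
    unfold cnt at h1
    rw [Finset.sum_eq_add (i 0) (i 1) h01.symm, Finset.sum_eq_single (i 0)] at h1
    · simp [Pi.single_eq_of_ne h01, Pi.single_eq_of_ne h01.symm, ind_ne hw] at h1
    · intro b _ hb; rw [Pi.single_eq_of_ne hb, ind_zero]
    · simp
    · intro b _ hb; simp [Pi.single_eq_of_ne hb.1, Pi.single_eq_of_ne hb.2, ind_zero]
    · simp
    · simp

end Cfsg.Agent.S5635
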