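import Cfsg.Statements.S5638
import Cfsg.Agent.Lib.MaxSub.ExtMatrix
import Mathlib.LinearAlgebra.Matrix.Kronecker
import Mathlib.FieldTheory.Finite.Basic

set_option autoImplicit false
open Cfsg

namespace Cfsg.Agent.S5638

open Matrix Cfsg.Geo
open scoped Kronecker

variable {F : Type*} [Field F]

theorem gen_mul {k : ℕ} (E : Matrix (Fin k) (Fin k) F) (hE : E * E = E) (c d : Matrix (Fin 2) (Fin 2) F) :
    ((1 : Matrix (Fin 2) (Fin 2) F) ⊗ₖ (1 - E) + c ⊗ₖ E) * ((1 : Matrix (Fin 2) (Fin 2) F) ⊗ₖ (1 - E) + d ⊗ₖ E) =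
      (1 : Matrix (Fin 2) (Fin 2) F) ⊗ₖ (1 - E) + (c * d) ⊗ₖ E := by
  simp only [mul_add, add_mul, ← Matrix.mul_kronecker_mul, one_mul, mul_one, sub_mul, mul_sub, hE,
    sub_self, sub_zero, Matrix.kronecker_zero, add_zero, zero_add]

theorem gen_comm {k : ℕ} (E : Matrix (Fin k) (Fin k) F) {c d : Matrix (Fin 2) (Fin 2) F} (h : d * c = c * d) :
    ((1 : Matrix (Fin 2) (Fin 2) F) ⊗ₖ (1 - E) + d ⊗ₖ E) * (c ⊗ₖ (1 : Matrix (Fin k) (Fin k) F)) =
      (c ⊗ₖ (1 : Matrix (Fin k) (Fin k) F)) * ((1 : Matrix (Fin 2) (Fin 2) F) ⊗ₖ (1 - E) + d ⊗ₖ E) := by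
  simp only [mul_add, add_mul, ← Matrix.mul_kronecker_mul, one_mul, mul_one, h]

/-- the quadratic extension inside the two-by-two matrices -/
def quadAlg : Subalgebra F (Matrix (Fin 2) (Fin 2) F) where
  carrier := {c | c 0 1 = c 1 0 ∧ c 1 1 = c 0 0 + c 0 1}
  mul_mem' {a b} ha hb := by
    obtain ⟨ha1, ha2⟩ := ha
    obtain ⟨hb1, hb2⟩ := hb
    constructor <;> simp [Matrix.mul_apply, Fin.sum_univ_two, ha1.symm, ha2, hb1.symm, hb2] <;> ring
  add_mem' {a b} ha hb := by
    obtain ⟨ha1, ha2⟩ := ha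
    obtain ⟨hb1, hb2⟩ := hb
    constructor <;> simp [ha1, ha2, hb1, hb2]
    ring
  algebraMap_mem' r := by constructor <;> simp [Matrix.algebraMap_matrix_apply]

theorem mem_quadAlg {c : Matrix (Fin 2) (Fin 2) F} :
    c ∈ quadAlg ↔ c 0 1 = c 1 0 ∧ c 1 1 = c 0 0 + c 0 1 := Iff.rfl

theorem eq_zero_or_one [Fintype F] (hq : Fintype.card F = 2) (a : F) : a = 0 ∨ a = 1 := by
  rcases eq_or_ne a 0 with h | h
  · exact Or.inl h
  · refine Or.inr ?_
    simpa [hq] using FiniteField.pow_card_sub_one_eq_one a h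

theorem quad_conj [Fintype F] (hq : Fintype.card F = 2) (a : GL (Fin 2) F) {c : Matrix (Fin 2) (Fin 2) F}
    (hc : c ∈ quadAlg) :
    (a : Matrix (Fin 2) (Fin 2) F) * c * ((a⁻¹ : GL (Fin 2) F) : Matrix (Fin 2) (Fin 2) F) ∈ quadAlg := by
  have h2 : (2 : F) = 0 := by
    have h := FiniteField.cast_card_eq_zero F
    rw [hq] at h
    exact_mod_cast h
  set A := (a : Matrix (Fin 2) (Fin 2) F) with hA
  have hdet : A.det = 1 := by
    refine (eq_zero_or_one hq _).resolve_left fun h => ?_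
    have := congrArg Matrix.det a.mul_inv
    rw [Matrix.det_mul, ← hA, h, zero_mul, Matrix.det_one] at this
    exact zero_ne_one this
  have hinv : ((a⁻¹ : GL (Fin 2) F) : Matrix (Fin 2) (Fin 2) F) = A.adjugate := by
    have h1 : A * A.adjugate = 1 := by rw [Matrix.mul_adjugate, hdet, one_smul]
    calc ((a⁻¹ : GL (Fin 2) F) : Matrix (Fin 2) (Fin 2) F)
        = ((a⁻¹ : GL (Fin 2) F) : Matrix (Fin 2) (Fin 2) F) * (A * A.adjugate) := by rw [h1, mul_one]
      _ = A.adjugate := by rw [← mul_assoc, hA, a.inv_mul, one_mul]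
  obtain ⟨h1, h3⟩ := hc
  rw [Matrix.det_fin_two] at hdet
  rw [hinv, Matrix.adjugate_fin_two, mem_quadAlg]
  simp only [Matrix.mul_apply, Fin.sum_univ_two, ← h1, h3, Matrix.of_apply, Matrix.cons_val_zero,
    Matrix.cons_val_one]
  rcases eq_zero_or_one hq (A 0 0) with p | p <;> rcases eq_zero_or_one hq (A 0 1) with r | r <;>
    rcases eq_zero_or_one hq (A 1 0) with s | s <;> rcases eq_zero_or_one hq (A 1 1) with u | u <;>
    rw [p, r, s, u] at hdet ⊢ <;> constructor <;> simp at hdet ⊢ <;> grind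

theorem quad_field [Fintype F] (hq : Fintype.card F = 2) {c : Matrix (Fin 2) (Fin 2) F} (hc : c ∈ quadAlg)
    (h0 : c ≠ 0) : ∃ d ∈ quadAlg, c * d = 1 := by
  have h2 : (2 : F) = 0 := by
    have h := FiniteField.cast_card_eq_zero F
    rw [hq] at h
    exact_mod_cast h
  obtain ⟨h1, h3⟩ := hc
  refine ⟨!![c 0 0 + c 0 1, c 0 1; c 0 1, c 0 0], ⟨rfl, ?_⟩, ?_⟩
  · simp only [Matrix.of_apply, Matrix.cons_val_zero, Matrix.cons_val_one]
    linear_combination -(c 0 1) * h2
  · have hne : ¬ (c 0 0 = 0 ∧ c 0 1 = 0) := fun ⟨e, e'⟩ => h0 (by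
      ext i j; fin_cases i <;> fin_cases j <;> simp [e, e', ← h1, h3])
    ext i j
    fin_cases i <;> fin_cases j <;> simp [Matrix.mul_apply, Fin.sum_univ_two, ← h1, h3] <;>
      rcases eq_zero_or_one hq (c 0 0) with p | p <;> rcases eq_zero_or_one hq (c 0 1) with r | r <;>
      simp_all <;> grind

/-- Over the field with 2 elements, for n = 2 n₂ ≥ 13, the stabiliser in SL_n of a tensor decomposition with factors of dimensions 2 and n₂ (the conjugate by any P of the Kronecker-product subgroup transported along any bijection Fin n ≃ Fin 2 × Fin n₂, intersected with SL_n) is not a maximal subgroup: some subgroup lies strictly between it and SL_n. -/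
theorem result {F : Type*} [Field F] [Fintype F] (n : ℕ) (hn : 13 ≤ n) (hq : Fintype.card F = 2) (n₂ : ℕ) (e : Fin n ≃ Fin 2 × Fin n₂) (P : Matrix.GeneralLinearGroup (Fin n) F) : ∃ K : Subgroup (Matrix.GeneralLinearGroup (Fin n) F), Cfsg.Geo.tensorProductSubgroup 2 n₂ e P ⊓ Cfsg.Geo.specialLinear (Fin n) F < K ∧ K < Cfsg.Geo.specialLinear (Fin n) F := by
  classical
  let κ := Fin 2 × Fin n₂
  let Φ₀ : Matrix (Fin 2) (Fin 2) F →ₐ[F] Matrix κ κ F :=
    { toFun := fun c => c ⊗ₖ (1 : Matrix (Fin n₂) (Fin n₂) F)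
      map_one' := Matrix.one_kronecker_one
      map_mul' := fun x y => by rw [← Matrix.mul_kronecker_mul, one_mul]
      map_zero' := Matrix.zero_kronecker _
      map_add' := fun x y => Matrix.add_kronecker _ _ _
      commutes' := fun r => by
        rw [Algebra.algebraMap_eq_smul_one, Algebra.algebraMap_eq_smul_one]
        show (r • (1 : Matrix (Fin 2) (Fin 2) F)) ⊗ₖ (1 : Matrix (Fin n₂) (Fin n₂) F) = _
        rw [Matrix.smul_kronecker, Matrix.one_kronecker_one] }
  let R : Matrix κ κ F ≃ₐ[F] Matrix (Fin n) (Fin n) F := Matrix.reindexAlgEquiv F F e.symm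
  let C : Matrix (Fin n) (Fin n) F →ₐ[F] Matrix (Fin n) (Fin n) F :=
    { toFun := fun y => (P : Matrix (Fin n) (Fin n) F) * y * ((P⁻¹ : GL (Fin n) F) : Matrix (Fin n) (Fin n) F)
      map_one' := by rw [mul_one, P.mul_inv]
      map_mul' := fun x y => by
        simp only [mul_assoc, Units.inv_mul_cancel_left]
      map_zero' := by rw [mul_zero, zero_mul]
      map_add' := fun x y => by rw [mul_add, add_mul]
      commutes' := fun r => by rw [← Algebra.commutes, mul_assoc, P.mul_inv, mul_one] }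
  let Φ : Matrix (Fin 2) (Fin 2) F →ₐ[F] Matrix (Fin n) (Fin n) F := (C.comp R.toAlgHom).comp Φ₀
  have hn2 : n = 2 * n₂ := by simpa using Fintype.card_congr e
  haveI : NeZero n₂ := ⟨by omega⟩
  have hCR : Function.Injective (C.comp R.toAlgHom) := by
    intro x y h
    refine R.injective ?_
    have h' := congrArg (fun z => ((P⁻¹ : GL (Fin n) F) : Matrix (Fin n) (Fin n) F) * z *
      (P : Matrix (Fin n) (Fin n) F)) h
    simpa [C, mul_assoc] using h'
  have hinj : Function.Injective Φ := hCR.comp fun x y h => by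
    ext i j
    have := congrFun (congrFun h (i, 0)) (j, 0)
    simpa [Φ₀] using this
  let K : Subalgebra F (Matrix (Fin n) (Fin n) F) := quadAlg.map Φ
  have hK : IsFieldSubalgebra 2 K := by
    refine ⟨?_, ?_, ?_⟩
    · rintro _ ⟨x, hx, rfl⟩ _ ⟨y, hy, rfl⟩
      show Φ x * Φ y = Φ y * Φ x
      rw [← map_mul, ← map_mul]
      congr 1
      obtain ⟨a1, a2⟩ := hx
      obtain ⟨b1, b2⟩ := hy
      ext i j
      fin_cases i <;> fin_cases j <;> simp [Matrix.mul_apply, Fin.sum_univ_two, ← a1, a2, ← b1, b2] <;> ring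
    · rintro _ ⟨x, hx, rfl⟩ h0
      obtain ⟨d, hd, hxd⟩ := quad_field hq hx (fun e => h0 (by show Φ x = 0; rw [e, map_zero]))
      exact ⟨Φ d, ⟨d, hd, rfl⟩, by show Φ x * Φ d = 1; rw [← map_mul, hxd, map_one]⟩
    · show Module.finrank F (Subalgebra.toSubmodule (quadAlg.map Φ)) = 2
      rw [Subalgebra.map_toSubmodule, ← (Submodule.equivMapOfInjective _ hinj _).finrank_eq]
      let E : (F × F) ≃ₗ[F] (Subalgebra.toSubmodule (quadAlg : Subalgebra F (Matrix (Fin 2) (Fin 2) F))) :=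
        { toFun := fun z => ⟨!![z.1, z.2; z.2, z.1 + z.2], ⟨rfl, rfl⟩⟩
          map_add' := fun x y => by ext i j; fin_cases i <;> fin_cases j <;> simp; ring
          map_smul' := fun r x => by ext i j; fin_cases i <;> fin_cases j <;> simp; ring
          invFun := fun c => (c.1 0 0, c.1 0 1)
          left_inv := fun z => rfl
          right_inv := fun c => by
            obtain ⟨c, h1, h2⟩ := c
            ext i j; fin_cases i <;> fin_cases j <;> simp [← h1, h2] }
      rw [← E.finrank_eq, Module.finrank_prod, Module.finrank_self]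
  haveI : Subsingleton Fˣ := Fintype.card_le_one_iff_subsingleton.1 (by rw [Fintype.card_units, hq])
  have hSL : ∀ g : GL (Fin n) F, g ∈ specialLinear (Fin n) F := fun g => Subsingleton.elim _ _
  have hnorm : ∀ g : GL (Fin n) F, (∀ c ∈ quadAlg, (g : Matrix (Fin n) (Fin n) F) * Φ c *
      ((g⁻¹ : GL (Fin n) F) : Matrix (Fin n) (Fin n) F) ∈ K) → g ∈ subalgebraNormalizer K := by
    intro g hg k
    constructor
    · rintro ⟨c, hc, rfl⟩; exact hg c hc
    · intro hk
      -- the conjugation is injective on the finite algebra, hence onto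
      let f : K → K := fun x => ⟨(g : Matrix (Fin n) (Fin n) F) * x.1 * ((g⁻¹ : GL (Fin n) F) : Matrix (Fin n) (Fin n) F),
        by obtain ⟨c, hc, hx⟩ := x.2; rw [← hx]; exact hg c hc⟩
      have hf : Function.Injective f := fun x y h => by
        have h' := congrArg (fun z : K => ((g⁻¹ : GL (Fin n) F) : Matrix (Fin n) (Fin n) F) * z.1 *
          (g : Matrix (Fin n) (Fin n) F)) h
        exact Subtype.ext (by simpa [f, mul_assoc] using h')
      obtain ⟨x, hx⟩ := Finite.surjective_of_injective hf ⟨_, hk⟩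
      have h' := congrArg (fun z : K => ((g⁻¹ : GL (Fin n) F) : Matrix (Fin n) (Fin n) F) * z.1 *
          (g : Matrix (Fin n) (Fin n) F)) hx
      have h'' : x.1 = k := by simpa [f, mul_assoc] using h'
      exact h'' ▸ x.2
  let tr : GL κ F →* GL (Fin n) F := (MulAut.conj P).toMonoidHom.comp (glReindex e.symm).toMonoidHom
  have htr : ∀ g : GL κ F, ∀ y : Matrix κ κ F, (tr g : Matrix (Fin n) (Fin n) F) * (C.comp R.toAlgHom) y *
      ((tr g)⁻¹ : GL (Fin n) F) = (C.comp R.toAlgHom) ((g : Matrix κ κ F) * y * (g⁻¹ : GL κ F)) := by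
    intro g y
    rw [← map_inv tr, map_mul, map_mul]
    rfl
  have hle : tensorProductSubgroup 2 n₂ e P ⊓ specialLinear (Fin n) F ≤
      subalgebraNormalizer K ⊓ specialLinear (Fin n) F := by
    refine inf_le_inf_right _ ?_
    rintro _ ⟨_, ⟨g, ⟨a, b, hab⟩, rfl⟩, rfl⟩
    refine hnorm (tr g) fun c hc => ⟨_, quad_conj hq a hc, ?_⟩
    show (C.comp R.toAlgHom) (Φ₀ _) = (tr g : Matrix (Fin n) (Fin n) F) * (C.comp R.toAlgHom) (Φ₀ c) * _
    rw [htr]
    congr 1
    have hgi : ((g⁻¹ : GL κ F) : Matrix κ κ F) = ((a⁻¹ : GL (Fin 2) F) : Matrix (Fin 2) (Fin 2) F) ⊗ₖ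
        ((b⁻¹ : GL (Fin n₂) F) : Matrix (Fin n₂) (Fin n₂) F) := by
      refine left_inv_eq_right_inv g.inv_mul ?_
      rw [hab, ← Matrix.mul_kronecker_mul, a.mul_inv, b.mul_inv, Matrix.one_kronecker_one]
    show _ ⊗ₖ _ = (g : Matrix κ κ F) * (c ⊗ₖ (1 : Matrix (Fin n₂) (Fin n₂) F)) * _
    rw [hab, hgi, ← Matrix.mul_kronecker_mul, ← Matrix.mul_kronecker_mul, mul_one, b.mul_inv]
  obtain ⟨-, ⟨x, -, hx⟩, -⟩ := CfsgLib.MaxSub.extField_facts Nat.prime_two (show 2 < n by omega) K hK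
  refine ⟨subalgebraNormalizer K ⊓ specialLinear (Fin n) F, lt_of_le_of_ne hle ?_,
    lt_of_le_of_ne inf_le_right fun h => hx (h.symm ▸ hSL x : x ∈ subalgebraNormalizer K ⊓ specialLinear (Fin n) F).1⟩
  -- multiplication by a field element on one line only
  let w : Matrix (Fin 2) (Fin 2) F := !![0, 1; 1, 1]
  let w' : Matrix (Fin 2) (Fin 2) F := !![1, 1; 1, 0]
  have hw : w ∈ quadAlg := ⟨rfl, by simp [w]⟩
  have h2 : (2 : F) = 0 := by
    have h := FiniteField.cast_card_eq_zero F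
    rw [hq] at h
    exact_mod_cast h
  have hww : w * w' = 1 ∧ w' * w = 1 := by
    constructor <;> ext i j <;> fin_cases i <;> fin_cases j <;>
      simp [w, w', Matrix.mul_apply, Fin.sum_univ_two] <;> grind
  let E : Matrix (Fin n₂) (Fin n₂) F := Matrix.single 0 0 1
  have hE : E * E = E := by simp [E]
  let gen : Matrix (Fin 2) (Fin 2) F → Matrix κ κ F := fun c =>
    (1 : Matrix (Fin 2) (Fin 2) F) ⊗ₖ (1 - E) + c ⊗ₖ E
  have hgen : ∀ c d, gen c * gen d = gen (c * d) := gen_mul E hE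
  have hgen1 : gen 1 = 1 := by
    show (1 : Matrix (Fin 2) (Fin 2) F) ⊗ₖ (1 - E) + (1 : Matrix (Fin 2) (Fin 2) F) ⊗ₖ E = 1
    rw [← Matrix.kronecker_add, sub_add_cancel, Matrix.one_kronecker_one]
  let g : GL κ F := ⟨gen w, gen w', by rw [hgen, hww.1, hgen1], by rw [hgen, hww.2, hgen1]⟩
  have hgN : tr g ∈ subalgebraNormalizer K ⊓ specialLinear (Fin n) F := by
    refine ⟨hnorm _ fun c hc => ⟨c, hc, ?_⟩, hSL _⟩
    show (C.comp R.toAlgHom) (Φ₀ c) = (tr g : Matrix (Fin n) (Fin n) F) * (C.comp R.toAlgHom) (Φ₀ c) * _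
    rw [htr]
    congr 1
    have hcomm : w * c = c * w := by
      obtain ⟨a1, a2⟩ := hc
      ext i j
      fin_cases i <;> fin_cases j <;> simp [w, Matrix.mul_apply, Fin.sum_univ_two, ← a1, a2] <;> ring
    show _ = gen w * (c ⊗ₖ (1 : Matrix (Fin n₂) (Fin n₂) F)) * gen w'
    rw [show gen w * (c ⊗ₖ (1 : Matrix (Fin n₂) (Fin n₂) F)) = (c ⊗ₖ (1 : Matrix (Fin n₂) (Fin n₂) F)) * gen w from
      gen_comm E hcomm,
      mul_assoc, hgen, hww.1, hgen1, mul_one]
    rfl
  intro h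
  have hmem : tr g ∈ tensorProductSubgroup 2 n₂ e P := (h.symm ▸ hgN :
    tr g ∈ tensorProductSubgroup 2 n₂ e P ⊓ specialLinear (Fin n) F).1
  obtain ⟨_, ⟨g', ⟨a, b, hab⟩, rfl⟩, hg'⟩ := hmem
  have hgg : g' = g := (glReindex e.symm).injective ((MulAut.conj P).injective hg')
  rw [hgg] at hab
  let j1 : Fin n₂ := ⟨1, by omega⟩
  have hj : (0 : Fin n₂) ≠ j1 := fun e => by
    have := congrArg Fin.val e; simp [j1] at this
  have e1 := congrFun (congrFun hab (0, 0)) (1, 0)
  have e2 := congrFun (congrFun hab (0, j1)) (1, j1)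
  have e3 := congrFun (congrFun hab (0, j1)) (0, j1)
  have hE0 : E 0 0 = 1 := Matrix.single_apply_same ..
  have hE1 : E j1 j1 = 0 := Matrix.single_apply_of_row_ne hj _ _ _
  simp only [g, gen, Matrix.add_apply, Matrix.kronecker, Matrix.kroneckerMap_apply, Matrix.sub_apply,
    hE0, hE1] at e1 e2 e3
  simp [w, hj, hj.symm] at e1 e2 e3
  grind

end Cfsg.Agent.S5638
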