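import Cfsg.Statements.S5641
import Cfsg.Agent.Lib.MaxSub.Rational
import Cfsg.Agent.Lib.MaxSub.TPowSL.Main

set_option autoImplicit false
open Cfsg

namespace Cfsg.Agent.S5641

/-- For a finite field F and n = m ^ t ≥ 13 with m ≥ 3 and t ≥ 2, the stabiliser in SL_n(F) of a tensor decomposition of F^n into t factors of dimension m (the conjugate by any P of the standard tensor-wreath subgroup transported along any bijection Fin n ≃ (Fin t → Fin m), intersected with SL_n(F)) is a maximal subgroup of SL_n(F). -/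
theorem result {F : Type*} [Field F] [Fintype F] (n : ℕ) (hn : 13 ≤ n) (m t : ℕ) (hm : 3 ≤ m) (ht : 2 ≤ t) (e : Fin n ≃ (Fin t → Fin m)) (P : Matrix.GeneralLinearGroup (Fin n) F) : Cfsg.Geo.IsMaximalIn (Cfsg.Geo.specialLinear (Fin n) F) (Cfsg.Geo.tensorWreathSubgroup m t e P ⊓ Cfsg.Geo.specialLinear (Fin n) F) := by
  obtain ⟨s, rfl⟩ : ∃ s, t = s + 2 := ⟨t - 2, by omega⟩
  let R : Matrix.GeneralLinearGroup (Fin (s + 2) → Fin m) F ≃* Matrix.GeneralLinearGroup (Fin n) F :=
    (Cfsg.Geo.glReindex e.symm).trans (MulAut.conj P)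
  have h := CfsgLib.MaxSub.isMaximalIn_map R (CfsgLib.MaxSub.TPowSL.base (F := F) hm s)
  have hR : ∀ K : Subgroup (Matrix.GeneralLinearGroup (Fin (s + 2) → Fin m) F), K.map R.toMonoidHom =
      (K.map (Cfsg.Geo.glReindex e.symm).toMonoidHom).map (MulAut.conj P).toMonoidHom := fun K => by
    rw [Subgroup.map_map]; rfl
  have hsl : (Cfsg.Geo.specialLinear (Fin n) F).map (MulAut.conj P).toMonoidHom = Cfsg.Geo.specialLinear (Fin n) F := by
    have : (Cfsg.Geo.specialLinear (Fin n) F).Normal := MonoidHom.normal_ker _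
    exact le_antisymm (Subgroup.map_le_iff_le_comap.2 fun x hx => Subgroup.Normal.conj_mem inferInstance x hx P)
      fun x hx => ⟨P⁻¹ * x * P, by simpa using Subgroup.Normal.conj_mem (H := Cfsg.Geo.specialLinear (Fin n) F) inferInstance x hx P⁻¹, by simp [mul_assoc]⟩
  rw [Subgroup.map_inf _ _ R.toMonoidHom R.injective, hR, hR,
    CfsgLib.MaxSub.TPowSL.map_specialLinear_glReindex, hsl] at h
  exact h

end Cfsg.Agent.S5641
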