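import Cfsg.Statements.S5644
import Cfsg.Agent.Lib.MaxSub.QuadOver

set_option autoImplicit false
open Cfsg

namespace Cfsg.Agent.S5644

/-- For a finite field F of odd order and n ≥ 13, let Q be a non-degenerate quadratic form on F^n (its polar form is non-degenerate). Then the elements of SL_n(F) that are similarities of Q (Q(gv) = c Q(v) for a non-zero scalar c depending on g) form a maximal subgroup of SL_n(F). -/
theorem result {F : Type*} [Field F] [Fintype F] (n : ℕ) (hn : 13 ≤ n) (hodd : Odd (Fintype.card F)) (Q : (Fin n → F) → F) (hQ : Cfsg.Geo.IsNondegenerateQuadraticForm Q) : Cfsg.Geo.IsMaximalIn (Cfsg.Geo.specialLinear (Fin n) F) (Cfsg.Geo.quadSimilarityGroup Q ⊓ Cfsg.Geo.specialLinear (Fin n) F) := by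
  have hn' : 6 ≤ Fintype.card (Fin n) := by rw [Fintype.card_fin]; omega
  have h2 : (2 : F) ≠ 0 := by
    intro h
    have hc : ringChar F = 2 := by
      have := CharP.charP_iff_prime_eq_zero Nat.prime_two |>.2 (by exact_mod_cast h : ((2 : ℕ) : F) = 0)
      exact ringChar.eq F 2
    exact (Nat.not_even_iff_odd.2 hodd) (Nat.even_iff.2 (FiniteField.even_card_of_char_two hc))
  open CfsgLib.MaxSub in
  refine isMaximalIn_of_lt (lt_of_le_of_ne inf_le_right fun he => ?_) fun M hH hM g hg hgH => ?_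
  · obtain ⟨u, -, hu0, hu⟩ := CfsgLib.MaxSub.exists_singular hQ h2 (W := (⊤ : Submodule F (Fin n → F))) (by
      rw [finrank_top, Module.finrank_fin_fun]; omega)
    have hd : CfsgLib.MaxSub.pDual Q u ⬝ᵥ u = 0 := by
      rw [CfsgLib.MaxSub.pDual_dot hQ, CfsgLib.MaxSub.polar_self' hQ, hu, mul_zero]
    have hT := CfsgLib.MaxSub.tvGL_mem_specialLinear u (CfsgLib.MaxSub.pDual Q u) hd
    rw [← he] at hT
    obtain ⟨c, hc⟩ := hT.1
    obtain ⟨x, hx⟩ := (hQ.nondegenerate u hu0).1
    -- `x` may be chosen singular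
    set y := x + (-Q x / QuadraticMap.polar Q x u) • u
    have hQy : Q y = 0 := by
      rw [CfsgLib.MaxSub.quad_add_smul hQ, hu, div_mul_cancel₀ _ hx]; ring
    have hyu : QuadraticMap.polar Q y u = QuadraticMap.polar Q x u := by
      rw [hQ.polar_bilinear.add_left, hQ.polar_bilinear.smul_left, CfsgLib.MaxSub.polar_self' hQ, hu]; ring
    have h1 := hc y
    rw [CfsgLib.MaxSub.coe_tvGL, CfsgLib.MaxSub.tvMat_mulVec, CfsgLib.MaxSub.pDual_dot hQ,
      CfsgLib.MaxSub.quad_add_smul hQ, hQy, hu, mul_zero, hyu] at h1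
    exact hx (mul_self_eq_zero.1 (by linear_combination h1))
  · have hsub := CfsgLib.MaxSub.hasSieg_of_le hQ h2 hn' hH
    rcases CfsgLib.MaxSub.specialLinear_le_or_similar hQ h2 hn' hsub hH hg with h | h
    · exact h
    · exact absurd ⟨h, hM hg⟩ hgH

end Cfsg.Agent.S5644
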