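import Cfsg.Statements.S5645
import Cfsg.Agent.Lib.MaxSub.SympFull
-- import your own Cfsg.Agent.* helpers here

set_option autoImplicit false
open Cfsg

namespace Cfsg.Agent.S5645

/-- For a finite field F and m ≥ 7, in the symplectic group Sp_2m(F) of the standard alternating form on F^(2m) (as a subgroup of GL_2m(F)), the stabiliser of any non-zero subspace on which the form vanishes identically is a maximal subgroup. -/
theorem result {F : Type*} [Field F] [Fintype F] (m : ℕ) (hm : 7 ≤ m) (W : Submodule F (Fin m ⊕ Fin m → F)) (hW0 : W ≠ ⊥) (hW : Cfsg.Geo.IsTotallySingularFor (Cfsg.sympForm m F) W) : Cfsg.Geo.IsMaximalIn (Cfsg.spGL m F) (Cfsg.Geo.subspaceStabilizer W ⊓ Cfsg.spGL m F) := by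
  open Matrix CfsgLib.MaxSub in
  let P := spPerp W
  have hWP : W ≤ P := fun x hx w hw => hW x hx w hw
  obtain ⟨w₀, hw₀, hw₀0⟩ := W.exists_mem_ne_zero_of_ne_bot hW0
  have hzero : ∀ z, Cfsg.sympForm m F (0 : Fin m ⊕ Fin m → F) z = 0 := fun z => zero_dotProduct _
  have hzero' : ∀ z, Cfsg.sympForm m F z (0 : Fin m ⊕ Fin m → F) = 0 := fun z => by
    rw [sympForm_swap, hzero, neg_zero]
  -- transvections centred in `W^⊥` stabilise `W`
  have hbase : ∀ M : Subgroup _, Cfsg.Geo.subspaceStabilizer W ⊓ Cfsg.spGL m F ≤ M →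
      ∀ z ∈ P, SpFull M z := fun M hM z hz c =>
    (hasSpTv_iff z c).2 (hM ⟨mem_subspaceStabilizer_of_maps fun x hx => by
      rw [coe_tvGL, spTv_mulVec, spPerp_comm hz hx, mul_zero, zero_smul, add_zero]; exact hx,
      spTv_mem_spGL z c⟩)
  refine isMaximalIn_of_lt (lt_of_le_of_ne inf_le_right fun he => ?_) fun M hM hMS g hg hgH => ?_
  · obtain ⟨y, hy⟩ : ∃ y, Cfsg.sympForm m F w₀ y ≠ 0 := by
      obtain ⟨y, -, hy⟩ := exists_spPerp_of_notMem
        (W := (⊥ : Submodule F (Fin m ⊕ Fin m → F))) (x := w₀) (fun h => hw₀0 h)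
      exact ⟨y, hy⟩
    have hmem := spTv_mem_spGL y (1 : F)
    rw [← he] at hmem
    have := maps_of_mem_subspaceStabilizer hmem.1 hw₀
    rw [coe_tvGL, spTv_mulVec, one_mul, Submodule.add_mem_iff_right _ hw₀,
      W.smul_mem_iff hy] at this
    exact hy (hW w₀ hw₀ y this)
  · obtain ⟨x₀, hx₀, hx₀P⟩ : ∃ x₀, SpFull M x₀ ∧ x₀ ∉ P := by
      by_contra hno
      push Not at hno
      have hmap : ∀ z ∈ P, (g : Matrix _ _ F) *ᵥ z ∈ P := fun z hz =>
        hno _ ((hbase M hM z hz).conj hg (hMS hg))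
      have hgP := mem_subspaceStabilizer_of_maps hmap
      refine hgH ⟨mem_subspaceStabilizer_of_maps fun w hw => ?_, hMS hg⟩
      by_contra hgw
      obtain ⟨y, hy, hgy⟩ := exists_spPerp_of_notMem hgw
      have hy' : ((g⁻¹ : Matrix.GeneralLinearGroup _ F) : Matrix _ _ F) *ᵥ y ∈ P :=
        maps_of_mem_subspaceStabilizer (inv_mem hgP) hy
      apply hgy
      have := hMS hg w (((g⁻¹ : Matrix.GeneralLinearGroup _ F) : Matrix _ _ F) *ᵥ y)
      simp only [Units.coeHom_apply, mulVec_mulVec_inv] at this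
      rw [this]
      exact spPerp_comm hy' hw
    obtain ⟨w₁, hw₁, hw₁x⟩ : ∃ w ∈ W, Cfsg.sympForm m F x₀ w ≠ 0 := by
      simpa [P, mem_spPerp] using hx₀P
    have hadd : ∀ x, SpFull M x → (∃ w ∈ W, Cfsg.sympForm m F x w ≠ 0) →
        ∀ z ∈ P, SpFull M (x + z) := by
      rintro x hx ⟨w, hw, hxw⟩ z hz
      by_cases hxz : Cfsg.sympForm m F x z = 0
      · have h1 := hx.add (hbase M hM w (hWP hw)) hxw
        have h2 := h1.add (hbase M hM (z - w) (sub_mem hz (hWP hw))) (by
          rw [sub_eq_add_neg, ← neg_one_smul F w, sympForm_add_left, sympForm_add_right,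
            sympForm_add_right, sympForm_smul_right, sympForm_smul_right, hxz, sympForm_self,
            spPerp_comm hz hw]
          intro e; exact hxw (by linear_combination -e))
        convert h2 using 1; abel
      · exact hx.add (hbase M hM z hz) hxz
    refine spGL_le_of_spFull fun x => ?_
    by_cases hxP : x ∈ P
    · exact hbase M hM x hxP
    obtain ⟨w₂, hw₂, hw₂x⟩ : ∃ w ∈ W, Cfsg.sympForm m F x w ≠ 0 := by
      simpa [P, mem_spPerp] using hxP
    obtain ⟨w, hw, ha, hb⟩ : ∃ w ∈ W, Cfsg.sympForm m F x₀ w ≠ 0 ∧ Cfsg.sympForm m F x w ≠ 0 := by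
      by_cases h : Cfsg.sympForm m F x w₁ = 0
      · by_cases h' : Cfsg.sympForm m F x₀ w₂ = 0
        · exact ⟨w₁ + w₂, add_mem hw₁ hw₂, by rw [sympForm_add_right, h', add_zero]; exact hw₁x,
            by rw [sympForm_add_right, h, zero_add]; exact hw₂x⟩
        · exact ⟨w₂, hw₂, h', hw₂x⟩
      · exact ⟨w₁, hw₁, hw₁x, h⟩
    set c := Cfsg.sympForm m F x w with hc
    set x₁ := (c / Cfsg.sympForm m F x₀ w) • x₀ with hx₁
    have hx₁w : Cfsg.sympForm m F x₁ w = c := by
      rw [hx₁, sympForm_smul_left, div_mul_cancel₀ _ ha]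
    set y := (-c⁻¹) • (x - x₁) with hy
    have hwy : Cfsg.sympForm m F w y = 0 := by
      rw [hy, sympForm_smul_right, sub_eq_add_neg, ← neg_one_smul F x₁, sympForm_add_right,
        sympForm_smul_right, sympForm_swap x w, sympForm_swap x₁ w, hx₁w, ← hc]
      ring
    have hS : spSieg w y hwy ∈ Cfsg.Geo.subspaceStabilizer W ⊓ Cfsg.spGL m F :=
      ⟨mem_subspaceStabilizer_of_maps fun u hu => by
        rw [spSieg_mulVec, hW w hw u hu, zero_smul, add_zero]
        exact add_mem hu (W.smul_mem _ hw), spSieg_mem_spGL _ _ _⟩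
    have h1 := (hx₀.smul (c / Cfsg.sympForm m F x₀ w)).conj (hM hS) hS.2
    rw [← hx₁, spSieg_mulVec, sympForm_swap x₁ w, hx₁w, hy, smul_smul,
      show -c * -c⁻¹ = 1 by rw [neg_mul_neg, mul_inv_cancel₀ hb], one_smul,
      show x₁ + Cfsg.sympForm m F ((-c⁻¹) • (x - x₁)) x₁ • w + (x - x₁) =
        x + Cfsg.sympForm m F ((-c⁻¹) • (x - x₁)) x₁ • w by abel] at h1
    set s := Cfsg.sympForm m F ((-c⁻¹) • (x - x₁)) x₁
    have h2 := hadd _ h1 ⟨w, hw, by
      rw [sympForm_add_left, sympForm_smul_left, sympForm_self, mul_zero, add_zero]; exact hb⟩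
      ((-s) • w) (P.smul_mem _ (hWP hw))
    rwa [neg_smul, add_neg_cancel_right] at h2

end Cfsg.Agent.S5645
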