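import Cfsg.Statements.S5646
import Cfsg.Agent.Lib.MaxSub.SympFull
-- import your own Cfsg.Agent.* helpers here

set_option autoImplicit false
open Cfsg

namespace Cfsg.Agent.S5646

/-- For a finite field F and m ≥ 7, in the symplectic group Sp_2m(F) of the standard alternating form on F^(2m), the stabiliser of any non-zero subspace W on which the form is non-degenerate and with dim W < m is a maximal subgroup. -/
theorem result {F : Type*} [Field F] [Fintype F] (m : ℕ) (hm : 7 ≤ m) (W : Submodule F (Fin m ⊕ Fin m → F)) (hW0 : W ≠ ⊥) (hW : Cfsg.Geo.IsNondegenerateOn (Cfsg.sympForm m F) W) (hdim : Module.finrank F W < m) : Cfsg.Geo.IsMaximalIn (Cfsg.spGL m F) (Cfsg.Geo.subspaceStabilizer W ⊓ Cfsg.spGL m F) := by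
  open Matrix CfsgLib.MaxSub in
  let P := spPerp W
  have hfr : 2 * m ≤ Module.finrank F P + Module.finrank F W := finrank_le_finrank_spPerp_add W
  have hbot : W ⊓ P = ⊥ := by
    refine (Submodule.eq_bot_iff _).2 fun x hx => ?_
    by_contra hx0
    obtain ⟨y, hy, hxy⟩ := (hW x hx.1 hx0).2
    exact hxy (hx.2 y hy)
  have htop : W ⊔ P = ⊤ := by
    refine Submodule.eq_top_of_finrank_eq (le_antisymm (Submodule.finrank_le _) ?_)
    have := Submodule.finrank_sup_add_finrank_inf_eq W P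
    rw [hbot, finrank_bot] at this
    rw [Module.finrank_pi, Fintype.card_sum, Fintype.card_fin]
    omega
  have hbase : ∀ M : Subgroup _, Cfsg.Geo.subspaceStabilizer W ⊓ Cfsg.spGL m F ≤ M →
      ∀ z, z ∈ W ∨ z ∈ P → SpFull M z := fun M hM z hz c =>
    (hasSpTv_iff z c).2 (hM ⟨mem_subspaceStabilizer_of_maps fun x hx => by
      rw [coe_tvGL, spTv_mulVec]
      rcases hz with hz | hz
      · exact add_mem hx (W.smul_mem _ hz)
      · rw [spPerp_comm hz hx, mul_zero, zero_smul, add_zero]; exact hx,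
      spTv_mem_spGL z c⟩)
  have hdec : ∀ x, ∃ a ∈ W, ∃ z ∈ P, a + z = x := fun x =>
    Submodule.mem_sup.1 (by rw [htop]; trivial)
  have hmid : ∀ a ∈ W, a ≠ 0 → ∀ b ∈ W, b ≠ 0 →
      ∃ c ∈ W, Cfsg.sympForm m F a c ≠ 0 ∧ Cfsg.sympForm m F c b ≠ 0 := by
    intro a ha ha0 b hb hb0
    obtain ⟨u, hu, hau⟩ := (hW a ha ha0).2
    obtain ⟨v, hv, hvb⟩ := (hW b hb hb0).1
    by_cases h : Cfsg.sympForm m F u b = 0
    · by_cases h' : Cfsg.sympForm m F a v = 0
      · exact ⟨u + v, add_mem hu hv, by rw [sympForm_add_right, h', add_zero]; exact hau,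
          by rw [sympForm_add_left, h, zero_add]; exact hvb⟩
      · exact ⟨v, hv, h', hvb⟩
    · exact ⟨u, hu, hau, h⟩
  refine isMaximalIn_of_lt (lt_of_le_of_ne inf_le_right fun he => ?_) fun M hM hMS g hg hgH => ?_
  · obtain ⟨w, hw, hw0⟩ := W.exists_mem_ne_zero_of_ne_bot hW0
    obtain ⟨a, ha, hwa⟩ := (hW w hw hw0).2
    obtain ⟨z, hz, hz0⟩ := P.exists_mem_ne_zero_of_ne_bot (by
      intro e; rw [e, finrank_bot] at hfr; omega)
    have hwz : Cfsg.sympForm m F w z = 0 := spPerp_comm hz hw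
    have hmem := spTv_mem_spGL (a + z) (1 : F)
    rw [← he] at hmem
    have := maps_of_mem_subspaceStabilizer hmem.1 hw
    rw [coe_tvGL, spTv_mulVec, one_mul, Submodule.add_mem_iff_right _ hw, sympForm_add_right, hwz,
      add_zero, W.smul_mem_iff hwa, Submodule.add_mem_iff_right _ ha] at this
    have h0 : z ∈ W ⊓ P := ⟨this, hz⟩
    rw [hbot] at h0
    exact hz0 h0
  · obtain ⟨v, hv, hvW, hvP⟩ : ∃ v ∈ P, (g : Matrix (Fin m ⊕ Fin m) (Fin m ⊕ Fin m) F) *ᵥ v ∉ W ∧
        (g : Matrix (Fin m ⊕ Fin m) (Fin m ⊕ Fin m) F) *ᵥ v ∉ P := by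
      by_contra hno
      push Not at hno
      have hor : ∀ x ∈ P.map (Matrix.toLin' (g : Matrix (Fin m ⊕ Fin m) (Fin m ⊕ Fin m) F)), x ∈ W ∨ x ∈ P := by
        rintro _ ⟨x, hx, rfl⟩
        rw [Matrix.toLin'_apply]
        exact or_iff_not_imp_left.2 (hno x hx)
      have hinj : Function.Injective (Matrix.toLin' (g : Matrix (Fin m ⊕ Fin m) (Fin m ⊕ Fin m) F)) := fun x y e => by
        have := congrArg (((g⁻¹ : Matrix.GeneralLinearGroup _ F) : Matrix (Fin m ⊕ Fin m) (Fin m ⊕ Fin m) F) *ᵥ ·) e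
        simpa [inv_mulVec_mulVec] using this
      have hfeq := (Submodule.equivMapOfInjective _ hinj P).finrank_eq
      rcases le_or_le_of_forall_mem hor with h | h
      · have := Submodule.finrank_mono h
        omega
      have hgP := mem_subspaceStabilizer_of_maps (g := g) (W := P) fun x hx => h ⟨x, hx, rfl⟩
      refine hgH ⟨mem_subspaceStabilizer_of_maps fun w hw => ?_, hMS hg⟩
      by_contra hgw
      obtain ⟨y, hy, hgy⟩ := exists_spPerp_of_notMem hgw
      have hy' : ((g⁻¹ : Matrix.GeneralLinearGroup _ F) : Matrix (Fin m ⊕ Fin m) (Fin m ⊕ Fin m) F) *ᵥ y ∈ P :=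
        maps_of_mem_subspaceStabilizer (inv_mem hgP) hy
      apply hgy
      have := hMS hg w (((g⁻¹ : Matrix.GeneralLinearGroup _ F) : Matrix (Fin m ⊕ Fin m) (Fin m ⊕ Fin m) F) *ᵥ y)
      simp only [Units.coeHom_apply, mulVec_mulVec_inv] at this
      rw [this]
      exact spPerp_comm hy' hw
    have hx₀ := (hbase M hM v (.inr hv)).conj hg (hMS hg)
    obtain ⟨a₀, ha₀, z₀, hz₀, hsum⟩ := hdec ((g : Matrix (Fin m ⊕ Fin m) (Fin m ⊕ Fin m) F) *ᵥ v)
    rw [← hsum] at hx₀
    have ha₀0 : a₀ ≠ 0 := by rintro rfl; exact hvP (by rw [← hsum, zero_add]; exact hz₀)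
    have hz₀0 : z₀ ≠ 0 := by rintro rfl; exact hvW (by rw [← hsum, add_zero]; exact ha₀)
    -- moving one component
    have stepW : ∀ a ∈ W, a ≠ 0 → ∀ z ∈ P, SpFull M (a + z) → ∀ b ∈ W,
        Cfsg.sympForm m F a b ≠ 0 → SpFull M (b + z) := by
      intro a ha _ z hz h b hb hab
      have := h.add (hbase M hM (b - a) (.inl (sub_mem hb ha))) (by
        rw [sub_eq_add_neg, ← neg_one_smul F a, sympForm_add_left, sympForm_add_right,
          sympForm_add_right, sympForm_smul_right, sympForm_smul_right, sympForm_self, hz b hb,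
          hz a ha]
        simpa using hab)
      convert this using 1; abel
    have stepP : ∀ a ∈ W, ∀ z ∈ P, SpFull M (a + z) → ∀ z' ∈ P,
        Cfsg.sympForm m F z z' ≠ 0 → SpFull M (a + z') := by
      intro a ha z hz h z' hz' hzz
      have := h.add (hbase M hM (z' - z) (.inr (sub_mem hz' hz))) (by
        rw [sub_eq_add_neg, ← neg_one_smul F z, sympForm_add_left, sympForm_add_right,
          sympForm_add_right, sympForm_smul_right, sympForm_smul_right, sympForm_self,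
          spPerp_comm hz ha, spPerp_comm hz' ha]
        simpa using hzz)
      convert this using 1; abel
    refine spGL_le_of_spFull fun x => ?_
    obtain ⟨a, ha, z, hz, rfl⟩ := hdec x
    rcases eq_or_ne a 0 with rfl | ha0
    · rw [zero_add]; exact hbase M hM z (.inr hz)
    rcases eq_or_ne z 0 with rfl | hz0
    · rw [add_zero]; exact hbase M hM a (.inl ha)
    have h1 : SpFull M (a + z₀) := by
      obtain ⟨c, hc, h1, h2⟩ := hmid a₀ ha₀ ha₀0 a ha ha0
      refine stepW c hc ?_ z₀ hz₀ (stepW a₀ ha₀ ha₀0 z₀ hz₀ hx₀ c hc h1) a ha h2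
      rintro rfl
      exact h2 (zero_dotProduct _)
    have hsep : ∀ u ∈ P, u ≠ 0 → ∃ v ∈ P, Cfsg.sympForm m F u v ≠ 0 := fun u hu hu0 => by
      obtain ⟨v, hv, huv⟩ := exists_spPerp_of_notMem (W := W) (x := u) fun huW => hu0 (by
        have h0 : u ∈ W ⊓ P := ⟨huW, hu⟩
        rwa [hbot] at h0)
      exact ⟨v, hv, huv⟩
    obtain ⟨u, hu, hzu⟩ := hsep z₀ hz₀ hz₀0
    obtain ⟨u', hu', hzu'⟩ := hsep z hz hz0
    obtain ⟨c, hc, h2, h3⟩ : ∃ c ∈ P, Cfsg.sympForm m F z₀ c ≠ 0 ∧ Cfsg.sympForm m F z c ≠ 0 := by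
      by_cases h : Cfsg.sympForm m F z u = 0
      · by_cases h' : Cfsg.sympForm m F z₀ u' = 0
        · exact ⟨u + u', add_mem hu hu', by rw [sympForm_add_right, h', add_zero]; exact hzu,
            by rw [sympForm_add_right, h, zero_add]; exact hzu'⟩
        · exact ⟨u', hu', h', hzu'⟩
      · exact ⟨u, hu, hzu, h⟩
    refine stepP a ha c hc (stepP a ha z₀ hz₀ h1 c hc h2) z hz ?_
    rw [sympForm_swap]
    exact neg_ne_zero.2 h3

end Cfsg.Agent.S5646
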