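import Cfsg.Statements.S5648
import Cfsg.Agent.Lib.MaxSub.DecompCoord
import Cfsg.Agent.Lib.MaxSub.Symp
import Mathlib.FieldTheory.Finite.Basic

set_option autoImplicit false
open Cfsg

namespace Cfsg.Agent.S5648

open CfsgLib.MaxSub CfsgLib.MaxSub.Decomp Cfsg.Geo

variable {F : Type*} [Field F] [Fintype F] {m t : ℕ}

theorem eq_zero_or_one (hq : Fintype.card F = 2) (a : F) : a = 0 ∨ a = 1 := by
  rcases eq_or_ne a 0 with h | h
  · exact Or.inl h
  · refine Or.inr ?_
    simpa [hq] using FiniteField.pow_card_sub_one_eq_one a h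

theorem two_zero (hq : Fintype.card F = 2) : (2 : F) = 0 := by
  have h := FiniteField.cast_card_eq_zero F
  rw [hq] at h
  exact_mod_cast h

/-- in a non-degenerate plane over two elements two distinct non-zero vectors meet in one -/
theorem plane_form (hq : Fintype.card F = 2) {W : Submodule F (Fin m ⊕ Fin m → F)}
    (hW : Module.finrank F W = 2) (hnd : IsNondegenerateOn (Cfsg.sympForm m F) W) {a b : Fin m ⊕ Fin m → F}
    (ha : a ∈ W) (hb : b ∈ W) (ha0 : a ≠ 0) (hb0 : b ≠ 0) (hab : a ≠ b) : Cfsg.sympForm m F a b = 1 := by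
  classical
  have hli : LinearIndependent F ![a, b] := by
    rw [LinearIndependent.pair_iff]
    intro s u hsu
    rcases eq_zero_or_one hq s with rfl | rfl <;> rcases eq_zero_or_one hq u with rfl | rfl
    · exact ⟨rfl, rfl⟩
    · simp at hsu; exact absurd hsu hb0
    · simp at hsu; exact absurd hsu ha0
    · simp at hsu
      refine absurd (funext fun i => ?_) hab
      have := congrFun hsu i
      simp only [Pi.add_apply, Pi.zero_apply] at this
      linear_combination this - b i * two_zero hq
  have hspan : Submodule.span F (Set.range ![a, b]) = W := Submodule.eq_of_le_of_finrank_eq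
    (Submodule.span_le.2 (by rintro _ ⟨k, rfl⟩; fin_cases k <;> assumption))
    (by rw [finrank_span_eq_card hli, hW, Fintype.card_fin])
  rw [Matrix.range_cons_cons_empty] at hspan
  obtain ⟨y, hy, hay⟩ := (hnd a ha ha0).2
  rw [← hspan] at hy
  obtain ⟨c, d, rfl⟩ := Submodule.mem_span_pair.1 hy
  rw [sympForm_add_right, sympForm_smul_right, sympForm_smul_right, sympForm_self, mul_zero, zero_add] at hay
  exact (eq_zero_or_one hq _).resolve_left (right_ne_zero_of_mul hay)

/-- the component in one member -/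
noncomputable def comp (ψ : (Fin m ⊕ Fin m → F) ≃ₗ[F] (Fin t → Fin 2 → F)) (i : Fin t)
    (x : Fin m ⊕ Fin m → F) : Fin m ⊕ Fin m → F := ψ.symm (Pi.single i (ψ x i))

theorem cnt_add (hq : Fintype.card F = 2) {D : Fin t → Submodule F (Fin m ⊕ Fin m → F)}
    (hD : IsNondegenerateMDecomposition (Cfsg.sympForm m F) 2 D)
    (ψ : (Fin m ⊕ Fin m → F) ≃ₗ[F] (Fin t → Fin 2 → F)) (hψ : ∀ x i, x ∈ D i ↔ ∀ j, j ≠ i → ψ x j = 0)
    (x y : Fin m ⊕ Fin m → F) :
    (cnt (ψ (x + y)) : F) = cnt (ψ x) + cnt (ψ y) + Cfsg.sympForm m F x y := by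
  classical
  have hsum : ∀ z, z = ∑ i, comp ψ i z := fun z => by
    unfold comp; rw [← map_sum, Finset.univ_sum_single, ψ.symm_apply_apply]
  have hB : Cfsg.sympForm m F x y = ∑ i, Cfsg.sympForm m F (comp ψ i x) (comp ψ i y) := by
    conv_lhs => rw [hsum x, hsum y]
    simp only [← CfsgLib.Geom.sympBilin_apply]
    rw [map_sum]
    refine Finset.sum_congr rfl fun i _ => ?_
    rw [map_sum, LinearMap.sum_apply, Finset.sum_eq_single i]
    · intro j _ hj
      rw [CfsgLib.Geom.sympBilin_apply]
      exact hD.orthogonal j i hj _ (single_of_coord ψ hψ j _) _ (single_of_coord ψ hψ i _)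
    · intro h; exact absurd (Finset.mem_univ i) h
  unfold cnt
  rw [hB, ← Finset.sum_add_distrib, ← Finset.sum_add_distrib, map_add]
  refine Finset.sum_congr rfl fun i _ => ?_
  rw [Pi.add_apply]
  have h2 := two_zero hq
  unfold comp
  by_cases ha : ψ x i = 0
  · rw [ha, zero_add, ind_zero, Pi.single_zero, map_zero, ← CfsgLib.Geom.sympBilin_apply, map_zero,
      LinearMap.zero_apply]
    ring
  by_cases hb : ψ y i = 0
  · rw [hb, add_zero, ind_zero, Pi.single_zero, map_zero, ← CfsgLib.Geom.sympBilin_apply, map_zero]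
    ring
  rw [ind_ne ha, ind_ne hb]
  by_cases hab : ψ x i = ψ y i
  · have h0 : ψ y i + ψ y i = 0 := funext fun k => by
      rw [Pi.add_apply, Pi.zero_apply]; linear_combination (ψ y i k) * h2
    rw [hab, h0, ind_zero, sympForm_self]
    linear_combination -h2
  · have hne : ψ x i + ψ y i ≠ 0 := fun e => hab (funext fun k => by
      have := congrFun e k
      simp only [Pi.add_apply, Pi.zero_apply] at this
      linear_combination this - (ψ y i k) * h2)
    have hinj : ∀ w : Fin 2 → F, ψ.symm (Pi.single i w) = 0 → w = 0 := fun w e =>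
      Pi.single_eq_zero_iff.1 (ψ.symm.injective (e.trans ψ.symm.map_zero.symm))
    rw [ind_ne hne, plane_form hq (hD.decomp.finrank_eq i) (hD.nondegenerate i)
      (single_of_coord ψ hψ i _) (single_of_coord ψ hψ i _) (fun e => ha (hinj _ e)) (fun e => hb (hinj _ e))
      (fun e => hab (Pi.single_injective i (ψ.symm.injective e)))]
    linear_combination -h2

/-- Over the field with 2 elements and for m ≥ 7, let D be a decomposition of F^(2m) into t pairwise orthogonal non-degenerate 2-dimensional subspaces for the standard alternating form (t = m ≥ 2). Then the elements of Sp_2m(2) permuting the members of D form a subgroup that is not maximal: some subgroup lies strictly between it and Sp_2m(2). -/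
theorem result {F : Type*} [Field F] [Fintype F] (m : ℕ) (hm : 7 ≤ m) (hq : Fintype.card F = 2) {t : ℕ} (D : Fin t → Submodule F (Fin m ⊕ Fin m → F)) (hD : Cfsg.Geo.IsNondegenerateMDecomposition (Cfsg.sympForm m F) 2 D) : ∃ K : Subgroup (Matrix.GeneralLinearGroup (Fin m ⊕ Fin m) F), Cfsg.Geo.decompositionStabilizer D ⊓ Cfsg.spGL m F < K ∧ K < Cfsg.spGL m F := by
  classical
  obtain ⟨ψ, hψ⟩ := exists_coord hD.decomp
  have htm : Fintype.card (Fin m ⊕ Fin m) = t * 2 := by
    have := ψ.finrank_eq
    simpa [Module.finrank_pi, Module.finrank_pi_fintype] using this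
  have ht : 3 ≤ t := by rw [Fintype.card_sum, Fintype.card_fin] at htm; omega
  let N : (Fin m ⊕ Fin m → F) → F := fun x => cnt (ψ x)
  let i : ℕ → Fin t := fun k => ⟨k % t, Nat.mod_lt _ (by omega)⟩
  have hi : ∀ a b, a < 3 → b < 3 → a ≠ b → i a ≠ i b := fun a b ha hb hab e => by
    have := congrArg Fin.val e
    simp [i, Nat.mod_eq_of_lt (show a < t by omega), Nat.mod_eq_of_lt (show b < t by omega)] at this
    exact hab this
  let w : Fin 2 → F := Pi.single 0 1
  have hw : w ≠ 0 := fun e => one_ne_zero (α := F) (Pi.single_eq_zero_iff.1 e)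
  -- a vector of the first member paired to one with the given first component
  have hpick : ∀ f : Fin t → Fin 2 → F, f (i 0) = w →
      ∃ x ∈ D (i 0), Cfsg.sympForm m F x (ψ.symm f) = 1 := by
    intro f hf
    have he := single_of_coord ψ hψ (i 0) w
    obtain ⟨x, hx, hxe⟩ := (hD.nondegenerate (i 0) _ he (fun e => hw (Pi.single_eq_zero_iff.1
      (ψ.symm.injective (e.trans ψ.symm.map_zero.symm))))).1
    refine ⟨x, hx, ?_⟩
    have h1 : Cfsg.sympForm m F x (ψ.symm f) = Cfsg.sympForm m F x (ψ.symm (Pi.single (i 0) w)) := by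
      conv_lhs => rw [← Finset.univ_sum_single f, map_sum]
      simp only [← CfsgLib.Geom.sympBilin_apply]
      rw [map_sum, Finset.sum_eq_single (i 0), hf]
      · intro j _ hj
        rw [CfsgLib.Geom.sympBilin_apply]
        exact hD.orthogonal _ _ hj.symm _ hx _ (single_of_coord ψ hψ j _)
      · intro h; exact absurd (Finset.mem_univ _) h
    rw [h1]
    exact (eq_zero_or_one hq _).resolve_left hxe
  refine ⟨keep N ⊓ Cfsg.spGL m F, lt_of_le_of_ne (inf_le_inf_right _ fun g hg x => cnt_stab ψ hψ hg x) ?_,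
    lt_of_le_of_ne inf_le_right ?_⟩
  · let f : Fin t → Fin 2 → F := Pi.single (i 0) w + Pi.single (i 1) w + Pi.single (i 2) w
    have hf : ∀ j, f j = Pi.single (M := fun _ => Fin 2 → F) (i 0) w j + Pi.single (M := fun _ => Fin 2 → F) (i 1) w j +
        Pi.single (M := fun _ => Fin 2 → F) (i 2) w j := fun j => rfl
    have hf0 : f (i 0) = w := by
      rw [hf, Pi.single_eq_same, Pi.single_eq_of_ne (hi 0 1 (by omega) (by omega) (by omega)),
        Pi.single_eq_of_ne (hi 0 2 (by omega) (by omega) (by omega))]; simp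
    have hf1 : f (i 1) = w := by
      rw [hf, Pi.single_eq_same, Pi.single_eq_of_ne (hi 1 0 (by omega) (by omega) (by omega)),
        Pi.single_eq_of_ne (hi 1 2 (by omega) (by omega) (by omega))]; simp
    have hf2 : f (i 2) = w := by
      rw [hf, Pi.single_eq_same, Pi.single_eq_of_ne (hi 2 0 (by omega) (by omega) (by omega)),
        Pi.single_eq_of_ne (hi 2 1 (by omega) (by omega) (by omega))]; simp
    have hNv : (cnt f : F) = 1 := by
      unfold cnt
      have hsub : (Finset.univ : Finset (Fin t)).sum (fun j => (ind (f j) : F)) =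
          ∑ j ∈ ({i 0, i 1, i 2} : Finset (Fin t)), ind (f j) := by
        refine (Finset.sum_subset (Finset.subset_univ _) fun j _ hj => ?_).symm
        simp only [Finset.mem_insert, Finset.mem_singleton, not_or] at hj
        rw [hf, Pi.single_eq_of_ne hj.1, Pi.single_eq_of_ne hj.2.1, Pi.single_eq_of_ne hj.2.2]
        simp [ind_zero]
      rw [hsub, Finset.sum_insert (by simp [hi 0 1, hi 0 2]), Finset.sum_insert (by simp [hi 1 2]),
        Finset.sum_singleton, hf0, hf1, hf2, ind_ne hw]
      linear_combination two_zero hq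
    set g := tvGL (ψ.symm f) ((1 : F) • (Matrix.J (Fin m) F).mulVec (ψ.symm f)) (spDual_smul_dot 1 _) with hg
    have hgv : ∀ x, (g : Matrix (Fin m ⊕ Fin m) (Fin m ⊕ Fin m) F).mulVec x =
        x + Cfsg.sympForm m F x (ψ.symm f) • ψ.symm f := fun x => by
      rw [hg, coe_tvGL, spTv_mulVec, one_mul]
    have hgK : g ∈ keep N ⊓ Cfsg.spGL m F := by
      refine ⟨fun x => ?_, spTv_mem_spGL _ _⟩
      show cnt (ψ _) = cnt (ψ x)
      rw [hgv]
      rcases eq_zero_or_one hq (Cfsg.sympForm m F x (ψ.symm f)) with h | h <;> rw [h]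
      · rw [zero_smul, add_zero]
      · rw [one_smul, cnt_add hq hD ψ hψ, ψ.apply_symm_apply, hNv, h]
        linear_combination two_zero hq
    intro e
    have hgS : g ∈ decompositionStabilizer D := ((e.symm ▸ hgK :
      g ∈ decompositionStabilizer D ⊓ Cfsg.spGL m F)).1
    obtain ⟨x, hx, hxf⟩ := hpick f hf0
    have hx' := (hψ x (i 0)).1 hx
    refine notMem_stab ψ hψ hx (a := i 1) (b := i 2) (hi 1 2 (by omega) (by omega) (by omega)) ?_ ?_ hgS
    all_goals rw [hgv, hxf, one_smul, map_add, ψ.apply_symm_apply, Pi.add_apply]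
    · rw [hx' _ (hi 1 0 (by omega) (by omega) (by omega)), hf1, zero_add]; exact hw
    · rw [hx' _ (hi 2 0 (by omega) (by omega) (by omega)), hf2, zero_add]; exact hw
  · intro e
    let f : Fin t → Fin 2 → F := Pi.single (i 0) w + Pi.single (i 1) w
    have h01 := hi 0 1 (by omega) (by omega) (by omega)
    have hf0 : f (i 0) = w := by
      show Pi.single (M := fun _ => Fin 2 → F) (i 0) w (i 0) + Pi.single (M := fun _ => Fin 2 → F) (i 1) w (i 0) = w
      rw [Pi.single_eq_same, Pi.single_eq_of_ne h01, add_zero]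
    have hNv : (cnt f : F) = 0 := by
      unfold cnt
      rw [Finset.sum_eq_add (i 0) (i 1) h01]
      · simp [f, Pi.single_eq_of_ne h01, Pi.single_eq_of_ne h01.symm, ind_ne hw]
        linear_combination two_zero hq
      · intro j _ hj; simp [f, Pi.single_eq_of_ne hj.1, Pi.single_eq_of_ne hj.2, ind_zero]
      · simp
      · simp
    obtain ⟨x, hx, hxf⟩ := hpick f hf0
    have hT := spTv_mem_spGL (ψ.symm f) (1 : F)
    rw [← e] at hT
    have h1 := hT.1 x
    rw [coe_tvGL, spTv_mulVec, one_mul, hxf, one_smul] at h1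
    simp only [N, hxf, cnt_add hq hD ψ hψ, ψ.apply_symm_apply, hNv] at h1
    exact one_ne_zero (α := F) (by linear_combination h1)

end Cfsg.Agent.S5648
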