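import Cfsg.Statements.S5649
import Cfsg.Agent.Lib.MaxSub.SpPolar
-- import your own Cfsg.Agent.* helpers here

set_option autoImplicit false
open Cfsg

namespace Cfsg.Agent.S5649

/-- the maximality for `m ≥ 5` -/
theorem base {F : Type*} [Field F] [Fintype F] (m : ℕ) (hm : 5 ≤ m) (hodd : Odd (Fintype.card F)) (D : Fin 2 → Submodule F (Fin m ⊕ Fin m → F)) (hD : Cfsg.Geo.IsMDecomposition m D) (hts : ∀ i, Cfsg.Geo.IsTotallySingularFor (Cfsg.sympForm m F) (D i)) : Cfsg.Geo.IsMaximalIn (Cfsg.spGL m F) (Cfsg.Geo.decompositionStabilizer D ⊓ Cfsg.spGL m F) := by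
  open Matrix CfsgLib.MaxSub in
  let A := D 0
  let B := D 1
  have h2 : (2 : F) ≠ 0 := by
    intro h
    have hc : ringChar F = 2 := by
      have := CharP.charP_iff_prime_eq_zero Nat.prime_two |>.2 (by exact_mod_cast h : ((2 : ℕ) : F) = 0)
      exact ringChar.eq F 2
    exact (Nat.not_even_iff_odd.2 hodd) (Nat.even_iff.2 (FiniteField.even_card_of_char_two hc))
  have P : SpPolar A B := by
    refine ⟨hts 0, hts 1, disjoint_iff.1 (hD.indep.pairwiseDisjoint (by decide : (0 : Fin 2) ≠ 1)),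
      ?_, hD.finrank_eq 0, hD.finrank_eq 1⟩
    rw [eq_top_iff, ← hD.iSup_eq_top, iSup_le_iff]
    intro i
    fin_cases i
    · exact le_sup_left
    · exact le_sup_right
  have hmem : ∀ g : Matrix.GeneralLinearGroup (Fin m ⊕ Fin m) F, ∀ σ : Equiv.Perm (Fin 2),
      (∀ i, ∀ x ∈ D i, (g : Matrix (Fin m ⊕ Fin m) (Fin m ⊕ Fin m) F) *ᵥ x ∈ D (σ i)) →
      g ∈ Cfsg.Geo.decompositionStabilizer D := by
    intro g σ h
    refine ⟨σ, fun i => ?_⟩
    have hinj : Function.Injective
        (Matrix.toLin' (g : Matrix (Fin m ⊕ Fin m) (Fin m ⊕ Fin m) F)) := fun x y e => by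
      have := congrArg
        (((g⁻¹ : Matrix.GeneralLinearGroup _ F) : Matrix (Fin m ⊕ Fin m) (Fin m ⊕ Fin m) F) *ᵥ ·) e
      simpa [inv_mulVec_mulVec] using this
    refine Submodule.eq_of_le_of_finrank_eq (by rintro _ ⟨x, hx, rfl⟩; exact h i x hx) ?_
    rw [← (Submodule.equivMapOfInjective _ hinj (D i)).finrank_eq, hD.finrank_eq, hD.finrank_eq]
  have hSieg : ∀ u ∈ A, ∀ α ∈ B, ∀ h : Cfsg.sympForm m F u α = 0,
      spSieg u α h ∈ Cfsg.Geo.decompositionStabilizer D ⊓ Cfsg.spGL m F := by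
    intro u hu α hα h
    refine ⟨hmem _ 1 fun i x hx => ?_, spSieg_mem_spGL _ _ _⟩
    rw [spSieg_mulVec, Equiv.Perm.one_apply]
    fin_cases i
    · rw [P.isoA u hu x hx, zero_smul, add_zero]
      exact add_mem hx (A.smul_mem _ hu)
    · rw [P.isoB α hα x hx, zero_smul, add_zero]
      exact add_mem hx (B.smul_mem _ hα)
  refine isMaximalIn_of_lt (lt_of_le_of_ne inf_le_right fun he => ?_) fun M hM hMS g hg hgH => ?_
  · obtain ⟨a, ha, ha0⟩ := A.exists_mem_ne_zero_of_ne_bot (by
      intro e; have := P.dimA; rw [e, finrank_bot] at this; omega)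
    obtain ⟨b, hb, hb0⟩ := B.exists_mem_ne_zero_of_ne_bot (by
      intro e; have := P.dimB; rw [e, finrank_bot] at this; omega)
    obtain ⟨c, hc, hcb⟩ : ∃ c ∈ A, Cfsg.sympForm m F c b ≠ 0 := by
      by_contra hno
      push Not at hno
      exact hb0 (P.zero_of_orth (fun x hx => sympForm_eq_zero_swap (hno x hx))
        fun x hx => P.isoB b hb x hx)
    -- a vector of `A` independent of `a` seen by `b`
    obtain ⟨x, hx, hxb, hxa⟩ : ∃ x ∈ A, Cfsg.sympForm m F x b ≠ 0 ∧ x ∉ Submodule.span F {a} := by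
      by_cases h : c ∈ Submodule.span F {a}
      · obtain ⟨d, hd, hd'⟩ := exists_notMem_span_pair (U := A ⊓ LinearMap.ker (spLin b)) a a (by
          have := finrank_le_inf_ker A (spLin b); rw [P.dimA] at this; omega)
        refine ⟨c + d, add_mem hc hd.1, ?_, fun h' => hd' ?_⟩
        · rw [sympForm_add_left, show Cfsg.sympForm m F d b = 0 from hd.2, add_zero]; exact hcb
        · have := sub_mem h' h
          rw [add_sub_cancel_left] at this
          exact Submodule.span_mono (by simp) this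
      · exact ⟨c, hc, hcb, h⟩
    have hT := spTv_mem_spGL (a + b) (1 : F)
    rw [← he] at hT
    obtain ⟨σ, hσ⟩ := hT.1
    have him : (tvMat (a + b) ((1 : F) • (Matrix.J (Fin m) F *ᵥ (a + b)))) *ᵥ x ∈ D (σ 0) := by
      rw [← hσ 0]; exact ⟨x, hx, rfl⟩
    rw [spTv_mulVec, one_mul, sympForm_add_right, P.isoA x hx a ha, zero_add, smul_add] at him
    rcases Fin.exists_fin_two.1 ⟨σ 0, rfl⟩ with h | h <;> rw [h] at him
    · rw [← add_assoc] at him
      have := (Submodule.add_mem_iff_right A (add_mem hx (A.smul_mem _ ha))).1 him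
      exact hb0 (P.zero_of_mem ((A.smul_mem_iff hxb).1 this) hb)
    · rw [← add_assoc] at him
      have := (Submodule.add_mem_iff_left B (B.smul_mem _ hb)).1 him
      have h0 := P.zero_of_mem (add_mem hx (A.smul_mem _ ha)) this
      exact hxa (Submodule.mem_span_singleton.2 ⟨-Cfsg.sympForm m F x b, by
        rw [neg_smul]; exact neg_eq_of_add_eq_zero_left h0⟩)
  · have hM' : ∀ u ∈ A, ∀ α ∈ B, ∀ h : Cfsg.sympForm m F u α = 0, spSieg u α h ∈ M :=
      fun u hu α hα h => hM (hSieg u hu α hα h)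
    have hM'' : ∀ u ∈ B, ∀ α ∈ A, ∀ h : Cfsg.sympForm m F u α = 0, spSieg u α h ∈ M :=
      fun u hu α hα h => by rw [spSieg_comm]; exact hM' α hα u hu _
    let G := (g : Matrix (Fin m ⊕ Fin m) (Fin m ⊕ Fin m) F)
    have hgS := hMS hg
    have hinj : ∀ x, G *ᵥ x = 0 → x = 0 := fun x e => by
      rw [← inv_mulVec_mulVec g x, show (g : Matrix (Fin m ⊕ Fin m) (Fin m ⊕ Fin m) F) *ᵥ x = 0 from e,
        mulVec_zero]
    -- a conjugate leaving both subspaces
    obtain ⟨U, U', hpol, hUM, u, hu, huA, huB⟩ : ∃ U U', SpPolar U U' ∧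
        (∀ u ∈ U, ∀ α ∈ U', ∀ h : Cfsg.sympForm m F u α = 0, spSieg u α h ∈ M) ∧
        ∃ u ∈ U, G *ᵥ u ∉ A ∧ G *ᵥ u ∉ B := by
      by_contra hno
      push Not at hno
      have hA' : ∀ x ∈ A.map (Matrix.toLin' G), x ∈ A ∨ x ∈ B := by
        rintro _ ⟨x, hx, rfl⟩
        exact or_iff_not_imp_left.2 (hno A B P hM' x hx)
      have hB' : ∀ x ∈ B.map (Matrix.toLin' G), x ∈ A ∨ x ∈ B := by
        rintro _ ⟨x, hx, rfl⟩
        exact or_iff_not_imp_left.2 (hno B A P.symm hM'' x hx)
      have hnotboth : ∀ W : Submodule F (Fin m ⊕ Fin m → F), Module.finrank F W = m →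
          A.map (Matrix.toLin' G) ≤ W → B.map (Matrix.toLin' G) ≤ W → False := by
        intro W hW h h'
        have htop : (⊤ : Submodule F (Fin m ⊕ Fin m → F)).map (Matrix.toLin' G) ≤ W := by
          rw [← P.sup_eq, Submodule.map_sup]; exact sup_le h h'
        rw [Submodule.map_top] at htop
        have := Submodule.finrank_mono htop
        rw [LinearMap.finrank_range_of_inj (fun x y e => sub_eq_zero.1 (hinj _ (by
          rw [mulVec_sub]; exact sub_eq_zero.2 e))), Module.finrank_pi, Fintype.card_sum,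
          Fintype.card_fin, hW] at this
        omega
      apply hgH
      refine ⟨?_, hgS⟩
      rcases le_or_le_of_forall_mem hA' with h | h <;> rcases le_or_le_of_forall_mem hB' with h' | h'
      · exact (hnotboth A P.dimA h h').elim
      · refine hmem g 1 fun i x hx => ?_
        fin_cases i
        · exact h ⟨x, hx, rfl⟩
        · exact h' ⟨x, hx, rfl⟩
      · refine hmem g (Equiv.swap 0 1) fun i x hx => ?_
        fin_cases i
        · exact h ⟨x, hx, rfl⟩
        · exact h' ⟨x, hx, rfl⟩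
      · exact (hnotboth B P.dimB h h').elim
    obtain ⟨w, hw, w', hw', hsum⟩ := P.decomp (G *ᵥ u)
    have hw0 : w ≠ 0 := by rintro rfl; exact huB (by rw [← hsum, zero_add]; exact hw')
    have hw'0 : w' ≠ 0 := by rintro rfl; exact huA (by rw [← hsum, add_zero]; exact hw)
    -- an orthogonal partner outside `span {w, w'}`
    obtain ⟨α, hα, hαout⟩ : ∃ α ∈ U' ⊓ LinearMap.ker (spLin u),
        G *ᵥ α ∉ Submodule.span F {w, w'} := by
      obtain ⟨α, hα, hαout⟩ := exists_notMem_span_pair (U := U' ⊓ LinearMap.ker (spLin u))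
        (((g⁻¹ : Matrix.GeneralLinearGroup _ F) : Matrix (Fin m ⊕ Fin m) (Fin m ⊕ Fin m) F) *ᵥ w)
        (((g⁻¹ : Matrix.GeneralLinearGroup _ F) : Matrix (Fin m ⊕ Fin m) (Fin m ⊕ Fin m) F) *ᵥ w')
        (by have := finrank_le_inf_ker U' (spLin u); rw [hpol.dimB] at this; omega)
      refine ⟨α, hα, fun h => hαout ?_⟩
      obtain ⟨i, j, e⟩ := Submodule.mem_span_pair.1 h
      refine Submodule.mem_span_pair.2 ⟨i, j, ?_⟩
      rw [← mulVec_smul, ← mulVec_smul, ← mulVec_add, e]
      exact inv_mulVec_mulVec g α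
    have hαu : Cfsg.sympForm m F α u = 0 := hα.2
    have hab : Cfsg.sympForm m F (G *ᵥ α) (G *ᵥ u) = 0 := (spGL_form hgS α u).trans hαu
    have hS : spSieg (G *ᵥ α) (G *ᵥ u) hab ∈ M := by
      have h1 := hUM u hu α hα.1 (sympForm_eq_zero_swap hαu)
      rw [spSieg_comm] at h1
      have h2 := mul_mem (mul_mem hg h1) (inv_mem hg)
      rwa [spSieg_conj hgS] at h2
    obtain ⟨a₁, ha₁, a₂, ha₂, hasum⟩ := P.decomp (G *ᵥ α)
    obtain ⟨s, hsS, hsA, hsB⟩ := P.exists_swap
    have hsH : s ∈ M := hM ⟨hmem s (Equiv.swap 0 1) fun i x hx => by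
      fin_cases i
      · exact hsA x hx
      · exact hsB x hx, hsS⟩
    have hmove : ∀ U U' : Submodule F (Fin m ⊕ Fin m → F),
        (∀ x ∈ U, (s : Matrix (Fin m ⊕ Fin m) (Fin m ⊕ Fin m) F) *ᵥ x ∈ U') →
        Module.finrank F U = m → Module.finrank F U' = m →
        (∀ x ∈ U, SpFull M x) → ∀ y ∈ U', SpFull M y := by
      intro U U' h hU hU' hF y hy
      have hinjs : Function.Injective
          (Matrix.toLin' (s : Matrix (Fin m ⊕ Fin m) (Fin m ⊕ Fin m) F)) := fun x y e => by
        have := congrArg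
          (((s⁻¹ : Matrix.GeneralLinearGroup _ F) : Matrix (Fin m ⊕ Fin m) (Fin m ⊕ Fin m) F) *ᵥ ·) e
        simpa [inv_mulVec_mulVec] using this
      have he : U.map (Matrix.toLin' (s : Matrix (Fin m ⊕ Fin m) (Fin m ⊕ Fin m) F)) = U' :=
        Submodule.eq_of_le_of_finrank_eq (by rintro _ ⟨x, hx, rfl⟩; exact h x hx)
          (by rw [← (Submodule.equivMapOfInjective _ hinjs U).finrank_eq, hU, hU'])
      rw [← he] at hy
      obtain ⟨x, hx, rfl⟩ := hy
      exact (hF x hx).conj hsH hsS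
    have hAB : (∀ x ∈ A, SpFull M x) ∧ ∀ x ∈ B, SpFull M x := by
      by_cases h : a₁ ∈ Submodule.span F {w}
      · have hFB : ∀ x ∈ B, SpFull M x := P.symm.spFull_of_pair hM'' h2 (by omega) hMS ha₂ ha₁
          (by rw [add_comm]; exact hasum) hw' hw (by rw [add_comm]; exact hsum) hab hS hw'0
          fun h' => hαout (by
            rw [← hasum]
            exact add_mem (Submodule.span_mono (by simp) h) (Submodule.span_mono (by simp) h'))
        exact ⟨hmove B A hsB P.dimB P.dimA hFB, hFB⟩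
      · have hFA : ∀ x ∈ A, SpFull M x :=
          P.spFull_of_pair hM' h2 (by omega) hMS ha₁ ha₂ hasum hw hw' hsum hab hS hw0 h
        exact ⟨hFA, hmove A B hsA P.dimA P.dimB hFA⟩
    refine spGL_le_of_spFull fun x => ?_
    obtain ⟨a, ha, b, hb, rfl⟩ := P.decomp x
    by_cases h : Cfsg.sympForm m F a b = 0
    · rcases eq_or_ne b 0 with rfl | hb0
      · rw [add_zero]; exact hAB.1 a ha
      obtain ⟨y, hy, hyb⟩ : ∃ y ∈ A, Cfsg.sympForm m F y b ≠ 0 := by
        by_contra hno
        push Not at hno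
        exact hb0 (P.zero_of_orth (fun x hx => sympForm_eq_zero_swap (hno x hx))
          fun x hx => P.isoB b hb x hx)
      have h1 : SpFull M (a - y + b) := (hAB.1 _ (sub_mem ha hy)).add (hAB.2 b hb) (by
        rw [sub_eq_add_neg, ← neg_one_smul F y, sympForm_add_left, sympForm_smul_left, h]
        simpa using hyb)
      have := h1.add (hAB.1 y hy) (by
        rw [sympForm_add_left, P.isoA _ (sub_mem ha hy) y hy, zero_add, sympForm_swap]
        exact neg_ne_zero.2 hyb)
      convert this using 1; abel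
    · exact (hAB.1 a ha).add (hAB.2 b hb) h

/-- For a finite field F of odd order and m ≥ 7, let D be a decomposition of F^(2m) into two complementary subspaces of dimension m on each of which the standard alternating form vanishes identically. Then the elements of Sp_2m(F) preserving or interchanging the two subspaces form a maximal subgroup of Sp_2m(F). -/
theorem result {F : Type*} [Field F] [Fintype F] (m : ℕ) (hm : 7 ≤ m) (hodd : Odd (Fintype.card F)) (D : Fin 2 → Submodule F (Fin m ⊕ Fin m → F)) (hD : Cfsg.Geo.IsMDecomposition m D) (hts : ∀ i, Cfsg.Geo.IsTotallySingularFor (Cfsg.sympForm m F) (D i)) : Cfsg.Geo.IsMaximalIn (Cfsg.spGL m F) (Cfsg.Geo.decompositionStabilizer D ⊓ Cfsg.spGL m F) :=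
  base m (by omega) hodd D hD hts

end Cfsg.Agent.S5649
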