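import Cfsg.Statements.S5650
import Cfsg.Agent.Lib.MaxSub.SkewSubfield
import Cfsg.Agent.Lib.MaxSub.SympFull

set_option autoImplicit false
open Cfsg

namespace Cfsg.Agent.S5650

open CfsgLib.MaxSub

/-- the maximality for `m ≥ 5` -/
theorem base {F : Type*} [Field F] [Fintype F] (m : ℕ) (hm : 5 ≤ m) (F₀ : Subfield F) (r : ℕ) (hr : r.Prime) (hcard : Fintype.card F = Nat.card F₀ ^ r) (P : Matrix.GeneralLinearGroup (Fin m ⊕ Fin m) F) (ζ : F) (hζ : ζ ≠ 0) (hP : Cfsg.Geo.IsFormRationalStructure (Cfsg.sympForm m F) F₀ ζ P) : Cfsg.Geo.IsMaximalIn (Cfsg.spGL m F) (Cfsg.Geo.subfieldSubgroup F₀ P ⊓ Cfsg.spGL m F) := by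
  classical
  let B : (Fin m ⊕ Fin m → F) →ₛₗ[RingHom.id F] (Fin m ⊕ Fin m → F) →ₗ[F] F :=
    LinearMap.mk₂'ₛₗ (RingHom.id F) (RingHom.id F) (fun v x => ζ * Cfsg.sympForm m F x v)
      (fun a b x => by simp only [sympForm_add_right]; ring)
      (fun c a x => by simp only [sympForm_smul_right, RingHom.id_apply, smul_eq_mul]; ring)
      (fun a b x => by simp only [sympForm_add_left]; ring)
      (fun c a x => by simp only [sympForm_smul_left, RingHom.id_apply, smul_eq_mul]; ring)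
  have hBv : ∀ v x, B v x = ζ * Cfsg.sympForm m F x v := fun v x => rfl
  have halt : ∀ v, B v v = 0 := fun v => by rw [hBv, sympForm_self, mul_zero]
  refine skew_isMaximalIn B ⟨fun a => rfl, fun x y => ?_, fun x hx => ?_⟩ F₀ r hr hcard ?_ P
    (fun u v => hP _ _ (fun i => (v i).2) fun i => (u i).2) (fun x hx => hx)
    (fun W hW => ?_) (fun z e _ _ => ⟨0, halt _⟩) (fun S hS k _ => ?_) _ (fun g hg x y => ?_)
    (fun x k _ _ => ?_) (fun M hM => spGL_le_of_hasSpTv fun v c _ => ?_)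
  · rw [hBv, hBv, sympForm_swap y x, RingHom.id_apply]; ring
  · refine CfsgLib.Geom.sympBilin_sep x fun y => ?_
    rw [CfsgLib.Geom.sympBilin_apply]
    exact (mul_eq_zero.1 (hBv y x ▸ hx y)).resolve_left hζ
  · rw [Fintype.card_sum, Fintype.card_fin]; omega
  · obtain ⟨v, hv, hv0⟩ := Submodule.exists_mem_ne_zero_of_ne_bot (p := W) fun e => by
      rw [e, finrank_bot] at hW; omega
    exact ⟨v, hv, hv0, halt _⟩
  · by_cases h2 : (2 : F) = 0
    · obtain ⟨a, rfl⟩ := CfsgLib.Geom.isSquare_of_two_eq_zero h2 k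
      exact hS a
    · have := sub_mem (hS ((k + 1) / 2)) (hS ((k - 1) / 2))
      convert this using 1
      simp only [RingHom.id_apply]
      field_simp
      ring
  · rw [hBv, hBv]
    exact congrArg (ζ * ·) (hg x y)
  · refine ⟨_, spTv_mem_spGL x (k * ζ), fun y => ?_⟩
    rw [coe_tvGL, spTv_mulVec, hBv, mul_assoc]
  · obtain ⟨g, hg, hgv⟩ := hM v (c * ζ⁻¹) (halt v) rfl
    rw [hasSpTv_iff]
    convert hg using 1
    refine Units.ext (Matrix.ext_of_mulVec_single fun i => ?_)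
    rw [coe_tvGL, spTv_mulVec, hgv, hBv, ← mul_assoc, mul_assoc c, inv_mul_cancel₀ hζ, mul_one]

/-- For a finite field F, a subfield F₀ with |F| = |F₀| ^ r for a prime r, and m ≥ 7, let P be an invertible matrix and ζ a non-zero scalar such that ζ times the standard alternating form takes values in F₀ on the F₀-span of the columns of P. Then the elements of Sp_2m(F) lying in the subfield group of P (the conjugate by P of the product of GL_2m(F₀) with the scalars) form a maximal subgroup of Sp_2m(F). -/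
theorem result {F : Type*} [Field F] [Fintype F] (m : ℕ) (hm : 7 ≤ m) (F₀ : Subfield F) (r : ℕ) (hr : r.Prime) (hcard : Fintype.card F = Nat.card F₀ ^ r) (P : Matrix.GeneralLinearGroup (Fin m ⊕ Fin m) F) (ζ : F) (hζ : ζ ≠ 0) (hP : Cfsg.Geo.IsFormRationalStructure (Cfsg.sympForm m F) F₀ ζ P) : Cfsg.Geo.IsMaximalIn (Cfsg.spGL m F) (Cfsg.Geo.subfieldSubgroup F₀ P ⊓ Cfsg.spGL m F) :=
  base m (by omega) F₀ r hr hcard P ζ hζ hP

end Cfsg.Agent.S5650
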