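import Cfsg.Statements.S5656
import Cfsg.Agent.Lib.MaxSub.DecompCoord
import Mathlib.LinearAlgebra.Transvection.Basic
import Mathlib.FieldTheory.Finite.Basic

set_option autoImplicit false
open Cfsg

namespace Cfsg.Agent.S5656

open CfsgLib.MaxSub.Decomp Cfsg.Geo

variable {F : Type*} [Field F] [Fintype F] {n : ℕ}

theorem two_zero (hF : Fintype.card F = 4) : (2 : F) = 0 := by
  have h := FiniteField.cast_card_eq_zero F
  rw [hF] at h
  have h4 : (4 : F) = 0 := by exact_mod_cast h
  exact (mul_eq_zero.1 (show (2 : F) * 2 = 0 by linear_combination h4)).elim id id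

theorem cube (hF : Fintype.card F = 4) {c : F} (hc : c ≠ 0) : c ^ 3 = 1 := by
  have := FiniteField.pow_card_sub_one_eq_one c hc
  rwa [hF] at this

theorem fourth (hF : Fintype.card F = 4) (c : F) : (c ^ 2) ^ 2 = c := by
  have := FiniteField.pow_card c
  rw [hF] at this
  rw [← pow_mul]; exact this

local notation "H" => Cfsg.hermForm n F 2

theorem h_add_left (u v w : Fin n → F) : H (u + v) w = H u w + H v w := by
  simp [Cfsg.hermForm, add_mul, Finset.sum_add_distrib]

theorem h_smul_left (c : F) (u w : Fin n → F) : H (c • u) w = c * H u w := by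
  simp [Cfsg.hermForm, Finset.mul_sum, mul_assoc]

theorem h_add_right (hF : Fintype.card F = 4) (u v w : Fin n → F) : H w (u + v) = H w u + H w v := by
  simp only [Cfsg.hermForm, ← Finset.sum_add_distrib, Pi.add_apply]
  exact Finset.sum_congr rfl fun i _ => by linear_combination (w i * u i * v i) * two_zero hF

theorem h_smul_right (c : F) (u w : Fin n → F) : H u (c • w) = c ^ 2 * H u w := by
  simp [Cfsg.hermForm, Finset.mul_sum, mul_pow, mul_left_comm]

theorem h_swap (hF : Fintype.card F = 4) (u v : Fin n → F) : H v u = (H u v) ^ 2 := by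
  haveI : CharP F 2 := (CharP.charP_iff_prime_eq_zero Nat.prime_two).2 (by exact_mod_cast two_zero hF)
  simp only [Cfsg.hermForm, CharTwo.sum_sq, mul_pow, fourth hF]
  exact Finset.sum_congr rfl fun i _ => mul_comm _ _

theorem h_self (hF : Fintype.card F = 4) (u : Fin n → F) : H u u = 0 ∨ H u u = 1 := by
  rcases eq_or_ne (H u u) 0 with h | h
  · exact Or.inl h
  · refine Or.inr (mul_left_cancel₀ h ?_)
    rw [mul_one, ← pow_two]; exact (h_swap hF u u).symm

theorem h_eq_zero_comm (hF : Fintype.card F = 4) {u v : Fin n → F} (h : H u v = 0) : H v u = 0 := by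
  rw [h_swap hF, h, zero_pow two_ne_zero]

/-- an orthonormal pair spanning a non-degenerate plane -/
theorem exists_frame (hF : Fintype.card F = 4) {W : Submodule F (Fin n → F)} (hW : Module.finrank F W = 2)
    (hnd : IsNondegenerateOn H W) :
    ∃ a b, a ∈ W ∧ b ∈ W ∧ H a a = 1 ∧ H b b = 1 ∧ H a b = 0 ∧ ∀ x ∈ W, ∃ s u : F, x = s • a + u • b := by
  classical
  have h2 := two_zero hF
  obtain ⟨a, haW, haa⟩ : ∃ a ∈ W, H a a = 1 := by
    by_contra hno
    push Not at hno
    have h0 : ∀ x ∈ W, H x x = 0 := fun x hx => (h_self hF x).resolve_right (hno x hx)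
    obtain ⟨w, hw, hw0⟩ := W.exists_mem_ne_zero_of_ne_bot (by intro e; rw [e, finrank_bot] at hW; omega)
    obtain ⟨x, hx, hxw⟩ := (hnd w hw hw0).1
    obtain ⟨k, hk0, hkc⟩ : ∃ k : F, k ≠ 0 ∧ k ≠ H x w := by
      by_contra hno'
      push Not at hno'
      have : Fintype.card F ≤ 2 := (Finset.card_le_card (show Finset.univ ⊆ ({0, H x w} : Finset F) from fun k _ => by
        rcases eq_or_ne k 0 with rfl | hk
        · simp
        · simp [hno' k hk])).trans Finset.card_le_two
      omega
    have h1 := h0 _ (add_mem hx (W.smul_mem k hw))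
    rw [h_add_left, h_add_right hF, h_add_right hF, h_smul_left, h_smul_left, h_smul_right, h_smul_right,
      h0 x hx, h0 w hw, h_swap hF x w] at h1
    have h3 : k * H x w * (k + H x w) = 0 := by linear_combination h1
    rcases mul_eq_zero.1 h3 with h | h
    · exact (mul_ne_zero hk0 hxw) h
    · exact hkc (by linear_combination h - H x w * h2)
  obtain ⟨w, hw, hwa⟩ : ∃ w ∈ W, w ∉ Submodule.span F {a} := by
    by_contra hno
    push Not at hno
    have := (Submodule.finrank_mono (show W ≤ Submodule.span F {a} from hno)).trans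
      (finrank_span_le_card ({a} : Set (Fin n → F)))
    simp [hW] at this
  set b := w + H w a • a with hb
  have hbW : b ∈ W := add_mem hw (W.smul_mem _ haW)
  have hba : H b a = 0 := by
    rw [hb, h_add_left, h_smul_left, haa]; linear_combination (H w a) * h2
  have hspan : ∀ x ∈ W, ∃ s u : F, x = s • a + u • b := by
    have hli : LinearIndependent F ![a, b] := by
      rw [LinearIndependent.pair_iff]
      intro s u hsu
      have h1 := congrArg (fun y => H y a) hsu
      simp only [h_add_left, h_smul_left, haa, hba, mul_one, mul_zero, add_zero] at h1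
      rw [show H (0 : Fin n → F) a = 0 by simp [Cfsg.hermForm]] at h1
      rw [h1, zero_smul, zero_add, smul_eq_zero] at hsu
      refine ⟨h1, hsu.resolve_right fun e => hwa (Submodule.mem_span_singleton.2 ⟨-H w a, ?_⟩)⟩
      rw [neg_smul]; exact neg_eq_of_add_eq_zero_left e
    have hs : Submodule.span F (Set.range ![a, b]) = W := Submodule.eq_of_le_of_finrank_eq
      (Submodule.span_le.2 (by rintro _ ⟨k, rfl⟩; fin_cases k <;> assumption))
      (by rw [finrank_span_eq_card hli, hW, Fintype.card_fin])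
    rw [Matrix.range_cons_cons_empty] at hs
    intro x hx
    rw [← hs] at hx
    obtain ⟨s, u, e⟩ := Submodule.mem_span_pair.1 hx
    exact ⟨s, u, e.symm⟩
  refine ⟨a, b, haW, hbW, haa, ?_, h_eq_zero_comm hF hba, hspan⟩
  refine (h_self hF b).resolve_left fun hbb => ?_
  have hb0 : b ≠ 0 := fun e => hwa (Submodule.mem_span_singleton.2 ⟨-H w a, by
    rw [neg_smul]; exact neg_eq_of_add_eq_zero_left (hb ▸ e)⟩)
  obtain ⟨x, hx, hxb⟩ := (hnd b hbW hb0).1
  obtain ⟨s, u, rfl⟩ := hspan x hx
  exact hxb (by rw [h_add_left, h_smul_left, h_smul_left, h_eq_zero_comm hF hba, hbb]; ring)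

/-- the functional of a vector -/
def hLin (v : Fin n → F) : Module.Dual F (Fin n → F) where
  toFun x := H x v
  map_add' x y := h_add_left x y v
  map_smul' c x := h_smul_left c x v

theorem exists_tv (hF : Fintype.card F = 4) {v : Fin n → F} (hv : H v v = 0) :
    ∃ g : Matrix.GeneralLinearGroup (Fin n) F, g ∈ Cfsg.GU n F 2 ⊓ specialLinear (Fin n) F ∧
      (∀ x, (g : Matrix (Fin n) (Fin n) F).mulVec x = x + H x v • v) ∧
      ∀ x, (g : Matrix (Fin n) (Fin n) F).mulVec ((g : Matrix (Fin n) (Fin n) F).mulVec x) = x := by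
  have h0 : hLin v v = 0 := hv
  refine ⟨glOf (LinearEquiv.transvection h0), ⟨fun x y => ?_, glOf_mem_specialLinear ?_⟩, fun x => glOf_mulVec _ x,
    fun x => ?_⟩
  · simp only [Units.coeHom_apply, glOf_mulVec, LinearEquiv.transvection.apply]
    show H (x + H x v • v) (y + H y v • v) = H x y
    rw [h_add_left, h_add_right hF, h_add_right hF, h_smul_left, h_smul_left, h_smul_right, h_smul_right, hv,
      h_swap hF y v]
    linear_combination (H x v * (H y v) ^ 2) * two_zero hF
  · rw [LinearEquiv.transvection.coe_toLinearMap h0, LinearMap.transvection.det, h0, add_zero]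
  · simp only [glOf_mulVec, LinearEquiv.transvection.apply]
    show x + H x v • v + H (x + H x v • v) v • v = x
    rw [h_add_left, h_smul_left, hv, mul_zero, add_zero, add_assoc, ← add_smul,
      show H x v + H x v = 0 by linear_combination (H x v) * two_zero hF, zero_smul, add_zero]

/-- Let F be the field with 4 elements (q = 2) and n ≥ 13. Let D be a decomposition of F^n into t pairwise orthogonal 2-dimensional subspaces, each non-degenerate for the standard unitary form Σ u_i v_i². Then the elements of SU_n(2) permuting the members of D form a subgroup that is not maximal: some subgroup lies strictly between it and SU_n(2). -/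
theorem result {F : Type*} [Field F] [Fintype F] (n : ℕ) (hF : Fintype.card F = 4) (hn : 13 ≤ n) {t : ℕ} (D : Fin t → Submodule F (Fin n → F)) (hD : Cfsg.Geo.IsNondegenerateMDecomposition (Cfsg.hermForm n F 2) 2 D) : ∃ K : Subgroup (Matrix.GeneralLinearGroup (Fin n) F), Cfsg.Geo.decompositionStabilizer D ⊓ (Cfsg.GU n F 2 ⊓ Cfsg.Geo.specialLinear (Fin n) F) < K ∧ K < (Cfsg.GU n F 2 ⊓ Cfsg.Geo.specialLinear (Fin n) F) := by
  classical
  obtain ⟨ψ, -⟩ := exists_coord hD.decomp
  have htm : n = t * 2 := by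
    have := ψ.finrank_eq
    simpa [Module.finrank_pi, Module.finrank_pi_fintype] using this
  have h2 := two_zero hF
  choose a b haD hbD haa hbb hab hspan using fun i => exists_frame hF (hD.decomp.finrank_eq i) (hD.nondegenerate i)
  let X : Set (Fin n → F) := {x | Cfsg.hermForm n F 2 x x ≠ 0 ∧ ∃ i, x ∈ D i}
  let N : (Fin n → F) → Prop := fun x => x ∈ X
  let S := Cfsg.GU n F 2 ⊓ specialLinear (Fin n) F
  have hfwd : ∀ g : Matrix.GeneralLinearGroup (Fin n) F, g ∈ decompositionStabilizer D ⊓ S → ∀ x ∈ X,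
      (g : Matrix (Fin n) (Fin n) F).mulVec x ∈ X := by
    rintro g ⟨⟨σ, hσ⟩, hg, -⟩ x ⟨hx, i, hi⟩
    exact ⟨fun e => hx ((hg x x).symm.trans e), σ i, hσ i ▸ Submodule.mem_map_of_mem hi⟩
  have hle : decompositionStabilizer D ⊓ S ≤ keep N ⊓ S := by
    intro g hg
    refine ⟨fun x => propext ⟨fun h => ?_, hfwd g hg x⟩, hg.2⟩
    have h' := hfwd g⁻¹ (inv_mem hg) _ h
    rwa [Matrix.mulVec_mulVec, ← Units.val_mul, inv_mul_cancel, Units.val_one, Matrix.one_mulVec] at h'
  have ht : 4 ≤ t := by omega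
  let i : ℕ → Fin t := fun k => ⟨k % t, Nat.mod_lt _ (by omega)⟩
  have hi : ∀ p r, p < 4 → r < 4 → p ≠ r → i p ≠ i r := fun p r hp hr hpr e => by
    have := congrArg Fin.val e
    simp [i, Nat.mod_eq_of_lt (show p < t by omega), Nat.mod_eq_of_lt (show r < t by omega)] at this
    exact hpr this
  have horth : ∀ j k, j ≠ k → ∀ x ∈ D j, Cfsg.hermForm n F 2 x (a k) = 0 :=
    fun j k hjk x hx => hD.orthogonal j k hjk x hx _ (haD k)
  refine ⟨keep N ⊓ S, lt_of_le_of_ne hle ?_, lt_of_le_of_ne inf_le_right ?_⟩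
  · have h01 := hi 0 1 (by omega) (by omega) (by omega)
    set v := a (i 0) + a (i 1) with hv
    have hhv : ∀ x, Cfsg.hermForm n F 2 x v = Cfsg.hermForm n F 2 x (a (i 0)) + Cfsg.hermForm n F 2 x (a (i 1)) :=
      fun x => h_add_right hF _ _ _
    obtain ⟨g, hgS, hgv, hg2⟩ := exists_tv hF (v := v) (by
      rw [hhv, hv, h_add_left, h_add_left, haa, haa, horth _ _ h01 _ (haD _), horth _ _ h01.symm _ (haD _)]
      linear_combination h2)
    have hg1 : ∀ x ∈ X, (g : Matrix (Fin n) (Fin n) F).mulVec x ∈ X := by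
      rintro x ⟨hx, j, hj⟩
      refine ⟨fun e => hx ((hgS.1 x x).symm.trans e), ?_⟩
      rw [hgv]
      by_cases hc : Cfsg.hermForm n F 2 x v = 0
      · exact ⟨j, by rw [hc, zero_smul, add_zero]; exact hj⟩
      have hj01 : j = i 0 ∨ j = i 1 := by
        by_contra hno
        simp only [not_or] at hno
        exact hc (by rw [hhv, horth _ _ hno.1 x hj, horth _ _ hno.2 x hj, add_zero])
      obtain ⟨s, u, rfl⟩ := hspan j x hj
      have hxv : Cfsg.hermForm n F 2 (s • a j + u • b j) v = s := by
        rw [hhv, h_add_left, h_add_left, h_smul_left, h_smul_left, h_smul_left, h_smul_left]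
        rcases hj01 with rfl | rfl
        · rw [haa, horth _ _ h01 _ (haD _), horth _ _ h01 _ (hbD _), h_eq_zero_comm hF (hab _)]; ring
        · rw [haa, horth _ _ h01.symm _ (haD _), horth _ _ h01.symm _ (hbD _), h_eq_zero_comm hF (hab _)]; ring
      rw [hxv] at hc ⊢
      have hu : u = 0 := by
        by_contra hu
        apply hx
        rw [h_add_left, h_add_right hF, h_add_right hF, h_smul_left, h_smul_left, h_smul_left, h_smul_left,
          h_smul_right, h_smul_right, h_smul_right, h_smul_right, haa, hbb, hab, h_eq_zero_comm hF (hab _)]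
        linear_combination cube hF hc + cube hF hu + h2
      subst hu
      rw [zero_smul, add_zero, hv, smul_add]
      rcases hj01 with rfl | rfl
      · refine ⟨i 1, ?_⟩
        rw [← add_assoc, ← add_smul, show s + s = 0 by linear_combination s * h2, zero_smul, zero_add]
        exact (D _).smul_mem _ (haD _)
      · refine ⟨i 0, ?_⟩
        rw [add_left_comm, ← add_smul, show s + s = 0 by linear_combination s * h2, zero_smul, add_zero]
        exact (D _).smul_mem _ (haD _)
    have hgK : g ∈ keep N ⊓ S := ⟨fun x => propext ⟨fun h => by have := hg1 _ h; rwa [hg2] at this, hg1 x⟩, hgS⟩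
    intro e
    obtain ⟨σ, hσ⟩ := ((e.symm ▸ hgK : g ∈ decompositionStabilizer D ⊓ S)).1
    have ha' : a (i 1) ∈ D (σ (i 0)) := by
      rw [← hσ]
      refine ⟨a (i 0), haD _, ?_⟩
      show (g : Matrix (Fin n) (Fin n) F).mulVec (a (i 0)) = _
      rw [hgv, hhv, haa, horth _ _ h01 _ (haD _), add_zero, one_smul, hv, ← add_assoc]
      funext k
      simp only [Pi.add_apply]
      linear_combination (a (i 0) k) * h2
    have hb' : b (i 0) ∈ D (σ (i 0)) := by
      rw [← hσ]
      refine ⟨b (i 0), hbD _, ?_⟩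
      show (g : Matrix (Fin n) (Fin n) F).mulVec (b (i 0)) = _
      rw [hgv, hhv, h_eq_zero_comm hF (hab _), horth _ _ h01 _ (hbD _), add_zero, zero_smul, add_zero]
    have hzero : ∀ j k, j ≠ k → ∀ x, x ∈ D j → x ∈ D k → Cfsg.hermForm n F 2 x x = 0 :=
      fun j k hjk x hx hx' => hD.orthogonal j k hjk x hx x hx'
    have hσ0 : σ (i 0) = i 0 := by
      by_contra hne
      exact one_ne_zero (α := F) ((hbb _).symm.trans (hzero _ _ (Ne.symm hne) _ (hbD _) hb'))
    rw [hσ0] at ha'
    exact one_ne_zero (α := F) ((haa _).symm.trans (hzero _ _ h01.symm _ (haD _) ha'))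
  · intro e
    set v := a (i 0) + a (i 1) + a (i 2) + a (i 3) with hv
    have hhv : ∀ x, Cfsg.hermForm n F 2 x v = Cfsg.hermForm n F 2 x (a (i 0)) + Cfsg.hermForm n F 2 x (a (i 1)) +
        Cfsg.hermForm n F 2 x (a (i 2)) + Cfsg.hermForm n F 2 x (a (i 3)) := fun x => by
      rw [hv, h_add_right hF, h_add_right hF, h_add_right hF]
    have ho : ∀ p r, p < 4 → r < 4 → p ≠ r → Cfsg.hermForm n F 2 (a (i p)) (a (i r)) = 0 :=
      fun p r hp hr hpr => horth _ _ (hi p r hp hr hpr) _ (haD _)
    have hv0 : Cfsg.hermForm n F 2 (a (i 0)) v = 1 := by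
      rw [hhv, haa, ho 0 1, ho 0 2, ho 0 3] <;> simp
    obtain ⟨g, hgS, hgv, -⟩ := exists_tv hF (v := v) (by
      rw [hhv, hv, h_add_left, h_add_left, h_add_left, h_add_left, h_add_left, h_add_left, h_add_left, h_add_left,
        h_add_left, h_add_left, h_add_left, h_add_left]
      simp only [haa, ho 0 1, ho 0 2, ho 0 3, ho 1 0, ho 1 2, ho 1 3, ho 2 0, ho 2 1, ho 2 3, ho 3 0, ho 3 1, ho 3 2,
        show (0 : ℕ) < 4 by omega, show (1 : ℕ) < 4 by omega, show (2 : ℕ) < 4 by omega, show (3 : ℕ) < 4 by omega,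
        ne_eq, OfNat.ofNat_ne_zero, OfNat.zero_ne_ofNat, OfNat.ofNat_ne_one, OfNat.one_ne_ofNat,
        zero_ne_one, one_ne_zero, Nat.reduceEqDiff, not_false_eq_true]
      linear_combination 2 * h2)
    have hgK : g ∈ keep N ⊓ S := e.symm ▸ hgS
    have h1 : (g : Matrix (Fin n) (Fin n) F).mulVec (a (i 0)) ∈ X :=
      (iff_of_eq (hgK.1 (a (i 0)))).2 (⟨by rw [haa]; exact one_ne_zero, i 0, haD _⟩ : a (i 0) ∈ X)
    obtain ⟨j, hj⟩ := h1.2
    rw [hgv, hv0, one_smul] at hj
    have hk : ∀ p, 0 < p → p < 4 → j = i p := fun p hp0 hp => by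
      by_contra hne
      have h3 := horth _ _ hne _ hj
      rw [h_add_left, horth _ _ (hi 0 p (by omega) hp (by omega)) _ (haD _), hv, h_add_left, h_add_left,
        h_add_left] at h3
      rcases (show p = 1 ∨ p = 2 ∨ p = 3 by omega) with rfl | rfl | rfl
      · rw [haa, ho 0 1, ho 2 1, ho 3 1] at h3 <;> simp at h3 ⊢
      · rw [haa, ho 0 2, ho 1 2, ho 3 2] at h3 <;> simp at h3 ⊢
      · rw [haa, ho 0 3, ho 1 3, ho 2 3] at h3 <;> simp at h3 ⊢
    exact hi 1 2 (by omega) (by omega) (by omega) ((hk 1 (by omega) (by omega)).symm.trans (hk 2 (by omega) (by omega)))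

end Cfsg.Agent.S5656
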