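import Cfsg.Statements.S5667
import Cfsg.Agent.Lib.MaxSub.TensorFrameOdd
import Cfsg.Agent.Lib.MaxSub.Symp

set_option autoImplicit false
open Cfsg

namespace Cfsg.Agent.S5667

open CfsgLib.MaxSub Cfsg.Geo
open scoped Matrix

/-- Over the field with 3 elements and for m ≥ 7, suppose the standard alternating form on F^(2m) is similar, through P and e, to the tensor product of a non-degenerate symplectic form f₁ on F^(n₁) and a non-degenerate symmetric bilinear form f₂ on F^3. Then the elements of Sp_2m(3) in the stabiliser of this tensor decomposition form a subgroup that is not maximal: some subgroup lies strictly between it and Sp_2m(3). -/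
theorem result {F : Type*} [Field F] [Fintype F] (m : ℕ) (hm : 7 ≤ m) (hq : Fintype.card F = 3) (n₁ : ℕ) (e : (Fin m ⊕ Fin m) ≃ Fin n₁ × Fin 3) (P : Matrix.GeneralLinearGroup (Fin m ⊕ Fin m) F) (f₁ : (Fin n₁ → F) → (Fin n₁ → F) → F) (f₂ : (Fin 3 → F) → (Fin 3 → F) → F) (hf₁ : Cfsg.Geo.IsSymplecticForm f₁) (hf₂ : Cfsg.Geo.IsSymmetricForm f₂) (hT : Cfsg.Geo.IsTensorFormStructure id (Cfsg.sympForm m F) f₁ f₂ e P) : ∃ K : Subgroup (Matrix.GeneralLinearGroup (Fin m ⊕ Fin m) F), Cfsg.Geo.tensorProductSubgroup n₁ 3 e P ⊓ Cfsg.spGL m F < K ∧ K < Cfsg.spGL m F := by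
  classical
  obtain ⟨h3, h2, hsq, hpm⟩ := TensorFrame.three hq
  obtain ⟨c, hc, hform⟩ := TensorFrame.form_pure (σ := id) (fun u v => rfl) hT
    (TensorFrame.formOfGram_gram _ f₁ hf₁.bilinear.add_left hf₁.bilinear.smul_left hf₁.bilinear.add_right hf₁.bilinear.smul_right)
    (TensorFrame.formOfGram_gram _ f₂ hf₂.bilinear.add_left hf₂.bilinear.smul_left hf₂.bilinear.add_right hf₂.bilinear.smul_right)
  obtain ⟨v, d, hd, hv, hli, hperm⟩ := TensorFrame.exists_frame_three hq hf₂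
  have hn : m + m = n₁ * 3 := by simpa using Fintype.card_congr e
  haveI : NeZero n₁ := ⟨by omega⟩
  set z : Fin n₁ → F := Pi.single 0 1
  have hz0 : z ≠ 0 := fun h => one_ne_zero (α := F) (Pi.single_eq_zero_iff.1 h)
  obtain ⟨y, hyz⟩ := (hf₁.nondegenerate z hz0).1
  have hy0 : y ≠ 0 := fun h => hyz (by
    rw [h]; have := hf₁.bilinear.smul_left 0 0 z; rwa [zero_smul, zero_mul] at this)
  let T := (TensorFrame.pure e P).flip
  have hfT : ∀ x y x' y', Cfsg.sympForm m F (T x y) (T x' y') = c * (f₁ y y' * f₂ x x') :=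
    fun x y x' y' => hform y x y' x'
  let G : (Fin m ⊕ Fin m → F) → Matrix.GeneralLinearGroup (Fin m ⊕ Fin m) F := fun u =>
    tvGL u ((1 : F) • ((Matrix.J (Fin m) F).mulVec u)) (spDual_smul_dot 1 u)
  have hG : ∀ u x, (G u : Matrix (Fin m ⊕ Fin m) (Fin m ⊕ Fin m) F).mulVec x =
      x + Cfsg.sympForm m F x u • u := fun u x => by
    simp only [G, coe_tvGL, spTv_mulVec, one_mul]
  have hzz : f₁ z z = 0 := hf₁.alternating z
  refine TensorFrame.exists_between (tensorProductSubgroup n₁ 3 e P) _ T (TensorFrame.pure_contract' e P)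
    v 0 1 (hli.ne_zero 0) ?_ ?_ (fun g hg => ?_) (G (T (v 0) z)) (spTv_mem_spGL _ _) (fun j w => ?_) (fun w => ?_)
    y (y + (c * d * f₁ y z) • z) ?_ hy0 ?_ (G (T (v 0 + v 1) z)) (spTv_mem_spGL _ _) y (y + (c * d * f₁ y z) • z)
    ((c * d * f₁ y z) • z) ?_ ?_ ?_
  · rintro ⟨r, hr⟩
    have h1 := hv 0 1
    rw [← hr, hf₂.bilinear.smul_right, hv, if_pos rfl, if_neg (by decide)] at h1
    exact hli.ne_zero 1 (by rw [← hr, (mul_eq_zero.1 h1).resolve_right hd, zero_smul])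
  · rintro g ⟨hgH, hgS⟩
    obtain ⟨a, b, hab⟩ := TensorFrame.tensor_mem hgH
    refine ⟨_, _, fun x w => hab w x, ?_⟩
    have hiso : ∀ x x', f₁ ((a : Matrix (Fin n₁) (Fin n₁) F) *ᵥ y) ((a : Matrix (Fin n₁) (Fin n₁) F) *ᵥ z) *
        f₂ ((b : Matrix (Fin 3) (Fin 3) F) *ᵥ x) ((b : Matrix (Fin 3) (Fin 3) F) *ᵥ x') = f₁ y z * f₂ x x' := by
      intro x x'
      have h1 : Cfsg.sympForm m F ((g : Matrix (Fin m ⊕ Fin m) (Fin m ⊕ Fin m) F) *ᵥ T x y)
          ((g : Matrix (Fin m ⊕ Fin m) (Fin m ⊕ Fin m) F) *ᵥ T x' z) = _ := hgS _ _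
      rw [show (g : Matrix (Fin m ⊕ Fin m) (Fin m ⊕ Fin m) F) *ᵥ T x y = T _ _ from hab y x,
        show (g : Matrix (Fin m ⊕ Fin m) (Fin m ⊕ Fin m) F) *ᵥ T x' z = T _ _ from hab z x', hfT, hfT] at h1
      exact mul_left_cancel₀ hc h1
    have ha : f₁ ((a : Matrix (Fin n₁) (Fin n₁) F) *ᵥ y) ((a : Matrix (Fin n₁) (Fin n₁) F) *ᵥ z) ≠ 0 := fun h => by
      have h1 := hiso (v 0) (v 0)
      rw [h, zero_mul, hv, if_pos rfl] at h1
      exact mul_ne_zero hyz hd h1.symm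
    exact hperm _ (f₁ y z / f₁ ((a : Matrix (Fin n₁) (Fin n₁) F) *ᵥ y) ((a : Matrix (Fin n₁) (Fin n₁) F) *ᵥ z))
      (div_ne_zero hyz ha) fun x x' => by
        have h1 := hiso x x'
        field_simp
        linear_combination h1
  · obtain ⟨a, b, hab⟩ := TensorFrame.tensor_mem hg
    exact ⟨_, _, fun x w => hab w x⟩
  · by_cases hj : j = 0
    · subst hj
      exact ⟨w + (c * (f₁ w z * d)) • z, by rw [hG, hfT, hv, if_pos rfl, map_add, map_smul]⟩
    · exact ⟨w, by rw [hG, hfT, hv, if_neg hj, mul_zero, mul_zero, zero_smul, add_zero]⟩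
  · rw [hG, hfT, hv, if_neg (by decide), mul_zero, mul_zero, zero_smul, add_zero]
  · rw [hG, hfT, hv, if_pos rfl, map_add, map_smul, mul_right_comm c d, mul_assoc]
  · rintro ⟨s, hs⟩
    have h1 := congrArg (fun w => f₁ w z) hs
    simp only [hf₁.bilinear.add_left, hf₁.bilinear.smul_left, hzz, mul_zero, add_zero] at h1
    have hs1 : s = 1 := mul_right_cancel₀ hyz (by rw [one_mul]; exact h1)
    rw [hs1, one_smul, left_eq_add, smul_eq_zero] at hs
    exact hs.elim (mul_ne_zero (mul_ne_zero hc hd) hyz) hz0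
  · exact smul_ne_zero (mul_ne_zero (mul_ne_zero hc hd) hyz) hz0
  · rintro ⟨s, hs⟩
    have h1 := congrArg (fun w => f₁ w z) hs
    simp only [hf₁.bilinear.add_left, hf₁.bilinear.smul_left, hzz, mul_zero, add_zero] at h1
    exact hyz h1.symm
  · rw [hG, hfT, hf₂.bilinear.add_right, hv, hv, if_pos rfl, if_neg (by decide), add_zero, map_add, LinearMap.add_apply,
      smul_add, map_add, map_smul, map_smul, add_assoc, mul_right_comm c d, mul_assoc]

end Cfsg.Agent.S5667
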