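import Cfsg.Statements.S5671
import Cfsg.Agent.Lib.MaxSub.TensorFrame
import Mathlib.LinearAlgebra.Transvection.Basic
import Mathlib.FieldTheory.Finite.Basic

set_option autoImplicit false
open Cfsg

namespace Cfsg.Agent.S5671

open CfsgLib.MaxSub Cfsg.Geo

variable {F : Type*} [Field F] [Fintype F] {ι : Type} [Fintype ι] [DecidableEq ι]
  {f : (ι → F) → (ι → F) → F}

/-- properties used of a unitary form over four elements -/
structure U4 (f : (ι → F) → (ι → F) → F) : Prop where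
  add_left : ∀ x y v, f (x + y) v = f x v + f y v
  smul_left : ∀ (c : F) x v, f (c • x) v = c * f x v
  herm : ∀ v w, f v w = (f w v) ^ 2
  two : (2 : F) = 0
  card : Fintype.card F = 4

variable (U : U4 f)
include U

theorem U4.add_right (v x y : ι → F) : f v (x + y) = f v x + f v y := by
  rw [U.herm v (x + y), U.add_left, U.herm v x, U.herm v y]
  linear_combination (f x v * f y v) * U.two

theorem U4.smul_right (c : F) (v x : ι → F) : f v (c • x) = c ^ 2 * f v x := by
  rw [U.herm v (c • x), U.smul_left, U.herm v x]; ring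

theorem U4.zero_left (v : ι → F) : f 0 v = 0 := by
  have := U.smul_left 0 0 v
  rwa [zero_smul, zero_mul] at this

theorem U4.self (x : ι → F) : f x x = 0 ∨ f x x = 1 := by
  rcases eq_or_ne (f x x) 0 with h | h
  · exact Or.inl h
  · refine Or.inr (mul_left_cancel₀ h ?_)
    rw [mul_one, ← pow_two]; exact (U.herm x x).symm

theorem U4.comm_zero {x y : ι → F} (h : f x y = 0) : f y x = 0 := by rw [U.herm, h]; ring

theorem U4.aniso {w x : ι → F} (h : f x w ≠ 0) : ∃ a, f a a = 1 := by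
  classical
  by_contra hno
  push Not at hno
  have h0 : ∀ z, f z z = 0 := fun z => (U.self z).resolve_right (hno z)
  obtain ⟨k, hk0, hkc⟩ : ∃ k : F, k ≠ 0 ∧ k ≠ f x w := by
    by_contra hno'
    push Not at hno'
    have : Fintype.card F ≤ 2 := (Finset.card_le_card (show Finset.univ ⊆ ({0, f x w} : Finset F) from fun k _ => by
      rcases eq_or_ne k 0 with rfl | hk
      · simp
      · simp [hno' k hk])).trans Finset.card_le_two
    rw [U.card] at this
    omega
  have h1 := h0 (x + k • w)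
  rw [U.add_left, U.add_right, U.add_right, U.smul_left, U.smul_left, U.smul_right, U.smul_right, h0 x, h0 w,
    U.herm w x] at h1
  have h3 : k * f x w * (k + f x w) = 0 := by linear_combination h1
  rcases mul_eq_zero.1 h3 with h' | h'
  · exact (mul_ne_zero hk0 h) h'
  · exact hkc (by linear_combination h' - f x w * U.two)

/-- a vector orthogonal to a given one of norm one -/
theorem U4.perp {a : ι → F} (ha : f a a = 1) (hd : 2 ≤ Fintype.card ι) : ∃ u, u ≠ 0 ∧ f u a = 0 := by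
  let L : (ι → F) →ₗ[F] F :=
    { toFun := fun z => f z a, map_add' := fun p q => U.add_left p q a, map_smul' := fun c p => U.smul_left c p a }
  have h1 := LinearMap.finrank_range_add_finrank_ker L
  have h2 : Module.finrank F (LinearMap.range L) ≤ 1 :=
    (Submodule.finrank_le _).trans (le_of_eq (Module.finrank_self F))
  rw [Module.finrank_fintype_fun_eq_card] at h1
  obtain ⟨u, hu, hu0⟩ := (LinearMap.ker L).exists_mem_ne_zero_of_ne_bot (by intro h; rw [h, finrank_bot] at h1; omega)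
  exact ⟨u, hu0, hu⟩

omit U

theorem exists_tv (U : U4 f) {u : ι → F} (hu : f u u = 0) : ∃ g : Matrix.GeneralLinearGroup ι F,
    g ∈ Cfsg.preserving (Units.coeHom (Matrix ι ι F)) f ⊓ specialLinear ι F ∧
      ∀ x, (g : Matrix ι ι F).mulVec x = x + f x u • u := by
  let φ : Module.Dual F (ι → F) :=
    { toFun := fun z => f z u, map_add' := fun p q => U.add_left p q u, map_smul' := fun c p => U.smul_left c p u }
  have h0 : φ u = 0 := hu
  refine ⟨Decomp.glOf (LinearEquiv.transvection h0), ⟨fun x y => ?_, Decomp.glOf_mem_specialLinear ?_⟩,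
    fun x => Decomp.glOf_mulVec _ x⟩
  · simp only [Units.coeHom_apply, Decomp.glOf_mulVec, LinearEquiv.transvection.apply]
    show f (x + f x u • u) (y + f y u • u) = f x y
    rw [U.add_left, U.add_right, U.add_right, U.smul_left, U.smul_left, U.smul_right, U.smul_right, hu, U.herm u y]
    linear_combination (f x u * (f y u) ^ 2) * U.two
  · rw [LinearEquiv.transvection.coe_toLinearMap h0, LinearMap.transvection.det, h0, add_zero]

/-- Let F be the field with 4 elements (q = 2) and n = 2 n₂ ≥ 13. Suppose the standard unitary form Σ u_i v_i² on F^n is similar, through P and e, to the tensor product of non-degenerate unitary forms f₁ on F^2 and f₂ on F^(n₂). Then the elements of SU_n(2) in the stabiliser of this tensor decomposition form a subgroup that is not maximal: some subgroup lies strictly between it and SU_n(2). -/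
theorem result {F : Type*} [Field F] [Fintype F] (n : ℕ) (hF : Fintype.card F = 4) (hn : 13 ≤ n) (n₂ : ℕ) (e : Fin n ≃ Fin 2 × Fin n₂) (P : Matrix.GeneralLinearGroup (Fin n) F) (f₁ : (Fin 2 → F) → (Fin 2 → F) → F) (f₂ : (Fin n₂ → F) → (Fin n₂ → F) → F) (hf₁ : Cfsg.Geo.IsUnitaryFormPow 2 f₁) (hf₂ : Cfsg.Geo.IsUnitaryFormPow 2 f₂) (hT : Cfsg.Geo.IsTensorFormStructure (fun x : F => x ^ 2) (Cfsg.hermForm n F 2) f₁ f₂ e P) : ∃ K : Subgroup (Matrix.GeneralLinearGroup (Fin n) F), Cfsg.Geo.tensorProductSubgroup 2 n₂ e P ⊓ (Cfsg.GU n F 2 ⊓ Cfsg.Geo.specialLinear (Fin n) F) < K ∧ K < (Cfsg.GU n F 2 ⊓ Cfsg.Geo.specialLinear (Fin n) F) := by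
  classical
  have h2 : (2 : F) = 0 := by
    have h := FiniteField.cast_card_eq_zero F
    rw [hF] at h
    have h4 : (4 : F) = 0 := by exact_mod_cast h
    exact (mul_eq_zero.1 (show (2 : F) * 2 = 0 by linear_combination h4)).elim id id
  haveI : CharP F 2 := (CharP.charP_iff_prime_eq_zero Nat.prime_two).2 (by exact_mod_cast h2)
  have hfourth : ∀ a : F, (a ^ 2) ^ 2 = a := fun a => by
    have := FiniteField.pow_card a
    rw [hF] at this
    rw [← pow_mul]; exact this
  have U : U4 (Cfsg.hermForm n F 2) := ⟨fun x y v => by simp [Cfsg.hermForm, add_mul, Finset.sum_add_distrib],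
    fun c x v => by simp [Cfsg.hermForm, Finset.mul_sum, mul_assoc], fun v w => by
      simp only [Cfsg.hermForm, CharTwo.sum_sq, mul_pow, hfourth]
      exact Finset.sum_congr rfl fun i _ => mul_comm _ _, h2, hF⟩
  have U₁ : U4 f₁ := ⟨hf₁.add_left, hf₁.smul_left, hf₁.herm, h2, hF⟩
  have U₂ : U4 f₂ := ⟨hf₂.add_left, hf₂.smul_left, hf₂.herm, h2, hF⟩
  obtain ⟨c, hc, hform⟩ := TensorFrame.form_pure (σ := fun x : F => x ^ 2) (fun u v => mul_pow u v 2) hT
    (TensorFrame.formOfGram_gram _ f₁ U₁.add_left U₁.smul_left U₁.add_right fun c v x => U₁.smul_right c v x)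
    (TensorFrame.formOfGram_gram _ f₂ U₂.add_left U₂.smul_left U₂.add_right fun c v x => U₂.smul_right c v x)
  have hn2 : n = 2 * n₂ := by simpa using Fintype.card_congr e
  -- an orthonormal pair on the first factor
  obtain ⟨x₀, hx₀⟩ := (hf₁.nondegenerate (Pi.single 0 1) (fun h => one_ne_zero (α := F) (Pi.single_eq_zero_iff.1 h))).1
  obtain ⟨a₀, ha₀⟩ := U₁.aniso hx₀
  obtain ⟨a₁, ha₁0, ha₁₀⟩ := U₁.perp ha₀ (by simp)
  have ha₀₁ : f₁ a₀ a₁ = 0 := U₁.comm_zero ha₁₀
  have hli : LinearIndependent F ![a₀, a₁] := by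
    rw [LinearIndependent.pair_iff]
    intro s u h
    have h1 := congrArg (fun z => f₁ z a₀) h
    simp only [U₁.add_left, U₁.smul_left, ha₀, ha₁₀, U₁.zero_left, mul_one, mul_zero, add_zero] at h1
    rw [h1, zero_smul, zero_add, smul_eq_zero] at h
    exact ⟨h1, h.resolve_right ha₁0⟩
  have hspan : ∀ z : Fin 2 → F, ∃ s u : F, z = s • a₀ + u • a₁ := by
    intro z
    have hs : Submodule.span F (Set.range ![a₀, a₁]) = ⊤ :=
      hli.span_eq_top_of_card_eq_finrank (by simp)
    rw [Matrix.range_cons_cons_empty] at hs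
    obtain ⟨s, u, h⟩ := Submodule.mem_span_pair.1 (hs ▸ Submodule.mem_top : z ∈ Submodule.span F {a₀, a₁})
    exact ⟨s, u, h.symm⟩
  have ha₁₁ : f₁ a₁ a₁ = 1 := by
    refine (U₁.self a₁).resolve_left fun h => ?_
    obtain ⟨x, hx⟩ := (hf₁.nondegenerate a₁ ha₁0).1
    obtain ⟨s, u, rfl⟩ := hspan x
    exact hx (by rw [U₁.add_left, U₁.smul_left, U₁.smul_left, ha₀₁, h]; ring)
  -- an isotropic vector on the second factor
  haveI : NeZero n₂ := ⟨by omega⟩
  obtain ⟨x₂, hx₂⟩ := (hf₂.nondegenerate (Pi.single 0 1) (fun h => one_ne_zero (α := F) (Pi.single_eq_zero_iff.1 h))).1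
  obtain ⟨y₀, hy₀⟩ := U₂.aniso hx₂
  obtain ⟨z, hz0, hzz⟩ : ∃ z, z ≠ 0 ∧ f₂ z z = 0 := by
    obtain ⟨w, hw0, hw⟩ := U₂.perp hy₀ (by simp; omega)
    rcases U₂.self w with h | h
    · exact ⟨w, hw0, h⟩
    · refine ⟨y₀ + w, fun e => ?_, ?_⟩
      · have h1 := congrArg (fun v => f₂ v y₀) e
        simp only [U₂.add_left, hy₀, hw, U₂.zero_left, add_zero] at h1
        exact one_ne_zero h1
      · rw [U₂.add_left, U₂.add_right, U₂.add_right, hy₀, hw, U₂.comm_zero hw, h]; linear_combination h2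
  obtain ⟨y, hyz⟩ := (hf₂.nondegenerate z hz0).1
  have hy0 : y ≠ 0 := fun e => hyz (by rw [e, U₂.zero_left])
  have hzy : ¬ ∃ s : F, s • z = y := fun ⟨s, hs⟩ => hyz (by rw [← hs, U₂.smul_left, hzz, mul_zero])
  let T := TensorFrame.pure e P
  have hfT : ∀ x y x' y', Cfsg.hermForm n F 2 (T x y) (T x' y') = c * (f₁ x x' * f₂ y y') := hform
  obtain ⟨g₁, hg₁, hg₁v⟩ := exists_tv U (u := T a₀ z) (by rw [hfT, hzz, mul_zero, mul_zero])
  obtain ⟨g₂, hg₂, hg₂v⟩ := exists_tv U (u := T (a₀ + a₁) z) (by rw [hfT, hzz, mul_zero, mul_zero])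
  refine TensorFrame.exists_between (tensorProductSubgroup 2 n₂ e P) _ T (TensorFrame.pure_contract e P)
    ![a₀, a₁] 0 1 (hli.ne_zero 0) ?_ ?_ (fun g hg => ?_) g₁ hg₁ (fun j y' => ?_) (fun y' => ?_)
    y (y + (c * f₂ y z) • z) ?_ hy0 ?_ g₂ hg₂ y (y + (c * f₂ y z) • z) ((c * f₂ y z) • z) ?_ ?_ ?_
  · rintro ⟨r, hr⟩
    have := (LinearIndependent.pair_iff.1 hli r (-1)) (by
      rw [show r • a₀ = a₁ from hr, neg_one_smul, add_neg_cancel])
    exact one_ne_zero (α := F) (by linear_combination -this.2)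
  · rintro g ⟨hgH, hgS⟩
    obtain ⟨a, b, hab⟩ := TensorFrame.tensor_mem hgH
    refine ⟨_, _, hab, fun j => ?_⟩
    have hj : f₁ (![a₀, a₁] j) (![a₀, a₁] j) = 1 := by fin_cases j <;> assumption
    have h1 : Cfsg.hermForm n F 2 ((g : Matrix (Fin n) (Fin n) F).mulVec (T (![a₀, a₁] j) y₀))
        ((g : Matrix (Fin n) (Fin n) F).mulVec (T (![a₀, a₁] j) y₀)) = _ := hgS.1 _ _
    rw [hab, hfT, hfT, hj, hy₀] at h1
    obtain ⟨s, u, hsu⟩ := hspan ((a : Matrix (Fin 2) (Fin 2) F).mulVec (![a₀, a₁] j))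
    rw [hsu] at h1
    rw [hsu]
    by_cases hs : s = 0
    · exact ⟨1, u, by rw [hs, zero_smul, zero_add]; rfl⟩
    by_cases hu : u = 0
    · exact ⟨0, s, by rw [hu, zero_smul, add_zero]; rfl⟩
    exfalso
    have hcube : ∀ x : F, x ≠ 0 → x ^ 3 = 1 := fun x hx => by
      have := FiniteField.pow_card_sub_one_eq_one x hx
      rwa [hF] at this
    rw [U₁.add_left, U₁.add_right, U₁.add_right, U₁.smul_left, U₁.smul_left, U₁.smul_left, U₁.smul_left,
      U₁.smul_right, U₁.smul_right, U₁.smul_right, U₁.smul_right, ha₀, ha₁₁, ha₀₁, ha₁₀] at h1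
    have h3 : s ^ 3 + u ^ 3 = 0 := by linear_combination hcube s hs + hcube u hu + h2
    apply hc
    linear_combination -h1 + c * f₂ ((b : Matrix (Fin n₂) (Fin n₂) F).mulVec y₀) ((b : Matrix (Fin n₂) (Fin n₂) F).mulVec y₀) * h3
  · obtain ⟨a, b, hab⟩ := TensorFrame.tensor_mem hg
    exact ⟨_, _, hab⟩
  · fin_cases j
    · exact ⟨y' + (c * f₂ y' z) • z, by
        show (g₁ : Matrix (Fin n) (Fin n) F).mulVec (T a₀ y') = T a₀ _
        rw [hg₁v, hfT, ha₀, one_mul, map_add, map_smul]⟩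
    · exact ⟨y', by
        show (g₁ : Matrix (Fin n) (Fin n) F).mulVec (T a₁ y') = T a₁ _
        rw [hg₁v, hfT, ha₁₀, zero_mul, mul_zero, zero_smul, add_zero]⟩
  · show (g₁ : Matrix (Fin n) (Fin n) F).mulVec (T a₁ y') = T a₁ _
    rw [hg₁v, hfT, ha₁₀, zero_mul, mul_zero, zero_smul, add_zero]
  · show (g₁ : Matrix (Fin n) (Fin n) F).mulVec (T a₀ y) = T a₀ _
    rw [hg₁v, hfT, ha₀, one_mul, map_add, map_smul]
  · rintro ⟨s, hs⟩
    have h1 := congrArg (fun v => f₂ v z) hs
    simp only [U₂.add_left, U₂.smul_left, hzz, mul_zero, add_zero] at h1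
    have hs1 : s = 1 := mul_right_cancel₀ hyz (by rw [one_mul]; exact h1)
    rw [hs1, one_smul, left_eq_add, smul_eq_zero] at hs
    exact hs.elim (mul_ne_zero hc hyz) hz0
  · exact smul_ne_zero (mul_ne_zero hc hyz) hz0
  · rintro ⟨s, hs⟩
    refine hzy ⟨(c * f₂ y z) * s - c * f₂ y z, ?_⟩
    rw [sub_smul, mul_comm, ← smul_smul, hs, add_sub_cancel_right]
  · show (g₂ : Matrix (Fin n) (Fin n) F).mulVec (T a₀ y) = T a₀ _ + T a₁ _
    rw [hg₂v, hfT, U₁.add_right, ha₀, ha₀₁, add_zero, one_mul, map_add, LinearMap.add_apply, smul_add, map_add,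
      map_smul, map_smul, add_assoc]

end Cfsg.Agent.S5671
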