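import Cfsg.Statements.S5672
import Cfsg.Agent.Lib.MaxSub.SuPow.Main
import Cfsg.Agent.Lib.MaxSub.SuPow.AllPure

set_option autoImplicit false
open Cfsg

namespace Cfsg.Agent.S5672

/-- Let F be the field with q² elements and n = k^t ≥ 13 with k ≥ 3, t ≥ 2 and (q, k) ≠ (2, 3). Suppose the standard unitary form on F^n is similar, through a change of basis P and a bijection of index sets e, to the t-fold tensor power of a non-degenerate unitary form f₁ on F^k. Then the elements of SU_n(q) in the stabiliser of this decomposition (the conjugate by P of the standard tensor-wreath subgroup transported along e) form a maximal subgroup of SU_n(q). -/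
theorem result {F : Type*} [Field F] [Fintype F] (n q : ℕ) (hF : Fintype.card F = q ^ 2) (hn : 13 ≤ n) (k t : ℕ) (hk : 3 ≤ k) (ht : 2 ≤ t) (hex : ¬ (q = 2 ∧ k = 3)) (e : Fin n ≃ (Fin t → Fin k)) (P : Matrix.GeneralLinearGroup (Fin n) F) (f₁ : (Fin k → F) → (Fin k → F) → F) (hf₁ : Cfsg.Geo.IsUnitaryFormPow q f₁) (hT : Cfsg.Geo.IsTensorPowerFormStructure (fun x : F => x ^ q) (Cfsg.hermForm n F q) f₁ e P) : Cfsg.Geo.IsMaximalIn (Cfsg.GU n F q ⊓ Cfsg.Geo.specialLinear (Fin n) F) (Cfsg.Geo.tensorWreathSubgroup k t e P ⊓ (Cfsg.GU n F q ⊓ Cfsg.Geo.specialLinear (Fin n) F)) := by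
  obtain ⟨c, hc, hT⟩ := hT
  let D : CfsgLib.MaxSub.SuPow.Data F n q k t := ⟨hF, e, P, f₁, hf₁, c, hc, hT⟩
  show Cfsg.Geo.IsMaximalIn _ D.base
  have hbig : D.sys.Big ∨ 4 < Nat.card F := by
    rcases Nat.lt_or_ge k 4 with h4 | h4
    · have h2 := D.two_le
      have h3 : 3 ≤ q := by omega
      have : 3 * 3 ≤ q ^ 2 := by rw [sq]; exact Nat.mul_le_mul h3 h3
      exact Or.inr (by rw [Nat.card_eq_fintype_card, hF]; omega)
    · exact Or.inl (D.big h4)
  haveI : Nonempty (Fin n) := ⟨⟨0, by omega⟩⟩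
  obtain ⟨e₀, f₀, h⟩ := D.exists_hyp hk
  exact D.maximal_of hk ht (by omega) hex fun M G Z g hg =>
    G.permutes Z (D.wide hk) hbig (fun d hd => G.all_pure Z (D.wide hk) hbig hd) h.left_ne h.ee hg

end Cfsg.Agent.S5672
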