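import Cfsg.Statements.S5674
import Cfsg.Agent.Lib.Geom.SiegelFull
import Cfsg.Agent.Lib.Geom.OmegaMax
import Cfsg.Agent.Lib.Classical.StdQuad
-- import your own Cfsg.Agent.* helpers here

set_option autoImplicit false
open Cfsg CfsgLib.Geom

namespace Cfsg.Agent.S5674

/-- Let F be a finite field of odd order, m ≥ 6, Q the standard quadratic form x₀² + Σ x_i y_i on F^(2m+1) and Ω the commutator subgroup of its isometry group inside GL_(2m+1)(F). The elements of Ω stabilising a non-zero subspace on which Q vanishes form a maximal subgroup of Ω. -/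
theorem result {F : Type*} [Field F] [Fintype F] (hodd : Odd (Fintype.card F)) (m : ℕ) (hm : 6 ≤ m) (W : Submodule F (Unit ⊕ (Fin m ⊕ Fin m) → F)) (hW0 : W ≠ ⊥) (hW : Cfsg.Geo.IsTotallySingularQuad (Cfsg.quadFormOdd m F) W) : Cfsg.Geo.IsMaximalIn (Cfsg.Geo.omegaGL (Cfsg.quadFormOdd m F)) (Cfsg.Geo.subspaceStabilizer W ⊓ Cfsg.Geo.omegaGL (Cfsg.quadFormOdd m F)) := by
  classical
  have h2 := CfsgLib.Classical.two_ne_zero_of_odd hodd
  let Q := CfsgLib.Classical.qfOdd m F
  have hQ : ∀ x, (∀ y, QuadraticMap.polar Q x y = 0) → x = 0 := CfsgLib.Classical.qfOdd_sep h2 m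
  have hn : Module.finrank F (Unit ⊕ (Fin m ⊕ Fin m) → F) = 2 * m + 1 := by
    rw [Module.finrank_fintype_fun_eq_card]; simp; omega
  have hW' : ∀ x ∈ W, Q x = 0 := fun x hx => (CfsgLib.Classical.qfOdd_apply m x).trans (hW x hx)
  refine omega_isMaximalIn Q (funext (CfsgLib.Classical.qfOdd_apply m)) W
    (OrthSub.parabolic_moved hQ (by omega) hW' hW0)
    fun M hM => OrthSub.parabolic_maximal hQ (by omega) hW' ?_ hM
  have hk := OrthSub.totallySingular_finrank hQ hW'
  by_cases h : 2 * Module.finrank F W + 3 ≤ 2 * m + 1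
  · exact Or.inl (by omega)
  · refine Or.inr fun t ht hp => ?_
    by_contra htW
    obtain ⟨U, hU, hd⟩ := OrthSub.totallySingular_sup hW' ht hp htW
    have := OrthSub.totallySingular_finrank hQ hU
    omega
end Cfsg.Agent.S5674
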