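import Cfsg.Statements.S5675
import Cfsg.Agent.Lib.Geom.NondegMaxCases
import Cfsg.Agent.Lib.Classical.StdQuad
-- import your own Cfsg.Agent.* helpers here

set_option autoImplicit false
open Cfsg CfsgLib.Geom

namespace Cfsg.Agent.S5675

/-- Let F be a finite field of odd order q, m ≥ 6, Q the standard quadratic form on F^(2m+1) and Ω the commutator subgroup of its isometry group. Let W be a non-zero subspace of even dimension on which the polar form of Q is non-degenerate; exclude the case q = 3, dim W = 2 with Q vanishing on some line of W (a plus-type plane). Then the elements of Ω stabilising W (equivalently, stabilising its orthogonal complement, of odd dimension) form a maximal subgroup of Ω. -/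
theorem result {F : Type*} [Field F] [Fintype F] (hodd : Odd (Fintype.card F)) (m : ℕ) (hm : 6 ≤ m) (W : Submodule F (Unit ⊕ (Fin m ⊕ Fin m) → F)) (hW0 : W ≠ ⊥) (hev : Even (Module.finrank F W)) (hW : Cfsg.Geo.IsNondegenerateOn (QuadraticMap.polar (Cfsg.quadFormOdd m F)) W) (hex : ¬ (Fintype.card F = 3 ∧ Module.finrank F W = 2 ∧ Cfsg.Geo.IsPlusTypeOn (Cfsg.quadFormOdd m F) W)) : Cfsg.Geo.IsMaximalIn (Cfsg.Geo.omegaGL (Cfsg.quadFormOdd m F)) (Cfsg.Geo.subspaceStabilizer W ⊓ Cfsg.Geo.omegaGL (Cfsg.quadFormOdd m F)) := by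
  classical
  have h2 := CfsgLib.Classical.two_ne_zero_of_odd hodd
  let Q := CfsgLib.Classical.qfOdd m F
  have hQ : ∀ x, (∀ y, QuadraticMap.polar Q x y = 0) → x = 0 := CfsgLib.Classical.qfOdd_sep h2 m
  have hcard : Fintype.card (Unit ⊕ (Fin m ⊕ Fin m)) = 2 * m + 1 := by simp; omega
  have hf : ⇑Q = Cfsg.quadFormOdd m F := funext (CfsgLib.Classical.qfOdd_apply m)
  obtain ⟨j, hj⟩ := hev
  refine OrthSub.nondeg_isMaximalIn Q hf hQ (by omega) hW0 ?_ ?_ ?_ ?_ (fun h => absurd h (by omega))
  · intro e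
    have := congrArg (fun S : Submodule F (Unit ⊕ (Fin m ⊕ Fin m) → F) => Module.finrank F S) e
    simp only [finrank_top, Module.finrank_fintype_fun_eq_card] at this
    omega
  · intro x hx h
    by_contra hne
    obtain ⟨y, hy, hxy⟩ := (hW x hx hne).2
    rw [← hf] at hxy
    exact hxy (h y hy)
  · rintro ⟨hq, hd, hz⟩
    refine hex ⟨?_, hd, OrthSub.isPlusTypeOn_of_singular (fun c v => ?_) hd (hf ▸ hz)⟩
    · obtain ⟨k, hk⟩ := hodd
      have := Fintype.one_lt_card (α := F)
      omega
    · rw [← hf, CfsgLib.Geom.quad_smul]; ring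
  · rintro U - hsum - ⟨-, hd, -⟩
    omega
end Cfsg.Agent.S5675
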