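import Cfsg.Statements.S5677
import Cfsg.Agent.Lib.MaxSub.OFrameCoord
import Cfsg.Agent.Lib.Classical.StdQuad

set_option autoImplicit false
open Cfsg

namespace Cfsg.Agent.S5677

/-- Let F be a finite field of odd order q, m ≥ 6, Q the standard quadratic form on F^(2m+1) and Ω the commutator subgroup of its isometry group. Let D be a decomposition of F^(2m+1) into t ≥ 2 pairwise orthogonal, pairwise Q-isometric subspaces of equal dimension k > 1 on which the polar form is non-degenerate. Unless q = 3 and k = 3, the elements of Ω permuting the members of D form a maximal subgroup of Ω. -/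
theorem result {F : Type*} [Field F] [Fintype F] (hodd : Odd (Fintype.card F)) (m : ℕ) (hm : 6 ≤ m) {t : ℕ} (k : ℕ) (hk : 1 < k) (D : Fin t → Submodule F (Unit ⊕ (Fin m ⊕ Fin m) → F)) (hD : Cfsg.Geo.IsOrthogonalMDecomposition (Cfsg.quadFormOdd m F) k D) (hex : ¬ (Fintype.card F = 3 ∧ k = 3)) : Cfsg.Geo.IsMaximalIn (Cfsg.Geo.omegaGL (Cfsg.quadFormOdd m F)) (Cfsg.Geo.decompositionStabilizer D ⊓ Cfsg.Geo.omegaGL (Cfsg.quadFormOdd m F)) := by
  classical
  have h2 := CfsgLib.Classical.two_ne_zero_of_odd (F := F) hodd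
  obtain ⟨ψ, -⟩ := CfsgLib.MaxSub.Decomp.exists_coord hD.decomp.decomp
  have hn := ψ.finrank_eq
  simp only [Module.finrank_fintype_fun_eq_card, Fintype.card_sum, Fintype.card_unit, Fintype.card_fin,
    Module.finrank_pi_fintype, Finset.sum_const, Finset.card_univ, smul_eq_mul] at hn
  have hk3 : 3 ≤ k := by
    rcases Nat.lt_or_ge k 3 with h | h
    · obtain rfl : k = 2 := by omega
      omega
    · exact h
  refine CfsgLib.MaxSub.OFrame.isMaximalIn_decomposition (CfsgLib.Classical.qfOdd m F)
    (funext (CfsgLib.Classical.qfOdd_apply m)) (CfsgLib.Classical.qfOdd_sep h2 m) (by simp; omega) h2 hk3 ?_ hD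
  intro h3
  rw [Nat.card_eq_fintype_card]
  obtain ⟨j, hj⟩ := hodd
  have : 1 < Fintype.card F := Fintype.one_lt_card
  have : Fintype.card F ≠ 3 := fun h => hex ⟨h, h3⟩
  omega

end Cfsg.Agent.S5677
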