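import Cfsg.Statements.S5680
import Cfsg.Agent.Lib.MaxSub.OExtMatrix
import Cfsg.Agent.Lib.Aschbacher.OrthOdd

set_option autoImplicit false
open Cfsg

namespace Cfsg.Agent.S5680

/-- Let F be a finite field of odd order, m ≥ 6, Q the standard quadratic form on F^(2m+1) and Ω the commutator subgroup of its isometry group. Let K be a subfield of the algebra of (2m+1) × (2m+1) matrices over F containing the scalars, of prime degree r over F with r ≠ 2m + 1, whose elements are self-adjoint for the polar form of Q. Then the elements of Ω normalising K form a maximal subgroup of Ω. -/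
theorem result {F : Type*} [Field F] [Fintype F] (hodd : Odd (Fintype.card F)) (m : ℕ) (hm : 6 ≤ m) (r : ℕ) (hr : r.Prime) (hrn : 2 * m + 1 ≠ r) (K : Subalgebra F (Matrix (Unit ⊕ (Fin m ⊕ Fin m)) (Unit ⊕ (Fin m ⊕ Fin m)) F)) (hK : Cfsg.Geo.IsFieldSubalgebra r K) (hsa : Cfsg.Geo.IsSelfAdjointFor (QuadraticMap.polar (Cfsg.quadFormOdd m F)) K) : Cfsg.Geo.IsMaximalIn (Cfsg.Geo.omegaGL (Cfsg.quadFormOdd m F)) (Cfsg.Geo.subalgebraNormalizer K ⊓ Cfsg.Geo.omegaGL (Cfsg.quadFormOdd m F)) := by
  have h2 : (2 : F) ≠ 0 := fun h => by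
    have : ringChar F = 2 := CharP.ringChar_of_prime_eq_zero Nat.prime_two (by exact_mod_cast h)
    rw [← Nat.not_even_iff_odd] at hodd
    exact hodd (Nat.even_iff.mpr (FiniteField.even_card_of_char_two this))
  refine CfsgLib.MaxSub.OExt.extension_maximal' (CfsgLib.Aschbacher.OrthOdd.quadOdd_nondeg h2) h2 hr
    (fun k hk => ?_) K hK hsa
  rw [Fintype.card_sum, Fintype.card_sum, Fintype.card_unit, Fintype.card_fin] at hk
  have hr2 : r ≠ 2 := fun h => by subst h; omega
  refine ⟨?_, fun h => absurd h hr2⟩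
  rcases Nat.lt_or_ge k 4 with hk4 | hk4
  swap
  · exact Or.inl hk4
  interval_cases k <;> omega

end Cfsg.Agent.S5680
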