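import Cfsg.Statements.S5685
import Cfsg.Agent.Lib.Geom.SiegelFull
import Cfsg.Agent.Lib.Geom.OmegaMax
import Cfsg.Agent.Lib.Classical.StdQuad
-- import your own Cfsg.Agent.* helpers here

set_option autoImplicit false
open Cfsg CfsgLib.Geom

namespace Cfsg.Agent.S5685

/-- Let F be a finite field with q elements, n ≥ 13 even, Q a non-degenerate quadratic form on F^n of plus type (some subspace of dimension n/2 is totally singular), and Ω the commutator subgroup of the isometry group of Q, viewed inside GL_n(F). The elements of Ω stabilising a non-zero subspace W on which Q vanishes, with dim W ≠ n/2 − 1, form a maximal subgroup of Ω. -/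
theorem result {F : Type*} [Field F] [Fintype F] {n : ℕ} (hn : 13 ≤ n) (heven : Even n) (Q : (Fin n → F) → F) (hQ : Cfsg.Geo.IsNondegenerateQuadraticForm Q) (hplus : Cfsg.Geo.IsPlusTypeOn Q ⊤) (W : Submodule F (Fin n → F)) (hW0 : W ≠ ⊥) (hW : Cfsg.Geo.IsTotallySingularQuad Q W) (hdim : 2 * (Module.finrank F W + 1) ≠ n) : Cfsg.Geo.IsMaximalIn (Cfsg.Geo.omegaGL Q) (Cfsg.Geo.subspaceStabilizer W ⊓ Cfsg.Geo.omegaGL Q) := by
  classical
  have hQ' := quadFormOf_sep hQ
  have hn' : Module.finrank F (Fin n → F) = n := Module.finrank_fin_fun F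
  have hW' : ∀ x ∈ W, quadFormOf hQ x = 0 := hW
  refine omega_isMaximalIn (quadFormOf hQ) rfl W (OrthSub.parabolic_moved hQ' (by omega) hW' hW0)
    fun M hM => OrthSub.parabolic_maximal hQ' (by omega) hW' ?_ hM
  have hk := OrthSub.totallySingular_finrank hQ' hW'
  by_cases h : 2 * Module.finrank F W + 3 ≤ n
  · exact Or.inl (by omega)
  · refine Or.inr fun t ht hp => ?_
    by_contra htW
    obtain ⟨U, hU, hd⟩ := OrthSub.totallySingular_sup hW' ht hp htW
    have := OrthSub.totallySingular_finrank hQ' hU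
    obtain ⟨a, ha⟩ := heven
    omega
end Cfsg.Agent.S5685
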