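import Cfsg.Statements.S5686
import Cfsg.Agent.Lib.Geom.PointMax
import Cfsg.Agent.Lib.Classical.StdQuad
-- import your own Cfsg.Agent.* helpers here

set_option autoImplicit false
open Cfsg CfsgLib.Geom

namespace Cfsg.Agent.S5686

/-- Let F be a finite field with q elements, n ≥ 13 even, Q a non-degenerate quadratic form on F^n of plus type (some subspace of dimension n/2 is totally singular), and Ω the commutator subgroup of the isometry group of Q, viewed inside GL_n(F). The elements of Ω stabilising a subspace of dimension n/2 − 1 on which Q vanishes form a subgroup that is not maximal: some subgroup lies strictly between it and Ω. -/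
theorem result {F : Type*} [Field F] [Fintype F] {n : ℕ} (hn : 13 ≤ n) (heven : Even n) (Q : (Fin n → F) → F) (hQ : Cfsg.Geo.IsNondegenerateQuadraticForm Q) (hplus : Cfsg.Geo.IsPlusTypeOn Q ⊤) (W : Submodule F (Fin n → F)) (hW : Cfsg.Geo.IsTotallySingularQuad Q W) (hdim : 2 * (Module.finrank F W + 1) = n) : ∃ K : Subgroup (Matrix.GeneralLinearGroup (Fin n) F), Cfsg.Geo.subspaceStabilizer W ⊓ Cfsg.Geo.omegaGL Q < K ∧ K < Cfsg.Geo.omegaGL Q := by
  classical
  have hQ' := quadFormOf_sep hQ
  have hn' : Module.finrank F (Fin n → F) = n := Module.finrank_fin_fun F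
  obtain ⟨U0, -, hU0, hU0d⟩ := hplus
  rw [finrank_top, hn'] at hU0d
  set m := Module.finrank F U0 with hm
  have hnd : (quadFormOf hQ).polarBilin.Nondegenerate :=
    ⟨fun x hx => hQ' x hx, fun y hy => hQ' y fun x => by rw [QuadraticMap.polar_comm]; exact hy x⟩
  have hW' : ∀ x ∈ W, quadFormOf hQ x = 0 := hW
  obtain ⟨U, X, hU, -, hWU, -, -⟩ := exists_two_above (quadFormOf hQ) hnd (by omega : _ = 2 * m)
    (by omega : Module.finrank F W + 1 = m) hW' (U := U0) ⟨rfl, hU0⟩
  obtain ⟨x, hxU, hxW⟩ := SetLike.not_le_iff_exists.1 (fun h : U ≤ W => by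
    have := Submodule.finrank_mono h
    rw [hU.1] at this
    omega)
  obtain ⟨w0, hw0, hw0ne⟩ := Submodule.exists_mem_ne_zero_of_ne_bot
    (show W ≠ ⊥ from fun h => by rw [h, finrank_bot] at hdim; omega)
  refine omega_exists_between (quadFormOf hQ) rfl W U (fun g hg hgW =>
    OrthSub.stab_above hQ' (by omega) (by omega) (by omega) hU hWU hg hgW) ?_
    (OrthSub.parabolic_moved hQ' (by omega) hU.2 fun h => by
      have := hU.1; rw [h, finrank_bot] at this; omega)
  have hi : LinearIndependent F ![w0, x] := (LinearIndependent.pair_iff' hw0ne).2 fun a ha =>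
    hxW (ha ▸ W.smul_mem a hw0)
  obtain ⟨w, hw1, hw2⟩ := CfsgLib.Classical.exists_dual_pair (quadFormOf hQ) hQ' hi 1 0
  refine ⟨_, OrthSub.siegel_mem_commutator hQ' (by omega) x w, fun z hz => ?_, w0, hw0, fun hmem => hxW ?_⟩
  · rw [CfsgLib.Classical.siegel_apply _ (hU.2 x hxU) hw2, polar_eq_zero_of_ts _ hU.2 hxU hz, zero_smul, add_zero]
    exact sub_mem hz (U.smul_mem _ hxU)
  · rw [CfsgLib.Classical.siegel_apply _ (hU.2 x hxU) hw2, polar_eq_zero_of_ts _ hU.2 hxU (hWU hw0),
      zero_smul, add_zero, QuadraticMap.polar_comm _ w w0, hw1, mul_zero, add_zero, one_smul] at hmem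
    simpa using sub_mem hw0 hmem
end Cfsg.Agent.S5686
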