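import Cfsg.Statements.S5693
import Cfsg.Agent.Lib.MaxSub.FrameThree
import Cfsg.Agent.Lib.MaxSub.FrameTwo

set_option autoImplicit false
open Cfsg

namespace Cfsg.Agent.S5693

open CfsgLib.Geom CfsgLib.MaxSub
open QuadraticMap (polar)

/-- hyperbolic coordinates in a plane of plus type -/
theorem plane_coords {ι : Type} [Fintype ι] [DecidableEq ι] {F : Type*} [Field F] [Fintype F]
    (Q : QuadraticForm F (ι → F)) {W : Submodule F (ι → F)} (hW : Module.finrank F W = 2)
    (hnd : Cfsg.Geo.IsNondegenerateOn (polar Q) W) (hp : Cfsg.Geo.IsPlusTypeOn (⇑Q) W) :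
    ∃ e f, e ∈ W ∧ f ∈ W ∧ Q e = 0 ∧ Q f = 0 ∧ polar Q e f = 1 ∧ ∀ x ∈ W, ∃ s u : F, x = s • e + u • f ∧
      Q x = s * u ∧ ∀ s' u' : F, polar Q x (s' • e + u' • f) = s * u' + u * s' := by
  obtain ⟨U, hUW, hU, hdim⟩ := hp
  rw [hW] at hdim
  obtain ⟨e, he, he0⟩ := U.exists_mem_ne_zero_of_ne_bot (by intro h; rw [h, finrank_bot] at hdim; omega)
  obtain ⟨f, hf, hqf, hef⟩ := Frame.exists_pair Q hnd (hUW he) he0 (hU e he)
  refine ⟨e, f, hUW he, hf, hU e he, hqf, hef, fun x hx => ?_⟩
  have P : ∀ a b a' b' : F, polar Q (a • e + b • f) (a' • e + b' • f) = a * b' + b * a' := fun a b a' b' => by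
    simp only [QuadraticMap.polar_add_left, QuadraticMap.polar_add_right, QuadraticMap.polar_smul_left,
      QuadraticMap.polar_smul_right, smul_eq_mul, polar_self_two, hU e he, hqf, hef, QuadraticMap.polar_comm Q f e]
    ring
  have hli : LinearIndependent F ![e, f] := by
    rw [LinearIndependent.pair_iff]
    intro s u h
    have h1 := P s u 0 1
    have h2 := P s u 1 0
    rw [h, QuadraticMap.polar_zero_left] at h1 h2
    exact ⟨by linear_combination -h1, by linear_combination -h2⟩
  have hs : Submodule.span F (Set.range ![e, f]) = W := Submodule.eq_of_le_of_finrank_eq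
    (Submodule.span_le.2 (by rintro _ ⟨k, rfl⟩; fin_cases k <;> [exact hUW he; exact hf]))
    (by rw [finrank_span_eq_card hli, hW, Fintype.card_fin])
  rw [Matrix.range_cons_cons_empty] at hs
  rw [← hs] at hx
  obtain ⟨s, u, rfl⟩ := Submodule.mem_span_pair.1 hx
  refine ⟨s, u, rfl, ?_, P s u⟩
  rw [QuadraticMap.map_add Q, QuadraticMap.polar_smul_left, QuadraticMap.polar_smul_right, hef, quad_smul, quad_smul,
    hU e he, hqf, smul_eq_mul, smul_eq_mul]
  ring

/-- Let F be a finite field with q elements, n ≥ 13 even, Q a non-degenerate quadratic form on F^n of plus type (some subspace of dimension n/2 is totally singular), and Ω the commutator subgroup of the isometry group of Q, viewed inside GL_n(F). Let D be a decomposition of F^n into t ≥ 2 pairwise orthogonal, pairwise Q-isometric subspaces of equal dimension k on which the polar form is non-degenerate (with, for even k, all members of plus type or t even; for odd k, q odd and square discriminant), in one of the cases: k = 2 with q = 3; k = 2 with plus-type members and q ∈ {2,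 4, 5}; k = 3 with q = 3; k = 4 with plus-type members and q = 2. Then the elements of Ω permuting the members of D form a subgroup that is not maximal: some subgroup lies strictly between it and Ω. -/
theorem result {F : Type*} [Field F] [Fintype F] {n : ℕ} (hn : 13 ≤ n) (heven : Even n) (Q : (Fin n → F) → F) (hQ : Cfsg.Geo.IsNondegenerateQuadraticForm Q) (hplus : Cfsg.Geo.IsPlusTypeOn Q ⊤) {t : ℕ} (k : ℕ) (D : Fin t → Submodule F (Fin n → F)) (hD : Cfsg.Geo.IsOrthogonalMDecomposition Q k D) (hke : Even k → ((∀ i, Cfsg.Geo.IsPlusTypeOn Q (D i)) ∨ Even t)) (hko : Odd k → (Odd (Fintype.card F) ∧ Cfsg.Geo.HasSquareDiscriminant Q)) (hcase : ((k = 2 ∧ (Fintype.card F = 3 ∨ ((∀ i, Cfsg.Geo.IsPlusTypeOn Q (D i)) ∧ (Fintype.card F = 2 ∨ Fintype.card F = 4 ∨ Fintype.card F = 5)))) ∨ (k = 3 ∧ Fintype.card F = 3) ∨ (k = 4 ∧ Fintype.card F = 2 ∧ ∀ i, Cfsg.Geo.IsPlusTypeOn Q (D i)))) : ∃ K : Subgroup (Matrix.GeneralLinearGroup (Fin n) F), Cfsg.Geo.decompositionStabilizer D ⊓ Cfsg.Geo.omegaGL Q < K ∧ K < Cfsg.Geo.omegaGL Q := by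
  classical
  have hdim : Fintype.card (Fin n) = t * k := by
    obtain ⟨ψ, -⟩ := Decomp.exists_coord hD.decomp.decomp
    have := ψ.finrank_eq
    simpa [Module.finrank_pi, Module.finrank_pi_fintype] using this
  rw [Fintype.card_fin] at hdim
  have hcoe := quadFormOf_coe hQ
  have hsep := quadFormOf_sep hQ
  have h5 : 5 ≤ Module.finrank F (Fin n → F) := by rw [Module.finrank_fin_fun]; omega
  have hnd : Cfsg.Geo.IsNondegenerateMDecomposition (polar (quadFormOf hQ)) k D := by
    rw [hcoe]; exact hD.decomp
  rcases hcase with ⟨rfl, hq3 | ⟨hplus, hq⟩⟩ | ⟨rfl, hq3⟩ | ⟨rfl, hq2, hplus⟩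
  · exact Frame.exists_between_three hq3 (quadFormOf hQ) hcoe hsep h5 (Or.inl rfl) hD (by omega)
  · rw [← hcoe] at hplus
    choose e f he hf hqe hqf hef hco using fun i =>
      plane_coords (quadFormOf hQ) (hnd.decomp.finrank_eq i) (hnd.nondegenerate i) (hplus i)
    have hc := FiniteField.cast_card_eq_zero F
    have hpow : ∀ a : F, a ≠ 0 → a ^ (Fintype.card F - 1) = 1 := fun a ha => FiniteField.pow_card_sub_one_eq_one a ha
    rcases hq with hq | hq | hq
    · rw [hq] at hc
      have h2 : (2 : F) = 0 := by exact_mod_cast hc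
      refine Frame.exists_between_latt (quadFormOf hQ) hcoe hsep h5 h2 hnd (by omega) e f
        (fun i => ⟨he i, hf i, hqe i, hqf i, hef i⟩) (fun v => v = 0) rfl
        (fun x y hx hy => by rw [hx, hy, add_zero]) (fun x hx => Or.inl hx) 1 one_ne_zero fun i x hx y hy hqx hqy => ?_
      obtain ⟨s, u, rfl, hQx, hB⟩ := hco i x hx
      obtain ⟨s', u', rfl, hQy, -⟩ := hco i y hy
      rw [hQx] at hqx
      rw [hQy] at hqy
      have h1 : ∀ a b : F, a * b = 1 → a = 1 ∧ b = 1 := fun a b h => by
        have ha := hpow a (left_ne_zero_of_mul_eq_one h)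
        have hb := hpow b (right_ne_zero_of_mul_eq_one h)
        rw [hq, pow_one] at ha hb
        exact ⟨ha, hb⟩
      obtain ⟨rfl, rfl⟩ := h1 _ _ hqx
      obtain ⟨rfl, rfl⟩ := h1 _ _ hqy
      rw [hB]
      linear_combination h2
    · rw [hq] at hc
      have h4 : (4 : F) = 0 := by exact_mod_cast hc
      have h2 : (2 : F) = 0 := (mul_eq_zero.1 (show (2 : F) * 2 = 0 by linear_combination h4)).elim id id
      obtain ⟨ζ, hζ0, hζ1⟩ : ∃ ζ : F, ζ ≠ 0 ∧ ζ ≠ 1 := by
        by_contra hno
        push Not at hno
        have : Fintype.card F ≤ 2 := (Finset.card_le_card (show Finset.univ ⊆ ({0, 1} : Finset F) from fun z _ => by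
          rcases eq_or_ne z 0 with rfl | hz
          · simp
          · simp [hno z hz])).trans Finset.card_le_two
        omega
      refine Frame.exists_between_latt (quadFormOf hQ) hcoe hsep h5 h2 hnd (by omega) e f
        (fun i => ⟨he i, hf i, hqe i, hqf i, hef i⟩) (fun v => v = 0 ∨ v = 1) (Or.inl rfl) ?_ (fun x hx => hx) ζ
        (by simp [hζ0, hζ1]) fun i x hx y hy hqx hqy => ?_
      · rintro x y (rfl | rfl) (rfl | rfl)
        · left; rw [add_zero]
        · right; rw [zero_add]
        · right; rw [add_zero]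
        · left; linear_combination h2
      obtain ⟨s, u, rfl, hQx, hB⟩ := hco i x hx
      obtain ⟨s', u', rfl, hQy, -⟩ := hco i y hy
      rw [hQx] at hqx
      rw [hQy] at hqy
      rw [hB]
      have hz0 : s * u' ≠ 0 := mul_ne_zero (left_ne_zero_of_mul_eq_one hqx) (right_ne_zero_of_mul_eq_one hqy)
      have hz := hpow _ hz0
      rw [hq] at hz
      have hinv : u * s' = (s * u') ^ 2 := by
        refine mul_left_cancel₀ hz0 ?_
        linear_combination hqx * (u' * s') + hqy - hz
      rw [hinv]
      generalize s * u' = z at hz ⊢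
      by_cases h1 : z = 1
      · left; rw [h1]; linear_combination h2
      · right
        have : (z - 1) * (z ^ 2 + z + 1) = 0 := by linear_combination hz
        linear_combination (mul_eq_zero.1 this).resolve_left (sub_ne_zero.2 h1) - h2
    · rw [hq] at hc
      have h5' : (5 : F) = 0 := by exact_mod_cast hc
      have h2 : (2 : F) ≠ 0 := fun h => one_ne_zero (α := F) (by linear_combination h5' - 2 * h)
      refine Frame.exists_between (quadFormOf hQ) hcoe hsep h5 hnd (by omega) (fun v => v = 1) 1
        (by rw [mul_one]; exact h2) rfl ⟨2, 0, by linear_combination h5'⟩ (fun i => e i + f i) (fun i => e i - f i)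
        (fun i => add_mem (he i) (hf i)) (fun i => by
          rw [QuadraticMap.map_add (quadFormOf hQ), hqe, hqf, hef]; ring) (fun i => ⟨sub_mem (he i) (hf i), ?_, ?_⟩) fun i x hx hqx => ?_
      · intro h
        have h1 : polar (quadFormOf hQ) (e i - f i) (e i) = 0 := by rw [h, QuadraticMap.polar_zero_left]
        rw [QuadraticMap.polar_sub_left, polar_self_two, hqe, QuadraticMap.polar_comm _ (f i) (e i), hef] at h1
        exact one_ne_zero (α := F) (by linear_combination -h1)
      · rw [QuadraticMap.polar_sub_left, QuadraticMap.polar_add_right, QuadraticMap.polar_add_right, polar_self_two,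
          polar_self_two, hqe, hqf, hef, QuadraticMap.polar_comm _ (f i) (e i), hef]
        ring
      obtain ⟨s, u, rfl, hQx, hB⟩ := hco i x hx
      rw [hQx] at hqx
      have h4 := hpow s (left_ne_zero_of_mul_eq_one hqx)
      rw [hq] at h4
      have hb := hB 1 1
      rw [one_smul, one_smul, mul_one, mul_one] at hb
      have h' : (s - 1) * (s + 1) * (s * s + 1) = 0 := by linear_combination h4
      rcases mul_eq_zero.1 h' with h' | h'
      · rcases mul_eq_zero.1 h' with h' | h'
        · have hs : s = 1 := by linear_combination h'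
          subst hs
          rw [one_mul] at hqx
          subst hqx
          right; left
          rw [one_smul, one_smul]
        · have hs : s = -1 := by linear_combination h'
          subst hs
          have hu : u = -1 := by linear_combination -hqx
          subst hu
          right; right
          rw [neg_one_smul, neg_one_smul, neg_add]
      · left
        rw [hb]
        linear_combination u * h' - s * hqx
  · exact Frame.exists_between_three hq3 (quadFormOf hQ) hcoe hsep h5 (Or.inr rfl) hD (by omega)
  · rw [← hcoe] at hplus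
    exact Frame.exists_between_four (quadFormOf hQ) hcoe hsep h5 hq2 hnd hplus (by omega)

end Cfsg.Agent.S5693
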