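import Cfsg.Statements.S5698
import Cfsg.Agent.Lib.MaxSub.OrthPolar
import Cfsg.Agent.Lib.MaxSub.OmegaGen
import Cfsg.Agent.Lib.KnownC.OrthSpinor

set_option autoImplicit false
open Cfsg

namespace Cfsg.Agent.S5698

open CfsgLib.Classical CfsgLib.Geom CfsgLib.MaxSub CfsgLib.KnownC Cfsg.Geo
open QuadraticMap (polar)

/-- Let F be a finite field with q elements, n ≥ 13 even, Q a non-degenerate quadratic form on F^n of plus type (some subspace of dimension n/2 is totally singular), and Ω the commutator subgroup of the isometry group of Q, viewed inside GL_n(F). Suppose n/2 is odd and let D be a decomposition of F^n into two complementary subspaces of dimension n/2 on each of which Q vanishes. Then the elements of Ω preserving or interchanging the two subspaces form a subgroup that is not maximal: some subgroup lies strictly between it and Ω. -/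
theorem result {F : Type*} [Field F] [Fintype F] {n : ℕ} (hn : 13 ≤ n) (heven : Even n) (Q : (Fin n → F) → F) (hQ : Cfsg.Geo.IsNondegenerateQuadraticForm Q) (hplus : Cfsg.Geo.IsPlusTypeOn Q ⊤) (k : ℕ) (hk : 2 * k = n) (hko : Odd k) (D : Fin 2 → Submodule F (Fin n → F)) (hD : Cfsg.Geo.IsMDecomposition k D) (hts : ∀ i, Cfsg.Geo.IsTotallySingularQuad Q (D i)) : ∃ K : Subgroup (Matrix.GeneralLinearGroup (Fin n) F), Cfsg.Geo.decompositionStabilizer D ⊓ Cfsg.Geo.omegaGL Q < K ∧ K < Cfsg.Geo.omegaGL Q := by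
  classical
  let Qf := quadFormOf hQ
  have hcoe : ⇑Qf = Q := quadFormOf_coe hQ
  have hsep : ∀ x, (∀ y, polar Qf x y = 0) → x = 0 := quadFormOf_sep hQ
  have hex : (∃ t : F, t ≠ 0 ∧ t ≠ 1) ∨ Module.finrank F (Fin n → F) ≠ 4 := Or.inr (by rw [Module.finrank_fin_fun]; omega)
  have hTS : ∀ i, IsMaxTS Qf k (D i) := fun i => ⟨hD.finrank_eq i, hts i⟩
  have hdj : D 0 ⊓ D 1 = ⊥ := disjoint_iff.1 (hD.indep.pairwiseDisjoint (by decide : (0 : Fin 2) ≠ 1))
  have P : OPolar Qf k (D 0) (D 1) := by
    refine ⟨hsep, hts 0, hts 1, hdj, ?_, hD.finrank_eq 0, hD.finrank_eq 1⟩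
    rw [eq_top_iff, ← hD.iSup_eq_top, iSup_le_iff]
    intro i
    fin_cases i
    · exact le_sup_left
    · exact le_sup_right
  have S : SplitCtx Qf k (D 0) := splitCtx_of_sep hsep (by simp; omega) (hTS 0) (by omega)
  -- the members are never interchanged
  have hfix : decompositionStabilizer D ⊓ omegaGL Q ≤ subspaceStabilizer (D 0) := by
    rintro g ⟨⟨σ, hσ⟩, hg⟩
    rw [← hcoe] at hg
    obtain ⟨g', hg', rfl⟩ := hg
    rw [SetLike.mem_coe, omega_eq_ker_spinorHom Qf hsep hex, MonoidHom.mem_ker] at hg'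
    have hpar := (spinorHom_fst_iff_parity S hsep hex g').1 (by rw [hg']; rfl)
    have hσ0 : σ 0 = 0 := by
      rcases Fin.exists_fin_two.1 ⟨σ 0, rfl⟩ with h | h
      · exact h
      · exfalso
        rw [show Cfsg.imageSubmodule g'.1.1 (D 0) = D 1 from h ▸ hσ 0, hdj, finrank_bot, Nat.sub_zero] at hpar
        exact (Nat.not_even_iff_odd.2 hko) hpar
    have h0 := hσ 0
    rw [hσ0] at h0
    intro v
    have hm : ∀ v, v ∈ D 0 ↔ Matrix.toLin' ((g'.1.1) : Matrix (Fin n) (Fin n) F) v ∈ D 0 := fun v => by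
      constructor
      · exact fun hv => h0 ▸ Submodule.mem_map_of_mem hv
      · intro hv
        obtain ⟨w, hw, hwv⟩ := (show Matrix.toLin' _ v ∈ (D 0).map _ from h0.symm ▸ hv)
        have hinj : Function.Injective (Matrix.toLin' ((g'.1.1) : Matrix (Fin n) (Fin n) F)) := by
          intro x y e
          simp only [Matrix.toLin'_apply] at e
          have := congrArg (((g'.1⁻¹ : GL (Fin n) F) : Matrix (Fin n) (Fin n) F).mulVec) e
          simpa [Matrix.mulVec_mulVec] using this
        exact hinj hwv ▸ hw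
    exact hm v
  -- dual vectors
  obtain ⟨a, ha, ha0⟩ := (D 0).exists_mem_ne_zero_of_ne_bot (by
    intro e; have := hD.finrank_eq 0; rw [e, finrank_bot] at this; omega)
  obtain ⟨b, hb, hab⟩ : ∃ b ∈ D 1, polar Qf a b ≠ 0 := by
    by_contra hno
    push Not at hno
    exact ha0 (P.zero_of_orth (fun x hx => polar_of_singular P.singA ha hx) hno)
  obtain ⟨c, hc, hca⟩ : ∃ c ∈ D 0 ⊓ LinearMap.ker (pLin Qf b), c ∉ Submodule.span F {a} := by
    have h1 : 2 ≤ Module.finrank F (D 0 ⊓ LinearMap.ker (pLin Qf b) : Submodule F (Fin n → F)) := by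
      have := finrank_le_inf_ker (D 0) (pLin Qf b); rw [hD.finrank_eq] at this; omega
    by_contra hno
    push Not at hno
    have := (Submodule.finrank_mono hno).trans (finrank_span_le_card ({a} : Set (Fin n → F)))
    simp at this; omega
  have hcb : polar Qf c b = 0 := hc.2
  have hc0 : c ≠ 0 := fun e => hca (e ▸ zero_mem _)
  have hac : polar Qf a c = 0 := polar_of_singular P.singA ha hc.1
  refine ⟨subspaceStabilizer (D 0) ⊓ omegaGL Q, lt_of_le_of_ne (le_inf hfix inf_le_right) ?_,
    lt_of_le_of_ne inf_le_right ?_⟩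
  · -- a Siegel transformation fixing the first member only
    have hval : ∀ z, (siegel Qf a c).1 z = z + polar Qf a z • c - polar Qf c z • a := fun z => by
      rw [siegel_apply Qf (P.singA a ha) hac, P.singA c hc.1, zero_mul, add_zero]
    have hcomm := OrthSub.siegel_mem_commutator (Q := Qf) hsep (by rw [Module.finrank_fin_fun]; omega) a c
    have hA : ∀ z ∈ D 0, (siegel Qf a c).1 z = z := fun z hz => by
      rw [hval, polar_of_singular P.singA ha hz, polar_of_singular P.singA hc.1 hz]; simp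
    intro e
    have hgK : isomsToGL Qf (siegel Qf a c) ∈ subspaceStabilizer (D 0) ⊓ omegaGL Q := by
      refine ⟨?_, ?_⟩
      · intro v
        show v ∈ D 0 ↔ (isomsToGL Qf (siegel Qf a c) : Matrix (Fin n) (Fin n) F).mulVec v ∈ D 0
        rw [isomsToGL_mulVec]
        exact ⟨fun hv => by rw [hA v hv]; exact hv, fun hv => (siegel Qf a c).1.injective (hA _ hv) ▸ hv⟩
      · rw [← hcoe, omegaGL_eq_map]; exact Subgroup.mem_map_of_mem _ hcomm
    obtain ⟨σ, hσ⟩ := ((e.symm ▸ hgK : isomsToGL Qf (siegel Qf a c) ∈ decompositionStabilizer D ⊓ omegaGL Q)).1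
    have hσ0 : σ 0 = 0 := by
      rcases Fin.exists_fin_two.1 ⟨σ 0, rfl⟩ with h | h
      · exact h
      · exfalso
        have h2 : a ∈ D (σ 0) := by
          rw [← hσ]; exact ⟨a, ha, by rw [Matrix.toLin'_apply, isomsToGL_mulVec, hA a ha]⟩
        rw [h] at h2
        exact ha0 (P.zero_of_mem ha h2)
    have hσ1 : σ 1 = 1 := by
      rcases Fin.exists_fin_two.1 ⟨σ 1, rfl⟩ with h | h
      · exact absurd (σ.injective (h.trans hσ0.symm)) (by decide)
      · exact h
    have h3 : b + polar Qf a b • c ∈ D 1 := by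
      rw [← hσ1, ← hσ]
      exact ⟨b, hb, by rw [Matrix.toLin'_apply, isomsToGL_mulVec, hval, hcb, zero_smul, sub_zero]⟩
    have h4 := P.zero_of_mem ((D 0).smul_mem _ hc.1) ((Submodule.add_mem_iff_right (D 1) hb).1 h3)
    exact hc0 ((smul_eq_zero.1 h4).resolve_left hab)
  · -- the opposite one moves it
    obtain ⟨d, hd, hda, hd0⟩ : ∃ d ∈ D 1, polar Qf a d = 0 ∧ d ∉ Submodule.span F {b} := by
      have h1 : 2 ≤ Module.finrank F (D 1 ⊓ LinearMap.ker (pLin Qf a) : Submodule F (Fin n → F)) := by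
        have := finrank_le_inf_ker (D 1) (pLin Qf a); rw [hD.finrank_eq] at this; omega
      by_contra hno
      push Not at hno
      have := (Submodule.finrank_mono (show D 1 ⊓ LinearMap.ker (pLin Qf a) ≤ Submodule.span F {b} from
        fun x hx => hno x hx.1 (by rw [QuadraticMap.polar_comm]; exact hx.2))).trans
          (finrank_span_le_card ({b} : Set (Fin n → F)))
      simp at this; omega
    have hdb : polar Qf b d = 0 := polar_of_singular P.singB hb hd
    have hcomm := OrthSub.siegel_mem_commutator (Q := Qf) hsep (by rw [Module.finrank_fin_fun]; omega) b d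
    intro e
    have hg : isomsToGL Qf (siegel Qf b d) ∈ subspaceStabilizer (D 0) ⊓ omegaGL Q := by
      rw [e, ← hcoe, omegaGL_eq_map]; exact Subgroup.mem_map_of_mem _ hcomm
    have h2 : (siegel Qf b d).1 a ∈ D 0 := by
      have : (isomsToGL Qf (siegel Qf b d) : Matrix (Fin n) (Fin n) F).mulVec a ∈ (D 0 : Set (Fin n → F)) :=
        (hg.1 a).1 ha
      rwa [isomsToGL_mulVec] at this
    have hda' : polar Qf d a = 0 := by rw [QuadraticMap.polar_comm]; exact hda
    rw [siegel_apply Qf (P.singB b hb) hdb, P.singB d hd, zero_mul, add_zero, hda', zero_smul, sub_zero] at h2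
    have h5 := P.zero_of_mem ((Submodule.add_mem_iff_right (D 0) ha).1 h2) ((D 1).smul_mem _ hd)
    rw [smul_eq_zero, QuadraticMap.polar_comm] at h5
    exact hd0 ((h5.resolve_left hab) ▸ zero_mem _)

end Cfsg.Agent.S5698
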