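import Cfsg.Statements.S5699
import Cfsg.Agent.Lib.Geom.NondegMaxCases
-- import your own Cfsg.Agent.* helpers here

set_option autoImplicit false
open Cfsg CfsgLib.Geom

namespace Cfsg.Agent.S5699

/-- Let F be a finite field with q elements, n ≥ 13 even, Q a non-degenerate quadratic form on F^n (of either type), and Ω the commutator subgroup of the isometry group of Q, viewed inside GL_n(F). Let D be a decomposition of F^n into two orthogonal subspaces of odd dimension n/2 on which the polar form is non-degenerate and which are not Q-isometric to each other. Then the elements of Ω permuting (necessarily fixing) the two subspaces form a maximal subgroup of Ω. -/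
theorem result {F : Type*} [Field F] [Fintype F] {n : ℕ} (hn : 13 ≤ n) (heven : Even n) (Q : (Fin n → F) → F) (hQ : Cfsg.Geo.IsNondegenerateQuadraticForm Q) (k : ℕ) (hk : 2 * k = n) (hko : Odd k) (D : Fin 2 → Submodule F (Fin n → F)) (hD : Cfsg.Geo.IsNondegenerateMDecomposition (QuadraticMap.polar Q) k D) (hni : ¬ Cfsg.Geo.AreIsometricFor Q (D 0) (D 1)) : Cfsg.Geo.IsMaximalIn (Cfsg.Geo.omegaGL Q) (Cfsg.Geo.decompositionStabilizer D ⊓ Cfsg.Geo.omegaGL Q) := by
  classical
  let Qf := quadFormOf hQ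
  have hQ' : ∀ x, (∀ y, QuadraticMap.polar Qf x y = 0) → x = 0 := quadFormOf_sep hQ
  have hn' : Module.finrank F (Fin n → F) = n := Module.finrank_fin_fun F
  have hperp : ∀ u ∈ D 0, ∀ w ∈ D 1, QuadraticMap.polar Qf u w = 0 := fun u hu w hw =>
    hD.orthogonal 0 1 (by decide) u hu w hw
  have hsup : D 0 ⊔ D 1 = ⊤ := by
    rw [eq_top_iff, ← hD.decomp.iSup_eq_top, iSup_le_iff]
    intro i
    fin_cases i
    · exact le_sup_left
    · exact le_sup_right
  have h : OrthSub.Split Qf (D 0) (D 1) := ⟨hQ', hperp, hsup, Or.inl (by rw [hD.decomp.finrank_eq]; omega)⟩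
  have hne : ∀ g : quadIsoms Qf, ∃ u ∈ D 0, g.1 u ∉ D 1 := by
    intro g
    by_contra hall
    push Not at hall
    refine hni ⟨LinearEquiv.ofBijective (g.1.toLinearMap.restrict hall) ?_, fun w => g.2 w⟩
    have hinj : Function.Injective (g.1.toLinearMap.restrict hall) := fun a b e =>
      Subtype.ext (g.1.injective (congrArg Subtype.val e))
    exact ⟨hinj, (LinearMap.injective_iff_surjective_of_finrank_eq_finrank (by
      rw [hD.decomp.finrank_eq, hD.decomp.finrank_eq])).1 hinj⟩
  have key := omega_isMaximalIn Qf (f := Q) rfl (D 1)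
    (h.moved (fun e => by
      have := hD.decomp.finrank_eq 1
      rw [e, finrank_bot] at this
      omega))
    fun M hM => h.maximal hne (by
      rintro ⟨-, hd, -⟩
      rw [hD.decomp.finrank_eq] at hd
      omega) hM
  suffices he : Cfsg.Geo.decompositionStabilizer D ⊓ Cfsg.Geo.omegaGL Q =
      Cfsg.Geo.subspaceStabilizer (D 1) ⊓ Cfsg.Geo.omegaGL Q by rw [he]; exact key
  have mapeq : ∀ g : quadIsoms Qf, ∀ i j, (∀ x ∈ D i, g.1 x ∈ D j) →
      (D i).map (Matrix.toLin' (isomsToGL Qf g : Matrix (Fin n) (Fin n) F)) = D j := by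
    intro g i j hij
    have hinj : Function.Injective
        (Matrix.toLin' (isomsToGL Qf g : Matrix (Fin n) (Fin n) F)) := fun x y e => by
      simp only [Matrix.toLin'_apply, isomsToGL_mulVec] at e
      exact g.1.injective e
    refine Submodule.eq_of_le_of_finrank_eq ?_ ?_
    · rintro _ ⟨x, hx, rfl⟩
      rw [Matrix.toLin'_apply, isomsToGL_mulVec]
      exact hij x hx
    · rw [← (Submodule.equivMapOfInjective _ hinj (D i)).finrank_eq, hD.decomp.finrank_eq,
        hD.decomp.finrank_eq]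
  have hom : Cfsg.Geo.omegaGL Q = (commutator (quadIsoms Qf)).map (isomsToGL Qf) := omegaGL_eq_map Qf
  refine le_antisymm (fun x hx => ?_) (fun x hx => ?_)
  · obtain ⟨⟨σ, hσ⟩, hxΩ⟩ := hx
    obtain ⟨g, hg, rfl⟩ := hom ▸ hxΩ
    refine ⟨?_, hxΩ⟩
    have h0 : σ 0 = 0 := by
      by_contra h0
      have h1 : σ 0 = 1 := by omega
      obtain ⟨u, hu, hgu⟩ := hne g
      refine hgu ?_
      rw [← h1, ← hσ 0, ← isomsToGL_mulVec Qf g u, ← Matrix.toLin'_apply]
      exact Submodule.mem_map_of_mem hu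
    refine (isomsToGL_mem_stabilizer Qf g (D 1)).2 (h.maps_W fun u hu => ?_)
    rw [← h0, ← hσ 0, ← isomsToGL_mulVec Qf g u, ← Matrix.toLin'_apply]
    exact Submodule.mem_map_of_mem hu
  · obtain ⟨hst, hxΩ⟩ := hx
    obtain ⟨g, hg, rfl⟩ := hom ▸ hxΩ
    have h1 := (isomsToGL_mem_stabilizer Qf g (D 1)).1 hst
    refine ⟨⟨1, fun i => ?_⟩, hxΩ⟩
    fin_cases i
    · exact mapeq g 0 0 (h.maps_U h1)
    · exact mapeq g 1 1 h1

end Cfsg.Agent.S5699
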