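import Cfsg.Statements.S5703
import Cfsg.Agent.Lib.MaxSub.OmExtra.Main

set_option autoImplicit false
open Cfsg

namespace Cfsg.Agent.S5703

/-- Let p be an odd prime, F the field with p elements, n ≥ 13 even, Q a non-degenerate quadratic form on F^n of plus type and Ω the commutator subgroup of its isometry group. Let R be a 2-subgroup of GL_n(F) of exponent 4 in which every characteristic abelian subgroup is cyclic, of order 2^(1+2k) with centre of order 2 and containing an elementary abelian subgroup of order 2^(k+1) (plus type), acting absolutely irreducibly and consisting of isometries of Q. Then the elements of Ω normalising R form a maximal subgroup of Ω. -/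
theorem result {F : Type*} [Field F] [Fintype F] {n : ℕ} (hn : 13 ≤ n) (heven : Even n) (Q : (Fin n → F) → F) (hQ : Cfsg.Geo.IsNondegenerateQuadraticForm Q) (hplus : Cfsg.Geo.IsPlusTypeOn Q ⊤) (p k : ℕ) (hp : p.Prime) (hpo : Odd p) (hF : Fintype.card F = p) (R : Subgroup (Matrix.GeneralLinearGroup (Fin n) F)) (hR : Cfsg.Geo.IsSymplecticTypeGroup 2 R) (hirr : Cfsg.Geo.ActsAbsolutelyIrreducibly (Cfsg.Geo.matrixSet R)) (hRD : R ≤ Cfsg.isometryGroup F Q) (hcard : Nat.card R = 2 ^ (1 + 2 * k)) (hZ : Nat.card (Subgroup.center R) = 2) (hpt : Cfsg.Geo.IsOfPlusType k R) : Cfsg.Geo.IsMaximalIn (Cfsg.Geo.omegaGL Q) (Cfsg.Geo.subgroupNormalizer R ⊓ Cfsg.Geo.omegaGL Q) := by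
  obtain ⟨Qf, hQf⟩ : ∃ Qf, Qf = CfsgLib.Geom.quadFormOf hQ := ⟨_, rfl⟩
  have hcoe : ⇑Qf = Q := hQf ▸ CfsgLib.Geom.quadFormOf_coe hQ
  have h2 : (2 : F) ≠ 0 := Ring.two_ne_zero fun h => by
    have := FiniteField.even_card_of_char_two h
    rw [hF] at this
    obtain ⟨j, hj⟩ := hpo
    omega
  obtain ⟨B, hBdef⟩ : ∃ B, B = LinearMap.toMatrix₂' F (QuadraticMap.polarBilin Qf) := ⟨_, rfl⟩
  have hB : ∀ u v, CfsgLib.MaxSub.SymReal.form B u v = QuadraticMap.polar Qf u v := fun u v => by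
    rw [CfsgLib.MaxSub.SymReal.form, ← Matrix.toLinearMap₂'_apply', hBdef, Matrix.toLinearMap₂'_toMatrix',
      QuadraticMap.polarBilin_apply_apply]
  have horth : CfsgLib.MaxSub.OmExtra.Orth B := by
    refine ⟨h2, CfsgLib.MaxSub.SymReal.form_ext fun u v => ?_, ?_⟩
    · rw [CfsgLib.MaxSub.SymReal.form, Matrix.mulVec_transpose, dotProduct_comm, ← Matrix.dotProduct_mulVec,
        ← CfsgLib.MaxSub.SymReal.form, hB, hB, QuadraticMap.polar_comm]
    · rw [Matrix.isUnit_iff_isUnit_det, isUnit_iff_ne_zero]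
      intro hdet
      obtain ⟨v, hv0, hv⟩ := Matrix.exists_mulVec_eq_zero_iff.2 hdet
      refine hv0 (CfsgLib.Geom.quadFormOf_sep hQ v fun u => ?_)
      rw [← hQf, QuadraticMap.polar_comm, ← hB, CfsgLib.MaxSub.SymReal.form, hv, dotProduct_zero]
  have hiso : Cfsg.isometryGroup F Q = CfsgLib.MaxSub.SymReal.isomM B := by
    rw [← hcoe]; exact CfsgLib.MaxSub.OmExtra.isometryGroup_eq h2 hB
  have hom : Cfsg.Geo.omegaGL Q = CfsgLib.MaxSub.OmExtra.comSub B := by
    rw [← hcoe]; exact CfsgLib.MaxSub.OmExtra.omegaGL_eq h2 hB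
  rw [hiso] at hRD
  have hfr := CfsgLib.MaxSub.SpExtra.rFrame_of_sympType h2 horth.unit (by simp; omega) hR hirr hRD
  have hc := hfr.card_eq
  rw [hcard, Fintype.card_fin, pow_add, pow_one, mul_comm 2 k, pow_mul, Nat.mul_right_inj two_ne_zero, sq] at hc
  have hn' : n = 2 ^ k := (Nat.mul_self_inj.1 hc).symm
  have hk : 4 ≤ k := by
    by_contra hk
    have := Nat.pow_le_pow_right (show 0 < 2 by norm_num) (show k ≤ 3 by omega)
    omega
  rw [hom]
  exact CfsgLib.MaxSub.OmExtra.maximal (hF ▸ hp) (fun h => by obtain ⟨j, hj⟩ := hpo; omega) hfr horth hRD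
    (by rw [Fintype.card_fin, hn']) hk

end Cfsg.Agent.S5703
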