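import Cfsg.Statements.S5705
import Cfsg.Agent.Lib.MaxSub.OmegaElem
import Cfsg.Agent.Lib.Geom.OmegaMax

set_option autoImplicit false
open Cfsg

namespace Cfsg.Agent.S5705

open Matrix Cfsg.Geo CfsgLib.Geom CfsgLib.Classical
open scoped Kronecker

set_option maxHeartbeats 1600000

/-- Let F be the field with 2 elements, n = 2 n₂ ≥ 13 even, Q a non-degenerate quadratic form on F^n of plus type and Ω the commutator subgroup of its isometry group. Suppose that, through P and e, the polar form of Q is similar to the tensor product of non-degenerate symplectic forms f₁ on F^2 and f₂ on F^(n₂), and Q vanishes on the images of all pure tensors. Then the elements of Ω in the stabiliser of this tensor decomposition form a subgroup that is not maximal: some subgroup lies strictly between it and Ω. -/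
theorem result {F : Type*} [Field F] [Fintype F] {n : ℕ} (hn : 13 ≤ n) (heven : Even n) (Q : (Fin n → F) → F) (hQ : Cfsg.Geo.IsNondegenerateQuadraticForm Q) (hplus : Cfsg.Geo.IsPlusTypeOn Q ⊤) (hq : Fintype.card F = 2) (n₂ : ℕ) (h2 : 2 < n₂) (e : (Fin n) ≃ Fin 2 × Fin n₂) (P : Matrix.GeneralLinearGroup (Fin n) F) (f₁ : (Fin 2 → F) → (Fin 2 → F) → F) (f₂ : (Fin n₂ → F) → (Fin n₂ → F) → F) (hf₁ : Cfsg.Geo.IsSymplecticForm f₁) (hf₂ : Cfsg.Geo.IsSymplecticForm f₂) (hT : Cfsg.Geo.IsTensorFormStructure id (QuadraticMap.polar Q) f₁ f₂ e P) (hpure : (∀ (x₁ : Fin 2 → F) (x₂ : Fin n₂ → F), Q (Matrix.mulVec (P : Matrix (Fin n) (Fin n) F) ((fun a : Fin 2 × Fin n₂ => x₁ a.1 * x₂ a.2) ∘ e)) = 0)) : ∃ K : Subgroup (Matrix.GeneralLinearGroup (Fin n) F), Cfsg.Geo.tensorProductSubgroup 2 n₂ e P ⊓ Cfsg.Geo.omegaGL Q < K ∧ K < Cfsg.Geo.omegaGL Q := by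
  classical
  have h2' : (2 : F) = 0 := by
    have := FiniteField.cast_card_eq_zero F
    rw [hq] at this
    exact_mod_cast this
  haveI hchar : CharP F 2 := CharTwo.of_one_ne_zero_of_two_eq_zero one_ne_zero h2'
  have hF : ∀ x : F, x ≠ 0 → x = 1 := fun x hx => by
    have hu : Fintype.card Fˣ = 1 := by rw [Fintype.card_units, hq]
    have h := Fintype.card_le_one_iff.1 hu.le (Units.mk0 x hx) 1
    exact congrArg Units.val h
  -- the tensor coordinates
  obtain ⟨c, hc, hT⟩ := hT
  have hG : gramMatrix f₁ 0 1 = 1 := by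
    refine hF _ fun h => ?_
    obtain ⟨y, hy⟩ := (hf₁.nondegenerate (Pi.single 0 1) (by simp)).2
    refine hy ?_
    have e : y = y 0 • Pi.single 0 1 + y 1 • Pi.single 1 1 := by funext i; fin_cases i <;> simp
    rw [e, hf₁.bilinear.add_right, hf₁.bilinear.smul_right, hf₁.bilinear.smul_right, hf₁.alternating]
    rw [gramMatrix] at h
    rw [h]; simp
  let ι₀ : (Fin 2 × Fin n₂ → F) → (Fin n → F) := fun x => (P : Matrix (Fin n) (Fin n) F) *ᵥ (x ∘ e)
  have hadd : ∀ x y, ι₀ (x + y) = ι₀ x + ι₀ y := fun x y => by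
    simp only [ι₀, ← mulVec_add]; rfl
  have hsurj : Function.Surjective ι₀ := fun v =>
    ⟨(((P⁻¹ : Matrix.GeneralLinearGroup (Fin n) F) : Matrix (Fin n) (Fin n) F) *ᵥ v) ∘ e.symm, by
      simp [ι₀, Function.comp_assoc, mulVec_mulVec]⟩
  have hQform : ∀ x, Q (ι₀ x) = f₂ (fun j => x (0, j)) (fun j => x (1, j)) := by
    intro x
    set a : Fin n₂ → F := fun j => x (0, j)
    set b : Fin n₂ → F := fun j => x (1, j)
    let u : Fin 2 × Fin n₂ → F := fun p => (Pi.single 0 1 : Fin 2 → F) p.1 * a p.2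
    let w : Fin 2 × Fin n₂ → F := fun p => (Pi.single 1 1 : Fin 2 → F) p.1 * b p.2
    have hx : x = u + w := by
      funext p; obtain ⟨i, j⟩ := p
      fin_cases i <;> simp [u, w, a, b]
    have h1 : Q (ι₀ u) = 0 := hpure (Pi.single 0 1) a
    have h2 : Q (ι₀ w) = 0 := hpure (Pi.single 1 1) b
    have h3 : QuadraticMap.polar Q (ι₀ u) (ι₀ w) = f₂ a b := by
      show QuadraticMap.polar Q _ _ = _
      rw [hT u w, hF c hc, one_mul, formOfGram]
      have hab : f₂ a b = ∑ i, ∑ j, a i * gramMatrix f₂ i j * b j := by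
        let B := LinearMap.mk₂ F f₂ hf₂.bilinear.add_left hf₂.bilinear.smul_left hf₂.bilinear.add_right
          hf₂.bilinear.smul_right
        show B a b = _
        conv_lhs => rw [pi_eq_sum_univ' a, pi_eq_sum_univ' b]
        simp only [map_sum, LinearMap.sum_apply, map_smul, LinearMap.smul_apply, smul_eq_mul, B,
          LinearMap.mk₂_apply, gramMatrix, Finset.mul_sum, mul_assoc, mul_comm (b _)]
        rw [Finset.sum_comm]
        refine Finset.sum_congr rfl fun i _ => ?_
        rw [Finset.sum_mul]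
        exact Finset.sum_congr rfl fun j _ => by ring
      rw [hab]
      simp [u, w, Fintype.sum_prod_type, Fin.sum_univ_two, Matrix.kroneckerMap_apply, hG]
    rw [hx, hadd]
    rw [QuadraticMap.polar, h1, h2] at h3
    simpa using h3
  -- coordinates on `GL`
  let Ψ : Matrix.GeneralLinearGroup (Fin 2 × Fin n₂) F →* Matrix.GeneralLinearGroup (Fin n) F :=
    (MulAut.conj P).toMonoidHom.comp (glReindex e.symm).toMonoidHom
  have hΨinj : Function.Injective Ψ := (MulAut.conj P).injective.comp (glReindex e.symm).injective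
  have hTP : tensorProductSubgroup 2 n₂ e P = (kroneckerSubgroup 2 n₂ F).map Ψ := by
    rw [tensorProductSubgroup, Subgroup.map_map]
  have hΨ : ∀ A x, (Ψ A : Matrix (Fin n) (Fin n) F) *ᵥ ι₀ x =
      ι₀ ((A : Matrix (Fin 2 × Fin n₂) (Fin 2 × Fin n₂) F) *ᵥ x) := by
    intro A x
    have hre : ((glReindex e.symm A : Matrix.GeneralLinearGroup (Fin n) F) : Matrix (Fin n) (Fin n) F) *ᵥ (x ∘ e) =
        ((A : Matrix (Fin 2 × Fin n₂) (Fin 2 × Fin n₂) F) *ᵥ x) ∘ e := by
      show (Matrix.reindex e.symm e.symm (A : Matrix (Fin 2 × Fin n₂) (Fin 2 × Fin n₂) F)) *ᵥ (x ∘ e) = _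
      rw [Matrix.reindex_apply, Matrix.submatrix_mulVec_equiv]
      simp [Function.comp_assoc]
    show ((P * glReindex e.symm A * P⁻¹ : Matrix.GeneralLinearGroup (Fin n) F) : Matrix (Fin n) (Fin n) F) *ᵥ
      ((P : Matrix (Fin n) (Fin n) F) *ᵥ (x ∘ e)) = _
    rw [mulVec_mulVec, ← Units.val_mul, inv_mul_cancel_right, Units.val_mul, ← mulVec_mulVec, hre]
  -- block matrices of order three preserving `Q`
  let φ : Matrix (Fin 2) (Fin 2) (Matrix (Fin n₂) (Fin n₂) F) ≃+* Matrix (Fin 2 × Fin n₂) (Fin 2 × Fin n₂) F :=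
    Matrix.compRingEquiv (Fin 2) (Fin n₂) F
  have hblk : ∀ (M : Matrix (Fin 2) (Fin 2) (Matrix (Fin n₂) (Fin n₂) F)) (x : Fin 2 × Fin n₂ → F) (i : Fin 2),
      (fun j => (φ M *ᵥ x) (i, j)) =
        M i 0 *ᵥ (fun j => x (0, j)) + M i 1 *ᵥ (fun j => x (1, j)) := by
    intro M x i
    funext j
    simp [φ, mulVec, dotProduct, Fintype.sum_prod_type, Fin.sum_univ_two, Matrix.comp]
    rfl
  let Pres : Matrix (Fin 2) (Fin 2) (Matrix (Fin n₂) (Fin n₂) F) → Prop := fun M => ∀ a b : Fin n₂ → F,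
    f₂ (M 0 0 *ᵥ a + M 0 1 *ᵥ b) (M 1 0 *ᵥ a + M 1 1 *ᵥ b) = f₂ a b
  have hPmul : ∀ M N, Pres M → Pres N → Pres (M * N) := by
    intro M N hM hN a b
    have h := hM (N 0 0 *ᵥ a + N 0 1 *ᵥ b) (N 1 0 *ᵥ a + N 1 1 *ᵥ b)
    rw [hN a b] at h
    rw [← h]
    simp only [Matrix.mul_apply, Fin.sum_univ_two, add_mulVec, mulVec_add, mulVec_mulVec]
    congr 1 <;> (try simp only [add_mulVec]) <;> abel
  let Qf := quadFormOf hQ
  have hmk : ∀ M : Matrix (Fin 2) (Fin 2) (Matrix (Fin n₂) (Fin n₂) F), Pres M → ∀ hM : M * (M * M) = 1,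
      Ψ ⟨φ M, φ (M * M), by rw [← map_mul, hM, map_one], by rw [← map_mul, mul_assoc, hM, map_one]⟩ ∈
        omegaGL Q := by
    intro M hM hM3
    set A : Matrix.GeneralLinearGroup (Fin 2 × Fin n₂) F :=
      ⟨φ M, φ (M * M), by rw [← map_mul, hM3, map_one], by rw [← map_mul, mul_assoc, hM3, map_one]⟩
    let g : (Fin n → F) ≃ₗ[F] (Fin n → F) :=
      { Matrix.toLin' (Ψ A : Matrix (Fin n) (Fin n) F) with
        invFun := fun v => (((Ψ A)⁻¹ : Matrix.GeneralLinearGroup (Fin n) F) : Matrix (Fin n) (Fin n) F) *ᵥ v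
        left_inv := fun v => by simp [mulVec_mulVec]
        right_inv := fun v => by simp [mulVec_mulVec] }
    have hg : g ∈ quadIsoms Qf := by
      intro v
      obtain ⟨x, rfl⟩ := hsurj v
      show Q ((Ψ A : Matrix (Fin n) (Fin n) F) *ᵥ ι₀ x) = Q (ι₀ x)
      rw [hΨ, hQform, hQform, show ((A : Matrix (Fin 2 × Fin n₂) (Fin 2 × Fin n₂) F)) = φ M from rfl,
        hblk, hblk]
      exact hM _ _
    have hA3 : A ^ 3 = 1 := Units.ext (by
      rw [Units.val_pow_eq_pow_val, Units.val_one]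
      show φ M ^ 3 = 1
      rw [← map_pow, pow_succ', pow_two, hM3, map_one])
    have hg3 : g ^ 3 = 1 := by
      refine LinearEquiv.ext fun v => ?_
      show (Ψ A : Matrix (Fin n) (Fin n) F) *ᵥ ((Ψ A : Matrix (Fin n) (Fin n) F) *ᵥ
        ((Ψ A : Matrix (Fin n) (Fin n) F) *ᵥ v)) = v
      rw [mulVec_mulVec, mulVec_mulVec, ← Units.val_mul, ← Units.val_mul, ← map_mul, ← map_mul,
        show A * A * A = A ^ 3 by rw [pow_succ, pow_two], hA3, map_one, Units.val_one, one_mulVec]
    obtain ⟨x, hx, -, hxv⟩ := CfsgLib.MaxSub.OmegaElem.exists_gl Qf (quadFormOf_sep hQ)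
      (Or.inr (by rw [Module.finrank_fin_fun]; omega)) (by rw [Fintype.card_fin]; omega) Nat.prime_three
      (by norm_num) hg hg3
    have e : Ψ A = x := Units.ext (Matrix.ext_of_mulVec_single fun i => (hxv _).symm)
    rw [e]
    exact hx
  -- the elements
  have hsym : ∀ a b, f₂ a b = f₂ b a := fun a b => by rw [hf₂.skew, CharTwo.neg_eq]
  let tOp : (Fin n₂ → F) → (Fin n₂ → F) → (Matrix (Fin n₂) (Fin n₂) F) := fun u v =>
    vecMulVec v (fun i => f₂ (Pi.single i 1) u) + vecMulVec u (fun i => f₂ (Pi.single i 1) v)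
  have hdual : ∀ u x, (fun i => f₂ (Pi.single i 1) u) ⬝ᵥ x = f₂ x u := by
    intro u x
    let B := LinearMap.mk₂ F f₂ hf₂.bilinear.add_left hf₂.bilinear.smul_left hf₂.bilinear.add_right
      hf₂.bilinear.smul_right
    show _ = B x u
    conv_rhs => rw [pi_eq_sum_univ' x, map_sum, LinearMap.sum_apply]
    simp only [map_smul, LinearMap.smul_apply, smul_eq_mul, B, LinearMap.mk₂_apply, dotProduct, mul_comm]
  have htOp : ∀ u v x, tOp u v *ᵥ x = f₂ x u • v + f₂ x v • u := fun u v x => by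
    simp [tOp, add_mulVec, vecMulVec_mulVec, hdual]
  have hself : ∀ u v x y, f₂ (tOp u v *ᵥ x) y = f₂ x (tOp u v *ᵥ y) := fun u v x y => by
    rw [htOp, htOp, hf₂.bilinear.add_left, hf₂.bilinear.smul_left, hf₂.bilinear.smul_left,
      hf₂.bilinear.add_right, hf₂.bilinear.smul_right, hf₂.bilinear.smul_right, hsym v y, hsym u y]
    ring
  have halt : ∀ u v x, f₂ (tOp u v *ᵥ x) x = 0 := fun u v x => by
    rw [htOp, hf₂.bilinear.add_left, hf₂.bilinear.smul_left, hf₂.bilinear.smul_left, hsym v x, hsym u x]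
    linear_combination (f₂ x u * f₂ x v) * h2'
  obtain ⟨u, hu⟩ : ∃ u : Fin n₂ → F, u ≠ 0 := ⟨Pi.single ⟨0, by omega⟩ 1, by simp⟩
  obtain ⟨v, hv⟩ : ∃ v, f₂ u v = 1 := by
    obtain ⟨y, hy⟩ := (hf₂.nondegenerate u hu).2
    exact ⟨y, hF _ hy⟩
  have hv0 : v ≠ 0 := fun h => by
    have h' := hf₂.bilinear.smul_right 0 u v
    rw [zero_smul, zero_mul, ← h] at h'
    exact one_ne_zero (hv.symm.trans h')
  set π := tOp u v with hπdef
  have hππ : π * π = π := by
    refine Matrix.ext_of_mulVec_single fun i => ?_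
    rw [← mulVec_mulVec, hπdef]
    simp only [htOp, mulVec_add, mulVec_smul, hf₂.bilinear.add_left, hf₂.bilinear.smul_left, mul_zero, mul_one, hf₂.alternating, hv, hsym v u,
      zero_smul, one_smul, add_zero, zero_add, smul_add]
  have hπ0 : π ≠ 0 := fun h => hu (by
    have := congrArg (· *ᵥ u) h
    simpa [hπdef, htOp, hf₂.alternating, hv] using this)
  have hπ1 : π ≠ 1 := fun h => by
    have hle : (⊤ : Submodule F (Fin n₂ → F)) ≤ Submodule.span F {u, v} := fun x _ => by
      have := congrArg (· *ᵥ x) h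
      simp only [hπdef, htOp, one_mulVec] at this
      exact Submodule.mem_span_pair.2 ⟨_, _, (add_comm _ _).trans this⟩
    have h' := (Submodule.finrank_mono hle).trans (show Module.finrank F
        (Submodule.span F ({u, v} : Set (Fin n₂ → F))) ≤ 2 by
      have h := finrank_span_finset_le_card (R := F) ({u, v} : Finset (Fin n₂ → F))
      rw [Finset.coe_pair] at h
      exact h.trans Finset.card_le_two)
    rw [finrank_top, Module.finrank_fin_fun] at h'
    omega
  obtain ⟨v', hv'u, hv'⟩ : ∃ v', v' ∉ Submodule.span F {u} ∧ f₂ u v' = 0 := by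
    by_contra hno
    push Not at hno
    have hle : (⊤ : Submodule F (Fin n₂ → F)) ≤ Submodule.span F {u, v} := fun x _ => by
      have hw : f₂ u (x + f₂ u x • v) = 0 := by
        rw [hf₂.bilinear.add_right, hf₂.bilinear.smul_right, hv, mul_one, CharTwo.add_self_eq_zero]
      obtain ⟨d, hd⟩ := Submodule.mem_span_singleton.1 (of_not_not fun h => hno _ h hw)
      refine Submodule.mem_span_pair.2 ⟨d, f₂ u x, ?_⟩
      rw [hd, add_assoc, ← add_smul, CharTwo.add_self_eq_zero, zero_smul, add_zero]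
    have h' := (Submodule.finrank_mono hle).trans (show Module.finrank F
        (Submodule.span F ({u, v} : Set (Fin n₂ → F))) ≤ 2 by
      have h := finrank_span_finset_le_card (R := F) ({u, v} : Finset (Fin n₂ → F))
      rw [Finset.coe_pair] at h
      exact h.trans Finset.card_le_two)
    rw [finrank_top, Module.finrank_fin_fun] at h'
    omega
  set T := tOp u v' with hTdef
  have hTT : T * T = 0 := by
    refine Matrix.ext_of_mulVec_single fun i => ?_
    rw [← mulVec_mulVec, hTdef]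
    simp only [htOp, mulVec_add, mulVec_smul, hf₂.bilinear.add_left, hf₂.bilinear.smul_left, mul_zero, mul_one, hf₂.alternating, hv', hsym v' u,
      zero_smul, add_zero, smul_zero, zero_mulVec]
  have hT0 : T ≠ 0 := fun h => by
    have := congrArg (· *ᵥ v) h
    simp only [hTdef, htOp, zero_mulVec, hsym v u, hv, one_smul] at this
    exact hv'u (Submodule.mem_span_singleton.2 ⟨-f₂ v v', by
      rw [neg_smul, eq_comm, eq_neg_iff_add_eq_zero]; exact this⟩)
  have haa : ∀ A : (Matrix (Fin n₂) (Fin n₂) F), A + A = 0 := fun A => by ext i j; exact CharTwo.add_self_eq_zero _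
  haveI : Nonempty (Fin n₂) := ⟨⟨0, by omega⟩⟩
  have haa' : ∀ A B : Matrix (Fin n₂) (Fin n₂) F, A + (A + B) = B := fun A B => by
    rw [← add_assoc, haa, zero_add]
  let W : Matrix (Fin 2) (Fin 2) (Matrix (Fin n₂) (Fin n₂) F) := !![0, 1; 1, 1]
  let G : Matrix (Fin 2) (Fin 2) (Matrix (Fin n₂) (Fin n₂) F) := !![1 + π, π; π, 1]
  let S : Matrix (Fin 2) (Fin 2) (Matrix (Fin n₂) (Fin n₂) F) := !![1, T; 0, 1]
  have hW : Pres W := fun a b => by
    simp [W, hf₂.bilinear.add_right, hf₂.alternating, hsym b a]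
  have hS : Pres S := fun a b => by
    simp [S, hf₂.bilinear.add_left, hTdef, halt]
  have hGp : Pres G := fun a b => by
    have e1 : ∀ x y, f₂ (π *ᵥ x) (π *ᵥ y) = f₂ x (π *ᵥ y) := fun x y => by
      rw [hπdef, hself, ← hπdef, mulVec_mulVec, hππ]
    simp only [G, Matrix.of_apply, Matrix.cons_val', Matrix.cons_val_zero, Matrix.cons_val_one,
      Matrix.cons_val_fin_one, add_mulVec, one_mulVec, hf₂.bilinear.add_left, hf₂.bilinear.add_right, e1]
    have e2 : ∀ x, f₂ x (π *ᵥ x) = 0 := fun x => by rw [hsym]; exact halt u v x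
    have e3 : f₂ b (π *ᵥ a) = f₂ a (π *ᵥ b) := by rw [hπdef, ← hself, hsym]
    have e4 : f₂ (π *ᵥ a) b = f₂ a (π *ᵥ b) := by rw [hπdef, hself]
    have e5 : f₂ (π *ᵥ b) b = 0 := halt u v b
    rw [e2 a, e4, e3, e5]
    linear_combination (f₂ a (π *ᵥ b)) * h2'
  have hW3 : W * (W * W) = 1 := by
    ext i j : 2
    fin_cases i <;> fin_cases j <;> simp [W, Matrix.mul_apply, Fin.sum_univ_two, haa, CharTwo.add_self_eq_zero]
  have hG3 : G * (G * G) = 1 := by
    ext i j : 2
    fin_cases i <;> fin_cases j <;>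
      simp [G, Matrix.mul_apply, Fin.sum_univ_two, mul_add, add_mul, hππ, haa, haa', CharTwo.add_self_eq_zero, add_assoc, add_comm, add_left_comm]
  have hS2 : S * S = 1 := by
    ext i j : 2
    fin_cases i <;> fin_cases j <;> simp [S, Matrix.mul_apply, Fin.sum_univ_two, haa, CharTwo.add_self_eq_zero]
  let W' : Matrix (Fin 2) (Fin 2) (Matrix (Fin n₂) (Fin n₂) F) := S * W * S
  have hW' : Pres W' := hPmul _ _ (hPmul _ _ hS hW) hS
  have hW'3 : W' * (W' * W') = 1 := by
    calc W' * (W' * W') = S * W * (S * S) * W * (S * S) * W * S := by simp only [W', mul_assoc]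
      _ = S * (W * (W * W)) * S := by simp only [hS2, mul_one, mul_assoc]
      _ = 1 := by rw [hW3, mul_one, hS2]
  let mk : ∀ M : Matrix (Fin 2) (Fin 2) (Matrix (Fin n₂) (Fin n₂) F), M * (M * M) = 1 → Matrix.GeneralLinearGroup (Fin n) F := fun M hM =>
    Ψ ⟨φ M, φ (M * M), by rw [← map_mul, hM, map_one], by rw [← map_mul, mul_assoc, hM, map_one]⟩
  set wg := mk W hW3 with hwg
  refine ⟨Subgroup.normalizer (Subgroup.zpowers wg : Set _) ⊓ omegaGL Q, ?_, ?_⟩
  · refine SetLike.lt_iff_le_and_exists.2 ⟨fun x hx => ⟨?_, hx.2⟩, mk G hG3,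
      Subgroup.mem_inf.2 ⟨?_, hmk G hGp hG3⟩, ?_⟩
    · obtain ⟨A, ⟨a, b, hab⟩, rfl⟩ := hTP ▸ hx.1
      -- `a` normalises the group of order three
      have hgl : ∀ p q r s : F, p * s + q * r ≠ 0 →
          (!![p, q; r, s] * !![(0 : F), 1; 1, 1] = !![(0 : F), 1; 1, 1] * !![p, q; r, s]) ∨
          (!![p, q; r, s] * !![(0 : F), 1; 1, 1] = !![(1 : F), 1; 1, 0] * !![p, q; r, s]) := by
        intro p q r s h
        have h01 : ∀ x : F, x = 0 ∨ x = 1 := fun x => (eq_or_ne x 0).imp id (hF x)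
        rcases h01 p with rfl | rfl <;> rcases h01 q with rfl | rfl <;>
        rcases h01 r with rfl | rfl <;> rcases h01 s with rfl | rfl
        all_goals simp only [mul_zero, zero_mul, mul_one, add_zero, zero_add, ne_eq, not_true_eq_false,
          CharTwo.add_self_eq_zero] at h
        all_goals first
          | (left; ext i j; fin_cases i <;> fin_cases j <;>
              (simp [Matrix.mul_apply, Fin.sum_univ_two, CharTwo.add_self_eq_zero]; done))
          | (right; ext i j; fin_cases i <;> fin_cases j <;>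
              (simp [Matrix.mul_apply, Fin.sum_univ_two, CharTwo.add_self_eq_zero]; done))
      set am := (a : Matrix (Fin 2) (Fin 2) F) with ham
      have hdet : am 0 0 * am 1 1 + am 0 1 * am 1 0 ≠ 0 := by
        have h := ((Matrix.isUnit_iff_isUnit_det am).1 a.isUnit).ne_zero
        rwa [Matrix.det_fin_two, CharTwo.sub_eq_add] at h
      have ha2 := hgl _ _ _ _ hdet
      rw [← Matrix.eta_fin_two am] at ha2
      have hφ : ∀ M i j k l, φ M (i, j) (k, l) = M i k j l := fun M i j k l => rfl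
      have hWk : φ W = (!![(0 : F), 1; 1, 1] : Matrix (Fin 2) (Fin 2) F) ⊗ₖ (1 : (Matrix (Fin n₂) (Fin n₂) F)) := by
        ext ⟨i, j⟩ ⟨k, l⟩
        fin_cases i <;> fin_cases k <;> rw [hφ] <;> simp [W, Matrix.kroneckerMap_apply]
      have hW2k : φ (W * W) = (!![(1 : F), 1; 1, 0] : Matrix (Fin 2) (Fin 2) F) ⊗ₖ (1 : (Matrix (Fin n₂) (Fin n₂) F)) := by
        rw [map_mul, hWk, ← Matrix.mul_kronecker_mul, one_mul]
        congr 1
        ext i j
        fin_cases i <;> fin_cases j <;> simp [Matrix.mul_apply, Fin.sum_univ_two, CharTwo.add_self_eq_zero]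
      set w₀ : Matrix.GeneralLinearGroup (Fin 2 × Fin n₂) F :=
        ⟨φ W, φ (W * W), by rw [← map_mul, hW3, map_one], by rw [← map_mul, mul_assoc, hW3, map_one]⟩
      have hw3 : w₀ ^ 3 = 1 := Units.ext (by
        rw [Units.val_pow_eq_pow_val, Units.val_one]
        show φ W ^ 3 = 1
        rw [← map_pow, pow_succ', pow_two, hW3, map_one])
      have hconj : A * w₀ * A⁻¹ = w₀ ∨ A * w₀ * A⁻¹ = w₀ ^ 2 := by
        rcases ha2 with h | h
        · left
          rw [mul_inv_eq_iff_eq_mul]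
          refine Units.ext ?_
          rw [Units.val_mul, Units.val_mul, hab]
          show _ * φ W = φ W * _
          rw [hWk, ← Matrix.mul_kronecker_mul, ← Matrix.mul_kronecker_mul, h, one_mul, mul_one]
        · right
          rw [mul_inv_eq_iff_eq_mul]
          refine Units.ext ?_
          rw [Units.val_mul, Units.val_mul, hab, Units.val_pow_eq_pow_val]
          show _ * φ W = φ W ^ 2 * _
          rw [pow_two, ← map_mul, hW2k, hWk, ← Matrix.mul_kronecker_mul, ← Matrix.mul_kronecker_mul, h,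
            one_mul, mul_one]
      have hz : Subgroup.zpowers (A * w₀ * A⁻¹) = Subgroup.zpowers w₀ := by
        rcases hconj with h | h
        · rw [h]
        · rw [h]
          refine le_antisymm (Subgroup.zpowers_le.2 (Subgroup.mem_zpowers_iff.2 ⟨2, by norm_cast⟩))
            (Subgroup.zpowers_le.2 (Subgroup.mem_zpowers_iff.2 ⟨2, ?_⟩))
          rw [show (2 : ℤ) = ((2 : ℕ) : ℤ) by rfl, zpow_natCast, ← pow_mul, show 2 * 2 = 3 + 1 by rfl,
            pow_succ, hw3, one_mul]
      have hmap : (Subgroup.zpowers wg).map (MulAut.conj (Ψ A)).toMonoidHom = Subgroup.zpowers wg := by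
        rw [MonoidHom.map_zpowers]
        show Subgroup.zpowers (Ψ A * Ψ w₀ * (Ψ A)⁻¹) = Subgroup.zpowers (Ψ w₀)
        rw [← map_inv, ← map_mul, ← map_mul, ← MonoidHom.map_zpowers, hz, MonoidHom.map_zpowers]
      show Ψ A ∈ Subgroup.normalizer (Subgroup.zpowers wg : Set _)
      rw [Subgroup.mem_normalizer_iff]
      intro h
      conv_rhs => rw [← hmap]
      exact (Subgroup.mem_map_iff_mem (MulAut.conj (Ψ A)).injective).symm
    · -- `G` commutes with `W`
      have hcom : G * W = W * G := by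
        ext i j : 2
        fin_cases i <;> fin_cases j <;>
          simp [G, W, Matrix.mul_apply, Fin.sum_univ_two, haa, haa', CharTwo.add_self_eq_zero, add_assoc, add_comm, add_left_comm]
      have hcg : Commute (mk G hG3) wg := by
        refine Commute.map (Units.ext ?_) Ψ
        show φ G * φ W = φ W * φ G
        rw [← map_mul φ, ← map_mul φ]
        exact congrArg φ hcom
      show mk G hG3 ∈ Subgroup.normalizer (Subgroup.zpowers wg : Set _)
      rw [Subgroup.mem_normalizer_iff]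
      intro h
      have key : ∀ z ∈ Subgroup.zpowers wg, Commute (mk G hG3) z := fun z hz => by
        obtain ⟨k, rfl⟩ := Subgroup.mem_zpowers_iff.1 hz
        exact hcg.zpow_right k
      constructor
      · intro hh
        rw [(key h hh).eq, mul_inv_cancel_right]
        exact hh
      · intro hh
        have hc := (key _ hh).eq
        have e : mk G hG3 * h * (mk G hG3)⁻¹ = h := by
          calc mk G hG3 * h * (mk G hG3)⁻¹
              = (mk G hG3)⁻¹ * (mk G hG3 * (mk G hG3 * h * (mk G hG3)⁻¹)) := by group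
            _ = (mk G hG3)⁻¹ * (mk G hG3 * h * (mk G hG3)⁻¹ * mk G hG3) := by rw [hc]
            _ = h := by group
        rwa [e] at hh
    · rintro ⟨hG', -⟩
      obtain ⟨A, ⟨a, b, hab⟩, hA⟩ := hTP ▸ hG'
      have hAe : (A : Matrix (Fin 2 × Fin n₂) (Fin 2 × Fin n₂) F) = φ G :=
        congrArg Units.val (hΨinj hA)
      rw [hab] at hAe
      have hij : ∀ i k, (a : Matrix (Fin 2) (Fin 2) F) i k • (b : (Matrix (Fin n₂) (Fin n₂) F)) = G i k := by
        intro i k
        ext j l
        have := congrFun (congrFun hAe (i, j)) (k, l)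
        rw [Matrix.kroneckerMap_apply] at this
        exact this
      have h11 := hij 1 1
      have h01 := hij 0 1
      simp only [G, Matrix.of_apply, Matrix.cons_val', Matrix.cons_val_zero, Matrix.cons_val_one,
        Matrix.cons_val_fin_one] at h11 h01
      have ha11 : (a : Matrix (Fin 2) (Fin 2) F) 1 1 ≠ 0 := fun h => by
        rw [h, zero_smul] at h11
        have := congrFun (congrFun h11 ⟨0, by omega⟩) ⟨0, by omega⟩
        simp at this
      rw [hF _ ha11, one_smul] at h11
      rcases eq_or_ne ((a : Matrix (Fin 2) (Fin 2) F) 0 1) 0 with h | h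
      · rw [h, zero_smul] at h01
        exact hπ0 h01.symm
      · rw [hF _ h, one_smul, h11] at h01
        exact hπ1 h01.symm
  · refine SetLike.lt_iff_le_and_exists.2 ⟨inf_le_right, mk W' hW'3, hmk W' hW' hW'3, ?_⟩
    rintro ⟨hn', -⟩
    have h := (Subgroup.mem_normalizer_iff.1 hn' wg).1 (Subgroup.mem_zpowers wg)
    obtain ⟨k, hk⟩ := Subgroup.mem_zpowers_iff.1 h
    have hw3 : wg ^ 3 = 1 := by
      rw [hwg]
      show Ψ _ ^ 3 = 1
      rw [← map_pow]
      convert map_one Ψ
      refine Units.ext ?_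
      rw [Units.val_pow_eq_pow_val, Units.val_one]
      show φ W ^ 3 = 1
      rw [← map_pow, pow_succ', pow_two, hW3, map_one]
    have hk' : ∃ j : ℕ, j < 3 ∧ wg ^ j = mk W' hW'3 * wg * (mk W' hW'3)⁻¹ := by
      refine ⟨(k % 3).toNat, by omega, ?_⟩
      rw [← hk, ← zpow_natCast, Int.toNat_of_nonneg (Int.emod_nonneg _ (by norm_num))]
      conv_rhs => rw [← Int.emod_add_mul_ediv k 3, _root_.zpow_add, _root_.zpow_mul]
      rw [show wg ^ (3 : ℤ) = 1 from (zpow_natCast wg 3).trans hw3, _root_.one_zpow, mul_one]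
    obtain ⟨j, hj, hje⟩ := hk'
    rw [eq_mul_inv_iff_mul_eq] at hje
    simp only [hwg, mk, ← map_pow, ← map_mul] at hje
    have heq := congrArg Units.val (hΨinj hje)
    simp only [Units.val_mul, Units.val_pow_eq_pow_val, ← map_pow, ← map_mul] at heq
    have heq' : W ^ j * W' = W' * W := φ.injective heq
    have e11 := congrFun (congrFun heq' 1) 1
    have e10 := congrFun (congrFun heq' 1) 0
    interval_cases j <;>
      simp [W', S, W, Matrix.mul_apply, Fin.sum_univ_two, pow_two, haa, haa', hTT, mul_add, add_mul, add_assoc,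
        add_comm, add_left_comm] at e11 e10 <;>
      exact hT0 (by first | exact e11 | exact e11.symm | simp_all)

end Cfsg.Agent.S5705
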