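import Cfsg.Statements.S5707
import Cfsg.Agent.Lib.MaxSub.WreathSpin

set_option autoImplicit false
open Cfsg

namespace Cfsg.Agent.S5707

open CfsgLib.MaxSub CfsgLib.MaxSub.WreathSpin Matrix
open CfsgLib.Aschbacher (pureMat pureMat_mul pureMat_one permMat permMat_mul_inv pureMat_mul_permMat cj cj_apply
  cj_mul cj_one)
open Cfsg.Geo
open scoped commutatorElement

theorem two_eq_zero {F : Type*} [Field F] [Fintype F] (hchar : ¬ Odd (Fintype.card F)) : (2 : F) = 0 := by
  by_contra h
  refine hchar (Nat.odd_iff.2 (FiniteField.odd_card_of_char_ne_two fun hc => h ?_))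
  have := ringChar.spec F 2
  rw [hc] at this
  exact_mod_cast this.2 dvd_rfl

/-- the dimension of a symplectic space is not three -/
theorem dim_ne_three {F : Type*} [Field F] (h2 : (2 : F) = 0) {f : (Fin 3 → F) → (Fin 3 → F) → F}
    (hf : IsSymplecticForm f) : False := by
  have hdet : (gramMatrix f).det = 0 := by
    have hd : ∀ i : Fin 3, gramMatrix f i i = 0 := fun i => hf.alternating _
    have hs : ∀ i j : Fin 3, gramMatrix f j i = gramMatrix f i j := fun i j => swap hf h2 _ _
    rw [Matrix.det_fin_three, hd 0, hd 1, hd 2, hs 0 1, hs 0 2, hs 1 2]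
    linear_combination (gramMatrix f 0 1 * gramMatrix f 1 2 * gramMatrix f 0 2) * h2
  obtain ⟨v, hv, hv0⟩ := Matrix.exists_mulVec_eq_zero_iff.2 hdet
  obtain ⟨x, hx⟩ := (hf.nondegenerate v hv).1
  exact hx (by rw [f_eq hf, hv0, dotProduct_zero])


/-- Let F be a finite field with q elements, n ≥ 13 even, Q a non-degenerate quadratic form on F^n of plus type (some subspace of dimension n/2 is totally singular), and Ω the commutator subgroup of the isometry group of Q, viewed inside GL_n(F). Suppose q is even and that, through P and e, the polar form of Q is similar to the t-fold tensor power (t ≥ 2) of a non-degenerate symplectic form f₁ on F^k with k ≤ 4 and (q, k) ≠ (2, 2), Q vanishing on the images of all pure tensors. Then the elements of Ω in the stabiliser of this decomposition form a subgroup that is not maximal: some subgroup lies strictly between it and Ω. -/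
theorem result {F : Type*} [Field F] [Fintype F] {n : ℕ} (hn : 13 ≤ n) (heven : Even n) (Q : (Fin n → F) → F) (hQ : Cfsg.Geo.IsNondegenerateQuadraticForm Q) (hplus : Cfsg.Geo.IsPlusTypeOn Q ⊤) (hchar : ¬ Odd (Fintype.card F)) (k t : ℕ) (ht : 2 ≤ t) (hk : k ≤ 4) (hex1 : ¬ (Fintype.card F = 2 ∧ k = 2)) (e : (Fin n) ≃ (Fin t → Fin k)) (P : Matrix.GeneralLinearGroup (Fin n) F) (f₁ : (Fin k → F) → (Fin k → F) → F) (hf₁ : Cfsg.Geo.IsSymplecticForm f₁) (hT : Cfsg.Geo.IsTensorPowerFormStructure id (QuadraticMap.polar Q) f₁ e P) (hpure : (∀ xs : Fin t → (Fin k → F), Q (Matrix.mulVec (P : Matrix (Fin n) (Fin n) F) ((fun a : Fin t → Fin k => ∏ i, xs i (a i)) ∘ e)) = 0)) : ∃ K : Subgroup (Matrix.GeneralLinearGroup (Fin n) F), Cfsg.Geo.tensorWreathSubgroup k t e P ⊓ Cfsg.Geo.omegaGL Q < K ∧ K < Cfsg.Geo.omegaGL Q := by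
  classical
  have h2 := two_eq_zero hchar
  have hnk : n = k ^ t := by
    have := Fintype.card_congr e
    rwa [Fintype.card_fin, Fintype.card_fun, Fintype.card_fin, Fintype.card_fin] at this
  have hk24 : k = 2 ∨ k = 4 := by
    rcases k with _ | _ | _ | _ | _ | k
    · rw [Nat.zero_pow (by omega)] at hnk; omega
    · rw [Nat.one_pow] at hnk; omega
    · exact Or.inl rfl
    · exact (dim_ne_three h2 hf₁).elim
    · exact Or.inr rfl
    · omega
  haveI : NeZero k := ⟨by omega⟩
  obtain ⟨c, hc, hcT⟩ := hT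
  let T : ((Fin t → Fin k) → F) → (Fin n → F) := fun x => (P : Matrix (Fin n) (Fin n) F) *ᵥ (x ∘ e)
  let Q' : ((Fin t → Fin k) → F) → F := fun x => Q (T x)
  have hTadd : ∀ x y, T (x + y) = T x + T y := fun x y => by
    show _ = _ + _
    rw [← mulVec_add]; rfl
  have hdot : ∀ x y : (Fin t → Fin k) → F, x ⬝ᵥ (pureMat (fun _ => gramMatrix f₁) *ᵥ y) =
      ∑ a, ∑ b, x a * (∏ i, gramMatrix f₁ (a i) (b i)) * y b := fun x y => by
    simp [dotProduct, mulVec, Finset.mul_sum, mul_assoc, pureMat]
  have P₀ : Pow f₁ c Q' := by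
    refine ⟨hf₁, h2, hc, fun r x => ?_, fun x y => ?_, fun xs => hpure xs⟩
    · show Q (T (r • x)) = r ^ 2 * Q (T x)
      rw [show T (r • x) = r • T x by show _ = r • _; rw [← mulVec_smul]; rfl, hQ.smul]
    · have h := hcT x y
      rw [QuadraticMap.polar] at h
      show Q (T (x + y)) = Q (T x) + Q (T y) + _
      rw [hTadd, hdot]
      simp only [id_eq] at h
      linear_combination h
  obtain ⟨N, N', M, W, h, hN0, hN, hN', hM, hh, hcomm, hanti, hNM, hWsq, hWadj, hWcase⟩ :=
    exists_ops hf₁ h2 hk24 fun hk2 hF2 => hex1 ⟨hF2, hk2⟩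
  let Ψ : GL (Fin t → Fin k) F →* GL (Fin n) F :=
    (MulAut.conj P).toMonoidHom.comp (glReindex e.symm).toMonoidHom
  have hΨinj : Function.Injective Ψ := fun u v huv =>
    (glReindex e.symm).injective ((MulAut.conj P).injective huv)
  have hΨT : ∀ (u : GL (Fin t → Fin k) F) x,
      (Ψ u : Matrix (Fin n) (Fin n) F) *ᵥ T x = T ((u : Matrix _ _ F) *ᵥ x) := fun u x => by
    show ((P : Matrix (Fin n) (Fin n) F) * Matrix.reindex e.symm e.symm (u : Matrix _ _ F) *
      ((P⁻¹ : GL (Fin n) F) : Matrix (Fin n) (Fin n) F)) *ᵥ _ = _ *ᵥ _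
    rw [mulVec_mulVec, Matrix.mul_assoc, ← Units.val_mul, inv_mul_cancel, Units.val_one, Matrix.mul_one,
      ← mulVec_mulVec]
    congr 1
    rw [Matrix.reindex_apply, Matrix.submatrix_mulVec_equiv]
    simp [Function.comp_assoc]
  have hTsurj : ∀ v, ∃ x, T x = v := fun v => by
    refine ⟨(((P⁻¹ : GL (Fin n) F) : Matrix (Fin n) (Fin n) F) *ᵥ v) ∘ e.symm, ?_⟩
    show _ *ᵥ _ = v
    rw [Function.comp_assoc, Equiv.symm_comp_self, Function.comp_id, mulVec_mulVec, ← Units.val_mul,
      mul_inv_cancel, Units.val_one, Matrix.one_mulVec]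
  have hiso : ∀ u : GL (Fin t → Fin k) F,
      Ψ u ∈ Cfsg.isometryGroup F Q ↔ ∀ x, Q' ((u : Matrix _ _ F) *ᵥ x) = Q' x := by
    refine fun u => ⟨fun hu x => ?_, fun hu v _ => ?_⟩
    · have := hu (T x) (T x)
      simp only [Units.coeHom_apply, hΨT] at this
      exact this
    · obtain ⟨x, rfl⟩ := hTsurj v
      show Q ((Ψ u : Matrix (Fin n) (Fin n) F) *ᵥ T x) = Q (T x)
      rw [hΨT]; exact hu x
  -- elements `1 + S` with `N` in a factor are commutators
  have hadj1 : ∀ x y, f₁ ((1 : Matrix (Fin k) (Fin k) F) *ᵥ x) y = f₁ x ((1 : Matrix (Fin k) (Fin k) F) *ᵥ y) :=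
    fun x y => by rw [Matrix.one_mulVec, Matrix.one_mulVec]
  have hΩ : ∀ (a : Fin t → Matrix (Fin k) (Fin k) F) (i r : Fin t) (hi : a i * a i = 0), i ≠ r → a i = N →
      a r * a r = 0 → (∀ l x y, f₁ (a l *ᵥ x) y = f₁ x (a l *ᵥ y)) →
      (k ≠ 2 ∨ ∃ l, l ≠ i ∧ a l = 1) → Ψ (uni h2 (pureMat a) (pure_sq a hi)) ∈ omegaGL Q := by
    intro a i r hi hir hai hr hadj halt
    set a' := Function.update a i N' with ha'
    have hi' : a' i * a' i = 0 := by rw [ha', Function.update_self]; exact hN'.1
    have hr' : a' r * a' r = 0 := by rw [ha', Function.update_of_ne hir.symm]; exact hr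
    let H : GL (Fin t → Fin k) F :=
      { val := slot i (h : Matrix (Fin k) (Fin k) F)
        inv := slot i ((h⁻¹ : GL (Fin k) F) : Matrix (Fin k) (Fin k) F)
        val_inv := by
          rw [slot, slot, pureMat_mul]
          refine Eq.trans (congrArg pureMat (funext fun l => ?_)) pureMat_one
          rcases eq_or_ne l i with rfl | hl <;> simp [*]
        inv_val := by
          rw [slot, slot, pureMat_mul]
          refine Eq.trans (congrArg pureMat (funext fun l => ?_)) pureMat_one
          rcases eq_or_ne l i with rfl | hl <;> simp [*] }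
    set u' := uni h2 (pureMat a') (pure_sq a' hi') with hu'
    have hH : Ψ H ∈ Cfsg.isometryGroup F Q := (hiso H).2 fun x => iso_slot P₀ hh i x
    have hU : Ψ u' ∈ Cfsg.isometryGroup F Q := (hiso u').2 fun x => by
      obtain ⟨l₀, hl₀⟩ : ∃ l₀, ∀ x, f₁ x (a' l₀ *ᵥ x) = 0 := by
        rcases halt with hk2 | ⟨l, hl, hal⟩
        · exact ⟨i, fun x => by rw [ha', Function.update_self]; exact hN'.2.2 hk2 x⟩
        · exact ⟨l, fun x => by rw [ha', Function.update_of_ne hl, hal, Matrix.one_mulVec, hf₁.alternating]⟩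
      refine iso_uni P₀ a' (fun l => ?_) hi' hl₀ x
      rcases eq_or_ne l i with rfl | hl
      · rw [ha', Function.update_self]; exact hN'.2.1
      · rw [ha', Function.update_of_ne hl]; exact hadj l
    have hconj : slot i (h : Matrix (Fin k) (Fin k) F) * pureMat a' *
        slot i ((h⁻¹ : GL (Fin k) F) : Matrix (Fin k) (Fin k) F) =
        pureMat (Function.update a i ((h : Matrix (Fin k) (Fin k) F) * N' *
          ((h⁻¹ : GL (Fin k) F) : Matrix (Fin k) (Fin k) F))) := by
      rw [slot, slot, pureMat_mul, pureMat_mul]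
      congr 1; funext l
      rcases eq_or_ne l i with rfl | hl <;> simp [ha', *]
    have key : H * u' * H⁻¹ * u'⁻¹ = uni h2 (pureMat a) (pure_sq a hi) := by
      refine Units.ext ?_
      show slot i (h : Matrix (Fin k) (Fin k) F) * (1 + pureMat a') *
        slot i ((h⁻¹ : GL (Fin k) F) : Matrix (Fin k) (Fin k) F) * (1 + pureMat a') = 1 + pureMat a
      have hone : slot i (h : Matrix (Fin k) (Fin k) F) *
          slot i ((h⁻¹ : GL (Fin k) F) : Matrix (Fin k) (Fin k) F) = 1 := H.val_inv
      have hz : pureMat (Function.update a i ((h : Matrix (Fin k) (Fin k) F) * N' *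
          ((h⁻¹ : GL (Fin k) F) : Matrix (Fin k) (Fin k) F))) * pureMat a' = 0 := by
        rw [pureMat_mul]
        exact pure_zero _ r (by rw [Function.update_of_ne hir.symm, ha', Function.update_of_ne hir.symm]; exact hr)
      have hX : slot i (h : Matrix (Fin k) (Fin k) F) * (1 + pureMat a') *
          slot i ((h⁻¹ : GL (Fin k) F) : Matrix (Fin k) (Fin k) F) =
          1 + pureMat (Function.update a i ((h : Matrix (Fin k) (Fin k) F) * N' *
          ((h⁻¹ : GL (Fin k) F) : Matrix (Fin k) (Fin k) F))) := by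
        rw [mul_add, Matrix.mul_one, add_mul, hone, hconj]
      rw [hX, add_mul, Matrix.one_mul, mul_add, Matrix.mul_one, hz, add_zero, add_assoc, ha',
        add_comm (pureMat _) (pureMat _), ← pure_add, hcomm, ← hai, Function.update_eq_self]
    refine ⟨⁅(⟨Ψ H, hH⟩ : Cfsg.isometryGroup F Q), ⟨Ψ u', hU⟩⁆,
      Subgroup.commutator_mem_commutator (Subgroup.mem_top _) (Subgroup.mem_top _), ?_⟩
    show Ψ H * Ψ u' * (Ψ H)⁻¹ * (Ψ u')⁻¹ = _
    rw [← key, map_mul, map_mul, map_mul, map_inv, map_inv]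
  -- the stabiliser
  let S : Subgroup (GL (Fin t → Fin k) F) :=
    { carrier := {u | Keeps (f := f₁) u ∧ Keeps (f := f₁) u⁻¹}
      mul_mem' := by
        rintro u v ⟨hu, hu'⟩ ⟨hv, hv'⟩
        refine ⟨fun Z hZ => ?_, fun Z hZ => ?_⟩
        · rw [cj_mul]; exact hu _ (hv _ hZ)
        · rw [_root_.mul_inv_rev, cj_mul]; exact hv' _ (hu' _ hZ)
      one_mem' := ⟨fun Z hZ => by rwa [cj_one], fun Z hZ => by rwa [inv_one, cj_one]⟩
      inv_mem' := by
        rintro u ⟨hu, hu'⟩
        exact ⟨hu', by rwa [inv_inv]⟩ }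
  have hgen : ∀ j M, Nl f₁ M → slot j M ∈ spin (t := t) (f := f₁) := fun j M hM =>
    Submodule.subset_span ⟨j, M, hM, rfl⟩
  have hkeep : ∀ u : GL (Fin t → Fin k) F, (∀ j M, Nl f₁ M → cj u (slot j M) ∈ spin (t := t) (f := f₁)) →
      Keeps (f := f₁) u := by
    intro u hu Z hZ
    have hle : spin (t := t) (f := f₁) ≤ (spin (t := t) (f := f₁)).comap (cj u).toLinearMap :=
      Submodule.span_le.2 (by rintro _ ⟨j, M, hM, rfl⟩; exact hu j M hM)
    exact hle hZ
  -- normal form of the wreath group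
  have hwr : ∀ u : GL (Fin t → Fin k) F, u ∈ tensorWreathStandard k t F →
      ∃ (σ : Equiv.Perm (Fin t)) (b : Fin t → GL (Fin k) F),
        ((u : Matrix _ _ F) = permMat σ * pureMat fun l => (b l : Matrix (Fin k) (Fin k) F)) ∧
        ∀ j Z, cj u (slot j Z) = slot (σ j) (cj (b j) Z) := by
    intro u hu
    obtain ⟨σ, b, hb⟩ := CfsgLib.Aschbacher.Orth.exists_factorisation hu
    refine ⟨σ, b, hb, fun j Z => ?_⟩
    have hcomm : (u : Matrix _ _ F) * slot j Z = slot (σ j) (cj (b j) Z) * (u : Matrix _ _ F) := by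
      have e1 : slot (σ j) (cj (b j) Z) =
          pureMat (fun l => Function.update (fun _ => (1 : Matrix (Fin k) (Fin k) F)) j (cj (b j) Z) (σ.symm l)) := by
        rw [slot]; congr 1; funext l
        rcases eq_or_ne l (σ j) with rfl | hl
        · simp
        · rw [Function.update_of_ne hl, Function.update_of_ne]
          exact fun h => hl (by rw [← h]; simp)
      rw [hb, e1, ← mul_assoc _ (permMat σ), pureMat_mul_permMat, mul_assoc, mul_assoc, slot, pureMat_mul,
        pureMat_mul]
      congr 2; funext l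
      rcases eq_or_ne l j with rfl | hl
      · simp [cj_apply, mul_assoc]
      · simp [hl]
    rw [cj_apply, hcomm, mul_assoc, Units.mul_inv, mul_one]
  have hmap : tensorWreathSubgroup k t e P = (tensorWreathStandard k t F).map Ψ := by
    show Subgroup.map _ (Subgroup.map _ _) = _
    rw [Subgroup.map_map]
  -- two elements
  let i : Fin t := ⟨0, by omega⟩
  let r : Fin t := ⟨1, by omega⟩
  have hir : i ≠ r := by simp [i, r, Fin.ext_iff]
  let a : Fin t → Matrix (Fin k) (Fin k) F := Function.update (Function.update (fun _ => 1) r N) i N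
  have hai : a i = N := by simp [a]
  have har : a r = N := by simp [a, hir.symm]
  have hao : ∀ l, l ≠ i → l ≠ r → a l = 1 := fun l h1 h3 => by simp [a, h1, h3]
  have hadj : ∀ l x y, f₁ (a l *ᵥ x) y = f₁ x (a l *ᵥ y) := by
    intro l
    rcases eq_or_ne l i with rfl | h1
    · rw [hai]; exact hN.2.1
    rcases eq_or_ne l r with rfl | h3
    · rw [har]; exact hN.2.1
    rw [hao l h1 h3]; exact hadj1
  have hai2 : a i * a i = 0 := by rw [hai]; exact hN.1
  have har2 : a r * a r = 0 := by rw [har]; exact hN.1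
  have ht4 : k = 2 → 4 ≤ t := fun hk2 => by
    by_contra hlt
    have : 2 ^ t ≤ 2 ^ 3 := Nat.pow_le_pow_right (by norm_num) (by omega)
    rw [hk2] at hnk; omega
  have hxΩ := hΩ a i r hai2 hir hai har2 hadj (by
    rcases hk24 with hk2 | hk4
    · have := ht4 hk2
      exact Or.inr ⟨⟨2, by omega⟩, by simp [i, Fin.ext_iff], hao _ (by simp [i, Fin.ext_iff]) (by simp [r, Fin.ext_iff])⟩
    · exact Or.inl (by omega))
  set x := uni h2 (pureMat a) (pure_sq a hai2) with hx
  have hxinv : x⁻¹ = x := Units.ext rfl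
  have hone : (1 : Matrix (Fin k) (Fin k) F) ≠ 0 := one_ne_zero
  have hxK : Keeps (f := f₁) x := hkeep x fun j Z hZ => by
    rw [hx, cj_uni h2 a hir hai2 har2]
    refine add_mem (hgen j Z hZ) ?_
    obtain ⟨μ, hμ⟩ := hanti Z hZ
    rcases eq_or_ne j i with rfl | hji
    · rw [hai, hμ, pure_smul]
      refine Submodule.smul_mem _ _ ?_
      convert hgen r N hN using 1
      rw [slot]; congr 1; funext l
      rcases eq_or_ne l i with rfl | h1
      · simp [hir]
      · simp [a, h1]
    rcases eq_or_ne j r with rfl | hjr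
    · rw [har, hμ, pure_smul]
      refine Submodule.smul_mem _ _ ?_
      convert hgen i N hN using 1
      rw [slot]; congr 1; funext l
      rcases eq_or_ne l r with rfl | h1
      · simp [hir.symm]
      rcases eq_or_ne l i with rfl | h3
      · simp [a, h1]
      · simp [a, h1, h3]
    · rw [hao j hji hjr, Matrix.one_mul, Matrix.mul_one, ← two_smul F Z, h2, zero_smul,
        pure_zero _ j (Function.update_self ..)]
      exact zero_mem _
  have hM0 : M ≠ 0 := fun e => hone (by rw [← hNM, e, mul_zero, zero_mul, add_zero])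
  refine ⟨S.map Ψ ⊓ omegaGL Q, SetLike.lt_iff_le_and_exists.2 ⟨?_, Ψ x, ?_, ?_⟩,
    SetLike.lt_iff_le_and_exists.2 ⟨inf_le_right, ?_⟩⟩
  · -- the wreath group preserves `spin`
    rintro g ⟨hgW, hgΩ⟩
    rw [hmap] at hgW
    obtain ⟨u, hu, rfl⟩ := hgW
    refine ⟨⟨u, ?_, rfl⟩, hgΩ⟩
    have hiu : Ψ u ∈ Cfsg.isometryGroup F Q := by
      obtain ⟨z, -, hz⟩ := hgΩ
      rw [← hz]; exact z.2
    have main : ∀ v : GL (Fin t → Fin k) F, v ∈ tensorWreathStandard k t F → Ψ v ∈ Cfsg.isometryGroup F Q →
        Keeps (f := f₁) v := by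
      intro v hv hvi
      obtain ⟨σ, b, hb, hbc⟩ := hwr v hv
      set G := pureMat (fun _ : Fin t => gramMatrix f₁) with hG
      have hvt : ∀ x y : (Fin t → Fin k) → F, ((v : Matrix _ _ F) *ᵥ x) ⬝ᵥ (G *ᵥ ((v : Matrix _ _ F) *ᵥ y)) =
          x ⬝ᵥ (((v : Matrix _ _ F)ᵀ * G * (v : Matrix _ _ F)) *ᵥ y) := fun x y => by
        rw [← mulVec_mulVec, ← mulVec_mulVec, Matrix.dotProduct_mulVec x, Matrix.vecMul_transpose]
      have hGv : (v : Matrix _ _ F)ᵀ * G * (v : Matrix _ _ F) = G := by
        ext p q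
        have hq := (hiso v).1 hvi
        have h1 := P₀.add ((v : Matrix _ _ F) *ᵥ Pi.single p 1) ((v : Matrix _ _ F) *ᵥ Pi.single q 1)
        rw [← mulVec_add, hq, hq, hq, P₀.add] at h1
        have h3 := mul_left_cancel₀ hc (add_left_cancel h1)
        rw [← hG, hvt] at h3
        simp only [mulVec_single_one, single_dotProduct, one_mul] at h3
        exact h3.symm
      have hperm : (permMat σ : Matrix (Fin t → Fin k) (Fin t → Fin k) F)ᵀ * G * permMat σ = G := by
        rw [CfsgLib.Aschbacher.Orth.permMat_transpose, mul_assoc, hG,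
          pureMat_mul_permMat σ (fun _ => gramMatrix f₁), ← mul_assoc,
          CfsgLib.Aschbacher.Orth.permMat_mul_permMat, Equiv.Perm.mul_def, Equiv.self_trans_symm, ← Equiv.Perm.one_def,
          CfsgLib.Aschbacher.Orth.permMat_one, one_mul]
      have hpb : (pureMat fun l => (b l : Matrix (Fin k) (Fin k) F))ᵀ * G *
          (pureMat fun l => (b l : Matrix (Fin k) (Fin k) F)) = G := by
        conv_rhs => rw [← hGv, hb]
        conv_lhs => rw [← hperm]
        rw [Matrix.transpose_mul]
        simp only [mul_assoc]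
      refine hkeep v fun j Z hZ => ?_
      rw [hbc]
      refine hgen _ _ ?_
      obtain ⟨l, hl0, hl⟩ := similitude_of_pure P₀ hpb (by omega) j
      have hb' : ∀ x, (b j : Matrix (Fin k) (Fin k) F) *ᵥ
          (((b j)⁻¹ : GL (Fin k) F) : Matrix (Fin k) (Fin k) F) *ᵥ x = x := fun x => by
        rw [mulVec_mulVec, ← Units.val_mul, mul_inv_cancel, Units.val_one, Matrix.one_mulVec]
      have hcjv : ∀ x, cj (b j) Z *ᵥ x = (b j : Matrix (Fin k) (Fin k) F) *ᵥ (Z *ᵥ
          ((((b j)⁻¹ : GL (Fin k) F) : Matrix (Fin k) (Fin k) F) *ᵥ x)) := fun x => by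
        rw [cj_apply, ← mulVec_mulVec, ← mulVec_mulVec]
      refine ⟨by rw [← map_mul, hZ.1, map_zero], fun x y => ?_, fun hk2 x => ?_⟩
      · rw [hcjv, hcjv]
        nth_rw 1 [← hb' y]
        nth_rw 2 [← hb' x]
        rw [hl, hl, hZ.2.1]
      · rw [hcjv]
        nth_rw 1 [← hb' x]
        rw [hl, hZ.2.2 hk2, mul_zero]
    exact ⟨main u hu hiu, main u⁻¹ (inv_mem hu) (by rw [map_inv]; exact inv_mem hiu)⟩
  · exact ⟨⟨x, ⟨hxK, by rw [hxinv]; exact hxK⟩, rfl⟩, hxΩ⟩
  · rintro ⟨hw, -⟩
    rw [hmap] at hw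
    obtain ⟨u, hu, hux⟩ := hw
    obtain ⟨σ, b, -, hbc⟩ := hwr u hu
    have h1 := hbc i M
    rw [hΨinj hux, hx, cj_uni h2 a hir hai2 har2, hai, hNM] at h1
    refine slot_add_ne hir (nonscalar hM.1 hM0) (nonscalar hN.1 hN0) (σ i) _ (Eq.trans ?_ h1)
    congr 1
    rw [slot]; congr 1; funext l
    rcases eq_or_ne l i with rfl | h1
    · simp [hir]
    · simp [a, h1]
  · -- an element of `Ω` outside
    have mem_of : ∀ (u : GL (Fin t → Fin k) F) Z, Ψ u ∈ S.map Ψ ⊓ omegaGL Q → Nl f₁ Z → ∀ j,
        cj u (slot j Z) ∈ spin (t := t) (f := f₁) := by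
      intro u Z hu hZ j
      obtain ⟨v, hv, hvu⟩ := hu.1
      rw [← hΨinj hvu]
      exact hv.1 _ (hgen j Z hZ)
    have hspin : ∀ Z ∈ {Z | ∃ (j : Fin t) (M : Matrix (Fin k) (Fin k) F), Nl f₁ M ∧ Z = slot j M},
        ∃ l M', Z = slot l M' := fun Z ⟨j, M', _, h⟩ => ⟨j, M', h⟩
    rcases hWcase with ⟨hk2, hWN⟩ | ⟨hk4, hZ0, hZsq⟩
    · -- three factors
      have := ht4 hk2
      let s : Fin t := ⟨2, by omega⟩
      let w : Fin t := ⟨3, by omega⟩
      have hsi : s ≠ i := by simp [s, i, Fin.ext_iff]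
      have hsr : s ≠ r := by simp [s, r, Fin.ext_iff]
      let a₂ : Fin t → Matrix (Fin k) (Fin k) F := Function.update a s N
      have hi2 : a₂ i * a₂ i = 0 := by simp only [a₂, Function.update_of_ne hsi.symm]; exact hai2
      have hr2 : a₂ r * a₂ r = 0 := by simp only [a₂, Function.update_of_ne hsr.symm]; exact har2
      refine ⟨_, hΩ a₂ i r hi2 hir (by simp only [a₂, Function.update_of_ne hsi.symm]; exact hai) hr2 (fun l => ?_)
        (Or.inr ⟨w, by simp [w, i, Fin.ext_iff], ?_⟩), fun hy => ?_⟩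
      · rcases eq_or_ne l s with rfl | hl
        · simp only [a₂, Function.update_self]; exact hN.2.1
        · simp only [a₂, Function.update_of_ne hl]; exact hadj l
      · simp only [a₂, Function.update_of_ne (show w ≠ s by simp [w, s, Fin.ext_iff])]
        exact hao w (by simp [w, i, Fin.ext_iff]) (by simp [w, r, Fin.ext_iff])
      · have h1 := mem_of _ M hy hM r
        rw [cj_uni h2 a₂ hir hi2 hr2] at h1
        have h3 := sub_mem h1 (hgen r M hM)
        rw [add_sub_cancel_left] at h3
        refine pure_notMem _ hspin hsi.symm ?_ ?_ ?_ h3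
        · simp only [Function.update_of_ne hir, a₂, Function.update_of_ne hsi.symm, hai]
          exact nonscalar hN.1 hN0
        · simp only [Function.update_of_ne hsr, a₂, Function.update_self]
          exact nonscalar hN.1 hN0
        · intro l hl1 hl2
          rcases eq_or_ne l r with rfl | hl3
          · simp only [Function.update_self, a₂, Function.update_of_ne hsr.symm, har, hNM]
          · simp only [Function.update_of_ne hl3, a₂, Function.update_of_ne hl2]
            exact hao l hl1 hl3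
    · -- a transvection in the second factor
      let a₂ : Fin t → Matrix (Fin k) (Fin k) F := Function.update a r W
      have hi2 : a₂ i * a₂ i = 0 := by simp only [a₂, Function.update_of_ne hir]; exact hai2
      have hr2 : a₂ r * a₂ r = 0 := by simp only [a₂, Function.update_self]; exact hWsq
      refine ⟨_, hΩ a₂ i r hi2 hir (by simp only [a₂, Function.update_of_ne hir]; exact hai) hr2 (fun l => ?_)
        (Or.inl (by omega)), fun hy => ?_⟩
      · rcases eq_or_ne l r with rfl | hl
        · simp only [a₂, Function.update_self]; exact hWadj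
        · simp only [a₂, Function.update_of_ne hl]; exact hadj l
      · have h1 := mem_of _ M hy hM r
        rw [cj_uni h2 a₂ hir hi2 hr2] at h1
        have h3 := sub_mem h1 (hgen r M hM)
        rw [add_sub_cancel_left] at h3
        refine pure_notMem _ hspin hir ?_ ?_ ?_ h3
        · simp only [Function.update_of_ne hir, a₂, hai]
          exact nonscalar hN.1 hN0
        · simp only [Function.update_self, a₂]
          exact nonscalar hZsq hZ0
        · intro l hl1 hl2
          simp only [Function.update_of_ne hl2, a₂]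
          exact hao l hl1 hl2

end Cfsg.Agent.S5707
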