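import Cfsg.Statements.S5712
import Cfsg.Agent.Lib.MaxSub.Eich.Std

set_option autoImplicit false
open Cfsg

namespace Cfsg.Agent.S5712

/-- Let F be a finite field of characteristic two, n ≥ 2, V = F^{2n} with the non-degenerate alternating form f(u, v) = Σ (u_i v_{n+i} + u_{n+i} v_i), and G the group of invertible matrices preserving f. Let a ≠ 0 be a vector, H its stabilizer in G, and X a subgroup of O₂(H) of order |F|^{2n−2} no element of which is a transvection (no element g has g − 1 of rank one). If L is a subgroup of G containing X that acts irreducibly on V (no proper non-zero L-invariant subspace), then L = G, or, for some quadratic form Q on V whose polar form is f, L is the isometry group of Q or its subgroup of the isometries g for which g − 1 has even rank, or |F| = 2, n = 2 and L is isomorphic to the alternating group of degree 6 or to the symmetric group of degree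 5. -/
theorem result {F : Type*} [Field F] [Fintype F] [CharP F 2] {n : ℕ} (hn : 2 ≤ n) (a : (Fin n ⊕ Fin n → F)) (ha : a ≠ 0)
    (X : Subgroup (GL (Fin n ⊕ Fin n) F)) (hXG : X ≤ Cfsg.preserving (Units.coeHom (Matrix (Fin n ⊕ Fin n) (Fin n ⊕ Fin n) F)) (fun u v : (Fin n ⊕ Fin n → F) => ∑ i : Fin n, (u (Sum.inl i) * v (Sum.inr i) + u (Sum.inr i) * v (Sum.inl i))))
    (hXO : ∀ H : Subgroup (GL (Fin n ⊕ Fin n) F),
      (∀ g : GL (Fin n ⊕ Fin n) F, g ∈ H ↔ (g ∈ Cfsg.preserving (Units.coeHom (Matrix (Fin n ⊕ Fin n) (Fin n ⊕ Fin n) F)) (fun u v : (Fin n ⊕ Fin n → F) => ∑ i : Fin n, (u (Sum.inl i) * v (Sum.inr i) + u (Sum.inr i) * v (Sum.inl i))) ∧ Matrix.mulVec (g : Matrix (Fin n ⊕ Fin n) (Fin n ⊕ Fin n) F) a = a)) →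
      X ≤ (Cfsg.pCore 2 ↥H).map H.subtype)
    (hcard : Nat.card ↥X = Fintype.card F ^ (2 * n - 2))
    (hntv : ∀ x ∈ X, ((x : Matrix (Fin n ⊕ Fin n) (Fin n ⊕ Fin n) F) - 1).rank ≠ 1)
    (L : Subgroup (GL (Fin n ⊕ Fin n) F)) (hXL : X ≤ L) (hLG : L ≤ Cfsg.preserving (Units.coeHom (Matrix (Fin n ⊕ Fin n) (Fin n ⊕ Fin n) F)) (fun u v : (Fin n ⊕ Fin n → F) => ∑ i : Fin n, (u (Sum.inl i) * v (Sum.inr i) + u (Sum.inr i) * v (Sum.inl i))))
    (hirr : ∀ W : Submodule F (Fin n ⊕ Fin n → F), (∀ g ∈ L, ∀ w ∈ W, Matrix.mulVec (g : Matrix (Fin n ⊕ Fin n) (Fin n ⊕ Fin n) F) w ∈ W) → W = ⊥ ∨ W = ⊤) :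
    L = Cfsg.preserving (Units.coeHom (Matrix (Fin n ⊕ Fin n) (Fin n ⊕ Fin n) F)) (fun u v : (Fin n ⊕ Fin n → F) => ∑ i : Fin n, (u (Sum.inl i) * v (Sum.inr i) + u (Sum.inr i) * v (Sum.inl i))) ∨
    (∃ Q : QuadraticForm F (Fin n ⊕ Fin n → F), (∀ u v, QuadraticMap.polar ⇑Q u v = (fun u v : (Fin n ⊕ Fin n → F) => ∑ i : Fin n, (u (Sum.inl i) * v (Sum.inr i) + u (Sum.inr i) * v (Sum.inl i))) u v) ∧
      (L = Cfsg.isometryGroup F ⇑Q ∨
        ∀ g : GL (Fin n ⊕ Fin n) F, g ∈ L ↔ (g ∈ Cfsg.isometryGroup F ⇑Q ∧ Even ((g : Matrix (Fin n ⊕ Fin n) (Fin n ⊕ Fin n) F) - 1).rank))) ∨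
    (Fintype.card F = 2 ∧ n = 2 ∧ (Nonempty (↥L ≃* ↥(alternatingGroup (Fin 6))) ∨ Nonempty (↥L ≃* Equiv.Perm (Fin 5)))) := by
  classical
  let f : (Fin n ⊕ Fin n → F) → (Fin n ⊕ Fin n → F) → F := fun u v =>
    ∑ i : Fin n, (u (Sum.inl i) * v (Sum.inr i) + u (Sum.inr i) * v (Sum.inl i))
  let e := CfsgLib.Classical.glLin (ι := Fin n ⊕ Fin n) (F := F)
  let G : Subgroup (GL (Fin n ⊕ Fin n) F) :=
    Cfsg.preserving (Units.coeHom (Matrix (Fin n ⊕ Fin n) (Fin n ⊕ Fin n) F)) f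
  let H : Subgroup (GL (Fin n ⊕ Fin n) F) :=
    G ⊓ (MulAction.stabilizer ((Fin n ⊕ Fin n → F) ≃ₗ[F] (Fin n ⊕ Fin n → F)) a).comap e.toMonoidHom
  have hH : ∀ g, g ∈ H ↔ (g ∈ G ∧ Matrix.mulVec (g : Matrix (Fin n ⊕ Fin n) (Fin n ⊕ Fin n) F) a = a) :=
    fun g => Iff.rfl
  have hXH := hXO H hH
  let P0 := (Cfsg.pCore 2 ↥H).map H.subtype
  have hnormal := CfsgLib.Solvable.pCore_normal 2 ↥H
  have hP0 : ∀ g ∈ P0, g ∈ H := by rintro _ ⟨x, -, rfl⟩; exact x.2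
  let L' := L.map e.toMonoidHom
  let P := P0.map e.toMonoidHom
  let X' := X.map e.toMonoidHom
  have hS : CfsgLib.MaxSub.Eich.Cfg (CfsgLib.MaxSub.Eich.stdForm F n) L' := by
    refine ⟨CfsgLib.MaxSub.Eich.stdForm_alt, CfsgLib.MaxSub.Eich.stdForm_sep, ?_, fun W hW => hirr W fun g hg w hw => ?_⟩
    · rintro _ ⟨g, hg, rfl⟩
      exact (CfsgLib.MaxSub.Eich.glLin_mem_formIsoms g).2 (hLG hg)
    · rw [← CfsgLib.Classical.glLin_apply]
      exact hW _ ⟨g, hg, rfl⟩ w hw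
  have hPf : P ≤ CfsgLib.Geom.formIsoms (CfsgLib.MaxSub.Eich.stdForm F n) := by
    rintro _ ⟨g, hg, rfl⟩
    exact (CfsgLib.MaxSub.Eich.glLin_mem_formIsoms g).2 ((hH g).1 (hP0 g hg)).1
  have hPa : ∀ g ∈ P, g a = a := by
    rintro _ ⟨g, hg, rfl⟩
    exact ((hH g).1 (hP0 g hg)).2
  have hP2 : ∀ g ∈ P, ∃ k : ℕ, g ^ (2 ^ k) = 1 := by
    rintro _ ⟨_, ⟨x, hx, rfl⟩, rfl⟩
    obtain ⟨k, hk⟩ := (CfsgLib.Solvable.pCore_isPGroup (G := ↥H) 2) ⟨x, hx⟩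
    refine ⟨k, ?_⟩
    have hk' : x ^ 2 ^ k = 1 := congrArg Subtype.val hk
    rw [← map_pow, ← map_pow, hk', map_one, map_one]
  have hnorm : ∀ h ∈ CfsgLib.Geom.formIsoms (CfsgLib.MaxSub.Eich.stdForm F n), h a = a →
      ∀ g ∈ P, h * g * h⁻¹ ∈ P := by
    rintro h hh hha _ ⟨_, ⟨x, hx, rfl⟩, rfl⟩
    obtain ⟨h0, rfl⟩ := e.surjective h
    have hh0 : h0 ∈ H := (hH h0).2 ⟨(CfsgLib.MaxSub.Eich.glLin_mem_formIsoms h0).1 hh, hha⟩
    refine ⟨h0 * (x : GL (Fin n ⊕ Fin n) F) * h0⁻¹, ⟨_, hnormal.conj_mem x hx ⟨h0, hh0⟩, rfl⟩, ?_⟩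
    simp
  have hcard' : Nat.card X' = Nat.card F ^ (2 * n - 2) := by
    rw [← Nat.card_congr (X.equivMapOfInjective e.toMonoidHom e.injective).toEquiv, hcard, Nat.card_eq_fintype_card]
  have hntv' : ∀ x ∈ X', CfsgLib.MaxSub.Eich.rk x ≠ 1 := by
    rintro _ ⟨x, hx, rfl⟩
    rw [MulEquiv.coe_toMonoidHom, CfsgLib.MaxSub.Eich.rk_glLin]
    exact hntv x hx
  have hmem : ∀ g, g ∈ L ↔ e g ∈ L' := fun g =>
    ⟨fun h => ⟨g, h, rfl⟩, by rintro ⟨k, hk, hke⟩; exact e.injective hke ▸ hk⟩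
  rcases CfsgLib.MaxSub.Eich.overgroup_cases hS hn
      (by rw [Module.finrank_fintype_fun_eq_card, Fintype.card_sum, Fintype.card_fin, two_mul]) ha hPf hPa hP2 hnorm
      (Subgroup.map_mono hXH) (Subgroup.map_mono hXL) hcard' hntv' with h | ⟨Q, hQ, h⟩ | ⟨hq, rfl, k, hk, hL⟩
  · refine Or.inl (le_antisymm hLG fun g hg => (hmem g).2 ?_)
    rw [h]
    exact (CfsgLib.MaxSub.Eich.glLin_mem_formIsoms g).2 hg
  · refine Or.inr (Or.inl ⟨Q, fun u v => (hQ u v).trans (CfsgLib.MaxSub.Eich.stdForm_apply u v), h.imp (fun h => ?_) fun h g => ?_⟩)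
    · ext g
      rw [hmem g, h, CfsgLib.MaxSub.Eich.glLin_mem_quadIsoms]
    · rw [hmem g, h (e g), CfsgLib.MaxSub.Eich.glLin_mem_quadIsoms, CfsgLib.MaxSub.Eich.rk_glLin]
  have hF : Fintype.card F = 2 := by
    have h1 : (Finset.univ : Finset F) = {0, 1} := by
      ext t
      simpa using hq t
    rw [← Finset.card_univ, h1, Finset.card_pair zero_ne_one]
  obtain ⟨e6⟩ := CfsgLib.MaxSub.Eich.sp_four_two_std hF
  let L0 : Subgroup G := L.subgroupOf G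
  let H6 : Subgroup (Equiv.Perm (Fin 6)) := L0.map e6.toMonoidHom
  let iso : ↥L ≃* ↥H6 :=
    (Subgroup.subgroupOfEquivOfLe hLG).symm.trans (L0.equivMapOfInjective e6.toMonoidHom e6.injective)
  have hcardL : Nat.card L = 60 * k :=
    (Nat.card_congr (L.equivMapOfInjective e.toMonoidHom e.injective).toEquiv).trans hL
  have hidx : H6.index ≤ 6 := by
    have h1 := Subgroup.card_mul_index H6
    rw [← Nat.card_congr iso.toEquiv, hcardL, Nat.card_perm, Nat.card_fin] at h1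
    have h2 : 120 * H6.index ≤ 720 := by
      calc 120 * H6.index ≤ 60 * k * H6.index := Nat.mul_le_mul_right _ (by omega)
        _ = 720 := h1
    omega
  rcases CfsgLib.MaxSub.Eich.sym_six_small_index hidx with h | h | h
  · refine Or.inl (le_antisymm hLG fun g hg => ?_)
    have : e6 ⟨g, hg⟩ ∈ H6 := h ▸ Subgroup.mem_top _
    obtain ⟨x, hx, hxe⟩ := this
    rw [e6.injective hxe] at hx
    exact hx
  · exact Or.inr (Or.inr ⟨hF, rfl, Or.inl ⟨iso.trans (MulEquiv.subgroupCongr h)⟩⟩)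
  · exact Or.inr (Or.inr ⟨hF, rfl, Or.inr (h.map iso.trans)⟩)

end Cfsg.Agent.S5712
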