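import Cfsg.Statements.S5713
import Cfsg.Agent.Lib.Perm.MinimalDegree

set_option autoImplicit false
open Cfsg

namespace Cfsg.Agent.S5713

/-- A classification-free minimal-degree bound. Let G be a finite group acting faithfully and primitively on a finite set Ω with n elements, and suppose that the image of G in the symmetric group on Ω does not contain the alternating group on Ω. Then every non-identity element of G moves at least (√n − 1)/2 points of Ω, that is, it fixes at most n − (√n − 1)/2 points. -/
theorem result {G Ω : Type*} [Group G] [Finite G] [MulAction G Ω] [FaithfulSMul G Ω] [Fintype Ω] [DecidableEq Ω]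
    (hprim : MulAction.IsPreprimitive G Ω)
    (hA : ¬ alternatingGroup Ω ≤ (MulAction.toPermHom G Ω).range)
    (g : G) (hg : g ≠ 1) :
    (Real.sqrt (Fintype.card Ω) - 1) / 2 ≤ (Fintype.card Ω : ℝ) - Nat.card (MulAction.fixedBy Ω g) := by
  classical
  obtain ⟨a, ha⟩ : ∃ a : Ω, g • a ≠ a := by
    by_contra h
    push Not at h
    exact hg (eq_of_smul_eq_smul (α := Ω) fun a => by rw [h a, one_smul])
  have h3 : ∀ h : G, ¬ (MulAction.toPermHom G Ω h).IsThreeCycle := by
    intro h hc
    apply hA
    haveI := hprim
    have hrange : MulAction.IsPreprimitive (MulAction.toPermHom G Ω).range Ω :=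
      MulAction.IsPreprimitive.of_surjective (M := G)
        (φ := (MulAction.toPermHom G Ω).rangeRestrict)
        (f := { toFun := id, map_smul' := fun _ _ => rfl }) Function.surjective_id
    exact Equiv.Perm.alternatingGroup_le_of_isPreprimitive_of_isThreeCycle_mem hrange hc
      ⟨h, rfl⟩
  haveI := hprim
  obtain ⟨m, hm⟩ : ∃ m, m = (Finset.univ.filter fun z : Ω => g • z ≠ z).card := ⟨_, rfl⟩
  have hmain := CfsgLib.MinDegree.card_le_moved_sq h3 g a ha
  rw [← hm] at hmain
  have hfix : Nat.card (MulAction.fixedBy Ω g) + m = Fintype.card Ω := by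
    have h1 := Finset.card_filter_add_card_filter_not
      (s := (Finset.univ : Finset Ω)) (fun z => g • z = z)
    rw [Finset.card_univ] at h1
    rw [hm, Nat.card_eq_fintype_card, Fintype.card_subtype]
    exact h1
  have hfix' : (Nat.card (MulAction.fixedBy Ω g) : ℝ) + (m : ℝ) = (Fintype.card Ω : ℝ) := by
    exact_mod_cast hfix
  have hs : Real.sqrt (Fintype.card Ω) ≤ 2 * (m : ℝ) + 1 := by
    rw [Real.sqrt_le_iff]
    exact ⟨by positivity, by exact_mod_cast hmain⟩
  linarith

end Cfsg.Agent.S5713
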