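import Cfsg.Statements.S5722
import Cfsg.Agent.Lib.MaxSub.CLenFactors
import Cfsg.Agent.Lib.Recog.Derange
import Mathlib.GroupTheory.GroupAction.Primitive
import Mathlib.GroupTheory.GroupAction.SubMulAction.OfStabilizer
import Mathlib.Tactic

set_option autoImplicit false
open Cfsg
open scoped Pointwise

namespace Cfsg.Agent.S5722

open MulAction CfsgLib.MaxSub CfsgLib.Recog

universe u

/-- the bound for all permutation groups on `Ω` -/
def Bound (Ω : Type u) : Prop := ∀ G : Subgroup (Equiv.Perm Ω),
  3 * cl G + 4 * Nat.card (Quotient (orbitRel G Ω)) ≤ 4 * Nat.card Ω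

lemma orbits_range {A : Type*} [Group A] {X : Type*} [MulAction A X] :
    Nat.card (Quotient (orbitRel (toPermHom A X).range X)) = Nat.card (Quotient (orbitRel A X)) := by
  refine Nat.card_congr (Quotient.congr (Equiv.refl X) fun x y => ?_)
  simp only [Equiv.refl_apply, orbitRel_apply]
  constructor
  · rintro ⟨⟨_, g, rfl⟩, h⟩
    exact ⟨g, h⟩
  · rintro ⟨g, h⟩
    exact ⟨⟨_, g, rfl⟩, h⟩

lemma bound_action {A : Type*} [Group A] [Finite A] {X : Type u} [Finite X] [MulAction A X]
    [FaithfulSMul A X] (h : Bound X) :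
    3 * cl (⊤ : Subgroup A) + 4 * Nat.card (Quotient (orbitRel A X)) ≤ 4 * Nat.card X := by
  have := h (toPermHom A X).range
  rwa [orbits_range, cl_range_of_injective (f := toPermHom A X)] at this
  exact MulAction.toPerm_injective

lemma bound_range {A : Type*} [Group A] [Finite A] {X : Type u} [Finite X] [Nonempty X]
    (f : A →* Equiv.Perm X) (h : Bound X) : 3 * cl f.range + 4 ≤ 4 * Nat.card X := by
  have := h f.range
  have : Nonempty (Quotient (orbitRel f.range X)) := ⟨Quotient.mk'' (Classical.arbitrary X)⟩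
  have : 0 < Nat.card (Quotient (orbitRel f.range X)) := Nat.card_pos
  omega

lemma two_pow_cardFactors_le : ∀ {m : ℕ}, m ≠ 0 → 2 ^ ArithmeticFunction.cardFactors m ≤ m := by
  intro m hm
  rw [ArithmeticFunction.cardFactors_apply]
  calc 2 ^ m.primeFactorsList.length ≤ m.primeFactorsList.prod :=
        List.pow_card_le_prod _ _ fun x hx => (Nat.prime_of_mem_primeFactorsList hx).two_le
    _ = m := Nat.prod_primeFactorsList hm

lemma two_pow_cl_le {A : Type*} [Group A] [Finite A] (K : Subgroup A) :
    2 ^ cl K ≤ Nat.card K :=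
  le_trans (Nat.pow_le_pow_right two_pos (cl_le_cardFactors K))
    (two_pow_cardFactors_le (card_ne_zero' K))

lemma arith_T {t j : ℕ} (ht : 4 ≤ t) : 2 * (j + 2) * t ≤ t ^ (j + 2) := by
  induction j with
  | zero =>
    rw [show t ^ (0 + 2) = t * t by ring]
    nlinarith
  | succ j ih =>
    rw [pow_succ]
    calc 2 * (j + 1 + 2) * t ≤ 2 * (j + 2) * t * 4 := by nlinarith
      _ ≤ t ^ (j + 2) * t := Nat.mul_le_mul ih ht

lemma arith_r {r : ℕ} (hr : 3 ≤ r) : ∀ d, 3 * (d + 2) + 3 * ((r - 1) * (d + 2) ^ 2) + 4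
    ≤ 4 * r ^ (d + 2) := by
  obtain ⟨r', rfl⟩ : ∃ r', r = r' + 3 := ⟨r - 3, by omega⟩
  simp only [show r' + 3 - 1 = r' + 2 from rfl]
  intro d
  induction d with
  | zero =>
    rw [show (r' + 3) ^ (0 + 2) = r' * r' + 6 * r' + 9 by ring]
    nlinarith
  | succ d ih =>
    rw [pow_succ (r' + 3)]
    have : 3 * (d + 1 + 2) + 3 * ((r' + 2) * (d + 1 + 2) ^ 2) + 4
        ≤ 3 * (3 * (d + 2) + 3 * ((r' + 2) * (d + 2) ^ 2) + 4) := by
      have h1 : (d + 1 + 2) ^ 2 ≤ 3 * (d + 2) ^ 2 := by nlinarith
      have h2 := Nat.mul_le_mul_left (r' + 2) h1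
      nlinarith
    have h3 := Nat.mul_le_mul_left (4 * (r' + 3) ^ (d + 2)) (show 3 ≤ r' + 3 by omega)
    nlinarith

lemma arith_two : ∀ d, 3 * (d + 4) + 3 * (d + 4) ^ 2 + 4 ≤ 4 * 2 ^ (d + 4) := by
  intro d
  induction d with
  | zero => norm_num
  | succ d ih =>
    rw [show d + 1 + 4 = (d + 4) + 1 from rfl, pow_succ 2 (d + 4)]
    nlinarith

section General

variable {G : Type u} [Group G] [Finite G] {Ω : Type u} [Finite Ω] [MulAction G Ω]
  [FaithfulSMul G Ω]

lemma intransitive (IH : ∀ X : Type u, [Finite X] → Nat.card X < Nat.card Ω → Bound X)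
    (a : Ω) (hO : orbit G a ≠ Set.univ) :
    3 * cl (⊤ : Subgroup G) + 4 * Nat.card (Quotient (orbitRel G Ω)) ≤ 4 * Nat.card Ω := by
  classical
  let X : SubMulAction G Ω :=
    { carrier := (orbit G a)ᶜ
      smul_mem' := fun g x hx h => hx (by
        have := MulAction.mem_orbit_of_mem_orbit g⁻¹ h
        rwa [inv_smul_smul] at this) }
  set f := toPermHom G (orbit G a) with hf
  have : FaithfulSMul f.ker X := by
    refine ⟨fun {k k'} h => Subtype.ext (eq_of_smul_eq_smul (α := Ω) fun ω => ?_)⟩
    by_cases hω : ω ∈ orbit G a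
    · have e : f (k : G) = f (k' : G) :=
        (MonoidHom.mem_ker.mp k.2).trans (MonoidHom.mem_ker.mp k'.2).symm
      exact congrArg Subtype.val (DFunLike.congr_fun e ⟨ω, hω⟩)
    · exact congrArg Subtype.val (h ⟨ω, hω⟩)
  have : Nonempty (orbit G a) := ⟨⟨a, mem_orbit_self a⟩⟩
  have hne : Nonempty X := by
    obtain ⟨x, hx⟩ := (Set.ne_univ_iff_exists_notMem _).mp hO
    exact ⟨⟨x, hx⟩⟩
  have hsum : Nat.card (orbit G a) + Nat.card X = Nat.card Ω := by
    rw [← Nat.card_congr (Equiv.Set.sumCompl (orbit G a)), Nat.card_sum]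
    rfl
  have h1 : 0 < Nat.card (orbit G a) := Nat.card_pos
  have h2 : 0 < Nat.card X := Nat.card_pos
  have b1 := bound_range f (IH (orbit G a) (by omega))
  have b2 := bound_action (A := f.ker) (X := X) (IH X (by omega))
  rw [cl_top_subgroup] at b2
  have hr : Nat.card (Quotient (orbitRel G Ω)) ≤ Nat.card (Quotient (orbitRel f.ker X)) + 1 := by
    rw [← Finite.card_option]
    refine Nat.card_le_card_of_surjective
      (fun o : Option (Quotient (orbitRel f.ker X)) => o.elim (Quotient.mk'' a)
        (Quotient.map' (fun x : X => (x : Ω)) fun x y hxy => ?_)) ?_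
    · rw [orbitRel_apply] at hxy ⊢
      obtain ⟨k, hk⟩ := hxy
      exact ⟨(k : G), congrArg Subtype.val hk⟩
    · intro q
      induction q using Quotient.inductionOn' with
      | h x =>
        by_cases hx : x ∈ orbit G a
        · exact ⟨none, (Quotient.sound' hx).symm⟩
        · exact ⟨some (Quotient.mk'' ⟨x, hx⟩), rfl⟩
  have := cl_le_ker_add_range f
  omega

lemma imprimitive (IH : ∀ X : Type u, [Finite X] → Nat.card X < Nat.card Ω → Bound X)
    [IsPretransitive G Ω] [Nonempty Ω] {B : Set Ω} (hB : IsBlock G B) (hBne : B.Nonempty)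
    (hB1 : 1 < B.ncard) (hB2 : B ≠ Set.univ) :
    3 * cl (⊤ : Subgroup G) + 4 * Nat.card (Quotient (orbitRel G Ω)) ≤ 4 * Nat.card Ω := by
  classical
  set S := orbit G B with hS
  set f := toPermHom G S with hf
  have hmul : B.ncard * Nat.card S = Nat.card Ω := by
    rw [Nat.card_coe_set_eq]; exact hB.ncard_block_mul_ncard_orbit_eq hBne
  have hne : Nonempty S := ⟨⟨B, mem_orbit_self B⟩⟩
  have hS0 : 0 < Nat.card S := Nat.card_pos
  have hS1 : Nat.card S ≠ 1 := by
    intro h
    apply hB2
    apply Set.eq_univ_of_forall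
    intro x
    rw [h, mul_one, ← Set.ncard_univ] at hmul
    rw [Set.eq_of_subset_of_ncard_le (Set.subset_univ B) hmul.ge]
    exact Set.mem_univ x
  have hlt : Nat.card S < Nat.card Ω := by
    rw [← hmul]; exact lt_mul_of_one_lt_left hS0 hB1
  have b1 := bound_range f (IH S hlt)
  -- the kernel
  have hpick : ∀ C : S, ∃ x, x ∈ (C : Set Ω) := by
    rintro ⟨C, g, rfl⟩
    obtain ⟨b, hb⟩ := hBne
    exact ⟨g • b, Set.smul_mem_smul_set hb⟩
  choose pick hpick using hpick
  have hr : Nat.card S ≤ Nat.card (Quotient (orbitRel f.ker Ω)) := by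
    refine Nat.card_le_card_of_injective (fun C => Quotient.mk'' (pick C)) ?_
    intro C D hCD
    have h : pick C ∈ orbit f.ker (pick D) := Quotient.eq''.mp hCD
    obtain ⟨k, hk⟩ := h
    have hkD : (k : G) • (D : Set Ω) = D := by
      have := congrArg (fun σ : Equiv.Perm S => σ D) (MonoidHom.mem_ker.mp k.2)
      exact congrArg Subtype.val this
    have hC : pick C ∈ (D : Set Ω) := by
      rw [← hk, ← hkD]
      exact Set.smul_mem_smul_set (hpick D)
    obtain ⟨g, hg⟩ := C.2
    obtain ⟨g', hg'⟩ := D.2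
    refine Subtype.ext ?_
    by_contra hne'
    have hdisj : Disjoint (C : Set Ω) (D : Set Ω) := by
      rw [← hg, ← hg'] at hne' ⊢
      exact hB hne'
    exact Set.disjoint_left.mp hdisj (hpick C) hC
  obtain ⟨a⟩ := ‹Nonempty Ω›
  have hka : orbit f.ker a ≠ Set.univ := by
    intro h
    have : Subsingleton (Quotient (orbitRel f.ker Ω)) := by
      refine ⟨fun p q => ?_⟩
      induction p using Quotient.inductionOn' with
      | h x => induction q using Quotient.inductionOn' with
        | h y =>
          have hx : x ∈ orbit f.ker a := h ▸ Set.mem_univ x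
          have hy : y ∈ orbit f.ker a := h ▸ Set.mem_univ y
          refine Quotient.sound' ?_
          rw [orbitRel_apply, orbit_eq_iff.mpr hy]
          exact hx
    have h2 : Nat.card S ≤ 1 := hr.trans (Finite.card_le_one_iff_subsingleton.mpr this)
    omega
  have b2 := intransitive (G := f.ker) IH a hka
  rw [cl_top_subgroup] at b2
  have := cl_le_ker_add_range f
  have hone : Nat.card (Quotient (orbitRel G Ω)) = 1 := by
    have : Subsingleton (Quotient (orbitRel G Ω)) :=
      (pretransitive_iff_subsingleton_quotient G Ω).mp ‹_›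
    exact Nat.card_of_subsingleton (Quotient.mk'' (Classical.arbitrary Ω))
  omega

/-- stabiliser bound with its number of orbits -/
lemma stab_bound (IH : ∀ X : Type u, [Finite X] → Nat.card X < Nat.card Ω → Bound X) (a : Ω) :
    3 * cl (stabilizer G a) +
      4 * Nat.card (Quotient (orbitRel (stabilizer G a) (SubMulAction.ofStabilizer G a))) + 4
        ≤ 4 * Nat.card Ω := by
  have : FaithfulSMul (stabilizer G a) (SubMulAction.ofStabilizer G a) := by
    refine ⟨fun {k k'} h => Subtype.ext (eq_of_smul_eq_smul (α := Ω) fun ω => ?_)⟩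
    rcases eq_or_ne ω a with rfl | hω
    · rw [mem_stabilizer_iff.mp k.2, mem_stabilizer_iff.mp k'.2]
    · exact congrArg Subtype.val (h ⟨ω, hω⟩)
  have hcard : Nat.card (SubMulAction.ofStabilizer G a) + 1 = Nat.card Ω := by
    rw [← Set.ncard_univ, ← Set.ncard_add_ncard_compl {a}, Set.ncard_singleton, Set.ncard_univ,
      add_comm, ← Nat.card_coe_set_eq]
    rfl
  have b := bound_action (A := stabilizer G a) (X := SubMulAction.ofStabilizer G a)
    (IH _ (by omega))
  rw [cl_top_subgroup] at b
  omega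

lemma stab_bound' [Nontrivial Ω]
    (IH : ∀ X : Type u, [Finite X] → Nat.card X < Nat.card Ω → Bound X) (a : Ω) :
    3 * cl (stabilizer G a) + 8 ≤ 4 * Nat.card Ω := by
  have := stab_bound IH a (G := G)
  obtain ⟨b, hb⟩ := exists_ne a
  have : Nonempty (Quotient (orbitRel (stabilizer G a) (SubMulAction.ofStabilizer G a))) :=
    ⟨Quotient.mk'' ⟨b, hb⟩⟩
  have : 0 < Nat.card (Quotient (orbitRel (stabilizer G a) (SubMulAction.ofStabilizer G a))) :=
    Nat.card_pos
  omega

omit [FaithfulSMul G Ω] [Finite Ω] in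
lemma exists_stab_mul {N : Subgroup G} [IsPretransitive N Ω] (a : Ω) (g : G) :
    ∃ n ∈ N, ∃ h ∈ stabilizer G a, g = n * h := by
  obtain ⟨⟨n, hn⟩, hna⟩ := exists_smul_eq N a (g • a)
  rw [Subgroup.mk_smul] at hna
  refine ⟨n, hn, n⁻¹ * g, ?_, (mul_inv_cancel_left n g).symm⟩
  rw [mem_stabilizer_iff, mul_smul, ← hna, inv_smul_smul]

/-- splitting over a transitive normal subgroup -/
lemma cl_split {N : Subgroup G} [N.Normal] [IsPretransitive N Ω] (a : Ω) :
    cl (⊤ : Subgroup G) + cl (stabilizer G a ⊓ N) ≤ cl N + cl (stabilizer G a) := by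
  set π := QuotientGroup.mk' N with hπ
  have hker : π.ker = N := QuotientGroup.ker_mk' N
  have h1 := cl_le_ker_add_map π ⊤
  have h2 := cl_ker_add_map_le π (stabilizer G a)
  have hmap : (stabilizer G a).map π = (⊤ : Subgroup G).map π := by
    refine le_antisymm (Subgroup.map_mono le_top) ?_
    rintro _ ⟨g, -, rfl⟩
    obtain ⟨n, hn, h, hh, rfl⟩ := exists_stab_mul (N := N) a g
    refine ⟨h, hh, ?_⟩
    have : π n = 1 := MonoidHom.mem_ker.mp (hker.symm ▸ hn)
    rw [map_mul, this, one_mul]
  rw [hker, top_inf_eq] at h1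
  rw [hker, hmap] at h2
  omega

lemma eq_one_of_centralizes {N : Subgroup G} [IsPretransitive N Ω] {a : Ω} {g : G}
    (hg : g ∈ stabilizer G a) (hc : ∀ n ∈ N, n * g = g * n) : g = 1 := by
  refine eq_of_smul_eq_smul (α := Ω) fun ω => ?_
  obtain ⟨⟨n, hn⟩, rfl⟩ := exists_smul_eq N a ω
  rw [Subgroup.mk_smul, one_smul, smul_smul, ← hc n hn, mul_smul, mem_stabilizer_iff.mp hg]

omit [Finite Ω] [FaithfulSMul G Ω] [MulAction G Ω] in
lemma exists_generators {N : Type*} [Group N] [Finite N] {r : ℕ} [Fact r.Prime]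
    (hN : IsPGroup r N) :
    ∃ s : Finset N, (1 : N) ∉ s ∧ Subgroup.closure (s : Set N) = ⊤ ∧ r ^ s.card ≤ Nat.card N := by
  classical
  have : Fintype N := Fintype.ofFinite N
  let P : Finset N → Prop :=
    fun s => (1 : N) ∉ s ∧ r ^ s.card ≤ Nat.card (Subgroup.closure (s : Set N))
  obtain ⟨s, hs, hmax⟩ := Finset.exists_max_image (Finset.univ.filter P) Finset.card
    ⟨∅, by simp [P]⟩
  simp only [Finset.mem_filter, Finset.mem_univ, true_and] at hs hmax
  refine ⟨s, hs.1, ?_, hs.2.trans (Subgroup.card_le_card_group _)⟩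
  by_contra hne
  obtain ⟨x, hx⟩ : ∃ x, x ∉ Subgroup.closure (s : Set N) := by
    by_contra hall
    rw [not_exists] at hall
    exact hne (eq_top_iff.mpr fun x _ => not_not.mp (hall x))
  have hxs : x ∉ s := fun h => hx (Subgroup.subset_closure h)
  have hins : P (insert x s) := by
    refine ⟨?_, ?_⟩
    · rw [Finset.mem_insert, not_or]
      exact ⟨fun e => hx (e ▸ one_mem _), hs.1⟩
    · rw [Finset.card_insert_of_notMem hxs, pow_succ, Finset.coe_insert]
      set K := Subgroup.closure (s : Set N)
      set K' := Subgroup.closure (insert x (s : Set N))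
      have hKK : K < K' := lt_of_le_of_ne (Subgroup.closure_mono (Set.subset_insert _ _))
        fun e => hx (e ▸ Subgroup.subset_closure (Set.mem_insert _ _))
      obtain ⟨i, hi⟩ := (IsPGroup.iff_card.mp (hN.to_subgroup K))
      obtain ⟨j, hj⟩ := (IsPGroup.iff_card.mp (hN.to_subgroup K'))
      have hlt : Nat.card K < Nat.card K' := by
        by_contra hle
        exact hKK.ne (Subgroup.eq_of_le_of_card_ge hKK.le (not_lt.mp hle))
      have h2 := (Fact.out : r.Prime).two_le
      have hij : i < j := by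
        rw [hi, hj] at hlt
        exact (Nat.pow_lt_pow_iff_right (by omega)).mp hlt
      calc r ^ s.card * r ≤ Nat.card K * r := Nat.mul_le_mul_right _ hs.2
        _ = r ^ (i + 1) := by rw [hi, pow_succ]
        _ ≤ r ^ j := Nat.pow_le_pow_right (by omega) hij
        _ = _ := hj.symm
  have := hmax _ hins
  rw [Finset.card_insert_of_notMem hxs] at this
  omega

lemma abelian_case (IH : ∀ X : Type u, [Finite X] → Nat.card X < Nat.card Ω → Bound X)
    [Nontrivial Ω] [IsPreprimitive G Ω] {N : Subgroup G} [N.Normal] [IsMulCommutative N]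
    (hne : N ≠ ⊥) (hmin : ∀ K : Subgroup G, K.Normal → K ≤ N → K = ⊥ ∨ K = N) :
    3 * cl (⊤ : Subgroup G) + 4 ≤ 4 * Nat.card Ω := by
  classical
  obtain ⟨⟨r, hr, hel⟩, htr, hreg⟩ := abelian_minimal_normal (Ω := Ω) hne hmin
  obtain ⟨a⟩ := (inferInstance : Nonempty Ω)
  have hbij : Function.Bijective (fun x : N => (x : G) • a) := by
    constructor
    · intro x y hxy
      have : y⁻¹ * x ∈ stabilizer N a := by
        rw [mem_stabilizer_iff, mul_smul, inv_smul_eq_iff]
        exact hxy
      rw [hreg a, Subgroup.mem_bot, inv_mul_eq_one] at this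
      exact this.symm
    · intro ω
      obtain ⟨x, hx⟩ := exists_smul_eq N a ω
      exact ⟨x, hx⟩
  have hcardN : Nat.card N = Nat.card Ω := Nat.card_congr (Equiv.ofBijective _ hbij)
  have : Fact r.Prime := ⟨hr⟩
  have hP : IsPGroup r N := fun x => ⟨1, by rw [pow_one]; exact Subtype.ext (by simpa using hel.2 x x.2)⟩
  obtain ⟨d, hd⟩ := IsPGroup.iff_card.mp hP
  obtain ⟨s, hs1, hsgen, hscard⟩ := exists_generators hP
  have hclN : cl N ≤ d := by
    have := cl_le_cardFactors N
    rwa [hd, ArithmeticFunction.cardFactors_apply_prime_pow hr] at this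
  have hsd : s.card ≤ d := by
    rw [hd] at hscard
    exact (Nat.pow_le_pow_iff_right hr.one_lt).mp hscard
  have hn : Nat.card Ω = r ^ d := hcardN.symm.trans hd
  have hsplit := cl_split (G := G) (N := N) a
  have hst := stab_bound' (G := G) IH a
  rcases le_or_gt d 1 with hd1 | hd2
  · omega
  set Ga := stabilizer G a with hGa
  let X := SubMulAction.ofStabilizer G a
  have hX : Nat.card X + 1 = Nat.card Ω := by
    rw [← Set.ncard_univ, ← Set.ncard_add_ncard_compl {a}, Set.ncard_singleton, Set.ncard_univ,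
      add_comm, ← Nat.card_coe_set_eq]
    rfl
  have hcardGa : Nat.card Ga ≤ Nat.card X ^ d := by
    let pt : s → X := fun x => ⟨((x : N) : G) • a, fun e => hs1 (by
      have : (x : N) = 1 := hbij.1 (by
        show ((x : N) : G) • a = ((1 : N) : G) • a
        rw [Subgroup.coe_one, one_smul]; exact e)
      rw [← this]; exact x.2)⟩
    have hinj : Function.Injective (fun (g : Ga) (x : s) => g • pt x) := by
      intro g g' hgg
      have hgm : (g'⁻¹ * g : Ga) = 1 := by
        refine Subtype.ext (eq_one_of_centralizes (N := N) (a := a) (g'⁻¹ * g : Ga).2 ?_)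
        set k : G := ((g'⁻¹ * g : Ga) : G) with hk
        have hkx : ∀ x : s, ((x : N) : G) * k = k * (x : N) := by
          intro x
          have h1 : k • ((x : N) : G) • a = ((x : N) : G) • a := by
            have := congrFun hgg x
            simp only at this
            have h2 : (g'⁻¹ * g) • pt x = pt x := by rw [mul_smul, this, inv_smul_smul]
            exact congrArg Subtype.val h2
          have hka : k • a = a := mem_stabilizer_iff.mp (g'⁻¹ * g : Ga).2
          have hka' : k⁻¹ • a = a := inv_smul_eq_iff.mpr hka.symm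
          have hconj : k * (x : N) * k⁻¹ ∈ N := Subgroup.Normal.conj_mem ‹_› _ (x : N).2 k
          have : (⟨_, hconj⟩ : N) = (x : N) := hbij.1 (by
            show (k * ((x : N) : G) * k⁻¹) • a = ((x : N) : G) • a
            rw [mul_smul, hka', mul_smul, h1])
          have e := congrArg Subtype.val this
          simp only at e
          exact (mul_inv_eq_iff_eq_mul.mp e).symm
        intro n hn'
        have hmem : (⟨n, hn'⟩ : N) ∈ Subgroup.closure (s : Set N) := hsgen ▸ Subgroup.mem_top _
        have hle : Subgroup.closure (s : Set N) ≤ (Subgroup.centralizer {k}).subgroupOf N := by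
          rw [Subgroup.closure_le]
          intro x hx
          exact Subgroup.mem_centralizer_singleton_iff.mpr (hkx ⟨x, hx⟩)
        exact Subgroup.mem_centralizer_singleton_iff.mp (hle hmem)
      exact (inv_mul_eq_one.mp hgm).symm
    have := Nat.card_le_card_of_injective _ hinj
    rw [Nat.card_fun, Nat.card_eq_fintype_card (α := s), Fintype.card_coe] at this
    refine this.trans (Nat.pow_le_pow_right ?_ hsd)
    have := Finite.one_lt_card (α := Ω)
    omega
  have hpow := two_pow_cl_le Ga
  rcases Nat.lt_or_ge r 3 with hr2 | hr3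
  · obtain rfl : r = 2 := by have := hr.two_le; omega
    rcases Nat.lt_or_ge d 4 with hd4 | hd4
    · interval_cases d
      · omega
      · -- n = 8
        norm_num at hn
        have hst2 : 3 * cl Ga + 4 * Nat.card (Quotient (orbitRel Ga X)) + 4 ≤ 4 * Nat.card Ω :=
          stab_bound (G := G) IH a
        rcases Nat.lt_or_ge 1 (Nat.card (Quotient (orbitRel Ga X))) with h1 | h1
        · omega
        · have : IsPretransitive Ga X :=
            (pretransitive_iff_subsingleton_quotient Ga X).mpr
              (Finite.card_le_one_iff_subsingleton.mp h1)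
          have hne' : Nonempty X := by
            have : 0 < Nat.card X := by omega
            exact (Nat.card_pos_iff.mp this).1
          obtain ⟨x⟩ := hne'
          have hidx : (stabilizer Ga x).index = 7 := by
            rw [index_stabilizer_of_transitive]
            omega
          have hdvd := Subgroup.index_dvd_card (stabilizer Ga x)
          rw [hidx] at hdvd
          obtain ⟨m, hm⟩ := hdvd
          have hc := cl_le_cardFactors Ga
          have hm0 : m ≠ 0 := fun e => card_ne_zero' Ga (by rw [hm, e, mul_zero])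
          rw [hm, ArithmeticFunction.cardFactors_mul (by norm_num) hm0,
            ArithmeticFunction.cardFactors_apply_prime (by norm_num : Nat.Prime 7)] at hc
          have hm49 : m ≤ 49 := by
            rw [show Nat.card X = 7 by omega, hm] at hcardGa
            omega
          have h5 : ArithmeticFunction.cardFactors m ≤ 5 := by
            by_contra h6
            have := Nat.pow_le_pow_right two_pos (not_le.mp h6)
            have := two_pow_cardFactors_le hm0
            norm_num at *
            omega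
          omega
    · obtain ⟨e, rfl⟩ : ∃ e, d = e + 4 := ⟨d - 4, by omega⟩
      have hc : cl Ga ≤ (e + 4) ^ 2 := by
        refine (Nat.pow_le_pow_iff_right (le_refl 2)).mp (hpow.trans (hcardGa.trans ?_))
        rw [sq, pow_mul, ← hn]
        exact Nat.pow_le_pow_left (by omega) _
      have := arith_two e
      omega
  · obtain ⟨e, rfl⟩ : ∃ e, d = e + 2 := ⟨d - 2, by omega⟩
    have hc : cl Ga ≤ (r - 1) * (e + 2) ^ 2 := by
      refine (Nat.pow_le_pow_iff_right (le_refl 2)).mp (hpow.trans (hcardGa.trans ?_))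
      rw [pow_mul]
      calc Nat.card X ^ (e + 2) ≤ (r ^ (e + 2)) ^ (e + 2) :=
            Nat.pow_le_pow_left (by omega) _
        _ = r ^ ((e + 2) ^ 2) := by rw [← pow_mul, ← sq]
        _ ≤ _ := Nat.pow_le_pow_left (by
            have := @Nat.lt_two_pow_self (r - 1)
            omega) _
    have := arith_r hr3 e
    omega

omit [Finite Ω] in
lemma stab_le_normalizer_D {N : Subgroup G} [N.Normal] (a : Ω) {g : G}
    (hg : g ∈ stabilizer G a) : cj g (stabilizer G a ⊓ N) = stabilizer G a ⊓ N := by
  ext x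
  rw [mem_cj, Subgroup.mem_inf, Subgroup.mem_inf]
  refine and_congr ⟨fun h => ?_, fun h => ?_⟩ ⟨fun h => ?_, fun h => ?_⟩
  · simpa [mul_assoc] using mul_mem (mul_mem hg h) (inv_mem hg)
  · exact mul_mem (mul_mem (inv_mem hg) h) hg
  · simpa [mul_assoc] using Subgroup.Normal.conj_mem ‹_› _ h g
  · simpa using Subgroup.Normal.conj_mem ‹_› _ h g⁻¹

lemma facs_conj_stab {N T : Subgroup G} (h : FacHyp N T) [IsPretransitive N Ω] (a : Ω)
    {U V : Subgroup G} (hU : U ∈ facs T) (hV : V ∈ facs T) :
    ∃ g ∈ stabilizer G a, cj g U = V := by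
  obtain ⟨x, rfl⟩ := mem_facs.mp hU
  obtain ⟨y, rfl⟩ := mem_facs.mp hV
  obtain ⟨n, hn, g, hg, he⟩ := exists_stab_mul (N := N) a (y * x⁻¹)
  refine ⟨g, hg, ?_⟩
  have hy : cj y T = cj n (cj g (cj x T)) := by
    rw [← cj_mul, ← cj_mul, ← he, inv_mul_cancel_right]
  have hfix : ∀ W ∈ facs T, cj n W = W := by
    intro W hW
    ext z
    rw [mem_cj]
    have := Subgroup.mem_normalizer_iff.mp (h.fac_normalizer hW (inv_mem hn)) z
    simpa using this.symm
  rw [hy, hfix _ (cj_mem_facs g hU)]

lemma fac_not_le_centralizer {N T : Subgroup G} (h : FacHyp N T) [N.Normal] [IsPretransitive N Ω]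
    (a : Ω) (hD : stabilizer G a ⊓ N ≠ ⊥) {U : Subgroup G} (hU : U ∈ facs T) :
    ¬ stabilizer G a ⊓ N ≤ Subgroup.centralizer (U : Set G) := by
  intro hle
  apply hD
  rw [← le_bot_iff, ← h.cenInf_facs]
  intro x hx
  rw [mem_cenInf]
  refine ⟨hx.2, fun V hV => ?_⟩
  obtain ⟨g, hg, rfl⟩ := facs_conj_stab h a hU hV
  rw [← cj_centralizer]
  exact cj_mono g hle ((stab_le_normalizer_D a hg).ge hx)

omit [Finite G] in
lemma autImg_le_of {U D : Subgroup G} (hD : D ≤ Subgroup.normalizer (U : Set G))
    (hU : U ≤ D ⊔ Subgroup.centralizer (U : Set G)) : autImg U U ≤ autImg U D := by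
  rintro _ ⟨⟨x, hxn⟩, hx, rfl⟩
  have hx' := hU hx
  rw [← SetLike.mem_coe, Subgroup.coe_mul_of_left_le_normalizer_right _ _ (fun d hd =>
    Subgroup.mem_normalizer_iff.mpr fun c => by
      constructor
      · exact conj_mem_centralizer (hD hd)
      · intro hc
        simpa [mul_assoc] using conj_mem_centralizer (inv_mem (hD hd)) hc)] at hx'
  obtain ⟨d, hd, c, hc, e⟩ := hx'
  refine ⟨⟨d, hD hd⟩, hd, normalizerMonoidHom_eq ?_⟩
  show d⁻¹ * x ∈ _
  have e' : d * c = x := e
  rw [← e', inv_mul_cancel_left]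
  exact hc

/-- proper projections: the stabiliser of the socle is large -/
lemma proper_case [IsPreprimitive G Ω] [Nontrivial Ω] {N T : Subgroup G} (h : FacHyp N T)
    [N.Normal] [IsPretransitive N Ω] (a : Ω) (hD : stabilizer G a ⊓ N ≠ ⊥) {U₀ : Subgroup G}
    (hU₀ : U₀ ∈ facs T) (hproper : autImg U₀ (stabilizer G a ⊓ N) ≠ autImg U₀ N) :
    (facs T).card ≤ cl (stabilizer G a ⊓ N) := by
  classical
  set D := stabilizer G a ⊓ N with hDdef
  have hDN : D ≤ N := inf_le_right
  let R : Subgroup G → Subgroup G := fun V => V ⊓ (D ⊔ Subgroup.centralizer (V : Set G))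
  let RR : Subgroup G := ⨆ V ∈ facs T, R V
  have hDn : ∀ {V}, V ∈ facs T → D ≤ Subgroup.normalizer (V : Set G) :=
    fun hV => hDN.trans (h.fac_normalizer hV)
  have hRR : RR ≤ stabilizer G a := by
    have hco := IsPreprimitive.isCoatom_stabilizer_of_isPreprimitive G a
    rcases eq_or_lt_of_le (le_sup_left : stabilizer G a ≤ stabilizer G a ⊔ RR) with e | e
    · exact le_sup_right.trans e.ge
    · exfalso
      have htop := hco.2 _ e
      have hnorm : stabilizer G a ≤ Subgroup.normalizer (RR : Set G) := by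
        intro g hg
        have key : ∀ g ∈ stabilizer G a, cj g RR ≤ RR := by
          intro g hg
          simp only [RR, cj, Subgroup.map_iSup]
          refine iSup₂_le fun V hV => ?_
          refine le_trans (le_of_eq ?_) (le_iSup₂ (f := fun V _ => R V) (cj g V) (cj_mem_facs g hV))
          show cj g (V ⊓ (D ⊔ _)) = _
          rw [cj, Subgroup.map_inf _ _ _ (MulAut.conj g).injective, Subgroup.map_sup]
          show cj g V ⊓ (cj g D ⊔ cj g _) = _
          rw [stab_le_normalizer_D a hg, cj_centralizer]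
        refine Subgroup.mem_normalizer_iff.mpr fun x => ⟨fun hx => ?_, fun hx => ?_⟩
        · exact key g hg (conj_mem_cj hx)
        · simpa [mul_assoc] using key g⁻¹ (inv_mem hg) (conj_mem_cj (g := g⁻¹) hx)
      have hle : RR ≤ D ⊔ Subgroup.centralizer (U₀ : Set G) := by
        refine iSup₂_le fun V hV => ?_
        rcases eq_or_ne V U₀ with rfl | hne
        · exact inf_le_right
        · exact inf_le_left.trans ((h.fac_comm hV hU₀ hne).trans le_sup_right)
      have hU : U₀ ≤ D ⊔ Subgroup.centralizer (U₀ : Set G) := by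
        intro u hu
        have hu' : u ∈ stabilizer G a ⊔ RR := htop.symm ▸ Subgroup.mem_top u
        rw [← SetLike.mem_coe, Subgroup.coe_mul_of_left_le_normalizer_right _ _ hnorm] at hu'
        obtain ⟨g, hg, x, hx, rfl⟩ := hu'
        have hRN : RR ≤ N := iSup₂_le fun V hV => inf_le_left.trans (h.fac_le hV)
        have hgD : g ∈ D := by
          refine ⟨hg, ?_⟩
          simpa using N.mul_mem (h.fac_le hU₀ hu) (N.inv_mem (hRN hx))
        exact mul_mem (Subgroup.mem_sup_left hgD) (hle hx)
      refine hproper (le_antisymm (autImg_mono U₀ hDN) ?_)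
      rw [← h.autImg_self hU₀]
      exact autImg_le_of (hDn hU₀) hU
  have hmeet : ∀ V ∈ facs T, V ⊓ D ≠ ⊥ := by
    intro V hV hbot
    refine fac_not_le_centralizer h a hD hV fun d hd => ?_
    obtain ⟨t, ht, c, hc, rfl⟩ := exists_mul_centralizer (h.le_fac_sup hV (hDN hd))
    have htR : t ∈ R V := by
      refine ⟨ht, ?_⟩
      have := mul_mem (Subgroup.mem_sup_left hd : t * c ∈ D ⊔ _)
        (Subgroup.mem_sup_right (inv_mem hc) : c⁻¹ ∈ D ⊔ Subgroup.centralizer (V : Set G))
      simpa using this
    have htD : t ∈ V ⊓ D := ⟨ht, hRR (le_iSup₂ (f := fun V _ => R V) V hV htR), h.fac_le hV ht⟩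
    rw [hbot, Subgroup.mem_bot] at htD
    subst htD
    simpa using hc
  have hnormal : ∀ s ⊆ facs T, ∀ d ∈ D, ∀ x ∈ (⨆ V ∈ s, V ⊓ D),
      d * x * d⁻¹ ∈ (⨆ V ∈ s, V ⊓ D) := by
    intro s hs d hd x hx
    have : cj d (⨆ V ∈ s, V ⊓ D) ≤ ⨆ V ∈ s, V ⊓ D := by
      simp only [cj, Subgroup.map_iSup]
      refine iSup₂_le fun V hV => le_trans ?_ (le_iSup₂ (f := fun V _ => V ⊓ D) V hV)
      intro z hz
      rw [Subgroup.map_inf _ _ _ (MulAut.conj d).injective] at hz
      obtain ⟨⟨v, hv, rfl⟩, ⟨w, hw, hwz⟩⟩ := hz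
      refine ⟨(Subgroup.mem_normalizer_iff.mp (hDn (hs hV) hd) v).mp hv, ?_⟩
      rw [← hwz]
      exact D.mul_mem (D.mul_mem hd hw) (D.inv_mem hd)
    exact this (conj_mem_cj hx)
  suffices H : ∀ s ⊆ facs T, s.card ≤ cl (⨆ V ∈ s, V ⊓ D) by
    refine (H _ Finset.Subset.rfl).trans (cl_mono_normal (iSup₂_le fun V _ => inf_le_right) ?_)
    exact fun k hk x hx => hnormal _ Finset.Subset.rfl k hk x hx
  intro s
  induction s using Finset.induction_on with
  | empty => simp
  | @insert V s hVs ih =>
    intro hs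
    have hs' : s ⊆ facs T := fun W hW => hs (Finset.mem_insert_of_mem hW)
    have hVf : V ∈ facs T := hs (Finset.mem_insert_self _ _)
    rw [Finset.card_insert_of_notMem hVs, Finset.iSup_insert]
    refine le_trans (Nat.succ_le_succ (ih hs')) (cl_lt_normal ?_ ?_)
    · refine lt_of_le_of_ne le_sup_right fun e => hmeet V hVf ?_
      have h1 : V ⊓ D ≤ ⨆ W ∈ s, W ⊓ D := e ▸ le_sup_left
      have h2 : (⨆ W ∈ s, W ⊓ D) ≤ Subgroup.centralizer (V : Set G) :=
        iSup₂_le fun W hW => inf_le_left.trans
          (h.fac_comm (hs' hW) hVf (fun e => hVs (e ▸ hW)))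
      exact le_bot_iff.mp ((le_inf inf_le_left (h1.trans h2)).trans
        (h.fac_inf_centralizer hVf).le)
    · intro k hk x hx
      refine hnormal s hs' k ?_ x hx
      exact (sup_le inf_le_right (iSup₂_le fun W _ => inf_le_right) :
        V ⊓ D ⊔ (⨆ W ∈ s, W ⊓ D) ≤ D) hk

lemma nonabelian_case (IH : ∀ X : Type u, [Finite X] → Nat.card X < Nat.card Ω → Bound X)
    [Nontrivial Ω] [IsPreprimitive G Ω] {N : Subgroup G} [N.Normal]
    (hne : N ≠ ⊥) (hmin : ∀ K : Subgroup G, K.Normal → K ≤ N → K = ⊥ ∨ K = N)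
    (hab : ¬ IsMulCommutative N) :
    3 * cl (⊤ : Subgroup G) + 4 ≤ 4 * Nat.card Ω := by
  classical
  have : IsPretransitive N Ω := CfsgLib.Perm.normal_isPretransitive (α := Ω) hne
  obtain ⟨T, hT⟩ := exists_isFactor ‹N.Normal› hne hmin hab
  have h : FacHyp N T := ⟨‹_›, hab, hmin, hT⟩
  obtain ⟨a⟩ := (inferInstance : Nonempty Ω)
  set D := stabilizer G a ⊓ N with hD
  set k := (facs T).card with hk
  have hsplit : cl (⊤ : Subgroup G) + cl D ≤ cl N + cl (stabilizer G a) := cl_split a
  have hN : cl N ≤ k := h.cl_le_card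
  have hst := stab_bound' (G := G) IH a
  have hk0 : 0 < k := Finset.card_pos.mpr ⟨T, self_mem_facs T⟩
  rcases Nat.lt_or_ge k 2 with hk1 | hk2
  · omega
  rcases Classical.em (D ≠ ⊥ ∧ k = 2) with ⟨hDne, hk2'⟩ | hnot
  · have := one_le_cl hDne
    omega
  rcases Classical.em (D ≠ ⊥ ∧ ∃ U ∈ facs T, autImg U D ≠ autImg U N) with
    ⟨hDne, U, hU, hproper⟩ | hfull
  · have : k ≤ cl D := proper_case h a hDne hU hproper
    omega
  have hDN : D ≤ N := inf_le_right
  -- D meets every factor trivially
  have hdisj : ∀ U ∈ facs T, D ⊓ U = ⊥ := by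
    intro U hU
    rcases eq_or_ne D ⊥ with e | hDne
    · rw [e, bot_inf_eq]
    have hUD : autImg U D = autImg U N := by
      by_contra hne'
      exact hfull ⟨hDne, U, hU, hne'⟩
    have := h.fac_simple hU
    have hn : (D.subgroupOf U).Normal := by
      refine ⟨fun x hx u => ?_⟩
      have hmem : (U.normalizerMonoidHom ⟨u, Subgroup.le_normalizer u.2⟩) ∈ autImg U D := by
        rw [hUD, ← h.autImg_self hU]; exact ⟨_, u.2, rfl⟩
      obtain ⟨⟨d, hdn⟩, hd, hde⟩ := hmem
      have e := congrArg Subtype.val (DFunLike.congr_fun hde x)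
      rw [normalizerMonoidHom_apply, normalizerMonoidHom_apply] at e
      show ((u : G) * x * (u : G)⁻¹) ∈ D
      simp only at e
      rw [← e]
      exact D.mul_mem (D.mul_mem hd hx) (D.inv_mem hd)
    rcases hn.eq_bot_or_eq_top with e | e
    · rw [Subgroup.subgroupOf_eq_bot, disjoint_iff] at e
      exact e
    · exfalso
      rw [Subgroup.subgroupOf_eq_top] at e
      have hall : ∀ V ∈ facs T, V ≤ D := by
        intro V hV
        obtain ⟨g, hg, rfl⟩ := facs_conj_stab h a hU hV
        exact (cj_mono g e).trans (stab_le_normalizer_D a hg).le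
      have hND : N ≤ stabilizer G a := by
        conv_lhs => rw [← hT.iSup_eq]
        exact iSup_le fun g => (hall _ (mem_facs.mpr ⟨g, rfl⟩)).trans inf_le_left
      exact hT.not_le_stabilizer (Ω := Ω) a (hT.le.trans hND)
  -- the degree is large
  have horb : Nat.card Ω * Nat.card D = Nat.card N := by
    have h1 := Subgroup.card_mul_index (stabilizer N a)
    rw [index_stabilizer_of_transitive] at h1
    have h2 : Nat.card (stabilizer N a) = Nat.card D := by
      rw [show stabilizer N a = (stabilizer G a).subgroupOf N from rfl,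
        ← Subgroup.card_map_of_injective N.subtype_injective, Subgroup.subgroupOf_map_subtype]
    rw [h2] at h1
    rw [mul_comm]; exact h1
  have hT4 : 4 ≤ Nat.card T := by
    by_contra hlt
    have h1 : 1 < Nat.card T :=
      lt_of_le_of_ne Nat.card_pos (fun e => hT.ne_bot (Subgroup.eq_bot_of_card_eq T e.symm))
    refine hT.nonabelian ?_
    have hp : (Nat.card T).Prime := by
      rcases (by omega : Nat.card T = 2 ∨ Nat.card T = 3) with e | e <;> rw [e] <;> norm_num
    have : Fact (Nat.card T).Prime := ⟨hp⟩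
    have : IsCyclic T := isCyclic_of_prime_card rfl
    infer_instance
  have hbig : k * Nat.card T ≤ Nat.card Ω := by
    have hpowN : Nat.card T ^ k ≤ Nat.card N := h.card_pow
    rcases eq_or_ne D ⊥ with e | hDne
    · rw [e, Subgroup.card_bot, mul_one] at horb
      rw [horb]
      refine le_trans ?_ hpowN
      obtain ⟨j, hj⟩ : ∃ j, k = j + 2 := ⟨k - 2, by omega⟩
      rw [hj]
      have := arith_T (j := j) hT4
      refine le_trans ?_ this
      exact Nat.mul_le_mul_right _ (by omega)
    · have hfull' : ∀ U ∈ facs T, autImg U D = autImg U N := fun U hU => by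
        by_contra hne'
        exact hfull ⟨hDne, U, hU, hne'⟩
      obtain ⟨S, hS, hS2, hSbot⟩ := h.exists_small hDN hfull' hdisj
      have hk3 : 3 ≤ k := by
        rcases Nat.lt_or_ge k 3 with hlt | hge
        · exact absurd ⟨hDne, by omega⟩ hnot
        · exact hge
      have hDcard := card_le_cenInf_mul D S (Nat.card T)
        (fun U hU => hDN.trans (h.fac_normalizer (hS hU)))
        (fun U hU => by rw [hfull' U (hS hU), h.card_autImg (hS hU)])
      rw [hSbot, Subgroup.card_bot, one_mul] at hDcard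
      rw [← hk] at hS2
      obtain ⟨j, hj⟩ : ∃ j, k = S.card + (j + 2) := ⟨k - S.card - 2, by omega⟩
      have hnj : Nat.card T ^ (j + 2) ≤ Nat.card Ω := by
        refine Nat.le_of_mul_le_mul_right ?_ (pow_pos (by omega : 0 < Nat.card T) S.card)
        calc Nat.card T ^ (j + 2) * Nat.card T ^ S.card = Nat.card T ^ k := by
              rw [hj, ← pow_add, add_comm]
          _ ≤ Nat.card N := hpowN
          _ = Nat.card Ω * Nat.card D := horb.symm
          _ ≤ _ := Nat.mul_le_mul_left _ hDcard
      refine le_trans ?_ ((arith_T (j := j) hT4).trans hnj)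
      exact Nat.mul_le_mul_right _ (by omega)
  -- the stabiliser through the factors
  have hklt : k < Nat.card Ω := by
    have : k * 4 ≤ k * Nat.card T := Nat.mul_le_mul_left _ hT4
    omega
  have hTle : Nat.card T ≤ Nat.card Ω := le_trans (Nat.le_mul_of_pos_left _ hk0) hbig
  let e : stabilizer G a → Equiv.Perm (facs T) := fun g =>
    { toFun := fun U => ⟨cj (g : G) (U : Subgroup G), cj_mem_facs _ U.2⟩
      invFun := fun U => ⟨cj (g : G)⁻¹ (U : Subgroup G), cj_mem_facs _ U.2⟩
      left_inv := fun U => Subtype.ext (by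
        show cj _ (cj _ _) = _
        rw [← cj_mul, inv_mul_cancel, cj_one])
      right_inv := fun U => Subtype.ext (by
        show cj _ (cj _ _) = _
        rw [← cj_mul, mul_inv_cancel, cj_one]) }
  let φ : stabilizer G a →* Equiv.Perm (facs T) :=
    { toFun := e
      map_one' := by
        ext U : 2
        show cj ((1 : stabilizer G a) : G) _ = _
        rw [Subgroup.coe_one, cj_one]; rfl
      map_mul' := fun g g' => by
        ext U : 2
        show cj ((g * g' : stabilizer G a) : G) _ = cj (g : G) (cj (g' : G) _)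
        rw [Subgroup.coe_mul, cj_mul] }
  have : Nonempty (facs T) := ⟨⟨T, self_mem_facs T⟩⟩
  have hfc : Nat.card (facs T) = k := by rw [Nat.card_eq_fintype_card, Fintype.card_coe]
  have b1 : 3 * cl φ.range + 4 ≤ 4 * k := by
    have := bound_range φ (IH _ (by omega))
    rwa [hfc] at this
  set K := φ.ker.map (stabilizer G a).subtype with hK
  have hKn : ∀ U ∈ facs T, K ≤ Subgroup.normalizer (U : Set G) := by
    rintro U hU _ ⟨g, hg, rfl⟩
    have hgU : cj (g : G) U = U :=
      congrArg Subtype.val (DFunLike.congr_fun (MonoidHom.mem_ker.mp hg) ⟨U, hU⟩)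
    refine Subgroup.mem_normalizer_iff.mpr fun x => ?_
    have := SetLike.ext_iff.mp hgU ((g : G) * x * (g : G)⁻¹)
    rw [mem_cj] at this
    simpa [mul_assoc] using this
  have himg : ∀ U ∈ facs T, ∀ A : Subgroup (MulAut U),
      cl A ≤ (4 * (Nat.card T - 1) - 4) / 3 := by
    intro U hU A
    let Y : SubMulAction A U :=
      { carrier := {1}ᶜ
        smul_mem' := fun f x hx hfx => hx ((EmbeddingLike.map_eq_one_iff (f := (f : MulAut U))).mp hfx) }
    have hU1 : Nat.card U = Nat.card T := by
      obtain ⟨g, rfl⟩ := mem_facs.mp hU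
      exact natCard_cj g T
    have hY : Nat.card Y + 1 = Nat.card T := by
      rw [← hU1, ← Set.ncard_univ, ← Set.ncard_add_ncard_compl ({1} : Set U),
        Set.ncard_singleton, Set.ncard_univ, add_comm, ← Nat.card_coe_set_eq]
      rfl
    have : FaithfulSMul A Y := by
      refine ⟨fun {f f'} hff => Subtype.ext (MulEquiv.ext fun x => ?_)⟩
      rcases eq_or_ne x 1 with rfl | hx
      · rw [map_one, map_one]
      · exact congrArg Subtype.val (hff ⟨x, hx⟩)
    have : Nonempty Y := (Nat.card_pos_iff.mp (by omega)).1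
    have : Nonempty (Quotient (orbitRel A Y)) := ⟨Quotient.mk'' (Classical.arbitrary Y)⟩
    have : 0 < Nat.card (Quotient (orbitRel A Y)) := Nat.card_pos
    have b := bound_action (A := A) (X := Y) (IH _ (by omega))
    rw [cl_top_subgroup] at b
    omega
  have b2 := cl_le_cenInf_add K (facs T) _ hKn (fun U hU H' _ _ => himg U hU (autImg U H'))
  have hbot : cenInf K (facs T) = ⊥ := by
    rw [Subgroup.eq_bot_iff_forall]
    intro x hx
    rw [mem_cenInf] at hx
    obtain ⟨g, hg, rfl⟩ := hx.1
    refine eq_one_of_centralizes (N := N) (a := a) g.2 fun n hn => ?_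
    have : N ≤ Subgroup.centralizer ({(g : G)} : Set G) := by
      conv_lhs => rw [← hT.iSup_eq]
      refine iSup_le fun y u hu => Subgroup.mem_centralizer_singleton_iff.mpr ?_
      exact Subgroup.mem_centralizer_iff.mp (hx.2 _ (mem_facs.mpr ⟨y, rfl⟩)) u hu
    exact Subgroup.mem_centralizer_singleton_iff.mp (this hn)
  rw [hbot, cl_bot, ← hk] at b2
  have hKeq : cl φ.ker = cl K := (cl_map_of_injective (Subgroup.subtype_injective _) _).symm
  have b3 := cl_le_ker_add_range φ
  rw [cl_top_subgroup, hKeq] at b3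
  obtain ⟨t, ht⟩ : ∃ t, Nat.card T = t + 4 := ⟨Nat.card T - 4, by omega⟩
  rw [ht] at b2 hbig
  have hm : 3 * (k * ((4 * (t + 4 - 1) - 4) / 3)) ≤ k * (4 * t + 8) := by
    rw [mul_left_comm]
    exact Nat.mul_le_mul_left _ (by omega)
  have hexp : k * (4 * t + 8) + 8 * k = 4 * (k * (t + 4)) := by ring
  omega

lemma step (IH : ∀ X : Type u, [Finite X] → Nat.card X < Nat.card Ω → Bound X) :
    3 * cl (⊤ : Subgroup G) + 4 * Nat.card (Quotient (orbitRel G Ω)) ≤ 4 * Nat.card Ω := by
  classical
  have hr : Nat.card (Quotient (orbitRel G Ω)) ≤ Nat.card Ω :=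
    Nat.card_le_card_of_surjective _ Quotient.mk''_surjective
  rcases subsingleton_or_nontrivial G with hG | hG
  · rw [Subgroup.eq_bot_of_subsingleton (⊤ : Subgroup G), cl_bot]
    omega
  have hΩ : Nontrivial Ω := by
    by_contra hΩ
    rw [not_nontrivial_iff_subsingleton] at hΩ
    obtain ⟨g, h, hgh⟩ := exists_pair_ne G
    exact hgh (eq_of_smul_eq_smul (α := Ω) fun ω => Subsingleton.elim _ _)
  obtain ⟨a⟩ := (inferInstance : Nonempty Ω)
  by_cases hO : orbit G a = Set.univ
  swap
  · exact intransitive IH a hO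
  have htr : IsPretransitive G Ω := (isPretransitive_iff_orbit_eq_univ a).mpr hO
  have hone : Nat.card (Quotient (orbitRel G Ω)) = 1 := by
    have : Subsingleton (Quotient (orbitRel G Ω)) :=
      (pretransitive_iff_subsingleton_quotient G Ω).mp htr
    exact Nat.card_of_subsingleton (Quotient.mk'' a)
  rw [hone, mul_one]
  by_cases hprim : IsPreprimitive G Ω
  · obtain ⟨N, hN, hNne, hmin⟩ := CfsgLib.Solvable.exists_minimal_normal (G := G)
    by_cases hab : IsMulCommutative N
    · exact abelian_case IH hNne hmin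
    · exact nonabelian_case IH hNne hmin hab
  · have hex : ∃ B : Set Ω, a ∈ B ∧ IsBlock G B ∧ ¬ IsTrivialBlock B := by
      by_contra hc
      simp only [not_exists, not_and, not_not] at hc
      exact hprim (IsPreprimitive.of_isTrivialBlock_base a (fun {B} h1 h2 => hc B h1 h2))
    obtain ⟨B, haB, hB, hnt⟩ := hex
    rw [IsTrivialBlock, not_or, Set.not_subsingleton_iff] at hnt
    have := imprimitive IH hB ⟨a, haB⟩ (Set.one_lt_ncard_iff_nontrivial.mpr hnt.1) hnt.2
    rw [hone, mul_one] at this
    exact this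

end General

theorem bound_all : ∀ (n : ℕ) (X : Type u) [Finite X], Nat.card X = n → Bound X := by
  intro n
  induction n using Nat.strong_induction_on with
  | _ n ih =>
    intro X _ hX G
    have := step (G := G) (Ω := X) (fun Y _ hY => ih _ (hX ▸ hY) Y rfl)
    rwa [cl_top_subgroup] at this

theorem result {G Ω : Type*} [Group G] [Finite G] [MulAction G Ω] [FaithfulSMul G Ω] [Fintype Ω]
    (l : ℕ) (H : Fin (l + 1) → Subgroup G) (h0 : H 0 = ⊥) (hl : H (Fin.last l) = ⊤)
    (hchain : ∀ i : Fin l, H i.castSucc < H i.succ ∧ ((H i.castSucc).subgroupOf (H i.succ)).Normal) :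
    3 * l ≤ 4 * (Fintype.card Ω - Nat.card (Quotient (MulAction.orbitRel G Ω))) := by
  have hc : ∀ i : Fin (l + 1), Chain (H i) (i : ℕ) := by
    intro i
    induction i using Fin.induction with
    | zero => rw [h0]; exact Chain.bot
    | succ i ih =>
      rw [Fin.val_succ]
      refine Chain.step (by simpa using ih) (hchain i).1 ?_
      intro k hk h hh
      exact (Subgroup.normal_subgroupOf_iff (hchain i).1.le).mp (hchain i).2 h k hh hk
  have h1 := (hc (Fin.last l)).le_cl
  rw [hl, Fin.val_last] at h1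
  have h2 := bound_action (A := G) (bound_all _ Ω rfl)
  rw [Nat.card_eq_fintype_card (α := Ω)] at h2
  omega

end Cfsg.Agent.S5722
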