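import Cfsg.Statements.S5726
-- import your own Cfsg.Agent.* helpers here

set_option autoImplicit false
open Cfsg

namespace Cfsg.Agent.S5726

/-- An element of a `p`-group whose orbits are small: pieces used for both derangement statements. -/
theorem card_orbit_dvd_pow {G Ω : Type*} [Group G] [Finite G] [MulAction G Ω] [Finite Ω] {p : ℕ}
    [Fact p.Prime] (htr : MulAction.IsPretransitive G Ω) (P : Sylow p G) (ω : Ω) {j : ℕ}
    (hj : p ^ j ∣ Nat.card Ω) : p ^ j ∣ (MulAction.stabilizer (↥(P : Subgroup G)) ω).index := by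
  have h1 : (MulAction.stabilizer G ω).index = Nat.card Ω :=
    MulAction.index_stabilizer_of_transitive G ω
  have hG := (MulAction.stabilizer G ω).card_mul_index
  set Q := (MulAction.stabilizer (↥(P : Subgroup G)) ω).map (P : Subgroup G).subtype with hQ
  have hQle : Q ≤ MulAction.stabilizer G ω := by
    rintro _ ⟨x, hx, rfl⟩
    exact hx
  have hQc : Nat.card Q = Nat.card (MulAction.stabilizer (↥(P : Subgroup G)) ω) :=
    Subgroup.card_map_of_injective (Subtype.val_injective)
  have hQp : IsPGroup p Q := (P.2.to_subgroup _).map _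
  obtain ⟨c, hc⟩ := hQp.exists_card_eq
  have hdvd : p ^ c * p ^ j ∣ Nat.card G := by
    rw [← hG, h1, ← hc]
    exact mul_dvd_mul (Subgroup.card_dvd_of_le hQle) hj
  rw [← pow_add] at hdvd
  have hP : p ^ (c + j) ∣ Nat.card (↥(P : Subgroup G)) := by
    rw [P.card_eq_multiplicity]
    exact pow_dvd_pow p ((Nat.Prime.pow_dvd_iff_le_factorization Fact.out Nat.card_pos.ne').1 hdvd)
  rw [← Subgroup.card_mul_index (MulAction.stabilizer (↥(P : Subgroup G)) ω), ← hQc, hc, pow_add] at hP
  exact Nat.dvd_of_mul_dvd_mul_left (pow_pos (Fact.out : p.Prime).pos c) hP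

/-- A transitive `p`-group contains a derangement of order `p`. -/
theorem exists_of_transitive {G Ω : Type*} [Group G] [MulAction G Ω] [FaithfulSMul G Ω] [Nontrivial Ω]
    {p : ℕ} [Fact p.Prime] (P : Subgroup G) [Finite P] (hP : IsPGroup p P)
    (htr : MulAction.IsPretransitive P Ω) : ∃ g : G, orderOf g = p ∧ ∀ ω : Ω, g • ω ≠ ω := by
  obtain ⟨a, b, hab⟩ := exists_pair_ne Ω
  have : Nontrivial P := by
    obtain ⟨x, hx⟩ := htr.exists_smul_eq a b
    exact ⟨x, 1, fun h => hab (by rw [h, one_smul] at hx; exact hx)⟩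
  have hn : Nontrivial (Subgroup.center P) := hP.center_nontrivial
  obtain ⟨k, hk⟩ := (hP.to_subgroup (Subgroup.center P)).exists_card_eq
  have hdvd : p ∣ Nat.card (Subgroup.center P) := by
    have := Finite.one_lt_card (α := Subgroup.center P)
    rw [hk] at this ⊢
    refine dvd_pow_self p fun h => ?_
    rw [h, pow_zero] at this; exact this.false
  obtain ⟨⟨z, hz⟩, hzp⟩ := exists_prime_orderOf_dvd_card' p hdvd
  rw [Subgroup.orderOf_mk] at hzp
  refine ⟨z, by rw [Subgroup.orderOf_coe, hzp], fun ω hω => ?_⟩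
  have h1 : (z : G) = 1 := FaithfulSMul.eq_of_smul_eq_smul (α := Ω) fun x => by
    obtain ⟨y, rfl⟩ := htr.exists_smul_eq ω x
    show z • y • ω = (1 : G) • y • ω
    rw [smul_smul, ← Subgroup.mem_center_iff.1 hz y, mul_smul, one_smul]
    exact congrArg (y • ·) hω
  rw [← orderOf_eq_one_iff, Subgroup.orderOf_coe, hzp] at h1
  exact (Fact.out : p.Prime).ne_one h1

theorem pretransitive_of_index {G Ω : Type*} [Group G] [MulAction G Ω] [Finite Ω] (ω : Ω)
    (h : Nat.card Ω ≤ (MulAction.stabilizer G ω).index) : MulAction.IsPretransitive G Ω := by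
  rw [MulAction.index_stabilizer] at h
  have hu : MulAction.orbit G ω = Set.univ := by
    refine Set.eq_of_subset_of_ncard_le (Set.subset_univ _) ?_ (Set.finite_univ)
    rwa [Set.ncard_univ]
  exact ⟨fun x y => by
    obtain ⟨g, hg⟩ := (hu ▸ Set.mem_univ x : x ∈ MulAction.orbit G ω)
    obtain ⟨g', hg'⟩ := (hu ▸ Set.mem_univ y : y ∈ MulAction.orbit G ω)
    exact ⟨g' * g⁻¹, by rw [← hg, ← hg', mul_smul, inv_smul_smul]⟩⟩

/-- If a finite group acts faithfully and transitively on a set with p^k elements, p a prime and k ≥ 1, then some element of order p fixes no point. -/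
theorem result {G Ω : Type*} [Group G] [Finite G] [MulAction G Ω] [FaithfulSMul G Ω] [Fintype Ω] (htr : MulAction.IsPretransitive G Ω)
    (p k : ℕ) (hp : p.Prime) (hk : 1 ≤ k) (hΩ : Fintype.card Ω = p ^ k) :
    ∃ g : G, orderOf g = p ∧ ∀ ω : Ω, g • ω ≠ ω := by
  have : Fact p.Prime := ⟨hp⟩
  have h1 : 1 < Fintype.card Ω := by rw [hΩ]; exact Nat.one_lt_pow (by omega) hp.one_lt
  have : Nontrivial Ω := Fintype.one_lt_card_iff_nontrivial.1 h1
  obtain ⟨P⟩ : Nonempty (Sylow p G) := inferInstance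
  obtain ⟨ω, -, -⟩ := exists_pair_ne Ω
  have hd := card_orbit_dvd_pow htr P ω (j := k) (by rw [Nat.card_eq_fintype_card, hΩ])
  exact exists_of_transitive (P : Subgroup G) P.2 (pretransitive_of_index ω (by
    rw [Nat.card_eq_fintype_card, hΩ]
    exact Nat.le_of_dvd (Nat.pos_of_ne_zero Subgroup.index_ne_zero_of_finite) hd))

end Cfsg.Agent.S5726
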