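import Cfsg.Statements.S5727
import Cfsg.Agent.S5726

set_option autoImplicit false
open Cfsg

namespace Cfsg.Agent.S5727

/-- If a finite group acts faithfully and transitively on a set with m·p elements, where p is a prime and 1 ≤ m ≤ p, then some element of order p fixes no point. -/
theorem result {G Ω : Type*} [Group G] [Finite G] [MulAction G Ω] [FaithfulSMul G Ω] [Fintype Ω] (htr : MulAction.IsPretransitive G Ω)
    (p m : ℕ) (hp : p.Prime) (hm : 1 ≤ m) (hmp : m ≤ p) (hΩ : Fintype.card Ω = m * p) :
    ∃ g : G, orderOf g = p ∧ ∀ ω : Ω, g • ω ≠ ω := by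
  classical
  have : Fact p.Prime := ⟨hp⟩
  obtain ⟨P⟩ : Nonempty (Sylow p G) := inferInstance
  set H : Subgroup G := (P : Subgroup G) with hH
  have h1 : 1 < Fintype.card Ω := by
    rw [hΩ]; exact lt_of_lt_of_le hp.one_lt (Nat.le_mul_of_pos_left p hm)
  have : Nontrivial Ω := Fintype.one_lt_card_iff_nontrivial.1 h1
  have hdvd : ∀ ω : Ω, p ∣ (MulAction.stabilizer H ω).index := fun ω => by
    simpa using S5726.card_orbit_dvd_pow htr P ω (j := 1)
      (by rw [Nat.card_eq_fintype_card, hΩ, pow_one]; exact Dvd.intro_left m rfl)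
  by_cases hbig : ∃ ω : Ω, p ^ 2 ≤ (MulAction.stabilizer H ω).index
  · obtain ⟨ω, hω⟩ := hbig
    refine S5726.exists_of_transitive H P.2 (S5726.pretransitive_of_index ω (le_trans ?_ hω))
    rw [Nat.card_eq_fintype_card, hΩ, pow_two]
    exact Nat.mul_le_mul_right p hmp
  push Not at hbig
  have hidx : ∀ ω : Ω, (MulAction.stabilizer H ω).index = p := fun ω => by
    obtain ⟨j, hj⟩ := P.2.index (MulAction.stabilizer H ω)
    have h2 := hbig ω
    have h3 := hdvd ω
    rw [hj] at h2 h3 ⊢
    have := (Nat.pow_lt_pow_iff_right hp.one_lt).1 h2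
    interval_cases j
    · exact absurd (Nat.dvd_one.1 (by simpa using h3)) hp.ne_one
    · simp
  have hncard : ∀ ω : Ω, (MulAction.orbit H ω).ncard = p := fun ω => by
    rw [← MulAction.index_stabilizer, hidx]
  -- the cycles of a member of `H`
  have hcyc : ∀ (x : H) (ω : Ω), x • ω ≠ ω →
      MulAction.orbit (Subgroup.zpowers x) ω = MulAction.orbit H ω := fun x ω hx => by
    have hsub : MulAction.orbit (Subgroup.zpowers x) ω ⊆ MulAction.orbit H ω := by
      rintro _ ⟨y, rfl⟩; exact ⟨(y : H), rfl⟩
    refine Set.eq_of_subset_of_ncard_le hsub ?_ (Set.toFinite _)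
    rw [hncard, ← MulAction.index_stabilizer]
    obtain ⟨j, hj⟩ := (P.2.to_subgroup (Subgroup.zpowers x)).index
      (MulAction.stabilizer (Subgroup.zpowers x) ω)
    rw [hj]
    refine Nat.le_self_pow (fun h0 => hx ?_) p
    rw [h0, pow_zero, Subgroup.index_eq_one] at hj
    exact (hj ▸ Subgroup.mem_top _ :
      (⟨x, Subgroup.mem_zpowers x⟩ : Subgroup.zpowers x) ∈ MulAction.stabilizer _ ω)
  have hpow : ∀ x : H, x ^ p = 1 := fun x => by
    refine Subtype.ext (FaithfulSMul.eq_of_smul_eq_smul (α := Ω) fun ω => ?_)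
    rw [OneMemClass.coe_one, one_smul]
    show x ^ p • ω = ω
    by_cases hx : x • ω = ω
    · exact (pow_mem (MulAction.mem_stabilizer_iff.2 hx) p :)
    · have hi : (MulAction.stabilizer (Subgroup.zpowers x) ω).index = p := by
        rw [MulAction.index_stabilizer, hcyc x ω hx, hncard]
      have hn := Subgroup.normal_of_comm (MulAction.stabilizer (Subgroup.zpowers x) ω)
      have := Subgroup.pow_index_mem (H := MulAction.stabilizer (Subgroup.zpowers x) ω)
        ⟨x, Subgroup.mem_zpowers x⟩
      rw [hi] at this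
      exact this
  -- one representative in each orbit
  by_contra hno
  push Not at hno
  let O := Quotient (MulAction.orbitRel H Ω)
  have : Fintype O := Fintype.ofFinite O
  have hO : Fintype.card O = m := by
    have e := Fintype.card_congr (MulAction.selfEquivSigmaOrbits H Ω)
    rw [Fintype.card_sigma, Finset.sum_congr rfl (fun (q : O) _ => show
      Fintype.card (MulAction.orbit H q.out) = p by
        rw [← Nat.card_eq_fintype_card, Nat.card_coe_set_eq, hncard]), Finset.sum_const,
      Finset.card_univ, smul_eq_mul, hΩ] at e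
    exact (Nat.eq_of_mul_eq_mul_right hp.pos e).symm
  have : Fintype H := Fintype.ofFinite H
  have hcover : (Finset.univ.erase (1 : H)) ⊆ Finset.univ.biUnion fun q : O =>
      (Finset.univ.filter fun x : H => x • q.out = q.out).erase 1 := fun x hx => by
    have hx1 : x ≠ 1 := (Finset.mem_erase.1 hx).1
    have hox : orderOf (x : G) = p := by
      rw [Subgroup.orderOf_coe, orderOf_eq_prime (hpow x) hx1]
    obtain ⟨ω, hω⟩ := hno _ hox
    refine Finset.mem_biUnion.2 ⟨Quotient.mk _ ω, Finset.mem_univ _, Finset.mem_erase.2 ⟨hx1,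
      Finset.mem_filter.2 ⟨Finset.mem_univ _, ?_⟩⟩⟩
    by_contra hmv
    have h4 := hcyc x _ hmv
    have h5 : ω ∈ MulAction.orbit H (Quotient.mk (MulAction.orbitRel H Ω) ω).out :=
      MulAction.orbitRel_apply.1 ((MulAction.orbitRel H Ω).symm (Quotient.mk_out (s := MulAction.orbitRel H Ω) ω))
    rw [← h4] at h5
    have hfix : ∀ y : Subgroup.zpowers x, y • ω = ω := by
      rintro ⟨_, k, rfl⟩
      exact (zpow_mem (MulAction.mem_stabilizer_iff.2 (hω : x • ω = ω)) k :)
    have h6 : (Quotient.mk (MulAction.orbitRel H Ω) ω).out = ω := by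
      obtain ⟨y, hy⟩ := MulAction.mem_orbit_symm.1 h5
      exact hy.symm.trans (hfix y)
    exact hmv (by rw [h6]; exact hω)
  have hle := (Finset.card_le_card hcover).trans Finset.card_biUnion_le
  rw [Finset.card_erase_of_mem (Finset.mem_univ _), Finset.card_univ] at hle
  have hsz : ∀ q : O, ((Finset.univ.filter fun x : H => x • q.out = q.out).erase 1).card + 1 =
      Fintype.card H / p := fun q => by
    rw [Finset.card_erase_add_one (by simp), ← Fintype.card_subtype, ← Nat.card_eq_fintype_card,
      ← Nat.card_eq_fintype_card, ← Subgroup.card_mul_index (MulAction.stabilizer H q.out), hidx,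
      Nat.mul_div_cancel _ hp.pos]
    rfl
  obtain ⟨ω₀, -, -⟩ := exists_pair_ne Ω
  have hHp : Fintype.card H = p * (Fintype.card H / p) := (Nat.mul_div_cancel' (by
    rw [← Nat.card_eq_fintype_card, ← hidx ω₀]; exact Subgroup.index_dvd_card _)).symm
  rw [Finset.sum_congr rfl (fun q _ => show _ = Fintype.card H / p - 1 by have := hsz q; omega),
    Finset.sum_const, Finset.card_univ, hO, smul_eq_mul] at hle
  set s := Fintype.card H / p
  have hs : 1 ≤ s := by
    have : 0 < Fintype.card H := Fintype.card_pos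
    rw [hHp] at this
    exact Nat.pos_of_mul_pos_left this
  have h7 : m * (s - 1) ≤ p * (s - 1) := Nat.mul_le_mul_right _ hmp
  rw [Nat.mul_sub, mul_one] at h7 hle
  have := hp.two_le
  have : p ≤ p * s := Nat.le_mul_of_pos_right p hs
  rw [Nat.mul_sub, mul_one] at h7
  omega

end Cfsg.Agent.S5727
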