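import Cfsg.Statements.S5728
-- import your own Cfsg.Agent.* helpers here

set_option autoImplicit false
open Cfsg

namespace Cfsg.Agent.S5728

/-- An elusive transitive action. Let p = 2^s − 1 be a prime and let F be the field with p² elements. Inside the group of affine maps x ↦ a·x + b of F (a ≠ 0), consider the subgroup of maps with both coefficients in the prime field. Then every element of prime order of the affine group is conjugate, within the affine group, to an element of that subgroup; equivalently, in the transitive action of the affine group on the cosets of that subgroup (of degree p(p + 1)) every element of prime order fixes a point. -/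
theorem result (p s : ℕ) [Fact p.Prime] (hs : p = 2 ^ s - 1)
    (g : Equiv.Perm (GaloisField p 2)) (hg : g ∈ Cfsg.affineGroup (GaloisField p 2)) (hord : (orderOf g).Prime) :
    ∃ x ∈ Cfsg.affineGroup (GaloisField p 2), ∃ a b : ZMod p, a ≠ 0 ∧
      ∀ y : GaloisField p 2, (x * g * x⁻¹) y = algebraMap (ZMod p) (GaloisField p 2) a * y + algebraMap (ZMod p) (GaloisField p 2) b := by
  classical
  have hp : p.Prime := Fact.out
  have : Fintype (GaloisField p 2) := Fintype.ofFinite (GaloisField p 2)
  have hK : Fintype.card (GaloisField p 2) = p ^ 2 := by rw [← Nat.card_eq_fintype_card]; exact GaloisField.card p 2 (by omega)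
  obtain ⟨a, b, hgx⟩ := hg
  have hprim : ∀ c : (GaloisField p 2), c ^ p = c → ∃ z : ZMod p, algebraMap (ZMod p) (GaloisField p 2) z = c := by
    intro c hc
    by_contra hno
    push Not at hno
    let P : Polynomial (GaloisField p 2) := Polynomial.X ^ p - Polynomial.X
    have hP0 : P ≠ 0 := FiniteField.X_pow_card_sub_X_ne_zero (GaloisField p 2) hp.one_lt
    have hsub : insert c ((Finset.univ : Finset (ZMod p)).image (algebraMap (ZMod p) (GaloisField p 2))) ⊆
        P.roots.toFinset := by
      intro z hz
      rw [Multiset.mem_toFinset, Polynomial.mem_roots hP0]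
      simp only [P, Polynomial.IsRoot.def, Polynomial.eval_sub, Polynomial.eval_pow, Polynomial.eval_X,
        sub_eq_zero]
      rcases Finset.mem_insert.1 hz with rfl | hz
      · exact hc
      · obtain ⟨w, -, rfl⟩ := Finset.mem_image.1 hz
        rw [← map_pow, ZMod.pow_card]
    have h1 := (Finset.card_le_card hsub).trans (Multiset.toFinset_card_le _)
    have h2 := (Polynomial.card_roots' P).trans
      (le_of_eq (FiniteField.X_pow_card_sub_X_natDegree_eq (GaloisField p 2) hp.one_lt))
    rw [Finset.card_insert_of_notMem (by simpa using hno),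
      Finset.card_image_of_injective _ (algebraMap (ZMod p) (GaloisField p 2)).injective, Finset.card_univ, ZMod.card]
      at h1
    omega
  by_cases ha : (a : (GaloisField p 2)) = 1
  · have hb : b ≠ 0 := fun hb => by
      have h1 : g = 1 := Equiv.ext fun x => by simp [hgx, ha, hb]
      rw [h1, orderOf_one] at hord
      exact Nat.not_prime_one hord
    let x : Equiv.Perm (GaloisField p 2) := Equiv.mulLeft₀ b⁻¹ (inv_ne_zero hb)
    refine ⟨x, ⟨Units.mk0 b⁻¹ (inv_ne_zero hb), 0, fun y => by simp [x]⟩, 1, 1, one_ne_zero,
      fun y => ?_⟩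
    obtain ⟨z, rfl⟩ := x.surjective y
    rw [Equiv.Perm.mul_apply, Equiv.Perm.inv_def, Equiv.symm_apply_apply, Equiv.Perm.mul_apply, hgx]
    simp [x, ha]
    field_simp
  · have hc1 : (1 : (GaloisField p 2)) - a ≠ 0 := sub_ne_zero.2 (Ne.symm ha)
    set c := b / (1 - (a : (GaloisField p 2))) with hc
    have hcb : (a : (GaloisField p 2)) * c + b = c := by rw [hc]; field_simp; ring
    let x : Equiv.Perm (GaloisField p 2) := Equiv.addRight (-c)
    have hgm : ∀ (n : ℕ) (y : (GaloisField p 2)), (g ^ n) (y + c) = (a : (GaloisField p 2)) ^ n * y + c := by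
      intro n
      induction n with
      | zero => intro y; simp
      | succ n ih =>
        intro y
        rw [pow_succ', Equiv.Perm.mul_apply, ih, hgx, pow_succ', mul_add, add_assoc, hcb, mul_assoc]
    have hr : (a : (GaloisField p 2)) ^ orderOf g = 1 := by
      have := hgm (orderOf g) 1
      rw [pow_orderOf_eq_one, Equiv.Perm.one_apply, mul_one] at this
      exact (add_right_cancel this).symm
    obtain ⟨z, hz⟩ : ∃ z : ZMod p, algebraMap (ZMod p) (GaloisField p 2) z = (a : (GaloisField p 2)) := by
      have ha' : orderOf (a : (GaloisField p 2)) = orderOf g := by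
        rcases hord.eq_one_or_self_of_dvd _ (orderOf_dvd_of_pow_eq_one hr) with h | h
        · exact absurd (orderOf_eq_one_iff.1 h) ha
        · exact h
      have hd : orderOf g ∣ (p - 1) * (p + 1) := by
        rw [← ha']
        refine orderOf_dvd_of_pow_eq_one ?_
        rw [show (p - 1) * (p + 1) = Fintype.card (GaloisField p 2) - 1 by
          rw [hK, mul_comm, ← Nat.sq_sub_sq, one_pow]]
        exact FiniteField.pow_card_sub_one_eq_one _ a.ne_zero
      rcases (Nat.Prime.dvd_mul hord).1 hd with h | h
      · refine hprim _ ?_
        have h1 : (a : (GaloisField p 2)) ^ (p - 1) = 1 := orderOf_dvd_iff_pow_eq_one.1 (ha' ▸ h)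
        calc (a : (GaloisField p 2)) ^ p = (a : (GaloisField p 2)) ^ (p - 1) * a := by rw [← pow_succ, Nat.sub_add_cancel hp.pos]
          _ = a := by rw [h1, one_mul]
      · have h2 : orderOf g = 2 := by
          have : p + 1 = 2 ^ s := by have := Nat.one_le_two_pow (n := s); omega
          rw [this] at h
          exact (Nat.prime_dvd_prime_iff_eq hord Nat.prime_two).1 (hord.dvd_of_dvd_pow h)
        rw [h2] at hr
        rcases sq_eq_one_iff.1 hr with h' | h'
        · exact ⟨1, by rw [map_one, h']⟩
        · exact ⟨-1, by rw [map_neg, map_one, h']⟩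
    refine ⟨x, ⟨1, -c, fun y => by simp [x]⟩, z, 0, fun h => a.ne_zero (by rw [← hz, h, map_zero]),
      fun y => ?_⟩
    rw [map_zero, add_zero, hz, Equiv.Perm.mul_apply, Equiv.Perm.mul_apply, hgx,
      Equiv.Perm.inv_def]
    simp only [x, Equiv.addRight_symm, Equiv.coe_addRight, neg_neg, mul_add, add_assoc]
    rw [← sub_eq_zero]
    linear_combination hcb

end Cfsg.Agent.S5728
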