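import Cfsg.Statements.S5729
-- import your own Cfsg.Agent.* helpers here

set_option autoImplicit false
open Cfsg

namespace Cfsg.Agent.S5729

/-- Let a finite group G act faithfully and transitively on a set with n ≥ 3 points. Then either G is a Frobenius permutation group (Frobenius as a permutation group: transitive, some non-identity element fixes a point, and no non-identity element fixes two points) of order n(n − 1) and exactly |G|/n of its elements are derangements (fix no point), or the number of derangements is greater than |G|/n. -/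
theorem result {G Ω : Type*} [Group G] [Finite G] [MulAction G Ω] [FaithfulSMul G Ω] [Fintype Ω] (htr : MulAction.IsPretransitive G Ω) (hn : 3 ≤ Fintype.card Ω) :
    ((MulAction.IsPretransitive G Ω ∧ (∃ g : G, g ≠ 1 ∧ ∃ ω : Ω, g • ω = ω) ∧ ∀ g : G, g ≠ 1 → Nat.card (MulAction.fixedBy Ω g) ≤ 1) ∧ Nat.card G = Fintype.card Ω * (Fintype.card Ω - 1) ∧ Fintype.card Ω * Nat.card {g : G // ∀ ω : Ω, g • ω ≠ ω} = Nat.card G) ∨
    Nat.card G < Fintype.card Ω * Nat.card {g : G // ∀ ω : Ω, g • ω ≠ ω} := by
  classical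
  have : Fintype G := Fintype.ofFinite G
  set n := Fintype.card Ω with hn'
  have : Nonempty Ω := Fintype.card_pos_iff.1 (by omega)
  let π : G → ℕ := fun g => Fintype.card (MulAction.fixedBy Ω g)
  have hπle : ∀ g, π g ≤ n := fun g => Fintype.card_subtype_le _
  have hπfull : ∀ g, π g = n → g = 1 := fun g hg => FaithfulSMul.eq_of_smul_eq_smul (α := Ω) fun ω => by
    have h : MulAction.fixedBy Ω g = Set.univ := by
      refine Set.eq_univ_of_forall fun x => ?_
      by_contra hx
      exact absurd hg (Fintype.card_subtype_lt (p := (· ∈ MulAction.fixedBy Ω g)) hx).ne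
    have h1 : ω ∈ MulAction.fixedBy Ω g := h ▸ Set.mem_univ ω
    rw [one_smul]; exact h1
  have hπ2 : ∀ g : G, Fintype.card (MulAction.fixedBy (Ω × Ω) g) = π g * π g := fun g => by
    rw [← Fintype.card_prod]
    exact Fintype.card_congr
      { toFun := fun x => (⟨x.1.1, congrArg Prod.fst x.2⟩, ⟨x.1.2, congrArg Prod.snd x.2⟩)
        invFun := fun x => ⟨(x.1.1, x.2.1), Prod.ext x.1.2 x.2.2⟩
        left_inv := fun x => rfl
        right_inv := fun x => rfl }
  have : Fintype (Quotient (MulAction.orbitRel G Ω)) := Fintype.ofFinite _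
  have : Fintype (Quotient (MulAction.orbitRel G (Ω × Ω))) := Fintype.ofFinite _
  have hB1 := MulAction.sum_card_fixedBy_eq_card_orbits_mul_card_group G Ω
  have hB2 := MulAction.sum_card_fixedBy_eq_card_orbits_mul_card_group G (Ω × Ω)
  set r := Fintype.card (Quotient (MulAction.orbitRel G (Ω × Ω))) with hr
  have hq : Fintype.card (Quotient (MulAction.orbitRel G Ω)) = 1 := by
    obtain ⟨ω⟩ := ‹Nonempty Ω›
    refine Fintype.card_eq_one_iff.2 ⟨Quotient.mk _ ω, fun x => ?_⟩
    induction x using Quotient.inductionOn with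
    | _ a =>
      obtain ⟨g, hg⟩ := htr.exists_smul_eq ω a
      exact Quotient.sound ⟨g, hg⟩
  obtain ⟨a, b, hab⟩ := Fintype.exists_pair_of_one_lt_card (α := Ω) (by omega)
  have hne : Quotient.mk (MulAction.orbitRel G (Ω × Ω)) (a, a) ≠ Quotient.mk _ (a, b) := fun h => by
    obtain ⟨g, hg⟩ := Quotient.exact h
    have h1 : g • a = a := congrArg Prod.fst hg
    have h2 : g • b = a := congrArg Prod.snd hg
    exact hab (smul_left_cancel g (h1.trans h2.symm))
  have hr2 : 2 ≤ r := by
    have : Nontrivial (Quotient (MulAction.orbitRel G (Ω × Ω))) := ⟨⟨_, _, hne⟩⟩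
    exact Fintype.one_lt_card
  let T : G → ℤ := fun g => ((π g : ℤ) - 1) * ((π g : ℤ) - n)
  have hsum : ∑ g, T g = (Fintype.card G : ℤ) * ((r : ℤ) - 1) := by
    have e1 : ∑ g, ((π g : ℤ) * π g) = (r : ℤ) * Fintype.card G := by
      have := congrArg (Nat.cast : ℕ → ℤ) hB2
      simpa [hπ2] using this
    have e2 : ∑ g, (π g : ℤ) = (Fintype.card G : ℤ) := by
      have := congrArg (Nat.cast : ℕ → ℤ) hB1
      simpa [hq, π] using this
    have e3 : ∀ g, T g = (π g : ℤ) * π g - ((n : ℤ) + 1) * π g + n := fun g => by simp only [T]; ring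
    simp only [e3]
    rw [Finset.sum_add_distrib, Finset.sum_sub_distrib, ← Finset.mul_sum, e1, e2, Finset.sum_const,
      Finset.card_univ, nsmul_eq_mul]
    ring
  set D := (Finset.univ.filter fun g : G => π g = 0) with hD
  have hder : Nat.card {g : G // ∀ ω : Ω, g • ω ≠ ω} = D.card := by
    rw [Nat.card_eq_fintype_card, Fintype.card_subtype]
    congr 1
    ext g
    simp [hD, π, Fintype.card_eq_zero_iff, isEmpty_subtype, MulAction.mem_fixedBy]
  have hsplit := Finset.sum_filter_add_sum_filter_not Finset.univ (fun g : G => π g = 0) T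
  rw [Finset.sum_congr rfl (fun g hg => show T g = (n : ℤ) by
    simp only [T, (Finset.mem_filter.1 hg).2]; ring), Finset.sum_const, ← hD, nsmul_eq_mul, hsum]
    at hsplit
  set S := ∑ g ∈ Finset.univ.filter (fun g : G => ¬ π g = 0), T g with hS
  have hTnp : ∀ g ∈ Finset.univ.filter (fun g : G => ¬ π g = 0), T g ≤ 0 := fun g hg =>
    mul_nonpos_of_nonneg_of_nonpos
      (by have := (Finset.mem_filter.1 hg).2; omega) (by have := hπle g; omega)
  have hSnp : S ≤ 0 := Finset.sum_nonpos hTnp
  rw [hder, Nat.card_eq_fintype_card (α := G)]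
  have hG : 0 < Fintype.card G := Fintype.card_pos
  rcases lt_or_ge (Fintype.card G) (n * D.card) with hlt | hge
  · exact .inr hlt
  left
  have hge' : (n : ℤ) * D.card ≤ Fintype.card G := by exact_mod_cast hge
  have hle : (Fintype.card G : ℤ) * 1 ≤ Fintype.card G * ((r : ℤ) - 1) :=
    mul_le_mul_of_nonneg_left (by omega) (by omega)
  have hS0 : S = 0 := by nlinarith
  have hr1 : (Fintype.card G : ℤ) * ((r : ℤ) - 2) = 0 := by nlinarith
  have hr' : r = 2 := by
    rcases mul_eq_zero.1 hr1 with h | h <;> omega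
  have hD' : n * D.card = Fintype.card G := by
    have : (n : ℤ) * D.card = Fintype.card G := by rw [hr', hS0] at hsplit; push_cast at hsplit; linarith
    exact_mod_cast this
  have hfix : ∀ g : G, g ≠ 1 → π g ≤ 1 := fun g hg => by
    by_contra h
    have h0 : T g = 0 := (Finset.sum_eq_zero_iff_of_nonpos hTnp).1 hS0 g
      (Finset.mem_filter.2 ⟨Finset.mem_univ _, by omega⟩)
    rcases mul_eq_zero.1 h0 with h' | h'
    · omega
    · exact hg (hπfull g (by omega))
  have hpair : ∀ c d : Ω, c ≠ d → ∃ g : G, g • a = c ∧ g • b = d := fun c d hcd => by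
    by_contra hno
    have h3 : ({Quotient.mk (MulAction.orbitRel G (Ω × Ω)) (a, a), Quotient.mk _ (a, b),
        Quotient.mk _ (c, d)} : Finset _).card ≤ r := Finset.card_le_univ _
    rw [Finset.card_eq_three.2 ⟨_, _, _, hne, ?_, ?_, rfl⟩] at h3
    · omega
    · intro h
      obtain ⟨g, hg⟩ := Quotient.exact h
      have h1 : g • c = a := congrArg Prod.fst hg
      have h2 : g • d = a := congrArg Prod.snd hg
      exact hcd (smul_left_cancel g (h1.trans h2.symm))
    · intro h
      obtain ⟨g, hg⟩ := Quotient.exact h.symm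
      exact hno ⟨g, congrArg Prod.fst hg, congrArg Prod.snd hg⟩
  have hcardG : Fintype.card G = n * (n - 1) := by
    have e : Fintype.card G = Fintype.card {x : Ω × Ω // x.1 ≠ x.2} := by
      refine Fintype.card_congr (Equiv.ofBijective
        (fun g : G => (⟨(g • a, g • b), fun h => hab (smul_left_cancel g h)⟩ :
          {x : Ω × Ω // x.1 ≠ x.2})) ⟨fun g h e => ?_, fun x => ?_⟩)
      · have e1 : g • a = h • a := congrArg (fun z => z.1.1) e
        have e2 : g • b = h • b := congrArg (fun z => z.1.2) e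
        by_contra hgh
        have hne1 : h⁻¹ * g ≠ 1 := fun h' => hgh (inv_mul_eq_one.1 h').symm
        have hle1 : π (h⁻¹ * g) ≤ 1 := hfix _ hne1
        have := Fintype.card_le_one_iff.1 hle1
          ⟨a, show (h⁻¹ * g) • a = a by rw [mul_smul, e1, inv_smul_smul]⟩
          ⟨b, show (h⁻¹ * g) • b = b by rw [mul_smul, e2, inv_smul_smul]⟩
        exact hab (congrArg Subtype.val this)
      · obtain ⟨g, h1, h2⟩ := hpair _ _ x.2
        exact ⟨g, Subtype.ext (Prod.ext h1 h2)⟩
    rw [e, Fintype.card_subtype, show (Finset.univ.filter fun x : Ω × Ω => x.1 ≠ x.2) =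
      Finset.univ.offDiag from by ext; simp, Finset.offDiag_card, Finset.card_univ, ← hn',
      Nat.mul_sub, mul_one]
  refine ⟨⟨htr, ?_, fun g hg => ?_⟩, hcardG, hD'⟩
  · by_contra hno
    push Not at hno
    have hDc : D.card = Fintype.card G - 1 := by
      rw [show D = Finset.univ.erase 1 from ?_, Finset.card_erase_of_mem (Finset.mem_univ _),
        Finset.card_univ]
      ext g
      simp only [hD, Finset.mem_filter, Finset.mem_univ, true_and, and_true, Finset.mem_erase]
      refine ⟨fun h he => ?_, fun h => ?_⟩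
      · subst he
        exact (Fintype.card_eq_zero_iff.1 h).false ⟨a, one_smul G a⟩
      · exact Fintype.card_eq_zero_iff.2 ⟨fun x => hno g h x.1 x.2⟩
    rw [hDc, hcardG] at hD'
    have h6 : n * (n - 1) - 1 = n - 1 := Nat.eq_of_mul_eq_mul_left (show 0 < n by omega) hD'
    have h7 : n * 2 ≤ n * (n - 1) := Nat.mul_le_mul_left n (by omega)
    omega
  · rw [Nat.card_eq_fintype_card]
    exact hfix g hg

end Cfsg.Agent.S5729
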