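import Cfsg.Agent.Lib.Perm.DerangeGain

set_option autoImplicit false


namespace Cfsg.Agent.S5730

open CfsgLib.Perm.DerangeTwo

/-- Let a finite group G act faithfully and transitively on a set with n ≥ 7 points. Then either G is a Frobenius permutation group (Frobenius as a permutation group: transitive, some non-identity element fixes a point, and no non-identity element fixes two points) of order n(n − 1)/a with a ∈ {1, 2}, in which case exactly a|G|/n of its elements are derangements, or the number of derangements is at least 2|G|/n. (Equality does occur: PSL₃(2) acting on the 7 points of the Fano plane has exactly 2|G|/7 derangements.) -/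
theorem result {G Ω : Type*} [Group G] [Finite G] [MulAction G Ω] [FaithfulSMul G Ω] [Fintype Ω] (htr : MulAction.IsPretransitive G Ω) (hn : 7 ≤ Fintype.card Ω) :
    (∃ a : ℕ, (a = 1 ∨ a = 2) ∧ (MulAction.IsPretransitive G Ω ∧ (∃ g : G, g ≠ 1 ∧ ∃ ω : Ω, g • ω = ω) ∧ ∀ g : G, g ≠ 1 → Nat.card (MulAction.fixedBy Ω g) ≤ 1) ∧ a * Nat.card G = Fintype.card Ω * (Fintype.card Ω - 1) ∧ Fintype.card Ω * Nat.card {g : G // ∀ ω : Ω, g • ω ≠ ω} = a * Nat.card G) ∨
    2 * Nat.card G ≤ Fintype.card Ω * Nat.card {g : G // ∀ ω : Ω, g • ω ≠ ω} := by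
  classical
  haveI := Fintype.ofFinite G
  obtain ⟨a⟩ : Nonempty Ω := Fintype.card_pos_iff.1 (by omega)
  have hd : Nat.card {g : G // ∀ ω : Ω, g • ω ≠ ω} = (derangements' G Ω).card := by
    rw [Nat.card_eq_fintype_card, Fintype.card_subtype]
    refine congrArg Finset.card ?_
    ext g
    simp [derangements', nfix, Finset.card_eq_zero, Finset.filter_eq_empty_iff]
  rw [hd, Nat.card_eq_fintype_card]
  have hid := derange_identity htr a
  have hn0 : (7 : ℚ) ≤ Fintype.card Ω := by exact_mod_cast hn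
  obtain ⟨S, hS⟩ : ∃ S, S = ∑ g : G, (nfix Ω g : ℚ) * ((nfix Ω g : ℚ) - 1) *
      (((Fintype.card Ω : ℚ) - nfix Ω g) / nfix Ω g) := ⟨_, rfl⟩
  rw [← hS] at hid
  have hG : (0 : ℚ) ≤ Fintype.card G := Nat.cast_nonneg _
  have hS0 : 0 ≤ S := by
    rw [hS]
    refine Finset.sum_nonneg fun g _ => ?_
    rcases Nat.eq_zero_or_pos (nfix Ω g) with h | h
    · simp [h]
    · have h1 : (1 : ℚ) ≤ nfix Ω g := by exact_mod_cast h
      have h2 : (nfix Ω g : ℚ) ≤ Fintype.card Ω := by exact_mod_cast nfix_le (Ω := Ω) g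
      exact mul_nonneg (mul_nonneg (by linarith) (by linarith)) (div_nonneg (by linarith) (by linarith))
  have right_of : (2 : ℚ) * Fintype.card G ≤ (Fintype.card Ω : ℚ) * (derangements' G Ω).card →
      2 * Fintype.card G ≤ Fintype.card Ω * (derangements' G Ω).card := fun h => by exact_mod_cast h
  rcases two_le_orbSum_cases (G := G) a with h3 | htw
  · refine Or.inr (right_of ?_)
    rw [hid]
    nlinarith [mul_le_mul_of_nonneg_right (show (2 : ℚ) ≤ orbSum Ω (MulAction.stabilizer G a) - 1 by linarith) hG]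
  have h2 : Two G Ω := by
    intro u v u' v' huv huv'
    obtain ⟨g, hg⟩ := htr.exists_smul_eq u a
    obtain ⟨g', hg'⟩ := htr.exists_smul_eq u' a
    obtain ⟨h, hh, e⟩ := htw (g • v) (g' • v') (fun e => huv (smul_left_cancel g (hg.trans e.symm)))
      (fun e => huv' (smul_left_cancel g' (hg'.trans e.symm)))
    exact ⟨g'⁻¹ * h * g, by rw [mul_smul, mul_smul, hg, MulAction.mem_stabilizer_iff.1 hh, inv_smul_eq_iff, hg'],
      by rw [mul_smul, mul_smul, e, inv_smul_smul]⟩
  obtain ⟨b, hb⟩ := Fintype.exists_ne_of_one_lt_card (by omega) a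
  have hab : a ≠ b := hb.symm
  have horba : orb (MulAction.stabilizer G a) a = {a} := Finset.eq_singleton_iff_unique_mem.2
    ⟨self_mem_orb _ a, fun y hy => by
      obtain ⟨h, hh, rfl⟩ := mem_orb.1 hy
      exact MulAction.mem_stabilizer_iff.1 hh⟩
  have horb : ∀ x, x ≠ a → orb (MulAction.stabilizer G a) x = Finset.univ.erase a := fun x hx => by
    ext y
    rw [mem_orb, Finset.mem_erase]
    refine ⟨?_, fun hy => htw x y hx hy.1⟩
    rintro ⟨h, hh, rfl⟩
    exact ⟨fun e => hx (smul_left_cancel h (e.trans (MulAction.mem_stabilizer_iff.1 hh).symm)), Finset.mem_univ _⟩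
  have hcardn : (Finset.univ.erase a).card = Fintype.card Ω - 1 := by
    rw [Finset.card_erase_of_mem (Finset.mem_univ a), Finset.card_univ]
  have ho : orbSum Ω (MulAction.stabilizer G a) = 2 := by
    rw [orbSum, ← Finset.add_sum_erase _ _ (Finset.mem_univ a), horba, Finset.card_singleton,
      Finset.sum_congr rfl (g := fun _ => ((Fintype.card Ω - 1 : ℕ) : ℚ)⁻¹) fun x hx => by
        rw [horb x (Finset.mem_erase.1 hx).1, hcardn],
      Finset.sum_const, nsmul_eq_mul, hcardn, mul_inv_cancel₀ (Nat.cast_ne_zero.2 (by omega))]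
    norm_num
  have hGN : Fintype.card G = Fintype.card Ω * ((Fintype.card Ω - 1) * (els (pairStab G a b)).card) := by
    have e1 := card_els_stab (⊤ : Subgroup G) a
    have e2 := card_els_stab (MulAction.stabilizer G a) b
    rw [horb b hb, hcardn] at e2
    have e3 : orb (⊤ : Subgroup G) a = Finset.univ := Finset.eq_univ_iff_forall.2 fun y => by
      obtain ⟨g, hg⟩ := htr.exists_smul_eq a y
      exact mem_orb.2 ⟨g, Subgroup.mem_top g, hg⟩
    have e4 : els (⊤ : Subgroup G) = Finset.univ := by ext g; simp [mem_els]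
    rw [e3, Finset.card_univ, top_inf_eq, ← e2, e4, Finset.card_univ] at e1
    exact e1.symm
  rw [ho] at hid
  obtain ⟨N, hN⟩ : ∃ N, N = (els (pairStab G a b)).card := ⟨_, rfl⟩
  rw [← hN] at hGN
  have hN0 : 0 < N := hN ▸ Finset.card_pos.2 ⟨1, mem_els.2 (one_mem _)⟩
  rcases Nat.lt_or_ge N 2 with hN1 | hN2
  · left
    have hNe : N = 1 := by omega
    rw [hNe, mul_one] at hGN
    have hfrob : ∀ g : G, g ≠ 1 → nfix Ω g ≤ 1 := by
      intro g hg
      by_contra hc
      push Not at hc
      obtain ⟨u, hu, v, hv, huv⟩ := Finset.one_lt_card.1 hc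
      have h1 : (els (pairStab G u v)).card = 1 := by rw [card_els_pairStab h2 huv hab, ← hN, hNe]
      have m1 : g ∈ els (pairStab G u v) :=
        mem_els.2 (mem_pairStab.2 ⟨(Finset.mem_filter.1 hu).2, (Finset.mem_filter.1 hv).2⟩)
      exact hg (Finset.card_le_one.1 h1.le g m1 1 (mem_els.2 (one_mem _)))
    have hS' : S = 0 := by
      rw [hS]
      refine Finset.sum_eq_zero fun g _ => ?_
      by_cases hg : g = 1
      · rw [hg, nfix_one]; simp
      · have := hfrob g hg
        interval_cases nfix Ω g <;> simp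
    refine ⟨1, Or.inl rfl, ⟨htr, ?_, fun g hg => ?_⟩, by rw [one_mul, hGN], ?_⟩
    · have e2 := card_els_stab (MulAction.stabilizer G a) b
      rw [horb b hb, hcardn, show MulAction.stabilizer G a ⊓ MulAction.stabilizer G b = pairStab G a b from rfl,
        ← hN, hNe, mul_one] at e2
      obtain ⟨g, hg, hg1⟩ := Finset.exists_mem_ne (s := els (MulAction.stabilizer G a)) (by omega) 1
      exact ⟨g, hg1, a, MulAction.mem_stabilizer_iff.1 (mem_els.1 hg)⟩
    · refine le_trans (le_of_eq ?_) (hfrob g hg)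
      rw [Nat.card_eq_fintype_card, nfix, ← Set.toFinset_card]
      exact congrArg Finset.card (by ext x; simp)
    · rw [hS', add_zero] at hid
      rw [one_mul]
      have : ((Fintype.card Ω * (derangements' G Ω).card : ℕ) : ℚ) = (Fintype.card G : ℕ) := by
        push_cast
        linarith
      exact_mod_cast this
  · refine Or.inr (right_of ?_)
    have hpairs := sum_pairs (G := G) (Ω := Ω) (fun f => ((Fintype.card Ω : ℚ) - f) / f)
      (N := ∑ h ∈ els (pairStab G a b), ((Fintype.card Ω : ℚ) - nfix Ω h) / nfix Ω h) fun u v huv => by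
        obtain ⟨g, e1, e2⟩ := h2 a b u v hab huv
        refine (sum_conj (Ω := Ω) g (fun h hh => ?_) (fun h hh => ?_)
          (fun f => ((Fintype.card Ω : ℚ) - f) / f)).symm
        · have := conj_pairStab (g := g) hh
          rwa [e1, e2] at this
        · have := conj_pairStab (g := g⁻¹) (u := u) (v := v) hh
          rwa [inv_inv, ← e1, ← e2, inv_smul_smul, inv_smul_smul] at this
    rw [← hS] at hpairs
    have hge := sum_pair_ge h2 hn hab (hN ▸ hN2)
    rw [← hN] at hge
    have hGN' : (Fintype.card G : ℚ) = (Fintype.card Ω : ℚ) * (((Fintype.card Ω : ℚ) - 1) * N) := by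
      rw [hGN, Nat.cast_mul, Nat.cast_mul, Nat.cast_sub (by omega)]; simp
    rw [hid]
    nlinarith [mul_le_mul_of_nonneg_left hge
      (show (0 : ℚ) ≤ (Fintype.card Ω : ℚ) * ((Fintype.card Ω : ℚ) - 1) by nlinarith)]


end Cfsg.Agent.S5730
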