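import Cfsg.Statements.S5737
import Cfsg.Agent.Lib.KnownB.SzBinary
import Cfsg.Agent.Lib.KnownB.BinaryTransfer
import Cfsg.Agent.Lib.Suzuki.Model

set_option autoImplicit false
open Cfsg

namespace Cfsg.Agent.S5737

/-- Let G = Sz(q) be a Suzuki group, q = 2^(2a+1) with a ≥ 1 (realised inside Sp₄ over the field with q elements), and let H be a proper subgroup of G. Then the action of G on the cosets of H is binary if and only if H is trivial or H is the centre of a Sylow 2-subgroup of G. Here an action is binary (relational complexity 2) when, for every n ≥ 2 and all n-tuples I, J of points, if for every pair of positions some group element carries the corresponding pair of entries of I to those of J, then a single group element carries I to J. -/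
theorem result {F : Type*} [Field F] [Fintype F] (a : ℕ) (ha : 1 ≤ a) (hF : Fintype.card F = 2 ^ (2 * a + 1))
    (H : Subgroup (Cfsg.Lie.Sz F (2 ^ (a + 1)))) (hH : H ≠ ⊤) :
    (∀ (n : ℕ) (I J : Fin n → (Cfsg.Lie.Sz F (2 ^ (a + 1))) ⧸ H), 2 ≤ n →
        (∀ i j : Fin n, i ≠ j → ∃ g : (Cfsg.Lie.Sz F (2 ^ (a + 1))), g • I i = J i ∧ g • I j = J j) → ∃ g : (Cfsg.Lie.Sz F (2 ^ (a + 1))), ∀ i, g • I i = J i) ↔
      (H = ⊥ ∨ ∃ P : Sylow 2 (Cfsg.Lie.Sz F (2 ^ (a + 1))), H = (Subgroup.center (P : Subgroup (Cfsg.Lie.Sz F (2 ^ (a + 1))))).map (P : Subgroup (Cfsg.Lie.Sz F (2 ^ (a + 1)))).subtype) := by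
  haveI : CharP F 2 := charP_of_card_eq_prime_pow hF
  haveI : Fact (Nat.Prime 2) := ⟨Nat.prime_two⟩
  let e := CfsgLib.Suzuki.szEquiv ha hF
  haveI : Finite (Cfsg.Lie.Sz F (2 ^ (a + 1))) := Finite.of_equiv _ e.toEquiv
  set H' := H.map e.symm.toMonoidHom with hH'
  have hback : H'.map e.toMonoidHom = H := by
    rw [hH', Subgroup.map_map]
    convert Subgroup.map_id H
    ext x
    simp
  have hne : H' ≠ ⊤ := fun h => hH (by
    rw [← hback, h, Subgroup.map_top_of_surjective _ e.surjective])
  refine (CfsgLib.KnownB.BinaryCoset.congr_mulEquiv e hback).symm.trans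
    ((CfsgLib.KnownB.SzBinary.isBinary_iff ha hF H' hne).trans ?_)
  refine or_congr ?_ ⟨CfsgLib.KnownB.BinaryCoset.exists_center_map e hback,
    CfsgLib.KnownB.BinaryCoset.exists_center_map e.symm hH'.symm⟩
  rw [hH', Subgroup.map_eq_bot_iff_of_injective _ e.symm.injective]

end Cfsg.Agent.S5737
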