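import Cfsg.Statements.S5738
-- import your own Cfsg.Agent.* helpers here

set_option autoImplicit false
open Cfsg

namespace Cfsg.Agent.S5738

section helpers

variable {F K : Type*} [Field F] [Fintype F] [Field K] [Fintype K] [Algebra F K]

/-- multiplication maps -/
noncomputable abbrev mulMap (F K : Type*) [Field F] [Field K] [Algebra F K] : Kˣ →* (Module.End F K)ˣ :=
  Units.map ((Algebra.lmul F K : K →ₐ[F] Module.End F K) : K →* Module.End F K)

theorem mulMap_apply (a : Kˣ) (x : K) : (mulMap F K a : Module.End F K) x = (a : K) * x := rfl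

/-- the semilinear map `x ↦ a φ(x)` -/
noncomputable def semi (p : Kˣ × (K ≃ₐ[F] K)) : (Module.End F K)ˣ :=
  mulMap F K p.1 * LinearMap.GeneralLinearGroup.ofLinearEquiv p.2.toLinearEquiv

theorem semi_apply (p : Kˣ × (K ≃ₐ[F] K)) (x : K) :
    (semi p : Module.End F K) x = (p.1 : K) * p.2 x := rfl

theorem end_apply_injective (g : (Module.End F K)ˣ) :
    Function.Injective (g : Module.End F K) := fun x y h => by
  have := congrArg ((g⁻¹ : (Module.End F K)ˣ) : Module.End F K) h
  rwa [← Module.End.mul_apply, ← Module.End.mul_apply, Units.inv_mul] at this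

theorem mem_normalizer (g : (Module.End F K)ˣ) :
    g ∈ Subgroup.normalizer ((mulMap F K).range : Set (Module.End F K)ˣ) ↔ ∃ p, semi p = g := by
  constructor
  · intro hg
    have h : ∀ a : Kˣ, ∃ c : Kˣ, ∀ x, (g : Module.End F K) ((a : K) * x) = (c : K) * (g : Module.End F K) x := by
      intro a
      obtain ⟨c, hc⟩ := (Subgroup.mem_normalizer_iff.1 hg _).1 (⟨a, rfl⟩ : mulMap F K a ∈ (mulMap F K).range)
      refine ⟨c, fun x => ?_⟩
      have e : mulMap F K c * g = g * mulMap F K a := by rw [hc]; group
      exact (DFunLike.congr_fun (congrArg Units.val e) x).symm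
    have hg1 : (g : Module.End F K) 1 ≠ 0 := fun e =>
      one_ne_zero (end_apply_injective g (e.trans (map_zero _).symm))
    set u := Units.mk0 _ hg1
    set φ : K → K := fun x => (g : Module.End F K) x / (g : Module.End F K) 1 with hφ
    have hm : ∀ a x, φ (a * x) = φ a * φ x := fun a x => by
      rcases eq_or_ne a 0 with rfl | ha
      · simp [hφ]
      obtain ⟨c, hc⟩ := h (Units.mk0 a ha)
      have h1 := hc 1
      have h2 := hc x
      simp only [Units.val_mk0, mul_one] at h1 h2
      simp only [hφ, h1, h2]
      field_simp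
    let Φ : K →ₐ[F] K :=
      { toFun := φ
        map_one' := div_self hg1
        map_mul' := hm
        map_zero' := by simp [hφ]
        map_add' := fun x y => by simp [hφ, add_div]
        commutes' := fun r => by
          simp only [hφ, Algebra.algebraMap_eq_smul_one, map_smul, smul_div_assoc, div_self hg1] }
    have hΦ : Function.Bijective Φ := Finite.injective_iff_bijective.1 Φ.toRingHom.injective
    refine ⟨⟨u, AlgEquiv.ofBijective Φ hΦ⟩, Units.ext (LinearMap.ext fun x => ?_)⟩
    rw [semi_apply]
    show (g : Module.End F K) 1 * ((g : Module.End F K) x / (g : Module.End F K) 1) = _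
    field_simp
  · rintro ⟨⟨u, φ⟩, rfl⟩
    refine Subgroup.mem_normalizer_iff.2 fun z => ⟨?_, ?_⟩
    · rintro ⟨a, rfl⟩
      refine ⟨Units.map (φ : K →* K) a, ?_⟩
      rw [eq_mul_inv_iff_mul_eq]
      refine Units.ext (LinearMap.ext fun x => ?_)
      show φ a * ((u : K) * φ x) = (u : K) * φ ((a : K) * x)
      rw [map_mul]; ring
    · rintro ⟨a, ha⟩
      refine ⟨Units.map (φ.symm : K →* K) a, ?_⟩
      have e : mulMap F K a * semi (u, φ) = semi (u, φ) * z := by rw [ha]; group
      refine Units.ext (LinearMap.ext fun x => φ.injective ?_)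
      have e' : (a : K) * ((u : K) * φ x) = (u : K) * φ ((z : Module.End F K) x) :=
        DFunLike.congr_fun (congrArg Units.val e) x
      show φ (φ.symm a * x) = φ ((z : Module.End F K) x)
      rw [map_mul, φ.apply_symm_apply]
      have hu := u.ne_zero
      refine mul_left_cancel₀ hu ?_
      linear_combination e'

theorem semi_injective : Function.Injective (semi (F := F) (K := K)) := by
  rintro ⟨u, φ⟩ ⟨v, ψ⟩ h
  have h1 : ∀ x, (u : K) * φ x = (v : K) * ψ x := fun x => DFunLike.congr_fun (congrArg Units.val h) x
  have huv : u = v := Units.ext (by simpa using h1 1)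
  subst huv
  exact Prod.ext rfl (AlgEquiv.ext fun x => mul_left_cancel₀ u.ne_zero (h1 x))

end helpers

/-- Let F ⊆ K be finite fields with |F| = q and [K : F] = n ≥ 2, so |K| = q^n. Regard K as an n-dimensional F-vector space; the multiplications by non-zero elements of K form a cyclic subgroup of GL_F(K) of order q^n − 1 acting regularly on the non-zero vectors (a Singer group). Its normaliser in GL_F(K) has order n·(q^n − 1). -/
theorem result {F K : Type*} [Field F] [Fintype F] [Field K] [Fintype K] [Algebra F K] (n : ℕ) (hn : 2 ≤ n) (hdim : Module.finrank F K = n) :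
    Nat.card (Subgroup.normalizer (((Units.map ((Algebra.lmul F K : K →ₐ[F] Module.End F K) : K →* Module.End F K)).range : Subgroup (Module.End F K)ˣ) : Set (Module.End F K)ˣ)) = n * (Fintype.card K - 1) := by
  classical
  rw [← Nat.card_congr ((Equiv.ofInjective _ (semi_injective (F := F) (K := K))).trans
    (Equiv.subtypeEquivRight fun g => (mem_normalizer g).symm)), Nat.card_prod,
    IsGalois.card_aut_eq_finrank, hdim, Nat.card_eq_fintype_card, Fintype.card_units, mul_comm]

end Cfsg.Agent.S5738
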