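import Cfsg.Statements.S5739
-- import your own Cfsg.Agent.* helpers here

set_option autoImplicit false
open Cfsg

namespace Cfsg.Agent.S5739

/-- Let F ⊆ K be finite fields with |F| = q and [K : F] = n ≥ 2, and let M ≤ GL_F(K) be the Singer group of multiplications by non-zero elements of K. If g ∈ GL_F(K) does not normalise M, then the order of M ∩ gMg⁻¹ divides q^r − 1 for some proper divisor r of n. In particular, when n is prime, that order divides q − 1. -/
theorem result {F K : Type*} [Field F] [Fintype F] [Field K] [Fintype K] [Algebra F K] (n : ℕ) (hn : 2 ≤ n) (hdim : Module.finrank F K = n)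
    (g : (Module.End F K)ˣ) (hg : ((Units.map ((Algebra.lmul F K : K →ₐ[F] Module.End F K) : K →* Module.End F K)).range).map (MulAut.conj g).toMonoidHom ≠ (Units.map ((Algebra.lmul F K : K →ₐ[F] Module.End F K) : K →* Module.End F K)).range) :
    ∃ r : ℕ, 1 ≤ r ∧ r ∣ n ∧ r < n ∧ Nat.card ↥(((Units.map ((Algebra.lmul F K : K →ₐ[F] Module.End F K) : K →* Module.End F K)).range).map (MulAut.conj g).toMonoidHom ⊓ (Units.map ((Algebra.lmul F K : K →ₐ[F] Module.End F K) : K →* Module.End F K)).range) ∣ Fintype.card F ^ r - 1 := by
  classical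
  let μ : Kˣ →* (Module.End F K)ˣ :=
    Units.map ((Algebra.lmul F K : K →ₐ[F] Module.End F K) : K →* Module.End F K)
  change (μ.range.map (MulAut.conj g).toMonoidHom ≠ μ.range) at hg
  show ∃ r : ℕ, 1 ≤ r ∧ r ∣ n ∧ r < n ∧
    Nat.card ↥(μ.range.map (MulAut.conj g).toMonoidHom ⊓ μ.range) ∣ Fintype.card F ^ r - 1
  have hμinj : Function.Injective μ := fun a b h => Units.ext (by
    have := congrArg (fun e : (Module.End F K)ˣ => (e : Module.End F K) 1) h
    simpa [μ] using this)
  have hμv : ∀ a : Kˣ, (μ a : Module.End F K) = Algebra.lmul F K (a : K) := fun a => rfl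
  set D := μ.range.map (MulAut.conj g).toMonoidHom
  let I : Subgroup Kˣ := (D ⊓ μ.range).comap μ
  have hcard : Nat.card ↥(D ⊓ μ.range) = Nat.card I := by
    rw [← Subgroup.card_map_of_injective (K := I) hμinj, Subgroup.map_comap_eq_self inf_le_right]
  obtain ⟨⟨a, ha⟩, hgen⟩ := IsCyclic.exists_generator (α := I)
  have hcard' : Nat.card I = orderOf a := by
    rw [← orderOf_eq_card_of_forall_mem_zpowers hgen, Subgroup.orderOf_mk]
  -- the generator lies in a proper subfield
  let L : IntermediateField F K := IntermediateField.adjoin F {(a : K)}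
  have hLtop : L ≠ ⊤ := fun htop => by
    obtain ⟨_, ⟨b, rfl⟩, hb⟩ := ha.1
    have hb' : ∀ P : Polynomial F, (Algebra.lmul F K (Polynomial.aeval (a : K) P) : Module.End F K) =
        (g : Module.End F K) * Algebra.lmul F K (Polynomial.aeval (b : K) P) *
          ((g⁻¹ : (Module.End F K)ˣ) : Module.End F K) := fun P => by
      rw [← Polynomial.aeval_algHom_apply, ← Polynomial.aeval_algHom_apply]
      let ψ : Module.End F K →ₐ[F] Module.End F K :=
        { toFun := fun m => (g : Module.End F K) * m * ((g⁻¹ : (Module.End F K)ˣ) : Module.End F K)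
          map_one' := by simp
          map_mul' := fun x y => by simp [mul_assoc]
          map_zero' := by simp
          map_add' := fun x y => by rw [mul_add, add_mul]
          commutes' := fun c => by
            show (g : Module.End F K) * algebraMap F (Module.End F K) c * _ = _
            rw [← Algebra.commutes, mul_assoc, ← Units.val_mul, mul_inv_cancel, Units.val_one, mul_one] }
      rw [show Algebra.lmul F K (a : K) = ψ (Algebra.lmul F K (b : K)) from
        (congrArg Units.val hb).symm.trans (by rfl)]
      exact Polynomial.aeval_algHom_apply ψ _ P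
    haveI : Finite (Module.End F K) := Finite.of_injective (fun f => (f : K → K)) DFunLike.coe_injective
    refine hg (Eq.symm (Subgroup.eq_of_le_of_card_ge ?_ ?_))
    · rintro _ ⟨c, rfl⟩
      have hc : (c : K) ∈ Algebra.adjoin F {(a : K)} := by
        rw [← IntermediateField.adjoin_simple_toSubalgebra_of_isAlgebraic (Algebra.IsAlgebraic.isAlgebraic _)]
        show (c : K) ∈ L
        rw [htop]; trivial
      rw [Algebra.adjoin_singleton_eq_range_aeval] at hc
      obtain ⟨P, hP⟩ := hc
      have hP' : Polynomial.aeval (b : K) P ≠ 0 := fun e => by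
        have h2 := hb' P
        rw [e, map_zero, mul_zero, zero_mul] at h2
        have h3 := LinearMap.congr_fun h2 1
        rw [show Polynomial.aeval (a : K) P = (c : K) from hP] at h3
        exact c.ne_zero (by simpa using h3)
      refine ⟨μ (Units.mk0 _ hP'), ⟨_, rfl⟩, Units.ext ?_⟩
      have h2 := hb' P
      rw [show Polynomial.aeval (a : K) P = (c : K) from hP] at h2
      exact h2.symm
    · exact le_of_eq (Subgroup.card_map_of_injective (MulAut.conj g).injective)
  haveI : FiniteDimensional F K := Module.Finite.of_finite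
  refine ⟨Module.finrank F L, Module.finrank_pos, ⟨Module.finrank L K, ?_⟩, ?_, ?_⟩
  · rw [Module.finrank_mul_finrank, hdim]
  · rw [← hdim]
    by_contra h
    exact hLtop (IntermediateField.eq_of_le_of_finrank_le le_top (by
      rw [IntermediateField.finrank_top']; omega))
  · rw [hcard, hcard']
    let a' : L := ⟨(a : K), IntermediateField.mem_adjoin_simple_self F _⟩
    have ha' : a' ≠ 0 := fun e => a.ne_zero (congrArg Subtype.val e)
    haveI : Fintype L := Fintype.ofFinite L
    have h1 := FiniteField.pow_card_sub_one_eq_one a' ha'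
    rw [Fintype.card_eq_nat_card, Module.natCard_eq_pow_finrank (K := F), ← Fintype.card_eq_nat_card] at h1
    refine orderOf_dvd_of_pow_eq_one (Units.ext ?_)
    rw [Units.val_pow_eq_pow_val, Units.val_one]
    exact congrArg Subtype.val h1

end Cfsg.Agent.S5739
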