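import Cfsg.Statements.S5740
import Cfsg.Agent.Lib.Chev.TwE6Loc.Nineteen
import Cfsg.Agent.Lib.Chev.E6FiClasses

set_option autoImplicit false
open Cfsg

namespace Cfsg.Agent.S5740

/-- In the simple group ²E₆(2) (the twisted group of type E₆ over the field with 4 elements), for every prime p > 5 no p-local subgroup is maximal: the normaliser of a non-trivial p-subgroup is never a maximal subgroup. -/
theorem result {K : Type*} [Field K] [Fintype K] (hK : Fintype.card K = 4) (p : ℕ) (hp : p.Prime) (h5 : 5 < p)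
    (P : Subgroup (Cfsg.Lie.twistedE6 K 2)) (hP : IsPGroup p P) (hP1 : P ≠ ⊥) :
    ¬ IsCoatom (Subgroup.normalizer (P : Set (Cfsg.Lie.twistedE6 K 2))) := by
  obtain ⟨hchar, -, ω, hω, h1⟩ := CfsgLib.Chev.FiInE6.four_setup hK
  haveI := hchar
  by_cases h7 : p = 7
  · subst h7; exact CfsgLib.Chev.TwE6Loc.seven hω h1 hK hP hP1
  by_cases h19 : p = 19
  · subst h19; exact CfsgLib.Chev.TwE6Loc.nineteen hω h1 hK hP hP1
  have hcard := CfsgLib.Chev.TwE6Loc.card_eq (K := K) hK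
  by_cases h11 : p = 11
  · subst h11
    exact CfsgLib.Chev.TwE6Loc.single hω h1 hK CfsgLib.Chev.TwE6Loc.c11_W CfsgLib.Chev.TwE6Loc.c11_I hp
      (show Nat.Coprime 11 3 by norm_num) rfl (by rw [hcard]; show ¬ 11 ^ 2 ∣ _; norm_num) hP hP1
  by_cases h13 : p = 13
  · subst h13
    exact CfsgLib.Chev.TwE6Loc.single hω h1 hK CfsgLib.Chev.TwE6Loc.c13_W CfsgLib.Chev.TwE6Loc.c13_I hp
      (show Nat.Coprime 13 3 by norm_num) rfl (by rw [hcard]; show ¬ 13 ^ 2 ∣ _; norm_num) hP hP1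
  by_cases h17 : p = 17
  · subst h17
    exact CfsgLib.Chev.TwE6Loc.single hω h1 hK CfsgLib.Chev.TwE6Loc.c17_W CfsgLib.Chev.TwE6Loc.c17_I hp
      (show Nat.Coprime 17 3 by norm_num) rfl (by rw [hcard]; show ¬ 17 ^ 2 ∣ _; norm_num) hP hP1
  exfalso
  haveI := Fact.mk hp
  haveI : Finite (Cfsg.Lie.twistedE6 K 2) := Nat.finite_of_card_ne_zero (by rw [hcard]; norm_num)
  refine hP1 ((Subgroup.eq_bot_iff_forall _).2 fun z hz => ?_)
  obtain ⟨k, hk⟩ := hP ⟨z, hz⟩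
  have hk' : z ^ p ^ k = 1 := congrArg Subtype.val hk
  obtain ⟨i, -, hi⟩ := (Nat.dvd_prime_pow hp).1 (orderOf_dvd_of_pow_eq_one hk')
  rcases Nat.eq_zero_or_pos i with rfl | hi0
  · rw [pow_zero] at hi; exact orderOf_eq_one_iff.1 hi
  · exact absurd ((dvd_pow_self p hi0.ne').trans (hi ▸ orderOf_dvd_natCard z))
      (CfsgLib.Chev.TwE6Loc.not_dvd hK hp h5 ⟨h7, h11, h13, h17, h19⟩)

end Cfsg.Agent.S5740
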