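import Cfsg.Statements.S5747
-- import your own Cfsg.Agent.* helpers here

set_option autoImplicit false
open Cfsg

namespace Cfsg.Agent.S5747

variable {G Ω : Type*} [Group G] [MulAction G Ω]

/-- an irredundant base -/
def IBase (G : Type*) [Group G] [MulAction G Ω] {t : ℕ} (f : Fin t → Ω) : Prop :=
  (∀ g : G, (∀ i : Fin t, g • f i = f i) → g = 1) ∧
    ∀ i : Fin t, ∃ g : G, (∀ j : Fin t, j < i → g • f j = f j) ∧ g • f i ≠ f i

/-- the set has trivial pointwise stabiliser -/
def Base (G : Type*) [Group G] [MulAction G Ω] (s : Finset Ω) : Prop :=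
  ∀ g : G, (∀ x ∈ s, g • x = x) → g = 1

theorem IBase.injective {t : ℕ} {f : Fin t → Ω} (h : IBase G f) : Function.Injective f := by
  intro i j hij
  by_contra hne
  rcases lt_or_gt_of_ne hne with hlt | hlt
  · obtain ⟨g, hg, hm⟩ := h.2 j
    exact hm (hij ▸ hg i hlt)
  · obtain ⟨g, hg, hm⟩ := h.2 i
    exact hm (hij.symm ▸ hg j hlt)

variable [DecidableEq Ω]

/-- a minimal base -/
def MinBase (G : Type*) [Group G] [MulAction G Ω] (s : Finset Ω) : Prop :=
  Base G s ∧ ∀ x ∈ s, ¬ Base G (s.erase x)

theorem MinBase.moves {s : Finset Ω} (h : MinBase G s) {x : Ω} (hx : x ∈ s) :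
    ∃ g : G, (∀ y ∈ s, y ≠ x → g • y = y) ∧ g • x ≠ x := by
  have h2 := h.2 x hx
  unfold Base at h2
  push Not at h2
  obtain ⟨g, hg, hg1⟩ := h2
  refine ⟨g, fun y hy hyx => hg y (Finset.mem_erase.2 ⟨hyx, hy⟩), fun hgx => hg1 (h.1 g fun y hy => ?_)⟩
  by_cases hyx : y = x
  · subst hyx; exact hgx
  · exact hg y (Finset.mem_erase.2 ⟨hyx, hy⟩)

theorem exists_list (s : Finset Ω) : ∃ f : Fin s.card → Ω, Function.Injective f ∧
    Finset.univ.image f = s := by
  refine ⟨fun i => (s.equivFin.symm i : Ω), fun i j h => s.equivFin.symm.injective (Subtype.ext h), ?_⟩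
  ext x
  simp only [Finset.mem_image, Finset.mem_univ, true_and]
  exact ⟨by rintro ⟨i, rfl⟩; exact (s.equivFin.symm i).2,
    fun hx => ⟨s.equivFin ⟨x, hx⟩, by simp⟩⟩

theorem MinBase.ibase {s : Finset Ω} (h : MinBase G s) {t : ℕ} {f : Fin t → Ω}
    (hi : Function.Injective f) (hf : Finset.univ.image f = s) : IBase G f := by
  refine ⟨fun g hg => h.1 g fun x hx => ?_, fun i => ?_⟩
  · rw [← hf] at hx
    obtain ⟨i, -, rfl⟩ := Finset.mem_image.1 hx
    exact hg i
  · have hmem : ∀ j, f j ∈ s := fun j => hf ▸ Finset.mem_image_of_mem f (Finset.mem_univ j)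
    obtain ⟨g, hg, hm⟩ := h.moves (hmem i)
    exact ⟨g, fun j hj => hg _ (hmem j) (fun e => hj.ne (hi e)), hm⟩

theorem exists_minBase {s : Finset Ω} (h : Base G s) : ∃ u ⊆ s, MinBase G u := by
  induction s using Finset.strongInduction with
  | H s ih =>
    by_cases hm : MinBase G s
    · exact ⟨s, subset_rfl, hm⟩
    · unfold MinBase at hm
      push Not at hm
      obtain ⟨x, hx, hxb⟩ := hm h
      obtain ⟨u, hu, hu'⟩ := ih _ (Finset.erase_ssubset hx) hxb
      exact ⟨u, hu.trans (Finset.erase_subset _ _), hu'⟩

theorem card_eq_of_reorder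
    (hB : ∀ (t : ℕ) (f : Fin t → Ω), IBase G f → MinBase G (Finset.univ.image f)) :
    ∀ (k : ℕ) (s u : Finset Ω), (s \ u).card = k → MinBase G s → MinBase G u → s.card = u.card := by
  intro k
  induction k using Nat.strong_induction_on with
  | _ k ih =>
    intro s u hk hs hu
    by_cases hsu : s ⊆ u
    · rw [le_antisymm hsu]
      intro x hx
      by_contra hxs
      exact hu.2 x hx fun g hg => hs.1 g fun y hy =>
        hg y (Finset.mem_erase.2 ⟨fun e => hxs (e ▸ hy), hsu hy⟩)
    obtain ⟨a, ha, hau⟩ := Finset.not_subset.1 hsu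
    obtain ⟨g, hg, hga⟩ := hs.moves ha
    obtain ⟨b, hb, hgb⟩ : ∃ b ∈ u, g • b ≠ b := by
      by_contra hno
      push Not at hno
      exact hga (by rw [hu.1 g hno, one_smul])
    have hba : b ≠ a := fun e => hau (e ▸ hb)
    have hbs : b ∉ s := fun e => hgb (hg b e hba)
    obtain ⟨e, he, heim⟩ := exists_list (s.erase a)
    have hemem : ∀ i, e i ∈ s.erase a := fun i => heim ▸ Finset.mem_image_of_mem e (Finset.mem_univ i)
    set s' := insert b (s.erase a) with hs'
    let f : Fin ((s.erase a).card + 1) → Ω := Fin.snoc e b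
    have hfim : Finset.univ.image f = s' := by
      ext x
      rw [hs', Finset.mem_insert, Finset.mem_image]
      constructor
      · rintro ⟨i, -, rfl⟩
        induction i using Fin.lastCases with
        | last => left; simp [f]
        | cast i => right; simpa [f] using hemem i
      · rintro (rfl | hx)
        · exact ⟨Fin.last _, Finset.mem_univ _, by simp [f]⟩
        · rw [← heim] at hx
          obtain ⟨i, -, rfl⟩ := Finset.mem_image.1 hx
          exact ⟨i.castSucc, Finset.mem_univ _, by simp [f]⟩
    have hfirr : ∀ i, ∃ g : G, (∀ j, j < i → g • f j = f j) ∧ g • f i ≠ f i := by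
      intro i
      induction i using Fin.lastCases with
      | last =>
        refine ⟨g, fun j hj => ?_, by simpa [f] using hgb⟩
        induction j using Fin.lastCases with
        | last => exact absurd hj (lt_irrefl _)
        | cast j =>
          simpa [f] using hg _ (Finset.mem_of_mem_erase (hemem j)) (Finset.ne_of_mem_erase (hemem j))
      | cast i =>
        obtain ⟨h, hh, hhi⟩ := hs.moves (Finset.mem_of_mem_erase (hemem i))
        refine ⟨h, fun j hj => ?_, by simpa [f] using hhi⟩
        induction j using Fin.lastCases with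
        | last => exact absurd hj (not_lt.2 (Fin.le_last _))
        | cast j =>
          simpa [f] using hh _ (Finset.mem_of_mem_erase (hemem j))
            (fun e' => hj.ne (by rw [he e']))
    have hbase : Base G s' := by
      by_contra hnb
      unfold Base at hnb
      push Not at hnb
      obtain ⟨h, hh, hh1⟩ := hnb
      have hha : h • a ≠ a := fun e' => hh1 (hs.1 h fun y hy => by
        by_cases hya : y = a
        · subst hya; exact e'
        · exact hh y (Finset.mem_insert_of_mem (Finset.mem_erase.2 ⟨hya, hy⟩)))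
      have hfh : ∀ j, h • f j = f j := fun j =>
        hh _ (hfim ▸ Finset.mem_image_of_mem f (Finset.mem_univ j))
      let f' : Fin ((s.erase a).card + 1 + 1) → Ω := Fin.snoc f a
      have hf' : IBase G f' := by
        refine ⟨fun k hk => hs.1 k fun y hy => ?_, fun i => ?_⟩
        · by_cases hya : y = a
          · subst hya; simpa [f'] using hk (Fin.last _)
          · have hy' : y ∈ s' := Finset.mem_insert_of_mem (Finset.mem_erase.2 ⟨hya, hy⟩)
            rw [← hfim] at hy'
            obtain ⟨j, -, rfl⟩ := Finset.mem_image.1 hy'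
            simpa [f'] using hk j.castSucc
        · induction i using Fin.lastCases with
          | last =>
            refine ⟨h, fun j hj => ?_, by simpa [f'] using hha⟩
            induction j using Fin.lastCases with
            | last => exact absurd hj (lt_irrefl _)
            | cast j => simpa [f'] using hfh j
          | cast i =>
            obtain ⟨k, hk, hki⟩ := hfirr i
            refine ⟨k, fun j hj => ?_, by simpa [f'] using hki⟩
            induction j using Fin.lastCases with
            | last => exact absurd hj (not_lt.2 (Fin.le_last _))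
            | cast j => simpa [f'] using hk j (Fin.castSucc_lt_castSucc_iff.1 hj)
      have hm := hB _ f' hf'
      have hbm : b ∈ Finset.univ.image f' :=
        Finset.mem_image.2 ⟨(Fin.last _).castSucc, Finset.mem_univ _, by simp [f', f]⟩
      refine hm.2 b hbm fun k hk => hs.1 k fun y hy => hk y (Finset.mem_erase.2
        ⟨fun e' => hbs (e' ▸ hy), ?_⟩)
      by_cases hya : y = a
      · subst hya; exact Finset.mem_image.2 ⟨Fin.last _, Finset.mem_univ _, by simp [f']⟩
      · have hy' : y ∈ s' := Finset.mem_insert_of_mem (Finset.mem_erase.2 ⟨hya, hy⟩)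
        rw [← hfim] at hy'
        obtain ⟨j, -, rfl⟩ := Finset.mem_image.1 hy'
        exact Finset.mem_image.2 ⟨j.castSucc, Finset.mem_univ _, by simp [f']⟩
    have hm' : MinBase G s' := hfim ▸ hB _ f ⟨fun k hk => hbase k fun y hy => by
      rw [← hfim] at hy
      obtain ⟨j, -, rfl⟩ := Finset.mem_image.1 hy
      exact hk j, hfirr⟩
    have hc : s'.card = s.card := by
      rw [hs', Finset.card_insert_of_notMem (fun e' => hbs (Finset.mem_of_mem_erase e')),
        Finset.card_erase_add_one ha]
    rw [← hc]
    refine ih _ ?_ s' u rfl hm' hu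
    rw [← hk]
    refine Finset.card_lt_card (Finset.ssubset_iff_of_subset ?_ |>.2
      ⟨a, Finset.mem_sdiff.2 ⟨ha, hau⟩, ?_⟩)
    · intro x hx
      rw [Finset.mem_sdiff, hs', Finset.mem_insert] at hx
      rcases hx.1 with rfl | h'
      · exact absurd hb hx.2
      · exact Finset.mem_sdiff.2 ⟨Finset.mem_of_mem_erase h', hx.2⟩
    · simp [hs', hba.symm]

/-- Let a finite group G act on a finite set Ω. An irredundant base is a sequence of points ω₁, …, ω_t whose pointwise stabiliser is trivial and in which each ω_i is moved by some element fixing ω₁, …, ω_{i−1}. Then all irredundant bases have the same length if and only if every reordering of an irredundant base is again an irredundant base. -/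
theorem result {G Ω : Type*} [Group G] [Finite G] [MulAction G Ω] [Fintype Ω] :
    (∀ (t t' : ℕ) (f : Fin t → Ω) (f' : Fin t' → Ω), ((∀ g : G, (∀ i : Fin t, g • f i = f i) → g = 1) ∧ ∀ i : Fin t, ∃ g : G, (∀ j : Fin t, j < i → g • f j = f j) ∧ g • f i ≠ f i) → ((∀ g : G, (∀ i : Fin t', g • f' i = f' i) → g = 1) ∧ ∀ i : Fin t', ∃ g : G, (∀ j : Fin t', j < i → g • f' j = f' j) ∧ g • f' i ≠ f' i) → t = t') ↔
    (∀ (t : ℕ) (f : Fin t → Ω) (σ : Equiv.Perm (Fin t)), ((∀ g : G, (∀ i : Fin t, g • f i = f i) → g = 1) ∧ ∀ i : Fin t, ∃ g : G, (∀ j : Fin t, j < i → g • f j = f j) ∧ g • f i ≠ f i) → ((∀ g : G, (∀ i : Fin t, g • (f ∘ σ) i = (f ∘ σ) i) → g = 1) ∧ ∀ i : Fin t, ∃ g : G, (∀ j : Fin t, j < i → g • (f ∘ σ) j = (f ∘ σ) j) ∧ g • (f ∘ σ) i ≠ (f ∘ σ) i)) := by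
  classical
  constructor
  · intro hA t f σ hf
    have hinj : Function.Injective f := IBase.injective hf
    have hbase : Base G (Finset.univ.image f) := fun g hg =>
      hf.1 g fun i => hg _ (Finset.mem_image_of_mem f (Finset.mem_univ i))
    have hmin : MinBase G (Finset.univ.image f) := by
      obtain ⟨u, hu, humin⟩ := exists_minBase hbase
      obtain ⟨e, he, heim⟩ := exists_list u
      have ht : t = u.card := hA t _ f e hf (humin.ibase he heim)
      rwa [Finset.eq_of_subset_of_card_le hu (by
        rw [Finset.card_image_of_injective _ hinj, Finset.card_univ, Fintype.card_fin, ht])] at humin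
    exact hmin.ibase (hinj.comp σ.injective)
      (by rw [← Finset.image_image, Finset.image_univ_equiv])
  · intro hB t t' f f' hf hf'
    have key : ∀ (t : ℕ) (f : Fin t → Ω), IBase G f → MinBase G (Finset.univ.image f) := by
      intro t f hf
      refine ⟨fun g hg => hf.1 g fun i => hg _ (Finset.mem_image_of_mem f (Finset.mem_univ i)),
        fun x hx hbase => ?_⟩
      obtain ⟨i, -, rfl⟩ := Finset.mem_image.1 hx
      cases t with
      | zero => exact i.elim0
      | succ t =>
        obtain ⟨g, hg, hm⟩ := (hB _ f (Equiv.swap i (Fin.last t)) hf).2 (Fin.last t)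
        simp only [Function.comp_apply, Equiv.swap_apply_right] at hm
        have key : g = 1 → False := fun e => hm (by rw [e, one_smul])
        refine key (hbase g fun y hy => ?_)
        obtain ⟨hyi, hy⟩ := Finset.mem_erase.1 hy
        obtain ⟨j, -, rfl⟩ := Finset.mem_image.1 hy
        have h1 : Equiv.swap i (Fin.last t) j < Fin.last t := by
          refine Fin.lt_last_iff_ne_last.2 fun e => hyi ?_
          rw [Equiv.apply_eq_iff_eq_symm_apply, Equiv.symm_swap, Equiv.swap_apply_right] at e
          rw [e]
        simpa using hg _ h1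
    have h := card_eq_of_reorder key _ _ _ rfl (key t f hf) (key t' f' hf')
    rwa [Finset.card_image_of_injective _ (IBase.injective hf),
      Finset.card_image_of_injective _ (IBase.injective hf'), Finset.card_univ, Finset.card_univ,
      Fintype.card_fin, Fintype.card_fin] at h

end Cfsg.Agent.S5747
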