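import Cfsg.Statements.S5748
import Cfsg.Agent.Lib.Invol.CTClassify

set_option autoImplicit false
open Cfsg

namespace Cfsg.Agent.S5748

/-- A finite non-abelian simple group in which commuting is a transitive relation on the non-identity elements (equivalently, every non-identity element has abelian centraliser) is isomorphic to PSL₂ over a field with 2^f elements for some f ≥ 2; conversely these groups have that property. -/
theorem result {G : Type*} [Group G] [Finite G] [IsSimpleGroup G] (hG : ¬ IsMulCommutative G) :
    (∀ a b c : G, a ≠ 1 → b ≠ 1 → c ≠ 1 → Commute a b → Commute b c → Commute a c) ↔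
    ∃ (F : Type) (_ : Field F) (_ : Fintype F) (f : ℕ), 2 ≤ f ∧ Fintype.card F = 2 ^ f ∧ Nonempty (G ≃* Matrix.ProjectiveSpecialLinearGroup (Fin 2) F) := by
  constructor
  · intro h
    refine CfsgLib.Invol.ct_exists_psl hG fun x a b hx ha hb => ?_
    by_cases ha1 : a = 1
    · rw [ha1]; exact Commute.one_left b
    by_cases hb1 : b = 1
    · rw [hb1]; exact Commute.one_right a
    exact h a x b ha1 hx hb1 ha hb.symm
  · rintro ⟨F, hF, hFF, f, hf, hcard, ⟨e⟩⟩ a b c ha hb hc hab hbc
    have h2 : (2 : F) = 0 := by
      have h0 := FiniteField.cast_card_eq_zero F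
      rw [hcard, Nat.cast_pow, Nat.cast_ofNat] at h0
      exact (pow_eq_zero_iff (by omega)).1 h0
    have := CfsgLib.Invol.psl_two_ca h2 (e b) (e a) (e c) (by simpa using hb)
      (hab.map e.toMonoidHom) (hbc.symm.map e.toMonoidHom)
    simpa using this.map e.symm.toMonoidHom

end Cfsg.Agent.S5748
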