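import Cfsg.Statements.S5751
import Cfsg.Agent.Lib.StructC.IterCoreExample

set_option autoImplicit false
open Cfsg

namespace Cfsg.Agent.S5751

open CfsgLib.Chev CfsgLib.StructC.IterCore

/-- An extremal example for iterated cores of conjugate maximal subgroups. -/
theorem result :
    ∃ (G : Type) (_ : Group G) (_ : Finite G) (M₁ M₂ : Subgroup G) (g : G) (A B : ℕ → Subgroup G),
      IsCoatom M₁ ∧ M₂ = M₁.map (MulAut.conj g).toMonoidHom ∧ M₁ ≠ M₂ ∧ M₁.normalCore = ⊥ ∧ A 0 = M₁ ∧ B 0 = M₂ ∧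
      (∀ i, A (i + 1) = ((A i ⊓ B i).subgroupOf M₁).normalCore.map M₁.subtype) ∧
      (∀ i, B (i + 1) = ((A i ⊓ B i).subgroupOf M₂).normalCore.map M₂.subtype) ∧ A 6 = ⊥ ∧ A 5 ≠ ⊥ :=
  ⟨Grp, inferInstance, inferInstance, M1, M1.map (cflip goodE8), nu goodE8, seqA goodE8, seqB goodE8,
    M1_coatom goodE8, rfl, M1_ne_conj goodE8, M1_core, rfl, rfl, seqA_succ goodE8,
    seqB_succ goodE8, seqA_six goodE8, seqA_five goodE8⟩

end Cfsg.Agent.S5751
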