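import Cfsg.Statements.S5752
import Cfsg.Agent.Lib.Recog.ThompsonWielandtPrime

set_option autoImplicit false
open Cfsg

namespace Cfsg.Agent.S5752

/-- A form of the Thompson–Wielandt Theorem on primitive permutation groups. Let G be a finite group and M₁, M₂ two distinct conjugate maximal subgroups of G with trivial core in G; define two descending sequences of subgroups by A₀ = M₁, B₀ = M₂ and, for every i, A_{i+1} = the core in M₁ of A_i ∩ B_i and B_{i+1} = the core in M₂ of A_i ∩ B_i (the core in M of a subgroup Y ≤ M is the largest normal subgroup of M contained in Y). If A₂ and B₂ are both non-trivial, then for some prime p the subgroup generated by A₂ and B₂ is a p-group, and for each j the generalized Fitting subgroups of M_j and of its first core (A₁, resp. B₁) are their largest normal p-subgroups. -/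
theorem result {G : Type*} [Group G] [Finite G] (M₁ M₂ : Subgroup G) (hmax : IsCoatom M₁) (g : G)
    (hconj : M₂ = M₁.map (MulAut.conj g).toMonoidHom) (hne : M₁ ≠ M₂) (hcore : M₁.normalCore = ⊥)
    (A B : ℕ → Subgroup G) (hA0 : A 0 = M₁) (hB0 : B 0 = M₂)
    (hA : ∀ i, A (i + 1) = ((A i ⊓ B i).subgroupOf M₁).normalCore.map M₁.subtype)
    (hB : ∀ i, B (i + 1) = ((A i ⊓ B i).subgroupOf M₂).normalCore.map M₂.subtype) (hA2 : A 2 ≠ ⊥) (hB2 : B 2 ≠ ⊥) :
    ∃ p : ℕ, p.Prime ∧ IsPGroup p ↥(A 2 ⊔ B 2) ∧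
      Cfsg.generalizedFittingSubgroup ↥M₁ = Cfsg.pCore p ↥M₁ ∧ Cfsg.generalizedFittingSubgroup ↥(A 1) = Cfsg.pCore p ↥(A 1) ∧
      Cfsg.generalizedFittingSubgroup ↥M₂ = Cfsg.pCore p ↥M₂ ∧ Cfsg.generalizedFittingSubgroup ↥(B 1) = Cfsg.pCore p ↥(B 1) := by
  have hne' : M₁ ≠ M₁.map (MulAut.conj g).toMonoidHom := hconj ▸ hne
  let O := CfsgLib.Recog.TW.cosetOrbital M₁ hmax hcore g hne'
  have hM₁ : MulAction.stabilizer G ((1 : G) : G ⧸ M₁) = M₁ := MulAction.stabilizer_quotient M₁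
  have hM₂ : MulAction.stabilizer G ((g : G) : G ⧸ M₁) = M₂ :=
    (CfsgLib.Recog.TW.stabilizer_cosetBase M₁ g).trans hconj.symm
  set x : G ⧸ M₁ := ((1 : G) : G ⧸ M₁)
  set y : G ⧸ M₁ := ((g : G) : G ⧸ M₁)
  have hE : O.E x y := ⟨1, one_smul _ _, one_smul _ _⟩
  have hA1 : A 1 = O.K x := by
    rw [hA 0, hA0, hB0, O.K_eq_core hE, hM₁, hM₂]
  have hB1 : B 1 = O.flip.K y := by
    rw [hB 0, hA0, hB0, O.flip.K_eq_core (x := y) (y := x) hE, hM₁, hM₂, inf_comm]
  have hA2' : A 2 = O.N x := by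
    rw [hA 1, hA1, hB1, O.N_eq_core hE, hM₁]
  have hB2' : B 2 = O.flip.N y := by
    rw [hB 1, hA1, hB1, O.flip.N_eq_core (x := y) (y := x) hE, hM₂, inf_comm]
    rfl
  have hN := CfsgLib.Recog.TW.Orbital.ne_bot_of_smul O.N_smul O (x := x) (hA2' ▸ hA2)
  have hN' := CfsgLib.Recog.TW.Orbital.ne_bot_of_smul O.flip.N_smul O (x := y) (hB2' ▸ hB2)
  obtain ⟨p, hp, hNp, hN'p, hF⟩ := O.one_prime hN hN' x
  refine ⟨p, hp, ?_, ?_, ?_, ?_, ?_⟩
  · rw [hA2', hB2']
    exact (hNp x).to_sup_of_normal_left' (hN'p y) ((O.flip.N_le_M hE).trans ((O.K_le x).trans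
      (CfsgLib.Recog.TW.Orbital.norm_of_smul O.N_smul x)))
  · have h := (hF x).1
    rwa [hM₁] at h
  · rw [hA1]; exact (hF x).2.1
  · have h := (hF y).1
    rwa [hM₂] at h
  · rw [hB1]; exact (hF y).2.2

end Cfsg.Agent.S5752
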