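import Cfsg.Statements.S5754
-- import your own Cfsg.Agent.* helpers here

set_option autoImplicit false
open Cfsg

namespace Cfsg.Agent.S5754

open QuadraticMap

variable {F V : Type*} [Field F] [AddCommGroup V] [Module F V]

/-- An isometry moving `x` to `y` and fixing every vector with equal polar values at `x` and `y`. -/
theorem exists_move (Q : QuadraticForm F V) (hQ : Q.Anisotropic) (x y : V) (h : Q x = Q y) :
    ∃ φ : Q.IsometryEquiv Q, φ x = y ∧ ∀ w, polar Q x w = polar Q y w → φ w = w := by
  rcases eq_or_ne x y with rfl | hne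
  · exact ⟨⟨LinearEquiv.refl F V, fun _ => rfl⟩, rfl, fun _ _ => rfl⟩
  set d := x - y with hd
  have hd0 : Q d ≠ 0 := fun e => sub_ne_zero.2 hne (hQ d e)
  let L : V →ₗ[F] F := (Q d)⁻¹ • QuadraticMap.polarBilin Q d
  let r : V →ₗ[F] V := LinearMap.id - L.smulRight d
  have hr : ∀ z, r z = z - ((Q d)⁻¹ * polar Q d z) • d := fun z => by simp [r, L]
  have hpd : polar Q d d = 2 * Q d := by rw [QuadraticMap.polar_self, two_nsmul, two_mul]
  have hinv : ∀ z, r (r z) = z := fun z => by
    rw [hr (r z), hr z, polar_sub_right, polar_smul_right, hpd, smul_eq_mul]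
    match_scalars <;> field_simp <;> ring
  have hiso : ∀ z, Q (r z) = Q z := fun z => by
    have e : r z = z + (-((Q d)⁻¹ * polar Q d z)) • d := by rw [hr, neg_smul, sub_eq_add_neg]
    rw [e, QuadraticMap.map_add Q, QuadraticMap.map_smul, polar_smul_right, smul_eq_mul, smul_eq_mul,
      polar_comm Q z d]
    field_simp
    ring
  refine ⟨⟨LinearEquiv.ofInvolutive r hinv, hiso⟩, ?_, fun w hw => ?_⟩
  · show r x = y
    have h1 : polar Q d x = Q d := by
      have e : Q y = Q x + Q (-d) + polar Q x (-d) := by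
        rw [← QuadraticMap.map_add Q]; congr 1; rw [hd]; abel
      rw [QuadraticMap.map_neg, polar_neg_right, polar_comm Q x d] at e
      linear_combination e + h
    rw [hr, h1, inv_mul_cancel₀ hd0, one_smul, hd, sub_sub_cancel]
  · show r w = w
    rw [hr, hd, polar_sub_left, hw, sub_self, mul_zero, zero_smul, sub_zero]

theorem exists_isometry_tuple (Q : QuadraticForm F V) (hQ : Q.Anisotropic) :
    ∀ (n : ℕ) (x y : Fin n → V), (∀ i, Q (x i) = Q (y i)) →
      (∀ i j, polar Q (x i) (x j) = polar Q (y i) (y j)) →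
      ∃ φ : Q.IsometryEquiv Q, ∀ i, φ (x i) = y i := by
  intro n
  induction n with
  | zero => intro x y _ _; exact ⟨⟨LinearEquiv.refl F V, fun _ => rfl⟩, fun i => i.elim0⟩
  | succ n ih =>
    intro x y h1 h2
    obtain ⟨φ, hφ⟩ := ih (fun i => x i.castSucc) (fun i => y i.castSucc) (fun i => h1 _)
      (fun i j => h2 _ _)
    obtain ⟨ψ, hψ, hfix⟩ := exists_move Q hQ (φ (x (Fin.last n))) (y (Fin.last n))
      (by rw [QuadraticMap.IsometryEquiv.map_app, h1])
    refine ⟨φ.trans ψ, fun i => ?_⟩
    show ψ (φ (x i)) = y i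
    induction i using Fin.lastCases with
    | last => exact hψ
    | cast i =>
      rw [hφ i, hfix]
      rw [← h2, ← hφ i]
      simp only [QuadraticMap.polar, ← map_add, QuadraticMap.IsometryEquiv.map_app]

/-- Let V be a finite-dimensional vector space over a finite field F carrying an anisotropic quadratic form Q (Q(v) = 0 only for v = 0). Then the group of all maps v ↦ φ(v) + c, with φ an isometry of Q and c ∈ V, acts on V as a binary permutation group: given n ≥ 2 and two n-tuples u, u' of vectors such that every pair of corresponding entries of u is carried to that of u' by such a map, one such map carries u to u'. -/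
theorem result {F V : Type*} [Field F] [Finite F] [AddCommGroup V] [Module F V] [Module.Finite F V]
    (Q : QuadraticForm F V) (hQ : Q.Anisotropic) (n : ℕ) (hn : 2 ≤ n) (u u' : Fin n → V)
    (h2 : ∀ i j : Fin n, i ≠ j → ∃ (φ : Q.IsometryEquiv Q) (c : V), φ (u i) + c = u' i ∧ φ (u j) + c = u' j) :
    ∃ (φ : Q.IsometryEquiv Q) (c : V), ∀ i, φ (u i) + c = u' i := by
  let i₀ : Fin n := ⟨0, by omega⟩
  have hQd : ∀ i j, Q (u i - u j) = Q (u' i - u' j) := fun i j => by
    rcases eq_or_ne i j with rfl | hij
    · simp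
    obtain ⟨φ, c, e1, e2⟩ := h2 i j hij
    rw [← e1, ← e2, add_sub_add_right_eq_sub, ← map_sub, QuadraticMap.IsometryEquiv.map_app]
  obtain ⟨φ, hφ⟩ := exists_isometry_tuple Q hQ n (fun i => u i - u i₀) (fun i => u' i - u' i₀)
    (fun i => hQd i i₀) (fun i j => by
      have e : ∀ a b : V, polar Q a b = Q a + Q b - Q (a - b) := fun a b => by
        rw [sub_eq_add_neg a b, QuadraticMap.map_add Q, polar_neg_right, QuadraticMap.map_neg]
        ring
      rw [e, e, sub_sub_sub_cancel_right, sub_sub_sub_cancel_right, hQd i i₀, hQd j i₀, hQd i j])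
  refine ⟨φ, u' i₀ - φ (u i₀), fun i => ?_⟩
  have := hφ i
  rw [map_sub] at this
  rw [← sub_add_cancel (u' i) (u' i₀), ← this]
  abel

end Cfsg.Agent.S5754
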