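import Cfsg.Statements.S5763
import Cfsg.Agent.Lib.MaxSub.EightPoints

set_option autoImplicit false
open Cfsg

namespace Cfsg.Agent.S5763

open CfsgLib.MaxSub.Eight
open scoped Pointwise

/-- In the symmetric group on 8 letters any two Sylow 2-subgroups have non-trivial intersection: for a Sylow 2-subgroup H and every element x, H ∩ xHx⁻¹ ≠ 1. -/
theorem result (H : Sylow 2 (Equiv.Perm (Fin 8))) (x : Equiv.Perm (Fin 8)) :
    (H : Subgroup (Equiv.Perm (Fin 8))) ⊓ (H : Subgroup (Equiv.Perm (Fin 8))).map (MulAut.conj x).toMonoidHom ≠ ⊥ := by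
  haveI : Fact (Nat.Prime 2) := ⟨Nat.prime_two⟩
  obtain ⟨S, hS⟩ := (show IsPGroup 2 tree from fun g =>
    ⟨3, Subtype.ext (pow_eight g.2)⟩).exists_le_sylow
  obtain ⟨y, hy⟩ := MulAction.exists_smul_eq (Equiv.Perm (Fin 8)) S H
  subst hy
  obtain ⟨a, ha, ha1, hax⟩ := exists_common (y⁻¹ * x * y)
  intro h
  have hm : y * a * y⁻¹ ∈ ((y • S : Sylow 2 (Equiv.Perm (Fin 8))) : Subgroup (Equiv.Perm (Fin 8))) ⊓
      ((y • S : Sylow 2 (Equiv.Perm (Fin 8))) : Subgroup (Equiv.Perm (Fin 8))).map (MulAut.conj x).toMonoidHom := by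
    refine ⟨?_, ?_⟩
    · show y * a * y⁻¹ ∈ (MulAut.conj y) • (S : Subgroup (Equiv.Perm (Fin 8)))
      exact Subgroup.smul_mem_pointwise_smul a (MulAut.conj y) _ (hS ha)
    · refine ⟨x⁻¹ * (y * a * y⁻¹) * x, ?_, by simp [mul_assoc]⟩
      show x⁻¹ * (y * a * y⁻¹) * x ∈ (MulAut.conj y) • (S : Subgroup (Equiv.Perm (Fin 8)))
      rw [show x⁻¹ * (y * a * y⁻¹) * x = MulAut.conj y ((y⁻¹ * x * y)⁻¹ * a * (y⁻¹ * x * y)) by
        simp [mul_assoc]]
      exact Subgroup.smul_mem_pointwise_smul _ (MulAut.conj y) _ (hS hax)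
  rw [h, Subgroup.mem_bot, conj_eq_one_iff] at hm
  exact ha1 hm

end Cfsg.Agent.S5763
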