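import Cfsg.Statements.S5769
import Cfsg.Agent.Lib.Chev.E7Order65
import Cfsg.Agent.Lib.Chev.Elem65

set_option autoImplicit false
open Cfsg

namespace Cfsg.Agent.S5769

open CfsgLib.Chev

theorem excl (H : Subgroup ↥(Cfsg.Lie.chevE7.group (ZMod 2))) {P : Type*} [Group P]
    (h : ∃ g : P, orderOf g = 65) : IsEmpty (↥H ≃* P) := by
  refine ⟨fun e => ?_⟩
  obtain ⟨g, hg⟩ := h
  refine Springer.no_order_65 (ZMod 2) (ZMod.card 2) (e.symm g : ↥H) ?_
  rw [← hg, ← orderOf_injective e.symm.toMonoidHom e.symm.injective g]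
  exact Subgroup.orderOf_coe _

/-- The Chevalley group of type E₇ over the field with two elements (generated by its root elements in the adjoint representation) has no subgroup isomorphic to any of PSL₂(64), PSp₄(8), PSL₄(8), PSU₄(8) or PSp₆(8). Here F₈ and F₆₄ denote fields with 8 and 64 elements. -/
theorem result {F₈ F₆₄ : Type*} [Field F₈] [Fintype F₈] (h8 : Fintype.card F₈ = 8) [Field F₆₄] [Fintype F₆₄] (h64 : Fintype.card F₆₄ = 64)
    (H : Subgroup ↥(Cfsg.Lie.chevE7.group (ZMod 2))) :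
    IsEmpty (↥H ≃* Matrix.ProjectiveSpecialLinearGroup (Fin 2) F₆₄) ∧ IsEmpty (↥H ≃* Cfsg.PSp 2 F₈) ∧
    IsEmpty (↥H ≃* Matrix.ProjectiveSpecialLinearGroup (Fin 4) F₈) ∧ IsEmpty (↥H ≃* Cfsg.PSU 4 F₆₄ 8) ∧ IsEmpty (↥H ≃* Cfsg.PSp 3 F₈) := by
  have hc : ringChar F₈ = 2 := by
    obtain ⟨n, hp, hn⟩ := FiniteField.card F₈ (ringChar F₈)
    rw [h8, show (8 : ℕ) = 2 ^ 3 by norm_num] at hn
    exact ((Nat.prime_dvd_prime_iff_eq hp Nat.prime_two).1 (hp.dvd_of_dvd_pow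
      (hn ▸ dvd_pow_self _ n.ne_zero : ringChar F₈ ∣ 2 ^ 3)))
  refine ⟨excl H (Elem65.psl_two h64), excl H ?_, excl H (Elem65.psl_four h8),
    excl H (Elem65.psu_four h64), excl H ?_⟩
  · obtain ⟨A, hA⟩ := Elem65.sp_four h8 h64
    exact ⟨_, (Elem65.psp_of_sp one_le_two hc).trans hA⟩
  · obtain ⟨A, hA⟩ := Elem65.sp_six h8 h64
    exact ⟨_, (Elem65.psp_of_sp (by norm_num) hc).trans hA⟩

end Cfsg.Agent.S5769
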