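import Cfsg.Statements.S5777
import Cfsg.Agent.Lib.MaxSub.SuThree.Point
import Cfsg.Agent.Lib.MaxSub.SuThree.Frame
import Cfsg.Agent.Lib.MaxSub.SuThree.SingerField
import Cfsg.Agent.Lib.MaxSub.SuThree.Orth
import Cfsg.Agent.Lib.MaxSub.SuThree.Symp
import Cfsg.Agent.Lib.MaxSub.SuThree.Subfield
set_option autoImplicit false
open Cfsg

namespace Cfsg.Agent.S5777

/-- Maximal subgroups of SU_3(q) of geometric type, q ≥ 3. Let F be the field with q² elements, f the standard unitary form Σ u_i v_i^q on F^3, and SU_3(q) the determinant-one isometries of f. Each of the following, intersected with SU_3(q), is a maximal subgroup of SU_3(q): (1) the stabiliser of any non-zero subspace on which f vanishes identically (an isotropic 1-space); (2) the stabiliser of any non-degenerate 1-space; (3) for q ≠ 5, the stabiliser of any decomposition of F^3 into three mutually orthogonal non-degenerate 1-spaces; (4) for q ≠ 3,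 5, the normaliser of any degree-3 subfield of the matrix algebra that is closed under taking adjoints for f; (5) every subfield group for a subfield F₀ of odd prime index r in F whose F₀-structure carries f; (6) for q odd with q ≥ 7, every subfield group for the subfield F₀ of index 2 whose F₀-structure carries f (the orthogonal type); (7) for q = p prime with p ≡ 2 mod 3 and p ≥ 11, the normaliser of any absolutely irreducible subgroup R of order 27 with centre of order 3, of exponent 3 with every characteristic abelian subgroup cyclic, contained in the similarity group of f. -/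
theorem result {F : Type*} [Field F] [Fintype F] (q : ℕ) (hF : Fintype.card F = q ^ 2) (hq : 3 ≤ q) :
    (∀ W : Submodule F (Fin 3 → F), W ≠ ⊥ → Cfsg.Geo.IsTotallySingularFor (Cfsg.hermForm 3 F q) W → Cfsg.Geo.IsMaximalIn (Cfsg.GU 3 F q ⊓ Cfsg.Geo.specialLinear (Fin 3) F) (Cfsg.Geo.subspaceStabilizer W ⊓ (Cfsg.GU 3 F q ⊓ Cfsg.Geo.specialLinear (Fin 3) F))) ∧
    (∀ W : Submodule F (Fin 3 → F), W ≠ ⊥ → Cfsg.Geo.IsNondegenerateOn (Cfsg.hermForm 3 F q) W → 2 * Module.finrank F W < 3 → Cfsg.Geo.IsMaximalIn (Cfsg.GU 3 F q ⊓ Cfsg.Geo.specialLinear (Fin 3) F) (Cfsg.Geo.subspaceStabilizer W ⊓ (Cfsg.GU 3 F q ⊓ Cfsg.Geo.specialLinear (Fin 3) F))) ∧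
    (q ≠ 5 → ∀ D : Fin 3 → Submodule F (Fin 3 → F), Cfsg.Geo.IsNondegenerateMDecomposition (Cfsg.hermForm 3 F q) 1 D → Cfsg.Geo.IsMaximalIn (Cfsg.GU 3 F q ⊓ Cfsg.Geo.specialLinear (Fin 3) F) (Cfsg.Geo.decompositionStabilizer D ⊓ (Cfsg.GU 3 F q ⊓ Cfsg.Geo.specialLinear (Fin 3) F))) ∧
    (q ≠ 3 → q ≠ 5 → ∀ K : Subalgebra F (Matrix (Fin 3) (Fin 3) F), Cfsg.Geo.IsFieldSubalgebra 3 K → Cfsg.Geo.IsAdjointClosedFor (Cfsg.hermForm 3 F q) K → Cfsg.Geo.IsMaximalIn (Cfsg.GU 3 F q ⊓ Cfsg.Geo.specialLinear (Fin 3) F) (Cfsg.Geo.subalgebraNormalizer K ⊓ (Cfsg.GU 3 F q ⊓ Cfsg.Geo.specialLinear (Fin 3) F))) ∧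
    (∀ (F₀ : Subfield F) (r : ℕ) (P : Matrix.GeneralLinearGroup (Fin 3) F), r.Prime → Odd r → Fintype.card F = Nat.card F₀ ^ r → Cfsg.Geo.IsFormRationalStructure (Cfsg.hermForm 3 F q) F₀ 1 P → Cfsg.Geo.IsMaximalIn (Cfsg.GU 3 F q ⊓ Cfsg.Geo.specialLinear (Fin 3) F) (Cfsg.Geo.subfieldSubgroup F₀ P ⊓ (Cfsg.GU 3 F q ⊓ Cfsg.Geo.specialLinear (Fin 3) F))) ∧
    (Odd q → 7 ≤ q → ∀ (F₀ : Subfield F) (P : Matrix.GeneralLinearGroup (Fin 3) F), Fintype.card F = Nat.card F₀ ^ 2 → Cfsg.Geo.IsFormRationalStructure (Cfsg.hermForm 3 F q) F₀ 1 P → Cfsg.Geo.IsMaximalIn (Cfsg.GU 3 F q ⊓ Cfsg.Geo.specialLinear (Fin 3) F) (Cfsg.Geo.subfieldSubgroup F₀ P ⊓ (Cfsg.GU 3 F q ⊓ Cfsg.Geo.specialLinear (Fin 3) F))) ∧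
    (∀ (p : ℕ) (R : Subgroup (Matrix.GeneralLinearGroup (Fin 3) F)), p.Prime → q = p → p % 3 = 2 → 11 ≤ p → Cfsg.Geo.IsSymplecticTypeGroup 3 R → Cfsg.Geo.ActsAbsolutelyIrreducibly (Cfsg.Geo.matrixSet R) → R ≤ Cfsg.Geo.similarityGroup (Cfsg.hermForm 3 F q) → Nat.card R = 27 → Nat.card (Subgroup.center R) = 3 → Cfsg.Geo.IsMaximalIn (Cfsg.GU 3 F q ⊓ Cfsg.Geo.specialLinear (Fin 3) F) (Cfsg.Geo.subgroupNormalizer R ⊓ (Cfsg.GU 3 F q ⊓ Cfsg.Geo.specialLinear (Fin 3) F))) := by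
  refine ⟨fun W hW0 hW => CfsgLib.MaxSub.SuThree.isotropic_maximal hF hq W hW0 hW,
    fun W hW0 hW hdim => CfsgLib.MaxSub.SuThree.point_maximal hF hq W hW0 hW hdim,
    fun h5 D hD => CfsgLib.MaxSub.SuThree.frame_maximal hF hq h5 D hD,
    fun h3 h5 K hK hA => CfsgLib.MaxSub.SuThree.field_maximal hK hF hA hq h3 h5,
    fun F₀ r P hr hodd hcard hP => CfsgLib.MaxSub.SuThree.subfield_maximal q hF hq F₀ r P hr hodd hcard hP,
    fun hodd h7 F₀ P hcard hP => CfsgLib.MaxSub.SuThree.orth_maximal q hF hodd h7 F₀ P hcard hP,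
    CfsgLib.MaxSub.SuThree.symp_maximal hF hq⟩

end Cfsg.Agent.S5777

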