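import Cfsg.Statements.S5778
import Cfsg.Agent.Lib.AschU.List
import Cfsg.Agent.Lib.AschU.SUThreeFrame
import Cfsg.Agent.Lib.AschU.SUThreeReal
import Cfsg.Agent.Lib.AschU.SUThreeSymp
import Cfsg.Agent.Lib.AschU.SUThreeField

set_option autoImplicit false
open Cfsg

namespace Cfsg.Agent.S5778

/-- Every maximal subgroup of SU_3(q), q ≥ 3, is of one of the listed geometric types or lies in the residual class. Let F be the field with q² elements, f the standard unitary form Σ u_i v_i^q on F^3, and H a maximal subgroup of SU_3(q) (the determinant-one isometries of f, inside GL_3(F)). Then H is the intersection with SU_3(q) of one of: the stabiliser of a non-zero subspace on which f vanishes; the stabiliser of a non-degenerate 1-space; for q ≠ 5, the stabiliser of a decomposition into three mutually orthogonal non-degenerate 1-spaces; for q ≠ 3, 5, the normaliser of an adjoint-closed degree-3 subfield of the matrix algebra; a subfield group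 of odd prime index whose F₀-structure carries f; for q odd, q ≥ 7, a subfield group of index 2 whose F₀-structure carries f; for q = p ≡ 2 mod 3 prime with p ≥ 11, the normaliser of an absolutely irreducible subgroup of order 27 with centre of order 3, exponent 3 and all characteristic abelian subgroups cyclic, contained in the similarity group of f — or else H lies in the residual class of the unitary case. -/
theorem result {F : Type*} [Field F] [Fintype F] (q : ℕ) (hF : Fintype.card F = q ^ 2) (hq : 3 ≤ q) (H : Subgroup (Matrix.GeneralLinearGroup (Fin 3) F)) (hH : Cfsg.Geo.IsMaximalIn (Cfsg.GU 3 F q ⊓ Cfsg.Geo.specialLinear (Fin 3) F) H) :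
    (∃ W : Submodule F (Fin 3 → F), W ≠ ⊥ ∧ Cfsg.Geo.IsTotallySingularFor (Cfsg.hermForm 3 F q) W ∧ H = Cfsg.Geo.subspaceStabilizer W ⊓ (Cfsg.GU 3 F q ⊓ Cfsg.Geo.specialLinear (Fin 3) F)) ∨
    (∃ W : Submodule F (Fin 3 → F), W ≠ ⊥ ∧ Cfsg.Geo.IsNondegenerateOn (Cfsg.hermForm 3 F q) W ∧ 2 * Module.finrank F W < 3 ∧ H = Cfsg.Geo.subspaceStabilizer W ⊓ (Cfsg.GU 3 F q ⊓ Cfsg.Geo.specialLinear (Fin 3) F)) ∨
    (q ≠ 5 ∧ ∃ D : Fin 3 → Submodule F (Fin 3 → F), Cfsg.Geo.IsNondegenerateMDecomposition (Cfsg.hermForm 3 F q) 1 D ∧ H = Cfsg.Geo.decompositionStabilizer D ⊓ (Cfsg.GU 3 F q ⊓ Cfsg.Geo.specialLinear (Fin 3) F)) ∨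
    (q ≠ 3 ∧ q ≠ 5 ∧ ∃ K : Subalgebra F (Matrix (Fin 3) (Fin 3) F), Cfsg.Geo.IsFieldSubalgebra 3 K ∧ Cfsg.Geo.IsAdjointClosedFor (Cfsg.hermForm 3 F q) K ∧ H = Cfsg.Geo.subalgebraNormalizer K ⊓ (Cfsg.GU 3 F q ⊓ Cfsg.Geo.specialLinear (Fin 3) F)) ∨
    (∃ (F₀ : Subfield F) (r : ℕ) (P : Matrix.GeneralLinearGroup (Fin 3) F), r.Prime ∧ Odd r ∧ Fintype.card F = Nat.card F₀ ^ r ∧ Cfsg.Geo.IsFormRationalStructure (Cfsg.hermForm 3 F q) F₀ 1 P ∧ H = Cfsg.Geo.subfieldSubgroup F₀ P ⊓ (Cfsg.GU 3 F q ⊓ Cfsg.Geo.specialLinear (Fin 3) F)) ∨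
    (Odd q ∧ 7 ≤ q ∧ ∃ (F₀ : Subfield F) (P : Matrix.GeneralLinearGroup (Fin 3) F), Fintype.card F = Nat.card F₀ ^ 2 ∧ Cfsg.Geo.IsFormRationalStructure (Cfsg.hermForm 3 F q) F₀ 1 P ∧ H = Cfsg.Geo.subfieldSubgroup F₀ P ⊓ (Cfsg.GU 3 F q ⊓ Cfsg.Geo.specialLinear (Fin 3) F)) ∨
    (∃ (p : ℕ) (R : Subgroup (Matrix.GeneralLinearGroup (Fin 3) F)), p.Prime ∧ q = p ∧ p % 3 = 2 ∧ 11 ≤ p ∧ Cfsg.Geo.IsSymplecticTypeGroup 3 R ∧ Cfsg.Geo.ActsAbsolutelyIrreducibly (Cfsg.Geo.matrixSet R) ∧ R ≤ Cfsg.Geo.similarityGroup (Cfsg.hermForm 3 F q) ∧ Nat.card R = 27 ∧ Nat.card (Subgroup.center R) = 3 ∧ H = Cfsg.Geo.subgroupNormalizer R ⊓ (Cfsg.GU 3 F q ⊓ Cfsg.Geo.specialLinear (Fin 3) F)) ∨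
    Cfsg.Geo.InUnitaryResidualClass H := by
  rcases CfsgLib.AschU.shape_or_residual (n := 3) hF (by norm_num) (by norm_num) (by omega) hH with h | h
  swap
  · exact Or.inr (Or.inr (Or.inr (Or.inr (Or.inr (Or.inr (Or.inr h))))))
  cases h with
  | ts W h0 hW hX => exact Or.inl ⟨W, h0, hW, hX⟩
  | nd W h0 hW h2 hX => exact Or.inr (Or.inl ⟨W, h0, hW, h2, hX⟩)
  | decomp t k D hD htk hex hX =>
    have ht := hD.decomp.two_le
    have hk := hD.decomp.pos
    obtain ⟨rfl, rfl⟩ : t = 3 ∧ k = 1 := by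
      have hkn : k ≤ 3 := by nlinarith
      interval_cases k <;> omega
    exact Or.inr (Or.inr (Or.inl ⟨fun e => CfsgLib.AschU.SUThree.false_of_frame5 hF e hH hD
      (hX.le.trans inf_le_left), D, hD, hX⟩))
  | halves k D hk hD hT hX => omega
  | subfieldOdd F₀ r P hr hr2 hc hP hX =>
    exact Or.inr (Or.inr (Or.inr (Or.inr (Or.inl ⟨F₀, r, P, hr, hr2, hc, hP, hX⟩))))
  | subfieldOrth F₀ P hqo hc hP hX =>
    by_cases h7 : 7 ≤ q
    · exact Or.inr (Or.inr (Or.inr (Or.inr (Or.inr (Or.inl ⟨hqo, h7, F₀, P, hc, hP, hX⟩)))))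
    · rcases (show q = 3 ∨ q = 5 by obtain ⟨m, rfl⟩ := hqo; omega) with e | e
      · obtain ⟨D, hD, hX'⟩ := CfsgLib.AschU.SUThree.exists_frame_of_real3 hF e hH hc hP
          (hX.le.trans inf_le_left)
        exact Or.inr (Or.inr (Or.inl ⟨by omega, D, hD, hX'⟩))
      · exact (CfsgLib.AschU.SUThree.false_of_real5 hF e hH hc hP (hX.le.trans inf_le_left)).elim
  | subfieldSymp F₀ P ζ he hc h0 hζ hP halt hX => exact absurd he (by decide)
  | sympType r p e k R hR habs hsim hrp hmin hcases hnk hX =>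
    obtain ⟨hrn, hrle, hkn⟩ := CfsgLib.AschU.pow_facts hR.prime hnk (by norm_num)
    have hr2 := hR.prime.two_le
    obtain ⟨rfl, rfl⟩ : r = 3 ∧ k = 1 := by
      have hrp' := hR.prime
      interval_cases r <;> interval_cases k <;> revert hrp' hnk <;> norm_num
    rcases hcases with ⟨-, hZ, -, hcard⟩ | ⟨h2, -⟩
    swap
    · omega
    rw [hZ] at hmin
    obtain ⟨a, ha, hqa, hale, hlt, hone, hno⟩ := CfsgLib.AschU.exists_odd_degree hF (by norm_num) hrp hmin
    obtain rfl : a = 1 := by omega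
    have h1 := hno 1 one_pos (by norm_num)
    have hp3 : p % 3 = 2 := by
      generalize hg : p % 3 = m at *
      interval_cases m <;> first | rfl | exact absurd rfl h1 | norm_num at hone
    rw [pow_one] at hqa
    have hp11 : 11 ≤ p := by
      by_contra hlt11
      have hp' := hmin.1
      have : p = 5 := by
        rcases (show p = 5 ∨ p = 8 by omega) with h | h
        · exact h
        · rw [h] at hp'; norm_num at hp'
      exact CfsgLib.AschU.SUThree.false_of_symp5 hF (hqa.trans this) hH hR habs hsim hcard hZ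
        (hX.le.trans inf_le_left)
    exact Or.inr (Or.inr (Or.inr (Or.inr (Or.inr (Or.inr (Or.inl
      ⟨p, R, hmin.1, hqa, hp3, hp11, hR, habs, hsim, hcard, hZ, hX⟩))))))
  | field r K hr hr2 hrn hK hA hX =>
    obtain rfl : r = 3 := by
      have := Nat.le_of_dvd (by norm_num) hrn
      have := hr.two_le
      interval_cases r <;> revert hr hr2 hrn <;> decide
    by_cases h35 : q = 3 ∨ q = 5
    · exact (CfsgLib.AschU.SUThree.false_of_field35 hF h35 hH hK hA (hX.le.trans inf_le_left)).elim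
    · exact Or.inr (Or.inr (Or.inr (Or.inl ⟨fun e => h35 (Or.inl e), fun e => h35 (Or.inr e), K, hK, hA, hX⟩)))
  | tensor n₁ n₂ e P f₁ f₂ h1 h12 hn hex hf₁ hf₂ hT hX =>
    have hn2 : n₁ ≤ 3 := by nlinarith
    interval_cases n₁ <;> omega
  | wreath e P f₁ hq2 hn hf₁ hT hX => exact absurd hn (by norm_num)


end Cfsg.Agent.S5778
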