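import Cfsg.Statements.S5781
import Cfsg.Agent.Lib.Aschbacher.SLFourSmall

set_option autoImplicit false
open Cfsg

namespace Cfsg.Agent.S5781

/-- Every maximal subgroup of SL_4(q) is of one of the listed geometric types or lies in the residual class. Let F be a finite field with q elements and H a maximal subgroup of SL_4(F) (inside GL_4(F)). Then H is the intersection with SL_4(F) of one of: the stabiliser of a proper non-zero subspace; for q ≥ 7, the stabiliser of a decomposition into four independent lines; for q ≥ 4, the stabiliser of a decomposition into two independent planes; the normaliser of a degree-2 subfield of the matrix algebra; a subfield group for a subfield F₀ with |F| = |F₀|^r, r prime; for q = p ≡ 1 mod 4 prime, the normaliser of an absolutely irreducible 2-subgroup R of exponent 4 with centre of order 4, all of whose characteristic abelian subgroups are cyclic, of order 2^(2+2m) for some m (here |R| = 64), with 4 dividing p − 1; for q odd, the similarity group of a non-degenerate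 quadratic form; the similarity group of a non-degenerate symplectic form; the similarity group of a non-degenerate unitary form — or else H lies in the residual class of the linear case. -/
theorem result {F : Type*} [Field F] [Fintype F] (H : Subgroup (Matrix.GeneralLinearGroup (Fin 4) F)) (hH : Cfsg.Geo.IsMaximalIn (Cfsg.Geo.specialLinear (Fin 4) F) H) :
    (∃ W : Submodule F (Fin 4 → F), W ≠ ⊥ ∧ W ≠ ⊤ ∧ H = Cfsg.Geo.subspaceStabilizer W ⊓ Cfsg.Geo.specialLinear (Fin 4) F) ∨
    (7 ≤ Fintype.card F ∧ ∃ D : Fin 4 → Submodule F (Fin 4 → F), Cfsg.Geo.IsMDecomposition 1 D ∧ H = Cfsg.Geo.decompositionStabilizer D ⊓ Cfsg.Geo.specialLinear (Fin 4) F) ∨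
    (4 ≤ Fintype.card F ∧ ∃ D : Fin 2 → Submodule F (Fin 4 → F), Cfsg.Geo.IsMDecomposition 2 D ∧ H = Cfsg.Geo.decompositionStabilizer D ⊓ Cfsg.Geo.specialLinear (Fin 4) F) ∨
    (∃ K : Subalgebra F (Matrix (Fin 4) (Fin 4) F), Cfsg.Geo.IsFieldSubalgebra 2 K ∧ H = Cfsg.Geo.subalgebraNormalizer K ⊓ Cfsg.Geo.specialLinear (Fin 4) F) ∨
    (∃ (F₀ : Subfield F) (r : ℕ) (P : Matrix.GeneralLinearGroup (Fin 4) F), r.Prime ∧ Fintype.card F = Nat.card F₀ ^ r ∧ H = Cfsg.Geo.subfieldSubgroup F₀ P ⊓ Cfsg.Geo.specialLinear (Fin 4) F) ∨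
    (∃ (p : ℕ) (R : Subgroup (Matrix.GeneralLinearGroup (Fin 4) F)), p.Prime ∧ Fintype.card F = p ∧ p % 4 = 1 ∧ Cfsg.Geo.IsLinearSymplecticTypeData 2 R ∧ H = Cfsg.Geo.subgroupNormalizer R ⊓ Cfsg.Geo.specialLinear (Fin 4) F) ∨
    (Odd (Fintype.card F) ∧ ∃ Q : (Fin 4 → F) → F, Cfsg.Geo.IsNondegenerateQuadraticForm Q ∧ H = Cfsg.Geo.quadSimilarityGroup Q ⊓ Cfsg.Geo.specialLinear (Fin 4) F) ∨
    (∃ f : (Fin 4 → F) → (Fin 4 → F) → F, Cfsg.Geo.IsSymplecticForm f ∧ H = Cfsg.Geo.similarityGroup f ⊓ Cfsg.Geo.specialLinear (Fin 4) F) ∨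
    (∃ (σ : F ≃+* F) (f : (Fin 4 → F) → (Fin 4 → F) → F), Cfsg.Geo.IsUnitaryForm σ f ∧ H = Cfsg.Geo.similarityGroup f ⊓ Cfsg.Geo.specialLinear (Fin 4) F) ∨
    Cfsg.Geo.InLinearResidualClass H := by
  rcases CfsgLib.AschPrime.maximal_sl_general (by norm_num) (fun r m hr h => by
      have hm : m ≠ 0 := by rintro rfl; norm_num at h
      have := hr.pow_minFac hm
      rw [h] at this
      norm_num at this
      omega) H hH with
    h | ⟨t, m, D, htm, hD, hirr, hle⟩ | ⟨r, K, hr, hrn, hK, hH'⟩ | ⟨d, m, e, P, hd, hdm, hle⟩ |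
    ⟨d, t, e, P, hd, ht, hle⟩ | h | ⟨r, m, p, R, hrm, hp, hq, hcase, hR, hH'⟩ | h | h | h | h
  · exact .inl (h)
  · have h2t := hD.two_le
    have h1m := hD.pos
    obtain rfl | rfl : m = 1 ∨ m = 2 := by
      have := Nat.mul_le_mul_right m h2t
      have : m ≤ 4 := by omega
      interval_cases m <;> omega
    · obtain rfl : t = 4 := by omega
      rcases CfsgLib.AschPrime.lines_branch (by norm_num) hH hirr hD hle with h | h | h
      · by_cases h7 : 7 ≤ Fintype.card F
        · exact .inr (.inl (⟨h7, h.2⟩))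
        obtain ⟨p, R, hp, hq, hp4, hR, hH'⟩ := CfsgLib.AschPrime.four_lines_five hH h.1 h7 hD hle
        exact .inr (.inr (.inr (.inr (.inr (.inl (⟨p, R, hp, hq, hp4, hR, hH'⟩))))))
      · exact .inr (.inr (.inr (.inr (.inr (.inr (.inl (h)))))))
      · exact .inr (.inr (.inr (.inr (.inr (.inr (.inr (.inr (.inl (h)))))))))
    · obtain rfl : t = 2 := by omega
      rcases CfsgLib.AschPrime.planes_branch (by norm_num) hH hD hle with h | h
      · by_cases h4 : 4 ≤ Fintype.card F
        · exact .inr (.inr (.inl (⟨h4, h.2⟩)))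
        obtain h := CfsgLib.AschPrime.two_planes_three hH h.1 h4 hD hle
        exact .inr (.inr (.inr (.inr (.inr (.inr (.inr (.inl (h))))))))
      · exact .inr (.inr (.inr (.inr (.inr (.inr (.inr (.inl (h))))))))
  · obtain rfl : r = 2 := by
      have := Nat.le_of_dvd (by norm_num) hrn
      have := hr.two_le
      interval_cases r <;> first | omega | norm_num at hr
    · exact .inr (.inr (.inr (.inl (⟨K, hK, hH'⟩))))
  · have hdim := CfsgLib.AschPrime.tensor_dims e
    have := Nat.mul_le_mul_left d hdm.le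
    have hd3 : d ≤ 3 := by nlinarith
    exfalso
    interval_cases d <;> omega
  · have hdim := CfsgLib.AschPrime.wreath_dims e
    have ht4 : t < 4 := by
      by_contra hc
      have h1 := Nat.pow_le_pow_left hd t
      have h2 := Nat.pow_le_pow_right (show 0 < 2 by norm_num) (not_lt.1 hc)
      omega
    obtain ⟨rfl, rfl⟩ : d = 2 ∧ t = 2 := by
      have hd4 : d ≤ 3 := by
        by_contra hc
        have h1 := Nat.pow_le_pow_left (show 4 ≤ d by omega) t
        have h2 := Nat.pow_le_pow_right (show 0 < 4 by norm_num) ht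
        omega
      interval_cases t <;> interval_cases d <;> first | exact ⟨rfl, rfl⟩ | norm_num at hdim
    rcases CfsgLib.AschPrime.wreath_two_branch (by norm_num) hH ht hle with h | h
    · exact .inr (.inr (.inr (.inr (.inr (.inr (.inl (h)))))))
    · exact .inr (.inr (.inr (.inr (.inr (.inr (.inr (.inl (h))))))))
  · exact .inr (.inr (.inr (.inr (.inl (h)))))
  · have hm0 : m ≠ 0 := by rintro rfl; norm_num at hrm
    have hmf := hp.pos
    have hr' : r.Prime := hR.symplecticType.prime
    have := hr'.pow_minFac hm0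
    rw [hrm] at this
    norm_num at this
    subst this
    have hp1 : p % 4 = 1 := by omega
    exact .inr (.inr (.inr (.inr (.inr (.inl (⟨p, R, hp, hq, hp1, hR, hH'⟩))))))
  · exact .inr (.inr (.inr (.inr (.inr (.inr (.inl (h)))))))
  · exact .inr (.inr (.inr (.inr (.inr (.inr (.inr (.inl (h))))))))
  · exact .inr (.inr (.inr (.inr (.inr (.inr (.inr (.inr (.inl (h)))))))))
  · exact .inr (.inr (.inr (.inr (.inr (.inr (.inr (.inr (.inr ((h))))))))))

end Cfsg.Agent.S5781
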