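import Cfsg.Statements.S5784
import Cfsg.Agent.Lib.AschU.List
import Cfsg.Agent.Lib.AschU.SUFourFrame
import Cfsg.Agent.Lib.AschU.SUFourHalves

set_option autoImplicit false
open Cfsg

namespace Cfsg.Agent.S5784

/-- Every maximal subgroup of SU_4(q) is of one of the listed geometric types or lies in the residual class. Let F be the field with q² elements, f the standard unitary form Σ u_i v_i^q on F^4, and H a maximal subgroup of SU_4(q) (inside GL_4(F)). Then H is the intersection with SU_4(q) of one of: the stabiliser of a non-zero subspace on which f vanishes; the stabiliser of a non-degenerate 1-space; for q ≠ 3, the stabiliser of a decomposition into four mutually orthogonal non-degenerate 1-spaces; for q ≥ 3, of a decomposition into two orthogonal non-degenerate 2-spaces; for q ≥ 4, of a decomposition into two totally isotropic 2-spaces; a subfield group of odd prime index whose F₀-structure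 carries f; a subfield group of index 2 whose F₀-structure carries ζ f, vanishing on pairs (u, u), for some non-zero ζ with ζ + ζ^q = 0; for q odd, a subfield group of index 2 whose F₀-structure carries f; for q = p ≡ 3 mod 4 prime, the normaliser of an absolutely irreducible symplectic-type 2-group of exponent 4, order 64 and centre of order 4 inside the similarity group of f — or else H lies in the residual class of the unitary case. -/
theorem result {F : Type*} [Field F] [Fintype F] (q : ℕ) (hF : Fintype.card F = q ^ 2) (H : Subgroup (Matrix.GeneralLinearGroup (Fin 4) F)) (hH : Cfsg.Geo.IsMaximalIn (Cfsg.GU 4 F q ⊓ Cfsg.Geo.specialLinear (Fin 4) F) H) :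
    (∃ W : Submodule F (Fin 4 → F), W ≠ ⊥ ∧ Cfsg.Geo.IsTotallySingularFor (Cfsg.hermForm 4 F q) W ∧ H = Cfsg.Geo.subspaceStabilizer W ⊓ (Cfsg.GU 4 F q ⊓ Cfsg.Geo.specialLinear (Fin 4) F)) ∨
    (∃ W : Submodule F (Fin 4 → F), W ≠ ⊥ ∧ Cfsg.Geo.IsNondegenerateOn (Cfsg.hermForm 4 F q) W ∧ 2 * Module.finrank F W < 4 ∧ H = Cfsg.Geo.subspaceStabilizer W ⊓ (Cfsg.GU 4 F q ⊓ Cfsg.Geo.specialLinear (Fin 4) F)) ∨
    (q ≠ 3 ∧ ∃ D : Fin 4 → Submodule F (Fin 4 → F), Cfsg.Geo.IsNondegenerateMDecomposition (Cfsg.hermForm 4 F q) 1 D ∧ H = Cfsg.Geo.decompositionStabilizer D ⊓ (Cfsg.GU 4 F q ⊓ Cfsg.Geo.specialLinear (Fin 4) F)) ∨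
    (3 ≤ q ∧ ∃ D : Fin 2 → Submodule F (Fin 4 → F), Cfsg.Geo.IsNondegenerateMDecomposition (Cfsg.hermForm 4 F q) 2 D ∧ H = Cfsg.Geo.decompositionStabilizer D ⊓ (Cfsg.GU 4 F q ⊓ Cfsg.Geo.specialLinear (Fin 4) F)) ∨
    (4 ≤ q ∧ ∃ D : Fin 2 → Submodule F (Fin 4 → F), Cfsg.Geo.IsMDecomposition 2 D ∧ (∀ i, Cfsg.Geo.IsTotallySingularFor (Cfsg.hermForm 4 F q) (D i)) ∧ H = Cfsg.Geo.decompositionStabilizer D ⊓ (Cfsg.GU 4 F q ⊓ Cfsg.Geo.specialLinear (Fin 4) F)) ∨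
    (∃ (F₀ : Subfield F) (r : ℕ) (P : Matrix.GeneralLinearGroup (Fin 4) F), r.Prime ∧ Odd r ∧ Fintype.card F = Nat.card F₀ ^ r ∧ Cfsg.Geo.IsFormRationalStructure (Cfsg.hermForm 4 F q) F₀ 1 P ∧ H = Cfsg.Geo.subfieldSubgroup F₀ P ⊓ (Cfsg.GU 4 F q ⊓ Cfsg.Geo.specialLinear (Fin 4) F)) ∨
    (∃ (F₀ : Subfield F) (P : Matrix.GeneralLinearGroup (Fin 4) F) (ζ : F), Fintype.card F = Nat.card F₀ ^ 2 ∧ ζ ≠ 0 ∧ ζ + ζ ^ q = 0 ∧ Cfsg.Geo.IsFormRationalStructure (Cfsg.hermForm 4 F q) F₀ ζ P ∧ (∀ u : Fin 4 → F, (∀ i, u i ∈ F₀) → (Cfsg.hermForm 4 F q) (Matrix.mulVec (P : Matrix (Fin 4) (Fin 4) F) u) (Matrix.mulVec (P : Matrix (Fin 4) (Fin 4) F) u) = 0) ∧ H = Cfsg.Geo.subfieldSubgroup F₀ P ⊓ (Cfsg.GU 4 F q ⊓ Cfsg.Geo.specialLinear (Fin 4) F)) ∨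
    (Odd q ∧ ∃ (F₀ : Subfield F) (P : Matrix.GeneralLinearGroup (Fin 4) F), Fintype.card F = Nat.card F₀ ^ 2 ∧ Cfsg.Geo.IsFormRationalStructure (Cfsg.hermForm 4 F q) F₀ 1 P ∧ H = Cfsg.Geo.subfieldSubgroup F₀ P ⊓ (Cfsg.GU 4 F q ⊓ Cfsg.Geo.specialLinear (Fin 4) F)) ∨
    (∃ (p : ℕ) (R : Subgroup (Matrix.GeneralLinearGroup (Fin 4) F)), p.Prime ∧ q = p ∧ p % 4 = 3 ∧ Cfsg.Geo.IsSymplecticTypeGroup 2 R ∧ Cfsg.Geo.ActsAbsolutelyIrreducibly (Cfsg.Geo.matrixSet R) ∧ R ≤ Cfsg.Geo.similarityGroup (Cfsg.hermForm 4 F q) ∧ Nat.card R = 64 ∧ Nat.card (Subgroup.center R) = 4 ∧ H = Cfsg.Geo.subgroupNormalizer R ⊓ (Cfsg.GU 4 F q ⊓ Cfsg.Geo.specialLinear (Fin 4) F)) ∨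
    Cfsg.Geo.InUnitaryResidualClass H := by
  have hq3 : ∀ {k : ℕ}, ¬ (k = 2 ∧ q = 2) → k = 2 → 3 ≤ q := fun h hk => by
    have := CfsgLib.AschU.one_lt_q hF
    have : q ≠ 2 := fun e => h ⟨hk, e⟩
    omega
  have hframe : ∀ {t : ℕ} {D : Fin t → Submodule F (Fin 4 → F)}, Cfsg.Geo.IsNondegenerateMDecomposition (Cfsg.hermForm 4 F q) 1 D → H = Cfsg.Geo.decompositionStabilizer D ⊓ (Cfsg.GU 4 F q ⊓ Cfsg.Geo.specialLinear (Fin 4) F) → q ≠ 3 :=
    fun hD hX e => CfsgLib.AschU.SUFour.false_of_frame hF e hH hD (hX.le.trans inf_le_left)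
  rcases CfsgLib.AschU.shape_or_residual (n := 4) hF (by norm_num) (by norm_num) (by norm_num) hH with h | h
  swap
  · exact Or.inr (Or.inr (Or.inr (Or.inr (Or.inr (Or.inr (Or.inr (Or.inr (Or.inr (h)))))))))
  cases h with
  | ts W h0 hW hX => exact Or.inl (⟨W, h0, hW, hX⟩)
  | nd W h0 hW h2 hX => exact Or.inr (Or.inl (⟨W, h0, hW, h2, hX⟩))
  | decomp t k D hD htk hex hX =>
    have ht := hD.decomp.two_le
    have hk := hD.decomp.pos
    obtain ⟨rfl, rfl⟩ | ⟨rfl, rfl⟩ : (t = 4 ∧ k = 1) ∨ (t = 2 ∧ k = 2) := by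
      have hkn : k ≤ 4 := by nlinarith
      interval_cases k <;> omega
    · exact Or.inr (Or.inr (Or.inl (⟨hframe hD hX, D, hD, hX⟩)))
    · exact Or.inr (Or.inr (Or.inr (Or.inl (⟨hq3 hex rfl, D, hD, hX⟩))))
  | halves k D hk hD hT hX =>
    obtain rfl : k = 2 := by omega
    by_cases hq4 : 4 ≤ q
    · exact Or.inr (Or.inr (Or.inr (Or.inr (Or.inl (⟨hq4, D, hD, hT, hX⟩)))))
    · have := CfsgLib.AschU.one_lt_q hF
      obtain ⟨F₀, P, ζ, hc, h0, hζ, hP, halt, hle'⟩ := CfsgLib.AschU.SUFourHalves.exists_subfield_of_halves hF (by omega) hH.1.le hD hT (hX.le.trans inf_le_left)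
      refine Or.inr (Or.inr (Or.inr (Or.inr (Or.inr (Or.inr (Or.inl (⟨F₀, P, ζ, hc, h0, hζ, hP, halt, ?_⟩)))))))
      rcases hH.2 (Cfsg.Geo.subfieldSubgroup F₀ P ⊓ _) (le_inf hle' hH.1.le) inf_le_right with h | h
      · exact h.symm
      · exact absurd (h.ge.trans inf_le_left) (CfsgLib.AschU.not_le_subfield hF (by norm_num) (CfsgLib.AschU.subfield_ne_top le_rfl hc) P)
  | subfieldOdd F₀ r P hr hr2 hc hP hX => exact Or.inr (Or.inr (Or.inr (Or.inr (Or.inr (Or.inl (⟨F₀, r, P, hr, hr2, hc, hP, hX⟩))))))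
  | subfieldOrth F₀ P hq hc hP hX => exact Or.inr (Or.inr (Or.inr (Or.inr (Or.inr (Or.inr (Or.inr (Or.inl (⟨hq, F₀, P, hc, hP, hX⟩))))))))
  | subfieldSymp F₀ P ζ he hc h0 hζ hP halt hX => exact Or.inr (Or.inr (Or.inr (Or.inr (Or.inr (Or.inr (Or.inl (⟨F₀, P, ζ, hc, h0, hζ, hP, halt, hX⟩)))))))
  | sympType r p e k R hR habs hsim hrp hmin hcases hnk hX =>
    obtain ⟨hrn, hrle, hkn⟩ := CfsgLib.AschU.pow_facts hR.prime hnk (by norm_num)
    have hr2 := hR.prime.two_le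
    obtain ⟨rfl, rfl⟩ : r = 2 ∧ k = 2 := by
      have hrp' := hR.prime
      interval_cases r <;> interval_cases k <;> revert hrp' hnk <;> norm_num
    rcases hcases with ⟨ho, -⟩ | ⟨-, rfl, hZ, hcard⟩
    · exact absurd ho (by decide)
    rw [hZ] at hmin
    obtain ⟨hqp, hp4⟩ := CfsgLib.AschU.prime_field_of_two hF hrp hmin
    exact Or.inr (Or.inr (Or.inr (Or.inr (Or.inr (Or.inr (Or.inr (Or.inr (Or.inl (⟨p, R, hmin.1, hqp, hp4, hR, habs, hsim, hcard, hZ, hX⟩)))))))))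
  | field r K hr hr2 hrn hK hA hX =>
    exfalso
    have := Nat.le_of_dvd (by norm_num) hrn
    have := hr.two_le
    interval_cases r <;> revert hr hr2 hrn <;> decide
  | tensor n₁ n₂ e P f₁ f₂ h1 h12 hn hex hf₁ hf₂ hT hX =>
    have hn2 : n₁ ≤ 4 := by nlinarith
    interval_cases n₁ <;> omega
  | wreath e P f₁ hq hn hf₁ hT hX => exact absurd hn (by norm_num)


end Cfsg.Agent.S5784
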