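import Cfsg.Statements.S5787
import Cfsg.Agent.Lib.AschSp.SpFourUnitary
import Cfsg.Agent.Lib.AschSp.Lists

set_option autoImplicit false
open Cfsg

namespace Cfsg.Agent.S5787

/-- Every maximal subgroup of Sp_4(q), q odd, is of one of the listed geometric types or lies in the residual class. Let F be a finite field of odd order q, f the standard alternating form on F^4 (coordinates Fin 2 ⊕ Fin 2), and H a maximal subgroup of the isometry group Sp_4(F) (inside GL_4(F)). Then H is the intersection with Sp_4(F) of one of: the stabiliser of a non-zero totally isotropic subspace; the stabiliser of a decomposition into two orthogonal non-degenerate 2-spaces; for q ≥ 5, of a decomposition into two totally isotropic 2-spaces; the normaliser of a degree-2 subfield K of the matrix algebra, self-adjoint with f(k v, v) = 0; for q ≥ 5, the normaliser of a degree-2 subfield closed under adjoints but not self-adjoint;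 a subfield group whose F₀-structure carries a non-zero multiple of f, |F| = |F₀|^r with r prime; for q = p prime, the normaliser of an absolutely irreducible symplectic-type 2-group of exponent 4, order 32, centre of order 2 and minus type inside the similarity group of f — or else H lies in the residual class of the symplectic case. -/
theorem result {F : Type*} [Field F] [Fintype F] (hodd : Odd (Fintype.card F)) (H : Subgroup (Matrix.GeneralLinearGroup (Fin 2 ⊕ Fin 2) F)) (hH : Cfsg.Geo.IsMaximalIn (Cfsg.spGL 2 F) H) :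
    (∃ W : Submodule F (Fin 2 ⊕ Fin 2 → F), W ≠ ⊥ ∧ Cfsg.Geo.IsTotallySingularFor (Cfsg.sympForm 2 F) W ∧ H = Cfsg.Geo.subspaceStabilizer W ⊓ Cfsg.spGL 2 F) ∨
    (∃ D : Fin 2 → Submodule F (Fin 2 ⊕ Fin 2 → F), Cfsg.Geo.IsNondegenerateMDecomposition (Cfsg.sympForm 2 F) 2 D ∧ H = Cfsg.Geo.decompositionStabilizer D ⊓ Cfsg.spGL 2 F) ∨
    (5 ≤ Fintype.card F ∧ ∃ D : Fin 2 → Submodule F (Fin 2 ⊕ Fin 2 → F), Cfsg.Geo.IsMDecomposition 2 D ∧ (∀ i, Cfsg.Geo.IsTotallySingularFor (Cfsg.sympForm 2 F) (D i)) ∧ H = Cfsg.Geo.decompositionStabilizer D ⊓ Cfsg.spGL 2 F) ∨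
    (∃ K : Subalgebra F (Matrix (Fin 2 ⊕ Fin 2) (Fin 2 ⊕ Fin 2) F), Cfsg.Geo.IsFieldSubalgebra 2 K ∧ Cfsg.Geo.IsSelfAdjointFor (Cfsg.sympForm 2 F) K ∧ (∀ k ∈ K, ∀ v : (Fin 2 ⊕ Fin 2 → F), (Cfsg.sympForm 2 F) (Matrix.mulVec k v) v = 0) ∧ H = Cfsg.Geo.subalgebraNormalizer K ⊓ Cfsg.spGL 2 F) ∨
    (5 ≤ Fintype.card F ∧ ∃ K : Subalgebra F (Matrix (Fin 2 ⊕ Fin 2) (Fin 2 ⊕ Fin 2) F), Cfsg.Geo.IsFieldSubalgebra 2 K ∧ Cfsg.Geo.IsAdjointClosedFor (Cfsg.sympForm 2 F) K ∧ ¬ Cfsg.Geo.IsSelfAdjointFor (Cfsg.sympForm 2 F) K ∧ H = Cfsg.Geo.subalgebraNormalizer K ⊓ Cfsg.spGL 2 F) ∨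
    (∃ (F₀ : Subfield F) (r : ℕ) (P : Matrix.GeneralLinearGroup (Fin 2 ⊕ Fin 2) F) (ζ : F), r.Prime ∧ Fintype.card F = Nat.card F₀ ^ r ∧ ζ ≠ 0 ∧ Cfsg.Geo.IsFormRationalStructure (Cfsg.sympForm 2 F) F₀ ζ P ∧ H = Cfsg.Geo.subfieldSubgroup F₀ P ⊓ Cfsg.spGL 2 F) ∨
    (∃ (p : ℕ) (R : Subgroup (Matrix.GeneralLinearGroup (Fin 2 ⊕ Fin 2) F)), p.Prime ∧ Fintype.card F = p ∧ Cfsg.Geo.IsSymplecticTypeGroup 2 R ∧ Cfsg.Geo.ActsAbsolutelyIrreducibly (Cfsg.Geo.matrixSet R) ∧ R ≤ Cfsg.Geo.similarityGroup (Cfsg.sympForm 2 F) ∧ Nat.card R = 32 ∧ Nat.card (Subgroup.center R) = 2 ∧ Cfsg.Geo.IsOfMinusType 2 R ∧ H = Cfsg.Geo.subgroupNormalizer R ⊓ Cfsg.spGL 2 F) ∨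
    Cfsg.Geo.InSymplecticResidualClass H := by
  have hle := hH.1.le
  have hne : ¬ ¬ Odd (Fintype.card F) := not_not_intro hodd
  have h2 : (2 : F) ≠ 0 := CfsgLib.AschSp.two_ne_zero_of_odd hodd
  have hq5 : ¬ 5 ≤ Fintype.card F → Fintype.card F = 3 := fun h => by
    have := Fintype.one_lt_card (α := F); obtain ⟨a, ha⟩ := hodd; omega
  rcases CfsgLib.AschSp.case_all (by omega) hle with
    ⟨W, h0, hts, h⟩ | ⟨W, h0, hnd, hdim, h⟩ | ⟨t, k, D, hD, h⟩ | ⟨D, -, hD, hts, h⟩ |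
    ⟨r, K, hr, hK, hsa, halt, h⟩ | ⟨K, -, hK, hac, hns, h⟩ | ⟨n₁, n₂, e, P, f₁, f₂, -, hn₂, hf₁, -, -, -⟩ |
    ⟨F₀, r, P, ζ, hr, hcard, hζ, hrat, h⟩ |
    ⟨R, p, k, hR, habs, hsim, hp, -, hF, hcard, hcent, hminus, hk, hpm, hsp, h⟩ |
    ⟨k, t, e, P, f₁, -, -, ht, -, hf₁, -, -⟩ | ⟨Q, heven, -, -, -⟩ | hres
  · refine Or.inl ⟨W, h0, hts, CfsgLib.AschSp.eq_inf hH h (CfsgLib.AschSp.not_le_subspace h0 fun hW => ?_)⟩
    have := CfsgLib.AschSp.finrank_ts_le hts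
    rw [hW, finrank_top, Module.finrank_pi, Fintype.card_sum, Fintype.card_fin] at this
    omega
  · obtain ⟨a, ha⟩ := CfsgLib.AschSp.even_finrank_of_nondeg hnd
    exact absurd (Submodule.finrank_eq_zero.1 (by omega : Module.finrank F W = 0)) h0
  · obtain ⟨htk, ⟨a, rfl⟩, ht, hk⟩ := CfsgLib.AschSp.decomp_arith hD
    obtain rfl : a = 1 := by nlinarith
    obtain rfl : t = 2 := by omega
    exact Or.inr <| Or.inl ⟨D, hD, CfsgLib.AschSp.eq_inf hH h (CfsgLib.AschSp.not_le_decomposition hD.decomp hk)⟩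
  · by_cases hq : 5 ≤ Fintype.card F
    · exact Or.inr <| Or.inr <| Or.inl ⟨hq, D, hD, hts,
        CfsgLib.AschSp.eq_inf hH h (CfsgLib.AschSp.not_le_decomposition hD le_rfl)⟩
    · obtain ⟨k, D', hD', hst⟩ := CfsgLib.AschSp.decomp_of_tsPair (hq5 hq) hD hts
      obtain ⟨htk, -, -, hk⟩ := CfsgLib.AschSp.decomp_arith hD'
      obtain rfl : k = 2 := by omega
      exact Or.inr <| Or.inl ⟨D', hD', CfsgLib.AschSp.eq_inf hH (le_trans (le_inf h hle) hst)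
        (CfsgLib.AschSp.not_le_decomposition hD'.decomp hk)⟩
  · have hdvd := CfsgLib.AschSp.field_dvd (by omega) hK hsa halt
    obtain rfl : r = 2 := (Nat.prime_dvd_prime_iff_eq hr Nat.prime_two).1 hdvd
    exact Or.inr <| Or.inr <| Or.inr <| Or.inl ⟨K, hK, hsa, halt,
      CfsgLib.AschSp.eq_inf hH h (CfsgLib.AschSp.not_le_field le_rfl le_rfl hK)⟩
  · by_cases hq : 5 ≤ Fintype.card F
    · exact Or.inr <| Or.inr <| Or.inr <| Or.inr <| Or.inl ⟨hq, K, hK, hac, hns,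
        CfsgLib.AschSp.eq_inf hH h (CfsgLib.AschSp.not_le_field le_rfl le_rfl hK)⟩
    · obtain ⟨R, hR, habs, hsim, hcard, hcent, hminus, hHR, hnot⟩ :=
        CfsgLib.AschSp.symp_of_unitary (hq5 hq) hle hK hac hns h
      exact Or.inr <| Or.inr <| Or.inr <| Or.inr <| Or.inr <| Or.inr <| Or.inl
        ⟨3, R, Nat.prime_three, hq5 hq, hR, habs, hsim, by rw [hcard]; norm_num, hcent, hminus,
          CfsgLib.AschSp.eq_inf hH hHR hnot⟩
  · exfalso
    obtain ⟨hn, -, hn1⟩ := CfsgLib.AschSp.tensor_arith e (by omega) hf₁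
    nlinarith
  · exact Or.inr <| Or.inr <| Or.inr <| Or.inr <| Or.inr <| Or.inl ⟨F₀, r, P, ζ, hr, hcard, hζ, hrat,
      CfsgLib.AschSp.eq_inf hH h (CfsgLib.AschSp.not_le_subfield le_rfl hr hcard P)⟩
  · obtain rfl : k = 2 := Nat.pow_right_injective le_rfl (by simpa using hk)
    exact Or.inr <| Or.inr <| Or.inr <| Or.inr <| Or.inr <| Or.inr <| Or.inl
      ⟨p, R, hp, hF, hR, habs, hsim, by rw [hcard]; norm_num, hcent, hminus,
        CfsgLib.AschSp.eq_inf hH h (CfsgLib.AschSp.not_le_normalizer le_rfl h2 hsp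
          (CfsgLib.Aschbacher.alg_top_of_absIrred habs) hpm)⟩
  · exfalso
    obtain ⟨hkt, -, hk⟩ := CfsgLib.AschSp.wreath_arith e (by omega) ht hf₁
    have h1 : k ^ 3 ≤ k ^ t := Nat.pow_le_pow_right (by omega) ht
    have := Nat.pow_le_pow_left hk 3
    omega
  · exact absurd heven hne
  · exact Or.inr <| Or.inr <| Or.inr <| Or.inr <| Or.inr <| Or.inr <| Or.inr hres

end Cfsg.Agent.S5787
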