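import Cfsg.Statements.S5790
import Cfsg.Agent.Lib.AschSp.Lists

set_option autoImplicit false
open Cfsg

namespace Cfsg.Agent.S5790

/-- Every maximal subgroup of Sp_4(q), q ≥ 4 even, is of one of the listed geometric types or lies in the residual class. Let F be a finite field of even order q ≥ 4, f the standard alternating form on F^4 (coordinates Fin 2 ⊕ Fin 2), and H a maximal subgroup of Sp_4(F) (inside GL_4(F)). Then H is the intersection with Sp_4(F) of one of: the stabiliser of a non-zero totally isotropic subspace; the stabiliser of a decomposition into two orthogonal non-degenerate 2-spaces; the normaliser of a degree-2 subfield K of the matrix algebra, self-adjoint with f(k v, v) = 0; a subfield group whose F₀-structure carries a non-zero multiple of f, |F| = |F₀|^r with r prime; the similarity group of a non-degenerate quadratic form whose polar form is f — or else H lies in the residual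 class of the symplectic case. -/
theorem result {F : Type*} [Field F] [Fintype F] (heven : ¬ Odd (Fintype.card F)) (h4 : 4 ≤ Fintype.card F) (H : Subgroup (Matrix.GeneralLinearGroup (Fin 2 ⊕ Fin 2) F)) (hH : Cfsg.Geo.IsMaximalIn (Cfsg.spGL 2 F) H) :
    (∃ W : Submodule F (Fin 2 ⊕ Fin 2 → F), W ≠ ⊥ ∧ Cfsg.Geo.IsTotallySingularFor (Cfsg.sympForm 2 F) W ∧ H = Cfsg.Geo.subspaceStabilizer W ⊓ Cfsg.spGL 2 F) ∨
    (∃ D : Fin 2 → Submodule F (Fin 2 ⊕ Fin 2 → F), Cfsg.Geo.IsNondegenerateMDecomposition (Cfsg.sympForm 2 F) 2 D ∧ H = Cfsg.Geo.decompositionStabilizer D ⊓ Cfsg.spGL 2 F) ∨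
    (∃ K : Subalgebra F (Matrix (Fin 2 ⊕ Fin 2) (Fin 2 ⊕ Fin 2) F), Cfsg.Geo.IsFieldSubalgebra 2 K ∧ Cfsg.Geo.IsSelfAdjointFor (Cfsg.sympForm 2 F) K ∧ (∀ k ∈ K, ∀ v : (Fin 2 ⊕ Fin 2 → F), (Cfsg.sympForm 2 F) (Matrix.mulVec k v) v = 0) ∧ H = Cfsg.Geo.subalgebraNormalizer K ⊓ Cfsg.spGL 2 F) ∨
    (∃ (F₀ : Subfield F) (r : ℕ) (P : Matrix.GeneralLinearGroup (Fin 2 ⊕ Fin 2) F) (ζ : F), r.Prime ∧ Fintype.card F = Nat.card F₀ ^ r ∧ ζ ≠ 0 ∧ Cfsg.Geo.IsFormRationalStructure (Cfsg.sympForm 2 F) F₀ ζ P ∧ H = Cfsg.Geo.subfieldSubgroup F₀ P ⊓ Cfsg.spGL 2 F) ∨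
    (∃ Q : (Fin 2 ⊕ Fin 2 → F) → F, Cfsg.Geo.IsNondegenerateQuadraticForm Q ∧ (∀ u v : (Fin 2 ⊕ Fin 2 → F), QuadraticMap.polar Q u v = (Cfsg.sympForm 2 F) u v) ∧ H = Cfsg.Geo.quadSimilarityGroup Q ⊓ Cfsg.spGL 2 F) ∨
    Cfsg.Geo.InSymplecticResidualClass H := by
  have hle := hH.1.le
  rcases CfsgLib.AschSp.case_all (by omega) hle with
    ⟨W, h0, hts, h⟩ | ⟨W, h0, hnd, hdim, h⟩ | ⟨t, k, D, hD, h⟩ | ⟨D, hodd, -, -, -⟩ |
    ⟨r, K, hr, hK, hsa, halt, h⟩ | ⟨K, hodd, -, -, -, -⟩ | ⟨n₁, n₂, e, P, f₁, f₂, hodd, -, -, -, -, -⟩ |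
    ⟨F₀, r, P, ζ, hr, hcard, hζ, hrat, h⟩ | ⟨R, p, k, -, -, -, -, hodd, hF, -, -, -, -, -, -, -⟩ |
    ⟨k, t, e, P, f₁, hodd, -, -, -, -, -, -⟩ | ⟨Q, -, hQ, hpol, h⟩ | hres
  · refine Or.inl ⟨W, h0, hts, CfsgLib.AschSp.eq_inf hH h (CfsgLib.AschSp.not_le_subspace h0 fun hW => ?_)⟩
    have := CfsgLib.AschSp.finrank_ts_le hts
    rw [hW, finrank_top, Module.finrank_pi, Fintype.card_sum, Fintype.card_fin] at this
    omega
  · obtain ⟨a, ha⟩ := CfsgLib.AschSp.even_finrank_of_nondeg hnd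
    exact absurd (Submodule.finrank_eq_zero.1 (by omega : Module.finrank F W = 0)) h0
  · obtain ⟨htk, ⟨a, rfl⟩, ht, hk⟩ := CfsgLib.AschSp.decomp_arith hD
    obtain rfl : a = 1 := by nlinarith
    obtain rfl : t = 2 := by omega
    exact Or.inr <| Or.inl ⟨D, hD, CfsgLib.AschSp.eq_inf hH h (CfsgLib.AschSp.not_le_decomposition hD.decomp hk)⟩
  · exact absurd hodd heven
  · have := CfsgLib.AschSp.field_dvd (by omega) hK hsa halt
    obtain rfl : r = 2 := (Nat.prime_dvd_prime_iff_eq hr Nat.prime_two).1 this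
    exact Or.inr <| Or.inr <| Or.inl ⟨K, hK, hsa, halt,
      CfsgLib.AschSp.eq_inf hH h (CfsgLib.AschSp.not_le_field le_rfl le_rfl hK)⟩
  · exact absurd hodd heven
  · exact absurd hodd heven
  · exact Or.inr <| Or.inr <| Or.inr <| Or.inl ⟨F₀, r, P, ζ, hr, hcard, hζ, hrat,
      CfsgLib.AschSp.eq_inf hH h (CfsgLib.AschSp.not_le_subfield le_rfl hr hcard P)⟩
  · exact absurd (hF ▸ hodd) heven
  · exact absurd hodd heven
  · exact Or.inr <| Or.inr <| Or.inr <| Or.inr <| Or.inl ⟨Q, hQ, hpol,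
      CfsgLib.AschSp.eq_inf hH h (CfsgLib.AschSp.not_le_quad le_rfl hQ hpol)⟩
  · exact Or.inr <| Or.inr <| Or.inr <| Or.inr <| Or.inr hres

end Cfsg.Agent.S5790
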