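import Cfsg.Statements.S5796
import Cfsg.Agent.Lib.AschU.List
import Cfsg.Agent.Lib.AschU.SUFive

set_option autoImplicit false
open Cfsg

namespace Cfsg.Agent.S5796

/-- Every maximal subgroup of SU_5(q) is of one of the listed geometric types or lies in the residual class. Let F be the field with q² elements (characteristic p), f the standard unitary form Σ u_i v_i^q on F^5, and H a maximal subgroup of SU_5(q) (inside GL_5(F)). Then H is the intersection with SU_5(q) of one of: the stabiliser of a non-zero totally isotropic subspace; the stabiliser of a non-degenerate 1-space or 2-space; the stabiliser of a decomposition into five mutually orthogonal non-degenerate 1-spaces; for q ≥ 3, the normaliser of an adjoint-closed degree-5 subfield of the matrix algebra; a subfield group of odd prime index whose F₀-structure carries f; for q odd, a subfield group of index 2 whose F₀-structure carries f; for q = p ≡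 4 mod 5 or q = p² with p ≡ 2, 3 mod 5, the normaliser of an absolutely irreducible 5-group of exponent 5, order 125 and centre of order 5 with all characteristic abelian subgroups cyclic inside the similarity group of f — or else H lies in the residual class of the unitary case. -/
theorem result {F : Type*} [Field F] [Fintype F] (q : ℕ) (hF : Fintype.card F = q ^ 2) (H : Subgroup (Matrix.GeneralLinearGroup (Fin 5) F)) (hH : Cfsg.Geo.IsMaximalIn (Cfsg.GU 5 F q ⊓ Cfsg.Geo.specialLinear (Fin 5) F) H) :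
    (∃ W : Submodule F (Fin 5 → F), W ≠ ⊥ ∧ Cfsg.Geo.IsTotallySingularFor (Cfsg.hermForm 5 F q) W ∧ H = Cfsg.Geo.subspaceStabilizer W ⊓ (Cfsg.GU 5 F q ⊓ Cfsg.Geo.specialLinear (Fin 5) F)) ∨
    (∃ W : Submodule F (Fin 5 → F), W ≠ ⊥ ∧ Cfsg.Geo.IsNondegenerateOn (Cfsg.hermForm 5 F q) W ∧ 2 * Module.finrank F W < 5 ∧ H = Cfsg.Geo.subspaceStabilizer W ⊓ (Cfsg.GU 5 F q ⊓ Cfsg.Geo.specialLinear (Fin 5) F)) ∨
    (∃ D : Fin 5 → Submodule F (Fin 5 → F), Cfsg.Geo.IsNondegenerateMDecomposition (Cfsg.hermForm 5 F q) 1 D ∧ H = Cfsg.Geo.decompositionStabilizer D ⊓ (Cfsg.GU 5 F q ⊓ Cfsg.Geo.specialLinear (Fin 5) F)) ∨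
    (3 ≤ q ∧ ∃ K : Subalgebra F (Matrix (Fin 5) (Fin 5) F), Cfsg.Geo.IsFieldSubalgebra 5 K ∧ Cfsg.Geo.IsAdjointClosedFor (Cfsg.hermForm 5 F q) K ∧ H = Cfsg.Geo.subalgebraNormalizer K ⊓ (Cfsg.GU 5 F q ⊓ Cfsg.Geo.specialLinear (Fin 5) F)) ∨
    (∃ (F₀ : Subfield F) (r : ℕ) (P : Matrix.GeneralLinearGroup (Fin 5) F), r.Prime ∧ Odd r ∧ Fintype.card F = Nat.card F₀ ^ r ∧ Cfsg.Geo.IsFormRationalStructure (Cfsg.hermForm 5 F q) F₀ 1 P ∧ H = Cfsg.Geo.subfieldSubgroup F₀ P ⊓ (Cfsg.GU 5 F q ⊓ Cfsg.Geo.specialLinear (Fin 5) F)) ∨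
    (Odd q ∧ ∃ (F₀ : Subfield F) (P : Matrix.GeneralLinearGroup (Fin 5) F), Fintype.card F = Nat.card F₀ ^ 2 ∧ Cfsg.Geo.IsFormRationalStructure (Cfsg.hermForm 5 F q) F₀ 1 P ∧ H = Cfsg.Geo.subfieldSubgroup F₀ P ⊓ (Cfsg.GU 5 F q ⊓ Cfsg.Geo.specialLinear (Fin 5) F)) ∨
    (∃ (p : ℕ) (R : Subgroup (Matrix.GeneralLinearGroup (Fin 5) F)), p.Prime ∧ CharP F p ∧ ((q = p ∧ p % 5 = 4) ∨ (q = p ^ 2 ∧ (p % 5 = 2 ∨ p % 5 = 3))) ∧ Cfsg.Geo.IsSymplecticTypeGroup 5 R ∧ Cfsg.Geo.ActsAbsolutelyIrreducibly (Cfsg.Geo.matrixSet R) ∧ R ≤ Cfsg.Geo.similarityGroup (Cfsg.hermForm 5 F q) ∧ Nat.card R = 125 ∧ Nat.card (Subgroup.center R) = 5 ∧ H = Cfsg.Geo.subgroupNormalizer R ⊓ (Cfsg.GU 5 F q ⊓ Cfsg.Geo.specialLinear (Fin 5) F)) ∨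
    Cfsg.Geo.InUnitaryResidualClass H := by
  have hq3 : ∀ {k : ℕ}, ¬ (k = 2 ∧ q = 2) → k = 2 → 3 ≤ q := fun h hk => by
    have := CfsgLib.AschU.one_lt_q hF
    have : q ≠ 2 := fun e => h ⟨hk, e⟩
    omega
  rcases CfsgLib.AschU.shape_or_residual (n := 5) hF (by norm_num) (by norm_num) (by norm_num) hH with h | h
  swap
  · exact Or.inr (Or.inr (Or.inr (Or.inr (Or.inr (Or.inr (Or.inr (h)))))))
  cases h with
  | ts W h0 hW hX => exact Or.inl (⟨W, h0, hW, hX⟩)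
  | nd W h0 hW h2 hX => exact Or.inr (Or.inl (⟨W, h0, hW, h2, hX⟩))
  | decomp t k D hD htk hex hX =>
    have ht := hD.decomp.two_le
    have hk := hD.decomp.pos
    obtain ⟨rfl, rfl⟩ : (t = 5 ∧ k = 1) := by
      have hkn : k ≤ 5 := by nlinarith
      interval_cases k <;> omega
    · exact Or.inr (Or.inr (Or.inl (⟨D, hD, hX⟩)))
  | halves k D hk hD hT hX => omega
  | subfieldOdd F₀ r P hr hr2 hc hP hX => exact Or.inr (Or.inr (Or.inr (Or.inr (Or.inl (⟨F₀, r, P, hr, hr2, hc, hP, hX⟩)))))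
  | subfieldOrth F₀ P hq hc hP hX => exact Or.inr (Or.inr (Or.inr (Or.inr (Or.inr (Or.inl (⟨hq, F₀, P, hc, hP, hX⟩))))))
  | subfieldSymp F₀ P ζ he hc h0 hζ hP halt hX => exact absurd he (by decide)
  | sympType r p e k R hR habs hsim hrp hmin hcases hnk hX =>
    obtain ⟨hrn, hrle, hkn⟩ := CfsgLib.AschU.pow_facts hR.prime hnk (by norm_num)
    have hr2 := hR.prime.two_le
    obtain ⟨rfl, rfl⟩ : r = 5 ∧ k = 1 := by
      have hrp' := hR.prime
      interval_cases r <;> interval_cases k <;> revert hrp' hnk <;> norm_num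
    rcases hcases with ⟨-, hZ, -, hcard⟩ | ⟨h2, -⟩
    swap
    · omega
    rw [hZ] at hmin
    obtain ⟨a, ha, hqa, hale, hlt, hone, hno⟩ := CfsgLib.AschU.exists_odd_degree hF (by norm_num) hrp hmin
    have hpa : (q = p ∧ p % 5 = 4) ∨ (q = p ^ 2 ∧ (p % 5 = 2 ∨ p % 5 = 3)) := by
      have key : ∀ a < 3, ∀ m < 5, 0 < a → m ^ (2 * a) % 5 = 1 → (∀ d < 4, 0 < d → d < 2 * a → m ^ d % 5 ≠ 1) →
          (a = 1 ∧ m = 4) ∨ (a = 2 ∧ (m = 2 ∨ m = 3)) := by set_option synthInstance.maxSize 5000 in decide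
      rcases key a (by omega) _ hlt ha hone (fun d _ => hno d) with ⟨rfl, h⟩ | ⟨rfl, h⟩
      · exact Or.inl ⟨by rw [hqa, pow_one], h⟩
      · exact Or.inr ⟨hqa, h⟩
    exact Or.inr (Or.inr (Or.inr (Or.inr (Or.inr (Or.inr (Or.inl (⟨p, R, hmin.1, hmin.2.1, hpa, hR, habs, hsim, hcard, hZ, hX⟩)))))))
  | field r K hr hr2 hrn hK hA hX =>
    obtain rfl : r = 5 := by
      have := Nat.le_of_dvd (by norm_num) hrn
      have := hr.two_le
      interval_cases r <;> revert hr hr2 hrn <;> decide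
    have hq3' : 3 ≤ q := by
      by_contra hlt
      have := CfsgLib.AschU.one_lt_q hF
      exact CfsgLib.AschU.SUFive.false_of_field hF (by omega) hH hK hA (hX.le.trans inf_le_left)
    exact Or.inr (Or.inr (Or.inr (Or.inl (⟨hq3', K, hK, hA, hX⟩))))
  | tensor n₁ n₂ e P f₁ f₂ h1 h12 hn hex hf₁ hf₂ hT hX =>
    have hn2 : n₁ ≤ 5 := by nlinarith
    interval_cases n₁ <;> omega
  | wreath e P f₁ hq hn hf₁ hT hX => exact absurd hn (by norm_num)


end Cfsg.Agent.S5796
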