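import Cfsg.Statements.S5799
import Cfsg.Agent.Lib.Aschbacher.SLBranches

set_option autoImplicit false
open Cfsg

namespace Cfsg.Agent.S5799

/-- Every maximal subgroup of SL_6(q) is of one of the listed geometric types or lies in the residual class. Let F be a finite field with q elements (p its characteristic) and H a maximal subgroup of SL_6(F) (inside GL_6(F)). Then H is the intersection with SL_6(F) of one of: the stabiliser of a proper non-zero subspace; for q ≥ 5, the stabiliser of a decomposition into 6 independent 1-spaces; for q ≥ 3, the stabiliser of a decomposition into 3 independent 2-spaces; the stabiliser of a decomposition into 2 independent 3-spaces; the normaliser of a degree-2 subfield of the matrix algebra; the normaliser of a degree-3 subfield of the matrix algebra; for q ≥ 3, the stabiliser of a tensor decomposition F^2 ⊗ F^3; a subfield group for a subfield F₀ with |F| = |F₀|^r, r prime; for q odd, the similarity group of a non-degenerate quadratic form; the similarity group of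 a non-degenerate symplectic form; the similarity group of a non-degenerate unitary form — or else H lies in the residual class of the linear case (modulo scalars H is almost simple, with absolutely irreducible perfect socle preimage realisable over no proper subfield and fixing no non-degenerate quadratic, symplectic or unitary form). -/
theorem result {F : Type*} [Field F] [Fintype F] (H : Subgroup (Matrix.GeneralLinearGroup (Fin 6) F)) (hH : Cfsg.Geo.IsMaximalIn (Cfsg.Geo.specialLinear (Fin 6) F) H) :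
    (∃ W : Submodule F (Fin 6 → F), W ≠ ⊥ ∧ W ≠ ⊤ ∧ H = Cfsg.Geo.subspaceStabilizer W ⊓ Cfsg.Geo.specialLinear (Fin 6) F) ∨
    (5 ≤ Fintype.card F ∧ ∃ D : Fin 6 → Submodule F (Fin 6 → F), Cfsg.Geo.IsMDecomposition 1 D ∧ H = Cfsg.Geo.decompositionStabilizer D ⊓ Cfsg.Geo.specialLinear (Fin 6) F) ∨
    (3 ≤ Fintype.card F ∧ ∃ D : Fin 3 → Submodule F (Fin 6 → F), Cfsg.Geo.IsMDecomposition 2 D ∧ H = Cfsg.Geo.decompositionStabilizer D ⊓ Cfsg.Geo.specialLinear (Fin 6) F) ∨
    (∃ D : Fin 2 → Submodule F (Fin 6 → F), Cfsg.Geo.IsMDecomposition 3 D ∧ H = Cfsg.Geo.decompositionStabilizer D ⊓ Cfsg.Geo.specialLinear (Fin 6) F) ∨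
    (∃ K : Subalgebra F (Matrix (Fin 6) (Fin 6) F), Cfsg.Geo.IsFieldSubalgebra 2 K ∧ H = Cfsg.Geo.subalgebraNormalizer K ⊓ Cfsg.Geo.specialLinear (Fin 6) F) ∨
    (∃ K : Subalgebra F (Matrix (Fin 6) (Fin 6) F), Cfsg.Geo.IsFieldSubalgebra 3 K ∧ H = Cfsg.Geo.subalgebraNormalizer K ⊓ Cfsg.Geo.specialLinear (Fin 6) F) ∨
    (3 ≤ Fintype.card F ∧ ∃ (e : Fin 6 ≃ Fin 2 × Fin 3) (P : Matrix.GeneralLinearGroup (Fin 6) F), H = Cfsg.Geo.tensorProductSubgroup 2 3 e P ⊓ Cfsg.Geo.specialLinear (Fin 6) F) ∨
    (∃ (F₀ : Subfield F) (r : ℕ) (P : Matrix.GeneralLinearGroup (Fin 6) F), r.Prime ∧ Fintype.card F = Nat.card F₀ ^ r ∧ H = Cfsg.Geo.subfieldSubgroup F₀ P ⊓ Cfsg.Geo.specialLinear (Fin 6) F) ∨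
    (Odd (Fintype.card F) ∧ ∃ Q : (Fin 6 → F) → F, Cfsg.Geo.IsNondegenerateQuadraticForm Q ∧ H = Cfsg.Geo.quadSimilarityGroup Q ⊓ Cfsg.Geo.specialLinear (Fin 6) F) ∨
    (∃ f : (Fin 6 → F) → (Fin 6 → F) → F, Cfsg.Geo.IsSymplecticForm f ∧ H = Cfsg.Geo.similarityGroup f ⊓ Cfsg.Geo.specialLinear (Fin 6) F) ∨
    (∃ (σ : F ≃+* F) (f : (Fin 6 → F) → (Fin 6 → F) → F), Cfsg.Geo.IsUnitaryForm σ f ∧ H = Cfsg.Geo.similarityGroup f ⊓ Cfsg.Geo.specialLinear (Fin 6) F) ∨
    Cfsg.Geo.InLinearResidualClass H := by
  rcases CfsgLib.AschPrime.maximal_sl_general (by norm_num) (fun r m hr h => by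
      have hm : m ≠ 0 := by rintro rfl; norm_num at h
      have := hr.pow_minFac hm
      rw [h] at this
      norm_num at this
      omega) H hH with
    h | ⟨t, m, D, htm, hD, hirr, hle⟩ | ⟨r, K, hr, hrn, hK, hH'⟩ | ⟨d, m, e, P, hd, hdm, hle⟩ |
    ⟨d, t, e, P, hd, ht, hle⟩ | h | ⟨r, m, p, R, hrm, hp, hq, hcase, hR, hH'⟩ | h | h | h | h
  · exact .inl (h)
  · have h2t := hD.two_le
    have h1m := hD.pos
    obtain rfl | rfl | rfl : m = 1 ∨ m = 2 ∨ m = 3 := by
      have := Nat.mul_le_mul_right m h2t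
      have : m ≤ 6 := by omega
      interval_cases m <;> omega
    · obtain rfl : t = 6 := by omega
      rcases CfsgLib.AschPrime.lines_branch (by norm_num) hH hirr hD hle with h | h | h
      · exact .inr (.inl (h))
      · exact .inr (.inr (.inr (.inr (.inr (.inr (.inr (.inr (.inl (h)))))))))
      · exact .inr (.inr (.inr (.inr (.inr (.inr (.inr (.inr (.inr (.inr (.inl (h)))))))))))
    · obtain rfl : t = 3 := by omega
      rcases CfsgLib.AschPrime.planes_branch (by norm_num) hH hD hle with h | h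
      · exact .inr (.inr (.inl (h)))
      · exact .inr (.inr (.inr (.inr (.inr (.inr (.inr (.inr (.inr (.inl (h))))))))))
    · obtain rfl : t = 2 := by omega
      exact .inr (.inr (.inr (.inl ((CfsgLib.AschPrime.decomposition_eq (by norm_num) hH hD hle)))))
  · obtain rfl | rfl : r = 2 ∨ r = 3 := by
      have := Nat.le_of_dvd (by norm_num) hrn
      have := hr.two_le
      interval_cases r <;> first | omega | norm_num at hr
    · exact .inr (.inr (.inr (.inr (.inl (⟨K, hK, hH'⟩)))))
    · exact .inr (.inr (.inr (.inr (.inr (.inl (⟨K, hK, hH'⟩))))))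
  · have hdim := CfsgLib.AschPrime.tensor_dims e
    have := Nat.mul_le_mul_left d hdm.le
    have hd3 : d ≤ 3 := by nlinarith
    obtain ⟨rfl, rfl⟩ : (d = 2 ∧ m = 3) := by
      interval_cases d <;> omega
    · rcases CfsgLib.AschPrime.tensor_two_branch hH hdm hle with h | h
      · exact .inr (.inr (.inr (.inr (.inr (.inr (.inl (h)))))))
      · exact .inr (.inr (.inr (.inr (.inl (h)))))
  · have hdim := CfsgLib.AschPrime.wreath_dims e
    have ht4 : t < 4 := by
      by_contra hc
      have h1 := Nat.pow_le_pow_left hd t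
      have h2 := Nat.pow_le_pow_right (show 0 < 2 by norm_num) (not_lt.1 hc)
      omega
    exfalso
    have hd4 : d ≤ 3 := by
      by_contra hc
      have h1 := Nat.pow_le_pow_left (show 4 ≤ d by omega) t
      have h2 := Nat.pow_le_pow_right (show 0 < 4 by norm_num) ht
      omega
    interval_cases t <;> interval_cases d <;> norm_num at hdim
  · exact .inr (.inr (.inr (.inr (.inr (.inr (.inr (.inl (h))))))))
  · have hm0 : m ≠ 0 := by rintro rfl; norm_num at hrm
    have hmf := hp.pos
    have hr' : r.Prime := hR.symplecticType.prime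
    have := hr'.pow_minFac hm0
    rw [hrm] at this
    norm_num at this
    subst this
    exfalso
    have hm5 : m < 5 := by
      by_contra hc
      have h2 := Nat.pow_le_pow_right (show 0 < 2 by norm_num) (not_lt.1 hc)
      omega
    interval_cases m <;> omega
  · exact .inr (.inr (.inr (.inr (.inr (.inr (.inr (.inr (.inl (h)))))))))
  · exact .inr (.inr (.inr (.inr (.inr (.inr (.inr (.inr (.inr (.inl (h))))))))))
  · exact .inr (.inr (.inr (.inr (.inr (.inr (.inr (.inr (.inr (.inr (.inl (h)))))))))))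
  · exact .inr (.inr (.inr (.inr (.inr (.inr (.inr (.inr (.inr (.inr (.inr ((h))))))))))))

end Cfsg.Agent.S5799
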