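import Cfsg.Statements.S5804
import Cfsg.Agent.Lib.MaxSub.SpAll
import Cfsg.Agent.Lib.MaxSub.SpExtMatrix
import Cfsg.Agent.Lib.MaxSub.SpPolarThree
import Cfsg.Agent.Lib.MaxSub.SpUnitThreeMax
import Cfsg.Agent.Lib.MaxSub.SpSubThree
import Cfsg.Agent.Lib.MaxSub.TensorSpThree

set_option autoImplicit false
open Cfsg

namespace Cfsg.Agent.S5804

/-- Maximal subgroups of Sp_6(q) of geometric type (any q). Let F be a finite field with q elements, f the standard alternating form on F^6 (coordinates Fin 3 ⊕ Fin 3) and Sp_6(F) its isometry group inside GL_6(F). Each of the following, intersected with Sp_6(F), is a maximal subgroup of Sp_6(F): (1) the stabiliser of any non-zero totally isotropic subspace (dimensions 1, 2, 3); (2) the stabiliser of any non-degenerate 2-space; (3) for q ≥ 3, the stabiliser of any decomposition of F^6 into three mutually orthogonal non-degenerate 2-spaces; (4) for q odd, the stabiliser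 of any decomposition into two totally isotropic 3-spaces; (5) the normaliser of any degree-3 subfield K of the matrix algebra whose elements are self-adjoint for f with f(k v, v) = 0 (f is the trace of an alternating form over K); (6) for q odd, the normaliser of any degree-2 subfield of the matrix algebra that is closed under adjoints but not self-adjoint (f is the trace of a multiple of a unitary form over K); (7) for q odd with q ≥ 5, the stabiliser of any tensor decomposition of f as (alternating form on F^2) ⊗ (non-degenerate symmetric bilinear form on F^3) up to a scalar; (8) every subfield group for a subfield F₀ with |F| = |F₀|^r, r prime, whose F₀-structure carries a non-zero scalar multiple of f; (9) for q even, the similarity group of any non-degenerate quadratic form whose polar form is f (either Witt type); its intersection with Sp_6(F) is the orthogonal group of that form. -/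
theorem result {F : Type*} [Field F] [Fintype F] :
    (∀ W : Submodule F (Fin 3 ⊕ Fin 3 → F), W ≠ ⊥ → Cfsg.Geo.IsTotallySingularFor (Cfsg.sympForm 3 F) W → Cfsg.Geo.IsMaximalIn (Cfsg.spGL 3 F) (Cfsg.Geo.subspaceStabilizer W ⊓ Cfsg.spGL 3 F)) ∧
    (∀ W : Submodule F (Fin 3 ⊕ Fin 3 → F), W ≠ ⊥ → Cfsg.Geo.IsNondegenerateOn (Cfsg.sympForm 3 F) W → Module.finrank F W < 3 → Cfsg.Geo.IsMaximalIn (Cfsg.spGL 3 F) (Cfsg.Geo.subspaceStabilizer W ⊓ Cfsg.spGL 3 F)) ∧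
    (3 ≤ Fintype.card F → ∀ D : Fin 3 → Submodule F (Fin 3 ⊕ Fin 3 → F), Cfsg.Geo.IsNondegenerateMDecomposition (Cfsg.sympForm 3 F) 2 D → Cfsg.Geo.IsMaximalIn (Cfsg.spGL 3 F) (Cfsg.Geo.decompositionStabilizer D ⊓ Cfsg.spGL 3 F)) ∧
    (Odd (Fintype.card F) → ∀ D : Fin 2 → Submodule F (Fin 3 ⊕ Fin 3 → F), Cfsg.Geo.IsMDecomposition 3 D → (∀ i, Cfsg.Geo.IsTotallySingularFor (Cfsg.sympForm 3 F) (D i)) → Cfsg.Geo.IsMaximalIn (Cfsg.spGL 3 F) (Cfsg.Geo.decompositionStabilizer D ⊓ Cfsg.spGL 3 F)) ∧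
    (∀ K : Subalgebra F (Matrix (Fin 3 ⊕ Fin 3) (Fin 3 ⊕ Fin 3) F), Cfsg.Geo.IsFieldSubalgebra 3 K → Cfsg.Geo.IsSelfAdjointFor (Cfsg.sympForm 3 F) K → (∀ k ∈ K, ∀ v : (Fin 3 ⊕ Fin 3 → F), (Cfsg.sympForm 3 F) (Matrix.mulVec k v) v = 0) → Cfsg.Geo.IsMaximalIn (Cfsg.spGL 3 F) (Cfsg.Geo.subalgebraNormalizer K ⊓ Cfsg.spGL 3 F)) ∧
    (Odd (Fintype.card F) → ∀ K : Subalgebra F (Matrix (Fin 3 ⊕ Fin 3) (Fin 3 ⊕ Fin 3) F), Cfsg.Geo.IsFieldSubalgebra 2 K → Cfsg.Geo.IsAdjointClosedFor (Cfsg.sympForm 3 F) K → ¬ Cfsg.Geo.IsSelfAdjointFor (Cfsg.sympForm 3 F) K → Cfsg.Geo.IsMaximalIn (Cfsg.spGL 3 F) (Cfsg.Geo.subalgebraNormalizer K ⊓ Cfsg.spGL 3 F)) ∧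
    (Odd (Fintype.card F) → 5 ≤ Fintype.card F → ∀ (e : (Fin 3 ⊕ Fin 3) ≃ Fin 2 × Fin 3) (P : Matrix.GeneralLinearGroup (Fin 3 ⊕ Fin 3) F) (f₁ : (Fin 2 → F) → (Fin 2 → F) → F) (f₂ : (Fin 3 → F) → (Fin 3 → F) → F), Cfsg.Geo.IsSymplecticForm f₁ → Cfsg.Geo.IsSymmetricForm f₂ → Cfsg.Geo.IsTensorFormStructure id (Cfsg.sympForm 3 F) f₁ f₂ e P → Cfsg.Geo.IsMaximalIn (Cfsg.spGL 3 F) (Cfsg.Geo.tensorProductSubgroup 2 3 e P ⊓ Cfsg.spGL 3 F)) ∧
    (∀ (F₀ : Subfield F) (r : ℕ) (P : Matrix.GeneralLinearGroup (Fin 3 ⊕ Fin 3) F) (ζ : F), r.Prime → Fintype.card F = Nat.card F₀ ^ r → ζ ≠ 0 → Cfsg.Geo.IsFormRationalStructure (Cfsg.sympForm 3 F) F₀ ζ P → Cfsg.Geo.IsMaximalIn (Cfsg.spGL 3 F) (Cfsg.Geo.subfieldSubgroup F₀ P ⊓ Cfsg.spGL 3 F)) ∧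
    (¬ Odd (Fintype.card F) → ∀ Q : (Fin 3 ⊕ Fin 3 → F) → F, Cfsg.Geo.IsNondegenerateQuadraticForm Q → (∀ u v : (Fin 3 ⊕ Fin 3 → F), QuadraticMap.polar Q u v = (Cfsg.sympForm 3 F) u v) → Cfsg.Geo.IsMaximalIn (Cfsg.spGL 3 F) (Cfsg.Geo.quadSimilarityGroup Q ⊓ Cfsg.spGL 3 F)) := by
  exact ⟨fun W h0 hW => CfsgLib.MaxSub.SpAll.ti_stabilizer_maximal 3 W h0 hW,
    fun W h0 hW hd => CfsgLib.MaxSub.SpAll.nd_stabilizer_maximal 3 W h0 hW hd,
    fun hq D hD => CfsgLib.MaxSub.SpAll.decomposition_maximal 3 2 D hD (fun h => by omega),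
    fun ho D hD hts => CfsgLib.MaxSub.polar_maximal 3 le_rfl ho D hD hts,
    fun K hK hsa halt => CfsgLib.MaxSub.SpExt.extension_maximal' (r := 3) (by omega)
      (Or.inl le_rfl) (by norm_num) K hK hsa halt,
    fun ho K hK hac hn => CfsgLib.MaxSub.unitary_three_maximal ho K hK hac hn,
    fun ho hq e P f₁ f₂ hf₁ hf₂ hT => CfsgLib.MaxSub.TensorSp.tensor_sp_two_orth_three_maximal ho
      rfl rfl hq e P f₁ f₂ hf₁ hf₂ hT,
    fun F₀ r P ζ hr hc hζ hP => CfsgLib.MaxSub.sp_subfield_maximal_aux 3 rfl F₀ r hr hc P ζ hζ hP,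
    fun he Q hQ hp => CfsgLib.MaxSub.SpAll.quad_maximal 3 (by omega) he Q hQ hp⟩

end Cfsg.Agent.S5804
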