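import Cfsg.Statements.S5805
import Cfsg.Agent.Lib.AschSp.FrameThree

set_option autoImplicit false
open Cfsg

namespace Cfsg.Agent.S5805

/-- Every maximal subgroup of Sp_6(q) is of one of the listed geometric types or lies in the residual class. Let F be a finite field with q elements, f the standard alternating form on F^6 (coordinates Fin 3 ⊕ Fin 3), and H a maximal subgroup of Sp_6(F) (inside GL_6(F)). Then H is the intersection with Sp_6(F) of one of: the stabiliser of a non-zero totally isotropic subspace; the stabiliser of a non-degenerate 2-space; for q ≥ 3, the stabiliser of a decomposition into three mutually orthogonal non-degenerate 2-spaces; for q odd, of a decomposition into two totally isotropic 3-spaces; the normaliser of a degree-3 subfield K of the matrix algebra, self-adjoint with f(k v, v) = 0; for q odd, the normaliser of a degree-2 subfield closed under adjoints but not self-adjoint;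 for q odd, q ≥ 5, the stabiliser of a tensor decomposition of f into an alternating form on F^2 and a symmetric form on F^3; a subfield group (|F| = |F₀|^r, r prime) whose F₀-structure carries a non-zero multiple of f; for q even, the similarity group of a non-degenerate quadratic form polarising to f — or else H lies in the residual class of the symplectic case. -/
theorem result {F : Type*} [Field F] [Fintype F] (H : Subgroup (Matrix.GeneralLinearGroup (Fin 3 ⊕ Fin 3) F)) (hH : Cfsg.Geo.IsMaximalIn (Cfsg.spGL 3 F) H) :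
    (∃ W : Submodule F (Fin 3 ⊕ Fin 3 → F), W ≠ ⊥ ∧ Cfsg.Geo.IsTotallySingularFor (Cfsg.sympForm 3 F) W ∧ H = Cfsg.Geo.subspaceStabilizer W ⊓ Cfsg.spGL 3 F) ∨
    (∃ W : Submodule F (Fin 3 ⊕ Fin 3 → F), W ≠ ⊥ ∧ Cfsg.Geo.IsNondegenerateOn (Cfsg.sympForm 3 F) W ∧ Module.finrank F W < 3 ∧ H = Cfsg.Geo.subspaceStabilizer W ⊓ Cfsg.spGL 3 F) ∨
    (3 ≤ Fintype.card F ∧ ∃ D : Fin 3 → Submodule F (Fin 3 ⊕ Fin 3 → F), Cfsg.Geo.IsNondegenerateMDecomposition (Cfsg.sympForm 3 F) 2 D ∧ H = Cfsg.Geo.decompositionStabilizer D ⊓ Cfsg.spGL 3 F) ∨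
    (Odd (Fintype.card F) ∧ ∃ D : Fin 2 → Submodule F (Fin 3 ⊕ Fin 3 → F), Cfsg.Geo.IsMDecomposition 3 D ∧ (∀ i, Cfsg.Geo.IsTotallySingularFor (Cfsg.sympForm 3 F) (D i)) ∧ H = Cfsg.Geo.decompositionStabilizer D ⊓ Cfsg.spGL 3 F) ∨
    (∃ K : Subalgebra F (Matrix (Fin 3 ⊕ Fin 3) (Fin 3 ⊕ Fin 3) F), Cfsg.Geo.IsFieldSubalgebra 3 K ∧ Cfsg.Geo.IsSelfAdjointFor (Cfsg.sympForm 3 F) K ∧ (∀ k ∈ K, ∀ v : (Fin 3 ⊕ Fin 3 → F), (Cfsg.sympForm 3 F) (Matrix.mulVec k v) v = 0) ∧ H = Cfsg.Geo.subalgebraNormalizer K ⊓ Cfsg.spGL 3 F) ∨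
    (Odd (Fintype.card F) ∧ ∃ K : Subalgebra F (Matrix (Fin 3 ⊕ Fin 3) (Fin 3 ⊕ Fin 3) F), Cfsg.Geo.IsFieldSubalgebra 2 K ∧ Cfsg.Geo.IsAdjointClosedFor (Cfsg.sympForm 3 F) K ∧ ¬ Cfsg.Geo.IsSelfAdjointFor (Cfsg.sympForm 3 F) K ∧ H = Cfsg.Geo.subalgebraNormalizer K ⊓ Cfsg.spGL 3 F) ∨
    (Odd (Fintype.card F) ∧ 5 ≤ Fintype.card F ∧ ∃ (e : (Fin 3 ⊕ Fin 3) ≃ Fin 2 × Fin 3) (P : Matrix.GeneralLinearGroup (Fin 3 ⊕ Fin 3) F) (f₁ : (Fin 2 → F) → (Fin 2 → F) → F) (f₂ : (Fin 3 → F) → (Fin 3 → F) → F), Cfsg.Geo.IsSymplecticForm f₁ ∧ Cfsg.Geo.IsSymmetricForm f₂ ∧ Cfsg.Geo.IsTensorFormStructure id (Cfsg.sympForm 3 F) f₁ f₂ e P ∧ H = Cfsg.Geo.tensorProductSubgroup 2 3 e P ⊓ Cfsg.spGL 3 F) ∨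
    (∃ (F₀ : Subfield F) (r : ℕ) (P : Matrix.GeneralLinearGroup (Fin 3 ⊕ Fin 3) F) (ζ : F), r.Prime ∧ Fintype.card F = Nat.card F₀ ^ r ∧ ζ ≠ 0 ∧ Cfsg.Geo.IsFormRationalStructure (Cfsg.sympForm 3 F) F₀ ζ P ∧ H = Cfsg.Geo.subfieldSubgroup F₀ P ⊓ Cfsg.spGL 3 F) ∨
    (¬ Odd (Fintype.card F) ∧ ∃ Q : (Fin 3 ⊕ Fin 3 → F) → F, Cfsg.Geo.IsNondegenerateQuadraticForm Q ∧ (∀ u v : (Fin 3 ⊕ Fin 3 → F), QuadraticMap.polar Q u v = (Cfsg.sympForm 3 F) u v) ∧ H = Cfsg.Geo.quadSimilarityGroup Q ⊓ Cfsg.spGL 3 F) ∨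
    Cfsg.Geo.InSymplecticResidualClass H := by
  have hle := hH.1.le
  have hodd3 : Odd (Fintype.card F) → 3 ≤ Fintype.card F := fun ⟨a, ha⟩ => by
    have := Fintype.one_lt_card (α := F); omega
  have hq2 : ¬ 3 ≤ Fintype.card F → Fintype.card F = 2 := fun h => by
    have := Fintype.one_lt_card (α := F); omega
  have hq5 : Odd (Fintype.card F) → ¬ 5 ≤ Fintype.card F → Fintype.card F = 3 := fun ⟨a, ha⟩ h => by
    have := Fintype.one_lt_card (α := F); omega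
  rcases CfsgLib.AschSp.case_all (by omega) hle with
    ⟨W, h0, hts, h⟩ | ⟨W, h0, hnd, hdim, h⟩ | ⟨t, k, D, hD, h⟩ | ⟨D, hodd, hD, hts, h⟩ |
    ⟨r, K, hr, hK, hsa, halt, h⟩ | ⟨K, hodd, hK, hac, hns, h⟩ |
    ⟨n₁, n₂, e, P, f₁, f₂, hodd, hn₂, hf₁, hf₂, hfs, h⟩ |
    ⟨F₀, r, P, ζ, hr, hcard, hζ, hrat, h⟩ | ⟨R, p, k, -, -, -, -, -, -, -, -, -, hk, -, -, -⟩ |
    ⟨k, t, e, P, f₁, -, -, ht, -, hf₁, -, -⟩ | ⟨Q, heven, hQ, hpol, h⟩ | hres
  · refine Or.inl ⟨W, h0, hts, CfsgLib.AschSp.eq_inf hH h (CfsgLib.AschSp.not_le_subspace h0 fun hW => ?_)⟩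
    have := CfsgLib.AschSp.finrank_ts_le hts
    rw [hW, finrank_top, Module.finrank_pi, Fintype.card_sum, Fintype.card_fin] at this
    omega
  · refine Or.inr <| Or.inl ⟨W, h0, hnd, hdim,
      CfsgLib.AschSp.eq_inf hH h (CfsgLib.AschSp.not_le_subspace h0 fun hW => ?_)⟩
    rw [hW, finrank_top, Module.finrank_pi, Fintype.card_sum, Fintype.card_fin] at hdim
    omega
  · obtain ⟨htk, hk2, ht, hk⟩ := CfsgLib.AschSp.decomp_arith hD
    have hcases : (t = 3 ∧ k = 2) := by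
      have hk' : k ≤ 3 := by nlinarith
      obtain ⟨a, rfl⟩ := hk2
      have ha : a ≤ 1 := by omega
      interval_cases a <;> omega
    rcases hcases with ⟨rfl, rfl⟩
    · by_cases hq : 3 ≤ Fintype.card F
      · exact Or.inr <| Or.inr <| Or.inl ⟨hq, D, hD, CfsgLib.AschSp.eq_inf hH h (CfsgLib.AschSp.not_le_decomposition hD.decomp hk)⟩
      · exact Or.inr <| Or.inr <| Or.inr <| Or.inr <| Or.inr <| Or.inr <| Or.inr <| Or.inr <| Or.inl (CfsgLib.AschSp.quad_of_decomp_two (by omega) hH (hq2 hq) hD h)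
  · exact Or.inr <| Or.inr <| Or.inr <| Or.inl ⟨hodd, D, hD, hts, CfsgLib.AschSp.eq_inf hH h (CfsgLib.AschSp.not_le_decomposition hD (by omega))⟩
  · have hdvd := CfsgLib.AschSp.field_dvd (by omega) hK hsa halt
    have hr' := Nat.le_of_dvd (by omega) hdvd
    interval_cases r
    all_goals first
      | (norm_num at hr; done)
      | omega
      | exact Or.inr <| Or.inr <| Or.inr <| Or.inr <| Or.inl ⟨K, hK, hsa, halt, CfsgLib.AschSp.eq_inf hH h (CfsgLib.AschSp.not_le_field (by omega) (by omega) hK)⟩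
  · exact Or.inr <| Or.inr <| Or.inr <| Or.inr <| Or.inr <| Or.inl ⟨hodd, K, hK, hac, hns, CfsgLib.AschSp.eq_inf hH h (CfsgLib.AschSp.not_le_field (by omega) le_rfl hK)⟩
  · obtain ⟨hn, hn2, hn1⟩ := CfsgLib.AschSp.tensor_arith e (by omega) hf₁
    have hcases : (n₁ = 2 ∧ n₂ = 3) := by
      obtain ⟨a, rfl⟩ := hn2
      have : a ≤ 1 := by nlinarith
      interval_cases a <;> omega
    rcases hcases with ⟨rfl, rfl⟩
    · by_cases hq : 5 ≤ Fintype.card F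
      · exact Or.inr <| Or.inr <| Or.inr <| Or.inr <| Or.inr <| Or.inr <| Or.inl ⟨hodd, hq, e, P, f₁, f₂, hf₁, hf₂, hfs, CfsgLib.AschSp.eq_inf hH h (CfsgLib.AschSp.not_le_tensor (by omega) (by omega) (by omega) e P)⟩
      · obtain ⟨D, hD, hst⟩ := CfsgLib.AschSp.decomp_of_tensor_three (by omega) (hq5 hodd hq) e P hf₁ hf₂ hfs
        have hDH := CfsgLib.AschSp.eq_inf hH (le_trans (le_inf h hle) hst) (CfsgLib.AschSp.not_le_decomposition hD.decomp (by omega))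
        exact Or.inr <| Or.inr <| Or.inl ⟨hodd3 hodd, D, hD, hDH⟩
  · exact Or.inr <| Or.inr <| Or.inr <| Or.inr <| Or.inr <| Or.inr <| Or.inr <| Or.inl ⟨F₀, r, P, ζ, hr, hcard, hζ, hrat, CfsgLib.AschSp.eq_inf hH h (CfsgLib.AschSp.not_le_subfield (by omega) hr hcard P)⟩
  · exfalso
    have : k < 5 := (Nat.pow_lt_pow_iff_right (a := 2) (by norm_num)).1 (by omega)
    interval_cases k <;> simp at hk
  · exfalso
    obtain ⟨hkt, hk2, hk⟩ := CfsgLib.AschSp.wreath_arith e (by omega) ht hf₁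
    have h1 : k ^ 3 ≤ k ^ t := Nat.pow_le_pow_right (by omega) ht
    have h2 : k < 3 := by
      by_contra h'
      have := Nat.pow_le_pow_left (show 3 ≤ k by omega) 3
      omega
    obtain rfl : k = 2 := by omega
    have : t < 5 := (Nat.pow_lt_pow_iff_right (a := 2) (by norm_num)).1 (by omega)
    interval_cases t <;> omega
  · exact Or.inr <| Or.inr <| Or.inr <| Or.inr <| Or.inr <| Or.inr <| Or.inr <| Or.inr <| Or.inl ⟨heven, Q, hQ, hpol, CfsgLib.AschSp.eq_inf hH h (CfsgLib.AschSp.not_le_quad (by omega) hQ hpol)⟩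
  · exact Or.inr <| Or.inr <| Or.inr <| Or.inr <| Or.inr <| Or.inr <| Or.inr <| Or.inr <| Or.inr <| hres

end Cfsg.Agent.S5805
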