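import Cfsg.Statements.S5813
import Cfsg.Agent.Lib.MaxSub.OMonoMain
import Cfsg.Agent.Lib.MaxSub.OSevenNondeg
import Cfsg.Agent.Lib.MaxSub.RatOmega
import Cfsg.Agent.Lib.Classical.StdQuad

set_option autoImplicit false
open Cfsg CfsgLib.Geom

namespace Cfsg.Agent.S5813

/-- Maximal subgroups of Ω_7(q) of geometric type, q odd. Let F be a finite field of odd order q, Q the standard quadratic form x₀² + Σ x_i y_i on F^7 (coordinates Unit ⊕ (Fin 3 ⊕ Fin 3)), and Ω = Ω_7(q) the commutator subgroup of its isometry group, inside GL_7(F). Each of the following, intersected with Ω, is a maximal subgroup of Ω: (1) the stabiliser of any non-zero subspace on which Q vanishes identically (totally singular 1-, 2- and 3-spaces); (2) the stabiliser of any non-zero even-dimensional subspace W on which the polar form of Q is non-degenerate (equivalently of its odd-dimensional orthogonal complement), except when q = 3 and W is a 2-space containing a non-zero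 singular vector (a plus-type plane); (3) for q = p prime, the stabiliser of any decomposition of F^7 into seven pairwise orthogonal, pairwise Q-isometric non-degenerate 1-spaces; (4) every subfield group for a subfield F₀ with |F| = |F₀|^r, r prime, whose F₀-structure carries Q. -/
theorem result {F : Type*} [Field F] [Fintype F] (hodd : Odd (Fintype.card F)) :
    (∀ W : Submodule F (Unit ⊕ (Fin 3 ⊕ Fin 3) → F), W ≠ ⊥ → Cfsg.Geo.IsTotallySingularQuad (Cfsg.quadFormOdd 3 F) W → Cfsg.Geo.IsMaximalIn (Cfsg.Geo.omegaGL (Cfsg.quadFormOdd 3 F)) (Cfsg.Geo.subspaceStabilizer W ⊓ Cfsg.Geo.omegaGL (Cfsg.quadFormOdd 3 F))) ∧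
    (∀ W : Submodule F (Unit ⊕ (Fin 3 ⊕ Fin 3) → F), W ≠ ⊥ → Even (Module.finrank F W) → Cfsg.Geo.IsNondegenerateOn (QuadraticMap.polar (Cfsg.quadFormOdd 3 F)) W → ¬ (Fintype.card F = 3 ∧ Module.finrank F W = 2 ∧ Cfsg.Geo.IsPlusTypeOn (Cfsg.quadFormOdd 3 F) W) → Cfsg.Geo.IsMaximalIn (Cfsg.Geo.omegaGL (Cfsg.quadFormOdd 3 F)) (Cfsg.Geo.subspaceStabilizer W ⊓ Cfsg.Geo.omegaGL (Cfsg.quadFormOdd 3 F))) ∧
    ((Fintype.card F).Prime → ∀ D : Fin 7 → Submodule F (Unit ⊕ (Fin 3 ⊕ Fin 3) → F), Cfsg.Geo.IsOrthogonalMDecomposition (Cfsg.quadFormOdd 3 F) 1 D → Cfsg.Geo.IsMaximalIn (Cfsg.Geo.omegaGL (Cfsg.quadFormOdd 3 F)) (Cfsg.Geo.decompositionStabilizer D ⊓ Cfsg.Geo.omegaGL (Cfsg.quadFormOdd 3 F))) ∧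
    (∀ (F₀ : Subfield F) (r : ℕ) (P : Matrix.GeneralLinearGroup (Unit ⊕ (Fin 3 ⊕ Fin 3)) F), r.Prime → Fintype.card F = Nat.card F₀ ^ r → Cfsg.Geo.IsQuadFormRationalStructure (Cfsg.quadFormOdd 3 F) F₀ P → Cfsg.Geo.IsMaximalIn (Cfsg.Geo.omegaGL (Cfsg.quadFormOdd 3 F)) (Cfsg.Geo.subfieldSubgroup F₀ P ⊓ Cfsg.Geo.omegaGL (Cfsg.quadFormOdd 3 F))) := by
  classical
  have h2 : (2 : F) ≠ 0 := CfsgLib.Classical.two_ne_zero_of_odd hodd
  have hf : ⇑(CfsgLib.Classical.qfOdd 3 F) = Cfsg.quadFormOdd 3 F := funext (CfsgLib.Classical.qfOdd_apply 3)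
  have hQ' := CfsgLib.Classical.qfOdd_sep (F := F) h2 3
  have hn : Module.finrank F (Unit ⊕ (Fin 3 ⊕ Fin 3) → F) = 7 := by
    rw [Module.finrank_fintype_fun_eq_card]; simp
  have hc : Fintype.card (Unit ⊕ (Fin 3 ⊕ Fin 3)) = 7 := by simp
  have hsm : ∀ (c : F) (v : Unit ⊕ (Fin 3 ⊕ Fin 3) → F),
      Cfsg.quadFormOdd 3 F (c • v) = c ^ 2 * Cfsg.quadFormOdd 3 F v := fun c v => by
    rw [← hf, quad_smul, sq]
  have h3 : 3 ≤ Fintype.card F := by
    have := Fintype.one_lt_card (α := F)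
    rcases hodd with ⟨k, hk⟩
    omega
  refine ⟨fun W hW0 hW => ?_, fun W hW0 hev hW hex => ?_, fun hp D hD => ?_, fun F₀ r P hr hcard hP => ?_⟩
  · have hW' : ∀ x ∈ W, CfsgLib.Classical.qfOdd 3 F x = 0 := fun x hx => (congrFun hf x).trans (hW x hx)
    refine omega_isMaximalIn (CfsgLib.Classical.qfOdd 3 F) hf W (OrthSub.parabolic_moved hQ' (by omega) hW' hW0)
      fun M hM => OrthSub.parabolic_maximal hQ' (by omega) hW' ?_ hM
    have hk := OrthSub.totallySingular_finrank hQ' hW'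
    by_cases h : 2 * Module.finrank F W + 3 ≤ 7
    · exact Or.inl (by omega)
    · refine Or.inr fun t ht hp => ?_
      by_contra htW
      obtain ⟨U, hU, hd⟩ := OrthSub.totallySingular_sup hW' ht hp htW
      have := OrthSub.totallySingular_finrank hQ' hU
      omega
  · have hW1 : W ≠ ⊤ := fun e => by
      rw [e, finrank_top, hn] at hev
      exact absurd hev (by decide)
    have hle := Submodule.finrank_le W
    have hWn : ∀ x ∈ W, (∀ y ∈ W, QuadraticMap.polar (CfsgLib.Classical.qfOdd 3 F) x y = 0) → x = 0 := fun x hx h => by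
      by_contra hne
      obtain ⟨y, hy, hxy⟩ := (hW x hx hne).2
      exact hxy (hf ▸ h y hy)
    by_cases h4 : Module.finrank F W = 4
    · exact CfsgLib.MaxSub.OSeven.nondeg_isMaximalIn_mid _ hf hQ' h2 hWn (by omega) (by omega) (by omega)
    · obtain ⟨k, hk⟩ := hev
      have hW0' : Module.finrank F W ≠ 0 := fun e => hW0 (Submodule.finrank_eq_zero.1 e)
      refine CfsgLib.MaxSub.OSeven.nondeg_isMaximalIn_five _ hf hQ' hWn hW0 hW1 (by omega) (by omega) ?_ (by omega)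
      rintro ⟨hq, hd, hz⟩
      rw [hf] at hz
      exact hex ⟨le_antisymm hq h3, hd, OrthSub.isPlusTypeOn_of_singular hsm hd hz⟩
  · exact CfsgLib.MaxSub.OMono.isMaximalIn_frame (CfsgLib.Classical.qfOdd 3 F) hf hp h2 (by omega)
      (by rw [hc]; decide) hD
  · refine CfsgLib.MaxSub.subfield_isMaximalIn_all (CfsgLib.Classical.qfOdd 3 F) hf hQ' F₀ r hr hcard
      (Or.inr (Or.inr (Or.inr (Or.inr ⟨Or.inl hc, h2⟩)))) P one_ne_zero ?_
    intro u hu
    simp only [one_mul]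
    exact hP u hu

end Cfsg.Agent.S5813
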