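import Cfsg.Statements.S5823
import Cfsg.Agent.Lib.AschSp.SpEight
import Cfsg.Agent.Lib.AschSp.Lists

set_option autoImplicit false
open Cfsg

namespace Cfsg.Agent.S5823

/-- Every maximal subgroup of Sp_8(q) is of one of the listed geometric types or lies in the residual class. Let F be a finite field with q elements, f the standard alternating form on F^8 (coordinates Fin 4 ⊕ Fin 4), and H a maximal subgroup of Sp_8(F) (inside GL_8(F)). Then H is the intersection with Sp_8(F) of one of: the stabiliser of a non-zero totally isotropic subspace; the stabiliser of a non-degenerate 2-space; for q ≥ 3, the stabiliser of a decomposition into four mutually orthogonal non-degenerate 2-spaces; of a decomposition into two orthogonal non-degenerate 4-spaces; for q odd, of a decomposition into two totally isotropic 4-spaces; the normaliser of a degree-2 subfield K, self-adjoint with f(k v, v) = 0; for q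 odd, the normaliser of a degree-2 subfield closed under adjoints but not self-adjoint; for q odd, the stabiliser of a tensor decomposition of f into an alternating form on F^2 and a minus-type symmetric form on F^4; a subfield group (|F| = |F₀|^r, r prime) whose F₀-structure carries a non-zero multiple of f; for q = p an odd prime, the normaliser of an absolutely irreducible extraspecial group 2_-^(1+6) of exponent 4 inside the similarity group of f; for q odd, q ≥ 5, the stabiliser of a tensor decomposition of f as a third tensor power of an alternating form on F^2; for q even, the similarity group of a non-degenerate quadratic form polarising to f — or else H lies in the residual class of the symplectic case. -/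
theorem result {F : Type*} [Field F] [Fintype F] (H : Subgroup (Matrix.GeneralLinearGroup (Fin 4 ⊕ Fin 4) F)) (hH : Cfsg.Geo.IsMaximalIn (Cfsg.spGL 4 F) H) :
    (∃ W : Submodule F (Fin 4 ⊕ Fin 4 → F), W ≠ ⊥ ∧ Cfsg.Geo.IsTotallySingularFor (Cfsg.sympForm 4 F) W ∧ H = Cfsg.Geo.subspaceStabilizer W ⊓ Cfsg.spGL 4 F) ∨
    (∃ W : Submodule F (Fin 4 ⊕ Fin 4 → F), W ≠ ⊥ ∧ Cfsg.Geo.IsNondegenerateOn (Cfsg.sympForm 4 F) W ∧ Module.finrank F W < 4 ∧ H = Cfsg.Geo.subspaceStabilizer W ⊓ Cfsg.spGL 4 F) ∨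
    (3 ≤ Fintype.card F ∧ ∃ D : Fin 4 → Submodule F (Fin 4 ⊕ Fin 4 → F), Cfsg.Geo.IsNondegenerateMDecomposition (Cfsg.sympForm 4 F) 2 D ∧ H = Cfsg.Geo.decompositionStabilizer D ⊓ Cfsg.spGL 4 F) ∨
    (∃ D : Fin 2 → Submodule F (Fin 4 ⊕ Fin 4 → F), Cfsg.Geo.IsNondegenerateMDecomposition (Cfsg.sympForm 4 F) 4 D ∧ H = Cfsg.Geo.decompositionStabilizer D ⊓ Cfsg.spGL 4 F) ∨
    (Odd (Fintype.card F) ∧ ∃ D : Fin 2 → Submodule F (Fin 4 ⊕ Fin 4 → F), Cfsg.Geo.IsMDecomposition 4 D ∧ (∀ i, Cfsg.Geo.IsTotallySingularFor (Cfsg.sympForm 4 F) (D i)) ∧ H = Cfsg.Geo.decompositionStabilizer D ⊓ Cfsg.spGL 4 F) ∨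
    (∃ K : Subalgebra F (Matrix (Fin 4 ⊕ Fin 4) (Fin 4 ⊕ Fin 4) F), Cfsg.Geo.IsFieldSubalgebra 2 K ∧ Cfsg.Geo.IsSelfAdjointFor (Cfsg.sympForm 4 F) K ∧ (∀ k ∈ K, ∀ v : (Fin 4 ⊕ Fin 4 → F), (Cfsg.sympForm 4 F) (Matrix.mulVec k v) v = 0) ∧ H = Cfsg.Geo.subalgebraNormalizer K ⊓ Cfsg.spGL 4 F) ∨
    (Odd (Fintype.card F) ∧ ∃ K : Subalgebra F (Matrix (Fin 4 ⊕ Fin 4) (Fin 4 ⊕ Fin 4) F), Cfsg.Geo.IsFieldSubalgebra 2 K ∧ Cfsg.Geo.IsAdjointClosedFor (Cfsg.sympForm 4 F) K ∧ ¬ Cfsg.Geo.IsSelfAdjointFor (Cfsg.sympForm 4 F) K ∧ H = Cfsg.Geo.subalgebraNormalizer K ⊓ Cfsg.spGL 4 F) ∨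
    (Odd (Fintype.card F) ∧ ∃ (e : (Fin 4 ⊕ Fin 4) ≃ Fin 2 × Fin 4) (P : Matrix.GeneralLinearGroup (Fin 4 ⊕ Fin 4) F) (f₁ : (Fin 2 → F) → (Fin 2 → F) → F) (f₂ : (Fin 4 → F) → (Fin 4 → F) → F), Cfsg.Geo.IsSymplecticForm f₁ ∧ Cfsg.Geo.IsSymmetricForm f₂ ∧ ¬ Cfsg.Geo.IsPlusTypeOn (fun v : Fin 4 → F => f₂ v v) ⊤ ∧ Cfsg.Geo.IsTensorFormStructure id (Cfsg.sympForm 4 F) f₁ f₂ e P ∧ H = Cfsg.Geo.tensorProductSubgroup 2 4 e P ⊓ Cfsg.spGL 4 F) ∨
    (∃ (F₀ : Subfield F) (r : ℕ) (P : Matrix.GeneralLinearGroup (Fin 4 ⊕ Fin 4) F) (ζ : F), r.Prime ∧ Fintype.card F = Nat.card F₀ ^ r ∧ ζ ≠ 0 ∧ Cfsg.Geo.IsFormRationalStructure (Cfsg.sympForm 4 F) F₀ ζ P ∧ H = Cfsg.Geo.subfieldSubgroup F₀ P ⊓ Cfsg.spGL 4 F) ∨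
    (∃ (p : ℕ) (R : Subgroup (Matrix.GeneralLinearGroup (Fin 4 ⊕ Fin 4) F)), p.Prime ∧ Odd p ∧ Fintype.card F = p ∧ Cfsg.Geo.IsSymplecticTypeGroup 2 R ∧ Cfsg.Geo.ActsAbsolutelyIrreducibly (Cfsg.Geo.matrixSet R) ∧ R ≤ Cfsg.Geo.similarityGroup (Cfsg.sympForm 4 F) ∧ Nat.card R = 128 ∧ Nat.card (Subgroup.center R) = 2 ∧ Cfsg.Geo.IsOfMinusType 3 R ∧ H = Cfsg.Geo.subgroupNormalizer R ⊓ Cfsg.spGL 4 F) ∨
    (Odd (Fintype.card F) ∧ 5 ≤ Fintype.card F ∧ ∃ (e : (Fin 4 ⊕ Fin 4) ≃ (Fin 3 → Fin 2)) (P : Matrix.GeneralLinearGroup (Fin 4 ⊕ Fin 4) F) (f₁ : (Fin 2 → F) → (Fin 2 → F) → F), Cfsg.Geo.IsSymplecticForm f₁ ∧ Cfsg.Geo.IsTensorPowerFormStructure id (Cfsg.sympForm 4 F) f₁ e P ∧ H = Cfsg.Geo.tensorWreathSubgroup 2 3 e P ⊓ Cfsg.spGL 4 F) ∨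
    (¬ Odd (Fintype.card F) ∧ ∃ Q : (Fin 4 ⊕ Fin 4 → F) → F, Cfsg.Geo.IsNondegenerateQuadraticForm Q ∧ (∀ u v : (Fin 4 ⊕ Fin 4 → F), QuadraticMap.polar Q u v = (Cfsg.sympForm 4 F) u v) ∧ H = Cfsg.Geo.quadSimilarityGroup Q ⊓ Cfsg.spGL 4 F) ∨
    Cfsg.Geo.InSymplecticResidualClass H := by
  have hle := hH.1.le
  have hq2 : ¬ 3 ≤ Fintype.card F → Fintype.card F = 2 := fun h => by
    have := Fintype.one_lt_card (α := F); omega
  have hq5 : Odd (Fintype.card F) → ¬ 5 ≤ Fintype.card F → Fintype.card F = 3 := fun ⟨a, ha⟩ h => by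
    have := Fintype.one_lt_card (α := F); omega
  rcases CfsgLib.AschSp.case_all (by omega) hle with
    ⟨W, h0, hts, h⟩ | ⟨W, h0, hnd, hdim, h⟩ | ⟨t, k, D, hD, h⟩ | ⟨D, hodd, hD, hts, h⟩ |
    ⟨r, K, hr, hK, hsa, halt, h⟩ | ⟨K, hodd, hK, hac, hns, h⟩ |
    ⟨n₁, n₂, e, P, f₁, f₂, hodd, hn₂, hf₁, hf₂, hfs, h⟩ |
    ⟨F₀, r, P, ζ, hr, hcard, hζ, hrat, h⟩ |
    ⟨R, p, k, hR, habs, hsim, hp, hpodd, hF, hcard, hcent, hminus, hk, hpm, hsp, h⟩ |
    ⟨k, t, e, P, f₁, hodd, -, ht, h32, hf₁, hfs, h⟩ | ⟨Q, heven, hQ, hpol, h⟩ | hres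
  · refine Or.inl ⟨W, h0, hts, CfsgLib.AschSp.eq_inf hH h (CfsgLib.AschSp.not_le_subspace h0 fun hW => ?_)⟩
    have := CfsgLib.AschSp.finrank_ts_le hts
    rw [hW, finrank_top, Module.finrank_pi, Fintype.card_sum, Fintype.card_fin] at this
    omega
  · refine Or.inr <| Or.inl ⟨W, h0, hnd, hdim,
      CfsgLib.AschSp.eq_inf hH h (CfsgLib.AschSp.not_le_subspace h0 fun hW => ?_)⟩
    rw [hW, finrank_top, Module.finrank_pi, Fintype.card_sum, Fintype.card_fin] at hdim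
    omega
  · obtain ⟨htk, hk2, ht, hk⟩ := CfsgLib.AschSp.decomp_arith hD
    have hcases : (t = 4 ∧ k = 2) ∨ (t = 2 ∧ k = 4) := by
      have hk' : k ≤ 4 := by nlinarith
      obtain ⟨a, rfl⟩ := hk2
      have ha : a ≤ 2 := by omega
      interval_cases a <;> omega
    rcases hcases with ⟨rfl, rfl⟩ | ⟨rfl, rfl⟩
    · by_cases hq : 3 ≤ Fintype.card F
      · exact Or.inr <| Or.inr <| Or.inl ⟨hq, D, hD,
          CfsgLib.AschSp.eq_inf hH h (CfsgLib.AschSp.not_le_decomposition hD.decomp hk)⟩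
      · exact Or.inr <| Or.inr <| Or.inr <| Or.inr <| Or.inr <| Or.inr <| Or.inr <| Or.inr <| Or.inr <|
          Or.inr <| Or.inr <| Or.inl (CfsgLib.AschSp.quad_of_decomp_two (by omega) hH (hq2 hq) hD h)
    · exact Or.inr <| Or.inr <| Or.inr <| Or.inl ⟨D, hD,
        CfsgLib.AschSp.eq_inf hH h (CfsgLib.AschSp.not_le_decomposition hD.decomp hk)⟩
  · exact Or.inr <| Or.inr <| Or.inr <| Or.inr <| Or.inl ⟨hodd, D, hD, hts,
      CfsgLib.AschSp.eq_inf hH h (CfsgLib.AschSp.not_le_decomposition hD (by omega))⟩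
  · have hdvd := CfsgLib.AschSp.field_dvd (by omega) hK hsa halt
    obtain rfl : r = 2 := (Nat.prime_dvd_prime_iff_eq hr Nat.prime_two).1
      (hr.dvd_of_dvd_pow (show r ∣ 2 ^ 2 from hdvd))
    exact Or.inr <| Or.inr <| Or.inr <| Or.inr <| Or.inr <| Or.inl ⟨K, hK, hsa, halt,
      CfsgLib.AschSp.eq_inf hH h (CfsgLib.AschSp.not_le_field (by omega) le_rfl hK)⟩
  · exact Or.inr <| Or.inr <| Or.inr <| Or.inr <| Or.inr <| Or.inr <| Or.inl ⟨hodd, K, hK, hac, hns,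
      CfsgLib.AschSp.eq_inf hH h (CfsgLib.AschSp.not_le_field (by omega) le_rfl hK)⟩
  · obtain ⟨hn, hn2, hn1⟩ := CfsgLib.AschSp.tensor_arith e (by omega) hf₁
    have hcases : n₁ = 2 ∧ n₂ = 4 := by
      obtain ⟨a, rfl⟩ := hn2
      have : a ≤ 1 := by nlinarith
      interval_cases a <;> omega
    obtain ⟨rfl, rfl⟩ := hcases
    by_cases hplus : Cfsg.Geo.IsPlusTypeOn (fun v : Fin 4 → F => f₂ v v) ⊤
    · have h2 := CfsgLib.AschSp.two_ne_zero_of_odd hodd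
      obtain ⟨e', P', C, hC, hgram, hst⟩ := CfsgLib.AschSp.wreath_of_plus h2 e P hf₁ hf₂ hplus hfs
      have hw := le_trans (le_inf h hle) hst
      by_cases hq : 5 ≤ Fintype.card F
      · refine Or.inr <| Or.inr <| Or.inr <| Or.inr <| Or.inr <| Or.inr <| Or.inr <| Or.inr <| Or.inr <|
          Or.inr <| Or.inl ⟨hodd, hq, e', P', CfsgLib.AschSp.matForm CfsgLib.AschSp.Two.alt, ?_,
            ⟨C, hC, fun x y => ?_⟩, CfsgLib.AschSp.eq_inf hH hw
              (CfsgLib.AschSp.not_le_wreath le_rfl le_rfl h2 e' P')⟩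
        · refine CfsgLib.AschSp.matForm_symplectic ?_ CfsgLib.AschSp.Two.alt_transpose fun i => ?_
          · exact IsUnit.of_mul_eq_one (-CfsgLib.AschSp.Two.alt) (by
              rw [mul_neg, CfsgLib.AschSp.Two.alt_sq, neg_neg])
          · fin_cases i <;> simp [CfsgLib.AschSp.Two.alt]
        · rw [CfsgLib.AschSp.form_coords, hgram, CfsgLib.AschSp.gramMatrix_matForm, Matrix.smul_mulVec,
            dotProduct_smul, smul_eq_mul]
          congr 1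
          simp only [dotProduct, Matrix.mulVec, Finset.mul_sum, id, CfsgLib.Aschbacher.pureMat, Matrix.of_apply]
          exact Finset.sum_congr rfl fun a _ => Finset.sum_congr rfl fun b _ => by ring
      · obtain ⟨R, hR, habs, hsim, hcard, hcent, hminus, hHR, hnot⟩ :=
          CfsgLib.AschSp.symp_of_slots (by omega) (hq5 hodd hq) (by norm_num) hle e' P' hgram hw
        exact Or.inr <| Or.inr <| Or.inr <| Or.inr <| Or.inr <| Or.inr <| Or.inr <| Or.inr <| Or.inr <|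
          Or.inl ⟨3, R, Nat.prime_three, ⟨1, rfl⟩, hq5 hodd hq, hR, habs, hsim, by rw [hcard]; norm_num,
            hcent, hminus, CfsgLib.AschSp.eq_inf hH hHR hnot⟩
    · exact Or.inr <| Or.inr <| Or.inr <| Or.inr <| Or.inr <| Or.inr <| Or.inr <| Or.inl
        ⟨hodd, e, P, f₁, f₂, hf₁, hf₂, hplus, hfs,
          CfsgLib.AschSp.eq_inf hH h (CfsgLib.AschSp.not_le_tensor le_rfl (by omega) (by omega) e P)⟩
  · exact Or.inr <| Or.inr <| Or.inr <| Or.inr <| Or.inr <| Or.inr <| Or.inr <| Or.inr <| Or.inl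
      ⟨F₀, r, P, ζ, hr, hcard, hζ, hrat,
        CfsgLib.AschSp.eq_inf hH h (CfsgLib.AschSp.not_le_subfield (by omega) hr hcard P)⟩
  · obtain rfl : k = 3 := Nat.pow_right_injective le_rfl (by simpa using hk)
    have h2 : (2 : F) ≠ 0 := CfsgLib.AschSp.two_ne_zero_of_odd (hF.symm ▸ hpodd)
    exact Or.inr <| Or.inr <| Or.inr <| Or.inr <| Or.inr <| Or.inr <| Or.inr <| Or.inr <| Or.inr <|
      Or.inl ⟨p, R, hp, hpodd, hF, hR, habs, hsim, by rw [hcard]; norm_num, hcent, hminus,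
        CfsgLib.AschSp.eq_inf hH h (CfsgLib.AschSp.not_le_normalizer (by omega) h2 hsp
          (CfsgLib.Aschbacher.alg_top_of_absIrred habs) hpm)⟩
  · obtain ⟨hkt, -, hk⟩ := CfsgLib.AschSp.wreath_arith e (by omega) ht hf₁
    have h1 : k ^ 3 ≤ k ^ t := Nat.pow_le_pow_right (by omega) ht
    have h2 : k < 3 := by
      by_contra h'
      have := Nat.pow_le_pow_left (show 3 ≤ k by omega) 3
      omega
    obtain rfl : k = 2 := by omega
    obtain rfl : t = 3 := Nat.pow_right_injective le_rfl (by simpa using hkt)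
    have h5 : 5 ≤ Fintype.card F := by
      by_contra hq
      exact h32 ⟨hq5 hodd hq, rfl⟩
    exact Or.inr <| Or.inr <| Or.inr <| Or.inr <| Or.inr <| Or.inr <| Or.inr <| Or.inr <| Or.inr <|
      Or.inr <| Or.inl ⟨hodd, h5, e, P, f₁, hf₁, hfs, CfsgLib.AschSp.eq_inf hH h
        (CfsgLib.AschSp.not_le_wreath le_rfl le_rfl (CfsgLib.AschSp.two_ne_zero_of_odd hodd) e P)⟩
  · exact Or.inr <| Or.inr <| Or.inr <| Or.inr <| Or.inr <| Or.inr <| Or.inr <| Or.inr <| Or.inr <|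
      Or.inr <| Or.inr <| Or.inl ⟨heven, Q, hQ, hpol,
        CfsgLib.AschSp.eq_inf hH h (CfsgLib.AschSp.not_le_quad (by omega) hQ hpol)⟩
  · exact Or.inr <| Or.inr <| Or.inr <| Or.inr <| Or.inr <| Or.inr <| Or.inr <| Or.inr <| Or.inr <|
      Or.inr <| Or.inr <| Or.inr hres

end Cfsg.Agent.S5823
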