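import Cfsg.Statements.S5825
import Cfsg.Agent.Lib.Geom.NondegHalf
import Cfsg.Agent.Lib.Geom.PointMax
import Cfsg.Agent.Lib.Classical.StdQuad
import Cfsg.Agent.Lib.MaxSub.OExtMatrix
import Cfsg.Agent.Lib.MaxSub.RatOmega

set_option autoImplicit false
open Cfsg CfsgLib.Geom

namespace Cfsg.Agent.S5825

/-- Maximal subgroups of Ω_8^-(q) of geometric type (any q). Let F be a finite field with q elements, Q a non-degenerate quadratic form on F^8 (non-degenerate polar form) of minus type (Witt index 3: no totally singular 4-space), and Ω = Ω_8^-(q) the commutator subgroup of the isometry group of Q, inside GL_8(F). Each of the following, intersected with Ω, is a maximal subgroup of Ω: (1) the stabiliser of any non-zero subspace on which Q vanishes identically (totally singular 1-, 2- and 3-spaces); (2) for q odd, the stabiliser of any proper subspace of odd dimension (1, 3, 5 or 7) on which the polar form of Q is non-degenerate; (3) the stabiliser of any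 non-degenerate 2-space of minus type (containing no non-zero singular vector); (4) for q ≥ 4, the stabiliser of any non-degenerate 2-space of plus type (containing a non-zero singular vector); (5) the stabiliser of any non-degenerate 4-space (its orthogonal complement is then a non-degenerate 4-space of the opposite type); (6) for q even, the stabiliser of the 1-space spanned by any non-singular vector v (Q(v) ≠ 0); (7) for q odd, the normaliser of any degree-2 subfield K of the matrix algebra whose elements are self-adjoint for the polar form of Q (Q is then the trace of a quadratic form over K); (8) every subfield group for a subfield F₀ of odd prime index r in F whose F₀-structure carries a non-zero scalar multiple of Q. -/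
theorem result {F : Type*} [Field F] [Fintype F] (Q : (Fin 8 → F) → F) (hQ : Cfsg.Geo.IsNondegenerateQuadraticForm Q) (hminus : ¬ Cfsg.Geo.IsPlusTypeOn Q ⊤) :
    (∀ W : Submodule F (Fin 8 → F), W ≠ ⊥ → Cfsg.Geo.IsTotallySingularQuad Q W → Cfsg.Geo.IsMaximalIn (Cfsg.Geo.omegaGL Q) (Cfsg.Geo.subspaceStabilizer W ⊓ Cfsg.Geo.omegaGL Q)) ∧
    (Odd (Fintype.card F) → ∀ W : Submodule F (Fin 8 → F), W ≠ ⊥ → W ≠ ⊤ → Odd (Module.finrank F W) → Cfsg.Geo.IsNondegenerateOn (QuadraticMap.polar Q) W → Cfsg.Geo.IsMaximalIn (Cfsg.Geo.omegaGL Q) (Cfsg.Geo.subspaceStabilizer W ⊓ Cfsg.Geo.omegaGL Q)) ∧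
    (∀ W : Submodule F (Fin 8 → F), Module.finrank F W = 2 → Cfsg.Geo.IsNondegenerateOn (QuadraticMap.polar Q) W → ¬ Cfsg.Geo.IsPlusTypeOn Q W → Cfsg.Geo.IsMaximalIn (Cfsg.Geo.omegaGL Q) (Cfsg.Geo.subspaceStabilizer W ⊓ Cfsg.Geo.omegaGL Q)) ∧
    (4 ≤ Fintype.card F → ∀ W : Submodule F (Fin 8 → F), Module.finrank F W = 2 → Cfsg.Geo.IsNondegenerateOn (QuadraticMap.polar Q) W → Cfsg.Geo.IsPlusTypeOn Q W → Cfsg.Geo.IsMaximalIn (Cfsg.Geo.omegaGL Q) (Cfsg.Geo.subspaceStabilizer W ⊓ Cfsg.Geo.omegaGL Q)) ∧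
    (∀ W : Submodule F (Fin 8 → F), Module.finrank F W = 4 → Cfsg.Geo.IsNondegenerateOn (QuadraticMap.polar Q) W → Cfsg.Geo.IsMaximalIn (Cfsg.Geo.omegaGL Q) (Cfsg.Geo.subspaceStabilizer W ⊓ Cfsg.Geo.omegaGL Q)) ∧
    (¬ Odd (Fintype.card F) → ∀ v : (Fin 8 → F), Q v ≠ 0 → Cfsg.Geo.IsMaximalIn (Cfsg.Geo.omegaGL Q) (Cfsg.Geo.subspaceStabilizer (Submodule.span F {v}) ⊓ Cfsg.Geo.omegaGL Q)) ∧
    (Odd (Fintype.card F) → ∀ K : Subalgebra F (Matrix (Fin 8) (Fin 8) F), Cfsg.Geo.IsFieldSubalgebra 2 K → Cfsg.Geo.IsSelfAdjointFor (QuadraticMap.polar Q) K → Cfsg.Geo.IsMaximalIn (Cfsg.Geo.omegaGL Q) (Cfsg.Geo.subalgebraNormalizer K ⊓ Cfsg.Geo.omegaGL Q)) ∧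
    (∀ (F₀ : Subfield F) (r : ℕ) (P : Matrix.GeneralLinearGroup (Fin 8) F) (ζ : F), r.Prime → Odd r → Fintype.card F = Nat.card F₀ ^ r → ζ ≠ 0 → Cfsg.Geo.IsQuadFormRationalStructure (fun v : Fin 8 → F => ζ * Q v) F₀ P → Cfsg.Geo.IsMaximalIn (Cfsg.Geo.omegaGL Q) (Cfsg.Geo.subfieldSubgroup F₀ P ⊓ Cfsg.Geo.omegaGL Q)) := by
  classical
  have hQ' := quadFormOf_sep hQ
  have hn : Module.finrank F (Fin 8 → F) = 8 := Module.finrank_fin_fun F
  have hno : ∀ U : Submodule F (Fin 8 → F), (∀ x ∈ U, quadFormOf hQ x = 0) → Module.finrank F U ≠ 4 :=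
    fun U hU hd => hminus ⟨U, le_top, hU, by rw [hd, finrank_top, hn]⟩
  have hnd : ∀ W : Submodule F (Fin 8 → F), Cfsg.Geo.IsNondegenerateOn (QuadraticMap.polar Q) W →
      ∀ x ∈ W, (∀ y ∈ W, QuadraticMap.polar (quadFormOf hQ) x y = 0) → x = 0 := fun W hW x hx h => by
    by_contra hne
    obtain ⟨y, hy, hxy⟩ := (hW x hx hne).2
    exact hxy (h y hy)
  -- non-degenerate subspaces which are not four-dimensional
  have hgen : ∀ W : Submodule F (Fin 8 → F), W ≠ ⊥ → W ≠ ⊤ → Module.finrank F W ≠ 4 → Module.finrank F W ≠ 6 →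
      Cfsg.Geo.IsNondegenerateOn (QuadraticMap.polar Q) W →
      ¬ (Fintype.card F ≤ 3 ∧ Module.finrank F W = 2 ∧ Cfsg.Geo.IsPlusTypeOn Q W) →
      Cfsg.Geo.IsMaximalIn (Cfsg.Geo.omegaGL Q) (Cfsg.Geo.subspaceStabilizer W ⊓ Cfsg.Geo.omegaGL Q) := by
    intro W hW0 hW1 h4 h6 hW hex
    refine OrthSub.nondeg_isMaximalIn (quadFormOf hQ) rfl hQ' (Or.inr ⟨by simp, by simp; omega⟩) hW0 hW1
      (hnd W hW) ?_ ?_ (fun h => absurd h (by simp; omega))
    · rintro ⟨hq, hd, hz⟩
      exact hex ⟨hq, hd, OrthSub.isPlusTypeOn_of_singular hQ.smul hd hz⟩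
    · rintro U - hsum - ⟨-, hd, -⟩
      rw [Fintype.card_fin] at hsum
      omega
  have hne2 : ∀ W : Submodule F (Fin 8 → F), Module.finrank F W = 2 → W ≠ ⊥ ∧ W ≠ ⊤ := fun W hd =>
    ⟨fun e => by rw [e, finrank_bot] at hd; omega, fun e => by rw [e, finrank_top, hn] at hd; omega⟩
  have h2odd : Odd (Fintype.card F) → (2 : F) ≠ 0 := fun hodd => CfsgLib.Classical.two_ne_zero_of_odd hodd
  refine ⟨fun W hW0 hW => ?_, fun _ W hW0 hW1 hodd hW => ?_, fun W hd hW hm => ?_, fun hq W hd hW _ => ?_,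
    fun W hd hW => ?_, fun hchar v hv => ?_, fun hodd K hK hsa => ?_, fun F₀ r P ζ hr hro hcard hζ hP => ?_⟩
  · have hW' : ∀ x ∈ W, quadFormOf hQ x = 0 := hW
    refine omega_isMaximalIn (quadFormOf hQ) rfl W (OrthSub.parabolic_moved hQ' (by omega) hW' hW0)
      fun M hM => OrthSub.parabolic_maximal hQ' (by omega) hW' ?_ hM
    have hk := OrthSub.totallySingular_finrank hQ' hW'
    have := hno W hW'
    by_cases h : 2 * Module.finrank F W + 3 ≤ 8
    · exact Or.inl (by omega)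
    · refine Or.inr fun t ht hp => ?_
      by_contra htW
      obtain ⟨U, hU, hd⟩ := OrthSub.totallySingular_sup hW' ht hp htW
      have := OrthSub.totallySingular_finrank hQ' hU
      have := hno U hU
      omega
  · obtain ⟨a, ha⟩ := hodd
    exact hgen W hW0 hW1 (by omega) (by omega) hW fun h => by omega
  · exact hgen W (hne2 W hd).1 (hne2 W hd).2 (by omega) (by omega) hW fun h => hm h.2.2
  · exact hgen W (hne2 W hd).1 (hne2 W hd).2 (by omega) (by omega) hW fun h => by omega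
  · refine OrthSub.nondeg_four_isMaximalIn (quadFormOf hQ) rfl hQ' (Fintype.card_fin 8) hd (hnd W hW) ?_
    rintro ⟨S, hS, h8⟩
    rw [Fintype.card_fin] at h8
    exact hno S hS (by omega)
  · have h2 : (2 : F) = 0 := by
      by_contra h
      refine hchar (Nat.odd_iff.2 (FiniteField.odd_card_of_char_ne_two fun hc => h ?_))
      have := ringChar.spec F 2
      rw [hc] at this
      exact_mod_cast this.2 dvd_rfl
    exact omega_isMaximalIn (quadFormOf hQ) rfl _ (OrthSub.point_moved hQ' (by omega) hv)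
      fun M hM => OrthSub.point_maximal hQ' h2 (by omega) hv hM
  · have : Nonempty (Fin 8) := ⟨0⟩
    refine CfsgLib.MaxSub.OExt.extension_maximal'' hQ (h2odd hodd) Nat.prime_two (fun k hk => ?_) K hK hsa
    rw [Fintype.card_fin] at hk
    omega
  · exact CfsgLib.MaxSub.subfield_isMaximalIn' (quadFormOf hQ) rfl hQ' F₀ r hr hcard
      (Or.inr (Or.inl ⟨Fintype.card_fin 8, hro, fun ⟨S, hS, h4⟩ => hno S hS h4⟩)) P hζ hP

end Cfsg.Agent.S5825
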