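import Cfsg.Statements.S5826
import Cfsg.Agent.Lib.Aschbacher.OrthEvenLists

set_option autoImplicit false
open Cfsg

namespace Cfsg.Agent.S5826

open Cfsg.Geo Matrix CfsgLib.Aschbacher CfsgLib.Aschbacher.Orth CfsgLib.Classical CfsgLib.Geom

/-- Every maximal subgroup of Ω_8^-(q) is of one of the listed geometric types or lies in the residual class. Let F be a finite field with q elements, Q a non-degenerate quadratic form on F^8 of minus type (no totally singular 4-space), Ω the commutator subgroup of its isometry group, and H a maximal subgroup of Ω (inside GL_8(F)). Then H is the intersection with Ω of one of: the stabiliser of a non-zero totally singular subspace; for q odd, the stabiliser of a non-degenerate subspace of odd dimension; the stabiliser of a non-degenerate 2-space of minus type; for q ≥ 4, the stabiliser of a non-degenerate 2-space of plus type; the stabiliser of a non-degenerate 4-space; for q even, the stabiliser of the span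 of a non-singular vector; the normaliser of a degree-2 subfield of the matrix algebra; a subfield group of odd prime index whose F₀-structure carries a non-zero multiple of Q — or else H lies in the residual class of the orthogonal case (modulo scalars H is almost simple, with absolutely irreducible perfect socle preimage realisable over no proper subfield and fixing no non-degenerate unitary form). -/
theorem result {F : Type*} [Field F] [Fintype F] (Q : (Fin 8 → F) → F) (hQ : Cfsg.Geo.IsNondegenerateQuadraticForm Q) (hminus : ¬ Cfsg.Geo.IsPlusTypeOn Q ⊤) (H : Subgroup (Matrix.GeneralLinearGroup (Fin 8) F)) (hH : Cfsg.Geo.IsMaximalIn (Cfsg.Geo.omegaGL Q) H) :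
    (∃ W : Submodule F (Fin 8 → F), W ≠ ⊥ ∧ Cfsg.Geo.IsTotallySingularQuad Q W ∧ H = Cfsg.Geo.subspaceStabilizer W ⊓ Cfsg.Geo.omegaGL Q) ∨
    (Odd (Fintype.card F) ∧ ∃ W : Submodule F (Fin 8 → F), W ≠ ⊥ ∧ W ≠ ⊤ ∧ Odd (Module.finrank F W) ∧ Cfsg.Geo.IsNondegenerateOn (QuadraticMap.polar Q) W ∧ H = Cfsg.Geo.subspaceStabilizer W ⊓ Cfsg.Geo.omegaGL Q) ∨
    (∃ W : Submodule F (Fin 8 → F), Module.finrank F W = 2 ∧ Cfsg.Geo.IsNondegenerateOn (QuadraticMap.polar Q) W ∧ ¬ Cfsg.Geo.IsPlusTypeOn Q W ∧ H = Cfsg.Geo.subspaceStabilizer W ⊓ Cfsg.Geo.omegaGL Q) ∨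
    (4 ≤ Fintype.card F ∧ ∃ W : Submodule F (Fin 8 → F), Module.finrank F W = 2 ∧ Cfsg.Geo.IsNondegenerateOn (QuadraticMap.polar Q) W ∧ Cfsg.Geo.IsPlusTypeOn Q W ∧ H = Cfsg.Geo.subspaceStabilizer W ⊓ Cfsg.Geo.omegaGL Q) ∨
    (∃ W : Submodule F (Fin 8 → F), Module.finrank F W = 4 ∧ Cfsg.Geo.IsNondegenerateOn (QuadraticMap.polar Q) W ∧ H = Cfsg.Geo.subspaceStabilizer W ⊓ Cfsg.Geo.omegaGL Q) ∨
    (¬ Odd (Fintype.card F) ∧ ∃ v : (Fin 8 → F), Q v ≠ 0 ∧ H = Cfsg.Geo.subspaceStabilizer (Submodule.span F {v}) ⊓ Cfsg.Geo.omegaGL Q) ∨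
    (∃ K : Subalgebra F (Matrix (Fin 8) (Fin 8) F), Cfsg.Geo.IsFieldSubalgebra 2 K ∧ H = Cfsg.Geo.subalgebraNormalizer K ⊓ Cfsg.Geo.omegaGL Q) ∨
    (∃ (F₀ : Subfield F) (r : ℕ) (P : Matrix.GeneralLinearGroup (Fin 8) F) (ζ : F), r.Prime ∧ Odd r ∧ Fintype.card F = Nat.card F₀ ^ r ∧ ζ ≠ 0 ∧ Cfsg.Geo.IsQuadFormRationalStructure (fun v : Fin 8 → F => ζ * Q v) F₀ P ∧ H = Cfsg.Geo.subfieldSubgroup F₀ P ⊓ Cfsg.Geo.omegaGL Q) ∨
    Cfsg.Geo.InOrthogonalResidualClass H := by
  obtain ⟨Q, rfl⟩ : ∃ Q' : QuadraticForm F (Fin 8 → F), ⇑Q' = Q := ⟨quadFormOf hQ, quadFormOf_coe hQ⟩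
  have hsep : ∀ x, (∀ y, QuadraticMap.polar Q x y = 0) → x = 0 := fun x hx => by
    by_contra h0
    obtain ⟨y, hy⟩ := (hQ.nondegenerate x h0).2
    exact hy (hx y)
  have hm : Fintype.card (Fin 8) = 2 * 4 := by simp
  cases even_shapes hsep hm le_rfl (by norm_num) hH with
  | ts W h0 hts hd hH' => exact Or.inl ⟨W, h0, hts, hH'⟩
  | oddSpace hq W h0 h1 ho hnd hH' => exact Or.inr (Or.inl ⟨hq, W, h0, h1, ho, hnd, hH'⟩)
  | evenSpace W k hk h1 hkm hnd hplane hH' =>
    obtain rfl | rfl : k = 1 ∨ k = 2 := by omega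
    · by_cases hp : IsPlusTypeOn (⇑Q) W
      · exact Or.inr (Or.inr (Or.inr (Or.inl ⟨by
          by_contra h
          exact hplane ⟨by omega, hk, hp⟩, W, hk, hnd, hp, hH'⟩)))
      · exact Or.inr (Or.inr (Or.inl ⟨W, hk, hnd, hp, hH'⟩))
    · exact Or.inr (Or.inr (Or.inr (Or.inr (Or.inl ⟨W, hk, hnd, hH'⟩))))
  | point hq v hv hH' => exact Or.inr (Or.inr (Or.inr (Or.inr (Or.inr (Or.inl ⟨hq, v, hv, hH'⟩)))))
  | orth t k htk D hD hprime hirr hH' =>
    exfalso
    have ht : t ≤ 8 := Nat.le_of_dvd (by norm_num) ⟨k, htk.symm⟩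
    have ht2 := hD.decomp.decomp.two_le
    obtain ⟨rfl, rfl⟩ | ⟨rfl, rfl⟩ | ⟨rfl, rfl⟩ :
        (t = 2 ∧ k = 2 * 2) ∨ (t = 4 ∧ k = 2 * 1) ∨ (t = 8 ∧ k = 1) := by
      interval_cases t <;> omega
    · exact hminus ((orth_plus_top_iff hsep hD 0).2 (Or.inl (by decide)))
    · exact hminus ((orth_plus_top_iff hsep hD 0).2 (Or.inl (by decide)))
    · have h2 := two_ne_zero_of_odd (hprime rfl).2
      exact hminus ((plusType_iff_of_square hsep h2 hm
        (square_det_of_lines hsep h2 (n := 8) (by decide) (by simp) hD)).2 (Or.inl (by decide)))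
  | tsPair D hD hts hplus hirr hH' => exact absurd hplus hminus
  | field r hr hdvd K hK hadj hirr hH' =>
    obtain rfl : r = 2 := (Nat.prime_dvd_prime_iff_eq hr Nat.prime_two).1
      (hr.dvd_of_dvd_pow (show r ∣ 2 ^ 3 from hdvd))
    exact Or.inr (Or.inr (Or.inr (Or.inr (Or.inr (Or.inr (Or.inl ⟨K, hK, hH'⟩))))))
  | tensorAlt d k hd hdk hn e P a b hau hbu hAB haa hbb hpure hirr hle =>
    exfalso
    obtain rfl : d = 2 := by
      by_contra h
      have : 3 * 3 ≤ d * k := Nat.mul_le_mul (by omega) (by omega)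
      omega
    exact hminus (plusType_of_pure_null hsep e P hpure)
  | tensorSym h2 d k hd hdk hn e P a b hau hbu hAB has hbs hirr hle =>
    obtain rfl : d = 2 := by
      by_contra h
      have : 3 * 3 ≤ d * k := Nat.mul_le_mul (by omega) (by omega)
      omega
    have : NeZero k := ⟨by omega⟩
    rcases tensor_two_sym hsep h2 hm le_rfl hH e P hau hbu hAB has hle with
      ⟨D, hD, hts, hplus, hH'⟩ | ⟨K, hK, hadj, hns, hH'⟩
    · exact absurd hplus hminus
    · exact Or.inr (Or.inr (Or.inr (Or.inr (Or.inr (Or.inr (Or.inl ⟨K, hK, hH'⟩))))))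
  | eightPlus h hplus => exact absurd hplus hminus
  | subfield F₀ r P ζ hr hcard hζ hrat hH' =>
    rcases hr.eq_two_or_odd' with rfl | ho
    · exact absurd (plus_of_quadratic_subfield hsep hm (by norm_num) hcard hζ hrat) hminus
    · exact Or.inr (Or.inr (Or.inr (Or.inr (Or.inr (Or.inr (Or.inr (Or.inl
        ⟨F₀, r, P, ζ, hr, ho, hcard, hζ, hrat, hH'⟩)))))))
  | residual h => exact Or.inr (Or.inr (Or.inr (Or.inr (Or.inr (Or.inr (Or.inr (Or.inr h)))))))

end Cfsg.Agent.S5826
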