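import Cfsg.Statements.S5828
import Cfsg.Agent.S5886
import Cfsg.Agent.Lib.MaxSub.SlAll
import Cfsg.Agent.Lib.MaxSub.TPowSL.Main
import Cfsg.Agent.Lib.MaxSub.SlNine.Main
import Cfsg.Agent.Lib.MaxSub.SlNine.SLInstance

set_option autoImplicit false
open Cfsg

namespace Cfsg.Agent.S5828

/-- the stabiliser of a tensor decomposition into two factors of dimension three -/
theorem tensor_wreath {F : Type*} [Field F] [Fintype F] (e : Fin 9 ≃ (Fin 2 → Fin 3))
    (P : Matrix.GeneralLinearGroup (Fin 9) F) :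
    Cfsg.Geo.IsMaximalIn (Cfsg.Geo.specialLinear (Fin 9) F)
      (Cfsg.Geo.tensorWreathSubgroup 3 2 e P ⊓ Cfsg.Geo.specialLinear (Fin 9) F) := by
  let R : Matrix.GeneralLinearGroup (Fin 2 → Fin 3) F ≃* Matrix.GeneralLinearGroup (Fin 9) F :=
    (Cfsg.Geo.glReindex e.symm).trans (MulAut.conj P)
  have h := CfsgLib.MaxSub.isMaximalIn_map R (CfsgLib.MaxSub.TPowSL.base (F := F) (m := 3) le_rfl 0)
  have hR : ∀ K : Subgroup (Matrix.GeneralLinearGroup (Fin 2 → Fin 3) F), K.map R.toMonoidHom =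
      (K.map (Cfsg.Geo.glReindex e.symm).toMonoidHom).map (MulAut.conj P).toMonoidHom := fun K => by
    rw [Subgroup.map_map]; rfl
  have hsl : (Cfsg.Geo.specialLinear (Fin 9) F).map (MulAut.conj P).toMonoidHom =
      Cfsg.Geo.specialLinear (Fin 9) F := by
    have : (Cfsg.Geo.specialLinear (Fin 9) F).Normal := MonoidHom.normal_ker _
    exact le_antisymm (Subgroup.map_le_iff_le_comap.2 fun x hx => Subgroup.Normal.conj_mem inferInstance x hx P)
      fun x hx => ⟨P⁻¹ * x * P, by
        simpa using Subgroup.Normal.conj_mem (H := Cfsg.Geo.specialLinear (Fin 9) F) inferInstance x hx P⁻¹,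
        by simp [mul_assoc]⟩
  rw [Subgroup.map_inf _ _ R.toMonoidHom R.injective, hR, hR,
    CfsgLib.MaxSub.TPowSL.map_specialLinear_glReindex, hsl] at h
  exact h

/-- Maximal subgroups of SL_9(q) of geometric type, for a finite field F with q elements (any q); p denotes the characteristic. Each of the following subgroups of GL_9(F), intersected with SL_9(F), is a maximal subgroup of SL_9(F): (1) the stabiliser of any proper non-zero subspace of F^9; (2) for q ≥ 5, the stabiliser of any decomposition of F^9 into 9 independent 1-spaces; (3) the stabiliser of any decomposition of F^9 into 3 independent 3-spaces; (4) the normaliser of any degree-3 subfield of the 9 × 9 matrix algebra over F (a commutative subalgebra of dimension 3 in which every non-zero element is invertible); (5) every subfield group (a conjugate of GL_9(F₀) times the scalars of F) for a subfield F₀ with |F| = |F₀|^r, r prime; (6) for q = p prime with p ≡ 1 mod 3, the normaliser of any absolutely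 irreducible 3-subgroup R of exponent 3 and order 3^(1+2m) with centre of order 3, all of whose characteristic abelian subgroups are cyclic, F being the smallest field of characteristic p containing the cube roots of unity (here R is extraspecial of order 3^5); (7) the stabiliser of any tensor decomposition of F^9 into 2 factors of dimension 3 (a conjugate of the tensor-wreath subgroup); (8) for q odd, the group of similarities of any non-degenerate quadratic form on F^9; (9) the group of similarities of any non-degenerate unitary form on F^9 (these exist exactly when q is a square). -/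
theorem result {F : Type*} [Field F] [Fintype F] :
    (∀ W : Submodule F (Fin 9 → F), W ≠ ⊥ → W ≠ ⊤ → Cfsg.Geo.IsMaximalIn (Cfsg.Geo.specialLinear (Fin 9) F) (Cfsg.Geo.subspaceStabilizer W ⊓ Cfsg.Geo.specialLinear (Fin 9) F)) ∧
    (5 ≤ Fintype.card F → ∀ D : Fin 9 → Submodule F (Fin 9 → F), Cfsg.Geo.IsMDecomposition 1 D → Cfsg.Geo.IsMaximalIn (Cfsg.Geo.specialLinear (Fin 9) F) (Cfsg.Geo.decompositionStabilizer D ⊓ Cfsg.Geo.specialLinear (Fin 9) F)) ∧
    (∀ D : Fin 3 → Submodule F (Fin 9 → F), Cfsg.Geo.IsMDecomposition 3 D → Cfsg.Geo.IsMaximalIn (Cfsg.Geo.specialLinear (Fin 9) F) (Cfsg.Geo.decompositionStabilizer D ⊓ Cfsg.Geo.specialLinear (Fin 9) F)) ∧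
    (∀ K : Subalgebra F (Matrix (Fin 9) (Fin 9) F), Cfsg.Geo.IsFieldSubalgebra 3 K → Cfsg.Geo.IsMaximalIn (Cfsg.Geo.specialLinear (Fin 9) F) (Cfsg.Geo.subalgebraNormalizer K ⊓ Cfsg.Geo.specialLinear (Fin 9) F)) ∧
    (∀ (F₀ : Subfield F) (r : ℕ) (P : Matrix.GeneralLinearGroup (Fin 9) F), r.Prime → Fintype.card F = Nat.card F₀ ^ r → Cfsg.Geo.IsMaximalIn (Cfsg.Geo.specialLinear (Fin 9) F) (Cfsg.Geo.subfieldSubgroup F₀ P ⊓ Cfsg.Geo.specialLinear (Fin 9) F)) ∧
    ((∃ p : ℕ, p.Prime ∧ Fintype.card F = p ∧ (p % 3 = 1)) → ∀ R : Subgroup (Matrix.GeneralLinearGroup (Fin 9) F), Cfsg.Geo.IsLinearSymplecticTypeData 3 R → Cfsg.Geo.IsMaximalIn (Cfsg.Geo.specialLinear (Fin 9) F) (Cfsg.Geo.subgroupNormalizer R ⊓ Cfsg.Geo.specialLinear (Fin 9) F)) ∧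
    (∀ (e : Fin 9 ≃ (Fin 2 → Fin 3)) (P : Matrix.GeneralLinearGroup (Fin 9) F), Cfsg.Geo.IsMaximalIn (Cfsg.Geo.specialLinear (Fin 9) F) (Cfsg.Geo.tensorWreathSubgroup 3 2 e P ⊓ Cfsg.Geo.specialLinear (Fin 9) F)) ∧
    (Odd (Fintype.card F) → ∀ Q : (Fin 9 → F) → F, Cfsg.Geo.IsNondegenerateQuadraticForm Q → Cfsg.Geo.IsMaximalIn (Cfsg.Geo.specialLinear (Fin 9) F) (Cfsg.Geo.quadSimilarityGroup Q ⊓ Cfsg.Geo.specialLinear (Fin 9) F)) ∧
    (∀ (σ : F ≃+* F) (f : (Fin 9 → F) → (Fin 9 → F) → F), Cfsg.Geo.IsUnitaryForm σ f → Cfsg.Geo.IsMaximalIn (Cfsg.Geo.specialLinear (Fin 9) F) (Cfsg.Geo.similarityGroup f ⊓ Cfsg.Geo.specialLinear (Fin 9) F)) := by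
  refine ⟨fun W h0 h1 => CfsgLib.MaxSub.SlAll.subspace_maximal 9 W h0 h1,
    fun hq D hD => CfsgLib.MaxSub.SlAll.decomposition_maximal 9 (by norm_num) 1 D hD (by omega) (by omega),
    fun D hD => CfsgLib.MaxSub.SlAll.decomposition_maximal 9 (by norm_num) 3 D hD (by omega) (by omega),
    fun K hK => (S5886.result 9 3 Nat.prime_three (by norm_num) (by norm_num) K hK).2,
    fun F₀ r P hr hc => CfsgLib.MaxSub.SlAll.subfield_maximal 9 (by norm_num) F₀ r hr hc P,
    ?_, tensor_wreath,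
    fun ho Q hQ => CfsgLib.MaxSub.SlAll.quadratic_maximal 9 (by norm_num) ho Q hQ,
    fun σ f hf => CfsgLib.MaxSub.SlAll.unitary_maximal 9 (by norm_num) σ f hf⟩
  rintro ⟨p, hp, hF, hp3⟩ R hR
  exact CfsgLib.MaxSub.SlNine.symp_maximal_of_setup hp hF hp3 hR
    fun w h M hN hM hne => CfsgLib.MaxSub.SlNine.setup_sl hp hF hp3 h hN hM hne

end Cfsg.Agent.S5828
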