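import Cfsg.Statements.S5831
import Cfsg.Agent.Lib.MaxSub.SuNine.Classes
import Cfsg.Agent.Lib.MaxSub.SuNine.Coord
import Cfsg.Agent.Lib.MaxSub.SuNine.Main
import Cfsg.Agent.Lib.MaxSub.SuNine.TwoCent
import Cfsg.Agent.Lib.MaxSub.SuNine.TwoPure

set_option autoImplicit false
open Cfsg

namespace Cfsg.Agent.S5831

open CfsgLib.MaxSub.SlNine CfsgLib.MaxSub.SuNine in
/-- maximality in coordinates -/
theorem maximal_coord {F : Type*} [Field F] [Fintype F] {q : ℕ} (hF : Fintype.card F = q ^ 2) (hq : q.Prime)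
    (h1 : q % 3 = 2) (w : F) (h : Root w) :
    Cfsg.Geo.IsMaximalIn (G9 hF) (Cfsg.Geo.subgroupNormalizer (R9 h) ⊓ G9 hF) := by
  by_cases h2 : q = 2
  · refine maximal_of_all_nm hq h1 h fun M hMG hS g hg => ?_
    exact all_nm_two hS (no_pure_two h2 h1 h hS hMG) (two_eq_zero hF h2)
      (fun x hx => nm3_of_umat h (frob_root hF h1 h) (cube_eq_one hF h2) (two_eq_zero hF h2) hx) hg
  · refine maximal_coord_odd hq h1 (fun e => h2 ?_) h
    obtain ⟨r, hr⟩ := CharP.exists F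
    obtain ⟨n, hrp, hn⟩ := FiniteField.card F r
    have hd : r ∣ q ^ 2 := by rw [← hF, hn]; exact dvd_pow_self r n.pos.ne'
    have e' : ((2 : ℕ) : F) = 0 := by exact_mod_cast e
    rw [← (Nat.prime_dvd_prime_iff_eq hrp hq).1 (hrp.dvd_of_dvd_pow hd)]
    exact (Nat.prime_dvd_prime_iff_eq hrp Nat.prime_two).1 ((CharP.cast_eq_zero_iff F r 2).1 e')

/-- Maximal subgroups of SU_9(q) of geometric type (any prime power q). Let F be the field with q² elements, f the standard unitary form Σ u_i v_i^q on F^9 and SU_9(q) its determinant-one isometry group inside GL_9(F). Each of the following, intersected with SU_9(q), is a maximal subgroup of SU_9(q): (1) the stabiliser of any non-zero subspace on which f vanishes identically (totally isotropic 1- to 4-spaces); (2) the stabiliser of any non-degenerate 1-, 2-, 3- or 4-space; (3) the stabiliser of any decomposition of F^9 into nine mutually orthogonal non-degenerate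 1-spaces; (4) the stabiliser of any decomposition into three mutually orthogonal non-degenerate 3-spaces; (5) the normaliser of any degree-3 subfield of the matrix algebra closed under adjoints for f; (6) every subfield group for a subfield F₀ of odd prime index in F whose F₀-structure carries f; (7) for q odd, every subfield group for the subfield F₀ of index 2 whose F₀-structure carries f (orthogonal type); (8) for q = p prime with p ≡ 2 mod 3, the normaliser of any absolutely irreducible 3-group R of exponent 3, order 3^5 and centre of order 3 with all characteristic abelian subgroups cyclic, contained in the similarity group of f; (9) for q ≥ 3, the stabiliser of any decomposition of f as the tensor square of a unitary form on F^3 up to a scalar (tensor-wreath subgroup). -/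
theorem result {F : Type*} [Field F] [Fintype F] (q : ℕ) (hF : Fintype.card F = q ^ 2) :
    (∀ W : Submodule F (Fin 9 → F), W ≠ ⊥ → Cfsg.Geo.IsTotallySingularFor (Cfsg.hermForm 9 F q) W → Cfsg.Geo.IsMaximalIn (Cfsg.GU 9 F q ⊓ Cfsg.Geo.specialLinear (Fin 9) F) (Cfsg.Geo.subspaceStabilizer W ⊓ (Cfsg.GU 9 F q ⊓ Cfsg.Geo.specialLinear (Fin 9) F))) ∧
    (∀ W : Submodule F (Fin 9 → F), W ≠ ⊥ → Cfsg.Geo.IsNondegenerateOn (Cfsg.hermForm 9 F q) W → 2 * Module.finrank F W < 9 → Cfsg.Geo.IsMaximalIn (Cfsg.GU 9 F q ⊓ Cfsg.Geo.specialLinear (Fin 9) F) (Cfsg.Geo.subspaceStabilizer W ⊓ (Cfsg.GU 9 F q ⊓ Cfsg.Geo.specialLinear (Fin 9) F))) ∧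
    (∀ D : Fin 9 → Submodule F (Fin 9 → F), Cfsg.Geo.IsNondegenerateMDecomposition (Cfsg.hermForm 9 F q) 1 D → Cfsg.Geo.IsMaximalIn (Cfsg.GU 9 F q ⊓ Cfsg.Geo.specialLinear (Fin 9) F) (Cfsg.Geo.decompositionStabilizer D ⊓ (Cfsg.GU 9 F q ⊓ Cfsg.Geo.specialLinear (Fin 9) F))) ∧
    (∀ D : Fin 3 → Submodule F (Fin 9 → F), Cfsg.Geo.IsNondegenerateMDecomposition (Cfsg.hermForm 9 F q) 3 D → Cfsg.Geo.IsMaximalIn (Cfsg.GU 9 F q ⊓ Cfsg.Geo.specialLinear (Fin 9) F) (Cfsg.Geo.decompositionStabilizer D ⊓ (Cfsg.GU 9 F q ⊓ Cfsg.Geo.specialLinear (Fin 9) F))) ∧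
    (∀ K : Subalgebra F (Matrix (Fin 9) (Fin 9) F), Cfsg.Geo.IsFieldSubalgebra 3 K → Cfsg.Geo.IsAdjointClosedFor (Cfsg.hermForm 9 F q) K → Cfsg.Geo.IsMaximalIn (Cfsg.GU 9 F q ⊓ Cfsg.Geo.specialLinear (Fin 9) F) (Cfsg.Geo.subalgebraNormalizer K ⊓ (Cfsg.GU 9 F q ⊓ Cfsg.Geo.specialLinear (Fin 9) F))) ∧
    (∀ (F₀ : Subfield F) (r : ℕ) (P : Matrix.GeneralLinearGroup (Fin 9) F), r.Prime → Odd r → Fintype.card F = Nat.card F₀ ^ r → Cfsg.Geo.IsFormRationalStructure (Cfsg.hermForm 9 F q) F₀ 1 P → Cfsg.Geo.IsMaximalIn (Cfsg.GU 9 F q ⊓ Cfsg.Geo.specialLinear (Fin 9) F) (Cfsg.Geo.subfieldSubgroup F₀ P ⊓ (Cfsg.GU 9 F q ⊓ Cfsg.Geo.specialLinear (Fin 9) F))) ∧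
    (Odd q → ∀ (F₀ : Subfield F) (P : Matrix.GeneralLinearGroup (Fin 9) F), Fintype.card F = Nat.card F₀ ^ 2 → Cfsg.Geo.IsFormRationalStructure (Cfsg.hermForm 9 F q) F₀ 1 P → Cfsg.Geo.IsMaximalIn (Cfsg.GU 9 F q ⊓ Cfsg.Geo.specialLinear (Fin 9) F) (Cfsg.Geo.subfieldSubgroup F₀ P ⊓ (Cfsg.GU 9 F q ⊓ Cfsg.Geo.specialLinear (Fin 9) F))) ∧
    (∀ (p : ℕ) (R : Subgroup (Matrix.GeneralLinearGroup (Fin 9) F)), p.Prime → q = p → p % 3 = 2 → Cfsg.Geo.IsSymplecticTypeGroup 3 R → Cfsg.Geo.ActsAbsolutelyIrreducibly (Cfsg.Geo.matrixSet R) → R ≤ Cfsg.Geo.similarityGroup (Cfsg.hermForm 9 F q) → Nat.card R = 243 → Nat.card (Subgroup.center R) = 3 → Cfsg.Geo.IsMaximalIn (Cfsg.GU 9 F q ⊓ Cfsg.Geo.specialLinear (Fin 9) F) (Cfsg.Geo.subgroupNormalizer R ⊓ (Cfsg.GU 9 F q ⊓ Cfsg.Geo.specialLinear (Fin 9) F))) ∧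
    (3 ≤ q → ∀ (e : Fin 9 ≃ (Fin 2 → Fin 3)) (P : Matrix.GeneralLinearGroup (Fin 9) F) (f₁ : (Fin 3 → F) → (Fin 3 → F) → F), Cfsg.Geo.IsUnitaryFormPow q f₁ → Cfsg.Geo.IsTensorPowerFormStructure (fun x : F => x ^ q) (Cfsg.hermForm 9 F q) f₁ e P → Cfsg.Geo.IsMaximalIn (Cfsg.GU 9 F q ⊓ Cfsg.Geo.specialLinear (Fin 9) F) (Cfsg.Geo.tensorWreathSubgroup 3 2 e P ⊓ (Cfsg.GU 9 F q ⊓ Cfsg.Geo.specialLinear (Fin 9) F))) := by
  classical
  obtain ⟨c1, c2, c3, c4, c5, c6, c7, c9⟩ := CfsgLib.MaxSub.SuNine.classes q hF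
  refine ⟨c1, c2, c3, c4, c5, c6, c7, fun p R hp hqp h1 hs hirr hsim _ hz => ?_, c9⟩
  exact CfsgLib.MaxSub.SuNine.symp_clause hF
    (fun w h => maximal_coord hF (hqp ▸ hp) (hqp ▸ h1) w h) hp hqp h1 hs hirr hsim hz

end Cfsg.Agent.S5831
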