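import Cfsg.Statements.S5834
import Cfsg.Agent.Lib.MaxSub.OMonoMain
import Cfsg.Agent.Lib.MaxSub.OFrameCoord
import Cfsg.Agent.Lib.MaxSub.OExtMatrix
import Cfsg.Agent.Lib.MaxSub.RatNine
import Cfsg.Agent.Lib.MaxSub.TWr.Concrete
import Cfsg.Agent.Lib.Geom.NondegMaxCases
import Cfsg.Agent.Lib.Classical.StdQuad
import Cfsg.Agent.Lib.Aschbacher.OrthOdd

set_option autoImplicit false
open Cfsg CfsgLib.Geom

namespace Cfsg.Agent.S5834

/-- Maximal subgroups of Ω_9(q) of geometric type, q odd. Let F be a finite field of odd order q, Q the standard quadratic form x₀² + Σ x_i y_i on F^9 (coordinates Unit ⊕ (Fin 4 ⊕ Fin 4)), and Ω = Ω_9(q) the commutator subgroup of its isometry group, inside GL_9(F). Each of the following, intersected with Ω, is a maximal subgroup of Ω: (1) the stabiliser of any non-zero subspace on which Q vanishes identically (totally singular 1- to 4-spaces); (2) the stabiliser of any non-zero even-dimensional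 subspace W (dimension 2, 4, 6 or 8) on which the polar form of Q is non-degenerate (equivalently of its odd-dimensional orthogonal complement), except when q = 3 and W is a 2-space containing a non-zero singular vector (a plus-type plane); (3) for q = p prime, the stabiliser of any decomposition of F^9 into nine pairwise orthogonal, pairwise Q-isometric non-degenerate 1-spaces; (4) for q ≥ 5, the stabiliser of any decomposition of F^9 into three pairwise orthogonal, pairwise Q-isometric non-degenerate 3-spaces; (5) the normaliser of any degree-3 subfield K of the matrix algebra whose elements are self-adjoint for the polar form of Q (Q is then the trace of a quadratic form over K); (6) every subfield group for a subfield F₀ with |F| = |F₀|^r, r prime, whose F₀-structure carries Q; (7) for q ≥ 5, the stabiliser of any decomposition of the polar form of Q as the tensor square of a non-degenerate symmetric bilinear form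 on F^3 up to a scalar (tensor-wreath subgroup). -/
theorem result {F : Type*} [Field F] [Fintype F] (hodd : Odd (Fintype.card F)) :
    (∀ W : Submodule F (Unit ⊕ (Fin 4 ⊕ Fin 4) → F), W ≠ ⊥ → Cfsg.Geo.IsTotallySingularQuad (Cfsg.quadFormOdd 4 F) W → Cfsg.Geo.IsMaximalIn (Cfsg.Geo.omegaGL (Cfsg.quadFormOdd 4 F)) (Cfsg.Geo.subspaceStabilizer W ⊓ Cfsg.Geo.omegaGL (Cfsg.quadFormOdd 4 F))) ∧
    (∀ W : Submodule F (Unit ⊕ (Fin 4 ⊕ Fin 4) → F), W ≠ ⊥ → Even (Module.finrank F W) → Cfsg.Geo.IsNondegenerateOn (QuadraticMap.polar (Cfsg.quadFormOdd 4 F)) W → ¬ (Fintype.card F = 3 ∧ Module.finrank F W = 2 ∧ Cfsg.Geo.IsPlusTypeOn (Cfsg.quadFormOdd 4 F) W) → Cfsg.Geo.IsMaximalIn (Cfsg.Geo.omegaGL (Cfsg.quadFormOdd 4 F)) (Cfsg.Geo.subspaceStabilizer W ⊓ Cfsg.Geo.omegaGL (Cfsg.quadFormOdd 4 F))) ∧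
    ((Fintype.card F).Prime → ∀ D : Fin 9 → Submodule F (Unit ⊕ (Fin 4 ⊕ Fin 4) → F), Cfsg.Geo.IsOrthogonalMDecomposition (Cfsg.quadFormOdd 4 F) 1 D → Cfsg.Geo.IsMaximalIn (Cfsg.Geo.omegaGL (Cfsg.quadFormOdd 4 F)) (Cfsg.Geo.decompositionStabilizer D ⊓ Cfsg.Geo.omegaGL (Cfsg.quadFormOdd 4 F))) ∧
    (5 ≤ Fintype.card F → ∀ D : Fin 3 → Submodule F (Unit ⊕ (Fin 4 ⊕ Fin 4) → F), Cfsg.Geo.IsOrthogonalMDecomposition (Cfsg.quadFormOdd 4 F) 3 D → Cfsg.Geo.IsMaximalIn (Cfsg.Geo.omegaGL (Cfsg.quadFormOdd 4 F)) (Cfsg.Geo.decompositionStabilizer D ⊓ Cfsg.Geo.omegaGL (Cfsg.quadFormOdd 4 F))) ∧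
    (∀ K : Subalgebra F (Matrix (Unit ⊕ (Fin 4 ⊕ Fin 4)) (Unit ⊕ (Fin 4 ⊕ Fin 4)) F), Cfsg.Geo.IsFieldSubalgebra 3 K → Cfsg.Geo.IsSelfAdjointFor (QuadraticMap.polar (Cfsg.quadFormOdd 4 F)) K → Cfsg.Geo.IsMaximalIn (Cfsg.Geo.omegaGL (Cfsg.quadFormOdd 4 F)) (Cfsg.Geo.subalgebraNormalizer K ⊓ Cfsg.Geo.omegaGL (Cfsg.quadFormOdd 4 F))) ∧
    (∀ (F₀ : Subfield F) (r : ℕ) (P : Matrix.GeneralLinearGroup (Unit ⊕ (Fin 4 ⊕ Fin 4)) F), r.Prime → Fintype.card F = Nat.card F₀ ^ r → Cfsg.Geo.IsQuadFormRationalStructure (Cfsg.quadFormOdd 4 F) F₀ P → Cfsg.Geo.IsMaximalIn (Cfsg.Geo.omegaGL (Cfsg.quadFormOdd 4 F)) (Cfsg.Geo.subfieldSubgroup F₀ P ⊓ Cfsg.Geo.omegaGL (Cfsg.quadFormOdd 4 F))) ∧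
    (5 ≤ Fintype.card F → ∀ (e : (Unit ⊕ (Fin 4 ⊕ Fin 4)) ≃ (Fin 2 → Fin 3)) (P : Matrix.GeneralLinearGroup (Unit ⊕ (Fin 4 ⊕ Fin 4)) F) (f₁ : (Fin 3 → F) → (Fin 3 → F) → F), Cfsg.Geo.IsSymmetricForm f₁ → Cfsg.Geo.IsTensorPowerFormStructure id (QuadraticMap.polar (Cfsg.quadFormOdd 4 F)) f₁ e P → Cfsg.Geo.IsMaximalIn (Cfsg.Geo.omegaGL (Cfsg.quadFormOdd 4 F)) (Cfsg.Geo.tensorWreathSubgroup 3 2 e P ⊓ Cfsg.Geo.omegaGL (Cfsg.quadFormOdd 4 F))) := by
  classical
  have h2 : (2 : F) ≠ 0 := CfsgLib.Classical.two_ne_zero_of_odd hodd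
  have hf : ⇑(CfsgLib.Classical.qfOdd 4 F) = Cfsg.quadFormOdd 4 F := funext (CfsgLib.Classical.qfOdd_apply 4)
  have hQ' := CfsgLib.Classical.qfOdd_sep (F := F) h2 4
  have hn : Module.finrank F (Unit ⊕ (Fin 4 ⊕ Fin 4) → F) = 9 := by
    rw [Module.finrank_fintype_fun_eq_card]; simp
  have hc : Fintype.card (Unit ⊕ (Fin 4 ⊕ Fin 4)) = 9 := by simp
  have hsm : ∀ (c : F) (v : Unit ⊕ (Fin 4 ⊕ Fin 4) → F),
      Cfsg.quadFormOdd 4 F (c • v) = c ^ 2 * Cfsg.quadFormOdd 4 F v := fun c v => by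
    rw [← hf, quad_smul, sq]
  have h3 : 3 ≤ Fintype.card F := by
    have := Fintype.one_lt_card (α := F)
    rcases hodd with ⟨k, hk⟩
    omega
  refine ⟨fun W hW0 hW => ?_, fun W hW0 hev hW hex => ?_, fun hp D hD => ?_, fun hq D hD => ?_,
    fun K hK hsa => ?_, fun F₀ r P hr hcard hP => ?_, fun hq e P f₁ hf₁ hT => ?_⟩
  · have hW' : ∀ x ∈ W, CfsgLib.Classical.qfOdd 4 F x = 0 := fun x hx => (congrFun hf x).trans (hW x hx)
    refine omega_isMaximalIn (CfsgLib.Classical.qfOdd 4 F) hf W (OrthSub.parabolic_moved hQ' (by omega) hW' hW0)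
      fun M hM => OrthSub.parabolic_maximal hQ' (by omega) hW' ?_ hM
    have hk := OrthSub.totallySingular_finrank hQ' hW'
    by_cases h : 2 * Module.finrank F W + 3 ≤ 9
    · exact Or.inl (by omega)
    · refine Or.inr fun t ht hp => ?_
      by_contra htW
      obtain ⟨U, hU, hd⟩ := OrthSub.totallySingular_sup hW' ht hp htW
      have := OrthSub.totallySingular_finrank hQ' hU
      omega
  · have hW1 : W ≠ ⊤ := fun e => by
      rw [e, finrank_top, hn] at hev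
      exact absurd hev (by decide)
    refine OrthSub.nondeg_isMaximalIn (CfsgLib.Classical.qfOdd 4 F) hf hQ' (Or.inl (by omega)) hW0 hW1
      (fun x hx h => ?_) ?_ ?_ (fun h => by omega)
    · by_contra hne
      obtain ⟨y, hy, hxy⟩ := (hW x hx hne).2
      exact hxy (hf ▸ h y hy)
    · rintro ⟨hq, hd, hz⟩
      rw [hf] at hz
      exact hex ⟨le_antisymm hq h3, hd, OrthSub.isPlusTypeOn_of_singular hsm hd hz⟩
    · rintro U - hsum - ⟨-, hd, -⟩
      obtain ⟨k, hk⟩ := hev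
      omega
  · exact CfsgLib.MaxSub.OMono.isMaximalIn_frame (CfsgLib.Classical.qfOdd 4 F) hf hp h2 (by omega)
      (by rw [hc]; decide) hD
  · exact CfsgLib.MaxSub.OFrame.isMaximalIn_decomposition (CfsgLib.Classical.qfOdd 4 F) hf hQ' (by omega) h2
      le_rfl (fun _ => by rw [Nat.card_eq_fintype_card]; exact hq) hD
  · exact CfsgLib.MaxSub.OExt.extension_maximal_odd (CfsgLib.Aschbacher.OrthOdd.quadOdd_nondeg h2) h2 Nat.prime_three
      (fun k hk => by omega) K hK hsa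
  · refine CfsgLib.MaxSub.subfield_isMaximalIn_nine (CfsgLib.Classical.qfOdd 4 F) hf hQ' F₀ r hr hcard hc h2 P
      one_ne_zero ?_
    intro u hu
    simp only [one_mul]
    exact hP u hu
  · rw [← hf] at hT ⊢
    exact CfsgLib.MaxSub.TWr.tensor_wreath_nine (CfsgLib.Classical.qfOdd 4 F) hQ' hodd hq e P hf₁ hT

end Cfsg.Agent.S5834
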