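import Cfsg.Statements.S5835
import Cfsg.Agent.Lib.Aschbacher.OrthOddLists
import Cfsg.Agent.Lib.Aschbacher.OrthFrame

set_option autoImplicit false
open Cfsg

namespace Cfsg.Agent.S5835

/-- Every maximal subgroup of Ω_9(q), q odd, is of one of the listed geometric types or lies in the residual class. Let F be a finite field of odd order q, Q the standard quadratic form x₀² + Σ x_i y_i on F^9 (coordinates Unit ⊕ (Fin 4 ⊕ Fin 4)), Ω the commutator subgroup of its isometry group, and H a maximal subgroup of Ω (inside GL_9(F)). Then H is the intersection with Ω of one of: the stabiliser of a non-zero totally singular subspace; the stabiliser of a non-zero non-degenerate subspace of even dimension (not a plus-type plane when q = 3); for q prime, the stabiliser of a decomposition into nine pairwise orthogonal, pairwise isometric non-degenerate 1-spaces; for q ≥ 5, the stabiliser of a decomposition into three pairwise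 orthogonal, pairwise isometric non-degenerate 3-spaces; the normaliser of a degree-3 subfield of the matrix algebra, self-adjoint for the polar form; a subfield group (|F| = |F₀|^r, r prime) whose F₀-structure carries Q; for q ≥ 5, the stabiliser of a tensor decomposition of the polar form as a tensor square of a symmetric form on F^3 — or else H lies in the residual class of the orthogonal case (modulo scalars H is almost simple, with absolutely irreducible perfect socle preimage realisable over no proper subfield and fixing no non-degenerate unitary form). -/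
theorem result {F : Type*} [Field F] [Fintype F] (hodd : Odd (Fintype.card F)) (H : Subgroup (Matrix.GeneralLinearGroup (Unit ⊕ (Fin 4 ⊕ Fin 4)) F)) (hH : Cfsg.Geo.IsMaximalIn (Cfsg.Geo.omegaGL (Cfsg.quadFormOdd 4 F)) H) :
    (∃ W : Submodule F (Unit ⊕ (Fin 4 ⊕ Fin 4) → F), W ≠ ⊥ ∧ Cfsg.Geo.IsTotallySingularQuad (Cfsg.quadFormOdd 4 F) W ∧ H = Cfsg.Geo.subspaceStabilizer W ⊓ Cfsg.Geo.omegaGL (Cfsg.quadFormOdd 4 F)) ∨
    (∃ W : Submodule F (Unit ⊕ (Fin 4 ⊕ Fin 4) → F), W ≠ ⊥ ∧ Even (Module.finrank F W) ∧ Cfsg.Geo.IsNondegenerateOn (QuadraticMap.polar (Cfsg.quadFormOdd 4 F)) W ∧ ¬ (Fintype.card F = 3 ∧ Module.finrank F W = 2 ∧ Cfsg.Geo.IsPlusTypeOn (Cfsg.quadFormOdd 4 F) W) ∧ H = Cfsg.Geo.subspaceStabilizer W ⊓ Cfsg.Geo.omegaGL (Cfsg.quadFormOdd 4 F)) ∨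
    ((Fintype.card F).Prime ∧ ∃ D : Fin 9 → Submodule F (Unit ⊕ (Fin 4 ⊕ Fin 4) → F), Cfsg.Geo.IsOrthogonalMDecomposition (Cfsg.quadFormOdd 4 F) 1 D ∧ H = Cfsg.Geo.decompositionStabilizer D ⊓ Cfsg.Geo.omegaGL (Cfsg.quadFormOdd 4 F)) ∨
    (5 ≤ Fintype.card F ∧ ∃ D : Fin 3 → Submodule F (Unit ⊕ (Fin 4 ⊕ Fin 4) → F), Cfsg.Geo.IsOrthogonalMDecomposition (Cfsg.quadFormOdd 4 F) 3 D ∧ H = Cfsg.Geo.decompositionStabilizer D ⊓ Cfsg.Geo.omegaGL (Cfsg.quadFormOdd 4 F)) ∨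
    (∃ K : Subalgebra F (Matrix (Unit ⊕ (Fin 4 ⊕ Fin 4)) (Unit ⊕ (Fin 4 ⊕ Fin 4)) F), Cfsg.Geo.IsFieldSubalgebra 3 K ∧ Cfsg.Geo.IsSelfAdjointFor (QuadraticMap.polar (Cfsg.quadFormOdd 4 F)) K ∧ H = Cfsg.Geo.subalgebraNormalizer K ⊓ Cfsg.Geo.omegaGL (Cfsg.quadFormOdd 4 F)) ∨
    (∃ (F₀ : Subfield F) (r : ℕ) (P : Matrix.GeneralLinearGroup (Unit ⊕ (Fin 4 ⊕ Fin 4)) F), r.Prime ∧ Fintype.card F = Nat.card F₀ ^ r ∧ Cfsg.Geo.IsQuadFormRationalStructure (Cfsg.quadFormOdd 4 F) F₀ P ∧ H = Cfsg.Geo.subfieldSubgroup F₀ P ⊓ Cfsg.Geo.omegaGL (Cfsg.quadFormOdd 4 F)) ∨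
    (5 ≤ Fintype.card F ∧ ∃ (e : (Unit ⊕ (Fin 4 ⊕ Fin 4)) ≃ (Fin 2 → Fin 3)) (P : Matrix.GeneralLinearGroup (Unit ⊕ (Fin 4 ⊕ Fin 4)) F) (f₁ : (Fin 3 → F) → (Fin 3 → F) → F), Cfsg.Geo.IsSymmetricForm f₁ ∧ Cfsg.Geo.IsTensorPowerFormStructure id (QuadraticMap.polar (Cfsg.quadFormOdd 4 F)) f₁ e P ∧ H = Cfsg.Geo.tensorWreathSubgroup 3 2 e P ⊓ Cfsg.Geo.omegaGL (Cfsg.quadFormOdd 4 F)) ∨
    Cfsg.Geo.InOrthogonalResidualClass H := by
  rcases CfsgLib.Aschbacher.Orth.odd_shapes hodd (by norm_num) hH with h | h | h | ⟨t, k, D, htk, ht, hk, hD, hHeq⟩ |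
    ⟨r, K, hr, hdvd, -, hK, hs, hHeq⟩ | h | ⟨n₁, n₂, e, P, f₁, f₂, hn, h1, h12, -, -, -, -⟩ |
    ⟨k, t, e, P, f₁, hn, hk, ht, h33, hf, hs, hHeq⟩ | h
  · exact Or.inl h
  · exact Or.inr (Or.inl h)
  · exact Or.inr (Or.inr (Or.inl h))
  · have htk9 : t * k = 9 := htk
    obtain ⟨rfl, rfl⟩ : t = 3 ∧ k = 3 := by
      have : t ≤ 9 := Nat.le_of_dvd (by norm_num) ⟨k, htk9.symm⟩
      interval_cases t <;> omega
    by_cases hq : 5 ≤ Fintype.card F
    · exact Or.inr (Or.inr (Or.inr (Or.inl ⟨hq, D, hD, hHeq⟩)))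
    have hq3 : Fintype.card F = 3 := by
      have := Fintype.one_lt_card (α := F)
      obtain ⟨a, ha⟩ := hodd
      omega
    have hQe : (⇑(CfsgLib.Classical.qfOdd 4 F)) = Cfsg.quadFormOdd 4 F := CfsgLib.Classical.qfOdd_coe 4
    rw [← hQe] at hD hH
    obtain ⟨D', hD', hle⟩ := CfsgLib.Aschbacher.Orth.exists_frame_of_triples hq3 hD
    refine Or.inr (Or.inr (Or.inl ⟨by rw [hq3]; norm_num, D', hQe ▸ hD', ?_⟩))
    rw [← hQe]
    refine CfsgLib.Aschbacher.maximal_eq hH (fun g hg => hle g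
      (CfsgLib.Aschbacher.omega_isometry (hH.1.le hg)) ?_)
      (CfsgLib.Aschbacher.omega_not_le_decompositionStabilizer
        (CfsgLib.Classical.qfOdd_sep (CfsgLib.Classical.two_ne_zero_of_odd hodd) 4) (by simp) hD'.decomp.decomp)
    rw [hHeq] at hg
    exact hg.1
  · have hr3 : r = 3 := (Nat.prime_dvd_prime_iff_eq hr (by norm_num)).1
      (hr.dvd_of_dvd_pow (show r ∣ 3 ^ 2 from hdvd))
    subst hr3
    exact Or.inr (Or.inr (Or.inr (Or.inr (Or.inl ⟨K, hK, hs, hHeq⟩))))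
  · exact Or.inr (Or.inr (Or.inr (Or.inr (Or.inr (Or.inl h)))))
  · have : n₁ ≤ 9 := Nat.le_of_dvd (by norm_num) ⟨n₂, hn.symm⟩
    interval_cases n₁ <;> omega
  · have hn9 : k ^ t = 9 := hn
    obtain rfl : t = 2 := by
      by_contra h
      have := (Nat.pow_le_pow_left hk t).trans_eq hn9
      have : 3 ^ 3 ≤ 3 ^ t := Nat.pow_le_pow_right (by norm_num) (by omega)
      omega
    obtain rfl : k = 3 := by
      have : k ≤ 9 := by rw [← hn9]; exact Nat.le_self_pow (by norm_num) k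
      interval_cases k <;> simp_all
    refine Or.inr (Or.inr (Or.inr (Or.inr (Or.inr (Or.inr (Or.inl ⟨?_, e, P, f₁, hf, hs, hHeq⟩))))))
    have := Fintype.one_lt_card (α := F)
    obtain ⟨a, ha⟩ := hodd
    simp at h33
    omega
  · exact Or.inr (Or.inr (Or.inr (Or.inr (Or.inr (Or.inr (Or.inr h))))))

end Cfsg.Agent.S5835
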