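import Cfsg.Statements.S5840
import Cfsg.Agent.S5653
import Cfsg.Agent.S5654
import Cfsg.Agent.S5657
import Cfsg.Agent.S5658
import Cfsg.Agent.S5659
import Cfsg.Agent.S5660
import Cfsg.Agent.Lib.MaxSub.UFrameCoord
import Cfsg.Agent.Lib.MaxSub.TensorUnitary
import Cfsg.Agent.Lib.MaxSub.UExtMatrix

set_option autoImplicit false
open Cfsg

namespace Cfsg.Agent.S5840

/-- Maximal subgroups of SU_10(q) of geometric type (any prime power q). Let F be the field with q² elements (characteristic p), f the standard unitary form Σ u_i v_i^q on F^10 and SU_10(q) its determinant-one isometry group inside GL_10(F). Each of the following, intersected with SU_10(q), is a maximal subgroup of SU_10(q): (1) the stabiliser of any non-zero subspace on which f vanishes identically (totally isotropic subspaces, of dimension 1 to 5); (2) the stabiliser of any non-zero non-degenerate subspace W with 2 dim W < 10 (dimension 1 to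 4); (3) the stabiliser of any decomposition of F^10 into 10 mutually orthogonal non-degenerate 1-spaces; (4) for q ≥ 3, the stabiliser of any decomposition of F^10 into 5 mutually orthogonal non-degenerate 2-spaces; (5) the stabiliser of any decomposition of F^10 into 2 mutually orthogonal non-degenerate 5-spaces; (6) the stabiliser of any decomposition into two totally isotropic 5-spaces; (7) the normaliser of any degree-5 subfield of the matrix algebra closed under adjoints for f; (8) for q ≥ 3, the stabiliser of any tensor decomposition of f as (unitary form on F^2) ⊗ (unitary form on F^5) up to a scalar; (9) every subfield group for a subfield F₀ of odd prime index in F whose F₀-structure carries f; (10) every subfield group for the subfield F₀ of index 2 whose F₀-structure carries ζ f, vanishing on pairs (u, u), for a non-zero ζ with ζ + ζ^q = 0 (symplectic type); (11) for q odd, every subfield group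 for the subfield F₀ of index 2 whose F₀-structure carries f (orthogonal type, either sign). -/
theorem result {F : Type*} [Field F] [Fintype F] (q : ℕ) (hF : Fintype.card F = q ^ 2) :
    (∀ W : Submodule F (Fin 10 → F), W ≠ ⊥ → Cfsg.Geo.IsTotallySingularFor (Cfsg.hermForm 10 F q) W → Cfsg.Geo.IsMaximalIn (Cfsg.GU 10 F q ⊓ Cfsg.Geo.specialLinear (Fin 10) F) (Cfsg.Geo.subspaceStabilizer W ⊓ (Cfsg.GU 10 F q ⊓ Cfsg.Geo.specialLinear (Fin 10) F))) ∧
    (∀ W : Submodule F (Fin 10 → F), W ≠ ⊥ → Cfsg.Geo.IsNondegenerateOn (Cfsg.hermForm 10 F q) W → 2 * Module.finrank F W < 10 → Cfsg.Geo.IsMaximalIn (Cfsg.GU 10 F q ⊓ Cfsg.Geo.specialLinear (Fin 10) F) (Cfsg.Geo.subspaceStabilizer W ⊓ (Cfsg.GU 10 F q ⊓ Cfsg.Geo.specialLinear (Fin 10) F))) ∧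
    (∀ D : Fin 10 → Submodule F (Fin 10 → F), Cfsg.Geo.IsNondegenerateMDecomposition (Cfsg.hermForm 10 F q) 1 D → Cfsg.Geo.IsMaximalIn (Cfsg.GU 10 F q ⊓ Cfsg.Geo.specialLinear (Fin 10) F) (Cfsg.Geo.decompositionStabilizer D ⊓ (Cfsg.GU 10 F q ⊓ Cfsg.Geo.specialLinear (Fin 10) F))) ∧
    (3 ≤ q → ∀ D : Fin 5 → Submodule F (Fin 10 → F), Cfsg.Geo.IsNondegenerateMDecomposition (Cfsg.hermForm 10 F q) 2 D → Cfsg.Geo.IsMaximalIn (Cfsg.GU 10 F q ⊓ Cfsg.Geo.specialLinear (Fin 10) F) (Cfsg.Geo.decompositionStabilizer D ⊓ (Cfsg.GU 10 F q ⊓ Cfsg.Geo.specialLinear (Fin 10) F))) ∧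
    (∀ D : Fin 2 → Submodule F (Fin 10 → F), Cfsg.Geo.IsNondegenerateMDecomposition (Cfsg.hermForm 10 F q) 5 D → Cfsg.Geo.IsMaximalIn (Cfsg.GU 10 F q ⊓ Cfsg.Geo.specialLinear (Fin 10) F) (Cfsg.Geo.decompositionStabilizer D ⊓ (Cfsg.GU 10 F q ⊓ Cfsg.Geo.specialLinear (Fin 10) F))) ∧
    (∀ D : Fin 2 → Submodule F (Fin 10 → F), Cfsg.Geo.IsMDecomposition 5 D → (∀ i, Cfsg.Geo.IsTotallySingularFor (Cfsg.hermForm 10 F q) (D i)) → Cfsg.Geo.IsMaximalIn (Cfsg.GU 10 F q ⊓ Cfsg.Geo.specialLinear (Fin 10) F) (Cfsg.Geo.decompositionStabilizer D ⊓ (Cfsg.GU 10 F q ⊓ Cfsg.Geo.specialLinear (Fin 10) F))) ∧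
    (∀ K : Subalgebra F (Matrix (Fin 10) (Fin 10) F), Cfsg.Geo.IsFieldSubalgebra 5 K → Cfsg.Geo.IsAdjointClosedFor (Cfsg.hermForm 10 F q) K → Cfsg.Geo.IsMaximalIn (Cfsg.GU 10 F q ⊓ Cfsg.Geo.specialLinear (Fin 10) F) (Cfsg.Geo.subalgebraNormalizer K ⊓ (Cfsg.GU 10 F q ⊓ Cfsg.Geo.specialLinear (Fin 10) F))) ∧
    (3 ≤ q → ∀ (e : Fin 10 ≃ Fin 2 × Fin 5) (P : Matrix.GeneralLinearGroup (Fin 10) F) (f₁ : (Fin 2 → F) → (Fin 2 → F) → F) (f₂ : (Fin 5 → F) → (Fin 5 → F) → F), Cfsg.Geo.IsUnitaryFormPow q f₁ → Cfsg.Geo.IsUnitaryFormPow q f₂ → Cfsg.Geo.IsTensorFormStructure (fun x : F => x ^ q) (Cfsg.hermForm 10 F q) f₁ f₂ e P → Cfsg.Geo.IsMaximalIn (Cfsg.GU 10 F q ⊓ Cfsg.Geo.specialLinear (Fin 10) F) (Cfsg.Geo.tensorProductSubgroup 2 5 e P ⊓ (Cfsg.GU 10 F q ⊓ Cfsg.Geo.specialLinear (Fin 10) F))) ∧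
    (∀ (F₀ : Subfield F) (r : ℕ) (P : Matrix.GeneralLinearGroup (Fin 10) F), r.Prime → Odd r → Fintype.card F = Nat.card F₀ ^ r → Cfsg.Geo.IsFormRationalStructure (Cfsg.hermForm 10 F q) F₀ 1 P → Cfsg.Geo.IsMaximalIn (Cfsg.GU 10 F q ⊓ Cfsg.Geo.specialLinear (Fin 10) F) (Cfsg.Geo.subfieldSubgroup F₀ P ⊓ (Cfsg.GU 10 F q ⊓ Cfsg.Geo.specialLinear (Fin 10) F))) ∧
    (∀ (F₀ : Subfield F) (P : Matrix.GeneralLinearGroup (Fin 10) F) (ζ : F), Fintype.card F = Nat.card F₀ ^ 2 → ζ ≠ 0 → ζ + ζ ^ q = 0 → Cfsg.Geo.IsFormRationalStructure (Cfsg.hermForm 10 F q) F₀ ζ P → (∀ u : Fin 10 → F, (∀ i, u i ∈ F₀) → (Cfsg.hermForm 10 F q) (Matrix.mulVec (P : Matrix (Fin 10) (Fin 10) F) u) (Matrix.mulVec (P : Matrix (Fin 10) (Fin 10) F) u) = 0) → Cfsg.Geo.IsMaximalIn (Cfsg.GU 10 F q ⊓ Cfsg.Geo.specialLinear (Fin 10) F) (Cfsg.Geo.subfieldSubgroup F₀ P ⊓ (Cfsg.GU 10 F q ⊓ Cfsg.Geo.specialLinear (Fin 10) F))) ∧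
    (Odd q → ∀ (F₀ : Subfield F) (P : Matrix.GeneralLinearGroup (Fin 10) F), Fintype.card F = Nat.card F₀ ^ 2 → Cfsg.Geo.IsFormRationalStructure (Cfsg.hermForm 10 F q) F₀ 1 P → Cfsg.Geo.IsMaximalIn (Cfsg.GU 10 F q ⊓ Cfsg.Geo.specialLinear (Fin 10) F) (Cfsg.Geo.subfieldSubgroup F₀ P ⊓ (Cfsg.GU 10 F q ⊓ Cfsg.Geo.specialLinear (Fin 10) F))) := by
  classical
  exact ⟨fun W h0 hW => Cfsg.Agent.S5653.base 10 q hF (by norm_num) W h0 hW,
    fun W h0 hW hd => Cfsg.Agent.S5654.base 10 q hF (by norm_num) W h0 hW hd,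
    fun D hD => CfsgLib.MaxSub.UFrame.isMaximalIn_decomposition hF (by norm_num) (fun h => by omega) hD,
    fun hq D hD => CfsgLib.MaxSub.UFrame.isMaximalIn_decomposition hF (by norm_num) (fun h => by omega) hD,
    fun D hD => CfsgLib.MaxSub.UFrame.isMaximalIn_decomposition hF (by norm_num) (fun h => by omega) hD,
    fun D hD hts => Cfsg.Agent.S5657.base 10 q hF (by norm_num) 5 (by norm_num) D hD hts,
    fun K hK hac => CfsgLib.MaxSub.UExt.extension_maximal' hF Nat.prime_five ⟨2, rfl⟩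
      (Or.inr ⟨le_rfl, le_rfl⟩) K hK hac,
    fun hq e P f₁ f₂ h₁ h₂ hT => CfsgLib.MaxSub.TensorUnit.tensor_unitary_maximal' hF (by norm_num)
      (by norm_num) (by norm_num) (fun h => by omega) e P f₁ f₂ h₁ h₂ hT,
    fun F₀ r P hr hro hc hP => Cfsg.Agent.S5658.base 10 q hF (by norm_num) F₀ r hr hro hc P hP,
    fun F₀ P ζ hc hζ0 hζ hP halt => Cfsg.Agent.S5660.base 10 q hF (by norm_num) (by decide) F₀ hc ζ hζ0 hζ P hP halt,
    fun hodd F₀ P hc hP => Cfsg.Agent.S5659.base 10 q hF (by norm_num) hodd F₀ hc P hP⟩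

end Cfsg.Agent.S5840
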