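import Cfsg.Statements.S5846
import Cfsg.Agent.Lib.Geom.NondegHalf
import Cfsg.Agent.Lib.Geom.PointMax
import Cfsg.Agent.Lib.Classical.StdQuad
import Cfsg.Agent.Lib.MaxSub.OExtMatrix
import Cfsg.Agent.Lib.MaxSub.RatOmega
import Cfsg.Agent.Lib.MaxSub.OLinesTop
import Cfsg.Agent.Lib.MaxSub.ORefl.Cases
import Cfsg.Agent.Lib.MaxSub.OmegaHalves

set_option autoImplicit false
open Cfsg CfsgLib.Geom

namespace Cfsg.Agent.S5846

/-- Maximal subgroups of Ω_10^+(q) of geometric type (any q). Let F be a finite field with q elements (characteristic p), Q a non-degenerate quadratic form on F^10 (non-degenerate polar form) of plus type (Witt index 5: some totally singular 5-space), and Ω = Ω_10^+(q) the commutator subgroup of the isometry group of Q, inside GL_10(F). Each of the following, intersected with Ω, is a maximal subgroup of Ω: (1) the stabiliser of any non-zero subspace on which Q vanishes identically other than those of dimension 4 (totally singular subspaces,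 dimensions 1, 2, 3 and 5); (2) for q odd, the stabiliser of any proper subspace of odd dimension other than 5 on which the polar form of Q is non-degenerate; (3) the stabiliser of any non-degenerate 2-space of minus type (containing no non-zero singular vector); (4) for q ≥ 4, the stabiliser of any non-degenerate 2-space of plus type (containing a non-zero singular vector); (5) the stabiliser of any non-degenerate 4-space (either type); (6) for q even, the stabiliser of the 1-space spanned by any non-singular vector v (Q(v) ≠ 0); (7) for q = p prime with p ≡ 1 mod 4, the stabiliser of any decomposition of F^10 into 10 pairwise orthogonal, pairwise Q-isometric non-degenerate 1-spaces; (8) for q ≥ 7, the stabiliser of any decomposition of F^10 into 5 pairwise orthogonal, pairwise Q-isometric non-degenerate 2-spaces; (9) for q ≡ 1 mod 4, the stabiliser of any decomposition of F^10 into 2 pairwise orthogonal, pairwise Q-isometric non-degenerate 5-spaces;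 (10) for q ≡ 3 mod 4, the stabiliser of any decomposition of F^10 into two orthogonal non-degenerate 5-spaces that are not Q-isometric; (11) for q odd, the normaliser of any degree-2 subfield K of the matrix algebra whose elements are self-adjoint for the polar form of Q (Q is then the trace of a quadratic form over K); (12) every subfield group for a subfield F₀ with |F| = |F₀|^r, r prime, whose F₀-structure carries a non-zero scalar multiple of Q. -/
theorem result {F : Type*} [Field F] [Fintype F] (Q : (Fin 10 → F) → F) (hQ : Cfsg.Geo.IsNondegenerateQuadraticForm Q) (hplus : Cfsg.Geo.IsPlusTypeOn Q ⊤) :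
    (∀ W : Submodule F (Fin 10 → F), W ≠ ⊥ → Cfsg.Geo.IsTotallySingularQuad Q W → Module.finrank F W ≠ 4 → Cfsg.Geo.IsMaximalIn (Cfsg.Geo.omegaGL Q) (Cfsg.Geo.subspaceStabilizer W ⊓ Cfsg.Geo.omegaGL Q)) ∧
    (Odd (Fintype.card F) → ∀ W : Submodule F (Fin 10 → F), W ≠ ⊥ → W ≠ ⊤ → Odd (Module.finrank F W) → 2 * Module.finrank F W ≠ 10 → Cfsg.Geo.IsNondegenerateOn (QuadraticMap.polar Q) W → Cfsg.Geo.IsMaximalIn (Cfsg.Geo.omegaGL Q) (Cfsg.Geo.subspaceStabilizer W ⊓ Cfsg.Geo.omegaGL Q)) ∧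
    (∀ W : Submodule F (Fin 10 → F), Module.finrank F W = 2 → Cfsg.Geo.IsNondegenerateOn (QuadraticMap.polar Q) W → ¬ Cfsg.Geo.IsPlusTypeOn Q W → Cfsg.Geo.IsMaximalIn (Cfsg.Geo.omegaGL Q) (Cfsg.Geo.subspaceStabilizer W ⊓ Cfsg.Geo.omegaGL Q)) ∧
    (4 ≤ Fintype.card F → ∀ W : Submodule F (Fin 10 → F), Module.finrank F W = 2 → Cfsg.Geo.IsNondegenerateOn (QuadraticMap.polar Q) W → Cfsg.Geo.IsPlusTypeOn Q W → Cfsg.Geo.IsMaximalIn (Cfsg.Geo.omegaGL Q) (Cfsg.Geo.subspaceStabilizer W ⊓ Cfsg.Geo.omegaGL Q)) ∧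
    (∀ W : Submodule F (Fin 10 → F), Module.finrank F W = 4 → Cfsg.Geo.IsNondegenerateOn (QuadraticMap.polar Q) W → Cfsg.Geo.IsMaximalIn (Cfsg.Geo.omegaGL Q) (Cfsg.Geo.subspaceStabilizer W ⊓ Cfsg.Geo.omegaGL Q)) ∧
    (¬ Odd (Fintype.card F) → ∀ v : (Fin 10 → F), Q v ≠ 0 → Cfsg.Geo.IsMaximalIn (Cfsg.Geo.omegaGL Q) (Cfsg.Geo.subspaceStabilizer (Submodule.span F {v}) ⊓ Cfsg.Geo.omegaGL Q)) ∧
    ((∃ p : ℕ, p.Prime ∧ Fintype.card F = p ∧ (p % 4 = 1)) → ∀ D : Fin 10 → Submodule F (Fin 10 → F), Cfsg.Geo.IsOrthogonalMDecomposition Q 1 D → Cfsg.Geo.IsMaximalIn (Cfsg.Geo.omegaGL Q) (Cfsg.Geo.decompositionStabilizer D ⊓ Cfsg.Geo.omegaGL Q)) ∧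
    (7 ≤ Fintype.card F → ∀ D : Fin 5 → Submodule F (Fin 10 → F), Cfsg.Geo.IsOrthogonalMDecomposition Q 2 D → Cfsg.Geo.IsMaximalIn (Cfsg.Geo.omegaGL Q) (Cfsg.Geo.decompositionStabilizer D ⊓ Cfsg.Geo.omegaGL Q)) ∧
    (Fintype.card F % 4 = 1 → ∀ D : Fin 2 → Submodule F (Fin 10 → F), Cfsg.Geo.IsOrthogonalMDecomposition Q 5 D → Cfsg.Geo.IsMaximalIn (Cfsg.Geo.omegaGL Q) (Cfsg.Geo.decompositionStabilizer D ⊓ Cfsg.Geo.omegaGL Q)) ∧
    (Fintype.card F % 4 = 3 → ∀ D : Fin 2 → Submodule F (Fin 10 → F), Cfsg.Geo.IsNondegenerateMDecomposition (QuadraticMap.polar Q) 5 D → ¬ Cfsg.Geo.AreIsometricFor Q (D 0) (D 1) → Cfsg.Geo.IsMaximalIn (Cfsg.Geo.omegaGL Q) (Cfsg.Geo.decompositionStabilizer D ⊓ Cfsg.Geo.omegaGL Q)) ∧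
    (Odd (Fintype.card F) → ∀ K : Subalgebra F (Matrix (Fin 10) (Fin 10) F), Cfsg.Geo.IsFieldSubalgebra 2 K → Cfsg.Geo.IsSelfAdjointFor (QuadraticMap.polar Q) K → Cfsg.Geo.IsMaximalIn (Cfsg.Geo.omegaGL Q) (Cfsg.Geo.subalgebraNormalizer K ⊓ Cfsg.Geo.omegaGL Q)) ∧
    (∀ (F₀ : Subfield F) (r : ℕ) (P : Matrix.GeneralLinearGroup (Fin 10) F) (ζ : F), r.Prime → Fintype.card F = Nat.card F₀ ^ r → ζ ≠ 0 → Cfsg.Geo.IsQuadFormRationalStructure (fun v : Fin 10 → F => ζ * Q v) F₀ P → Cfsg.Geo.IsMaximalIn (Cfsg.Geo.omegaGL Q) (Cfsg.Geo.subfieldSubgroup F₀ P ⊓ Cfsg.Geo.omegaGL Q)) := by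
  classical
  have hQ' := quadFormOf_sep hQ
  have hn : Module.finrank F (Fin 10 → F) = 10 := Module.finrank_fin_fun F
  have h5 : 5 ≤ Module.finrank F (Fin 10 → F) := by omega
  have hnd : ∀ W : Submodule F (Fin 10 → F), Cfsg.Geo.IsNondegenerateOn (QuadraticMap.polar Q) W →
      ∀ x ∈ W, (∀ y ∈ W, QuadraticMap.polar (quadFormOf hQ) x y = 0) → x = 0 := fun W hW x hx h => by
    by_contra hne
    obtain ⟨y, hy, hxy⟩ := (hW x hx hne).2
    exact hxy (h y hy)
  -- non-degenerate subspaces which are not of half the dimension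
  have hgen : ∀ W : Submodule F (Fin 10 → F), W ≠ ⊥ → W ≠ ⊤ → Module.finrank F W ≠ 5 → Module.finrank F W ≠ 8 →
      Cfsg.Geo.IsNondegenerateOn (QuadraticMap.polar Q) W →
      ¬ (Fintype.card F ≤ 3 ∧ Module.finrank F W = 2 ∧ Cfsg.Geo.IsPlusTypeOn Q W) →
      Cfsg.Geo.IsMaximalIn (Cfsg.Geo.omegaGL Q) (Cfsg.Geo.subspaceStabilizer W ⊓ Cfsg.Geo.omegaGL Q) := by
    intro W hW0 hW1 hhalf hco hW hex
    refine OrthSub.nondeg_isMaximalIn (quadFormOf hQ) rfl hQ' (Or.inl (by simp)) hW0 hW1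
      (hnd W hW) ?_ ?_ (fun h => absurd h (by simp; omega))
    · rintro ⟨hq, hd, hz⟩
      exact hex ⟨hq, hd, OrthSub.isPlusTypeOn_of_singular hQ.smul hd hz⟩
    · rintro U - hsum - ⟨-, hd, -⟩
      rw [Fintype.card_fin] at hsum
      omega
  have hne : ∀ (W : Submodule F (Fin 10 → F)) (d : ℕ), Module.finrank F W = d → 0 < d → d < 10 → W ≠ ⊥ ∧ W ≠ ⊤ :=
    fun W d hd h0 h1 => ⟨fun e => by rw [e, finrank_bot] at hd; omega, fun e => by rw [e, finrank_top, hn] at hd; omega⟩
  have h2odd : Odd (Fintype.card F) → (2 : F) ≠ 0 := fun hodd => CfsgLib.Classical.two_ne_zero_of_odd hodd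
  have hsub : ∀ (F₀ : Subfield F) (r : ℕ) (P : Matrix.GeneralLinearGroup (Fin 10) F) (ζ : F), r.Prime →
      Fintype.card F = Nat.card F₀ ^ r → ζ ≠ 0 →
      Cfsg.Geo.IsQuadFormRationalStructure (fun v : Fin 10 → F => ζ * Q v) F₀ P →
      Cfsg.Geo.IsMaximalIn (Cfsg.Geo.omegaGL Q) (Cfsg.Geo.subfieldSubgroup F₀ P ⊓ Cfsg.Geo.omegaGL Q) := by
    intro F₀ r P ζ hr hcard hζ hP
    refine CfsgLib.MaxSub.subfield_isMaximalIn_gen (quadFormOf hQ) rfl hQ' F₀ r hr hcard ?_ P hζ hP
    by_cases h2 : (2 : F) = 0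
    · exact Or.inr ⟨h2, by simp⟩
    · exact Or.inl (Or.inr (Or.inr (Or.inr (Or.inr ⟨Or.inr ⟨by rw [Fintype.card_fin]; decide, by simp⟩, h2⟩))))
  refine ⟨fun W hW0 hW h4 => ?_, fun _ W hW0 hW1 hodd hne5 hW => ?_, fun W hd hW hm => ?_, fun hq W hd hW _ => ?_,
    fun W hd hW => ?_, fun hchar v hv => ?_, fun hp D hD => ?_, fun hq D hD => ?_, fun hq D hD => ?_,
    fun hq D hD hni => ?_, fun hodd K hK hsa => ?_, hsub⟩
  · have hW' : ∀ x ∈ W, quadFormOf hQ x = 0 := hW
    refine omega_isMaximalIn (quadFormOf hQ) rfl W (OrthSub.parabolic_moved hQ' (by omega) hW' hW0)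
      fun M hM => OrthSub.parabolic_maximal hQ' (by omega) hW' ?_ hM
    have hk := OrthSub.totallySingular_finrank hQ' hW'

    by_cases h : 2 * Module.finrank F W + 3 ≤ 10
    · exact Or.inl (by omega)
    · refine Or.inr fun t ht hp => ?_
      by_contra htW
      obtain ⟨U, hU, hd⟩ := OrthSub.totallySingular_sup hW' ht hp htW
      have := OrthSub.totallySingular_finrank hQ' hU

      omega
  · obtain ⟨a, ha⟩ := hodd
    exact hgen W hW0 hW1 (by omega) (by omega) hW fun h => by omega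
  · exact hgen W (hne W 2 hd (by omega) (by omega)).1 (hne W 2 hd (by omega) (by omega)).2 (by omega) (by omega) hW
      fun h => hm h.2.2
  · exact hgen W (hne W 2 hd (by omega) (by omega)).1 (hne W 2 hd (by omega) (by omega)).2 (by omega) (by omega) hW
      fun h => by omega
  · exact hgen W (hne W 4 hd (by omega) (by omega)).1 (hne W 4 hd (by omega) (by omega)).2 (by omega) (by omega) hW
      fun h => by omega
  · have h2 : (2 : F) = 0 := by
      by_contra h
      refine hchar (Nat.odd_iff.2 (FiniteField.odd_card_of_char_ne_two fun hc => h ?_))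
      have := ringChar.spec F 2
      rw [hc] at this
      exact_mod_cast this.2 dvd_rfl
    exact omega_isMaximalIn (quadFormOf hQ) rfl _ (OrthSub.point_moved hQ' (by omega) hv)
      fun M hM => OrthSub.point_maximal hQ' h2 (by omega) hv hM
  · obtain ⟨p, hp, hpc, hpm⟩ := hp
    refine CfsgLib.MaxSub.OLines.isMaximalIn_lines (quadFormOf hQ) rfl (hpc ▸ hp) ?_ (by simp) (by simp) hD
    exact CfsgLib.Classical.two_ne_zero_of_odd (by rw [hpc, Nat.odd_iff]; omega)
  · exact CfsgLib.MaxSub.ORefl.isMaximalIn_frame (quadFormOf hQ) rfl hQ' h5 hD (by omega) (fun _ => le_refl _) (fun h => absurd h (by decide))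
      (fun _ => ⟨by omega, fun h => by omega⟩) (fun h => absurd h (by decide)) (fun h => absurd h (by decide))
  · exact CfsgLib.MaxSub.ORefl.isMaximalIn_frame (quadFormOf hQ) rfl hQ' h5 hD (by omega) (fun h => absurd h (by decide)) (fun _ => Nat.odd_iff.2 (by omega))
      (fun h => absurd h (by decide)) (fun h => absurd h (by decide)) (fun h => absurd h (by decide))
  · exact CfsgLib.MaxSub.OmegaHalves.halves_isMaximalIn (by omega) (by decide) Q hQ 5 (by omega) (by decide) D hD hni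
  · have : Nonempty (Fin 10) := ⟨0⟩
    refine CfsgLib.MaxSub.OExt.extension_maximal'' hQ (h2odd hodd) Nat.prime_two (fun k hk => ?_) K hK hsa
    rw [Fintype.card_fin] at hk
    omega

end Cfsg.Agent.S5846
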