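import Cfsg.Statements.S5850
import Cfsg.Agent.Lib.Aschbacher.OrthTenLists
import Cfsg.Agent.Lib.Aschbacher.OrthTwelvePlanes
import Cfsg.Agent.Lib.MaxSub.FrameThree

set_option autoImplicit false
open Cfsg

namespace Cfsg.Agent.S5850

open Cfsg.Geo Matrix CfsgLib.Aschbacher CfsgLib.Aschbacher.Orth CfsgLib.Classical CfsgLib.Geom CfsgLib.MaxSub

/-- Every maximal subgroup of Ω_10^-(q) is of one of the listed geometric types or lies in the residual class. Let F be a finite field with q elements (characteristic p), Q a non-degenerate quadratic form on F^10 of minus type (Witt index 4: no totally singular 5-space), Ω the commutator subgroup of its isometry group, and H a maximal subgroup of Ω (inside GL_10(F)). Then H is the intersection with Ω of one of: the stabiliser of a non-zero totally singular subspace; for q odd, the stabiliser of a non-degenerate subspace of odd dimension ≠ 5; the stabiliser of a non-degenerate 2-space of minus type;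 for q ≥ 4, the stabiliser of a non-degenerate 2-space of plus type; the stabiliser of a non-degenerate 4-space; for q even, the stabiliser of the span of a non-singular vector; for q = p prime with p ≡ 3 mod 4, the stabiliser of a decomposition into 10 pairwise orthogonal, pairwise isometric non-degenerate 1-spaces; for q ≠ 3, the stabiliser of a decomposition into 5 pairwise orthogonal, pairwise isometric non-degenerate 2-spaces; for q ≡ 3 mod 4, the stabiliser of a decomposition into 2 pairwise orthogonal, pairwise isometric non-degenerate 5-spaces; for q ≡ 1 mod 4, the stabiliser of a decomposition into two orthogonal, non-isometric non-degenerate 5-spaces; for q odd, the normaliser of a degree-2 subfield of the matrix algebra, self-adjoint for the polar form; the normaliser of a degree-2 subfield K, adjoint-closed but not self-adjoint, acting by similarities of Q; a subfield group (|F| = |F₀|^r, r odd prime) whose F₀-structure carries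 a non-zero multiple of Q — or else H lies in the residual class of the orthogonal case (modulo scalars H is almost simple, with absolutely irreducible perfect socle preimage realisable over no proper subfield and fixing no non-degenerate unitary form). -/
theorem result {F : Type*} [Field F] [Fintype F] (Q : (Fin 10 → F) → F) (hQ : Cfsg.Geo.IsNondegenerateQuadraticForm Q) (hminus : ¬ Cfsg.Geo.IsPlusTypeOn Q ⊤) (H : Subgroup (Matrix.GeneralLinearGroup (Fin 10) F)) (hH : Cfsg.Geo.IsMaximalIn (Cfsg.Geo.omegaGL Q) H) :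
    (∃ W : Submodule F (Fin 10 → F), W ≠ ⊥ ∧ Cfsg.Geo.IsTotallySingularQuad Q W ∧ H = Cfsg.Geo.subspaceStabilizer W ⊓ Cfsg.Geo.omegaGL Q) ∨
    (Odd (Fintype.card F) ∧ ∃ W : Submodule F (Fin 10 → F), W ≠ ⊥ ∧ W ≠ ⊤ ∧ Odd (Module.finrank F W) ∧ 2 * Module.finrank F W ≠ 10 ∧ Cfsg.Geo.IsNondegenerateOn (QuadraticMap.polar Q) W ∧ H = Cfsg.Geo.subspaceStabilizer W ⊓ Cfsg.Geo.omegaGL Q) ∨
    (∃ W : Submodule F (Fin 10 → F), Module.finrank F W = 2 ∧ Cfsg.Geo.IsNondegenerateOn (QuadraticMap.polar Q) W ∧ ¬ Cfsg.Geo.IsPlusTypeOn Q W ∧ H = Cfsg.Geo.subspaceStabilizer W ⊓ Cfsg.Geo.omegaGL Q) ∨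
    (4 ≤ Fintype.card F ∧ ∃ W : Submodule F (Fin 10 → F), Module.finrank F W = 2 ∧ Cfsg.Geo.IsNondegenerateOn (QuadraticMap.polar Q) W ∧ Cfsg.Geo.IsPlusTypeOn Q W ∧ H = Cfsg.Geo.subspaceStabilizer W ⊓ Cfsg.Geo.omegaGL Q) ∨
    (∃ W : Submodule F (Fin 10 → F), Module.finrank F W = 4 ∧ Cfsg.Geo.IsNondegenerateOn (QuadraticMap.polar Q) W ∧ H = Cfsg.Geo.subspaceStabilizer W ⊓ Cfsg.Geo.omegaGL Q) ∨
    (¬ Odd (Fintype.card F) ∧ ∃ v : (Fin 10 → F), Q v ≠ 0 ∧ H = Cfsg.Geo.subspaceStabilizer (Submodule.span F {v}) ⊓ Cfsg.Geo.omegaGL Q) ∨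
    ((∃ p : ℕ, p.Prime ∧ Fintype.card F = p ∧ (p % 4 = 3)) ∧ ∃ D : Fin 10 → Submodule F (Fin 10 → F), Cfsg.Geo.IsOrthogonalMDecomposition Q 1 D ∧ H = Cfsg.Geo.decompositionStabilizer D ⊓ Cfsg.Geo.omegaGL Q) ∨
    (Fintype.card F ≠ 3 ∧ ∃ D : Fin 5 → Submodule F (Fin 10 → F), Cfsg.Geo.IsOrthogonalMDecomposition Q 2 D ∧ H = Cfsg.Geo.decompositionStabilizer D ⊓ Cfsg.Geo.omegaGL Q) ∨
    (Fintype.card F % 4 = 3 ∧ ∃ D : Fin 2 → Submodule F (Fin 10 → F), Cfsg.Geo.IsOrthogonalMDecomposition Q 5 D ∧ H = Cfsg.Geo.decompositionStabilizer D ⊓ Cfsg.Geo.omegaGL Q) ∨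
    (Fintype.card F % 4 = 1 ∧ ∃ D : Fin 2 → Submodule F (Fin 10 → F), Cfsg.Geo.IsNondegenerateMDecomposition (QuadraticMap.polar Q) 5 D ∧ ¬ Cfsg.Geo.AreIsometricFor Q (D 0) (D 1) ∧ H = Cfsg.Geo.decompositionStabilizer D ⊓ Cfsg.Geo.omegaGL Q) ∨
    (Odd (Fintype.card F) ∧ ∃ K : Subalgebra F (Matrix (Fin 10) (Fin 10) F), Cfsg.Geo.IsFieldSubalgebra 2 K ∧ Cfsg.Geo.IsSelfAdjointFor (QuadraticMap.polar Q) K ∧ H = Cfsg.Geo.subalgebraNormalizer K ⊓ Cfsg.Geo.omegaGL Q) ∨
    (∃ K : Subalgebra F (Matrix (Fin 10) (Fin 10) F), Cfsg.Geo.IsFieldSubalgebra 2 K ∧ Cfsg.Geo.IsAdjointClosedFor (QuadraticMap.polar Q) K ∧ ¬ Cfsg.Geo.IsSelfAdjointFor (QuadraticMap.polar Q) K ∧ (∀ k ∈ K, ∃ c : F, ∀ v : (Fin 10 → F), Q (Matrix.mulVec k v) = c * Q v) ∧ H = Cfsg.Geo.subalgebraNormalizer K ⊓ Cfsg.Geo.omegaGL Q) ∨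
    (∃ (F₀ : Subfield F) (r : ℕ) (P : Matrix.GeneralLinearGroup (Fin 10) F) (ζ : F), r.Prime ∧ Odd r ∧ Fintype.card F = Nat.card F₀ ^ r ∧ ζ ≠ 0 ∧ Cfsg.Geo.IsQuadFormRationalStructure (fun v : Fin 10 → F => ζ * Q v) F₀ P ∧ H = Cfsg.Geo.subfieldSubgroup F₀ P ⊓ Cfsg.Geo.omegaGL Q) ∨
    Cfsg.Geo.InOrthogonalResidualClass H := by
  obtain ⟨Q, rfl⟩ : ∃ Q' : QuadraticForm F (Fin 10 → F), ⇑Q' = Q := ⟨quadFormOf hQ, quadFormOf_coe hQ⟩
  have hsep : ∀ x, (∀ y, QuadraticMap.polar Q x y = 0) → x = 0 := fun x hx => by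
    by_contra h0
    obtain ⟨y, hy⟩ := (hQ.nondegenerate x h0).2
    exact hy (hx y)
  have hm : Fintype.card (Fin 10) = 2 * 5 := by simp
  have h7 : 7 ≤ Fintype.card (Fin 10) := by simp
  have h5 : 5 ≤ Module.finrank F (Fin 10 → F) := by simp
  have hone := Fintype.one_lt_card (α := F)
  have hiso : ∀ g ∈ H, ∀ x, Q ((g : Matrix (Fin 10) (Fin 10) F) *ᵥ x) = Q x := fun g hg =>
    omega_isometry (hH.1.le hg)
  have notmax : ∀ {t : ℕ} {D : Fin t → Submodule F (Fin 10 → F)}, H = decompositionStabilizer D ⊓ omegaGL (⇑Q) →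
      (∃ K, decompositionStabilizer D ⊓ omegaGL (⇑Q) < K ∧ K < omegaGL (⇑Q)) → False := by
    rintro t D hH' ⟨K, hK1, hK2⟩
    rw [← hH'] at hK1
    rcases hH.2 K hK1.le hK2.le with h | h
    · exact hK1.ne h.symm
    · exact hK2.ne h
  have hoddmod : (2 : F) ≠ 0 → Fintype.card F % 4 = 1 ∨ Fintype.card F % 4 = 3 := fun h2 => by
    have hodd : Odd (Fintype.card F) := by
      by_contra h
      exact h2 (two_eq_zero_of_not_odd h)
    obtain ⟨j, hj⟩ := hodd
    omega
  -- the discriminant decides the class of the field order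
  have hsq : (2 : F) ≠ 0 → IsSquare (gramQ Q).det → Fintype.card F % 4 = 3 := fun h2 hd => by
    by_contra h
    exact hminus ((plusType_iff_of_square hsep h2 hm hd).2 (Or.inr h))
  have hnsq : (2 : F) ≠ 0 → ¬ IsSquare (gramQ Q).det → Fintype.card F % 4 = 1 := fun h2 hd => by
    have h3 : Fintype.card F % 4 ≠ 3 := fun h =>
      hminus ((plusType_iff_of_not_square hsep h2 hm (by decide) hd).2 h)
    have := hoddmod h2
    omega
  have listed : ∀ K : Subalgebra F (Matrix (Fin 10) (Fin 10) F), IsFieldSubalgebra 2 K →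
      (∀ k ∈ K, adjQ Q k ∈ K) → (¬ ∀ k ∈ K, adjQ Q k = k) → ActsIrreducibly (matrixSet H) →
      H = subalgebraNormalizer K ⊓ omegaGL (⇑Q) →
      (∃ K : Subalgebra F (Matrix (Fin 10) (Fin 10) F), IsFieldSubalgebra 2 K ∧ IsAdjointClosedFor (QuadraticMap.polar ⇑Q) K ∧ ¬ IsSelfAdjointFor (QuadraticMap.polar ⇑Q) K ∧ (∀ k ∈ K, ∃ c : F, ∀ v : (Fin 10 → F), Q (Matrix.mulVec k v) = c * Q v) ∧ H = subalgebraNormalizer K ⊓ omegaGL Q) := fun K hK hadj hns hirr hH' =>
    ⟨K, hK, isAdjointClosedFor_of hsep hadj, fun h => hns ((isSelfAdjointFor_iff hsep).1 h), field_similarities hsep (by simp) hiso hirr hK hadj hns (hH' ▸ inf_le_left), hH'⟩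
  cases even_shapes hsep hm (by norm_num) (by norm_num) hH with
  | ts W h0 hts hd hH' => exact Or.inl ⟨W, h0, hts, hH'⟩
  | oddSpace hq W h0 h1 ho hnd hH' =>
    by_cases h10 : 2 * Module.finrank F W = 10
    swap
    · exact Or.inr (Or.inl ⟨hq, W, h0, h1, ho, h10, hnd, hH'⟩)
    have h2 := two_ne_zero_of_odd hq
    obtain ⟨D, hD, hdisc, hH''⟩ := halves_of_space hsep hm (by norm_num) h7 hH hnd (by omega) (hH' ▸ inf_le_left)
    by_cases hd : IsSquare (gramQ Q).det
    · have hi := (hdisc h2).2 hd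
      refine Or.inr (Or.inr (Or.inr (Or.inr (Or.inr (Or.inr (Or.inr (Or.inr (Or.inl ⟨hsq h2 hd, D, ⟨hD, fun i j => ?_⟩, hH''⟩))))))))
      fin_cases i <;> fin_cases j
      exacts [⟨LinearEquiv.refl F _, fun w => rfl⟩, hi, AreIsometricFor.symm' hi, ⟨LinearEquiv.refl F _, fun w => rfl⟩]
    · exact Or.inr (Or.inr (Or.inr (Or.inr (Or.inr (Or.inr (Or.inr (Or.inr (Or.inr (Or.inl ⟨hnsq h2 hd, D, hD, fun h => hd ((hdisc h2).1 h), hH''⟩)))))))))
  | evenSpace W k hk h1 hkm hnd hplane hH' =>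
    obtain rfl | rfl : k = 1 ∨ k = 2 := by omega
    · by_cases hp : IsPlusTypeOn (⇑Q) W
      · exact Or.inr (Or.inr (Or.inr (Or.inl ⟨by
          by_contra h
          exact hplane ⟨by omega, hk, hp⟩, W, hk, hnd, hp, hH'⟩)))
      · exact Or.inr (Or.inr (Or.inl ⟨W, hk, hnd, hp, hH'⟩))
    · exact Or.inr (Or.inr (Or.inr (Or.inr (Or.inl ⟨W, hk, hnd, hH'⟩))))
  | point hq v hv hH' => exact Or.inr (Or.inr (Or.inr (Or.inr (Or.inr (Or.inl ⟨hq, v, hv, hH'⟩)))))
  | orth t k htk D hD hprime hirr hH' =>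
    have ht : t ≤ 10 := Nat.le_of_dvd (by norm_num) ⟨k, htk.symm⟩
    have ht2 := hD.decomp.decomp.two_le
    obtain ⟨rfl, rfl⟩ | ⟨rfl, rfl⟩ | ⟨rfl, rfl⟩ : (t = 2 ∧ k = 5) ∨ (t = 5 ∧ k = 2) ∨ (t = 10 ∧ k = 1) := by
      interval_cases t <;> omega
    · have hodd : Odd (Fintype.card F) := by
        by_contra hq
        obtain ⟨j, hj⟩ := even_finrank_of_nondegenerateOn (two_eq_zero_of_not_odd hq) (hD.decomp.nondegenerate 0)
        rw [hD.decomp.decomp.finrank_eq] at hj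
        omega
      have h2 := two_ne_zero_of_odd hodd
      have hind := hD.decomp.decomp.indep.pairwiseDisjoint (show (0 : Fin 2) ≠ 1 by decide)
      have hsup : D 0 ⊔ D 1 = ⊤ := by
        rw [eq_top_iff, ← hD.decomp.decomp.iSup_eq_top, iSup_le_iff]
        intro i
        fin_cases i
        exacts [le_sup_left, le_sup_right]
      have hd := (isometric_halves_iff hsep h2 (hD.decomp.nondegenerate 0) (hD.decomp.nondegenerate 1)
        (hD.decomp.orthogonal 0 1 (by decide)) ⟨hind, codisjoint_iff.2 hsup⟩ (hD.decomp.decomp.finrank_eq 0)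
        (hD.decomp.decomp.finrank_eq 1)).1 (hD.isometric 0 1)
      exact Or.inr (Or.inr (Or.inr (Or.inr (Or.inr (Or.inr (Or.inr (Or.inr (Or.inl ⟨hsq h2 hd, D, hD, hH'⟩))))))))
    · by_cases h3 : Fintype.card F = 3
      · exact (notmax hH' (Frame.exists_between_three h3 Q rfl hsep h5 (Or.inl rfl) hD (by norm_num))).elim
      exact Or.inr (Or.inr (Or.inr (Or.inr (Or.inr (Or.inr (Or.inr (Or.inl ⟨h3, D, hD, hH'⟩)))))))
    · obtain ⟨hp, ho⟩ := hprime rfl
      have h2 := two_ne_zero_of_odd ho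
      exact Or.inr (Or.inr (Or.inr (Or.inr (Or.inr (Or.inr (Or.inl ⟨⟨_, hp, rfl, hsq h2 (square_det_of_lines hsep h2 (n := 10) (by decide) (by simp) hD)⟩, D, hD, hH'⟩))))))
  | tsPair D hD hts hp hirr hH' =>
    exact (no_singular_pair hsep hm (by decide) (by simp) hH.1.le hirr hD hts (hH' ▸ inf_le_left)).elim
  | field r hr hdvd K hK hadj hirr hH' =>
    have : r ≤ 10 := Nat.le_of_dvd (by norm_num) hdvd
    obtain rfl | rfl : r = 5 ∨ r = 2 := by
      interval_cases r <;> first | omega | exact absurd hr (by norm_num)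
    · rcases binary_field_cases hsep (by decide) hm hiso hK hadj (hH' ▸ inf_le_left) with
        ⟨D, hD, hts, hle⟩ | ⟨K₂, hK₂, hadj₂, hns, hle₂⟩
      · exact (no_singular_pair hsep hm (by decide) (by simp) hH.1.le hirr hD hts hle).elim
      exact Or.inr (Or.inr (Or.inr (Or.inr (Or.inr (Or.inr (Or.inr (Or.inr (Or.inr (Or.inr (Or.inr (Or.inl (listed K₂ hK₂ hadj₂ hns hirr (maximal_eq hH hle₂ (omega_not_le_subalgebraNormalizer hsep h7 le_rfl hK₂))))))))))))))
    by_cases hself : ∀ k ∈ K, adjQ Q k = k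
    · by_cases hodd : Odd (Fintype.card F)
      · exact Or.inr (Or.inr (Or.inr (Or.inr (Or.inr (Or.inr (Or.inr (Or.inr (Or.inr (Or.inr (Or.inl ⟨hodd, K, hK, (isSelfAdjointFor_iff hsep).2 hself, hH'⟩))))))))))
      obtain ⟨d, hd⟩ := even_codegree_of_selfAdjoint hsep (two_eq_zero_of_not_odd hodd) hK hself
      rw [hm] at hd
      omega
    exact Or.inr (Or.inr (Or.inr (Or.inr (Or.inr (Or.inr (Or.inr (Or.inr (Or.inr (Or.inr (Or.inr (Or.inl (listed K hK hadj hself hirr hH'))))))))))))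
  | tensorAlt d k hd hdk hn e P a b hau hbu hAB haa hbb hpure hirr hle =>
    have hd4 : d ≤ 3 := by
      by_contra h
      have : 4 * 4 ≤ d * k := Nat.mul_le_mul (by omega) (by omega)
      omega
    obtain rfl : d = 2 := by interval_cases d <;> omega
    obtain rfl : k = 5 := by omega
    exact absurd (even_size_of_alt hbu hbb) (by decide)
  | tensorSym h2 d k hd hdk hn e P a b hau hbu hAB has hbs hirr hle =>
    have hd4 : d ≤ 3 := by
      by_contra h
      have : 4 * 4 ≤ d * k := Nat.mul_le_mul (by omega) (by omega)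
      omega
    obtain rfl : d = 2 := by interval_cases d <;> omega
    have : NeZero k := ⟨by omega⟩
    rcases tensor_two_sym hsep h2 hm (by norm_num) hH e P hau hbu hAB has hle with
      ⟨D, hD, hts, -, hH'⟩ | ⟨K, hK, hadj, hns, hH'⟩
    · exact (no_singular_pair hsep hm (by decide) (by simp) hH.1.le hirr hD hts (hH' ▸ inf_le_left)).elim
    · exact Or.inr (Or.inr (Or.inr (Or.inr (Or.inr (Or.inr (Or.inr (Or.inr (Or.inr (Or.inr (Or.inr (Or.inl (listed K hK hadj hns hirr hH'))))))))))))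
  | eightPlus h _ => omega
  | subfield F₀ r P ζ hr hcard hζ hrat hH' =>
    rcases hr.eq_two_or_odd' with rfl | ho
    · exact absurd (plus_of_quadratic_subfield hsep hm (by norm_num) hcard hζ hrat) hminus
    · exact Or.inr (Or.inr (Or.inr (Or.inr (Or.inr (Or.inr (Or.inr (Or.inr (Or.inr (Or.inr (Or.inr (Or.inr (Or.inl ⟨F₀, r, P, ζ, hr, ho, hcard, hζ, hrat, hH'⟩))))))))))))
  | residual h => exact Or.inr (Or.inr (Or.inr (Or.inr (Or.inr (Or.inr (Or.inr (Or.inr (Or.inr (Or.inr (Or.inr (Or.inr (Or.inr (h)))))))))))))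

end Cfsg.Agent.S5850
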