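import Cfsg.Statements.S5864
import Cfsg.Agent.S5653
import Cfsg.Agent.S5654
import Cfsg.Agent.S5657
import Cfsg.Agent.S5658
import Cfsg.Agent.S5659
import Cfsg.Agent.S5660
import Cfsg.Agent.Lib.MaxSub.UFrameCoord
import Cfsg.Agent.Lib.MaxSub.TensorUnitary
import Cfsg.Agent.Lib.MaxSub.UExtMatrix
-- import your own Cfsg.Agent.* helpers here

set_option autoImplicit false
open Cfsg

namespace Cfsg.Agent.S5864

/-- Maximal subgroups of SU_12(q) of geometric type (any prime power q). Let F be the field with q² elements (characteristic p), f the standard unitary form Σ u_i v_i^q on F^12 and SU_12(q) its determinant-one isometry group inside GL_12(F). Each of the following, intersected with SU_12(q), is a maximal subgroup of SU_12(q): (1) the stabiliser of any non-zero subspace on which f vanishes identically (totally isotropic subspaces, of dimension 1 to 6); (2) the stabiliser of any non-zero non-degenerate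 subspace W with 2 dim W < 12 (dimension 1 to 5); (3) the stabiliser of any decomposition of F^12 into 12 mutually orthogonal non-degenerate 1-spaces; (4) for q ≥ 3, the stabiliser of any decomposition of F^12 into 6 mutually orthogonal non-degenerate 2-spaces; (5) the stabiliser of any decomposition of F^12 into 4 mutually orthogonal non-degenerate 3-spaces; (6) the stabiliser of any decomposition of F^12 into 3 mutually orthogonal non-degenerate 4-spaces; (7) the stabiliser of any decomposition of F^12 into 2 mutually orthogonal non-degenerate 6-spaces; (8) the stabiliser of any decomposition into two totally isotropic 6-spaces; (9) the normaliser of any degree-3 subfield of the matrix algebra closed under adjoints for f; (10) for q ≥ 3, the stabiliser of any tensor decomposition of f as (unitary form on F^2) ⊗ (unitary form on F^6) up to a scalar; (11) the stabiliser of any tensor decomposition of f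 as (unitary form on F^3) ⊗ (unitary form on F^4) up to a scalar; (12) every subfield group for a subfield F₀ of odd prime index in F whose F₀-structure carries f; (13) every subfield group for the subfield F₀ of index 2 whose F₀-structure carries ζ f, vanishing on pairs (u, u), for a non-zero ζ with ζ + ζ^q = 0 (symplectic type); (14) for q odd, every subfield group for the subfield F₀ of index 2 whose F₀-structure carries f (orthogonal type, either sign). -/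
theorem result {F : Type*} [Field F] [Fintype F] (q : ℕ) (hF : Fintype.card F = q ^ 2) :
    (∀ W : Submodule F (Fin 12 → F), W ≠ ⊥ → Cfsg.Geo.IsTotallySingularFor (Cfsg.hermForm 12 F q) W → Cfsg.Geo.IsMaximalIn (Cfsg.GU 12 F q ⊓ Cfsg.Geo.specialLinear (Fin 12) F) (Cfsg.Geo.subspaceStabilizer W ⊓ (Cfsg.GU 12 F q ⊓ Cfsg.Geo.specialLinear (Fin 12) F))) ∧
    (∀ W : Submodule F (Fin 12 → F), W ≠ ⊥ → Cfsg.Geo.IsNondegenerateOn (Cfsg.hermForm 12 F q) W → 2 * Module.finrank F W < 12 → Cfsg.Geo.IsMaximalIn (Cfsg.GU 12 F q ⊓ Cfsg.Geo.specialLinear (Fin 12) F) (Cfsg.Geo.subspaceStabilizer W ⊓ (Cfsg.GU 12 F q ⊓ Cfsg.Geo.specialLinear (Fin 12) F))) ∧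
    (∀ D : Fin 12 → Submodule F (Fin 12 → F), Cfsg.Geo.IsNondegenerateMDecomposition (Cfsg.hermForm 12 F q) 1 D → Cfsg.Geo.IsMaximalIn (Cfsg.GU 12 F q ⊓ Cfsg.Geo.specialLinear (Fin 12) F) (Cfsg.Geo.decompositionStabilizer D ⊓ (Cfsg.GU 12 F q ⊓ Cfsg.Geo.specialLinear (Fin 12) F))) ∧
    (3 ≤ q → ∀ D : Fin 6 → Submodule F (Fin 12 → F), Cfsg.Geo.IsNondegenerateMDecomposition (Cfsg.hermForm 12 F q) 2 D → Cfsg.Geo.IsMaximalIn (Cfsg.GU 12 F q ⊓ Cfsg.Geo.specialLinear (Fin 12) F) (Cfsg.Geo.decompositionStabilizer D ⊓ (Cfsg.GU 12 F q ⊓ Cfsg.Geo.specialLinear (Fin 12) F))) ∧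
    (∀ D : Fin 4 → Submodule F (Fin 12 → F), Cfsg.Geo.IsNondegenerateMDecomposition (Cfsg.hermForm 12 F q) 3 D → Cfsg.Geo.IsMaximalIn (Cfsg.GU 12 F q ⊓ Cfsg.Geo.specialLinear (Fin 12) F) (Cfsg.Geo.decompositionStabilizer D ⊓ (Cfsg.GU 12 F q ⊓ Cfsg.Geo.specialLinear (Fin 12) F))) ∧
    (∀ D : Fin 3 → Submodule F (Fin 12 → F), Cfsg.Geo.IsNondegenerateMDecomposition (Cfsg.hermForm 12 F q) 4 D → Cfsg.Geo.IsMaximalIn (Cfsg.GU 12 F q ⊓ Cfsg.Geo.specialLinear (Fin 12) F) (Cfsg.Geo.decompositionStabilizer D ⊓ (Cfsg.GU 12 F q ⊓ Cfsg.Geo.specialLinear (Fin 12) F))) ∧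
    (∀ D : Fin 2 → Submodule F (Fin 12 → F), Cfsg.Geo.IsNondegenerateMDecomposition (Cfsg.hermForm 12 F q) 6 D → Cfsg.Geo.IsMaximalIn (Cfsg.GU 12 F q ⊓ Cfsg.Geo.specialLinear (Fin 12) F) (Cfsg.Geo.decompositionStabilizer D ⊓ (Cfsg.GU 12 F q ⊓ Cfsg.Geo.specialLinear (Fin 12) F))) ∧
    (∀ D : Fin 2 → Submodule F (Fin 12 → F), Cfsg.Geo.IsMDecomposition 6 D → (∀ i, Cfsg.Geo.IsTotallySingularFor (Cfsg.hermForm 12 F q) (D i)) → Cfsg.Geo.IsMaximalIn (Cfsg.GU 12 F q ⊓ Cfsg.Geo.specialLinear (Fin 12) F) (Cfsg.Geo.decompositionStabilizer D ⊓ (Cfsg.GU 12 F q ⊓ Cfsg.Geo.specialLinear (Fin 12) F))) ∧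
    (∀ K : Subalgebra F (Matrix (Fin 12) (Fin 12) F), Cfsg.Geo.IsFieldSubalgebra 3 K → Cfsg.Geo.IsAdjointClosedFor (Cfsg.hermForm 12 F q) K → Cfsg.Geo.IsMaximalIn (Cfsg.GU 12 F q ⊓ Cfsg.Geo.specialLinear (Fin 12) F) (Cfsg.Geo.subalgebraNormalizer K ⊓ (Cfsg.GU 12 F q ⊓ Cfsg.Geo.specialLinear (Fin 12) F))) ∧
    (3 ≤ q → ∀ (e : Fin 12 ≃ Fin 2 × Fin 6) (P : Matrix.GeneralLinearGroup (Fin 12) F) (f₁ : (Fin 2 → F) → (Fin 2 → F) → F) (f₂ : (Fin 6 → F) → (Fin 6 → F) → F), Cfsg.Geo.IsUnitaryFormPow q f₁ → Cfsg.Geo.IsUnitaryFormPow q f₂ → Cfsg.Geo.IsTensorFormStructure (fun x : F => x ^ q) (Cfsg.hermForm 12 F q) f₁ f₂ e P → Cfsg.Geo.IsMaximalIn (Cfsg.GU 12 F q ⊓ Cfsg.Geo.specialLinear (Fin 12) F) (Cfsg.Geo.tensorProductSubgroup 2 6 e P ⊓ (Cfsg.GU 12 F q ⊓ Cfsg.Geo.specialLinear (Fin 12) F))) ∧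
    (∀ (e : Fin 12 ≃ Fin 3 × Fin 4) (P : Matrix.GeneralLinearGroup (Fin 12) F) (f₁ : (Fin 3 → F) → (Fin 3 → F) → F) (f₂ : (Fin 4 → F) → (Fin 4 → F) → F), Cfsg.Geo.IsUnitaryFormPow q f₁ → Cfsg.Geo.IsUnitaryFormPow q f₂ → Cfsg.Geo.IsTensorFormStructure (fun x : F => x ^ q) (Cfsg.hermForm 12 F q) f₁ f₂ e P → Cfsg.Geo.IsMaximalIn (Cfsg.GU 12 F q ⊓ Cfsg.Geo.specialLinear (Fin 12) F) (Cfsg.Geo.tensorProductSubgroup 3 4 e P ⊓ (Cfsg.GU 12 F q ⊓ Cfsg.Geo.specialLinear (Fin 12) F))) ∧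
    (∀ (F₀ : Subfield F) (r : ℕ) (P : Matrix.GeneralLinearGroup (Fin 12) F), r.Prime → Odd r → Fintype.card F = Nat.card F₀ ^ r → Cfsg.Geo.IsFormRationalStructure (Cfsg.hermForm 12 F q) F₀ 1 P → Cfsg.Geo.IsMaximalIn (Cfsg.GU 12 F q ⊓ Cfsg.Geo.specialLinear (Fin 12) F) (Cfsg.Geo.subfieldSubgroup F₀ P ⊓ (Cfsg.GU 12 F q ⊓ Cfsg.Geo.specialLinear (Fin 12) F))) ∧
    (∀ (F₀ : Subfield F) (P : Matrix.GeneralLinearGroup (Fin 12) F) (ζ : F), Fintype.card F = Nat.card F₀ ^ 2 → ζ ≠ 0 → ζ + ζ ^ q = 0 → Cfsg.Geo.IsFormRationalStructure (Cfsg.hermForm 12 F q) F₀ ζ P → (∀ u : Fin 12 → F, (∀ i, u i ∈ F₀) → (Cfsg.hermForm 12 F q) (Matrix.mulVec (P : Matrix (Fin 12) (Fin 12) F) u) (Matrix.mulVec (P : Matrix (Fin 12) (Fin 12) F) u) = 0) → Cfsg.Geo.IsMaximalIn (Cfsg.GU 12 F q ⊓ Cfsg.Geo.specialLinear (Fin 12) F) (Cfsg.Geo.subfieldSubgroup F₀ P ⊓ (Cfsg.GU 12 F q ⊓ Cfsg.Geo.specialLinear (Fin 12) F))) ∧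
    (Odd q → ∀ (F₀ : Subfield F) (P : Matrix.GeneralLinearGroup (Fin 12) F), Fintype.card F = Nat.card F₀ ^ 2 → Cfsg.Geo.IsFormRationalStructure (Cfsg.hermForm 12 F q) F₀ 1 P → Cfsg.Geo.IsMaximalIn (Cfsg.GU 12 F q ⊓ Cfsg.Geo.specialLinear (Fin 12) F) (Cfsg.Geo.subfieldSubgroup F₀ P ⊓ (Cfsg.GU 12 F q ⊓ Cfsg.Geo.specialLinear (Fin 12) F))) := by
  classical
  exact ⟨fun W h0 hW => Cfsg.Agent.S5653.base 12 q hF (by norm_num) W h0 hW,
    fun W h0 hW hd => Cfsg.Agent.S5654.base 12 q hF (by norm_num) W h0 hW hd,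
    fun D hD => CfsgLib.MaxSub.UFrame.isMaximalIn_decomposition hF (by norm_num) (fun h => by omega) hD,
    fun hq D hD => CfsgLib.MaxSub.UFrame.isMaximalIn_decomposition hF (by norm_num) (fun h => by omega) hD,
    fun D hD => CfsgLib.MaxSub.UFrame.isMaximalIn_decomposition hF (by norm_num) (fun h => by omega) hD,
    fun D hD => CfsgLib.MaxSub.UFrame.isMaximalIn_decomposition hF (by norm_num) (fun h => by omega) hD,
    fun D hD => CfsgLib.MaxSub.UFrame.isMaximalIn_decomposition hF (by norm_num) (fun h => by omega) hD,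
    fun D hD hts => Cfsg.Agent.S5657.base 12 q hF (by norm_num) 6 (by norm_num) D hD hts,
    fun K hK hac => CfsgLib.MaxSub.UExt.extension_maximal hF Nat.prime_three ⟨1, rfl⟩ (by norm_num) K hK hac,
    fun hq e P f₁ f₂ h₁ h₂ hT => CfsgLib.MaxSub.TensorUnit.tensor_unitary_maximal' hF (by norm_num)
      (by norm_num) (by norm_num) (fun h => by omega) e P f₁ f₂ h₁ h₂ hT,
    fun e P f₁ f₂ h₁ h₂ hT => CfsgLib.MaxSub.TensorUnit.tensor_unitary_maximal' hF (by norm_num)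
      (by norm_num) (by norm_num) (fun h => by omega) e P f₁ f₂ h₁ h₂ hT,
    fun F₀ r P hr hro hc hP => Cfsg.Agent.S5658.base 12 q hF (by norm_num) F₀ r hr hro hc P hP,
    fun F₀ P ζ hc hζ0 hζ hP halt => Cfsg.Agent.S5660.base 12 q hF (by norm_num) (by decide) F₀ hc ζ hζ0 hζ P hP halt,
    fun hodd F₀ P hc hP => Cfsg.Agent.S5659.base 12 q hF (by norm_num) hodd F₀ hc P hP⟩

end Cfsg.Agent.S5864
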