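import Cfsg.Statements.S5870
import Cfsg.Agent.Lib.Geom.NondegHalf
import Cfsg.Agent.Lib.Geom.PointMax
import Cfsg.Agent.Lib.Classical.StdQuad
import Cfsg.Agent.Lib.MaxSub.OExtMatrix
import Cfsg.Agent.Lib.MaxSub.RatOmega
import Cfsg.Agent.Lib.MaxSub.OLinesTop
import Cfsg.Agent.Lib.MaxSub.ORefl.Cases
import Cfsg.Agent.Lib.MaxSub.OmegaHalves
import Cfsg.Agent.Lib.MaxSub.OmegaUnitary
import Cfsg.Agent.Lib.MaxSub.OmegaPair
import Cfsg.Agent.Lib.MaxSub.TensorSS

set_option autoImplicit false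
open Cfsg CfsgLib.Geom

namespace Cfsg.Agent.S5870

/-- Maximal subgroups of Ω_12^+(q) of geometric type (any q). Let F be a finite field with q elements (characteristic p), Q a non-degenerate quadratic form on F^12 (non-degenerate polar form) of plus type (Witt index 6: some totally singular 6-space), and Ω = Ω_12^+(q) the commutator subgroup of the isometry group of Q, inside GL_12(F). Each of the following, intersected with Ω, is a maximal subgroup of Ω: (1) the stabiliser of any non-zero subspace on which Q vanishes identically other than those of dimension 5 (totally singular subspaces, dimensions 1, 2, 3, 4 and 6); (2) for q odd, the stabiliser of any subspace of odd dimension on which the polar form of Q is non-degenerate; (3) the stabiliser of any non-degenerate 2-space of minus type (containing no non-zero singular vector); (4) for q ≥ 4, the stabiliser of any non-degenerate 2-space of plus type (containing a non-zero singular vector);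 (5) the stabiliser of any non-degenerate 4-space (either type); (6) for q even, the stabiliser of the 1-space spanned by any non-singular vector v (Q(v) ≠ 0); (7) for q = p an odd prime, the stabiliser of any decomposition of F^12 into 12 pairwise orthogonal, pairwise Q-isometric non-degenerate 1-spaces; (8) for q ≥ 7, the stabiliser of any decomposition of F^12 into 6 pairwise orthogonal, pairwise Q-isometric non-degenerate 2-spaces of plus type; (9) for q ≠ 3, the stabiliser of any decomposition of F^12 into 6 pairwise orthogonal, pairwise Q-isometric non-degenerate 2-spaces of minus type; (10) for q odd with q ≥ 5, the stabiliser of any decomposition of F^12 into 4 pairwise orthogonal, pairwise Q-isometric non-degenerate 3-spaces; (11) for q ≥ 3, the stabiliser of any decomposition of F^12 into 3 pairwise orthogonal, pairwise Q-isometric non-degenerate 4-spaces; (12) the stabiliser of any decomposition of F^12 into 2 pairwise orthogonal, pairwise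 Q-isometric non-degenerate 6-spaces; (13) the stabiliser of any decomposition into two totally singular 6-spaces; (14) for q odd, the normaliser of any degree-2 subfield K of the matrix algebra whose elements are self-adjoint for the polar form of Q (Q is then the trace of a quadratic form over K); (15) for q odd, the normaliser of any degree-3 subfield K of the matrix algebra whose elements are self-adjoint for the polar form of Q (Q is then the trace of a quadratic form over K); (16) the normaliser of any degree-2 subfield K of the matrix algebra, closed under adjoints for the polar form but not self-adjoint, whose elements act as similarities of Q (so F^12 becomes a 6-dimensional space over K with a hermitian form, and the subgroup is of the type of the unitary group GU_6(q)); (17) for q ≥ 3, the stabiliser of any tensor decomposition F^12 = F^2 ⊗ F^6 in which the polar form of Q is (alternating form) ⊗ (alternating form) up to a scalar and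 Q vanishes on all pure tensors; (18) every subfield group for a subfield F₀ with |F| = |F₀|^r, r prime, whose F₀-structure carries a non-zero scalar multiple of Q. -/
theorem result {F : Type*} [Field F] [Fintype F] (Q : (Fin 12 → F) → F) (hQ : Cfsg.Geo.IsNondegenerateQuadraticForm Q) (hplus : Cfsg.Geo.IsPlusTypeOn Q ⊤) :
    (∀ W : Submodule F (Fin 12 → F), W ≠ ⊥ → Cfsg.Geo.IsTotallySingularQuad Q W → Module.finrank F W ≠ 5 → Cfsg.Geo.IsMaximalIn (Cfsg.Geo.omegaGL Q) (Cfsg.Geo.subspaceStabilizer W ⊓ Cfsg.Geo.omegaGL Q)) ∧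
    (Odd (Fintype.card F) → ∀ W : Submodule F (Fin 12 → F), W ≠ ⊥ → W ≠ ⊤ → Odd (Module.finrank F W) → 2 * Module.finrank F W ≠ 12 → Cfsg.Geo.IsNondegenerateOn (QuadraticMap.polar Q) W → Cfsg.Geo.IsMaximalIn (Cfsg.Geo.omegaGL Q) (Cfsg.Geo.subspaceStabilizer W ⊓ Cfsg.Geo.omegaGL Q)) ∧
    (∀ W : Submodule F (Fin 12 → F), Module.finrank F W = 2 → Cfsg.Geo.IsNondegenerateOn (QuadraticMap.polar Q) W → ¬ Cfsg.Geo.IsPlusTypeOn Q W → Cfsg.Geo.IsMaximalIn (Cfsg.Geo.omegaGL Q) (Cfsg.Geo.subspaceStabilizer W ⊓ Cfsg.Geo.omegaGL Q)) ∧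
    (4 ≤ Fintype.card F → ∀ W : Submodule F (Fin 12 → F), Module.finrank F W = 2 → Cfsg.Geo.IsNondegenerateOn (QuadraticMap.polar Q) W → Cfsg.Geo.IsPlusTypeOn Q W → Cfsg.Geo.IsMaximalIn (Cfsg.Geo.omegaGL Q) (Cfsg.Geo.subspaceStabilizer W ⊓ Cfsg.Geo.omegaGL Q)) ∧
    (∀ W : Submodule F (Fin 12 → F), Module.finrank F W = 4 → Cfsg.Geo.IsNondegenerateOn (QuadraticMap.polar Q) W → Cfsg.Geo.IsMaximalIn (Cfsg.Geo.omegaGL Q) (Cfsg.Geo.subspaceStabilizer W ⊓ Cfsg.Geo.omegaGL Q)) ∧
    (¬ Odd (Fintype.card F) → ∀ v : (Fin 12 → F), Q v ≠ 0 → Cfsg.Geo.IsMaximalIn (Cfsg.Geo.omegaGL Q) (Cfsg.Geo.subspaceStabilizer (Submodule.span F {v}) ⊓ Cfsg.Geo.omegaGL Q)) ∧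
    ((∃ p : ℕ, p.Prime ∧ Odd p ∧ Fintype.card F = p) → ∀ D : Fin 12 → Submodule F (Fin 12 → F), Cfsg.Geo.IsOrthogonalMDecomposition Q 1 D → Cfsg.Geo.IsMaximalIn (Cfsg.Geo.omegaGL Q) (Cfsg.Geo.decompositionStabilizer D ⊓ Cfsg.Geo.omegaGL Q)) ∧
    (7 ≤ Fintype.card F → ∀ D : Fin 6 → Submodule F (Fin 12 → F), Cfsg.Geo.IsOrthogonalMDecomposition Q 2 D → (∀ i, Cfsg.Geo.IsPlusTypeOn Q (D i)) → Cfsg.Geo.IsMaximalIn (Cfsg.Geo.omegaGL Q) (Cfsg.Geo.decompositionStabilizer D ⊓ Cfsg.Geo.omegaGL Q)) ∧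
    (Fintype.card F ≠ 3 → ∀ D : Fin 6 → Submodule F (Fin 12 → F), Cfsg.Geo.IsOrthogonalMDecomposition Q 2 D → (∀ i, ¬ Cfsg.Geo.IsPlusTypeOn Q (D i)) → Cfsg.Geo.IsMaximalIn (Cfsg.Geo.omegaGL Q) (Cfsg.Geo.decompositionStabilizer D ⊓ Cfsg.Geo.omegaGL Q)) ∧
    (Odd (Fintype.card F) ∧ 5 ≤ Fintype.card F → ∀ D : Fin 4 → Submodule F (Fin 12 → F), Cfsg.Geo.IsOrthogonalMDecomposition Q 3 D → Cfsg.Geo.IsMaximalIn (Cfsg.Geo.omegaGL Q) (Cfsg.Geo.decompositionStabilizer D ⊓ Cfsg.Geo.omegaGL Q)) ∧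
    (3 ≤ Fintype.card F → ∀ D : Fin 3 → Submodule F (Fin 12 → F), Cfsg.Geo.IsOrthogonalMDecomposition Q 4 D → Cfsg.Geo.IsMaximalIn (Cfsg.Geo.omegaGL Q) (Cfsg.Geo.decompositionStabilizer D ⊓ Cfsg.Geo.omegaGL Q)) ∧
    (∀ D : Fin 2 → Submodule F (Fin 12 → F), Cfsg.Geo.IsOrthogonalMDecomposition Q 6 D → Cfsg.Geo.IsMaximalIn (Cfsg.Geo.omegaGL Q) (Cfsg.Geo.decompositionStabilizer D ⊓ Cfsg.Geo.omegaGL Q)) ∧
    (∀ D : Fin 2 → Submodule F (Fin 12 → F), Cfsg.Geo.IsMDecomposition 6 D → (∀ i, Cfsg.Geo.IsTotallySingularQuad Q (D i)) → Cfsg.Geo.IsMaximalIn (Cfsg.Geo.omegaGL Q) (Cfsg.Geo.decompositionStabilizer D ⊓ Cfsg.Geo.omegaGL Q)) ∧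
    (Odd (Fintype.card F) → ∀ K : Subalgebra F (Matrix (Fin 12) (Fin 12) F), Cfsg.Geo.IsFieldSubalgebra 2 K → Cfsg.Geo.IsSelfAdjointFor (QuadraticMap.polar Q) K → Cfsg.Geo.IsMaximalIn (Cfsg.Geo.omegaGL Q) (Cfsg.Geo.subalgebraNormalizer K ⊓ Cfsg.Geo.omegaGL Q)) ∧
    (Odd (Fintype.card F) → ∀ K : Subalgebra F (Matrix (Fin 12) (Fin 12) F), Cfsg.Geo.IsFieldSubalgebra 3 K → Cfsg.Geo.IsSelfAdjointFor (QuadraticMap.polar Q) K → Cfsg.Geo.IsMaximalIn (Cfsg.Geo.omegaGL Q) (Cfsg.Geo.subalgebraNormalizer K ⊓ Cfsg.Geo.omegaGL Q)) ∧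
    (∀ K : Subalgebra F (Matrix (Fin 12) (Fin 12) F), Cfsg.Geo.IsFieldSubalgebra 2 K → Cfsg.Geo.IsAdjointClosedFor (QuadraticMap.polar Q) K → ¬ Cfsg.Geo.IsSelfAdjointFor (QuadraticMap.polar Q) K → (∀ k ∈ K, ∃ c : F, ∀ v : (Fin 12 → F), Q (Matrix.mulVec k v) = c * Q v) → Cfsg.Geo.IsMaximalIn (Cfsg.Geo.omegaGL Q) (Cfsg.Geo.subalgebraNormalizer K ⊓ Cfsg.Geo.omegaGL Q)) ∧
    (3 ≤ Fintype.card F → ∀ (e : Fin 12 ≃ Fin 2 × Fin 6) (P : Matrix.GeneralLinearGroup (Fin 12) F) (f₁ : (Fin 2 → F) → (Fin 2 → F) → F) (f₂ : (Fin 6 → F) → (Fin 6 → F) → F), Cfsg.Geo.IsSymplecticForm f₁ → Cfsg.Geo.IsSymplecticForm f₂ → Cfsg.Geo.IsTensorFormStructure id (QuadraticMap.polar Q) f₁ f₂ e P → (∀ (x₁ : Fin 2 → F) (x₂ : Fin 6 → F), Q (Matrix.mulVec (P : Matrix (Fin 12) (Fin 12) F) ((fun a : Fin 2 × Fin 6 => x₁ a.1 * x₂ a.2) ∘ e)) = 0) → Cfsg.Geo.IsMaximalIn (Cfsg.Geo.omegaGL Q) (Cfsg.Geo.tensorProductSubgroup 2 6 e P ⊓ Cfsg.Geo.omegaGL Q)) ∧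
    (∀ (F₀ : Subfield F) (r : ℕ) (P : Matrix.GeneralLinearGroup (Fin 12) F) (ζ : F), r.Prime → Fintype.card F = Nat.card F₀ ^ r → ζ ≠ 0 → Cfsg.Geo.IsQuadFormRationalStructure (fun v : Fin 12 → F => ζ * Q v) F₀ P → Cfsg.Geo.IsMaximalIn (Cfsg.Geo.omegaGL Q) (Cfsg.Geo.subfieldSubgroup F₀ P ⊓ Cfsg.Geo.omegaGL Q)) := by
  classical
  have hQ' := quadFormOf_sep hQ
  have hn : Module.finrank F (Fin 12 → F) = 12 := Module.finrank_fin_fun F
  have h5 : 5 ≤ Module.finrank F (Fin 12 → F) := by omega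
  have hnd : ∀ W : Submodule F (Fin 12 → F), Cfsg.Geo.IsNondegenerateOn (QuadraticMap.polar Q) W →
      ∀ x ∈ W, (∀ y ∈ W, QuadraticMap.polar (quadFormOf hQ) x y = 0) → x = 0 := fun W hW x hx h => by
    by_contra hne
    obtain ⟨y, hy, hxy⟩ := (hW x hx hne).2
    exact hxy (h y hy)
  -- non-degenerate subspaces which are not of half the dimension
  have hgen : ∀ W : Submodule F (Fin 12 → F), W ≠ ⊥ → W ≠ ⊤ → Module.finrank F W ≠ 6 → Module.finrank F W ≠ 10 →
      Cfsg.Geo.IsNondegenerateOn (QuadraticMap.polar Q) W →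
      ¬ (Fintype.card F ≤ 3 ∧ Module.finrank F W = 2 ∧ Cfsg.Geo.IsPlusTypeOn Q W) →
      Cfsg.Geo.IsMaximalIn (Cfsg.Geo.omegaGL Q) (Cfsg.Geo.subspaceStabilizer W ⊓ Cfsg.Geo.omegaGL Q) := by
    intro W hW0 hW1 hhalf hco hW hex
    refine OrthSub.nondeg_isMaximalIn (quadFormOf hQ) rfl hQ' (Or.inl (by simp)) hW0 hW1
      (hnd W hW) ?_ ?_ (fun h => absurd h (by simp; omega))
    · rintro ⟨hq, hd, hz⟩
      exact hex ⟨hq, hd, OrthSub.isPlusTypeOn_of_singular hQ.smul hd hz⟩
    · rintro U - hsum - ⟨-, hd, -⟩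
      rw [Fintype.card_fin] at hsum
      omega
  have hne : ∀ (W : Submodule F (Fin 12 → F)) (d : ℕ), Module.finrank F W = d → 0 < d → d < 12 → W ≠ ⊥ ∧ W ≠ ⊤ :=
    fun W d hd h0 h1 => ⟨fun e => by rw [e, finrank_bot] at hd; omega, fun e => by rw [e, finrank_top, hn] at hd; omega⟩
  have h2odd : Odd (Fintype.card F) → (2 : F) ≠ 0 := fun hodd => CfsgLib.Classical.two_ne_zero_of_odd hodd
  have hsub : ∀ (F₀ : Subfield F) (r : ℕ) (P : Matrix.GeneralLinearGroup (Fin 12) F) (ζ : F), r.Prime →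
      Fintype.card F = Nat.card F₀ ^ r → ζ ≠ 0 →
      Cfsg.Geo.IsQuadFormRationalStructure (fun v : Fin 12 → F => ζ * Q v) F₀ P →
      Cfsg.Geo.IsMaximalIn (Cfsg.Geo.omegaGL Q) (Cfsg.Geo.subfieldSubgroup F₀ P ⊓ Cfsg.Geo.omegaGL Q) := by
    intro F₀ r P ζ hr hcard hζ hP
    refine CfsgLib.MaxSub.subfield_isMaximalIn_gen (quadFormOf hQ) rfl hQ' F₀ r hr hcard ?_ P hζ hP
    by_cases h2 : (2 : F) = 0
    · exact Or.inr ⟨h2, by simp⟩
    · exact Or.inl (Or.inr (Or.inr (Or.inr (Or.inr ⟨Or.inr ⟨by rw [Fintype.card_fin]; decide, by simp⟩, h2⟩))))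
  refine ⟨fun W hW0 hW h5' => ?_, fun _ W hW0 hW1 hodd hne6 hW => ?_, fun W hd hW hm => ?_, fun hq W hd hW _ => ?_,
    fun W hd hW => ?_, fun hchar v hv => ?_, fun hp D hD => ?_, fun hq D hD _ => ?_, fun hq D hD hm => ?_,
    fun hq D hD => ?_, fun hq D hD => ?_, fun D hD => ?_, fun D hD hts => ?_, fun hodd K hK hsa => ?_,
    fun hodd K hK hsa => ?_, fun K hK hac hnsa hsc => ?_, fun hq e P f₁ f₂ h₁ h₂ hT hpure => ?_, hsub⟩
  · have hW' : ∀ x ∈ W, quadFormOf hQ x = 0 := hW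
    refine omega_isMaximalIn (quadFormOf hQ) rfl W (OrthSub.parabolic_moved hQ' (by omega) hW' hW0)
      fun M hM => OrthSub.parabolic_maximal hQ' (by omega) hW' ?_ hM
    have hk := OrthSub.totallySingular_finrank hQ' hW'

    by_cases h : 2 * Module.finrank F W + 3 ≤ 12
    · exact Or.inl (by omega)
    · refine Or.inr fun t ht hp => ?_
      by_contra htW
      obtain ⟨U, hU, hd⟩ := OrthSub.totallySingular_sup hW' ht hp htW
      have := OrthSub.totallySingular_finrank hQ' hU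

      omega
  · obtain ⟨a, ha⟩ := hodd
    exact hgen W hW0 hW1 (by omega) (by omega) hW fun h => by omega
  · exact hgen W (hne W 2 hd (by omega) (by omega)).1 (hne W 2 hd (by omega) (by omega)).2 (by omega) (by omega) hW
      fun h => hm h.2.2
  · exact hgen W (hne W 2 hd (by omega) (by omega)).1 (hne W 2 hd (by omega) (by omega)).2 (by omega) (by omega) hW
      fun h => by omega
  · exact hgen W (hne W 4 hd (by omega) (by omega)).1 (hne W 4 hd (by omega) (by omega)).2 (by omega) (by omega) hW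
      fun h => by omega
  · have h2 : (2 : F) = 0 := by
      by_contra h
      refine hchar (Nat.odd_iff.2 (FiniteField.odd_card_of_char_ne_two fun hc => h ?_))
      have := ringChar.spec F 2
      rw [hc] at this
      exact_mod_cast this.2 dvd_rfl
    exact omega_isMaximalIn (quadFormOf hQ) rfl _ (OrthSub.point_moved hQ' (by omega) hv)
      fun M hM => OrthSub.point_maximal hQ' h2 (by omega) hv hM
  · obtain ⟨p, hp, hpo, hpc⟩ := hp
    exact CfsgLib.MaxSub.OLines.isMaximalIn_lines (quadFormOf hQ) rfl (hpc ▸ hp)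
      (CfsgLib.Classical.two_ne_zero_of_odd (hpc ▸ hpo)) (by simp) (by simp) hD
  · exact CfsgLib.MaxSub.ORefl.isMaximalIn_frame (quadFormOf hQ) rfl hQ' h5 hD (by omega) (fun _ => by omega) (fun h => absurd h (by decide))
      (fun _ => ⟨by omega, fun h => by omega⟩) (fun h => absurd h (by decide)) (fun h => absurd h (by decide))
  · exact CfsgLib.MaxSub.ORefl.isMaximalIn_frame (quadFormOf hQ) rfl hQ' h5 hD (by omega) (fun _ => by omega) (fun h => absurd h (by decide))
      (fun _ => ⟨hq, fun h => hm 0 (h.1 0)⟩) (fun h => absurd h (by decide)) (fun h => absurd h (by decide))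
  · exact CfsgLib.MaxSub.ORefl.isMaximalIn_frame (quadFormOf hQ) rfl hQ' h5 hD (by omega) (fun h => absurd h (by decide)) (fun _ => hq.1)
      (fun h => absurd h (by decide)) (fun _ => by omega) (fun h => absurd h (by decide))
  · exact CfsgLib.MaxSub.ORefl.isMaximalIn_frame (quadFormOf hQ) rfl hQ' h5 hD (by omega) (fun h => absurd h (by decide)) (fun h => absurd h (by decide))
      (fun h => absurd h (by decide)) (fun h => absurd h (by decide)) (fun _ h => by omega)
  · exact CfsgLib.MaxSub.ORefl.isMaximalIn_frame (quadFormOf hQ) rfl hQ' h5 hD (by omega) (fun h => absurd h (by decide)) (fun h => absurd h (by decide))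
      (fun h => absurd h (by decide)) (fun h => absurd h (by decide)) (fun h => absurd h (by decide))
  · exact CfsgLib.MaxSub.OmegaPair.ts_pair_isMaximalIn (by omega) (by decide) Q hQ hplus 6 (by omega) (by decide) D hD hts
  · have : Nonempty (Fin 12) := ⟨0⟩
    refine CfsgLib.MaxSub.OExt.extension_maximal'' hQ (h2odd hodd) Nat.prime_two (fun k hk => ?_) K hK hsa
    rw [Fintype.card_fin] at hk
    omega
  · have : Nonempty (Fin 12) := ⟨0⟩
    refine CfsgLib.MaxSub.OExt.extension_maximal'' hQ (h2odd hodd) Nat.prime_three (fun k hk => ?_) K hK hsa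
    rw [Fintype.card_fin] at hk
    omega
  · exact CfsgLib.MaxSub.OmegaUnitary.unitary_isMaximalIn (by omega) (by decide) Q hQ K hK hac hnsa hsc
  · exact CfsgLib.MaxSub.TensorSS.tensor_symp_symp_maximal hQ (by omega) (by omega) (by omega) (fun h => by omega) e P f₁ f₂
      h₁ h₂ hT hpure

end Cfsg.Agent.S5870
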