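import Cfsg.Statements.S5871
import Cfsg.Agent.Lib.Aschbacher.OrthEvenLists
import Cfsg.Agent.Lib.Aschbacher.OrthTwelvePlanes
import Cfsg.Agent.Lib.Aschbacher.OrthTwelveTensor
import Cfsg.Agent.Lib.Aschbacher.OrthTensorBinary
import Cfsg.Agent.Lib.MaxSub.FrameThree

set_option autoImplicit false
open Cfsg

namespace Cfsg.Agent.S5871

open Cfsg.Geo Matrix CfsgLib.Aschbacher CfsgLib.Aschbacher.Orth CfsgLib.Classical CfsgLib.Geom CfsgLib.MaxSub

/-- Every maximal subgroup of Ω_12^+(q) is of one of the listed geometric types or lies in the residual class. Let F be a finite field with q elements (characteristic p), Q a non-degenerate quadratic form on F^12 of plus type (Witt index 6: some totally singular 6-space), Ω the commutator subgroup of its isometry group, and H a maximal subgroup of Ω (inside GL_12(F)). Then H is the intersection with Ω of one of: the stabiliser of a non-zero totally singular subspace of dimension ≠ 5; for q odd, the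 stabiliser of a non-degenerate subspace of odd dimension; the stabiliser of a non-degenerate 2-space of minus type; for q ≥ 4, the stabiliser of a non-degenerate 2-space of plus type; the stabiliser of a non-degenerate 4-space; for q even, the stabiliser of the span of a non-singular vector; for q = p an odd prime, the stabiliser of a decomposition into 12 pairwise orthogonal, pairwise isometric non-degenerate 1-spaces; for q ≥ 7, the stabiliser of a decomposition into 6 pairwise orthogonal, pairwise isometric non-degenerate 2-spaces of plus type; for q ≠ 3, the stabiliser of a decomposition into 6 pairwise orthogonal, pairwise isometric non-degenerate 2-spaces of minus type; for q odd with q ≥ 5, the stabiliser of a decomposition into 4 pairwise orthogonal, pairwise isometric non-degenerate 3-spaces; for q ≥ 3, the stabiliser of a decomposition into 3 pairwise orthogonal, pairwise isometric non-degenerate 4-spaces; the stabiliser of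 a decomposition into 2 pairwise orthogonal, pairwise isometric non-degenerate 6-spaces; of a decomposition into two totally singular 6-spaces; the normaliser of a degree-2 subfield of the matrix algebra; the normaliser of a degree-3 subfield of the matrix algebra; the normaliser of a degree-2 subfield K, adjoint-closed but not self-adjoint, acting by similarities of Q; for q ≥ 3, the stabiliser of a tensor decomposition of Q into alternating forms on F^2 and F^6 (Q vanishing on pure tensors); a subfield group (|F| = |F₀|^r, r prime) whose F₀-structure carries a non-zero multiple of Q — or else H lies in the residual class of the orthogonal case (modulo scalars H is almost simple, with absolutely irreducible perfect socle preimage realisable over no proper subfield and fixing no non-degenerate unitary form). -/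
theorem result {F : Type*} [Field F] [Fintype F] (Q : (Fin 12 → F) → F) (hQ : Cfsg.Geo.IsNondegenerateQuadraticForm Q) (hplus : Cfsg.Geo.IsPlusTypeOn Q ⊤) (H : Subgroup (Matrix.GeneralLinearGroup (Fin 12) F)) (hH : Cfsg.Geo.IsMaximalIn (Cfsg.Geo.omegaGL Q) H) :
    (∃ W : Submodule F (Fin 12 → F), W ≠ ⊥ ∧ Cfsg.Geo.IsTotallySingularQuad Q W ∧ Module.finrank F W ≠ 5 ∧ H = Cfsg.Geo.subspaceStabilizer W ⊓ Cfsg.Geo.omegaGL Q) ∨
    (Odd (Fintype.card F) ∧ ∃ W : Submodule F (Fin 12 → F), W ≠ ⊥ ∧ W ≠ ⊤ ∧ Odd (Module.finrank F W) ∧ 2 * Module.finrank F W ≠ 12 ∧ Cfsg.Geo.IsNondegenerateOn (QuadraticMap.polar Q) W ∧ H = Cfsg.Geo.subspaceStabilizer W ⊓ Cfsg.Geo.omegaGL Q) ∨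
    (∃ W : Submodule F (Fin 12 → F), Module.finrank F W = 2 ∧ Cfsg.Geo.IsNondegenerateOn (QuadraticMap.polar Q) W ∧ ¬ Cfsg.Geo.IsPlusTypeOn Q W ∧ H = Cfsg.Geo.subspaceStabilizer W ⊓ Cfsg.Geo.omegaGL Q) ∨
    (4 ≤ Fintype.card F ∧ ∃ W : Submodule F (Fin 12 → F), Module.finrank F W = 2 ∧ Cfsg.Geo.IsNondegenerateOn (QuadraticMap.polar Q) W ∧ Cfsg.Geo.IsPlusTypeOn Q W ∧ H = Cfsg.Geo.subspaceStabilizer W ⊓ Cfsg.Geo.omegaGL Q) ∨
    (∃ W : Submodule F (Fin 12 → F), Module.finrank F W = 4 ∧ Cfsg.Geo.IsNondegenerateOn (QuadraticMap.polar Q) W ∧ H = Cfsg.Geo.subspaceStabilizer W ⊓ Cfsg.Geo.omegaGL Q) ∨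
    (¬ Odd (Fintype.card F) ∧ ∃ v : (Fin 12 → F), Q v ≠ 0 ∧ H = Cfsg.Geo.subspaceStabilizer (Submodule.span F {v}) ⊓ Cfsg.Geo.omegaGL Q) ∨
    ((∃ p : ℕ, p.Prime ∧ Odd p ∧ Fintype.card F = p) ∧ ∃ D : Fin 12 → Submodule F (Fin 12 → F), Cfsg.Geo.IsOrthogonalMDecomposition Q 1 D ∧ H = Cfsg.Geo.decompositionStabilizer D ⊓ Cfsg.Geo.omegaGL Q) ∨
    (7 ≤ Fintype.card F ∧ ∃ D : Fin 6 → Submodule F (Fin 12 → F), Cfsg.Geo.IsOrthogonalMDecomposition Q 2 D ∧ (∀ i, Cfsg.Geo.IsPlusTypeOn Q (D i)) ∧ H = Cfsg.Geo.decompositionStabilizer D ⊓ Cfsg.Geo.omegaGL Q) ∨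
    (Fintype.card F ≠ 3 ∧ ∃ D : Fin 6 → Submodule F (Fin 12 → F), Cfsg.Geo.IsOrthogonalMDecomposition Q 2 D ∧ (∀ i, ¬ Cfsg.Geo.IsPlusTypeOn Q (D i)) ∧ H = Cfsg.Geo.decompositionStabilizer D ⊓ Cfsg.Geo.omegaGL Q) ∨
    (Odd (Fintype.card F) ∧ 5 ≤ Fintype.card F ∧ ∃ D : Fin 4 → Submodule F (Fin 12 → F), Cfsg.Geo.IsOrthogonalMDecomposition Q 3 D ∧ H = Cfsg.Geo.decompositionStabilizer D ⊓ Cfsg.Geo.omegaGL Q) ∨
    (3 ≤ Fintype.card F ∧ ∃ D : Fin 3 → Submodule F (Fin 12 → F), Cfsg.Geo.IsOrthogonalMDecomposition Q 4 D ∧ H = Cfsg.Geo.decompositionStabilizer D ⊓ Cfsg.Geo.omegaGL Q) ∨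
    (∃ D : Fin 2 → Submodule F (Fin 12 → F), Cfsg.Geo.IsOrthogonalMDecomposition Q 6 D ∧ H = Cfsg.Geo.decompositionStabilizer D ⊓ Cfsg.Geo.omegaGL Q) ∨
    (∃ D : Fin 2 → Submodule F (Fin 12 → F), Cfsg.Geo.IsMDecomposition 6 D ∧ (∀ i, Cfsg.Geo.IsTotallySingularQuad Q (D i)) ∧ H = Cfsg.Geo.decompositionStabilizer D ⊓ Cfsg.Geo.omegaGL Q) ∨
    (∃ K : Subalgebra F (Matrix (Fin 12) (Fin 12) F), Cfsg.Geo.IsFieldSubalgebra 2 K ∧ H = Cfsg.Geo.subalgebraNormalizer K ⊓ Cfsg.Geo.omegaGL Q) ∨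
    (∃ K : Subalgebra F (Matrix (Fin 12) (Fin 12) F), Cfsg.Geo.IsFieldSubalgebra 3 K ∧ H = Cfsg.Geo.subalgebraNormalizer K ⊓ Cfsg.Geo.omegaGL Q) ∨
    (∃ K : Subalgebra F (Matrix (Fin 12) (Fin 12) F), Cfsg.Geo.IsFieldSubalgebra 2 K ∧ Cfsg.Geo.IsAdjointClosedFor (QuadraticMap.polar Q) K ∧ ¬ Cfsg.Geo.IsSelfAdjointFor (QuadraticMap.polar Q) K ∧ (∀ k ∈ K, ∃ c : F, ∀ v : (Fin 12 → F), Q (Matrix.mulVec k v) = c * Q v) ∧ H = Cfsg.Geo.subalgebraNormalizer K ⊓ Cfsg.Geo.omegaGL Q) ∨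
    (3 ≤ Fintype.card F ∧ ∃ (e : Fin 12 ≃ Fin 2 × Fin 6) (P : Matrix.GeneralLinearGroup (Fin 12) F) (f₁ : (Fin 2 → F) → (Fin 2 → F) → F) (f₂ : (Fin 6 → F) → (Fin 6 → F) → F), Cfsg.Geo.IsSymplecticForm f₁ ∧ Cfsg.Geo.IsSymplecticForm f₂ ∧ Cfsg.Geo.IsTensorFormStructure id (QuadraticMap.polar Q) f₁ f₂ e P ∧ (∀ (x₁ : Fin 2 → F) (x₂ : Fin 6 → F), Q (Matrix.mulVec (P : Matrix (Fin 12) (Fin 12) F) ((fun a : Fin 2 × Fin 6 => x₁ a.1 * x₂ a.2) ∘ e)) = 0) ∧ H = Cfsg.Geo.tensorProductSubgroup 2 6 e P ⊓ Cfsg.Geo.omegaGL Q) ∨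
    (∃ (F₀ : Subfield F) (r : ℕ) (P : Matrix.GeneralLinearGroup (Fin 12) F) (ζ : F), r.Prime ∧ Fintype.card F = Nat.card F₀ ^ r ∧ ζ ≠ 0 ∧ Cfsg.Geo.IsQuadFormRationalStructure (fun v : Fin 12 → F => ζ * Q v) F₀ P ∧ H = Cfsg.Geo.subfieldSubgroup F₀ P ⊓ Cfsg.Geo.omegaGL Q) ∨
    Cfsg.Geo.InOrthogonalResidualClass H := by
  obtain ⟨Q, rfl⟩ : ∃ Q' : QuadraticForm F (Fin 12 → F), ⇑Q' = Q := ⟨quadFormOf hQ, quadFormOf_coe hQ⟩
  have hsep : ∀ x, (∀ y, QuadraticMap.polar Q x y = 0) → x = 0 := fun x hx => by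
    by_contra h0
    obtain ⟨y, hy⟩ := (hQ.nondegenerate x h0).2
    exact hy (hx y)
  have hm : Fintype.card (Fin 12) = 2 * 6 := by simp
  have h7 : 7 ≤ Fintype.card (Fin 12) := by simp
  have h5 : 5 ≤ Module.finrank F (Fin 12 → F) := by simp
  have hone := Fintype.one_lt_card (α := F)
  have notmax : ∀ {t : ℕ} {D : Fin t → Submodule F (Fin 12 → F)}, H = decompositionStabilizer D ⊓ omegaGL (⇑Q) →
      (∃ K, decompositionStabilizer D ⊓ omegaGL (⇑Q) < K ∧ K < omegaGL (⇑Q)) → False := by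
    rintro t D hH' ⟨K, hK1, hK2⟩
    rw [← hH'] at hK1
    rcases hH.2 K hK1.le hK2.le with h | h
    · exact hK1.ne h.symm
    · exact hK2.ne h
  cases even_shapes hsep hm (by norm_num) le_rfl hH with
  | ts W h0 hts hd hH' => exact Or.inl ⟨W, h0, hts, fun h => hd hplus (by omega), hH'⟩
  | oddSpace hq W h0 h1 ho hnd hH' =>
    exact Or.inr (Or.inl ⟨hq, W, h0, h1, ho, fun h => by
      obtain ⟨j, hj⟩ := ho
      omega, hnd, hH'⟩)
  | evenSpace W k hk h1 hkm hnd hplane hH' =>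
    obtain rfl | rfl | rfl : k = 1 ∨ k = 2 ∨ k = 3 := by omega
    · by_cases hp : IsPlusTypeOn (⇑Q) W
      · exact Or.inr (Or.inr (Or.inr (Or.inl ⟨by
          by_contra h
          exact hplane ⟨by omega, hk, hp⟩, W, hk, hnd, hp, hH'⟩)))
      · exact Or.inr (Or.inr (Or.inl ⟨W, hk, hnd, hp, hH'⟩))
    · exact Or.inr (Or.inr (Or.inr (Or.inr (Or.inl ⟨W, hk, hnd, hH'⟩))))
    · have hperp : Module.finrank F (polPerp Q W) = 6 := by
        have := finrank_polPerp hsep W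
        omega
      have hpn := nondegenerateOn_polPerp hsep hnd
      have hcompl : IsCompl W (polPerp Q W) := IsCompl.of_eq
        ((IsoSemi.nd_iff (geom_polarBilin hsep)).1 (nondegenerateOn_iff.1 hnd)) (sup_polPerp_eq_top hsep hnd)
      have hiso : AreIsometricFor (⇑Q) W (polPerp Q W) := areIsometricFor_of_type hnd hpn (k := 3) hk hperp
        ((plusType_top_iff hsep hnd hm (k := 3) hk).1 hplus)
      have hD : IsOrthogonalMDecomposition (⇑Q) 6 ![W, polPerp Q W] := by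
        refine ⟨⟨mdecomp_two hcompl (by norm_num) hk hperp, fun i => ?_, fun i j hij => ?_⟩, fun i j => ?_⟩
        · fin_cases i
          exacts [hnd, hpn]
        · fin_cases i <;> fin_cases j
          exacts [absurd rfl hij, fun u hu v hv => hv u hu,
            fun u hu v hv => (QuadraticMap.polar_comm _ _ _).trans (hu v hv), absurd rfl hij]
        · fin_cases i <;> fin_cases j
          exacts [⟨LinearEquiv.refl F _, fun w => rfl⟩, hiso, AreIsometricFor.symm' hiso, ⟨LinearEquiv.refl F _, fun w => rfl⟩]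
      refine Or.inr (Or.inr (Or.inr (Or.inr (Or.inr (Or.inr (Or.inr (Or.inr (Or.inr (Or.inr (Or.inr (Or.inl ⟨![W, polPerp Q W], hD, maximal_eq hH ?_ (omega_not_le_decompositionStabilizer hsep h7 hD.decomp.decomp)⟩)))))))))))
      intro g hg
      have hgW : g ∈ subspaceStabilizer W := by rw [hH'] at hg; exact hg.1
      refine ⟨1, fun i => ?_⟩
      fin_cases i
      · exact map_eq_of_mem_stabilizer hgW
      · exact map_eq_of_mem_stabilizer (mem_stabilizer_polPerp (omega_isometry (hH.1.le hg)) hgW)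
  | point hq v hv hH' => exact Or.inr (Or.inr (Or.inr (Or.inr (Or.inr (Or.inl ⟨hq, v, hv, hH'⟩)))))
  | orth t k htk D hD hprime hirr hH' =>
    have ht : t ≤ 12 := Nat.le_of_dvd (by norm_num) ⟨k, htk.symm⟩
    have ht2 := hD.decomp.decomp.two_le
    obtain ⟨rfl, rfl⟩ | ⟨rfl, rfl⟩ | ⟨rfl, rfl⟩ | ⟨rfl, rfl⟩ | ⟨rfl, rfl⟩ :
        (t = 2 ∧ k = 6) ∨ (t = 3 ∧ k = 4) ∨ (t = 4 ∧ k = 3) ∨ (t = 6 ∧ k = 2) ∨ (t = 12 ∧ k = 1) := by
      interval_cases t <;> omega
    · exact Or.inr (Or.inr (Or.inr (Or.inr (Or.inr (Or.inr (Or.inr (Or.inr (Or.inr (Or.inr (Or.inr (Or.inl ⟨D, hD, hH'⟩)))))))))))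
    · by_cases hq : 3 ≤ Fintype.card F
      · exact Or.inr (Or.inr (Or.inr (Or.inr (Or.inr (Or.inr (Or.inr (Or.inr (Or.inr (Or.inr (Or.inl ⟨hq, D, hD, hH'⟩))))))))))
      have hq2 : Fintype.card F = 2 := by omega
      have hall : ∀ i, IsPlusTypeOn (⇑Q) (D i) := fun i =>
        ((orth_plus_top_iff hsep (l := 2) hD i).1 hplus).resolve_left (by decide)
      obtain ⟨D', hD', hm', hle⟩ := refine_two hsep hq2 hD hall (fun g hg => omega_isometry (hH.1.le hg))
        (hH' ▸ inf_le_left)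
      exact Or.inr (Or.inr (Or.inr (Or.inr (Or.inr (Or.inr (Or.inr (Or.inr (Or.inl ⟨by omega, D', hD', hm', maximal_eq hH hle (omega_not_le_decompositionStabilizer hsep h7 hD'.decomp.decomp)⟩))))))))
    · have hodd : Odd (Fintype.card F) := by
        by_contra hq
        obtain ⟨j, hj⟩ := even_finrank_of_nondegenerateOn (two_eq_zero_of_not_odd hq) (hD.decomp.nondegenerate 0)
        rw [hD.decomp.decomp.finrank_eq] at hj
        omega
      by_cases hq : 5 ≤ Fintype.card F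
      · exact Or.inr (Or.inr (Or.inr (Or.inr (Or.inr (Or.inr (Or.inr (Or.inr (Or.inr (Or.inl ⟨hodd, hq, D, hD, hH'⟩)))))))))
      exact (notmax hH' (Frame.exists_between_three (card_eq_three_of_odd hodd (by
        obtain ⟨j, hj⟩ := hodd; omega)) Q rfl hsep h5 (Or.inr rfl) hD le_rfl)).elim
    · by_cases h3 : Fintype.card F = 3
      · exact (notmax hH' (Frame.exists_between_three h3 Q rfl hsep h5 (Or.inl rfl) hD (by norm_num))).elim
      by_cases hp : IsPlusTypeOn (⇑Q) (D 0)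
      · have hall : ∀ i, IsPlusTypeOn (⇑Q) (D i) := fun i => plusType_of_isometric (hD.isometric 0 i) hp
        by_cases hq : 7 ≤ Fintype.card F
        · exact Or.inr (Or.inr (Or.inr (Or.inr (Or.inr (Or.inr (Or.inr (Or.inl ⟨hq, D, hD, hall, hH'⟩)))))))
        exact (notmax hH' (plus_planes_not_maximal Q hsep h5 (by norm_num) hD.decomp hall (by
          have h6 : Fintype.card F ≠ 6 := fun h => by
            obtain ⟨p, hp⟩ := CharP.exists F
            obtain ⟨n, hn, hc⟩ := FiniteField.card F p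
            rw [h] at hc
            have h2 : p = 2 := ((Nat.prime_dvd_prime_iff_eq Nat.prime_two hn).1
              (Nat.prime_two.dvd_of_dvd_pow (hc ▸ (by norm_num : 2 ∣ 6)))).symm
            subst h2
            have : (n : ℕ) < 3 := (Nat.pow_lt_pow_iff_right (by norm_num : 1 < 2)).1 (by omega)
            interval_cases (n : ℕ) <;> omega
          omega))).elim
      · exact Or.inr (Or.inr (Or.inr (Or.inr (Or.inr (Or.inr (Or.inr (Or.inr (Or.inl ⟨h3, D, hD, fun i h => hp (plusType_of_isometric (hD.isometric i 0) h), hH'⟩))))))))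
    · obtain ⟨hp, ho⟩ := hprime rfl
      exact Or.inr (Or.inr (Or.inr (Or.inr (Or.inr (Or.inr (Or.inl ⟨⟨_, hp, ho, rfl⟩, D, hD, hH'⟩))))))
  | tsPair D hD hts hp hirr hH' => exact Or.inr (Or.inr (Or.inr (Or.inr (Or.inr (Or.inr (Or.inr (Or.inr (Or.inr (Or.inr (Or.inr (Or.inr (Or.inl ⟨D, hD, hts, hH'⟩))))))))))))
  | field r hr hdvd K hK hadj hirr hH' =>
    have : r ≤ 12 := Nat.le_of_dvd (by norm_num) hdvd
    obtain rfl | rfl : r = 2 ∨ r = 3 := by
      interval_cases r <;> first | omega | exact absurd hr (by norm_num)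
    · exact Or.inr (Or.inr (Or.inr (Or.inr (Or.inr (Or.inr (Or.inr (Or.inr (Or.inr (Or.inr (Or.inr (Or.inr (Or.inr (Or.inl ⟨K, hK, hH'⟩)))))))))))))
    · exact Or.inr (Or.inr (Or.inr (Or.inr (Or.inr (Or.inr (Or.inr (Or.inr (Or.inr (Or.inr (Or.inr (Or.inr (Or.inr (Or.inr (Or.inl ⟨K, hK, hH'⟩))))))))))))))
  | tensorAlt d k hd hdk hn e P a b hau hbu hAB haa hbb hpure hirr hle =>
    have hd4 : d ≤ 3 := by
      by_contra h
      have : 4 * 4 ≤ d * k := Nat.mul_le_mul (by omega) (by omega)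
      omega
    interval_cases d
    · obtain rfl : k = 6 := by omega
      have hH' := maximal_eq hH hle
        (omega_not_le_tensorProduct hsep h7 (by norm_num) (by norm_num) (by norm_num) e P)
      obtain ⟨hf₁, hg₁⟩ := formOfGram_symplectic haa hau
      obtain ⟨hf₂, hg₂⟩ := formOfGram_symplectic hbb hbu
      have hT := tensorFormStructure_of hAB hg₁ hg₂
      by_cases hq : 3 ≤ Fintype.card F
      · exact Or.inr (Or.inr (Or.inr (Or.inr (Or.inr (Or.inr (Or.inr (Or.inr (Or.inr (Or.inr (Or.inr (Or.inr (Or.inr (Or.inr (Or.inr (Or.inr (Or.inl ⟨hq, e, P, _, _, hf₁, hf₂, hT, hpure, hH'⟩))))))))))))))))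
      obtain ⟨K, hK1, hK2⟩ := BinaryTensor.exists_between le_rfl (⇑Q) hQ (by omega) 6 (by norm_num) e P _ _ hf₁ hf₂
        hT hpure
      rw [← hH'] at hK1
      rcases hH.2 K hK1.le hK2.le with h | h
      · exact absurd h.symm hK1.ne
      · exact absurd h hK2.ne
    · exact absurd (even_size_of_alt hau haa) (by decide)
  | tensorSym h2 d k hd hdk hn e P a b hau hbu hAB has hbs hirr hle =>
    have hd4 : d ≤ 3 := by
      by_contra h
      have : 4 * 4 ≤ d * k := Nat.mul_le_mul (by omega) (by omega)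
      omega
    interval_cases d
    · have : NeZero k := ⟨by omega⟩
      rcases tensor_two_sym hsep h2 hm (by norm_num) hH e P hau hbu hAB has hle with
        ⟨D, hD, hts, -, hH'⟩ | ⟨K, hK, hadj, hns, hH'⟩
      · exact Or.inr (Or.inr (Or.inr (Or.inr (Or.inr (Or.inr (Or.inr (Or.inr (Or.inr (Or.inr (Or.inr (Or.inr (Or.inl ⟨D, hD, hts, hH'⟩))))))))))))
      · exact Or.inr (Or.inr (Or.inr (Or.inr (Or.inr (Or.inr (Or.inr (Or.inr (Or.inr (Or.inr (Or.inr (Or.inr (Or.inr (Or.inl ⟨K, hK, hH'⟩)))))))))))))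
    · obtain rfl : k = 4 := by omega
      obtain ⟨e', P', a', b', ha', hb', hAB', haa, hbb, hpure, hle'⟩ := tensor_plus_regroup hsep h2 hH.1.le e P hau
        hbu hAB has hbs (plus_right_factor hsep h2 hm hplus e P hau hbu hAB hbs) hle
      obtain ⟨hf₁, hg₁⟩ := formOfGram_symplectic haa ha'
      obtain ⟨hf₂, hg₂⟩ := formOfGram_symplectic hbb hb'
      have hq : 3 ≤ Fintype.card F := by
        by_contra hq
        have h := FiniteField.cast_card_eq_zero F
        rw [show Fintype.card F = 2 by omega] at h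
        exact h2 (by exact_mod_cast h)
      exact Or.inr (Or.inr (Or.inr (Or.inr (Or.inr (Or.inr (Or.inr (Or.inr (Or.inr (Or.inr (Or.inr (Or.inr (Or.inr (Or.inr (Or.inr (Or.inr (Or.inl ⟨hq, e', P', _, _, hf₁, hf₂, tensorFormStructure_of hAB' hg₁ hg₂, hpure, maximal_eq hH hle' (omega_not_le_tensorProduct hsep h7 (by norm_num) (by norm_num) (by norm_num) e' P')⟩))))))))))))))))
  | eightPlus h _ => omega
  | subfield F₀ r P ζ hr hcard hζ hrat hH' => exact Or.inr (Or.inr (Or.inr (Or.inr (Or.inr (Or.inr (Or.inr (Or.inr (Or.inr (Or.inr (Or.inr (Or.inr (Or.inr (Or.inr (Or.inr (Or.inr (Or.inr (Or.inl ⟨F₀, r, P, ζ, hr, hcard, hζ, hrat, hH'⟩)))))))))))))))))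
  | residual h => exact Or.inr (Or.inr (Or.inr (Or.inr (Or.inr (Or.inr (Or.inr (Or.inr (Or.inr (Or.inr (Or.inr (Or.inr (Or.inr (Or.inr (Or.inr (Or.inr (Or.inr (Or.inr (h))))))))))))))))))

end Cfsg.Agent.S5871
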