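import Cfsg.Statements.S5874
import Cfsg.Agent.Lib.Aschbacher.OrthEvenLists
import Cfsg.Agent.Lib.MaxSub.TensorFrameOdd

set_option autoImplicit false
open Cfsg

namespace Cfsg.Agent.S5874

open Cfsg.Geo Matrix CfsgLib.Aschbacher CfsgLib.Aschbacher.Orth CfsgLib.Classical CfsgLib.Geom

/-- Every maximal subgroup of Ω_12^-(q) is of one of the listed geometric types or lies in the residual class. Let F be a finite field with q elements (characteristic p), Q a non-degenerate quadratic form on F^12 of minus type (Witt index 5: no totally singular 6-space), Ω the commutator subgroup of its isometry group, and H a maximal subgroup of Ω (inside GL_12(F)). Then H is the intersection with Ω of one of: the stabiliser of a non-zero totally singular subspace; for q odd, the stabiliser of a non-degenerate subspace of odd dimension; the stabiliser of a non-degenerate 2-space of minus type; for q ≥ 4, the stabiliser of a non-degenerate 2-space of plus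 type; the stabiliser of a non-degenerate 4-space; the stabiliser of a non-degenerate 6-space; for q even, the stabiliser of the span of a non-singular vector; the stabiliser of a decomposition into 3 pairwise orthogonal, pairwise isometric non-degenerate 4-spaces of minus type; the normaliser of a degree-2 subfield of the matrix algebra; the normaliser of a degree-3 subfield of the matrix algebra; for q odd with q ≥ 5, the stabiliser of a tensor decomposition of the polar form into symmetric forms on F^3 and F^4 (minus type); a subfield group (|F| = |F₀|^r, r odd prime) whose F₀-structure carries a non-zero multiple of Q — or else H lies in the residual class of the orthogonal case (modulo scalars H is almost simple, with absolutely irreducible perfect socle preimage realisable over no proper subfield and fixing no non-degenerate unitary form). -/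
theorem result {F : Type*} [Field F] [Fintype F] (Q : (Fin 12 → F) → F) (hQ : Cfsg.Geo.IsNondegenerateQuadraticForm Q) (hminus : ¬ Cfsg.Geo.IsPlusTypeOn Q ⊤) (H : Subgroup (Matrix.GeneralLinearGroup (Fin 12) F)) (hH : Cfsg.Geo.IsMaximalIn (Cfsg.Geo.omegaGL Q) H) :
    (∃ W : Submodule F (Fin 12 → F), W ≠ ⊥ ∧ Cfsg.Geo.IsTotallySingularQuad Q W ∧ H = Cfsg.Geo.subspaceStabilizer W ⊓ Cfsg.Geo.omegaGL Q) ∨
    (Odd (Fintype.card F) ∧ ∃ W : Submodule F (Fin 12 → F), W ≠ ⊥ ∧ W ≠ ⊤ ∧ Odd (Module.finrank F W) ∧ 2 * Module.finrank F W ≠ 12 ∧ Cfsg.Geo.IsNondegenerateOn (QuadraticMap.polar Q) W ∧ H = Cfsg.Geo.subspaceStabilizer W ⊓ Cfsg.Geo.omegaGL Q) ∨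
    (∃ W : Submodule F (Fin 12 → F), Module.finrank F W = 2 ∧ Cfsg.Geo.IsNondegenerateOn (QuadraticMap.polar Q) W ∧ ¬ Cfsg.Geo.IsPlusTypeOn Q W ∧ H = Cfsg.Geo.subspaceStabilizer W ⊓ Cfsg.Geo.omegaGL Q) ∨
    (4 ≤ Fintype.card F ∧ ∃ W : Submodule F (Fin 12 → F), Module.finrank F W = 2 ∧ Cfsg.Geo.IsNondegenerateOn (QuadraticMap.polar Q) W ∧ Cfsg.Geo.IsPlusTypeOn Q W ∧ H = Cfsg.Geo.subspaceStabilizer W ⊓ Cfsg.Geo.omegaGL Q) ∨
    (∃ W : Submodule F (Fin 12 → F), Module.finrank F W = 4 ∧ Cfsg.Geo.IsNondegenerateOn (QuadraticMap.polar Q) W ∧ H = Cfsg.Geo.subspaceStabilizer W ⊓ Cfsg.Geo.omegaGL Q) ∨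
    (∃ W : Submodule F (Fin 12 → F), Module.finrank F W = 6 ∧ Cfsg.Geo.IsNondegenerateOn (QuadraticMap.polar Q) W ∧ H = Cfsg.Geo.subspaceStabilizer W ⊓ Cfsg.Geo.omegaGL Q) ∨
    (¬ Odd (Fintype.card F) ∧ ∃ v : (Fin 12 → F), Q v ≠ 0 ∧ H = Cfsg.Geo.subspaceStabilizer (Submodule.span F {v}) ⊓ Cfsg.Geo.omegaGL Q) ∨
    (∃ D : Fin 3 → Submodule F (Fin 12 → F), Cfsg.Geo.IsOrthogonalMDecomposition Q 4 D ∧ (∀ i, ¬ Cfsg.Geo.IsPlusTypeOn Q (D i)) ∧ H = Cfsg.Geo.decompositionStabilizer D ⊓ Cfsg.Geo.omegaGL Q) ∨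
    (∃ K : Subalgebra F (Matrix (Fin 12) (Fin 12) F), Cfsg.Geo.IsFieldSubalgebra 2 K ∧ H = Cfsg.Geo.subalgebraNormalizer K ⊓ Cfsg.Geo.omegaGL Q) ∨
    (∃ K : Subalgebra F (Matrix (Fin 12) (Fin 12) F), Cfsg.Geo.IsFieldSubalgebra 3 K ∧ H = Cfsg.Geo.subalgebraNormalizer K ⊓ Cfsg.Geo.omegaGL Q) ∨
    (Odd (Fintype.card F) ∧ 5 ≤ Fintype.card F ∧ ∃ (e : Fin 12 ≃ Fin 3 × Fin 4) (P : Matrix.GeneralLinearGroup (Fin 12) F) (f₁ : (Fin 3 → F) → (Fin 3 → F) → F) (f₂ : (Fin 4 → F) → (Fin 4 → F) → F), Cfsg.Geo.IsSymmetricForm f₁ ∧ Cfsg.Geo.IsSymmetricForm f₂ ∧ ¬ Cfsg.Geo.IsPlusTypeOn (fun v : Fin 4 → F => f₂ v v) ⊤ ∧ Cfsg.Geo.IsTensorFormStructure id (QuadraticMap.polar Q) f₁ f₂ e P ∧ H = Cfsg.Geo.tensorProductSubgroup 3 4 e P ⊓ Cfsg.Geo.omegaGL Q) ∨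
    (∃ (F₀ : Subfield F) (r : ℕ) (P : Matrix.GeneralLinearGroup (Fin 12) F) (ζ : F), r.Prime ∧ Odd r ∧ Fintype.card F = Nat.card F₀ ^ r ∧ ζ ≠ 0 ∧ Cfsg.Geo.IsQuadFormRationalStructure (fun v : Fin 12 → F => ζ * Q v) F₀ P ∧ H = Cfsg.Geo.subfieldSubgroup F₀ P ⊓ Cfsg.Geo.omegaGL Q) ∨
    Cfsg.Geo.InOrthogonalResidualClass H := by
  obtain ⟨Q, rfl⟩ : ∃ Q' : QuadraticForm F (Fin 12 → F), ⇑Q' = Q := ⟨quadFormOf hQ, quadFormOf_coe hQ⟩
  have hsep : ∀ x, (∀ y, QuadraticMap.polar Q x y = 0) → x = 0 := fun x hx => by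
    by_contra h0
    obtain ⟨y, hy⟩ := (hQ.nondegenerate x h0).2
    exact hy (hx y)
  have hm : Fintype.card (Fin 12) = 2 * 6 := by simp
  cases even_shapes hsep hm (by norm_num) le_rfl hH with
  | ts W h0 hts hd hH' => exact Or.inl ⟨W, h0, hts, hH'⟩
  | oddSpace hq W h0 h1 ho hnd hH' =>
    exact Or.inr (Or.inl ⟨hq, W, h0, h1, ho, fun h => by
      obtain ⟨j, hj⟩ := ho
      omega, hnd, hH'⟩)
  | evenSpace W k hk h1 hkm hnd hplane hH' =>
    obtain rfl | rfl | rfl : k = 1 ∨ k = 2 ∨ k = 3 := by omega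
    · by_cases hp : IsPlusTypeOn (⇑Q) W
      · exact Or.inr (Or.inr (Or.inr (Or.inl ⟨by
          by_contra h
          exact hplane ⟨by omega, hk, hp⟩, W, hk, hnd, hp, hH'⟩)))
      · exact Or.inr (Or.inr (Or.inl ⟨W, hk, hnd, hp, hH'⟩))
    · exact Or.inr (Or.inr (Or.inr (Or.inr (Or.inl ⟨W, hk, hnd, hH'⟩))))
    · exact Or.inr (Or.inr (Or.inr (Or.inr (Or.inr (Or.inl ⟨W, hk, hnd, hH'⟩)))))
  | point hq v hv hH' => exact Or.inr (Or.inr (Or.inr (Or.inr (Or.inr (Or.inr (Or.inl ⟨hq, v, hv, hH'⟩))))))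
  | orth t k htk D hD hprime hirr hH' =>
    have ht : t ≤ 12 := Nat.le_of_dvd (by norm_num) ⟨k, htk.symm⟩
    have ht2 := hD.decomp.decomp.two_le
    obtain ⟨rfl, rfl⟩ | ⟨rfl, rfl⟩ | ⟨rfl, rfl⟩ | ⟨rfl, rfl⟩ | ⟨rfl, rfl⟩ :
        (t = 2 ∧ k = 2 * 3) ∨ (t = 3 ∧ k = 2 * 2) ∨ (t = 4 ∧ k = 3) ∨ (t = 6 ∧ k = 2 * 1) ∨ (t = 12 ∧ k = 1) := by
      interval_cases t <;> omega
    · exact absurd ((orth_plus_top_iff hsep hD 0).2 (Or.inl (by decide))) hminus
    · exact Or.inr (Or.inr (Or.inr (Or.inr (Or.inr (Or.inr (Or.inr (Or.inl ⟨D, hD, fun i hp => hminus ((orth_plus_top_iff hsep hD i).2 (Or.inr hp)), hH'⟩)))))))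
    · exact absurd (plus_of_four_blocks hsep hD) hminus
    · exact absurd ((orth_plus_top_iff hsep hD 0).2 (Or.inl (by decide))) hminus
    · have h2 := two_ne_zero_of_odd (hprime rfl).2
      exact absurd ((plusType_iff_of_square hsep h2 hm
        (square_det_of_lines hsep h2 (n := 12) (by decide) (by simp) hD)).2 (Or.inl (by decide))) hminus
  | tsPair D hD hts hplus hirr hH' => exact absurd hplus hminus
  | field r hr hdvd K hK hadj hirr hH' =>
    have : r ≤ 12 := Nat.le_of_dvd (by norm_num) hdvd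
    obtain rfl | rfl : r = 2 ∨ r = 3 := by
      interval_cases r <;> first | omega | exact absurd hr (by norm_num)
    · exact Or.inr (Or.inr (Or.inr (Or.inr (Or.inr (Or.inr (Or.inr (Or.inr (Or.inl ⟨K, hK, hH'⟩))))))))
    · exact Or.inr (Or.inr (Or.inr (Or.inr (Or.inr (Or.inr (Or.inr (Or.inr (Or.inr (Or.inl ⟨K, hK, hH'⟩)))))))))
  | tensorAlt d k hd hdk hn e P a b hau hbu hAB haa hbb hpure hirr hle =>
    exfalso
    have hd4 : d ≤ 3 := by
      by_contra h
      have : 4 * 4 ≤ d * k := Nat.mul_le_mul (by omega) (by omega)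
      omega
    interval_cases d
    · exact hminus (plusType_of_pure_null hsep e P hpure)
    · exact absurd (even_size_of_alt hau haa) (by decide)
  | tensorSym h2 d k hd hdk hn e P a b hau hbu hAB has hbs hirr hle =>
    have hd4 : d ≤ 3 := by
      by_contra h
      have : 4 * 4 ≤ d * k := Nat.mul_le_mul (by omega) (by omega)
      omega
    interval_cases d
    · have : NeZero k := ⟨by omega⟩
      rcases tensor_two_sym hsep h2 hm (by norm_num) hH e P hau hbu hAB has hle with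
        ⟨D, hD, hts, hplus, hH'⟩ | ⟨K, hK, hadj, hns, hH'⟩
      · exact absurd hplus hminus
      · exact Or.inr (Or.inr (Or.inr (Or.inr (Or.inr (Or.inr (Or.inr (Or.inr (Or.inl ⟨K, hK, hH'⟩))))))))
    · obtain rfl : k = 4 := by omega
      obtain ⟨hf₁, hg₁⟩ := formOfGram_symmetric has hau
      obtain ⟨hf₂, hg₂⟩ := formOfGram_symmetric hbs hbu
      have hT := tensorFormStructure_of hAB hg₁ hg₂
      have hH' := maximal_eq hH hle (omega_not_le_tensorProductSubgroup hsep (by simp) le_rfl (by norm_num) e P)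
      have hodd : Odd (Fintype.card F) := by
        by_contra h
        exact h2 (two_eq_zero_of_not_odd h)
      by_cases hq : 5 ≤ Fintype.card F
      · refine Or.inr (Or.inr (Or.inr (Or.inr (Or.inr (Or.inr (Or.inr (Or.inr (Or.inr (Or.inr (Or.inl ⟨hodd, hq, e, P, _, _, hf₁, hf₂, ?_, hT, hH'⟩))))))))))
        simp only [formOfGram_id]
        exact minus_right_factor hsep h2 hm hminus e P hbu hAB hbs
      exfalso
      have hq3 : Fintype.card F = 3 := by
        have := Fintype.one_lt_card (α := F)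
        obtain ⟨j, hj⟩ := hodd
        omega
      obtain ⟨K, hK1, hK2⟩ := CfsgLib.MaxSub.TensorFrame.exists_between_orth hq3 Q rfl hsep (by simp)
        (by norm_num) e P _ _ hf₁ hf₂ hT
      rw [← hH'] at hK1
      rcases hH.2 K hK1.le hK2.le with h | h
      · exact hK1.ne h.symm
      · exact hK2.ne h
  | eightPlus h hplus => exact absurd hplus hminus
  | subfield F₀ r P ζ hr hcard hζ hrat hH' =>
    rcases hr.eq_two_or_odd' with rfl | ho
    · exact absurd (plus_of_quadratic_subfield hsep hm (by norm_num) hcard hζ hrat) hminus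
    · exact Or.inr (Or.inr (Or.inr (Or.inr (Or.inr (Or.inr (Or.inr (Or.inr (Or.inr (Or.inr (Or.inr (Or.inl ⟨F₀, r, P, ζ, hr, ho, hcard, hζ, hrat, hH'⟩)))))))))))
  | residual h => exact Or.inr (Or.inr (Or.inr (Or.inr (Or.inr (Or.inr (Or.inr (Or.inr (Or.inr (Or.inr (Or.inr (Or.inr (h))))))))))))

end Cfsg.Agent.S5874
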