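import Cfsg.Statements.S5876

set_option autoImplicit false
set_option linter.unusedSectionVars false
open Cfsg

namespace Cfsg.Agent.S5876

open Matrix

variable {F : Type*} [Field F] [Fintype F] {n : ℕ}

/-- The fixed space. -/
noncomputable def fixSp (g : GL (Fin n) F) : Submodule F (Fin n → F) :=
  Module.End.eigenspace (Matrix.toLin' (g : Matrix (Fin n) (Fin n) F)) 1

theorem mem_fixSp {g : GL (Fin n) F} {v : Fin n → F} :
    v ∈ fixSp g ↔ (g : Matrix (Fin n) (Fin n) F) *ᵥ v = v := by
  simp [fixSp, Module.End.mem_eigenspace_iff]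

theorem finrank_two (g c e : GL (Fin n) F)
    (h : ∀ v, v ∈ fixSp g → (e : Matrix (Fin n) (Fin n) F) *ᵥ v ∈ fixSp g →
      (e : Matrix (Fin n) (Fin n) F) *ᵥ v ∈ fixSp c) :
    2 * Module.finrank F (fixSp g) ≤ n + Module.finrank F (fixSp c) := by
  let L : (Fin n → F) ≃ₗ[F] (Fin n → F) :=
    { Matrix.toLin' (e : Matrix (Fin n) (Fin n) F) with
      invFun := fun v => ((e⁻¹ : GL (Fin n) F) : Matrix (Fin n) (Fin n) F) *ᵥ v
      left_inv := fun v => by simp [mulVec_mulVec, ← Units.val_mul]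
      right_inv := fun v => by simp [mulVec_mulVec, ← Units.val_mul] }
  have h1 := Submodule.finrank_sup_add_finrank_inf_eq
    ((fixSp g).map (L : (Fin n → F) →ₗ[F] (Fin n → F))) (fixSp g)
  rw [LinearEquiv.finrank_map_eq] at h1
  have h2 : (fixSp g).map (L : (Fin n → F) →ₗ[F] (Fin n → F)) ⊓ fixSp g ≤ fixSp c := by
    rintro x ⟨⟨v, hv, rfl⟩, hx⟩
    exact h v hv hx
  have h3 := Submodule.finrank_mono h2
  have h4 := Submodule.finrank_le ((fixSp g).map (L : (Fin n → F) →ₗ[F] (Fin n → F)) ⊔ fixSp g)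
  rw [Module.finrank_fin_fun] at h4
  omega

variable {G : Subgroup (GL (Fin n) F)}

/-- The matrix of an element of `G`. -/
def mat (x : G) : Matrix (Fin n) (Fin n) F := ((x : GL (Fin n) F) : Matrix (Fin n) (Fin n) F)

theorem mat_mul (x y : G) : mat (x * y) = mat x * mat y := rfl

theorem mat_inj {x y : G} (h : mat x = mat y) : x = y := Subtype.ext (Units.ext h)

theorem mat_one : mat (1 : G) = 1 := rfl

theorem mat_inv_mul (x : G) : mat x⁻¹ * mat x = 1 := by
  rw [← mat_mul, inv_mul_cancel, mat_one]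

/-- Primitivity forces the algebra spanned by an abelian normal subgroup to be a field. -/
theorem pow_eq_one_of_ne_zero (hirr : Cfsg.Geo.ActsIrreducibly (Cfsg.Geo.matrixSet G))
    (hprim : ∀ (m t : ℕ) (D : Fin t → Submodule F (Fin n → F)), 2 ≤ t →
      Cfsg.Geo.IsMDecomposition m D → ¬ G ≤ Cfsg.Geo.decompositionStabilizer D)
    (R : Subalgebra F (Matrix (Fin n) (Fin n) F)) (hcomm : ∀ x ∈ R, ∀ y ∈ R, x * y = y * x)
    (hnorm : ∀ (g : G), ∀ x ∈ R, mat g * x * mat g⁻¹ ∈ R)
    {x : Matrix (Fin n) (Fin n) F} (hx : x ∈ R) (hx0 : x ≠ 0) : ∃ k, 0 < k ∧ x ^ k = 1 := by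
  classical
  have hn : 0 < n := by
    rcases Nat.eq_zero_or_pos n with rfl | h
    · exact absurd (Subsingleton.elim x 0) hx0
    · exact h
  have hn' : (⊤ : Submodule F (Fin n → F)) ≠ ⊥ := by
    intro h
    have := congrArg (fun W : Submodule F (Fin n → F) => Module.finrank F W) h
    simp at this
    omega
  -- a minimal invariant subspace
  obtain ⟨S, ⟨hS0, hSinv⟩, hSmin⟩ : ∃ S, (S ≠ ⊥ ∧ ∀ y ∈ R, ∀ v ∈ S, y *ᵥ v ∈ S) ∧
      ∀ T, (T ≠ ⊥ ∧ ∀ y ∈ R, ∀ v ∈ T, y *ᵥ v ∈ T) → T ≤ S → S ≤ T := by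
    obtain ⟨S, -, hS⟩ := Finite.exists_le_minimal
      (p := fun T : Submodule F (Fin n → F) => T ≠ ⊥ ∧ ∀ y ∈ R, ∀ v ∈ T, y *ᵥ v ∈ T)
      (a := ⊤) ⟨hn', fun _ _ _ _ => trivial⟩
    exact ⟨S, hS.1, fun T h h' => hS.2 h h'⟩
  let gS : G → Submodule F (Fin n → F) := fun g => S.map (Matrix.toLin' (mat g))
  let P : G → Set (Matrix (Fin n) (Fin n) F) := fun g => {y | y ∈ R ∧ ∀ v ∈ gS g, y *ᵥ v = 0}
  -- every element outside `P g` has a power congruent to one
  have hpow : ∀ g, ∀ y ∈ R, y ∉ P g → ∃ k, 0 < k ∧ y ^ k - 1 ∈ P g := by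
    intro g y hy hyP
    set y' := mat g⁻¹ * y * mat g with hy'
    have hy'R : y' ∈ R := by simpa using hnorm g⁻¹ y hy
    have hinj : ∀ v ∈ S, y' *ᵥ v = 0 → v = 0 := by
      intro v hv hv0
      by_contra hne
      let K : Submodule F (Fin n → F) := S ⊓ LinearMap.ker (Matrix.toLin' y')
      have hK : S ≤ K := hSmin K ⟨fun h => hne (by
        have : v ∈ K := ⟨hv, by simpa using hv0⟩
        simpa [h] using this), fun z hz w hw => ⟨hSinv z hz w hw.1, by
          have hw2 : y' *ᵥ w = 0 := by simpa using hw.2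
          simp [mulVec_mulVec, hcomm y' hy'R z hz]
          rw [← mulVec_mulVec, hw2, mulVec_zero]⟩⟩ inf_le_left
      refine hyP ⟨hy, ?_⟩
      rintro _ ⟨w, hw, rfl⟩
      have h0 : y' *ᵥ w = 0 := by simpa using (hK hw).2
      have : y *ᵥ (mat g *ᵥ w) = mat g *ᵥ (y' *ᵥ w) := by
        simp only [hy', mulVec_mulVec, ← mul_assoc]
        rw [← mat_mul, mul_inv_cancel, mat_one, one_mul]
      simpa [this] using congrArg (mat g *ᵥ ·) h0
    obtain ⟨i, j, hij, hpe⟩ := Finite.exists_ne_map_eq_of_infinite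
      (fun k : ℕ => fun v : S => (y' ^ k) *ᵥ (v : Fin n → F))
    wlog hlt : i < j generalizing i j
    · exact this j i hij.symm hpe.symm (by omega)
    obtain ⟨d, rfl⟩ := Nat.exists_eq_add_of_lt hlt
    refine ⟨d + 1, Nat.succ_pos _, sub_mem (pow_mem hy _) (one_mem R), ?_⟩
    rintro _ ⟨w, hw, rfl⟩
    have hinjpow : ∀ k, ∀ v ∈ S, (y' ^ k) *ᵥ v = 0 → v = 0 := by
      intro k
      induction k with
      | zero => intro v _ h; simpa using h
      | succ k ih =>
        intro v hv h
        rw [pow_succ, ← mulVec_mulVec] at h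
        exact hinj v hv (ih _ (hSinv _ hy'R v hv) h)
    have h1 : (y' ^ (d + 1)) *ᵥ w = w := by
      refine sub_eq_zero.1 (hinjpow i _ (sub_mem (hSinv _ (pow_mem hy'R _) w hw) hw) ?_)
      rw [mulVec_sub, mulVec_mulVec, ← pow_add, ← add_assoc]
      exact sub_eq_zero.2 (congrFun hpe ⟨w, hw⟩).symm
    have hc : ∀ k : ℕ, y ^ k * mat g = mat g * y' ^ k := by
      intro k
      induction k with
      | zero => simp
      | succ k ih =>
        rw [pow_succ, pow_succ, mul_assoc]
        have : y * mat g = mat g * y' := by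
          simp only [hy', ← mul_assoc]
          rw [← mat_mul, mul_inv_cancel, mat_one, one_mul]
        rw [this, ← mul_assoc, ih, mul_assoc]
    rw [Matrix.toLin'_apply, sub_mulVec, one_mulVec, mulVec_mulVec, hc, ← mulVec_mulVec, h1,
      sub_self]
  have hone : ∀ g, (1 : Matrix (Fin n) (Fin n) F) ∉ P g := by
    intro g h
    apply hS0
    rw [Submodule.eq_bot_iff]
    intro v hv
    have := h.2 _ (Submodule.mem_map_of_mem (f := Matrix.toLin' (mat g)) hv)
    have := congrArg (mat g⁻¹ *ᵥ ·) this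
    simpa [mulVec_mulVec, mat_inv_mul] using this
  have hmax : ∀ g h, P g ⊆ P h → P g = P h := by
    intro g h hle
    refine Set.Subset.antisymm hle fun y hy => ?_
    by_contra hyg
    obtain ⟨k, hk, hyk⟩ := hpow g y hy.1 hyg
    refine hone h ⟨one_mem R, fun v hv => ?_⟩
    have h2 := (hle hyk).2 v hv
    obtain ⟨k', rfl⟩ := Nat.exists_eq_succ_of_ne_zero hk.ne'
    rw [sub_mulVec, pow_succ, ← mulVec_mulVec, hy.2 v hv, mulVec_zero, zero_sub, neg_eq_zero] at h2
    exact h2
  -- the components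
  let PP := Finset.univ.image P
  let U : Set (Matrix (Fin n) (Fin n) F) → Submodule F (Fin n → F) :=
    fun p => ⨅ y ∈ p, LinearMap.ker (Matrix.toLin' y)
  have hU : ∀ p v, v ∈ U p ↔ ∀ y ∈ p, y *ᵥ v = 0 := fun p v => by simp [U, Submodule.mem_iInf]
  have hgSU : ∀ g, gS g ≤ U (P g) := fun g v hv => (hU _ _).2 fun y hy => hy.2 v hv
  have hsum : ⨆ g, gS g = ⊤ := by
    refine (hirr _ ?_).resolve_left fun h => hS0 ?_
    · rintro s ⟨h, hh, rfl⟩
      rw [Submodule.map_iSup]
      refine iSup_le fun g => le_iSup_of_le ((⟨h, hh⟩ : G) * g) (le_of_eq ?_)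
      show (S.map _).map _ = _
      rw [← Submodule.map_comp, ← Matrix.toLin'_mul]
      rfl
    · rw [iSup_eq_bot] at h
      simpa [gS, mat_one] using h 1
  by_cases hone' : ∀ g h, P g = P h
  · -- one component: `P = 0`
    have hP0 : ∀ y ∈ P 1, y = 0 := by
      intro y hy
      refine Matrix.toLin'.injective (LinearMap.ext fun v => ?_)
      have hv : v ∈ U (P 1) := by
        have : ⨆ g, gS g ≤ U (P 1) := iSup_le fun g => (hone' g 1) ▸ hgSU g
        exact this (by rw [hsum]; trivial)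
      simpa using (hU _ _).1 hv y hy
    obtain ⟨k, hk, h⟩ := hpow 1 x hx fun h => hx0 (hP0 x h)
    exact ⟨k, hk, sub_eq_zero.1 (hP0 _ h)⟩
  exfalso
  push Not at hone'
  obtain ⟨g₁, g₂, h12⟩ := hone'
  let e := PP.equivFin
  let D : Fin PP.card → Submodule F (Fin n → F) := fun i => U (e.symm i).1
  have ht : 2 ≤ PP.card := Finset.one_lt_card.2
    ⟨_, Finset.mem_image_of_mem P (Finset.mem_univ g₁), _,
      Finset.mem_image_of_mem P (Finset.mem_univ g₂), h12⟩
  have hrep : ∀ i, ∃ g, P g = (e.symm i).1 := fun i => by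
    obtain ⟨g, -, hg⟩ := Finset.mem_image.1 (e.symm i).2
    exact ⟨g, hg⟩
  -- `G` permutes the components
  have hperm : ∀ h g : G, (U (P g)).map (Matrix.toLin' (mat h)) = U (P (h * g)) := by
    have hcore : ∀ h g : G, ∀ y, y ∈ P g → mat h * y * mat h⁻¹ ∈ P (h * g) := by
      intro h g y hy
      refine ⟨hnorm h y hy.1, ?_⟩
      rintro _ ⟨w, hw, rfl⟩
      have := hy.2 _ (Submodule.mem_map_of_mem (f := Matrix.toLin' (mat g)) hw)
      simp only [Matrix.toLin'_apply, mulVec_mulVec] at this ⊢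
      rw [mat_mul, show mat h * y * mat h⁻¹ * (mat h * mat g) = mat h * (y * mat g) by
        rw [mul_assoc (mat h * y), ← mul_assoc (mat h⁻¹), mat_inv_mul, one_mul, mul_assoc],
        ← mulVec_mulVec, this, mulVec_zero]
    have hle : ∀ h g : G, (U (P g)).map (Matrix.toLin' (mat h)) ≤ U (P (h * g)) := by
      rintro h g _ ⟨v, hv, rfl⟩
      rw [hU]
      intro y hy
      have := hcore h⁻¹ (h * g) y hy
      rw [inv_mul_cancel_left, inv_inv] at this
      have h0 := congrArg (mat h *ᵥ ·) ((hU _ _).1 hv _ this)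
      simp only [mulVec_mulVec, mulVec_zero] at h0
      rw [← mul_assoc, ← mul_assoc, ← mat_mul, mul_inv_cancel, mat_one, one_mul] at h0
      simpa [mulVec_mulVec] using h0
    intro h g
    refine le_antisymm (hle h g) ?_
    intro v hv
    have := hle h⁻¹ (h * g) (Submodule.mem_map_of_mem (f := Matrix.toLin' (mat h⁻¹)) hv)
    rw [inv_mul_cancel_left] at this
    exact ⟨_, this, by simp [mulVec_mulVec, ← mat_mul, mat_one]⟩
  have hfr : ∀ h g : G, Module.finrank F (U (P (h * g))) ≤ Module.finrank F (U (P g)) := fun h g => by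
    rw [← hperm]; exact Submodule.finrank_map_le _ _
  have hdim : ∀ g, Module.finrank F (U (P g)) = Module.finrank F (U (P 1)) := fun g => by
    refine le_antisymm ?_ ?_
    · have h' := hfr g 1
      rwa [mul_one] at h'
    · have h' := hfr g⁻¹ g
      rwa [inv_mul_cancel] at h'
  have hdec : Cfsg.Geo.IsMDecomposition (Module.finrank F (U (P 1))) D := by
    refine ⟨ht, ?_, fun i => ?_, ?_, ?_⟩
    · refine Nat.pos_of_ne_zero fun h => hS0 ?_
      rw [Submodule.finrank_eq_zero] at h
      have h1 := hgSU 1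
      rw [h, le_bot_iff] at h1
      simpa [gS, mat_one] using h1
    · obtain ⟨g, hg⟩ := hrep i
      show Module.finrank F (U (e.symm i).1) = _
      rw [← hg, hdim]
    · -- independence
      have hsep : ∀ i, ∃ z ∈ R, (∀ j, j ≠ i → z ∈ (e.symm j).1) ∧ z ∉ (e.symm i).1 := by
        intro i
        obtain ⟨g, hg⟩ := hrep i
        have key : ∀ s : Finset (Fin PP.card), i ∉ s →
            ∃ z ∈ R, (∀ j ∈ s, z ∈ (e.symm j).1) ∧ z ∉ P g := by
          intro s
          induction s using Finset.induction with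
          | empty => exact fun _ => ⟨1, one_mem R, by simp, hone g⟩
          | @insert a s has ih =>
            intro his
            rw [Finset.mem_insert, not_or] at his
            obtain ⟨z, hz, hzs, hzg⟩ := ih his.2
            obtain ⟨ga, hga⟩ := hrep a
            obtain ⟨w, hwa, hwg⟩ := Set.not_subset.1 fun hle => his.1
              (e.symm.injective (Subtype.ext (hg.symm.trans ((hmax ga g hle).symm.trans hga))))
            refine ⟨w * z, mul_mem hwa.1 hz, fun j hj => ?_, fun hwz => hwg ⟨hwa.1, fun v hv => ?_⟩⟩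
            · rcases Finset.mem_insert.1 hj with rfl | hj
              · rw [← hga]
                exact ⟨mul_mem hwa.1 hz, fun v hv => by
                  rw [hcomm w hwa.1 z hz, ← mulVec_mulVec, hwa.2 v hv, mulVec_zero]⟩
              · obtain ⟨gj, hgj⟩ := hrep j
                have := hzs j hj
                rw [← hgj] at this ⊢
                exact ⟨mul_mem hwa.1 hz, fun v hv => by
                  rw [← mulVec_mulVec, this.2 v hv, mulVec_zero]⟩
            · obtain ⟨k, hk, hkp⟩ := hpow g z hz hzg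
              obtain ⟨k', rfl⟩ := Nat.exists_eq_succ_of_ne_zero hk.ne'
              have h2 : z ^ (k' + 1) *ᵥ v = v := by
                have := hkp.2 v hv
                rwa [sub_mulVec, one_mulVec, sub_eq_zero] at this
              rw [← h2, mulVec_mulVec, pow_succ', ← mul_assoc,
                hcomm (w * z) (mul_mem hwa.1 hz) (z ^ k') (pow_mem hz _), ← mulVec_mulVec,
                hwz.2 v hv, mulVec_zero]
        obtain ⟨z, hz, hzs, hzg⟩ := key (Finset.univ.erase i) (by simp)
        exact ⟨z, hz, fun j hj => hzs j (by simp [hj]), hg ▸ hzg⟩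
      rw [iSupIndep_def]
      intro i
      rw [Submodule.disjoint_def]
      intro v hv hv'
      obtain ⟨z, hz, hzo, hzi⟩ := hsep i
      obtain ⟨g, hg⟩ := hrep i
      rw [← hg] at hzi
      obtain ⟨k, hk, hkp⟩ := hpow g z hz hzi
      obtain ⟨k', rfl⟩ := Nat.exists_eq_succ_of_ne_zero hk.ne'
      have h0 : z *ᵥ v = 0 := by
        have : (⨆ j, ⨆ (_ : j ≠ i), D j) ≤ LinearMap.ker (Matrix.toLin' z) :=
          iSup₂_le fun j hj w hw => by simpa using (hU _ _).1 hw z (hzo j hj)
        simpa using this hv'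
      have hv1 : v ∈ U (P g) := by rw [hg]; exact hv
      have := (hU _ _).1 hv1 _ hkp
      rw [sub_mulVec, one_mulVec, pow_succ, ← mulVec_mulVec, h0, mulVec_zero, zero_sub,
        neg_eq_zero] at this
      exact this
    · rw [eq_top_iff, ← hsum]
      refine iSup_le fun g => le_trans (hgSU g) (le_iSup_of_le (e ⟨P g, by simp [PP]⟩) ?_)
      show U (P g) ≤ U _
      rw [Equiv.symm_apply_apply]
  refine hprim _ _ D ht hdec fun h hh => ?_
  have hchoice : ∀ i, ∃ j, (D i).map (Matrix.toLin' (mat (⟨h, hh⟩ : G))) = D j := fun i => by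
    obtain ⟨g, hg⟩ := hrep i
    refine ⟨e ⟨P (⟨h, hh⟩ * g), by simp [PP]⟩, ?_⟩
    show (U (e.symm i).1).map _ = U _
    rw [← hg, hperm, Equiv.symm_apply_apply]
  choose f hf using hchoice
  have hinj : Function.Injective f := by
    intro i j hij
    by_contra hne
    have h1 := congrArg (Submodule.comap (Matrix.toLin' (mat (⟨h, hh⟩ : G))))
      ((hf i).trans (hij ▸ (hf j).symm))
    have hLi : Function.Injective (Matrix.toLin' (mat (⟨h, hh⟩ : G))) := fun v w hvw => by
      have := congrArg (mat (⟨h, hh⟩ : G)⁻¹ *ᵥ ·) hvw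
      simpa [mulVec_mulVec, mat_inv_mul] using this
    rw [Submodule.comap_map_eq_of_injective hLi, Submodule.comap_map_eq_of_injective hLi] at h1
    have hd := hdec.indep i
    have : D i ≤ ⨆ k, ⨆ (_ : k ≠ i), D k := le_iSup₂_of_le j (Ne.symm hne) h1.le
    have hb : D i = ⊥ := hd.eq_bot_of_le this
    have := hdec.finrank_eq i
    have hp := hdec.pos
    rw [hb, finrank_bot] at this
    omega
  exact ⟨Equiv.ofBijective f (Finite.injective_iff_bijective.1 hinj), fun i => hf i⟩

/-- Fixed-point spaces in primitive soluble linear groups. Let F be a finite field and G a soluble subgroup of GL_n(F) that acts irreducibly on F^n and primitively (G preserves no decomposition of F^n into two or more independent subspaces of equal dimension). Then every non-identity element g of G has fixed-point space {v : g v = v} of dimension at most 3n/4. -/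
theorem result {F : Type*} [Field F] [Fintype F] {n : ℕ} (G : Subgroup (Matrix.GeneralLinearGroup (Fin n) F)) (hsol : IsSolvable G) (hirr : Cfsg.Geo.ActsIrreducibly (Cfsg.Geo.matrixSet G)) (hprim : ∀ (m t : ℕ) (D : Fin t → Submodule F (Fin n → F)), 2 ≤ t → Cfsg.Geo.IsMDecomposition m D → ¬ G ≤ Cfsg.Geo.decompositionStabilizer D) (g : Matrix.GeneralLinearGroup (Fin n) F) (hg : g ∈ G) (hg1 : g ≠ 1) :
    4 * Module.finrank F (Module.End.eigenspace (Matrix.toLin' (g : Matrix (Fin n) (Fin n) F)) 1) ≤ 3 * n := by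
  classical
  show 4 * Module.finrank F (fixSp g) ≤ 3 * n
  obtain ⟨A, -, hA⟩ := Finite.exists_le_maximal
    (p := fun N : Subgroup G => N.Normal ∧ ∀ a ∈ N, ∀ b ∈ N, a * b = b * a) (a := ⊥)
    ⟨inferInstance, fun a ha b hb => by rw [Subgroup.mem_bot.1 ha, Subgroup.mem_bot.1 hb]⟩
  obtain ⟨⟨hAn, hAc⟩, hAmax⟩ := hA
  let s : Set (Matrix (Fin n) (Fin n) F) := mat '' (A : Set G)
  have hcomm : ∀ x ∈ Algebra.adjoin F s, ∀ y ∈ Algebra.adjoin F s, x * y = y * x := by
    intro x hx y hy
    refine Algebra.commute_of_mem_adjoin_of_forall_mem_commute hy fun b hb => ?_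
    refine (Algebra.commute_of_mem_adjoin_of_forall_mem_commute hx fun a ha => ?_).symm
    obtain ⟨a', ha', rfl⟩ := ha
    obtain ⟨b', hb', rfl⟩ := hb
    show mat b' * mat a' = mat a' * mat b'
    rw [← mat_mul, ← mat_mul, hAc _ hb' _ ha']
  have hnorm : ∀ (h : G), ∀ x ∈ Algebra.adjoin F s, mat h * x * mat h⁻¹ ∈ Algebra.adjoin F s := by
    intro h x hx
    induction hx using Algebra.adjoin_induction with
    | mem x hx =>
      obtain ⟨a, ha, rfl⟩ := hx
      exact Algebra.subset_adjoin ⟨h * a * h⁻¹, hAn.conj_mem a ha h, rfl⟩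
    | algebraMap r =>
      rw [← Algebra.commutes r (mat h), mul_assoc, ← mat_mul, mul_inv_cancel, mat_one, mul_one]
      exact Subalgebra.algebraMap_mem _ r
    | add x y _ _ ihx ihy => rw [mul_add, add_mul]; exact add_mem ihx ihy
    | mul x y _ _ ihx ihy =>
      have : mat h * (x * y) * mat h⁻¹ = (mat h * x * mat h⁻¹) * (mat h * y * mat h⁻¹) := by
        rw [mul_assoc (mat h * x), ← mul_assoc (mat h⁻¹), ← mul_assoc (mat h⁻¹), mat_inv_mul, one_mul]
        simp only [mul_assoc]
      rw [this]; exact mul_mem ihx ihy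
  have hmem : ∀ a ∈ A, mat a ∈ Algebra.adjoin F s := fun a ha =>
    Algebra.subset_adjoin ⟨a, ha, rfl⟩
  have hfield : ∀ x ∈ Algebra.adjoin F s, x ≠ 0 → ∀ v, x *ᵥ v = 0 → v = 0 := by
    intro x hx hx0 v hv
    obtain ⟨k, hk, hpk⟩ := pow_eq_one_of_ne_zero hirr hprim _ hcomm hnorm hx hx0
    obtain ⟨k', rfl⟩ := Nat.exists_eq_succ_of_ne_zero hk.ne'
    have := congrArg (· *ᵥ v) hpk
    rwa [pow_succ, ← mulVec_mulVec, hv, mulVec_zero, one_mulVec, eq_comm] at this
  -- non-identity elements of `A` fix only zero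
  have hAfix : ∀ a ∈ A, a ≠ 1 → Module.finrank F (fixSp (a : GL (Fin n) F)) = 0 := by
    intro a ha ha1
    rw [Submodule.finrank_eq_zero, Submodule.eq_bot_iff]
    intro v hv
    refine hfield (mat a - 1) (sub_mem (hmem a ha) (one_mem _))
      (fun h => ha1 (mat_inj ((sub_eq_zero.1 h).trans mat_one.symm))) v ?_
    rw [sub_mulVec, one_mulVec, sub_eq_zero]
    exact mem_fixSp.1 hv
  set x : G := ⟨g, hg⟩ with hx
  by_cases hC : ∀ a ∈ A, x * a = a * x
  swap
  · push Not at hC
    obtain ⟨a, ha, hax⟩ := hC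
    have h0 : ∀ v, v ∈ fixSp g → mat a *ᵥ v ∈ fixSp g → v = 0 := by
      intro v hv hav
      refine hfield (mat (x * a * x⁻¹) - mat a) (sub_mem (hmem _ (hAn.conj_mem a ha x)) (hmem a ha))
        (fun h => hax ?_) v ?_
      · have := mat_inj (sub_eq_zero.1 h)
        exact mul_inv_eq_iff_eq_mul.1 this
      · have hxinv : mat x⁻¹ *ᵥ v = v := by
          conv_lhs => rw [← mem_fixSp.1 hv]
          rw [mulVec_mulVec]
          show (mat x⁻¹ * mat x) *ᵥ v = v
          rw [mat_inv_mul, one_mulVec]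
        rw [sub_mulVec, sub_eq_zero, mat_mul, mat_mul, ← mulVec_mulVec, hxinv, ← mulVec_mulVec]
        exact mem_fixSp.1 hav
    have hle : Module.finrank F (fixSp g) * 2 ≤ n := by
      let L := Matrix.toLin' (mat a)
      have hinj : Function.Injective (L.comp (fixSp g).subtype) := by
        intro u w huw
        have := congrArg (mat a⁻¹ *ᵥ ·) huw
        exact Subtype.ext (by simpa [L, mulVec_mulVec, mat_inv_mul] using this)
      have h1 := LinearMap.finrank_range_of_inj hinj
      have h2 := Submodule.finrank_sup_add_finrank_inf_eq (LinearMap.range (L.comp (fixSp g).subtype))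
        (fixSp g)
      have h3 : LinearMap.range (L.comp (fixSp g).subtype) ⊓ fixSp g = ⊥ := by
        rw [Submodule.eq_bot_iff]
        rintro _ ⟨⟨v, rfl⟩, hv⟩
        have := h0 _ v.2 (by simpa [L] using hv)
        simp [this]
      rw [h3, finrank_bot, add_zero, h1] at h2
      have h4 := Submodule.finrank_le (LinearMap.range (L.comp (fixSp g).subtype) ⊔ fixSp g)
      rw [Module.finrank_fin_fun] at h4
      omega
    omega
  by_cases hxA : x ∈ A
  · rw [show g = ((x : G) : GL (Fin n) F) from rfl,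
      hAfix x hxA fun h => hg1 (congrArg Subtype.val h)]
    omega
  set C : Subgroup G := Subgroup.centralizer (A : Set G) with hCdef
  have hCn : C.Normal := by
    haveI := hAn
    exact Subgroup.normal_centralizer
  have hAC : A ≤ C := fun a ha => Subgroup.mem_centralizer_iff.2 fun b hb => hAc b hb a ha
  obtain ⟨E, hAE, hE⟩ := Finite.exists_le_maximal
    (p := fun N : Subgroup G => N.Normal ∧ N ≤ C ∧ ∀ a ∈ N, ∀ b ∈ N, a * b * a⁻¹ * b⁻¹ ∈ A) (a := A)
    ⟨hAn, hAC, fun a ha b hb => mul_mem (mul_mem (mul_mem ha hb) (inv_mem ha)) (inv_mem hb)⟩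
  obtain ⟨⟨hEn, hEC, hEab⟩, hEmax⟩ := hE
  haveI := hEn
  haveI := hCn
  set D := C ⊓ Subgroup.centralizer (E : Set G) with hDdef
  have hDA : D ≤ A := by
    haveI : D.Normal := Subgroup.normal_inf_normal _ _
    have hAD : A ≤ D := le_inf hAC fun a ha => Subgroup.mem_centralizer_iff.2 fun b hb =>
      (Subgroup.mem_centralizer_iff.1 (hEC hb) a ha).symm
    obtain ⟨k, hk⟩ := (Group.isSolvable_def G).1 hsol
    by_contra hDnA
    -- the last derived term of `D` outside `A`
    let DS : ℕ → Subgroup G := fun i => Nat.rec D (fun _ X => ⁅X, X⁆) i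
    have hDS : ∀ i, DS i ≤ derivedSeries G i := fun i => by
      induction i with
      | zero => simp
      | succ i ih => exact Subgroup.commutator_mono ih ih
    have hDSn : ∀ i, (DS i).Normal ∧ DS i ≤ D := fun i => by
      induction i with
      | zero => exact ⟨inferInstance, le_rfl⟩
      | succ i ih =>
        haveI := ih.1
        exact ⟨Subgroup.commutator_normal _ _, (Subgroup.commutator_le_right _ _).trans ih.2⟩
    have hex : ∃ i, DS i ≤ A := ⟨k, (hDS k).trans (hk ▸ bot_le)⟩
    obtain ⟨i, hi, hi'⟩ : ∃ i, ¬ DS i ≤ A ∧ DS (i + 1) ≤ A := by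
      refine ⟨Nat.find hex - 1, fun h => ?_, ?_⟩
      · rcases Nat.eq_zero_or_pos (Nat.find hex) with h0 | h0
        · exact hDnA (by have := Nat.find_spec hex; rwa [h0] at this)
        · exact Nat.find_min hex (by omega) h
      · rcases Nat.eq_zero_or_pos (Nat.find hex) with h0 | h0
        · exact absurd (by have := Nat.find_spec hex; rwa [h0] at this) hDnA
        · rw [Nat.sub_add_cancel h0]; exact Nat.find_spec hex
    haveI := (hDSn i).1
    haveI := hAn
    set D₁ := DS i ⊔ A with hD₁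
    have hD₁D : D₁ ≤ D := sup_le (hDSn i).2 hAD
    have hcomm1 : ∀ a ∈ E ⊔ D₁, ∀ b ∈ E ⊔ D₁, a * b * a⁻¹ * b⁻¹ ∈ A := by
      have hgen : ∀ a ∈ (E : Set G) ∪ (SetLike.coe (DS i)), ∀ b ∈ (E : Set G) ∪ (SetLike.coe (DS i)),
          a * b * a⁻¹ * b⁻¹ ∈ A := by
        rintro a (ha | ha) b (hb | hb)
        · exact hEab a ha b hb
        · have := Subgroup.mem_centralizer_iff.1 ((hDSn i).2 hb).2 a ha
          rw [show a * b * a⁻¹ * b⁻¹ = 1 by rw [this]; group]
          exact one_mem A
        · have := Subgroup.mem_centralizer_iff.1 ((hDSn i).2 ha).2 b hb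
          rw [show a * b * a⁻¹ * b⁻¹ = 1 by rw [← this]; group]
          exact one_mem A
        · exact hi' (Subgroup.commutator_mem_commutator ha hb)
      have hle : E ⊔ D₁ ≤ Subgroup.closure ((E : Set G) ∪ (SetLike.coe (DS i))) := by
        refine sup_le (fun a ha => Subgroup.subset_closure (.inl ha)) (sup_le
          (fun a ha => Subgroup.subset_closure (.inr ha))
          (fun a ha => Subgroup.subset_closure (.inl (hAE ha))))
      intro a ha b hb
      have hbot : (Subgroup.closure ((E : Set G) ∪ (SetLike.coe (DS i)))).map (QuotientGroup.mk' A) =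
          Subgroup.closure (QuotientGroup.mk' A '' ((E : Set G) ∪ (SetLike.coe (DS i)))) :=
        MonoidHom.map_closure _ _
      have hab : ∀ p ∈ Subgroup.closure (QuotientGroup.mk' A '' ((E : Set G) ∪ (SetLike.coe (DS i)))),
          ∀ q ∈ Subgroup.closure (QuotientGroup.mk' A '' ((E : Set G) ∪ (SetLike.coe (DS i)))),
            p * q = q * p := by
        refine fun p hp q hq => Subgroup.closure_induction₂ ?_ ?_ ?_ ?_ ?_ ?_ ?_ hp hq
        · rintro _ _ ⟨a, ha, rfl⟩ ⟨b, hb, rfl⟩
          rw [← map_mul, ← map_mul, QuotientGroup.mk'_eq_mk']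
          refine ⟨(a * b)⁻¹ * (b * a), ?_, by group⟩
          have := hgen b⁻¹ (hb.imp (fun h => E.inv_mem h) (fun h => (DS i).inv_mem h)) a⁻¹
            (ha.imp (fun h => E.inv_mem h) (fun h => (DS i).inv_mem h))
          simpa [mul_assoc] using this
        · intros; simp
        · intros; simp
        · intro p q r _ _ _ h1 h2; exact Commute.mul_left h1 h2
        · intro p q r _ _ _ h1 h2; exact Commute.mul_right h1 h2
        · intro p q _ _ h1; exact Commute.inv_left h1
        · intro p q _ _ h1; exact Commute.inv_right h1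
      have := hab _ (hbot ▸ Subgroup.mem_map_of_mem _ (hle ha)) _
        (hbot ▸ Subgroup.mem_map_of_mem _ (hle hb))
      rw [← QuotientGroup.eq_one_iff]
      show QuotientGroup.mk' A (a * b * a⁻¹ * b⁻¹) = 1
      rw [map_mul, map_mul, map_mul, this, map_inv, map_inv]
      group
    haveI : D₁.Normal := @Subgroup.sup_normal G _ (DS i) A (hDSn i).1 hAn
    have hED : E ⊔ D₁ ≤ E := hEmax
      ⟨@Subgroup.sup_normal G _ E D₁ hEn this, sup_le hEC (hD₁D.trans inf_le_left), hcomm1⟩ le_sup_left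
    have hD₁E : D₁ ≤ E := le_sup_right.trans hED
    have hD₁A : D₁ ≤ A := hAmax
      ⟨this, fun a ha b hb => Subgroup.mem_centralizer_iff.1 (hD₁D hb).2 a (hD₁E ha)⟩
      le_sup_right
    exact hi (le_sup_left.trans hD₁A)
  have hout : ∀ c : G, c ∈ C → c ∉ A → ∃ e ∈ E, c * e * c⁻¹ * e⁻¹ ≠ 1 := by
    intro c hc hcA
    by_contra hno
    push Not at hno
    refine hcA (hDA ⟨hc, Subgroup.mem_centralizer_iff.2 fun e he => ?_⟩)
    have := hno e he
    exact (mul_inv_eq_iff_eq_mul.1 (mul_inv_eq_one.1 this)).symm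
  have hfix : ∀ y e : G,
      2 * Module.finrank F (fixSp (y : GL (Fin n) F)) ≤
        n + Module.finrank F (fixSp ((y * e * y⁻¹ * e⁻¹ : G) : GL (Fin n) F)) := by
    intro y e
    refine finrank_two _ _ (e : GL (Fin n) F) fun v hv hev => ?_
    rw [mem_fixSp]
    have hy : mat y⁻¹ *ᵥ v = v := by
      conv_lhs => rw [← mem_fixSp.1 hv]
      rw [mulVec_mulVec]
      show (mat y⁻¹ * mat y) *ᵥ v = v
      rw [mat_inv_mul, one_mulVec]
    show mat (y * e * y⁻¹ * e⁻¹) *ᵥ (mat e *ᵥ v) = mat e *ᵥ v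
    rw [mulVec_mulVec, ← mat_mul, inv_mul_cancel_right, mat_mul, mat_mul, ← mulVec_mulVec, hy,
      ← mulVec_mulVec]
    exact mem_fixSp.1 hev
  obtain ⟨e, he, hc1⟩ := hout x (Subgroup.mem_centralizer_iff.2 fun a ha => (hC a ha).symm) hxA
  set c := x * e * x⁻¹ * e⁻¹ with hc
  have hcE : c ∈ E := mul_mem (hEn.conj_mem e he x) (inv_mem he)
  have hd := hfix x e
  rw [← hc] at hd
  by_cases hcA : c ∈ A
  · rw [hAfix c hcA hc1] at hd
    have : fixSp (x : GL (Fin n) F) = fixSp g := rfl
    rw [this] at hd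
    omega
  · obtain ⟨e', he', hz1⟩ := hout c (hEC hcE) hcA
    have hd' := hfix c e'
    rw [hAfix _ (hEab c hcE e' he') hz1] at hd'
    have : fixSp (x : GL (Fin n) F) = fixSp g := rfl
    rw [this] at hd
    omega

end Cfsg.Agent.S5876
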