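import Cfsg.Statements.S5877
import Cfsg.Agent.Lib.ExtraEigen.Odd
import Cfsg.Agent.Lib.ExtraEigen.Prime

set_option autoImplicit false
open Cfsg

namespace Cfsg.Agent.S5877

open CfsgLib.ExtraEigen Matrix
open scoped commutatorElement

/-- Eigenspaces of elements normalising an absolutely irreducible extraspecial group. Let F be a finite field, r a prime, and R ≤ GL_n(F) an absolutely irreducible extraspecial r-group (an r-group whose centre equals its derived subgroup and has order r) of exponent r or 4. Let g ∈ GL_n(F) normalise the product of R with the scalar matrices, have prime order ϖ and not be scalar, and let W be the eigenspace of g for any c ∈ F (W may be the zero subspace). Then dim W ≤ 3n/4 if ϖ = 2, dim W ≤ 2n/3 if ϖ = 3, and dim W ≤ n/2 if ϖ > 3; moreover if ϖ = 3 and 3 does not divide n then dim W ≤ n/2. -/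
theorem result {F : Type*} [Field F] [Fintype F] {n r ϖ : ℕ} (R : Subgroup (Matrix.GeneralLinearGroup (Fin n) F)) (hr : r.Prime) (hR : IsPGroup r R) (hZ : Nat.card (Subgroup.center R) = r) (hext : commutator R = Subgroup.center R) (hexp : Monoid.exponent R = r ∨ Monoid.exponent R = 4) (hirr : Cfsg.Geo.ActsAbsolutelyIrreducibly (Cfsg.Geo.matrixSet R)) (g : Matrix.GeneralLinearGroup (Fin n) F) (hg : g ∈ Cfsg.Geo.subgroupNormalizer (R ⊔ Cfsg.Geo.scalars (Fin n) F)) (hϖ : ϖ.Prime) (hord : orderOf g = ϖ) (hns : g ∉ Cfsg.Geo.scalars (Fin n) F) (c : F) :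
    (ϖ = 2 → 4 * Module.finrank F (Module.End.eigenspace (Matrix.toLin' (g : Matrix (Fin n) (Fin n) F)) c) ≤ 3 * n) ∧
    (ϖ = 3 → 3 * Module.finrank F (Module.End.eigenspace (Matrix.toLin' (g : Matrix (Fin n) (Fin n) F)) c) ≤ 2 * n) ∧
    (3 < ϖ → 2 * Module.finrank F (Module.End.eigenspace (Matrix.toLin' (g : Matrix (Fin n) (Fin n) F)) c) ≤ n) ∧
    (ϖ = 3 → ¬ 3 ∣ n → 2 * Module.finrank F (Module.End.eigenspace (Matrix.toLin' (g : Matrix (Fin n) (Fin n) F)) c) ≤ n) := by
  classical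
  obtain ⟨hirr1, hirr2⟩ := hirr
  have hn : n ≠ 0 := by
    rintro rfl
    have : Subsingleton (Matrix.GeneralLinearGroup (Fin 0) F) :=
      ⟨fun a b => Units.ext (Subsingleton.elim _ _)⟩
    rw [Nat.card_of_subsingleton (1 : Subgroup.center R)] at hZ
    exact hr.one_lt.ne hZ
  have hscR : ∀ w : R, w ∈ Subgroup.center R → ∃ z, (w : Matrix.GeneralLinearGroup (Fin n) F) = sc z ∧ z ^ r = 1 := by
    intro w hw
    obtain ⟨d, hd⟩ := hirr2 ((w : Matrix.GeneralLinearGroup (Fin n) F) : Matrix (Fin n) (Fin n) F) (by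
      rintro _ ⟨y, hy, rfl⟩
      exact congrArg (fun u : R => ((u : Matrix.GeneralLinearGroup (Fin n) F) : Matrix (Fin n) (Fin n) F))
        (Subgroup.mem_center_iff.1 hw ⟨y, hy⟩).symm)
    have hd0 : d ≠ 0 := by
      rintro rfl
      have h1 := congrFun (congrFun (w : Matrix.GeneralLinearGroup (Fin n) F).mul_inv ⟨0, Nat.pos_of_ne_zero hn⟩)
        ⟨0, Nat.pos_of_ne_zero hn⟩
      simp [hd] at h1
    have hz : (w : Matrix.GeneralLinearGroup (Fin n) F) = sc (Units.mk0 d hd0) :=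
      Units.ext (by rw [hd, coe_sc]; rfl)
    refine ⟨_, hz, sc_inj hn ?_⟩
    have h1 : (⟨w, hw⟩ : Subgroup.center R) ^ r = 1 := by rw [← hZ]; exact pow_card_eq_one'
    have h2 : (w : Matrix.GeneralLinearGroup (Fin n) F) ^ r = 1 :=
      congrArg (fun u : Subgroup.center R => ((u : R) : Matrix.GeneralLinearGroup (Fin n) F)) h1
    rw [map_pow, ← hz, h2, map_one]
  have hr0 : (r : F) ≠ 0 := by
    have : Nontrivial (Subgroup.center R) :=
      Finite.one_lt_card_iff_nontrivial.1 (hZ ▸ hr.one_lt)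
    obtain ⟨⟨w, hw⟩, hw1⟩ := exists_ne (1 : Subgroup.center R)
    obtain ⟨z, hz, hzr⟩ := hscR w hw
    have hz1 : z ≠ 1 := fun e => hw1 (Subtype.ext (Subtype.ext (by rw [hz, e, map_one]; rfl)))
    haveI := Fact.mk hr
    have hzord : orderOf z = r := orderOf_eq_prime hzr hz1
    have hprim : IsPrimitiveRoot (z : F) r := by
      rw [← hzord, ← orderOf_units]
      exact IsPrimitiveRoot.orderOf _
    haveI : NeZero r := ⟨hr.ne_zero⟩
    exact hprim.neZero'.out
  set K := R ⊔ Cfsg.Geo.scalars (Fin n) F with hKdef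
  have hmemK : ∀ x ∈ K, ∃ z, ∃ x₀ ∈ R, x = sc z * x₀ := by
    intro x hx
    obtain ⟨x₀, hx₀, s, hs, rfl⟩ := Subgroup.mem_sup_of_normal_right.1 hx
    obtain ⟨z, rfl⟩ := exists_sc hs
    exact ⟨z, x₀, hx₀, (sc_comm z x₀).symm⟩
  have hK : IsBicharGroup r K := by
    refine ⟨le_sup_right, ?_, fun M hM => hirr2 M ?_⟩
    · intro x hx y hy
      obtain ⟨a, x₀, hx₀, rfl⟩ := hmemK x hx
      obtain ⟨b, y₀, hy₀, rfl⟩ := hmemK y hy
      obtain ⟨z, hz, hzr⟩ := hscR ⁅(⟨x₀, hx₀⟩ : R), ⟨y₀, hy₀⟩⁆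
        (hext ▸ Subgroup.commutator_mem_commutator (Subgroup.mem_top _) (Subgroup.mem_top _))
      have hz' : x₀ * y₀ * x₀⁻¹ * y₀⁻¹ = sc z := hz
      refine ⟨z, hzr, ?_⟩
      rw [← hz']
      calc sc a * x₀ * (sc b * y₀) = sc a * sc b * (x₀ * y₀) := by
            rw [← mul_assoc, mul_assoc (sc a) x₀, ← sc_comm b x₀]; group
        _ = sc a * sc b * (x₀ * y₀ * x₀⁻¹ * y₀⁻¹) * (y₀ * x₀) := by group
        _ = x₀ * y₀ * x₀⁻¹ * y₀⁻¹ * (sc b * (sc a * (y₀ * x₀))) := by
            rw [hz', ← map_mul, sc_comm, mul_assoc, ← mul_assoc (sc b), ← map_mul, mul_comm b a]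
        _ = x₀ * y₀ * x₀⁻¹ * y₀⁻¹ * (sc b * y₀ * (sc a * x₀)) := by
            rw [← mul_assoc (sc a) y₀, sc_comm a y₀]; group
    · rintro _ ⟨x, hx, rfl⟩
      exact hM x (Subgroup.mem_sup_left hx)
  have hgK : ∀ x ∈ K, g * x * g⁻¹ ∈ K := fun x hx => (Subgroup.mem_normalizer_iff.1 hg x).1 hx
  have hgiK : ∀ x ∈ K, g⁻¹ * x * g ∈ K := fun x hx =>
    (Subgroup.mem_normalizer_iff.1 hg _).2 (by simpa [mul_assoc] using hx)
  have hgp : g ^ ϖ = 1 := hord ▸ pow_orderOf_eq_one g
  haveI := Fact.mk hϖ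
  haveI := Fact.mk hr
  show (ϖ = 2 → 4 * Module.finrank F (eig g c) ≤ 3 * n) ∧ (ϖ = 3 → 3 * Module.finrank F (eig g c) ≤ 2 * n) ∧
    (3 < ϖ → 2 * Module.finrank F (eig g c) ≤ n) ∧
    (ϖ = 3 → ¬ 3 ∣ n → 2 * Module.finrank F (eig g c) ≤ n)
  set W := Module.finrank F (eig g c) with hW
  rcases eq_or_ne c 0 with rfl | hc
  · have : W = 0 := by rw [hW, eig_zero, finrank_bot]
    simp [this]
  by_cases hI' : ∃ x ∈ K, ∃ z, br g x = sc z ∧ z ≠ 1
  · obtain ⟨x, hx, z, hz, hz1⟩ := hI'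
    have hrel : g * x = sc z * (x * g) := by rw [← hz, br]; group
    have hit : ∀ k : ℕ, g ^ k * x = sc (z ^ k) * (x * g ^ k) := by
      intro k
      induction k with
      | zero => simp
      | succ k ih =>
        calc g ^ (k + 1) * x = g * (g ^ k * x) := by rw [pow_succ', mul_assoc]
          _ = g * sc (z ^ k) * x * g ^ k := by rw [ih]; group
          _ = sc (z ^ k) * (g * x) * g ^ k := by rw [← sc_comm]; group
          _ = sc (z ^ k) * sc z * x * g * g ^ k := by rw [hrel]; group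
          _ = sc (z ^ (k + 1)) * (x * g ^ (k + 1)) := by
              rw [← map_mul, ← pow_succ, mul_assoc, mul_assoc, ← mul_assoc x g, mul_assoc x, ← pow_succ']
    have hzϖ : z ^ ϖ = 1 := by
      have h := hit ϖ
      rw [hgp, one_mul, mul_one] at h
      exact sc_inj hn (by rw [map_one]; exact (mul_eq_right.1 h.symm))
    have h := mul_finrank_eig_le (orderOf_eq_prime hzϖ hz1) hrel c
    rw [← hW] at h
    refine ⟨?_, ?_, ?_, ?_⟩ <;> intros <;> nlinarith [hϖ.two_le]
  push Not at hI'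
  have hI : ∀ x ∈ K, ∀ z, br g x = sc z → z = 1 := hI'
  have hns' : ∀ z, g ≠ sc z := fun z e => hns (e ▸ sc_mem z)
  have hbK : ∀ x ∈ K, br g x ∈ K := fun x hx => mul_mem (hgK x hx) (inv_mem hx)
  obtain ⟨x, hx, hxg⟩ : ∃ x ∈ K, br g x ≠ 1 := by
    by_contra hall
    push Not at hall
    obtain ⟨z, hz⟩ := hK.exists_sc_of_commute hall
    exact hns' z hz
  have hmain : 2 * r * W ≤ (r + 1) * n := by
    obtain ⟨X, hX, hXy⟩ : ∃ X ∈ K, br (br g x) X ≠ 1 := by
      by_contra hall
      push Not at hall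
      obtain ⟨z, hz⟩ := hK.exists_sc_of_commute hall
      exact hxg (by rw [hz, hI x hx z hz, map_one])
    obtain ⟨z, hzr, hz⟩ := hK.br_eq (hbK x hx) hX
    have hz1 : z ≠ 1 := fun e => hXy (by rw [hz, e, map_one])
    have h1 := mul_finrank_eig_le (orderOf_eq_prime hzr hz1)
      (show br g x * X = sc z * (X * br g x) by rw [← hz, br.eq_1 (br g x) X]; group) 1
    have h2 := two_finrank_eig_le g x hc (eig (br g x) 1) fun w hw _ _ => mem_eig.2 (by rw [hw, one_smul])
    rw [← hW] at h2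
    nlinarith
  have hhalf : ϖ ≠ 2 → ϖ ≠ r → 2 * W ≤ n := by
    intro h2 hne
    obtain ⟨x, hx, hnc⟩ : ∃ x ∈ K, br (br g x) (g * br g x * g⁻¹) ≠ 1 := by
      by_contra hall
      push Not at hall
      obtain ⟨z, hz⟩ := commute_all_imp_scalar hK hr hϖ h2 hne hgK hgiK hgp hI hall
      exact hns' z hz
    obtain ⟨z, -, hz⟩ := hK.br_eq (hbK x hx) (hgK _ (hbK x hx))
    have hz1 : (z : F) ≠ 1 := fun e => hnc (by rw [hz, (Units.ext e : z = 1), map_one])
    have h := two_finrank_eig_le g x hc ⊥ fun w hw hwW hv => by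
      set v := ((x⁻¹ : Matrix.GeneralLinearGroup (Fin n) F) : Matrix (Fin n) (Fin n) F) *ᵥ w
      have hxv : (x : Matrix (Fin n) (Fin n) F) *ᵥ v = w := by
        simp [v, Matrix.mulVec_mulVec]
      have hx'v : ((g * x * g⁻¹ : Matrix.GeneralLinearGroup (Fin n) F) : Matrix (Fin n) (Fin n) F) *ᵥ v = w := by
        have hgv := mem_eig.1 hv
        have hgi : ((g⁻¹ : Matrix.GeneralLinearGroup (Fin n) F) : Matrix (Fin n) (Fin n) F) *ᵥ v = c⁻¹ • v := by
          have h := congrArg (fun u => c⁻¹ • (((g⁻¹ : Matrix.GeneralLinearGroup (Fin n) F) :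
            Matrix (Fin n) (Fin n) F) *ᵥ u)) hgv
          simpa [Matrix.mulVec_mulVec, Matrix.mulVec_smul, smul_smul, hc] using h.symm
        rw [Units.val_mul, Units.val_mul, ← Matrix.mulVec_mulVec, hgi, ← Matrix.mulVec_mulVec,
          Matrix.mulVec_smul, Matrix.mulVec_smul, hxv, mem_eig.1 hwW, smul_smul, inv_mul_cancel₀ hc, one_smul]
      have hy' := br_mulVec_eq hc hv (hx'v.symm ▸ hwW)
      rw [hx'v, show br g (g * x * g⁻¹) = g * br g x * g⁻¹ by simp only [br]; group] at hy'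
      have hrel : br g x * (g * br g x * g⁻¹) = sc z * ((g * br g x * g⁻¹) * br g x) := by
        rw [← hz, br.eq_1 (br g x) (g * br g x * g⁻¹)]; group
      have h := congrArg (fun A : Matrix.GeneralLinearGroup (Fin n) F =>
        (A : Matrix (Fin n) (Fin n) F) *ᵥ w) hrel
      simp only [Units.val_mul _ (g * br g x * g⁻¹), sc_mul_coe, Matrix.smul_mulVec] at h
      rw [← Matrix.mulVec_mulVec, hy', hw, Units.val_mul, ← Matrix.mulVec_mulVec, hw, hy'] at h
      rw [Submodule.mem_bot]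
      by_contra hw0
      exact hz1 (smul_left_injective F hw0 (h.symm.trans (one_smul F w).symm))
    rw [finrank_bot, ← hW] at h
    omega
  have h3dvd : r = 3 → 3 ∣ n := by
    intro h3
    haveI : Fintype (Cls K) := Fintype.ofFinite _
    obtain ⟨a, ha⟩ := card_subgroup_cls hK hr (⊤ : Subgroup (Cls K))
    rw [Subgroup.card_top, Nat.card_eq_fintype_card] at ha
    have hcard := hK.card_eq hn (by rw [ha]; push_cast; exact pow_ne_zero _ hr0)
    rw [ha, h3] at hcard
    rcases Nat.eq_zero_or_pos a with rfl | ha0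
    · exfalso
      have hn1 : n = 1 := Nat.eq_one_of_mul_eq_one_left hcard.symm
      subst hn1
      have hbot : commutator R = ⊥ := by
        rw [commutator_def, Subgroup.commutator_eq_bot_iff_le_centralizer]
        rintro a - b -
        refine Subtype.ext (Units.ext ?_)
        ext i j
        fin_cases i; fin_cases j
        simp [Matrix.mul_apply, mul_comm]
      rw [← hext, hbot, Subgroup.card_bot] at hZ
      exact hr.one_lt.ne hZ
    · have h : 3 ∣ n * n := hcard ▸ dvd_pow_self 3 ha0.ne'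
      exact (Nat.prime_three.dvd_mul.1 h).elim id id
  have hr2 := hr.two_le
  refine ⟨fun h => by nlinarith, fun h => ?_, fun h => ?_, fun h hn3 => ?_⟩
  · by_cases hr3 : r = 2
    · have := hhalf (by omega) (by omega)
      omega
    · have : 3 ≤ r := by omega
      nlinarith
  · by_cases hne : ϖ = r
    · subst hne
      have hexp' : Monoid.exponent R = ϖ := hexp.resolve_right fun h4 => by
        obtain ⟨k, hk⟩ := IsPGroup.iff_card.1 hR
        have h4' : (4 : ℕ) ∣ Nat.card R := h4 ▸ Group.exponent_dvd_nat_card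
        rw [hk] at h4'
        have := (Nat.prime_dvd_prime_iff_eq Nat.prime_two hr).1
          (Nat.prime_two.dvd_of_dvd_pow ((show 2 ∣ 4 by norm_num).trans h4'))
        omega
      refine two_finrank_eig_le_of_prime hK hr hn (by
        rcases hr.eq_two_or_odd with h' | h' <;> omega) hr0 (fun y hy => ?_) hgK hgiK hgp hns' hI hc
      obtain ⟨z, x₀, hx₀, rfl⟩ := hmemK y hy
      refine ⟨z⁻¹, ?_⟩
      rw [← mul_assoc, ← map_mul, inv_mul_cancel, map_one, one_mul]
      exact congrArg (fun u : R => (u : Matrix.GeneralLinearGroup (Fin n) F))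
        (hexp' ▸ Monoid.pow_exponent_eq_one (⟨x₀, hx₀⟩ : R))
    · exact hhalf (by omega) hne
  · exact hhalf (by omega) fun e => hn3 (h3dvd (e.symm.trans h))

end Cfsg.Agent.S5877
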