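import Cfsg.Statements.S5885
import Mathlib.Tactic
import Mathlib.GroupTheory.GroupAction.Primitive

set_option autoImplicit false
open Cfsg
open scoped Pointwise

namespace Cfsg.Agent.S5885

open MulAction Equiv

/-- even permutations lift, when all primitive groups are giants -/
lemma lift_even {G Ω : Type*} [Group G] [MulAction G Ω] [IsPreprimitive G Ω] [Fintype Ω]
    [DecidableEq Ω] (n : ℕ) (hn : Fintype.card Ω = n)
    (hA : ∀ P : Subgroup (Equiv.Perm (Fin n)), MulAction.IsPreprimitive P (Fin n) →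
      alternatingGroup (Fin n) ≤ P)
    (σ : Perm Ω) (hσ : Perm.sign σ = 1) : ∃ g : G, ∀ ω, g • ω = σ ω := by
  let e : Ω ≃ Fin n := (Fintype.equivFinOfCardEq hn)
  let ψ : G →* Perm (Fin n) := e.permCongrHom.toMonoidHom.comp (toPermHom G Ω)
  have hψ : ∀ g ω, ψ g (e ω) = e (g • ω) := fun g ω => by
    simp [ψ, Equiv.permCongrHom, toPermHom, Equiv.permCongr_apply]
  let f : Ω →ₑ[fun g => (⟨ψ g, g, rfl⟩ : ψ.range)] Fin n :=
    ⟨e, fun g ω => (hψ g ω).symm⟩
  have : IsPreprimitive ψ.range (Fin n) :=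
    IsPreprimitive.of_surjective (f := f) e.surjective
  have hm : e.permCongr σ ∈ ψ.range :=
    hA _ this (by rw [Perm.mem_alternatingGroup, Perm.sign_permCongr, hσ])
  obtain ⟨g, hg⟩ := hm
  refine ⟨g, fun ω => ?_⟩
  have := hψ g ω
  rw [hg] at this
  simpa [Equiv.permCongr_apply] using this.symm

lemma sign_swap_swap {Ω : Type*} [Fintype Ω] [DecidableEq Ω] {a b c d : Ω} (h : a ≠ b)
    (h' : c ≠ d) : Perm.sign (Equiv.swap a b * Equiv.swap c d) = 1 := by
  simp [Perm.sign_swap h, Perm.sign_swap h']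

theorem result {G : Type*} [Group G]
    [Finite G] (n : ℕ) (hodd : Odd n)
    (hA : ∀ P : Subgroup (Equiv.Perm (Fin n)), MulAction.IsPreprimitive P (Fin n) → alternatingGroup (Fin n) ≤ P)
    (M : Subgroup G) (hM : IsCoatom M) (hn : M.index = n) (H : Subgroup G) (hHM : H ≤ M)
    (hmax : IsCoatom (H.subgroupOf M)) (K : Subgroup G) (hK : IsCoatom K) (hHK : H ≤ K) :
    IsCoatom (H.subgroupOf K) := by
  classical
  rcases eq_or_ne K M with rfl | hKM
  · exact hmax
  -- subgroups between H and M
  have between : ∀ S : Subgroup G, H ≤ S → S ≤ M → S ≠ M → S = H := by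
    intro S h1 h2 h3
    by_contra hne
    have hlt : H.subgroupOf M < S.subgroupOf M := by
      refine lt_of_le_of_ne (Subgroup.comap_mono h1) (fun h => hne ?_)
      have := Subgroup.subgroupOf_inj.mp h
      rw [inf_eq_left.mpr hHM, inf_eq_left.mpr h2] at this
      exact this.symm
    have := hmax.2 _ hlt
    rw [Subgroup.subgroupOf_eq_top] at this
    exact h3 (le_antisymm h2 this)
  have hKM' : K ⊓ M = H := by
    refine between _ (le_inf hHK hHM) inf_le_right (fun h => hKM ?_)
    have hMK : M ≤ K := h ▸ inf_le_left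
    rcases eq_or_lt_of_le hMK with h' | h'
    · exact h'.symm
    · exact absurd (hM.2 K h') hK.1
  -- the action on the cosets
  set x : G ⧸ M := ((1 : G) : G ⧸ M) with hx
  have hst : ∀ g : G, g • x = x ↔ g ∈ M := fun g => by
    rw [← mem_stabilizer_iff, hx, stabilizer_quotient]
  have : Fintype (G ⧸ M) := Fintype.ofFinite _
  have hcard : Fintype.card (G ⧸ M) = n := by
    rw [← Nat.card_eq_fintype_card, ← Subgroup.index_eq_card, hn]
  have : Nontrivial (G ⧸ M) := by
    rw [← Finite.one_lt_card_iff_nontrivial, Nat.card_eq_fintype_card, hcard]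
    have h1 : n ≠ 1 := fun h => hM.1 (Subgroup.index_eq_one.mp (hn.trans h))
    have h0 : 0 < n := hodd.pos
    omega
  have : IsPreprimitive G (G ⧸ M) := by
    rw [← isCoatom_stabilizer_iff_preprimitive G x, hx, stabilizer_quotient]
    exact hM
  have lift := fun σ (hσ : Perm.sign σ = 1) => lift_even (G := G) n hcard hA σ hσ
  -- main claim
  have main : ∀ L : Subgroup G, H ≤ L → L ≤ K → ¬ L ≤ M → K ≤ L := by
    intro L hHL hLK hLM
    suffices hsuff : ∀ y, (∃ k ∈ K, k • x = y) → ∃ l ∈ L, l • x = y by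
      intro k hk
      obtain ⟨l, hl, hlx⟩ := hsuff (k • x) ⟨k, hk, rfl⟩
      have : l⁻¹ * k ∈ H := by
        rw [← hKM']
        refine ⟨K.mul_mem (K.inv_mem (hLK hl)) hk, (hst _).mp ?_⟩
        rw [mul_smul, ← hlx, inv_smul_smul]
      simpa using mul_mem hl (hHL this)
    obtain ⟨l₀, hl₀, hl₀M⟩ := SetLike.not_le_iff_exists.mp hLM
    set y₀ := l₀ • x with hy₀
    have hy₀x : y₀ ≠ x := fun h => hl₀M ((hst _).mp h)
    by_cases htr : ∀ y, ∃ k ∈ K, k • x = y
    · -- transitive case
      intro y _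
      set B : Set (G ⧸ M) := {z | ∃ l ∈ L, l • x = z} with hB
      have hBl : ∀ l ∈ L, l • B = B := by
        intro l hl
        ext z
        constructor
        · rintro ⟨_, ⟨l', hl', rfl⟩, rfl⟩
          exact ⟨l * l', mul_mem hl hl', mul_smul _ _ _⟩
        · rintro ⟨l', hl', rfl⟩
          exact ⟨(l⁻¹ * l') • x, ⟨_, mul_mem (inv_mem hl) hl', rfl⟩, by
            simp [mul_smul]⟩
      have hBk : ∀ k ∈ K, ∀ z ∈ B, k • z ∈ B → k ∈ L := by
        rintro k hk z ⟨l, hl, rfl⟩ ⟨l', hl', hh⟩
        have : l'⁻¹ * k * l ∈ H := by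
          rw [← hKM']
          refine ⟨K.mul_mem (K.mul_mem (K.inv_mem (hLK hl')) hk) (hLK hl), (hst _).mp ?_⟩
          rw [mul_smul, mul_smul, ← hh, inv_smul_smul]
        simpa [mul_assoc] using mul_mem (mul_mem hl' (hHL this)) (inv_mem hl)
      have hblock : IsBlock K B := by
        rw [isBlock_iff_smul_eq_of_nonempty]
        intro k ⟨z, ⟨w, hw, hwz⟩, hz⟩
        have hkL : (k : G) ∈ L := hBk k k.2 w hw (by
          have : (k : G) • w = z := hwz
          rw [this]; exact hz)
        exact hBl k hkL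
      have : IsPretransitive K (G ⧸ M) := ⟨fun a b => by
        obtain ⟨k, hk, rfl⟩ := htr a
        obtain ⟨k', hk', rfl⟩ := htr b
        exact ⟨⟨k' * k⁻¹, mul_mem hk' (inv_mem hk)⟩, by
          show (k' * k⁻¹) • k • x = _
          simp [mul_smul]⟩⟩
      have hxB : x ∈ B := ⟨1, one_mem L, one_smul _ _⟩
      have hy₀B : y₀ ∈ B := ⟨l₀, hl₀, rfl⟩
      by_contra hyB0
      have hyB : y ∉ B := hyB0
      have hyx : x ≠ y := fun h => hyB (h ▸ hxB)
      have hdvd : B.ncard ∣ n := by
        have := hblock.ncard_dvd_card ⟨x, hxB⟩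
        rwa [Nat.card_eq_fintype_card, hcard] at this
      have h2 : 2 ≤ B.ncard := by
        rw [← Set.ncard_pair hy₀x]
        exact Set.ncard_le_ncard (Set.insert_subset hy₀B (by simpa using hxB))
      have hlt : B.ncard < n := by
        rw [← hcard, ← Nat.card_eq_fintype_card]
        exact Set.ncard_lt_card (fun h => hyB (by rw [h]; exact Set.mem_univ y))
      obtain ⟨m, hm⟩ := hdvd
      have hmodd : Odd B.ncard ∧ Odd m := Nat.odd_mul.mp (hm ▸ hodd)
      have hB3 : 3 ≤ B.ncard := by
        rcases hmodd.1 with ⟨a, ha⟩; omega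
      have hm3 : 3 ≤ m := by
        rcases hmodd.2 with ⟨a, ha⟩
        rcases a with _ | a
        · subst ha; omega
        · omega
      -- three points in different places
      obtain ⟨w, hwB, hw⟩ : ∃ w ∈ B, w ∉ ({x, y₀} : Set (G ⧸ M)) :=
        Set.exists_mem_notMem_of_ncard_lt_ncard (by rw [Set.ncard_pair (Ne.symm hy₀x)]; omega)
      obtain ⟨k, hk, hkx⟩ := htr y
      set y₂ := k • y₀ with hy₂
      obtain ⟨y₃, hy₃⟩ : ∃ y₃, y₃ ∉ B ∪ k • B := by
        by_contra hall
        simp only [not_exists, not_not] at hall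
        have := Set.ncard_union_le B (k • B)
        rw [Set.eq_univ_of_forall hall, Set.ncard_univ, Nat.card_eq_fintype_card, hcard,
          Set.ncard_smul_set, hm] at this
        have : B.ncard * 3 ≤ B.ncard * m := Nat.mul_le_mul_left _ hm3
        omega
      have hyk : y ∈ k • B := ⟨x, hxB, hkx⟩
      have hy₂k : y₂ ∈ k • B := ⟨y₀, hy₀B, rfl⟩
      have hy₂B : y₂ ∉ B := by
        intro h
        have := hBk k hk y₀ hy₀B h
        exact hyB ⟨k, this, hkx⟩
      have hyy₂ : y ≠ y₂ := by
        rw [← hkx, hy₂]; exact fun h => hy₀x (MulAction.injective k h).symm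
      simp only [Set.mem_union, not_or] at hy₃
      have hy3a : y ≠ y₃ := fun h => hy₃.2 (h ▸ hyk)
      have hy3b : y₂ ≠ y₃ := fun h => hy₃.2 (h ▸ hy₂k)
      -- g : y ↦ y₂ ↦ y₃ ↦ y
      obtain ⟨g, hg⟩ := lift (Equiv.swap y y₃ * Equiv.swap y y₂) (sign_swap_swap hy3a hyy₂)
      have hgfix : ∀ z ∈ B, g • z = z := by
        intro z hz
        have h1 : z ≠ y := fun h => hyB (h ▸ hz)
        have h2 : z ≠ y₂ := fun h => hy₂B (h ▸ hz)
        have h3 : z ≠ y₃ := fun h => hy₃.1 (h ▸ hz)
        rw [hg, Perm.mul_apply, Equiv.swap_apply_of_ne_of_ne h1 h2,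
          Equiv.swap_apply_of_ne_of_ne h1 h3]
      have hgy : g • y = y₂ := by
        rw [hg, Perm.mul_apply, Equiv.swap_apply_left,
          Equiv.swap_apply_of_ne_of_ne (Ne.symm hyy₂) hy3b]
      have hgy₂ : g • y₂ = y₃ := by
        rw [hg, Perm.mul_apply, Equiv.swap_apply_right, Equiv.swap_apply_left]
      let S : Subgroup G := M ⊓ stabilizer G B
      have hgS : g ∈ S := by
        refine ⟨(hst g).mp (hgfix x hxB), ?_⟩
        show g • B = B
        calc g • B = (fun z => g • z) '' B := rfl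
          _ = id '' B := Set.image_congr hgfix
          _ = B := Set.image_id B
      have hHS : H ≤ S := le_inf hHM (fun h hh => hBl h (hHL hh))
      have hSM : S ≠ M := by
        intro h
        simp only [Set.mem_insert_iff, Set.mem_singleton_iff, not_or] at hw
        -- y₀ ↦ y ∉ B, fixing x
        have hy0y : y₀ ≠ y := fun h => hyB (h ▸ hy₀B)
        have hwy : w ≠ y := fun h => hyB (h ▸ hwB)
        obtain ⟨g', hg'⟩ := lift (Equiv.swap y₀ w * Equiv.swap y₀ y)
          (sign_swap_swap (Ne.symm hw.2) hy0y)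
        have hg'x : g' • x = x := by
          rw [hg', Perm.mul_apply, Equiv.swap_apply_of_ne_of_ne (Ne.symm hy₀x)
            hyx, Equiv.swap_apply_of_ne_of_ne (Ne.symm hy₀x) (Ne.symm hw.1)]
        have hmem : g' ∈ S := h ▸ (hst g').mp hg'x
        have : g' • y₀ ∈ g' • B := Set.smul_mem_smul_set hy₀B
        rw [show g' • B = B from hmem.2, hg', Perm.mul_apply, Equiv.swap_apply_left,
          Equiv.swap_apply_of_ne_of_ne (Ne.symm hy0y) (Ne.symm hwy)] at this
        exact hyB this
      have hgH : g ∈ H := between S hHS inf_le_left hSM ▸ hgS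
      -- g stabilises k • B
      have hconj : k⁻¹ * g * k ∈ L := by
        refine hBk _ (mul_mem (mul_mem (inv_mem hk) (hHK hgH)) hk) x hxB ?_
        rw [mul_smul, mul_smul, hkx, hgy, hy₂, inv_smul_smul]
        exact hy₀B
      apply hy₃.2
      have : (k⁻¹ * g * k) • y₀ ∈ B := by
        rw [← hBl _ hconj]; exact Set.smul_mem_smul_set hy₀B
      rw [mul_smul, mul_smul, ← hy₂, hgy₂] at this
      exact Set.mem_smul_set_iff_inv_smul_mem.mpr this
    · -- intransitive case
      simp only [not_forall, not_exists, not_and] at htr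
      obtain ⟨o, ho⟩ := htr
      set D : Set (G ⧸ M) := {z | ∃ k ∈ K, k • x = z} with hD
      have hKD : K ≤ stabilizer G D := by
        intro k hk
        show k • D = D
        ext z
        constructor
        · rintro ⟨_, ⟨k', hk', rfl⟩, rfl⟩
          exact ⟨k * k', mul_mem hk hk', mul_smul _ _ _⟩
        · rintro ⟨k', hk', rfl⟩
          exact ⟨(k⁻¹ * k') • x, ⟨_, mul_mem (inv_mem hk) hk', rfl⟩, by simp [mul_smul]⟩
      have hxD : x ∈ D := ⟨1, one_mem K, one_smul _ _⟩
      have hstabD : stabilizer G D = K := by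
        rcases eq_or_lt_of_le hKD with h | h
        · exact h.symm
        · exfalso
          obtain ⟨g, hg⟩ := exists_smul_eq G x o
          have hgD : g • D = D := by
            have := hK.2 _ h
            exact (this ▸ Subgroup.mem_top g : g ∈ stabilizer G D)
          have : o ∈ D := hgD ▸ hg ▸ Set.smul_mem_smul_set hxD
          obtain ⟨k, hk, hk'⟩ := this
          exact ho k hk hk'
      intro y hyD
      rcases eq_or_ne y x with rfl | hyx
      · exact ⟨1, one_mem L, one_smul _ _⟩
      rcases eq_or_ne y y₀ with rfl | hyy₀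
      · exact ⟨l₀, hl₀, rfl⟩
      have hy₀D : y₀ ∈ D := ⟨l₀, hLK hl₀, rfl⟩
      -- an element of H moving y₀ to y
      suffices ∃ σ : Perm (G ⧸ M), Perm.sign σ = 1 ∧ σ x = x ∧ σ y₀ = y ∧ ∀ z ∈ D, σ z ∈ D by
        obtain ⟨σ, hσ, hσx, hσy, hσD⟩ := this
        obtain ⟨g, hg⟩ := lift σ hσ
        have hgK : g ∈ K := by
          rw [← hstabD]
          show g • D = D
          refine Set.eq_of_subset_of_ncard_le ?_ (by rw [Set.ncard_smul_set])
          rintro _ ⟨z, hz, rfl⟩
          show g • z ∈ D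
          rw [hg]; exact hσD z hz
        have hgH : g ∈ H := hKM' ▸ ⟨hgK, (hst g).mp (by rw [hg, hσx])⟩
        exact ⟨g * l₀, mul_mem (hHL hgH) hl₀, by rw [mul_smul, ← hy₀, hg, hσy]⟩
      by_cases hw : ∃ w ∈ D, w ≠ x ∧ w ≠ y₀ ∧ w ≠ y
      · obtain ⟨w, hwD, hwx, hw0, hwy⟩ := hw
        refine ⟨Equiv.swap y₀ w * Equiv.swap y₀ y, sign_swap_swap hw0.symm hyy₀.symm, ?_, ?_, ?_⟩
        · rw [Perm.mul_apply, Equiv.swap_apply_of_ne_of_ne hy₀x.symm hyx.symm,
            Equiv.swap_apply_of_ne_of_ne hy₀x.symm hwx.symm]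
        · rw [Perm.mul_apply, Equiv.swap_apply_left,
            Equiv.swap_apply_of_ne_of_ne hyy₀ hwy.symm]
        · intro z hz
          rw [Perm.mul_apply, Equiv.swap_apply_def, Equiv.swap_apply_def]
          split_ifs <;> first | exact hwD | exact hy₀D | exact hyD | exact hz
      · -- D = {x, y₀, y}; use two points outside
        have hDsub : D = {x, y₀, y} := by
          apply Set.Subset.antisymm
          · intro z hz
            by_contra hz'
            simp only [Set.mem_insert_iff, Set.mem_singleton_iff, not_or] at hz'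
            exact hw ⟨z, hz, hz'⟩
          · exact Set.insert_subset hxD (Set.insert_subset hy₀D (Set.singleton_subset_iff.mpr hyD))
        have hoD : o ∉ D := fun ⟨k, hk, hk'⟩ => ho k hk hk'
        obtain ⟨v, hv, hvD⟩ : ∃ v, v ≠ o ∧ v ∉ D := by
          by_contra hall
          have hu : (Set.univ : Set (G ⧸ M)) = insert o D := by
            ext z
            simp only [Set.mem_univ, Set.mem_insert_iff, true_iff]
            by_contra hz
            rw [not_or] at hz
            exact hall ⟨z, hz⟩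
          have := congrArg Set.ncard hu
          rw [Set.ncard_univ, Nat.card_eq_fintype_card, hcard, Set.ncard_insert_of_notMem hoD,
            hDsub, Set.ncard_eq_three.mpr ⟨x, y₀, y, hy₀x.symm, hyx.symm, hyy₀.symm, rfl⟩] at this
          rcases hodd with ⟨a, ha⟩
          omega
        have ne_o : ∀ z ∈ D, z ≠ o := fun z hz h => hoD (h ▸ hz)
        have ne_v : ∀ z ∈ D, z ≠ v := fun z hz h => hvD (h ▸ hz)
        refine ⟨Equiv.swap o v * Equiv.swap y₀ y, sign_swap_swap hv.symm hyy₀.symm, ?_, ?_, ?_⟩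
        · rw [Perm.mul_apply, Equiv.swap_apply_of_ne_of_ne hy₀x.symm hyx.symm,
            Equiv.swap_apply_of_ne_of_ne (ne_o x hxD) (ne_v x hxD)]
        · rw [Perm.mul_apply, Equiv.swap_apply_left,
            Equiv.swap_apply_of_ne_of_ne (ne_o y hyD) (ne_v y hyD)]
        · intro z hz
          have hz' : Equiv.swap y₀ y z ∈ D := by
            rw [Equiv.swap_apply_def]
            split_ifs <;> first | exact hy₀D | exact hyD | exact hz
          rw [Perm.mul_apply, Equiv.swap_apply_of_ne_of_ne (ne_o _ hz')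
            (ne_v _ hz')]
          exact hz'
  refine ⟨fun h => hKM ?_, fun L hL => ?_⟩
  · rw [Subgroup.subgroupOf_eq_top] at h
    rcases eq_or_lt_of_le (h.trans hHM) with h' | h'
    · exact h'
    · exact absurd (hK.2 M h') hM.1
  · have hle : H ≤ L.map K.subtype := by
      intro h hh
      exact ⟨⟨h, hHK hh⟩, hL.le (by simpa [Subgroup.mem_subgroupOf] using hh), rfl⟩
    have hLK : L.map K.subtype ≤ K := Subgroup.map_subtype_le L
    have hnM : ¬ L.map K.subtype ≤ M := by
      intro hle'
      refine hL.not_ge (fun z hz => ?_)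
      rw [Subgroup.mem_subgroupOf, ← hKM']
      exact ⟨z.2, hle' ⟨z, hz, rfl⟩⟩
    have := main _ hle hLK hnM
    rw [eq_top_iff]
    intro z _
    obtain ⟨z', hz', h⟩ := this z.2
    exact Subtype.ext h ▸ hz'

end Cfsg.Agent.S5885
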