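import Cfsg.Statements.S5890
import Cfsg.Agent.Lib.Geom.MaxMeet
-- import your own Cfsg.Agent.* helpers here

set_option autoImplicit false
open Cfsg CfsgLib.Geom

namespace Cfsg.Agent.S5890

/-- Let F be a finite field with q ≥ 4 elements, let L ≤ PGL₂(F) be the image of SL₂(F) (a copy of PSL₂(F), of index gcd(2, q − 1)), and let M be a maximal subgroup of PGL₂(F) that does not contain L. Suppose q ∉ {7, 9, 11} and that q is not a prime congruent to ±11 or ±19 modulo 40. Then M ∩ L is a maximal subgroup of L. (For the excluded q there are maximal subgroups of PGL₂(q) — dihedral groups of order 12 and 16 at q = 7, of order 20 and 16 at q = 9, of order 20 at q = 11, and S₄ at the excluded primes — whose intersection with L is not maximal in L.) -/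
theorem result {F : Type*} [Field F]
    [Fintype F] (h4 : 4 ≤ Fintype.card F) (h7 : Fintype.card F ≠ 7) (h9 : Fintype.card F ≠ 9) (h11 : Fintype.card F ≠ 11)
    (h40 : (Fintype.card F).Prime → Fintype.card F % 40 ∉ ({11, 19, 21, 29} : Finset ℕ))
    (M : Subgroup (Matrix.ProjGenLinGroup (Fin 2) F)) (hM : IsCoatom M)
    (hML : ¬ (Matrix.ProjGenLinGroup.mk.comp Matrix.SpecialLinearGroup.toGL).range ≤ M) :
    IsCoatom ((M ⊓ (Matrix.ProjGenLinGroup.mk.comp Matrix.SpecialLinearGroup.toGL).range).subgroupOf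
      (Matrix.ProjGenLinGroup.mk.comp Matrix.SpecialLinearGroup.toGL).range) := by
  classical
  rw [Moebius.range_toGL_eq] at hML ⊢
  apply isCoatom_subgroupOf
  show MaxIn (M ⊓ Moebius.imL F) (Moebius.imL F)
  obtain ⟨E, _, _, f, hE, hQC⟩ := Moebius.exists_quadExt F
  obtain ⟨p, hp⟩ := CharP.exists F
  obtain ⟨n, hprime, hn⟩ := FiniteField.card F p
  have := Fact.mk hprime
  have := Moebius.finite_pgl_two (F := F)
  have hmax := maxIn_top hM
  rcases Nat.even_or_odd (Fintype.card F) with heven | hodd
  · rw [Moebius.imL_eq_top heven, inf_top_eq]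
    exact hmax
  have hnot : ¬ M ≤ Moebius.imL F := fun hle => hML
    (hmax.eq_of_le hle (lt_top_iff_ne_top.2 fun e => by
      have := Moebius.imL_index hodd
      rw [e, Subgroup.index_top] at this
      omega)).ge
  have alt : ∀ {n : ℕ}, (∀ x : alternatingGroup (Fin n), ∃ g h, x = g * g * (h * h)) →
      (M ≃* alternatingGroup (Fin n)) → False := by
    intro n hsq i
    refine hnot fun x hx => ?_
    obtain ⟨g, h, hgh⟩ := hsq (i ⟨x, hx⟩)
    have h' : (⟨x, hx⟩ : M) = i.symm g * i.symm g * (i.symm h * i.symm h) := by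
      rw [← map_mul, ← map_mul, ← map_mul, ← hgh, MulEquiv.symm_apply_apply]
    rw [show x = _ from congrArg Subtype.val h']
    exact Moebius.mem_imL_of_sq hodd
  cases Moebius.maxCase f p hE hQC h4 le_top hmax hML with
  | point P h =>
    rw [h, inf_top_eq]
    exact Moebius.point_maxIn h4 hodd ⟨h7, h9, h11⟩ P
  | pair P Q hPQ g hg hgP hgQ h =>
    rw [h, inf_top_eq]
    refine Moebius.pair_maxIn f p hE hQC h4 hodd ⟨h7, h9, h11⟩ hPQ hg hgP hgQ fun h5 hc => ?_
    obtain ⟨k, -, -, e, h2k, -⟩ := Moebius.pair_imL f hE hQC h4 hodd hPQ hg hgP hgQ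
    rw [h2k] at hc
    obtain rfl : k = 2 := by omega
    exact Moebius.pair_klein_false f hQC h4 hodd le_top (h ▸ hmax) e
  | tetrahedral ho hq h hc => exact (alt altFour_two_squares h.some).elim
  | icosahedral ho hq h hc => exact (alt altFive_two_squares h.some).elim
  | subfieldGroup K u r hu hK hr hur m h =>
    rw [h, inf_top_eq]
    exact Moebius.subfield_maxIn f p hE hQC hu hK hr hur m
  | octahedral ho hq h hc =>
    obtain ⟨i⟩ := h
    have h8 : p % 8 = 3 ∨ p % 8 = 5 := by
      by_contra hn
      exact Moebius.octahedral_top_not_sq h4 hodd hmax hML (kleinNormal_permFour i) hc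
        (Moebius.isSquare_two_of_mod (by omega))
    have h5 : 5 ≤ p := by
      by_contra hlt
      interval_cases p <;> omega
    have h10 : ¬ (p % 10 = 1 ∨ p % 10 = 9) := by
      intro h10
      have h := h40 (hq ▸ hprime)
      simp only [Finset.mem_insert, Finset.mem_singleton] at h
      omega
    obtain ⟨j, hj, hjM⟩ := hasAltFour_permFour i
    have hA : HasAltFour (M ⊓ Moebius.imL F) := by
      refine ⟨j, hj, fun x => ⟨hjM x, ?_⟩⟩
      obtain ⟨g, h, rfl⟩ := altFour_two_squares x
      rw [map_mul, map_mul, map_mul]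
      exact Moebius.mem_imL_of_sq hodd
    have hle : j.range ≤ M ⊓ Moebius.imL F := by
      rintro _ ⟨x, rfl⟩
      refine ⟨hjM x, ?_⟩
      obtain ⟨g, h, rfl⟩ := altFour_two_squares x
      rw [map_mul, map_mul, map_mul]
      exact Moebius.mem_imL_of_sq hodd
    have hd := Subgroup.card_dvd_of_le hle
    rw [← Nat.card_congr (MonoidHom.ofInjective hj).toEquiv, finset_card_altFour] at hd
    have hd' := Subgroup.card_dvd_of_le (inf_le_left : M ⊓ Moebius.imL F ≤ M)
    rw [hc] at hd'
    have hne : Nat.card (M ⊓ Moebius.imL F : Subgroup _) ≠ 24 := fun e =>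
      hnot (inf_eq_left.1 (Subgroup.eq_of_le_of_card_ge inf_le_left (by rw [hc, e])))
    refine Moebius.altFour_maxIn f p hE hQC h5 hq h8 h10 inf_le_right hA ?_
    obtain ⟨c, hc'⟩ := hd
    have := Nat.le_of_dvd (by norm_num) hd'
    rw [hc'] at hne this ⊢
    have : c ≤ 2 := by omega
    interval_cases c
    · exact absurd hc' Nat.card_pos.ne'
    · rfl
    · omega
end Cfsg.Agent.S5890
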