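import Cfsg.Statements.S5893
import Cfsg.Agent.Lib.Geom.MaxBridge
-- import your own Cfsg.Agent.* helpers here

set_option autoImplicit false
open Cfsg CfsgLib.Geom

namespace Cfsg.Agent.S5893

/-- Let F be a finite field of even order q ≥ 4 and let M be a maximal subgroup of PSL₂(F) (= SL₂(F) = PGL₂(F)). Then one of the following holds: |M| = q(q − 1) (the stabiliser of a point of the projective line, elementary abelian of order q extended by a cyclic group of order q − 1); M is dihedral of order 2(q − 1); M is dihedral of order 2(q + 1); or q = q₀^r for a prime r with q₀ ≠ 2 and M ≅ PSL₂(F₀) with |F₀| = q₀. -/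
theorem result {F : Type*} [Field F] [Fintype F]
    (heven : Even (Fintype.card F)) (h4 : 4 ≤ Fintype.card F) (M : Subgroup (Matrix.ProjectiveSpecialLinearGroup (Fin 2) F)) (hM : IsCoatom M) :
    Nat.card M = Fintype.card F * (Fintype.card F - 1) ∨
    Nonempty (M ≃* DihedralGroup (Fintype.card F - 1)) ∨
    Nonempty (M ≃* DihedralGroup (Fintype.card F + 1)) ∨
    (∃ (F₀ : Type) (_ : Field F₀) (_ : Fintype F₀) (r : ℕ), r.Prime ∧ Fintype.card F₀ ≠ 2 ∧
        Fintype.card F = Fintype.card F₀ ^ r ∧ Nonempty (M ≃* Matrix.ProjectiveSpecialLinearGroup (Fin 2) F₀)) := by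
  classical
  obtain ⟨E, _, _, f, hE, hQC⟩ := Moebius.exists_quadExt F
  obtain ⟨p, hp⟩ := CharP.exists F
  obtain ⟨n, hprime, -⟩ := FiniteField.card F p
  have := Fact.mk hprime
  obtain ⟨hmax, hne⟩ := Moebius.maxIn_map_psl hM
  have htop := Moebius.imL_eq_top heven
  cases Moebius.maxCase f p hE hQC h4 le_rfl hmax hne with
  | point P h =>
    left
    have hc := Moebius.card_pointStab_mul (F := F) le_rfl P
    rw [← h, Moebius.card_map_toPGL, htop, Subgroup.card_top, Moebius.card_pgl_two] at hc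
    exact Nat.eq_of_mul_eq_mul_left (Nat.succ_pos _) hc
  | pair P Q hPQ g hg hgP hgQ h =>
    obtain ⟨k, hk, ⟨e⟩, -⟩ := Moebius.pair_top f hE hQC h4 hPQ hg hgP hgQ
    rw [htop, inf_top_eq] at h
    have i := (Moebius.mapEquiv M).trans ((MulEquiv.subgroupCongr h).trans e)
    rcases hk with rfl | rfl
    · exact Or.inr (Or.inl ⟨i⟩)
    · exact Or.inr (Or.inr (Or.inl ⟨i⟩))
  | tetrahedral hodd hq h hc => exact absurd heven (Nat.not_even_iff_odd.2 hodd)
  | octahedral hodd hq h hc => exact absurd heven (Nat.not_even_iff_odd.2 hodd)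
  | icosahedral hodd hq h hc => exact absurd heven (Nat.not_even_iff_odd.2 hodd)
  | subfieldGroup K u r hu hK hr hur m h =>
    right; right; right
    obtain ⟨F₀, i1, i2, hc, ⟨φ⟩⟩ := Moebius.exists_typeZero_field K
    obtain ⟨e⟩ := Moebius.subfieldPSL_equiv K m
    rw [Moebius.card_subfield_eq hK] at hc
    rw [Moebius.subfieldPGL_inf_imL hK hur (Or.inr heven) hr.ne_zero] at h
    exact ⟨F₀, i1, i2, r, hr, by omega, by rw [hc, hur],
      ⟨(Moebius.mapEquiv M).trans (((MulEquiv.subgroupCongr h).trans e).trans (Moebius.pslCongr φ))⟩⟩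
end Cfsg.Agent.S5893
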