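import Cfsg.Statements.S5894
import Mathlib.GroupTheory.GroupAction.SubMulAction.OfStabilizer
import Mathlib.GroupTheory.Perm.MaximalSubgroups
import Mathlib.GroupTheory.GroupAction.MultiplePrimitivity

set_option autoImplicit false
open Cfsg

namespace Cfsg.Agent.S5894

open scoped Pointwise


/-- For every m ≥ 2 the symmetric group on 2m letters has a maximal subgroup M of index 2m together with a maximal subgroup H of M that is not second maximal: some maximal subgroup K of the symmetric group contains H without H being maximal in K. (One may take M the stabiliser of a letter, H ≅ S_m × S_{m−1} inside it, and K ≅ S_m ≀ S₂ the stabiliser of a partition into two m-sets, with H < S_m × S_m < K.) So the prime-index hypothesis in the second-maximality criterion cannot be relaxed to any even index ≥ 4. -/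
theorem result (m : ℕ) (hm : 2 ≤ m) :
    ∃ M H K : Subgroup (Equiv.Perm (Fin (2 * m))), IsCoatom M ∧ M.index = 2 * m ∧ H ≤ M ∧ IsCoatom (H.subgroupOf M) ∧
      IsCoatom K ∧ H ≤ K ∧ ¬ IsCoatom (H.subgroupOf K) := by
  classical
  haveI : NeZero (2 * m) := ⟨by omega⟩
  set z : Fin (2 * m) := 0
  set φ : Equiv.Perm {x : Fin (2 * m) // x ≠ z} →* Equiv.Perm (Fin (2 * m)) := Equiv.Perm.ofSubtype
  have hφ : Function.Injective φ := Equiv.Perm.ofSubtype_injective
  have hrange : φ.range = MulAction.stabilizer (Equiv.Perm (Fin (2 * m))) z := by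
    ext g
    constructor
    · rintro ⟨h, rfl⟩
      exact Equiv.Perm.ofSubtype_apply_of_not_mem h (by simp)
    · intro hg
      have h1 : g z = z := hg
      have h2 : ∀ x, g x ≠ z ↔ x ≠ z := fun x => not_congr ⟨fun e => g.injective (e.trans h1.symm), fun e => by rw [e, h1]⟩
      exact ⟨g.subtypePerm h2, Equiv.Perm.ofSubtype_subtypePerm h2 fun x hx => by
        intro e; rw [e] at hx; exact hx h1⟩
  -- a set of `m` points containing the fixed one
  obtain ⟨B, hzB, hBc⟩ : ∃ B : Finset (Fin (2 * m)), z ∈ B ∧ B.card = m := by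
    obtain ⟨B, hB1, hB2, hB3⟩ := Finset.exists_subsuperset_card_eq (Finset.subset_univ ({z} : Finset (Fin (2 * m))))
      (show ({z} : Finset _).card ≤ m by simp; omega) (by simp; omega)
    exact ⟨B, hB1 (Finset.mem_singleton_self z), hB3⟩
  set s : Set {x : Fin (2 * m) // x ≠ z} := Subtype.val ⁻¹' (B : Set (Fin (2 * m)))
  have hs : s.ncard = m - 1 := by
    have e : Subtype.val '' s = ((B.erase z : Finset (Fin (2 * m))) : Set (Fin (2 * m))) := by
      ext x; simp [s, and_comm]
    rw [← Set.ncard_image_of_injective s Subtype.val_injective, e, Set.ncard_coe_finset,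
      Finset.card_erase_of_mem hzB, hBc]
  have hcard : Nat.card {x : Fin (2 * m) // x ≠ z} = 2 * m - 1 := by
    rw [Nat.card_eq_fintype_card, Fintype.card_subtype_compl]; simp
  have hsc : s.ncard + sᶜ.ncard = 2 * m - 1 := by rw [Set.ncard_add_ncard_compl, hcard]
  have hmax : IsCoatom (MulAction.stabilizer (Equiv.Perm {x : Fin (2 * m) // x ≠ z}) s) :=
    Equiv.Perm.isCoatom_stabilizer (Set.nonempty_of_ncard_ne_zero (by omega))
      (Set.nonempty_of_ncard_ne_zero (by omega)) (by omega)
  set Bs : Set (Fin (2 * m)) := (B : Set (Fin (2 * m))) with hBs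
  set L := MulAction.stabilizer (Equiv.Perm (Fin (2 * m))) Bs with hL
  have hH : IsCoatom ((φ.range ⊓ L).subgroupOf φ.range) := by
    have e : (φ.range ⊓ L).subgroupOf φ.range =
        (MonoidHom.ofInjective hφ).mapSubgroup (MulAction.stabilizer (Equiv.Perm {x : Fin (2 * m) // x ≠ z}) s) := by
      ext ⟨g, h, rfl⟩
      have hmap : (⟨φ h, h, rfl⟩ : φ.range) = MonoidHom.ofInjective hφ h := rfl
      show φ h ∈ φ.range ⊓ L ↔ _
      rw [MulEquiv.mapSubgroup_apply, hmap]
      refine Iff.trans ?_ (Subgroup.mem_map_iff_mem (f := (MonoidHom.ofInjective hφ).toMonoidHom)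
        (MonoidHom.ofInjective hφ).injective).symm
      rw [Subgroup.mem_inf, MulAction.mem_stabilizer_set, MulAction.mem_stabilizer_set]
      constructor
      · rintro ⟨-, hg⟩ b
        have := hg b.1
        rwa [Equiv.Perm.smul_def, Equiv.Perm.ofSubtype_apply_coe] at this
      · refine fun hg => ⟨⟨h, rfl⟩, fun b => ?_⟩
        by_cases hb : b = z
        · subst hb
          rw [Equiv.Perm.smul_def, Equiv.Perm.ofSubtype_apply_of_not_mem h (by simp)]
        · have := hg ⟨b, hb⟩
          have e : φ h b = (h ⟨b, hb⟩).1 := Equiv.Perm.ofSubtype_apply_coe h ⟨b, hb⟩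
          rw [Equiv.Perm.smul_def, e]
          exact this
    rw [e]
    exact ((MonoidHom.ofInjective hφ).mapSubgroup.isCoatom_iff _).2 hmax
  -- the group of the two complementary sets
  let W : Subgroup (Equiv.Perm (Fin (2 * m))) :=
    { carrier := {g | g • Bs = Bs ∨ g • Bs = Bsᶜ}
      one_mem' := Or.inl (one_smul _ _)
      mul_mem' := by
        rintro a b ha hb
        show (a * b) • Bs = Bs ∨ (a * b) • Bs = Bsᶜ
        rw [mul_smul]
        rcases hb with hb | hb <;> rw [hb]
        · exact ha
        · rw [Set.smul_set_compl]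
          rcases ha with ha | ha <;> rw [ha]
          · exact Or.inr rfl
          · exact Or.inl (compl_compl _)
      inv_mem' := by
        rintro a (ha | ha)
        · exact Or.inl (inv_smul_eq_iff.2 ha.symm)
        · refine Or.inr (inv_smul_eq_iff.2 ?_)
          rw [Set.smul_set_compl, ha, compl_compl] }
  have hBc' : (Bs).ncard = m := by rw [hBs, Set.ncard_coe_finset, hBc]
  obtain ⟨b, hbB, hbz⟩ : ∃ b ∈ B, b ≠ z := Finset.exists_mem_ne (by omega) z
  obtain ⟨w, hw⟩ : ∃ w, w ∉ B := by
    by_contra h; simp only [not_exists, not_not] at h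
    rw [Finset.eq_univ_of_forall h] at hBc; simp at hBc; omega
  have hWne : W ≠ ⊤ := by
    intro h
    have hg : Equiv.swap z w ∈ W := h ▸ Subgroup.mem_top _
    have hwmem : w ∈ Equiv.swap z w • Bs := ⟨z, hzB, Equiv.swap_apply_left z w⟩
    have hbmem : b ∈ Equiv.swap z w • Bs :=
      ⟨b, hbB, Equiv.swap_apply_of_ne_of_ne hbz (fun e => hw (e ▸ hbB))⟩
    rcases hg with hg | hg <;> rw [hg] at hwmem hbmem
    · exact hw hwmem
    · exact hbmem hbB
  obtain ⟨K, hK, hWK⟩ := (eq_top_or_exists_le_coatom W).resolve_left hWne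
  refine ⟨φ.range, φ.range ⊓ L, K, ?_, ?_, inf_le_left, hH, hK,
    inf_le_right.trans ((show L ≤ W from fun g hg => Or.inl hg).trans hWK), ?_⟩
  · rw [hrange]
    haveI : Nontrivial (Fin (2 * m)) := Fin.nontrivial_iff_two_le.2 (by omega)
    exact MulAction.IsPreprimitive.isCoatom_stabilizer_of_isPreprimitive (G := Equiv.Perm (Fin (2 * m))) z
  · rw [hrange, MulAction.index_stabilizer_of_transitive, Nat.card_fin]
  intro hco
  have hlt : (φ.range ⊓ L).subgroupOf K < L.subgroupOf K := by
    refine lt_of_le_of_ne (fun g hg => hg.2) fun e => ?_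
    have hsw : Equiv.swap z b ∈ L := MulAction.mem_stabilizer_set.2 fun y => by
      rw [Equiv.Perm.smul_def, hBs]
      by_cases hy : y = z
      · subst hy; simp [hzB, hbB]
      · by_cases hy' : y = b
        · subst hy'; simp [hzB, hbB]
        · rw [Equiv.swap_apply_of_ne_of_ne hy hy']
    have hK' : Equiv.swap z b ∈ K := hWK (Or.inl hsw)
    have : (⟨Equiv.swap z b, hK'⟩ : K) ∈ (φ.range ⊓ L).subgroupOf K := e ▸ hsw
    have h2 : Equiv.swap z b ∈ φ.range := this.1
    rw [hrange, MulAction.mem_stabilizer_iff, Equiv.Perm.smul_def, Equiv.swap_apply_left] at h2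
    exact hbz h2
  have htop := hco.2 _ hlt
  have hcomp : Fintype.card {x // x ∈ B} = Fintype.card {x // x ∉ B} := by
    rw [Fintype.card_subtype_compl, Fintype.card_coe]; simp; omega
  set g := (Fintype.equivOfCardEq hcomp).extendSubtype
  have hg : g • Bs = Bsᶜ := by
    ext x
    rw [Set.mem_smul_set_iff_inv_smul_mem, hBs, Set.mem_compl_iff, Finset.mem_coe, Finset.mem_coe,
      Equiv.Perm.smul_def]
    constructor
    · intro h
      have := Equiv.extendSubtype_mem (Fintype.equivOfCardEq hcomp) _ h
      rwa [show g (g⁻¹ x) = x from g.apply_symm_apply x] at this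
    · intro h
      by_contra h'
      have := Equiv.extendSubtype_not_mem (Fintype.equivOfCardEq hcomp) _ h'
      rw [show g (g⁻¹ x) = x from g.apply_symm_apply x] at this
      exact this h
  have : (⟨g, hWK (Or.inr hg)⟩ : K) ∈ L.subgroupOf K := htop ▸ Subgroup.mem_top _
  have h3 : g • Bs = Bs := this
  rw [h3] at hg
  exact (show z ∉ Bsᶜ from fun h => h hzB) (hg ▸ hzB)

end Cfsg.Agent.S5894
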