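import Cfsg.Statements.S5895
import Mathlib.GroupTheory.SemidirectProduct
import Mathlib.GroupTheory.Index
import Mathlib.LinearAlgebra.Dual.Lemmas
import Mathlib.LinearAlgebra.FiniteDimensional.Basic
import Mathlib.Algebra.Field.ZMod

set_option autoImplicit false
open Cfsg

namespace Cfsg.Agent.S5895

section
variable {F V : Type*} [Field F] [AddCommGroup V] [Module F V] [FiniteDimensional F V]

/-- outside a line one can move any vector to any other, fixing the line pointwise -/
theorem exists_move {e v w : V} (hv : v ∉ Submodule.span F {e}) (hw : w ∉ Submodule.span F {e}) :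
    ∃ k : V ≃ₗ[F] V, k e = e ∧ k v = w := by
  obtain ⟨f₁, h1v, h1e⟩ := Submodule.exists_dual_map_eq_bot_of_notMem hv inferInstance
  obtain ⟨f₂, h2w, h2e⟩ := Submodule.exists_dual_map_eq_bot_of_notMem hw inferInstance
  have key : ∀ f : Module.Dual F V, (Submodule.span F {e}).map f = ⊥ → f e = 0 := fun f h =>
    (Submodule.mem_bot F).1 (h ▸ Submodule.mem_map_of_mem (Submodule.mem_span_singleton_self e))
  obtain ⟨f, fe, fv, fw⟩ : ∃ f : Module.Dual F V, f e = 0 ∧ f v ≠ 0 ∧ f w ≠ 0 := by
    by_cases h : f₁ w = 0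
    · by_cases h' : f₂ v = 0
      · exact ⟨f₁ + f₂, by simp [key _ h1e, key _ h2e], by simpa [h'] using h1v, by simpa [h] using h2w⟩
      · exact ⟨f₂, key _ h2e, h', h2w⟩
    · exact ⟨f₁, key _ h1e, h1v, h⟩
  let T : V →ₗ[F] V := LinearMap.id + (((f v)⁻¹ • f : Module.Dual F V)).smulRight (w - v)
  have hT : ∀ x, T x = x + ((f v)⁻¹ * f x) • (w - v) := fun x => rfl
  have hinj : Function.Injective T := by
    rw [injective_iff_map_eq_zero]
    intro x hx
    rw [hT] at hx
    have hf := congrArg f hx
    rw [map_add, map_smul, map_sub, map_zero, smul_eq_mul] at hf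
    have : ((f v)⁻¹ * f x) * f w = 0 := by
      have e1 : ((f v)⁻¹ * f x) * f v = f x := by field_simp
      linear_combination hf + e1
    rcases mul_eq_zero.1 this with h | h
    · rwa [h, zero_smul, add_zero] at hx
    · exact absurd h fw
  refine ⟨LinearEquiv.ofInjectiveEndo T hinj, ?_, ?_⟩
  · rw [LinearEquiv.coe_ofInjectiveEndo, hT, fe]; simp
  · rw [LinearEquiv.coe_ofInjectiveEndo, hT, inv_mul_cancel₀ fv, one_smul]; abel

/-- the stabiliser of a line -/
def lineStab (e : V) : Subgroup (V ≃ₗ[F] V) where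
  carrier := {g | (Submodule.span F {e}).map (g : V →ₗ[F] V) = Submodule.span F {e}}
  one_mem' := Submodule.map_id _
  mul_mem' {a b} ha hb := by
    show (Submodule.span F {e}).map ((a : V →ₗ[F] V).comp (b : V →ₗ[F] V)) = _
    rw [Submodule.map_comp, hb, ha]
  inv_mem' {a} ha := by
    show (Submodule.span F {e}).map (a.symm : V →ₗ[F] V) = _
    conv_lhs => rw [← (ha : (Submodule.span F {e}).map (a : V →ₗ[F] V) = _)]
    rw [← Submodule.map_comp]
    simp

theorem mem_lineStab {e : V} (he : e ≠ 0) {g : V ≃ₗ[F] V} : g ∈ lineStab (F := F) e ↔ g e ∈ Submodule.span F {e} := by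
  show (Submodule.span F {e}).map (g : V →ₗ[F] V) = _ ↔ _
  rw [Submodule.map_span, Set.image_singleton]
  refine ⟨fun h => h ▸ Submodule.mem_span_singleton_self _, fun h => ?_⟩
  obtain ⟨c, hc⟩ := Submodule.mem_span_singleton.1 h
  have hc0 : c ≠ 0 := by rintro rfl; rw [zero_smul] at hc; exact he (g.injective (hc.symm.trans g.map_zero.symm))
  show Submodule.span F {g e} = _
  rw [← hc, Submodule.span_singleton_smul_eq (Ne.isUnit hc0)]

theorem lineStab_coatom (hd : 1 < Module.finrank F V) {e : V} (he : e ≠ 0) :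
    IsCoatom (lineStab (F := F) e) := by
  obtain ⟨v₀, -, hv₀⟩ := SetLike.exists_of_lt (show Submodule.span F {e} < ⊤ by
    refine lt_top_iff_ne_top.2 fun h => ?_
    have := congrArg (fun W : Submodule F V => Module.finrank F W) h
    simp only [finrank_span_singleton he, finrank_top] at this
    omega)
  have hz : ∀ x : V, x ≠ 0 → x ∉ Submodule.span F {(0 : V)} := fun x hx h => hx (by simpa using h)
  refine ⟨fun h => ?_, fun L hL => ?_⟩
  · obtain ⟨k, -, hk⟩ := exists_move (hz e he) (hz v₀ fun h0 => hv₀ (h0 ▸ zero_mem _))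
    have : k ∈ lineStab (F := F) e := h ▸ Subgroup.mem_top k
    rw [mem_lineStab he, hk] at this
    exact hv₀ this
  obtain ⟨g, hgL, hg⟩ := SetLike.exists_of_lt hL
  rw [mem_lineStab he] at hg
  rw [eq_top_iff]
  intro h _
  by_cases hh : h e ∈ Submodule.span F {e}
  · exact hL.le ((mem_lineStab he).2 hh)
  obtain ⟨k, hke, hkg⟩ := exists_move hg hh
  have hk : k ∈ L := hL.le ((mem_lineStab he).2 (hke.symm ▸ Submodule.mem_span_singleton_self e))
  have hr : (k * g)⁻¹ * h ∈ L := by
    refine hL.le ((mem_lineStab he).2 ?_)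
    show (k * g).symm (h e) ∈ _
    rw [← hkg, show k (g e) = (k * g) e from rfl, LinearEquiv.symm_apply_apply]
    exact Submodule.mem_span_singleton_self e
  have := mul_mem (mul_mem hk hgL) hr
  rwa [mul_inv_cancel_left] at this

/-- linear maps acting on translations -/
def act : (V ≃ₗ[F] V) →* MulAut (Multiplicative V) where
  toFun g := AddEquiv.toMultiplicative g.toAddEquiv
  map_one' := rfl
  map_mul' _ _ := rfl

end

open SemidirectProduct

/-- For every prime p and every d ≥ 2 there is a finite group G with a maximal subgroup M of index p^d and a maximal subgroup H of M that is not second maximal in G: some maximal subgroup K of G contains H without H being maximal in K. (One may take G the affine group V ⋊ GL(V) of V = 𝔽_p^d, M = GL(V), H the stabiliser in M of a line W of V, and K = V ⋊ H, with H < W ⋊ H < K.) So the prime-index hypothesis in the second-maximality criterion cannot be relaxed to prime-power index. -/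
theorem result (p d : ℕ) (hp : p.Prime)
    (hd : 2 ≤ d) :
    ∃ (G : Type) (_ : Group G) (_ : Finite G) (M H K : Subgroup G), IsCoatom M ∧ M.index = p ^ d ∧ H ≤ M ∧
      IsCoatom (H.subgroupOf M) ∧ IsCoatom K ∧ H ≤ K ∧ ¬ IsCoatom (H.subgroupOf K) := by
  haveI : Fact p.Prime := ⟨hp⟩
  let V := Fin d → ZMod p
  haveI : Finite (V ≃ₗ[ZMod p] V) := Finite.of_injective (fun g => (g : V → V)) DFunLike.coe_injective
  let φ : (V ≃ₗ[ZMod p] V) →* MulAut (Multiplicative V) := act
  let e : V := Pi.single ⟨0, by omega⟩ 1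
  have he : e ≠ 0 := by
    intro h
    have h1 := congrFun h ⟨0, by omega⟩
    simp only [e, Pi.single_eq_same, Pi.zero_apply] at h1
    exact one_ne_zero h1
  have hfr : 1 < Module.finrank (ZMod p) V := by simp [V]; omega
  have hP := lineStab_coatom hfr he
  set P := lineStab (F := ZMod p) e
  haveI : Finite (Multiplicative V ⋊[φ] (V ≃ₗ[ZMod p] V)) := Finite.of_equiv _ SemidirectProduct.equivProd.symm
  have hinl : ∀ g : V ≃ₗ[ZMod p] V, ∀ v : V, (inr g * inl (Multiplicative.ofAdd v) * inr g⁻¹ :
      Multiplicative V ⋊[φ] (V ≃ₗ[ZMod p] V)) = inl (Multiplicative.ofAdd (g v)) :=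
    fun g v => (inl_aut g _).symm
  have hsur : Function.Surjective (rightHom : Multiplicative V ⋊[φ] (V ≃ₗ[ZMod p] V) →* _) := rightHom_surjective
  let W : Subgroup (Multiplicative V ⋊[φ] (V ≃ₗ[ZMod p] V)) :=
    { carrier := {x | x.right ∈ P ∧ Multiplicative.toAdd x.left ∈ Submodule.span (ZMod p) {e}}
      one_mem' := ⟨one_mem P, zero_mem _⟩
      mul_mem' := by
        rintro a b ⟨ha, ha'⟩ ⟨hb, hb'⟩
        refine ⟨mul_mem ha hb, ?_⟩
        show Multiplicative.toAdd a.left + a.right (Multiplicative.toAdd b.left) ∈ _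
        refine add_mem ha' ?_
        have h : a.right (Multiplicative.toAdd b.left) ∈ (Submodule.span (ZMod p) {e}).map (a.right : V →ₗ[ZMod p] V) :=
          Submodule.mem_map_of_mem hb'
        rwa [(ha : _ = Submodule.span (ZMod p) {e})] at h
      inv_mem' := by
        rintro a ⟨ha, ha'⟩
        refine ⟨inv_mem ha, ?_⟩
        show (a.right⁻¹) (- Multiplicative.toAdd a.left) ∈ _
        have h : (a.right⁻¹) (- Multiplicative.toAdd a.left) ∈
            (Submodule.span (ZMod p) {e}).map ((a.right⁻¹ : V ≃ₗ[ZMod p] V) : V →ₗ[ZMod p] V) :=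
          Submodule.mem_map_of_mem (neg_mem ha')
        rwa [(inv_mem ha : a.right⁻¹ ∈ P)] at h }
  refine ⟨Multiplicative V ⋊[φ] (V ≃ₗ[ZMod p] V), inferInstance, inferInstance,
    (inr : _ →* Multiplicative V ⋊[φ] (V ≃ₗ[ZMod p] V)).range, P.map inr, P.comap rightHom, ?_, ?_,
    Subgroup.map_le_range _ _, ?_, ?_, ?_, ?_⟩
  · refine ⟨fun h => ?_, fun L hL => ?_⟩
    · obtain ⟨g, hg⟩ : inl (Multiplicative.ofAdd e) ∈ (inr : _ →* Multiplicative V ⋊[φ] (V ≃ₗ[ZMod p] V)).range :=
        h ▸ Subgroup.mem_top _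
      have h2 := congrArg SemidirectProduct.left hg
      rw [left_inr, left_inl] at h2
      exact he (congrArg Multiplicative.toAdd h2).symm
    obtain ⟨x, hxL, hx⟩ := SetLike.exists_of_lt hL
    have hl : (inl x.left : Multiplicative V ⋊[φ] (V ≃ₗ[ZMod p] V)) ∈ L := by
      have := mul_mem hxL (inv_mem (hL.le ⟨x.right, rfl⟩))
      rwa [show x * (inr x.right)⁻¹ = inl x.left by rw [mul_inv_eq_iff_eq_mul, inl_left_mul_inr_right]] at this
    have hv : Multiplicative.toAdd x.left ≠ 0 := fun h0 => hx ⟨x.right, by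
      have h1 : x.left = 1 := h0
      conv_rhs => rw [← inl_left_mul_inr_right x, h1, map_one, one_mul]⟩
    have hall : ∀ w : V, (inl (Multiplicative.ofAdd w) : Multiplicative V ⋊[φ] (V ≃ₗ[ZMod p] V)) ∈ L := by
      intro w
      by_cases hw : w = 0
      · rw [hw, ofAdd_zero, map_one]; exact one_mem L
      · obtain ⟨k, -, hk⟩ := exists_move (F := ZMod p) (e := (0 : V)) (v := Multiplicative.toAdd x.left) (w := w)
          (fun h => hv (by simpa using h)) (fun h => hw (by simpa using h))
        rw [← hk, ← hinl]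
        exact mul_mem (mul_mem (hL.le ⟨k, rfl⟩) hl) (hL.le ⟨k⁻¹, rfl⟩)
    rw [eq_top_iff]
    intro y _
    rw [← inl_left_mul_inr_right y]
    exact mul_mem (hall (Multiplicative.toAdd y.left)) (hL.le ⟨y.right, rfl⟩)
  · have h := Subgroup.card_mul_index (inr : _ →* Multiplicative V ⋊[φ] (V ≃ₗ[ZMod p] V)).range
    rw [SemidirectProduct.card, ← Nat.card_congr (MonoidHom.ofInjective inr_injective).toEquiv] at h
    rw [mul_comm (Nat.card (Multiplicative V))] at h
    rw [Nat.eq_of_mul_eq_mul_left Nat.card_pos h]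
    simp [V]
  · have e' : (P.map inr).subgroupOf (inr : _ →* Multiplicative V ⋊[φ] (V ≃ₗ[ZMod p] V)).range =
        (MonoidHom.ofInjective inr_injective).mapSubgroup P := by
      ext ⟨g, h, rfl⟩
      have hmap : (⟨inr h, h, rfl⟩ : (inr : _ →* Multiplicative V ⋊[φ] (V ≃ₗ[ZMod p] V)).range) =
        MonoidHom.ofInjective inr_injective h := rfl
      rw [MulEquiv.mapSubgroup_apply, hmap]
      exact (Subgroup.mem_map_iff_mem inr_injective).trans (Subgroup.mem_map_iff_mem
        (f := (MonoidHom.ofInjective inr_injective).toMonoidHom) (MonoidHom.ofInjective inr_injective).injective).symm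
    rw [e']
    exact ((MonoidHom.ofInjective inr_injective).mapSubgroup.isCoatom_iff _).2 hP
  · refine ⟨fun h => hP.1 ?_, fun L hL => ?_⟩
    · rw [eq_top_iff]; intro g _
      have : (inr g : Multiplicative V ⋊[φ] (V ≃ₗ[ZMod p] V)) ∈ P.comap rightHom := h ▸ Subgroup.mem_top _
      simpa using this
    have hk : (rightHom : Multiplicative V ⋊[φ] (V ≃ₗ[ZMod p] V) →* _).ker ≤ L := fun x hx => hL.le (by
      show rightHom x ∈ P
      rw [MonoidHom.mem_ker.1 hx]; exact one_mem P)
    obtain ⟨x, hxL, hx⟩ := SetLike.exists_of_lt hL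
    have ht := hP.2 (L.map rightHom) (lt_of_le_of_ne
      (fun g hg => ⟨inr g, hL.le (by simpa using hg), by simp⟩) (fun e => hx (by
        show rightHom x ∈ P
        rw [e]; exact Subgroup.mem_map_of_mem _ hxL)))
    rw [← Subgroup.comap_map_eq_self hk, ht, Subgroup.comap_top]
  · rintro x ⟨g, hg, rfl⟩; simpa using hg
  · intro hco
    have hWK : W ≤ P.comap rightHom := fun x hx => hx.1
    have hlt : (P.map inr).subgroupOf (P.comap (rightHom : Multiplicative V ⋊[φ] (V ≃ₗ[ZMod p] V) →* _)) <
        W.subgroupOf _ := by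
      refine lt_of_le_of_ne ?_ fun e' => ?_
      · rintro x ⟨g, hg, hgx⟩
        replace hgx : inr g = (x : Multiplicative V ⋊[φ] (V ≃ₗ[ZMod p] V)) := hgx
        refine Subgroup.mem_subgroupOf.2 ⟨?_, ?_⟩ <;> rw [← hgx]
        · simpa using hg
        · simp
      · have hm : inl (Multiplicative.ofAdd e) ∈ W := ⟨by simpa using one_mem P, by
          simpa using Submodule.mem_span_singleton_self e⟩
        have : (⟨_, hWK hm⟩ : (P.comap (rightHom : Multiplicative V ⋊[φ] (V ≃ₗ[ZMod p] V) →* _) : Subgroup _)) ∈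
            (P.map inr).subgroupOf (P.comap rightHom) := e' ▸ hm
        obtain ⟨g, -, hg⟩ := this
        have h2 := congrArg SemidirectProduct.left hg
        simp only [left_inr, left_inl] at h2
        exact he (congrArg Multiplicative.toAdd h2).symm
    have htop := hco.2 _ hlt
    obtain ⟨w, -, hw⟩ := SetLike.exists_of_lt (show Submodule.span (ZMod p) {e} < ⊤ by
      refine lt_top_iff_ne_top.2 fun h => ?_
      have := congrArg (fun U : Submodule (ZMod p) V => Module.finrank (ZMod p) U) h
      simp only [finrank_span_singleton he, finrank_top] at this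
      omega)
    have hm : inl (Multiplicative.ofAdd w) ∈ P.comap (rightHom : Multiplicative V ⋊[φ] (V ≃ₗ[ZMod p] V) →* _) := by
      simpa using one_mem P
    have : (⟨_, hm⟩ : (P.comap (rightHom : Multiplicative V ⋊[φ] (V ≃ₗ[ZMod p] V) →* _) : Subgroup _)) ∈
        W.subgroupOf (P.comap rightHom) := htop ▸ Subgroup.mem_top _
    exact hw (by simpa using (Subgroup.mem_subgroupOf.1 this).2)

end Cfsg.Agent.S5895
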