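import Cfsg.Statements.S5896
import Mathlib.GroupTheory.SemidirectProduct
import Mathlib.GroupTheory.Solvable
import Mathlib.GroupTheory.Perm.Fin
import Mathlib.GroupTheory.SpecificGroups.Alternating.Centralizer
import Mathlib.GroupTheory.GroupAction.MultipleTransitivity

set_option autoImplicit false
open Cfsg

namespace Cfsg.Agent.S5896

open SemidirectProduct

section
variable (S ι : Type) [Group S]

/-- permutations act on functions -/
def permAct (A : Subgroup (Equiv.Perm ι)) : A →* MulAut (ι → S) where
  toFun a :=
    { toFun := fun f i => f ((a : Equiv.Perm ι)⁻¹ i)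
      invFun := fun f i => f ((a : Equiv.Perm ι) i)
      left_inv := fun f => funext fun i => congrArg f ((a : Equiv.Perm ι).symm_apply_apply i)
      right_inv := fun f => funext fun i => congrArg f ((a : Equiv.Perm ι).apply_symm_apply i)
      map_mul' := fun _ _ => rfl }
  map_one' := by ext f i; rfl
  map_mul' a b := by ext f i; rfl

/-- permutational wreath product -/
abbrev Wr (A : Subgroup (Equiv.Perm ι)) := (ι → S) ⋊[permAct S ι A] A

variable {S ι}

/-- the left part in coordinate `i`, on elements with trivial right part -/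
def coord (A : Subgroup (Equiv.Perm ι)) (i : ι) :
    ((rightHom : Wr S ι A →* A).ker) →* S where
  toFun x := x.1.left i
  map_one' := rfl
  map_mul' x y := by
    show (x.1.left * permAct S ι A x.1.right y.1.left) i = _
    rw [show x.1.right = 1 from x.2, map_one]; rfl

theorem coord_surjective [DecidableEq ι] (A : Subgroup (Equiv.Perm ι)) (N : Subgroup (Wr S ι A)) [N.Normal]
    {a : Wr S ι A} (ha : a ∈ N) {i : ι} (hi : (a.right : Equiv.Perm ι) i ≠ i) :
    ∀ s : S, ∃ x : (rightHom : Wr S ι A →* A).ker, x.1 ∈ N ∧ coord A i x = s := by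
  intro s
  set δ : Wr S ι A := inl (Pi.mulSingle i s) with hδ
  have hN : δ * a * δ⁻¹ * a⁻¹ ∈ N := mul_mem (Subgroup.Normal.conj_mem inferInstance a ha δ) (inv_mem ha)
  have hk : δ * a * δ⁻¹ * a⁻¹ ∈ (rightHom : Wr S ι A →* A).ker := by simp [MonoidHom.mem_ker, hδ]
  refine ⟨⟨_, hk⟩, hN, ?_⟩
  have hne : (a.right : Equiv.Perm ι)⁻¹ i ≠ i := fun e => hi (by
    conv_lhs => rw [← e]
    exact (a.right : Equiv.Perm ι).apply_symm_apply i)
  show (δ * a * δ⁻¹ * a⁻¹).left i = s
  simp only [hδ, mul_left, mul_right, inv_left, inv_right, left_inl, right_inl, map_one, MulAut.one_apply, one_mul,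
    inv_one, mul_one]
  show Pi.mulSingle (M := fun _ : ι => S) i s i * a.left i * (Pi.mulSingle (M := fun _ => S) i s ((a.right : Equiv.Perm ι)⁻¹ i))⁻¹ *
    (a.left ((a.right : Equiv.Perm ι) ((a.right : Equiv.Perm ι)⁻¹ i)))⁻¹ = s
  rw [Pi.mulSingle_eq_same, Pi.mulSingle_eq_of_ne hne,
    show (a.right : Equiv.Perm ι) ((a.right : Equiv.Perm ι)⁻¹ i) = i from (a.right : Equiv.Perm ι).apply_symm_apply i]
  simp

theorem solvable_pi [Group.IsSolvable S] : Group.IsSolvable (ι → S) := by
  obtain ⟨n, hn⟩ := Group.IsSolvable.solvable (G := S)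
  refine ⟨⟨n, (Subgroup.eq_bot_iff_forall _).2 fun f hf => funext fun i => ?_⟩⟩
  have : f i ∈ derivedSeries S n :=
    map_derivedSeries_le_derivedSeries (Pi.evalMonoidHom (fun _ : ι => S) i) n (Subgroup.mem_map_of_mem _ hf)
  rwa [hn, Subgroup.mem_bot] at this

theorem solvable_wr [Group.IsSolvable S] (A : Subgroup (Equiv.Perm ι)) [Group.IsSolvable A] :
    Group.IsSolvable (Wr S ι A) := by
  haveI := solvable_pi (S := S) (ι := ι)
  exact Group.isSolvable_of_ker_le_range (inl : _ →* Wr S ι A) rightHom (range_inl_eq_ker_rightHom).ge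

end

/-- pushing the derived series of a group into the derived series of a bigger one -/
theorem map_derived_le {G K : Type*} [Group G] [Group K] (f : K →* G) (h : ∀ x, f x ∈ derivedSeries G 1) (n : ℕ) :
    (derivedSeries K n).map f ≤ derivedSeries G (n + 1) := by
  induction n with
  | zero => rintro x ⟨y, -, rfl⟩; exact h y
  | succ n ih =>
    rw [derivedSeries_succ, Subgroup.map_commutator, derivedSeries_succ G (n + 1)]
    exact Subgroup.commutator_mono ih ih

theorem exists_long : ∀ d : ℕ, ∃ (S : Type) (_ : Group S) (_ : Finite S),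
    Group.IsSolvable S ∧ derivedSeries S d ≠ ⊥
  | 0 => ⟨Multiplicative (ZMod 2), inferInstance, inferInstance, inferInstance, by
      rw [derivedSeries_zero]; exact top_ne_bot⟩
  | d + 1 => by
    obtain ⟨S, _, _, hS, hd⟩ := exists_long d
    let A : Subgroup (Equiv.Perm Bool) := ⊤
    haveI : Group.IsSolvable A := isSolvable_of_comm (by
      rintro ⟨a, -⟩ ⟨b, -⟩
      have : ∀ a b : Equiv.Perm Bool, a * b = b * a := by decide
      exact Subtype.ext (this a b))
    haveI : Finite (Wr S Bool A) := Finite.of_equiv _ SemidirectProduct.equivProd.symm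
    refine ⟨Wr S Bool A, inferInstance, inferInstance, solvable_wr A, fun hbot => hd ?_⟩
    -- a nontrivial commutator of the two kinds projects onto `S`
    let D := (derivedSeries (Wr S Bool A) 1).subgroupOf (rightHom : Wr S Bool A →* A).ker
    let f : D →* S := (coord A true).comp D.subtype
    have hf : Function.Surjective f := by
      intro s
      set δ : Wr S Bool A := inl (Pi.mulSingle true s) with hδ
      set a : Wr S Bool A := inr ⟨Equiv.swap true false, Subgroup.mem_top _⟩ with ha
      have hN : δ * a * δ⁻¹ * a⁻¹ ∈ derivedSeries (Wr S Bool A) 1 := by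
        rw [derivedSeries_one]
        exact Subgroup.commutator_mem_commutator (Subgroup.mem_top δ) (Subgroup.mem_top a)
      have hk : δ * a * δ⁻¹ * a⁻¹ ∈ (rightHom : Wr S Bool A →* A).ker := by simp [MonoidHom.mem_ker, hδ]
      refine ⟨⟨⟨_, hk⟩, hN⟩, ?_⟩
      show (δ * a * δ⁻¹ * a⁻¹).left true = s
      simp only [hδ, ha, mul_left, mul_right, inv_left, inv_right, left_inl, right_inl, left_inr, right_inr, map_one,
        MulAut.one_apply, one_mul, inv_one, mul_one]
      show Pi.mulSingle (M := fun _ : Bool => S) true s true * (Pi.mulSingle (M := fun _ => S) true s ((Equiv.swap true false)⁻¹ true))⁻¹ = s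
      simp
    let g : D →* Wr S Bool A := (Subgroup.subtype _).comp D.subtype
    have hg : derivedSeries D d = ⊥ := (Subgroup.map_eq_bot_iff_of_injective _
      (show Function.Injective g from Subtype.val_injective.comp Subtype.val_injective)).1
        (le_bot_iff.1 (hbot ▸ map_derived_le g (fun x => x.2) d))
    rw [← map_derivedSeries_eq hf, hg, Subgroup.map_bot]

/-- a point stabiliser in the alternating group on five letters is solvable -/
theorem solvable_point :
    Group.IsSolvable (MulAction.stabilizer (alternatingGroup (Fin 5)) (4 : Fin 5)) := by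
  set M := MulAction.stabilizer (alternatingGroup (Fin 5)) (4 : Fin 5)
  have key1 : ∀ a b : alternatingGroup (Fin 5), (a : Equiv.Perm (Fin 5)) 4 = 4 → (b : Equiv.Perm (Fin 5)) 4 = 4 →
      a * b * a⁻¹ * b⁻¹ * (a * b * a⁻¹ * b⁻¹) = 1 := by decide +kernel
  have key2 : ∀ a b : alternatingGroup (Fin 5), (a : Equiv.Perm (Fin 5)) 4 = 4 → (b : Equiv.Perm (Fin 5)) 4 = 4 →
      a * a = 1 → b * b = 1 → a * b = b * a := by decide +kernel
  let V : Subgroup M :=
    { carrier := {g | g * g = 1}
      one_mem' := one_mul 1
      mul_mem' := fun {a b} ha hb => by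
        have e : a * b = b * a := Subtype.ext (key2 a b a.2 b.2 (congrArg Subtype.val ha) (congrArg Subtype.val hb))
        show a * b * (a * b) = 1
        rw [show a * b * (a * b) = a * (b * a) * b by group, ← e,
          show a * (a * b) * b = (a * a) * (b * b) by group, ha, hb, one_mul]
      inv_mem' := fun {a} ha => by
        show a⁻¹ * a⁻¹ = 1
        rw [← mul_inv_rev, ha, inv_one] }
  have hV : derivedSeries M 1 ≤ V := by
    rw [derivedSeries_one, commutator_def, Subgroup.commutator_le]
    exact fun a _ b _ => Subtype.ext (key1 a b a.2 b.2)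
  refine ⟨⟨2, (Subgroup.eq_bot_iff_forall _).2 fun x hx => ?_⟩⟩
  have h2 : derivedSeries M 2 ≤ ⊥ := by
    rw [derivedSeries_succ, Subgroup.commutator_le]
    intro a ha b hb
    rw [Subgroup.mem_bot, commutatorElement_eq_one_iff_commute]
    exact Subtype.ext (key2 a b a.2 b.2 (congrArg Subtype.val (hV ha)) (congrArg Subtype.val (hV hb)))
  exact (Subgroup.mem_bot).1 (h2 hx)

/-- Finite perfect groups have solvable maximal subgroups of unbounded derived length: for every d there is a finite perfect group G (equal to its commutator subgroup) with a solvable maximal subgroup H whose derived length exceeds d, i.e. the d-th term of the derived series of H is non-trivial. (Take the derived subgroup of a wreath product S ≀ A₅ with S solvable of large derived length, and H the preimage of a maximal subgroup of A₅.) -/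
theorem result (d : ℕ) :
    ∃ (G : Type) (_ : Group G) (_ : Finite G) (H : Subgroup G), commutator G = ⊤ ∧ IsCoatom H ∧ Group.IsSolvable H ∧
      derivedSeries H d ≠ ⊥ := by
  obtain ⟨S, _, _, hS, hd⟩ := exists_long d
  let A := alternatingGroup (Fin 5)
  haveI : Finite (Wr S (Fin 5) A) := Finite.of_equiv _ SemidirectProduct.equivProd.symm
  obtain ⟨n, hn⟩ := WellFoundedLT.antitone_chain_condition (derivedSeries_antitone (Wr S (Fin 5) A))
  set G := derivedSeries (Wr S (Fin 5) A) n with hG
  let π : G →* A := rightHom.comp G.subtype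
  have hA : commutator A = ⊤ := commutator_alternatingGroup_eq_top (by simp)
  have hAn : ∀ k, derivedSeries A k = ⊤ := fun k => by
    induction k with
    | zero => rfl
    | succ k ih => rw [derivedSeries_succ, ih, ← commutator_def]; exact hA
  have hπ : Function.Surjective π := fun a => by
    have : a ∈ G.map (rightHom : Wr S (Fin 5) A →* A) := by
      rw [hG, map_derivedSeries_eq rightHom_surjective, hAn]; trivial
    obtain ⟨x, hx, rfl⟩ := this
    exact ⟨⟨x, hx⟩, rfl⟩
  haveI : MulAction.IsPreprimitive (alternatingGroup (Fin 5)) (Fin 5) :=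
    alternatingGroup.isPreprimitive_of_three_le_card _ (by simp)
  have hM : IsCoatom (MulAction.stabilizer (alternatingGroup (Fin 5)) (4 : Fin 5)) :=
    MulAction.IsPreprimitive.isCoatom_stabilizer_of_isPreprimitive (G := alternatingGroup (Fin 5)) (4 : Fin 5)
  haveI := solvable_point
  set M := MulAction.stabilizer (alternatingGroup (Fin 5)) (4 : Fin 5)
  refine ⟨G, inferInstance, inferInstance, M.comap π, ?_, ?_, ?_, ?_⟩
  · apply Subgroup.map_injective G.subtype_injective
    rw [Subgroup.map_subtype_commutator, ← MonoidHom.range_eq_map, Subgroup.range_subtype]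
    exact (derivedSeries_succ _ n).symm.trans (hn (n + 1) (Nat.le_succ n)).symm
  · refine ⟨fun h => hM.1 ?_, fun L hL => ?_⟩
    · rw [eq_top_iff]; intro a _
      obtain ⟨x, rfl⟩ := hπ a
      exact (h ▸ Subgroup.mem_top x : x ∈ M.comap π)
    have hk : π.ker ≤ L := fun x hx => hL.le (by
      show π x ∈ M
      rw [MonoidHom.mem_ker.1 hx]; exact one_mem M)
    obtain ⟨x, hxL, hx⟩ := SetLike.exists_of_lt hL
    have ht := hM.2 (L.map π) (lt_of_le_of_ne
      (fun a ha => by obtain ⟨y, rfl⟩ := hπ a; exact Subgroup.mem_map_of_mem _ (hL.le ha))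
      (fun e => hx (by show π x ∈ M; rw [e]; exact Subgroup.mem_map_of_mem _ hxL)))
    rw [← Subgroup.comap_map_eq_self hk, ht, Subgroup.comap_top]
  · haveI := solvable_pi (S := S) (ι := Fin 5)
    let π' : M.comap π →* M := π.subgroupComap M
    let f : π'.ker →* (Fin 5 → S) :=
      { toFun := fun x => x.1.1.1.left
        map_one' := rfl
        map_mul' := fun x y => by
          have hr : x.1.1.1.right = 1 := congrArg Subtype.val (MonoidHom.mem_ker.1 x.2)
          show x.1.1.1.left * permAct S (Fin 5) A x.1.1.1.right y.1.1.1.left = _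
          rw [hr, map_one]; rfl }
    haveI : Group.IsSolvable π'.ker := Group.isSolvable_of_isSolvable_injective (f := f) fun x y h => by
      have hr : ∀ z : π'.ker, z.1.1.1.right = 1 := fun z => congrArg Subtype.val (MonoidHom.mem_ker.1 z.2)
      exact Subtype.ext (Subtype.ext (Subtype.ext (SemidirectProduct.ext h ((hr x).trans (hr y).symm))))
    exact Group.isSolvable_of_ker_le_range π'.ker.subtype π' (Subgroup.range_subtype _).ge
  · intro hbot
    apply hd
    let D : Subgroup (rightHom : Wr S (Fin 5) A →* A).ker := G.subgroupOf _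
    let g : D →* M.comap π := MonoidHom.codRestrict (MonoidHom.codRestrict ((Subgroup.subtype _).comp D.subtype) G
        fun x => x.2) _ fun x => by
      show rightHom x.1.1 ∈ M
      rw [MonoidHom.mem_ker.1 x.1.2]; exact one_mem M
    have hg : derivedSeries D d = ⊥ := (Subgroup.map_eq_bot_iff_of_injective _
      (show Function.Injective g from fun x y h => Subtype.ext (Subtype.ext (congrArg (fun z : M.comap π => z.1.1) h)))).1
        (le_bot_iff.1 (hbot ▸ map_derivedSeries_le_derivedSeries g d))
    obtain ⟨a, ha⟩ := hπ ⟨Equiv.swap 0 1 * Equiv.swap 2 3, Equiv.Perm.mem_alternatingGroup.2 (by decide +kernel)⟩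
    have hmove : (a.1.right : Equiv.Perm (Fin 5)) 0 ≠ 0 := by
      rw [show a.1.right = _ from ha]; decide +kernel
    have hf : Function.Surjective ((coord A (0 : Fin 5)).comp D.subtype) := fun s => by
      obtain ⟨x, hx, hxs⟩ := coord_surjective A G a.2 hmove s
      exact ⟨⟨x, hx⟩, hxs⟩
    rw [← map_derivedSeries_eq hf, hg, Subgroup.map_bot]

end Cfsg.Agent.S5896
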