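import Cfsg.Statements.S5902
import Cfsg.Agent.S5901

set_option autoImplicit false
open Cfsg

namespace Cfsg.Agent.S5902

/-- Let G be a finite group, X a subgroup whose own subgroup lattice is complemented, and suppose X lies in exactly one maximal subgroup M of G. Then every subgroup H of G not contained in the normal core of M has a complement in the subgroup lattice of G (some C with H ⊔ C = G and H ⊓ C = 1); in particular the subgroup lattice of G modulo the normal core of M is complemented. -/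
theorem result {G : Type*} [Group G] [Finite G] (X M : Subgroup G)
    (hK : ComplementedLattice (Subgroup X))
    (hM : IsCoatom M) (hXM : X ≤ M) (huniq : ∀ M' : Subgroup G, IsCoatom M' → X ≤ M' → M' = M) :
    (∀ H : Subgroup G, ¬ H ≤ M.normalCore → ∃ C : Subgroup G, H ⊔ C = ⊤ ∧ H ⊓ C = ⊥) ∧
    ComplementedLattice (Subgroup (G ⧸ M.normalCore)) := by
  have hXt : X ≠ ⊤ := fun h => hM.1 (top_le_iff.1 (h ▸ hXM))
  have key : ∀ H : Subgroup G, ¬ H ≤ M.normalCore → ∃ C : Subgroup G, H ⊔ C = ⊤ ∧ H ⊓ C = ⊥ := by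
    intro H hH
    obtain ⟨h, hh, hhc⟩ := SetLike.not_le_iff_exists.1 hH
    obtain ⟨g, hg⟩ : ∃ g : G, g * h * g⁻¹ ∉ M := by
      by_contra hno
      push Not at hno
      exact hhc hno
    let e : Subgroup G ≃o Subgroup G := (MulAut.conj g).mapSubgroup
    obtain ⟨C, hsup, hinf⟩ := S5901.result ⊥ X M bot_le hXt (fun Y _ hY => by
      obtain ⟨Z, hZ⟩ := exists_isCompl (Y.subgroupOf X)
      refine ⟨Z.map X.subtype, bot_le, Subgroup.map_subtype_le Z, ?_, ?_⟩
      · have h2 := congrArg (Subgroup.map X.subtype) hZ.sup_eq_top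
        rw [Subgroup.map_sup, Subgroup.map_subgroupOf_eq_of_le hY] at h2
        rw [h2, ← MonoidHom.range_eq_map, Subgroup.range_subtype]
      · have h2 := congrArg (Subgroup.map X.subtype) hZ.inf_eq_bot
        rwa [Subgroup.map_inf _ _ _ X.subtype_injective, Subgroup.map_subgroupOf_eq_of_le hY,
          Subgroup.map_bot] at h2)
      hM hXM huniq (e H) (fun hle => hg (hle ⟨h, hh, rfl⟩)) (inf_bot_eq _)
    refine ⟨e.symm C, ?_, ?_⟩
    · apply e.injective
      rw [map_sup, OrderIso.apply_symm_apply, hsup, map_top]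
    · apply e.injective
      rw [map_inf, OrderIso.apply_symm_apply, hinf, map_bot]
  refine ⟨key, ⟨fun Q => ?_⟩⟩
  set π := QuotientGroup.mk' M.normalCore with hπ
  have hsurj : Function.Surjective π := QuotientGroup.mk'_surjective _
  by_cases hQ : Q.comap π ≤ M.normalCore
  · refine ⟨⊤, ?_⟩
    have hb : Q = ⊥ := by
      rw [eq_bot_iff]
      intro x hx
      obtain ⟨g, rfl⟩ := hsurj x
      exact Subgroup.mem_bot.2 ((QuotientGroup.eq_one_iff g).2 (hQ hx))
    exact hb ▸ isCompl_bot_top
  obtain ⟨C, hsup, hinf⟩ := key _ hQ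
  refine ⟨C.map π, IsCompl.of_eq ?_ ?_⟩
  · rw [eq_bot_iff]
    rintro x ⟨hx, c, hc, rfl⟩
    have : c ∈ Q.comap π ⊓ C := ⟨hx, hc⟩
    rw [hinf, Subgroup.mem_bot] at this
    simp [this]
  · have h2 := congrArg (Subgroup.map π) hsup
    rwa [Subgroup.map_sup, Subgroup.map_comap_eq_self_of_surjective hsurj,
      Subgroup.map_top_of_surjective π hsurj] at h2

end Cfsg.Agent.S5902
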