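import Cfsg.Statements.S5903
import Cfsg.Agent.S5901

set_option autoImplicit false
open Cfsg

namespace Cfsg.Agent.S5903

/-- Let G be a finite simple group, X a subgroup lying in exactly one maximal subgroup M of G, and N a subgroup of prime order with N ≤ X that is central in M. If the subgroup lattice of X/N is complemented, then the subgroup lattice of G is complemented. -/
theorem result {G : Type*} [Group G] [Finite G] [IsSimpleGroup G] (X M N : Subgroup G)
    (hM : IsCoatom M) (hXM : X ≤ M) (huniq : ∀ M' : Subgroup G, IsCoatom M' → X ≤ M' → M' = M)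
    (hNX : N ≤ X) (hN : (Nat.card N).Prime) (hcen : ∀ n ∈ N, ∀ m ∈ M, m * n = n * m)
    [(N.subgroupOf X).Normal] (hK : ComplementedLattice (Subgroup (X ⧸ N.subgroupOf X))) :
    ComplementedLattice (Subgroup G) := by
  have hXt : X ≠ ⊤ := fun h => hM.1 (top_le_iff.1 (h ▸ hXM))
  have hN1 : N ≠ ⊥ := fun h => by
    rw [h, Subgroup.card_bot] at hN
    exact Nat.not_prime_one hN
  set π := QuotientGroup.mk' (N.subgroupOf X) with hπ
  have hsurj : Function.Surjective π := QuotientGroup.mk'_surjective _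
  have hker : π.ker = N.subgroupOf X := QuotientGroup.ker_mk' _
  have hint : ∀ Y : Subgroup G, N ≤ Y → Y ≤ X → ∃ C : Subgroup G, N ≤ C ∧ C ≤ X ∧ Y ⊔ C = X ∧ Y ⊓ C = N := by
    intro Y hY hYX
    obtain ⟨Z, hZ⟩ := exists_isCompl ((Y.subgroupOf X).map π)
    have hYc : ((Y.subgroupOf X).map π).comap π = Y.subgroupOf X := by
      rw [Subgroup.comap_map_eq, hker, sup_eq_left]
      exact fun x hx => hY hx
    refine ⟨(Z.comap π).map X.subtype, ?_, Subgroup.map_subtype_le _, ?_, ?_⟩
    · intro x hx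
      refine ⟨⟨x, hNX hx⟩, ?_, rfl⟩
      show π _ ∈ Z
      rw [show π (⟨x, hNX hx⟩ : X) = 1 from (QuotientGroup.eq_one_iff _).2 hx]
      exact one_mem _
    · have h2 := congrArg (Subgroup.comap π) hZ.sup_eq_top
      rw [← Subgroup.comap_sup_eq π _ _ hsurj, hYc, Subgroup.comap_top] at h2
      have h3 := congrArg (Subgroup.map X.subtype) h2
      rwa [Subgroup.map_sup, Subgroup.map_subgroupOf_eq_of_le hYX, ← MonoidHom.range_eq_map,
        Subgroup.range_subtype] at h3
    · have h2 := congrArg (Subgroup.comap π) hZ.inf_eq_bot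
      rw [Subgroup.comap_inf, hYc, MonoidHom.comap_bot, hker] at h2
      have h3 := congrArg (Subgroup.map X.subtype) h2
      rwa [Subgroup.map_inf _ _ _ X.subtype_injective, Subgroup.map_subgroupOf_eq_of_le hYX,
        Subgroup.map_subgroupOf_eq_of_le hNX] at h3
  refine ⟨fun H => ?_⟩
  rcases eq_or_ne H ⊥ with rfl | hH0
  · exact ⟨⊤, isCompl_bot_top⟩
  rcases eq_or_ne H ⊤ with rfl | hH1
  · exact ⟨⊥, isCompl_top_bot⟩
  by_cases hgood : ∃ g : G, ¬ (MulAut.conj g).mapSubgroup H ≤ M ∧ ¬ N ≤ (MulAut.conj g).mapSubgroup H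
  · obtain ⟨g, hg1, hg2⟩ := hgood
    let e : Subgroup G ≃o Subgroup G := (MulAut.conj g).mapSubgroup
    have hHT : e H ⊓ N = ⊥ := by
      have := Nat.Prime.eq_one_or_self_of_dvd hN _ (Subgroup.card_dvd_of_le (inf_le_right : e H ⊓ N ≤ N))
      rcases this with h | h
      · exact Subgroup.card_eq_one.1 h
      · exact absurd ((Subgroup.eq_of_le_of_card_ge inf_le_right h.ge).ge.trans inf_le_left) hg2
    obtain ⟨C, hsup, hinf⟩ := S5901.result N X M hNX hXt hint hM hXM huniq (e H) hg1 hHT
    refine ⟨e.symm C, IsCompl.of_eq ?_ ?_⟩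
    · apply e.injective
      rw [map_inf, OrderIso.apply_symm_apply, hinf, map_bot]
    · apply e.injective
      rw [map_sup, OrderIso.apply_symm_apply, hsup, map_top]
  exfalso
  push Not at hgood
  have hmem : ∀ g x : G, x ∈ (MulAut.conj g).mapSubgroup H ↔ g⁻¹ * x * g ∈ H := fun g x => by
    rw [MulEquiv.mapSubgroup_apply]
    exact (Subgroup.mem_map_equiv (f := MulAut.conj g)).trans (by rw [MulAut.conj_symm_apply])
  have hnorm : ∀ g : G, ∀ z ∈ N, g⁻¹ * z * g ∈ Subgroup.normalizer (H : Set G) := by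
    intro g z hz
    have key : ∀ x ∈ (MulAut.conj g).mapSubgroup H, ∀ z ∈ N,
        z * x * z⁻¹ ∈ (MulAut.conj g).mapSubgroup H := by
      intro x hx z hz
      by_cases hle : (MulAut.conj g).mapSubgroup H ≤ M
      · rw [← hcen z hz x (hle hx), mul_assoc, mul_inv_cancel, mul_one]; exact hx
      · exact mul_mem (mul_mem (hgood g hle hz) hx) (inv_mem (hgood g hle hz))
    refine Subgroup.mem_normalizer_iff.2 fun y => ⟨fun hy => ?_, fun hy => ?_⟩
    · have := key (g * y * g⁻¹) ((hmem g _).2 (by simpa [mul_assoc] using hy)) z hz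
      rw [hmem] at this
      convert this using 1
      group
    · have := key (g * (g⁻¹ * z * g * y * (g⁻¹ * z * g)⁻¹) * g⁻¹)
        ((hmem g _).2 (by simpa [mul_assoc] using hy)) z⁻¹ (inv_mem hz)
      rw [hmem] at this
      convert this using 1
      group
  have hcl : Subgroup.normalClosure (N : Set G) ≤ Subgroup.normalizer (H : Set G) := by
    rw [Subgroup.normalClosure, Subgroup.closure_le]
    intro x hx
    obtain ⟨z, hz, hzx⟩ := Group.mem_conjugatesOfSet_iff.1 hx
    obtain ⟨c, hc⟩ := isConj_iff.1 hzx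
    rw [← hc]
    simpa using hnorm c⁻¹ z hz
  rcases (Subgroup.normalClosure_normal (s := (N : Set G))).eq_bot_or_eq_top with h | h
  · exact hN1 (eq_bot_iff.2 (h ▸ Subgroup.le_normalClosure))
  · have hn : H.Normal := Subgroup.normalizer_eq_top_iff.1 (top_le_iff.1 (h ▸ hcl))
    rcases hn.eq_bot_or_eq_top with h' | h' <;> contradiction

end Cfsg.Agent.S5903
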