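import Cfsg.Statements.S5904
-- import your own Cfsg.Agent.* helpers here

set_option autoImplicit false
open scoped Pointwise
open Cfsg

namespace Cfsg.Agent.S5904

/-- Let Ω be a finite set with more than two elements and O ⊆ Ω a subset with exactly as many elements as its complement. Then the setwise stabilizer of O in the symmetric group on Ω is not a maximal subgroup (it is properly contained in the stabilizer of the partition {O, Ω ∖ O}, which is proper). -/
theorem result {Ω : Type*} [Fintype Ω] [DecidableEq Ω] (hΩ : 2 < Fintype.card Ω)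
    (O : Set Ω) (hO : Nat.card O = Nat.card ↥Oᶜ) :
    ¬ IsCoatom (MulAction.stabilizer (Equiv.Perm Ω) O) := by
  classical
  let P : Subgroup (Equiv.Perm Ω) := MulAction.stabilizer (Equiv.Perm Ω) ({O, Oᶜ} : Set (Set Ω))
  have hP : ∀ g, g ∈ P → g • O = O ∨ g • O = Oᶜ := fun g hg => by
    have h1 : g • O ∈ ({O, Oᶜ} : Set (Set Ω)) := by
      exact MulAction.mem_stabilizer_iff.1 hg ▸ Set.smul_mem_smul_set (Set.mem_insert _ _)
    simpa using h1
  have hle : MulAction.stabilizer (Equiv.Perm Ω) O ≤ P := fun g hg => by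
    have h1 : g • O = O := hg
    rw [MulAction.mem_stabilizer_iff, Set.smul_set_insert, Set.smul_set_singleton, Set.smul_set_compl, h1]
  have hcard : Nat.card O + Nat.card ↥Oᶜ = Fintype.card Ω := by
    rw [Nat.card_coe_set_eq, Nat.card_coe_set_eq, Set.ncard_add_ncard_compl, Nat.card_eq_fintype_card]
  have h2 : 2 ≤ O.ncard := by rw [← Nat.card_coe_set_eq]; omega
  obtain ⟨x, hx, x', hx', hxx⟩ := (Set.one_lt_ncard (Set.toFinite _)).1 h2
  obtain ⟨y, hy⟩ : (Oᶜ).Nonempty :=
    Set.nonempty_of_ncard_ne_zero (by rw [← Nat.card_coe_set_eq]; omega)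
  have e : O ≃ ↥Oᶜ := (Fintype.equivOfCardEq (by simpa [Nat.card_eq_fintype_card] using hO))
  let g : Equiv.Perm Ω := (Equiv.Set.sumCompl O).symm.trans
    (((Equiv.sumComm _ _).trans (Equiv.sumCongr e.symm e)).trans (Equiv.Set.sumCompl O))
  have hgO : ∀ z, g z ∈ O ↔ z ∉ O := fun z => by
    obtain ⟨w, rfl⟩ := (Equiv.Set.sumCompl O).surjective z
    show Equiv.Set.sumCompl O (Sum.map e.symm e ((Equiv.Set.sumCompl O).symm
      (Equiv.Set.sumCompl O w)).swap) ∈ O ↔ Equiv.Set.sumCompl O w ∉ O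
    rw [Equiv.symm_apply_apply]
    rcases w with ⟨w, hw⟩ | ⟨w, hw⟩
    · exact iff_of_false (e ⟨w, hw⟩).2 (not_not.2 hw)
    · exact iff_of_true (e.symm ⟨w, hw⟩).2 hw
  have hgs : g • O = Oᶜ := by
    ext z
    rw [Set.mem_smul_set_iff_inv_smul_mem, Set.mem_compl_iff, Equiv.Perm.smul_def]
    conv_rhs => rw [← Equiv.apply_symm_apply g z, hgO]
    rw [not_not, Equiv.Perm.inv_def]
  intro hco
  have hgP : g ∈ P := by
    rw [MulAction.mem_stabilizer_iff, Set.smul_set_insert, Set.smul_set_singleton, Set.smul_set_compl, hgs,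
      compl_compl, Set.pair_comm]
  have hlt : MulAction.stabilizer (Equiv.Perm Ω) O < P := lt_of_le_of_ne hle fun he => by
    rw [← he, MulAction.mem_stabilizer_iff, hgs] at hgP
    exact (Set.ext_iff.1 hgP x).2 hx hx
  have hs : Equiv.swap x y ∈ P := by rw [hco.2 P hlt]; trivial
  rcases hP _ hs with h | h
  · exact hy ((Set.ext_iff.1 h y).1 ⟨x, hx, Equiv.swap_apply_left x y⟩)
  · refine (Set.ext_iff.1 h x').1 ⟨x', hx', ?_⟩ hx'
    exact Equiv.swap_apply_of_ne_of_ne hxx.symm (fun h => hy (h ▸ hx'))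

end Cfsg.Agent.S5904
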