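import Cfsg.Statements.S5905
-- import your own Cfsg.Agent.* helpers here

set_option autoImplicit false
open Cfsg

namespace Cfsg.Agent.S5905

section helpers

variable {Ω : Type*} [Fintype Ω] [DecidableEq Ω] {b : ℕ} (f : Ω → Fin b)

/-- the permutations preserving the partition -/
def partSet : Set (Equiv.Perm Ω) := {g | ∀ x y : Ω, f x = f y ↔ f (g x) = f (g y)}

theorem mem_closure_iff (g : Equiv.Perm Ω) : g ∈ Subgroup.closure (partSet f) ↔ g ∈ partSet f := by
  refine ⟨fun h => ?_, fun h => Subgroup.subset_closure h⟩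
  induction h using Subgroup.closure_induction with
  | mem x hx => exact hx
  | one => exact fun x y => Iff.rfl
  | mul p q _ _ hp hq => exact fun x y => (hq x y).trans (hp _ _)
  | inv p _ hp =>
    intro x y
    have := hp (p⁻¹ x) (p⁻¹ y)
    simp only [Equiv.Perm.coe_inv, Equiv.apply_symm_apply] at this ⊢
    exact this.symm

theorem swap_mem {x y : Ω} (h : f x = f y) : Equiv.swap x y ∈ partSet f := by
  have key : ∀ z, f (Equiv.swap x y z) = f z := fun z => by
    rw [Equiv.swap_apply_def]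
    split_ifs with h1 h2
    · rw [h1, h]
    · rw [h2, h]
    · rfl
  intro u v
  rw [key, key]

variable {f} {a : ℕ} (hf : ∀ i : Fin b, Nat.card {x : Ω // f x = i} = a)
include hf

theorem exists_blockPerm (π : Equiv.Perm (Fin b)) :
    ∃ g ∈ partSet f, ∀ x, f (g x) = π (f x) := by
  have e : ∀ i, {x : Ω // f x = i} ≃ Fin a := fun i => Finite.equivFinOfCardEq (hf i)
  let E : Ω ≃ Fin b × Fin a :=
    (Equiv.sigmaFiberEquiv f).symm.trans ((Equiv.sigmaCongrRight e).trans (Equiv.sigmaEquivProd _ _))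
  have hE : ∀ x, (E x).1 = f x := fun x => rfl
  have hg : ∀ x, f (E.symm (π (E x).1, (E x).2)) = π (f x) := fun x => by
    rw [← hE (E.symm _), E.apply_symm_apply, hE]
  refine ⟨E.trans ((π.prodCongr (Equiv.refl _)).trans E.symm), fun x y => ?_, hg⟩
  show f x = f y ↔ f (E.symm (π (E x).1, (E x).2)) = f (E.symm (π (E y).1, (E y).2))
  rw [hg, hg, π.injective.eq_iff]

theorem exists_mem_map {x y x' y' : Ω} (h : f x ≠ f y) (h' : f x' ≠ f y') :
    ∃ g ∈ Subgroup.closure (partSet f), g x = x' ∧ g y = y' := by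
  obtain ⟨π, hπ1, hπ2⟩ : ∃ π : Equiv.Perm (Fin b), π (f x) = f x' ∧ π (f y) = f y' := by
    refine ⟨(Equiv.swap (Equiv.swap (f x) (f x') (f y)) (f y')) * Equiv.swap (f x) (f x'), ?_, ?_⟩
    · rw [Equiv.Perm.mul_apply, Equiv.swap_apply_left, Equiv.swap_apply_of_ne_of_ne ?_ h']
      intro e
      have e' := congrArg (Equiv.swap (f x) (f x')) e
      rw [Equiv.swap_apply_self, Equiv.swap_apply_right] at e'
      exact h e'
    · rw [Equiv.Perm.mul_apply, Equiv.swap_apply_left]
  obtain ⟨g, hg, hgf⟩ := exists_blockPerm hf π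
  refine ⟨Equiv.swap (g y) y' * Equiv.swap (g x) x' * g,
    mul_mem (mul_mem (Subgroup.subset_closure (swap_mem f ?_)) (Subgroup.subset_closure (swap_mem f ?_)))
      (Subgroup.subset_closure hg), ?_, ?_⟩
  · rw [hgf, hπ2]
  · rw [hgf, hπ1]
  · rw [Equiv.Perm.mul_apply, Equiv.Perm.mul_apply, Equiv.swap_apply_left]
    refine Equiv.swap_apply_of_ne_of_ne (fun e => ?_) (fun e => h' (congrArg f e))
    exact h' (by rw [e, hgf, hπ2])
  · have h1 : g y ≠ g x := fun e => h (congrArg f (g.injective e).symm)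
    have h2 : g y ≠ x' := fun e => h' (by rw [← e, hgf, hπ2])
    rw [Equiv.Perm.mul_apply, Equiv.Perm.mul_apply, Equiv.swap_apply_of_ne_of_ne h1 h2,
      Equiv.swap_apply_left]

end helpers

/-- Let Ω be a finite set and f : Ω → Fin b a map onto b ≥ 2 labels whose fibres all have the same size a ≥ 2 (a partition of Ω into b blocks of size a, so |Ω| = ab). Then the stabilizer of this partition in the symmetric group on Ω — the permutations g such that x and y lie in the same block exactly when g x and g y do, a group isomorphic to the imprimitive wreath product S_a ≀ S_b — is a maximal subgroup of the symmetric group. -/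
theorem result {Ω : Type*} [Fintype Ω] [DecidableEq Ω] (a b : ℕ) (ha : 2 ≤ a) (hb : 2 ≤ b)
    (f : Ω → Fin b) (hf : ∀ i : Fin b, Nat.card {x : Ω // f x = i} = a) :
    IsCoatom (Subgroup.closure {g : Equiv.Perm Ω | ∀ x y : Ω, f x = f y ↔ f (g x) = f (g y)}) := by
  show IsCoatom (Subgroup.closure (partSet f))
  set K := Subgroup.closure (partSet f) with hK
  have hpos : ∀ i, ∃ x : Ω, f x = i := fun i => by
    have : Nonempty {x : Ω // f x = i} := (Nat.card_pos_iff.1 (by rw [hf i]; omega)).1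
    obtain ⟨⟨x, hx⟩⟩ := this
    exact ⟨x, hx⟩
  obtain ⟨x, hx⟩ := hpos ⟨0, by omega⟩
  obtain ⟨y, hy⟩ := hpos ⟨1, by omega⟩
  have hxy : f x ≠ f y := by rw [hx, hy]; simp
  obtain ⟨x', hx', hxx⟩ : ∃ x', f x' = f x ∧ x' ≠ x := by
    have h1 : Nontrivial {z : Ω // f z = f x} :=
      Finite.one_lt_card_iff_nontrivial.1 (by rw [hf]; omega)
    obtain ⟨⟨z, hz⟩, hne⟩ := exists_ne (⟨x, rfl⟩ : {z : Ω // f z = f x})
    exact ⟨z, hz, fun e => hne (Subtype.ext e)⟩
  refine ⟨fun htop => ?_, fun M hM => ?_⟩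
  · have h1 : Equiv.swap x y ∈ K := htop ▸ Subgroup.mem_top _
    rw [hK, mem_closure_iff] at h1
    have h2 := (h1 x x').1 hx'.symm
    rw [Equiv.swap_apply_left, Equiv.swap_apply_of_ne_of_ne hxx (fun e => hxy (by rw [← e, hx']))] at h2
    exact hxy (hx'.symm.trans h2.symm)
  · obtain ⟨g, hgM, hgK⟩ := SetLike.exists_of_lt hM
    obtain ⟨u, v, huv, hguv⟩ : ∃ u v, f u = f v ∧ f (g u) ≠ f (g v) := by
      by_contra hno
      push Not at hno
      have hm : Function.Surjective f := hpos
      let θ : Fin b → Fin b := fun i => f (g (hm i).choose)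
      have hθ : ∀ z, θ (f z) = f (g z) := fun z => hno _ _ (hm (f z)).choose_spec
      have hθb : Function.Bijective θ := Finite.surjective_iff_bijective.1 fun i => by
        obtain ⟨z, rfl⟩ := hm i
        exact ⟨f (g⁻¹ z), by rw [hθ, Equiv.Perm.inv_def, Equiv.apply_symm_apply]⟩
      exact hgK (Subgroup.subset_closure fun u v => ⟨hno u v, fun e => hθb.1 (by rw [hθ, hθ, e])⟩)
    have hsw : Equiv.swap (g u) (g v) ∈ M := by
      rw [show Equiv.swap (g u) (g v) = g * Equiv.swap u v * g⁻¹ from Equiv.swap_apply_apply g u v]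
      exact mul_mem (mul_mem hgM (hM.le (Subgroup.subset_closure (swap_mem f huv)))) (inv_mem hgM)
    rw [eq_top_iff, ← Equiv.Perm.closure_isSwap, Subgroup.closure_le]
    rintro _ ⟨p, q, hpq, rfl⟩
    by_cases hfpq : f p = f q
    · exact hM.le (Subgroup.subset_closure (swap_mem f hfpq))
    · obtain ⟨k, hk, hk1, hk2⟩ := exists_mem_map hf hguv hfpq
      rw [SetLike.mem_coe, ← hk1, ← hk2, Equiv.swap_apply_apply]
      exact mul_mem (mul_mem (hM.le hk) hsw) (inv_mem (hM.le hk))

end Cfsg.Agent.S5905
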