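import Cfsg.Statements.S5908
import Cfsg.Agent.S0827
import Cfsg.Agent.S0282

set_option autoImplicit false
open Cfsg

namespace Cfsg.Agent.S5908

theorem q8_facts : ∀ x : QuaternionGroup 2,
    (x ^ 2 = 1 → x = 1 ∨ x = QuaternionGroup.a 2) ∧ (x ^ 3 = 1 → x = 1) := by decide +kernel

/-- The subgroup lattice of PSU₃(2) (the solvable group of order 72, realised over the field with 4 elements) is not complemented: some subgroup H has no subgroup X with H ⊔ X = ⊤ and H ⊓ X = ⊥. -/
theorem result {F : Type*} [Field F] [Fintype F] (hF : Fintype.card F = 4) :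
    ¬ ComplementedLattice (Subgroup (Cfsg.PSU 3 F 2)) := by
  intro hc
  have hfin : Finite (Cfsg.PSU 3 F 2) :=
    Nat.finite_of_card_ne_zero (by rw [(Cfsg.Agent.S0282.result hF).1]; omega)
  obtain ⟨N, hN, hN9, -, ⟨e⟩⟩ := Cfsg.Agent.S0827.result hF
  let φ : Cfsg.PSU 3 F 2 →* QuaternionGroup 2 := e.toMonoidHom.comp (QuotientGroup.mk' N)
  have hφ : Function.Surjective φ := e.surjective.comp (QuotientGroup.mk'_surjective N)
  let Z : Subgroup (QuaternionGroup 2) := Subgroup.zpowers (QuaternionGroup.a 2)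
  have hZ : Z ≠ ⊤ := fun h => by
    have h1 : Nat.card Z = 2 := by
      rw [Nat.card_zpowers]
      exact orderOf_eq_prime (by decide +kernel) (by decide +kernel)
    rw [h, Subgroup.card_top, Nat.card_eq_fintype_card, QuaternionGroup.card] at h1
    omega
  obtain ⟨C, hC⟩ := hc.exists_isCompl (Z.comap φ)
  have hbot : C = ⊥ := by
    by_contra hne
    haveI : Finite C := inferInstance
    obtain ⟨p, hp, hpd⟩ := Nat.exists_prime_and_dvd (fun h => hne (Subgroup.card_eq_one.1 h) : Nat.card C ≠ 1)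
    haveI : Fact p.Prime := ⟨hp⟩
    obtain ⟨x, hx⟩ := exists_prime_orderOf_dvd_card' (G := C) p hpd
    have h72 : p ∣ 72 := by
      have := hpd.trans (Subgroup.card_subgroup_dvd_card C)
      rwa [(Cfsg.Agent.S0282.result hF).1] at this
    have hxp : (φ x.1) ^ p = 1 := by
      rw [← map_pow, ← SubmonoidClass.coe_pow, ← hx, pow_orderOf_eq_one]; exact map_one φ
    have hmem : φ x.1 ∈ Z := by
      have hp23 : p = 2 ∨ p = 3 := by
        rcases (Nat.Prime.dvd_mul hp).1 (show p ∣ 2 ^ 3 * 3 ^ 2 by simpa using h72) with h | h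
        · exact Or.inl ((Nat.prime_dvd_prime_iff_eq hp Nat.prime_two).1 (hp.dvd_of_dvd_pow h))
        · exact Or.inr ((Nat.prime_dvd_prime_iff_eq hp Nat.prime_three).1 (hp.dvd_of_dvd_pow h))
      rcases hp23 with rfl | rfl
      · rcases (q8_facts _).1 hxp with h | h <;> rw [h]
        · exact one_mem Z
        · exact Subgroup.mem_zpowers _
      · rw [(q8_facts _).2 hxp]; exact one_mem Z
    have h1 : x.1 = 1 := (Subgroup.mem_bot).1 (hC.disjoint.le_bot ⟨hmem, x.2⟩)
    rw [show x = 1 from Subtype.ext h1, orderOf_one] at hx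
    exact hp.ne_one hx.symm
  have htop : Z.comap φ = ⊤ := by
    rw [← hC.sup_eq_top, hbot, sup_bot_eq]
  refine hZ (eq_top_iff.2 fun y _ => ?_)
  obtain ⟨x, rfl⟩ := hφ y
  exact (htop ▸ Subgroup.mem_top x : x ∈ Z.comap φ)

end Cfsg.Agent.S5908
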