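import Cfsg.Statements.S5909
import Cfsg.Agent.Lib.Perm.PartitionMax

set_option autoImplicit false
open Cfsg

namespace Cfsg.Agent.S5909

/-- Let Ω be a finite set whose size is not 8, and f : Ω → Fin b a labelling with b ≥ 2 whose fibres all have the same size a ≥ 2 (a partition into b blocks of size a). Then the even permutations preserving the partition — the intersection of the imprimitive wreath product S_a ≀ S_b with the alternating group — form a maximal subgroup of the alternating group on Ω. -/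
theorem result {Ω : Type*} [Fintype Ω] [DecidableEq Ω] (h8 : Fintype.card Ω ≠ 8) (a b : ℕ) (ha : 2 ≤ a) (hb : 2 ≤ b)
    (f : Ω → Fin b) (hf : ∀ i : Fin b, Nat.card {x : Ω // f x = i} = a) :
    IsCoatom ((Subgroup.closure {g : Equiv.Perm Ω | ∀ x y : Ω, f x = f y ↔ f (g x) = f (g y)} ⊓ alternatingGroup Ω).subgroupOf (alternatingGroup Ω)) := by
  open CfsgLib.Perm.PartitionMax in
  set P := Subgroup.closure {g : Equiv.Perm Ω | ∀ x y : Ω, f x = f y ↔ f (g x) = f (g y)} with hP
  constructor
  · intro htop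
    obtain ⟨x, y, z, hxy, hxz, hyz⟩ : ∃ x y z : Ω, f x = f y ∧ f x ≠ f z ∧ x ≠ y := by
      obtain ⟨x, hx⟩ := surjective f hf ha ⟨0, by omega⟩
      obtain ⟨y, hy, hyf⟩ := exists_mate f hf ha x
      obtain ⟨z, z', -, -, hz⟩ := exists_other f hf ha {f x} (by simp; omega)
      exact ⟨x, y, z, hyf.symm, fun e => hz (by simp [e]), hy.symm⟩
    have hxz' : x ≠ z := fun e => hxz (by rw [e])
    have hyz' : y ≠ z := fun e => hxz (by rw [← e, hxy])
    let c : Equiv.Perm Ω := Equiv.swap y z * Equiv.swap y x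
    have hc : c ∈ alternatingGroup Ω :=
      Equiv.Perm.mem_alternatingGroup.2 (sign_swap_mul_swap hyz' hyz.symm)
    have hmem : (⟨c, hc⟩ : alternatingGroup Ω) ∈ (P ⊓ alternatingGroup Ω).subgroupOf (alternatingGroup Ω) := by
      rw [htop]; exact Subgroup.mem_top _
    have h := pres_of_mem_closure f (hP ▸ (Subgroup.mem_subgroupOf.1 hmem).1)
    have h2 := (h x y).1 hxy
    simp only [c, Equiv.Perm.mul_apply, Equiv.swap_apply_right, Equiv.swap_apply_left] at h2
    rw [Equiv.swap_apply_of_ne_of_ne hyz hxz'] at h2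
    exact hxz h2.symm
  · intro L hL
    obtain ⟨⟨g, hgA⟩, hgL, hg⟩ := SetLike.exists_of_lt hL
    refine Subgroup.subgroupOf_eq_top.2 ?_ |>.symm.trans (Subgroup.comap_map_eq_self_of_injective
      (alternatingGroup Ω).subtype_injective L) |>.symm
    refine alternating_le (a := a) f hf (K := L.map (alternatingGroup Ω).subtype) (fun k hk hs => ?_) ha hb h8
      ⟨⟨g, hgA⟩, hgL, rfl⟩ (Equiv.Perm.mem_alternatingGroup.1 hgA) (fun hp => hg ?_)
    · exact ⟨⟨k, Equiv.Perm.mem_alternatingGroup.2 hs⟩, hL.le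
        ⟨Subgroup.subset_closure hk, Equiv.Perm.mem_alternatingGroup.2 hs⟩, rfl⟩
    · exact ⟨Subgroup.subset_closure hp, hgA⟩

end Cfsg.Agent.S5909
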