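import Cfsg.Statements.S5910
import Mathlib.GroupTheory.SpecificGroups.Alternating
import Mathlib.Data.Fintype.Perm

set_option autoImplicit false
open Cfsg

namespace Cfsg.Agent.S5910

/-- the points -/
abbrev P8 := Fin 4 × Fin 2

/-- the affine ternary operation -/
def op (x y z : P8) : P8 := (x.1 ^^^ y.1 ^^^ z.1, x.2 + y.2 + z.2)

/-- a permutation of the pairs with translations inside them -/
def mk (σ : Equiv.Perm (Fin 4)) (c : Fin 4 → Fin 2) : Equiv.Perm P8 :=
  Equiv.prodShear σ fun i => Equiv.addRight (c i)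

theorem sign_mk : ∀ σ : Equiv.Perm (Fin 4), ∀ c : Fin 4 → Fin 2, Equiv.Perm.sign (mk σ c) = 1 →
    c 0 + c 1 + c 2 + c 3 = 0 := by decide +kernel

theorem perm4 : ∀ σ : Equiv.Perm (Fin 4), ∀ i j k, σ (i ^^^ j ^^^ k) = σ i ^^^ σ j ^^^ σ k := by decide +kernel

theorem trans4 : ∀ c : Fin 4 → Fin 2, c 0 + c 1 + c 2 + c 3 = 0 → ∀ i j k, c (i ^^^ j ^^^ k) = c i + c j + c k := by
  decide +kernel

theorem mk_op (σ : Equiv.Perm (Fin 4)) (c : Fin 4 → Fin 2) (h : Equiv.Perm.sign (mk σ c) = 1) (x y z : P8) :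
    mk σ c (op x y z) = op (mk σ c x) (mk σ c y) (mk σ c z) := by
  show ((σ (x.1 ^^^ y.1 ^^^ z.1), x.2 + y.2 + z.2 + c (x.1 ^^^ y.1 ^^^ z.1)) : P8) =
    (σ x.1 ^^^ σ y.1 ^^^ σ z.1, (x.2 + c x.1) + (y.2 + c y.1) + (z.2 + c z.1))
  rw [perm4, trans4 c (sign_mk σ c h)]
  congr 1
  ac_rfl

theorem fin2 : ∀ τ : Equiv.Perm (Fin 2), ∀ b, τ b = b + τ 0 := by decide +kernel

theorem exists_mk (g : Equiv.Perm P8) (hg : ∀ x y : P8, x.1 = y.1 ↔ (g x).1 = (g y).1) :
    ∃ σ c, g = mk σ c := by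
  have hσ : Function.Bijective (fun i => (g (i, 0)).1) :=
    (Finite.injective_iff_bijective).1 fun i j h => (hg (i, 0) (j, 0)).2 h
  refine ⟨Equiv.ofBijective _ hσ, fun i => (g (i, 0)).2, Equiv.ext fun x => ?_⟩
  obtain ⟨i, b⟩ := x
  have h1 : (g (i, b)).1 = (g (i, 0)).1 := (hg (i, b) (i, 0)).1 rfl
  have hτ : Function.Bijective (fun b => (g (i, b)).2) :=
    (Finite.injective_iff_bijective).1 fun a b h =>
      congrArg Prod.snd (g.injective (Prod.ext ((hg (i, a) (i, b)).1 rfl) h))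
  exact Prod.ext h1 (fin2 (Equiv.ofBijective _ hτ) b)

/-- the witness, moving a pair -/
def wit : Equiv.Perm P8 := Equiv.swap (0, 1) (1, 1) * Equiv.swap (2, 1) (3, 1)

theorem wit_op : ∀ x y z, wit (op x y z) = op (wit x) (wit y) (wit z) := by decide +kernel

/-- the three-cycle -/
def cyc : Equiv.Perm P8 := Equiv.swap (0, 0) (1, 0) * Equiv.swap (1, 0) (2, 0)

theorem cyc_op : ∃ x y z, cyc (op x y z) ≠ op (cyc x) (cyc y) (cyc z) := by decide +kernel

theorem signs : Equiv.Perm.sign wit = 1 ∧ Equiv.Perm.sign cyc = 1 := by decide +kernel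

/-- Let Ω be a set with 8 elements and f : Ω → Fin 4 a labelling whose four fibres all have size 2 (a partition of the 8 points into 4 pairs). Then the group of even permutations preserving this partition, (S₂ ≀ S₄) ∩ A₈, is not a maximal subgroup of the alternating group A₈ (it lies in a subgroup isomorphic to the affine group AGL₃(2)). -/
theorem result {Ω : Type*} [Fintype Ω] [DecidableEq Ω] (h8 : Fintype.card Ω = 8)
    (f : Ω → Fin 4) (hf : ∀ i : Fin 4, Nat.card {x : Ω // f x = i} = 2) :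
    ¬ IsCoatom ((Subgroup.closure {g : Equiv.Perm Ω | ∀ x y : Ω, f x = f y ↔ f (g x) = f (g y)} ⊓ alternatingGroup Ω).subgroupOf (alternatingGroup Ω)) := by
  classical
  have hfib : ∀ i, Nonempty ({x : Ω // f x = i} ≃ Fin 2) := fun i =>
    ⟨Finite.equivFinOfCardEq (hf i)⟩
  let e : Ω ≃ P8 := (Equiv.sigmaFiberEquiv f).symm.trans
    ((Equiv.sigmaCongrRight fun i => (hfib i).some).trans (Equiv.sigmaEquivProd _ _))
  have hfe : ∀ x, (e x).1 = f x := fun x => rfl
  set A := alternatingGroup Ω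
  let S : Subgroup (Equiv.Perm Ω) :=
    { carrier := {g | ∀ x y : Ω, f x = f y ↔ f (g x) = f (g y)}
      one_mem' := fun x y => Iff.rfl
      mul_mem' := fun {a b} ha hb x y => (hb x y).trans (ha (b x) (b y))
      inv_mem' := fun {a} ha x y => by
        have h := ha (a⁻¹ x) (a⁻¹ y)
        have e : ∀ w, a (a⁻¹ w) = w := a.apply_symm_apply
        rw [e, e] at h
        exact h.symm }
  rw [show Subgroup.closure {g : Equiv.Perm Ω | ∀ x y : Ω, f x = f y ↔ f (g x) = f (g y)} = S from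
    Subgroup.closure_eq S]
  let K : Subgroup (Equiv.Perm Ω) :=
    { carrier := {g | ∀ x y z, e (g (e.symm (op x y z))) = op (e (g (e.symm x))) (e (g (e.symm y))) (e (g (e.symm z)))}
      one_mem' := fun x y z => by simp
      mul_mem' := fun {a b} ha hb x y z => by
        have := ha (e (b (e.symm x))) (e (b (e.symm y))) (e (b (e.symm z)))
        rw [← hb, e.symm_apply_apply, e.symm_apply_apply, e.symm_apply_apply, e.symm_apply_apply] at this
        exact this
      inv_mem' := fun {a} ha x y z => by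
        have h := ha (e (a⁻¹ (e.symm x))) (e (a⁻¹ (e.symm y))) (e (a⁻¹ (e.symm z)))
        have ea : ∀ w, a (a⁻¹ w) = w := a.apply_symm_apply
        have ea' : ∀ w, a⁻¹ (a w) = w := a.symm_apply_apply
        simp only [e.symm_apply_apply, ea, e.apply_symm_apply] at h
        rw [← h, e.symm_apply_apply, ea', e.apply_symm_apply] }
  have hsign : ∀ g : Equiv.Perm P8, Equiv.Perm.sign (e.symm.permCongr g) = Equiv.Perm.sign g :=
    fun g => Equiv.Perm.sign_permCongr _ g
  have hSK : S ⊓ A ≤ K ⊓ A := by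
    refine le_inf (fun g hg => ?_) inf_le_right
    obtain ⟨σ, c, hgc⟩ := exists_mk (e.permCongr g) fun x y => by
      rw [Equiv.permCongr_apply, Equiv.permCongr_apply, hfe, hfe, ← hg.1,
        ← hfe, ← hfe, e.apply_symm_apply, e.apply_symm_apply]
    have hev : Equiv.Perm.sign (mk σ c) = 1 := by
      rw [← hgc, Equiv.Perm.sign_permCongr]; exact Equiv.Perm.mem_alternatingGroup.1 hg.2
    intro x y z
    have h : ∀ w, e (g (e.symm w)) = mk σ c w := fun w => by rw [← hgc, Equiv.permCongr_apply]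
    rw [h, h, h, h]
    exact mk_op σ c hev x y z
  intro hco
  have hw : ∀ g : Equiv.Perm P8, ∀ w, e (e.symm.permCongr g (e.symm w)) = g w := fun g w => by
    simp [Equiv.permCongr_apply]
  have hwit : e.symm.permCongr wit ∈ K ⊓ A := by
    refine ⟨fun x y z => ?_, Equiv.Perm.mem_alternatingGroup.2 ((hsign wit).trans signs.1)⟩
    rw [hw, hw, hw, hw]; exact wit_op x y z
  have hlt : (S ⊓ A).subgroupOf A < (K ⊓ A).subgroupOf A := by
    refine lt_of_le_of_ne (fun g hg => hSK hg) fun h => ?_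
    have : (⟨_, hwit.2⟩ : A) ∈ (S ⊓ A).subgroupOf A := h ▸ hwit
    have h1 := (this.1 (e.symm (0, 0)) (e.symm (0, 1))).1 (by rw [← hfe, ← hfe]; simp)
    rw [← hfe, ← hfe] at h1
    rw [Subgroup.subtype_apply, hw, hw] at h1
    revert h1; decide +kernel
  have hcyc : e.symm.permCongr cyc ∈ A := Equiv.Perm.mem_alternatingGroup.2 ((hsign cyc).trans signs.2)
  have : (⟨_, hcyc⟩ : A) ∈ (K ⊓ A).subgroupOf A := hco.2 _ hlt ▸ Subgroup.mem_top _
  obtain ⟨x, y, z, hxyz⟩ := cyc_op
  have h1 := this.1 x y z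
  rw [Subgroup.subtype_apply, hw, hw, hw, hw] at h1
  exact hxyz h1

end Cfsg.Agent.S5910
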