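import Cfsg.Statements.S5911
import Cfsg.Agent.S5944
import Cfsg.Agent.S2119

set_option autoImplicit false
open Cfsg

namespace Cfsg.Agent.S5911

set_option maxRecDepth 100000 in
/-- The conjugacy classes of size at most five in the symmetric group of degree four. -/
theorem class_facts : ∀ y : Equiv.Perm (Fin 4), y ≠ 1 →
    (Finset.univ.image fun c => c * y * c⁻¹).card ≤ 5 →
    (insert 1 (Finset.univ.image fun c => c * y * c⁻¹)).card = 4 ∧
    ∀ w : Equiv.Perm (Fin 4), w ≠ 1 → (Finset.univ.image fun c => c * w * c⁻¹).card ≤ 5 →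
      w ∈ Finset.univ.image fun c => c * y * c⁻¹ := by
  decide +kernel

/-- Let Ω be a finite set whose size n is not 6. Then every subgroup of the symmetric group on Ω of index n is the stabilizer of a point. -/
theorem result {Ω : Type*} [Fintype Ω] [DecidableEq Ω] (h6 : Fintype.card Ω ≠ 6)
    (H : Subgroup (Equiv.Perm Ω)) (hH : H.index = Fintype.card Ω) :
    ∃ x : Ω, H = MulAction.stabilizer (Equiv.Perm Ω) x := by
  classical
  set n := Fintype.card Ω with hn
  have h0 : H.index ≠ 0 := Subgroup.index_ne_zero_of_finite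
  obtain ⟨x₀⟩ : Nonempty Ω := Fintype.card_pos_iff.1 (by omega)
  rcases Nat.lt_or_ge n 4 with hsmall | h4
  · rcases (show n = 1 ∨ n = 2 ∨ n = 3 by omega) with h | h | h
    · have : Subsingleton Ω := Fintype.card_le_one_iff_subsingleton.1 h.le
      exact ⟨x₀, Subsingleton.elim _ _⟩
    · refine ⟨x₀, ?_⟩
      have hc := H.card_mul_index
      rw [hH, h, Nat.card_perm, Nat.card_eq_fintype_card (α := Ω), ← hn, h] at hc
      have hbot : H = ⊥ := Subgroup.card_eq_one.1 (by simpa [Nat.factorial] using hc)
      rw [hbot, eq_comm, Subgroup.eq_bot_iff_forall]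
      intro g hg
      have hg' : g x₀ = x₀ := hg
      refine Equiv.ext fun y => ?_
      by_contra hy
      rw [Equiv.Perm.one_apply] at hy
      have h3 : ({x₀, y, g y} : Finset Ω).card ≤ 2 := (Finset.card_le_univ _).trans (le_of_eq h)
      rw [Finset.card_eq_three.2 ⟨x₀, y, g y, ?_, ?_, Ne.symm hy, rfl⟩] at h3
      · omega
      · intro e; exact hy (by rw [← e, hg'])
      · intro e
        rw [← hg'] at e
        exact hy (by rw [← g.injective e, hg'])
    · have hc := H.card_mul_index
      rw [hH, h, Nat.card_perm, Nat.card_eq_fintype_card (α := Ω), ← hn, h,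
        show Nat.factorial 3 = 6 from rfl] at hc
      have h2 : Nat.card H = 2 := by omega
      obtain ⟨⟨g, hg⟩, hgo⟩ := exists_prime_orderOf_dvd_card' (G := H) 2 (h2 ▸ dvd_rfl)
      rw [Subgroup.orderOf_mk] at hgo
      have hsupp : g.support.card = 2 := by
        have hpos : g.support.card ≠ 0 := fun e => by
          rw [Finset.card_eq_zero, Equiv.Perm.support_eq_empty_iff] at e
          rw [e, orderOf_one] at hgo; omega
        have hne1 : g.support.card ≠ 1 := Equiv.Perm.card_support_ne_one g
        have hle : g.support.card ≤ 3 := (Finset.card_le_univ _).trans (le_of_eq h)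
        rcases (show g.support.card = 2 ∨ g.support.card = 3 by omega) with e | e
        · exact e
        · have h3 : g.IsThreeCycle := card_support_eq_three_iff.1 e
          rw [h3.orderOf] at hgo; omega
      obtain ⟨x, hx⟩ : ∃ x, x ∉ g.support := by
        by_contra hall
        push Not at hall
        have := Finset.card_le_card (fun c _ => hall c : (Finset.univ : Finset Ω) ⊆ g.support)
        rw [Finset.card_univ] at this; omega
      refine ⟨x, Subgroup.eq_of_le_of_card_ge (fun y hy => ?_) ?_⟩
      · show y x = x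
        have hz : Subgroup.zpowers g = H := Subgroup.eq_of_le_of_card_ge
          (Subgroup.zpowers_le.2 hg) (by rw [Nat.card_zpowers, hgo, h2])
        rw [← hz] at hy
        exact Equiv.Perm.notMem_support.1 fun hc' => hx (Equiv.Perm.support_zpow_le g _ (hy.choose_spec ▸ hc'))
      · have hs := (MulAction.stabilizer (Equiv.Perm Ω) x).card_mul_index
        rw [MulAction.index_stabilizer_of_transitive, Nat.card_perm, Nat.card_eq_fintype_card (α := Ω),
          ← hn, h, show Nat.factorial 3 = 6 from rfl] at hs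
        omega
  -- the general case
  have hker : (MulAction.toPermHom (Equiv.Perm Ω) (Equiv.Perm Ω ⧸ H)).ker = ⊥ := by
    set N := (MulAction.toPermHom (Equiv.Perm Ω) (Equiv.Perm Ω ⧸ H)).ker with hN
    have hNn : N.Normal := MonoidHom.normal_ker _
    have hNH : N ≤ H := by
      intro x hx
      have := congrArg (fun e : Equiv.Perm (Equiv.Perm Ω ⧸ H) => e ((1 : Equiv.Perm Ω) : _ ⧸ H))
        (MonoidHom.mem_ker.1 hx)
      simpa [QuotientGroup.eq, inv_mem_iff] using this
    rcases Nat.lt_or_ge n 5 with h5 | h5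
    · have hn4 : n = 4 := by omega
      have hc := H.card_mul_index
      rw [hH, hn4, Nat.card_perm, Nat.card_eq_fintype_card (α := Ω), ← hn, hn4,
        show Nat.factorial 4 = 24 from rfl] at hc
      have h6 : Nat.card H = 6 := by omega
      have hd : Nat.card N ∣ 6 := h6 ▸ Subgroup.card_dvd_of_le hNH
      let T : Equiv.Perm (Fin 4) ≃* Equiv.Perm Ω :=
        ((Fintype.equivFinOfCardEq (hn.symm.trans hn4)).symm).permCongrHom
      let N' : Subgroup (Equiv.Perm (Fin 4)) := N.comap T.toMonoidHom
      have hN'n : N'.Normal := hNn.comap _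
      have hcard : Nat.card N' = Nat.card N :=
        Nat.card_congr (T.toEquiv.subtypeEquiv fun a => Iff.rfl)
      by_contra hne
      obtain ⟨y, hy, hy1⟩ : ∃ y ∈ N', y ≠ 1 := by
        by_contra hno
        push Not at hno
        refine hne ((Subgroup.eq_bot_iff_forall _).2 fun z hz => ?_)
        have := hno (T.symm z) (show T (T.symm z) ∈ N by rwa [T.apply_symm_apply])
        rw [← T.apply_symm_apply z, this, map_one]
      let cl : Equiv.Perm (Fin 4) → Finset (Equiv.Perm (Fin 4)) := fun z =>
        Finset.univ.image fun c => c * z * c⁻¹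
      have hclN : ∀ z ∈ N', ∀ w ∈ cl z, w ∈ N' := fun z hz w hw => by
        obtain ⟨c, -, rfl⟩ := Finset.mem_image.1 hw
        exact hN'n.conj_mem z hz c
      have hle : Nat.card N' ≤ 6 := hcard ▸ Nat.le_of_dvd (by omega) hd
      have h1N : (1 : Equiv.Perm (Fin 4)) ∈ N' := one_mem _
      have hsmall : ∀ z ∈ N', z ≠ 1 → (cl z).card ≤ 5 := fun z hz hz1 => by
        have h7 : insert 1 (cl z) ⊆ Finset.univ.filter (· ∈ N') := by
          intro w hw
          rcases Finset.mem_insert.1 hw with rfl | hw
          · simpa using h1N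
          · simpa using hclN z hz w hw
        have h8 := Finset.card_le_card h7
        rw [← Fintype.card_subtype, ← Nat.card_eq_fintype_card, Finset.card_insert_of_notMem] at h8
        · have : Nat.card {w // w ∈ N'} = Nat.card N' := rfl
          omega
        · intro hmem
          obtain ⟨c, -, hc1⟩ := Finset.mem_image.1 hmem
          exact hz1 (conj_eq_one_iff.1 hc1)
      have hdec := class_facts y hy1 (hsmall y hy hy1)
      have heq : Finset.univ.filter (· ∈ N') = insert 1 (cl y) := by
        ext w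
        constructor
        · intro hw
          rw [Finset.mem_filter] at hw
          by_cases hw1 : w = 1
          · exact Finset.mem_insert.2 (Or.inl hw1)
          · exact Finset.mem_insert_of_mem (hdec.2 w hw1 (hsmall w hw.2 hw1))
        · intro hw
          rcases Finset.mem_insert.1 hw with rfl | hw
          · simpa using h1N
          · simpa using hclN y hy w hw
      have h9 := congrArg Finset.card heq
      rw [← Fintype.card_subtype, ← Nat.card_eq_fintype_card, hdec.1] at h9
      have h10 : Nat.card N = 4 := hcard ▸ h9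
      rw [h10] at hd
      omega
    · by_contra hne
      have := alternatingGroup.isSimpleGroup (α := Ω) (by rw [Nat.card_eq_fintype_card]; exact h5)
      rcases (hNn.subgroupOf (alternatingGroup Ω)).eq_bot_or_eq_top with h | h
      · refine hne ((Subgroup.eq_bot_iff_forall _).2 fun x hx => ?_)
        by_contra hx1
        refine hx1 (S5944.eq_one_of_comm_alternating h4 x fun a ha => ?_)
        have h3 : a * x * a⁻¹ * x⁻¹ ∈ N := mul_mem (hNn.conj_mem x hx a) (inv_mem hx)
        have h4' : a * x * a⁻¹ * x⁻¹ ∈ alternatingGroup Ω := by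
          rw [show a * x * a⁻¹ * x⁻¹ = a * (x * a⁻¹ * x⁻¹) by group]
          exact mul_mem ha ((alternatingGroup.normal (α := Ω)).conj_mem _ (inv_mem ha) x)
        have h6' : (⟨_, h4'⟩ : alternatingGroup Ω) ∈ N.subgroupOf (alternatingGroup Ω) := h3
        rw [h, Subgroup.mem_bot, Subtype.ext_iff] at h6'
        rwa [Subgroup.coe_one, mul_inv_eq_one, mul_inv_eq_iff_eq_mul] at h6'
      · have hAle : alternatingGroup Ω ≤ H := fun x hx =>
          hNH (show (⟨x, hx⟩ : alternatingGroup Ω) ∈ N.subgroupOf _ from h ▸ Subgroup.mem_top _)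
        have hnt : Nontrivial Ω := Fintype.one_lt_card_iff_nontrivial.1 (by omega)
        have h7 := Subgroup.index_dvd_of_le hAle
        rw [alternatingGroup.index_eq_two, hH] at h7
        have := Nat.le_of_dvd (by omega) h7
        omega
  obtain ⟨e⟩ : Nonempty ((Equiv.Perm Ω ⧸ H) ≃ Ω) := ⟨(Nat.equivFinOfCardPos (by
    rw [← Subgroup.index_eq_card]; exact h0)).trans ((finCongr (by
    rw [← Subgroup.index_eq_card, hH])).trans (Fintype.equivFin Ω).symm)⟩
  let φ : Equiv.Perm Ω →* Equiv.Perm Ω := e.permCongrHom.toMonoidHom.comp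
    (MulAction.toPermHom (Equiv.Perm Ω) (Equiv.Perm Ω ⧸ H))
  have hφinj : Function.Injective φ :=
    e.permCongrHom.injective.comp ((MonoidHom.ker_eq_bot_iff _).1 hker)
  let ψ : Equiv.Perm Ω ≃* Equiv.Perm Ω :=
    MulEquiv.ofBijective φ (Finite.injective_iff_bijective.1 hφinj)
  have hψH : ∀ g, g ∈ H ↔ ψ g (e ((1 : Equiv.Perm Ω) : _ ⧸ H)) = e ((1 : Equiv.Perm Ω) : _ ⧸ H) := fun g => by
    show _ ↔ e (g • e.symm (e ((1 : Equiv.Perm Ω) : _ ⧸ H))) = _
    rw [e.symm_apply_apply, e.apply_eq_iff_eq, MulAction.Quotient.smul_coe, QuotientGroup.eq]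
    simp [inv_mem_iff]
  -- the automorphism is inner
  obtain ⟨c, hc⟩ : ∃ c : Equiv.Perm Ω, ∀ g, ψ g = c * g * c⁻¹ := by
    let f : Fin n ≃ Ω := (Fintype.equivFin Ω).symm
    let T : Equiv.Perm (Fin n) ≃* Equiv.Perm Ω := f.permCongrHom
    let θ : Equiv.Perm (Fin n) ≃* Equiv.Perm (Fin n) := T.trans (ψ.trans T.symm)
    suffices ∃ c : Equiv.Perm (Fin n), ∀ g, θ g = c * g * c⁻¹ by
      obtain ⟨c, hc⟩ := this
      refine ⟨T c, fun g => ?_⟩
      obtain ⟨g, rfl⟩ := T.surjective g
      rw [← T.apply_symm_apply (ψ (T g)), ← map_inv, ← map_mul, ← map_mul, ← hc]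
      rfl
    have hnt : Nontrivial (Fin n) := Fin.nontrivial_iff_two_le.2 (by omega)
    have hAθ : (alternatingGroup (Fin n)).map θ.toMonoidHom = alternatingGroup (Fin n) := by
      refine Equiv.Perm.eq_alternatingGroup_of_index_eq_two ?_
      exact (Subgroup.index_map_equiv _ θ).trans alternatingGroup.index_eq_two
    let θA : MulAut ↥(alternatingGroup (Fin n)) :=
      (θ.subgroupMap (alternatingGroup (Fin n))).trans (MulEquiv.subgroupCongr hAθ)
    obtain ⟨c, hc⟩ := (S2119.result n h4 h6).2 θA
    refine ⟨c, fun g => ?_⟩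
    have hA : ∀ a ∈ alternatingGroup (Fin n), θ a = c * a * c⁻¹ := fun a ha =>
      (congrArg (fun f : MulAut ↥(alternatingGroup (Fin n)) => ((f ⟨a, ha⟩ : alternatingGroup (Fin n)) : Equiv.Perm (Fin n))) hc).symm.trans
        (MulAut.conjNormal_apply _ _)
    have key : (c * g * c⁻¹)⁻¹ * θ g = 1 := by
      refine S5944.eq_one_of_comm_alternating (by rw [Fintype.card_fin]; exact h4) _ fun a ha => ?_
      obtain ⟨b, hb, rfl⟩ : ∃ b ∈ alternatingGroup (Fin n), θ b = a := by
        rw [← hAθ] at ha; exact ha
      have h2 : θ (g * b * g⁻¹) = c * (g * b * g⁻¹) * c⁻¹ :=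
        hA _ ((alternatingGroup.normal (α := Fin n)).conj_mem b hb g)
      rw [map_mul, map_mul, map_inv, mul_inv_eq_iff_eq_mul] at h2
      rw [mul_assoc _ (θ g) (θ b), h2, hA b hb]
      group
    rw [inv_mul_eq_one] at key
    exact key.symm
  refine ⟨c⁻¹ (e ((1 : Equiv.Perm Ω) : _ ⧸ H)), ?_⟩
  ext g
  rw [hψH, hc, MulAction.mem_stabilizer_iff, Equiv.Perm.smul_def, Equiv.Perm.mul_apply,
    Equiv.Perm.mul_apply, Equiv.Perm.inv_def, ← Equiv.eq_symm_apply]

end Cfsg.Agent.S5911
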