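import Cfsg.Statements.S5913
-- import your own Cfsg.Agent.* helpers here

set_option autoImplicit false
open Cfsg

namespace Cfsg.Agent.S5913

/-- Let S be a non-abelian simple group and n a natural number. Every normal subgroup N of the direct power S^n (functions Fin n → S) is a subproduct: there is a set T of coordinates such that N consists exactly of the elements whose coordinates outside T are trivial. In particular the minimal normal subgroups of S^n are its n factors. -/
theorem result {S : Type*} [Group S] [IsSimpleGroup S] (hS : ¬ IsMulCommutative S) (n : ℕ)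
    (N : Subgroup (Fin n → S)) [N.Normal] :
    ∃ T : Finset (Fin n), ∀ x : Fin n → S, x ∈ N ↔ ∀ i, i ∉ T → x i = 1 := by
  classical
  refine ⟨Finset.univ.filter fun i => ∃ y ∈ N, (y : Fin n → S) i ≠ 1, fun x => ⟨fun hx i hi => ?_, fun hx => ?_⟩⟩
  · by_contra hne
    exact hi (Finset.mem_filter.2 ⟨Finset.mem_univ _, x, hx, hne⟩)
  · have key : ∀ i, (∃ y ∈ N, (y : Fin n → S) i ≠ 1) → ∀ s : S, Pi.mulSingle i s ∈ N := by
      rintro i ⟨y, hy, hyi⟩
      set M : Subgroup S := N.comap (MonoidHom.mulSingle (fun _ => S) i) with hM
      have hMn : M.Normal := Subgroup.Normal.comap inferInstance _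
      rcases hMn.eq_bot_or_eq_top with h | h
      · exfalso
        refine hS ⟨⟨fun a b => ?_⟩⟩
        have hc : y i ∈ Subgroup.center S := Subgroup.mem_center_iff.2 fun s => by
          have h1 : Pi.mulSingle i s * y * (Pi.mulSingle i s)⁻¹ * y⁻¹ ∈ N :=
            mul_mem (‹N.Normal›.conj_mem y hy _) (inv_mem hy)
          have h2 : Pi.mulSingle i (s * y i * s⁻¹ * (y i)⁻¹) =
              Pi.mulSingle i s * y * (Pi.mulSingle i s)⁻¹ * y⁻¹ := by
            funext j
            by_cases hj : j = i
            · subst hj; simp
            · simp [hj]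
          rw [← h2] at h1
          have h3 : s * y i * s⁻¹ * (y i)⁻¹ ∈ M := h1
          rw [h, Subgroup.mem_bot, mul_inv_eq_one, mul_inv_eq_iff_eq_mul] at h3
          exact h3
        rcases (inferInstance : (Subgroup.center S).Normal).eq_bot_or_eq_top with hz | hz
        · rw [hz, Subgroup.mem_bot] at hc; exact absurd hc hyi
        · exact (Subgroup.mem_center_iff.1 (hz ▸ Subgroup.mem_top a) b).symm
      · exact fun s => show s ∈ M from h ▸ Subgroup.mem_top s
    refine Subgroup.pi_mem_of_mulSingle_mem x fun i => ?_
    by_cases hi : ∃ y ∈ N, (y : Fin n → S) i ≠ 1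
    · exact key i hi _
    · rw [hx i (by simp only [Finset.mem_filter, Finset.mem_univ, true_and]; exact hi),
        Pi.mulSingle_one]
      exact one_mem _

end Cfsg.Agent.S5913
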