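import Cfsg.Statements.S5914
import Cfsg.Agent.S0721

set_option autoImplicit false
open Cfsg

namespace Cfsg.Agent.S5914

theorem pow_charSimple {S : Type*} [Group S] [hS : IsSimpleGroup S] {n : ℕ} (H : Subgroup (Fin n → S))
    (hH : H.Characteristic) : H = ⊥ ∨ H = ⊤ := by
  classical
  by_cases hb : H = ⊥
  · exact Or.inl hb
  right
  have hmap : ∀ (φ : (Fin n → S) ≃* (Fin n → S)) x, x ∈ H → φ x ∈ H := fun φ x hx => by
    have h := Subgroup.characteristic_iff_le_comap.1 hH φ hx
    exact h
  have hN : H.Normal := inferInstance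
  -- some non-trivial single coordinate vector lies in `H`
  obtain ⟨i, s, hs, hsH⟩ : ∃ (i : Fin n) (s : S), s ≠ 1 ∧ Pi.mulSingle i s ∈ H := by
    obtain ⟨x, hx, hx1⟩ := H.ne_bot_iff_exists_ne_one.1 hb |> fun ⟨⟨x, hx⟩, h⟩ =>
      (⟨x, hx, fun e => h (Subtype.ext e)⟩ : ∃ x, x ∈ H ∧ x ≠ 1)
    obtain ⟨i, hi⟩ := Function.ne_iff.1 hx1
    by_cases hab : ∀ a b : S, a * b = b * a
    · letI : CommGroup S := { mul_comm := hab }
      have htop : Subgroup.zpowers (x i) = ⊤ :=
        (IsSimpleGroup.eq_bot_or_eq_top_of_normal (Subgroup.zpowers (x i))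
          ⟨fun a ha g => by rwa [hab g a, mul_assoc, mul_inv_cancel, mul_one]⟩).resolve_left
          fun e => hi (Subgroup.zpowers_eq_bot.1 e)
      have hk : ∀ j, ∃ k : ℤ, x i ^ k = x j := fun j => Subgroup.mem_zpowers_iff.1 (htop ▸ Subgroup.mem_top (x j))
      choose k hk using hk
      let e : Fin n → ℤ := fun j => if j = i then 0 else k j
      have hei : e i = 0 := if_pos rfl
      let φ : (Fin n → S) ≃* (Fin n → S) :=
        { toFun := fun z j => z j * z i ^ (-e j)
          invFun := fun z j => z j * z i ^ e j
          left_inv := fun z => funext fun j => by simp [hei]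
          right_inv := fun z => funext fun j => by simp [hei]
          map_mul' := fun a b => funext fun j => by
            simp only [Pi.mul_apply, mul_zpow]; exact mul_mul_mul_comm _ _ _ _ }
      refine ⟨i, x i, hi, ?_⟩
      have h := hmap φ x hx
      convert h using 1
      funext j
      show (Pi.mulSingle i (x i) : Fin n → S) j = x j * x i ^ (-e j)
      by_cases hj : j = i
      · subst hj; simp [hei]
      · rw [Pi.mulSingle_eq_of_ne hj, show e j = k j from if_neg hj, zpow_neg, hk, mul_inv_cancel]
    · have hz : Subgroup.center S = ⊥ :=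
        (IsSimpleGroup.eq_bot_or_eq_top_of_normal (Subgroup.center S) inferInstance).resolve_right fun h =>
          hab fun a b => (Subgroup.mem_center_iff.1 (h ▸ Subgroup.mem_top a : a ∈ Subgroup.center S) b).symm
      obtain ⟨y, hy⟩ : ∃ y, x i * y * (x i)⁻¹ * y⁻¹ ≠ 1 := by
        by_contra hno
        push Not at hno
        refine hi (Subgroup.mem_bot.1 (hz ▸ Subgroup.mem_center_iff.2 fun y => ?_ : x i ∈ (⊥ : Subgroup S)))
        have := hno y
        rw [mul_inv_eq_one, mul_inv_eq_iff_eq_mul] at this
        exact this.symm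
      refine ⟨i, _, hy, ?_⟩
      have h := mul_mem hx (hN.conj_mem _ (inv_mem hx) (Pi.mulSingle i y))
      convert h using 1
      funext j
      by_cases hj : j = i
      · subst hj; simp [mul_assoc]
      · simp [Pi.mulSingle_eq_of_ne hj]
  -- so a whole coordinate, hence all of them
  have hi : ∀ t : S, Pi.mulSingle i t ∈ H := by
    let K : Subgroup S := H.comap (MonoidHom.mulSingle (fun _ : Fin n => S) i)
    have hK : K = ⊤ := (IsSimpleGroup.eq_bot_or_eq_top_of_normal K (hN.comap _)).resolve_left
      fun e => hs (Subgroup.mem_bot.1 (e ▸ hsH : s ∈ (⊥ : Subgroup S)))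
    exact fun t => (hK ▸ Subgroup.mem_top t : t ∈ K)
  have hall : ∀ (j : Fin n) (t : S), Pi.mulSingle j t ∈ H := fun j t => by
    let φ : (Fin n → S) ≃* (Fin n → S) :=
      { toFun := fun z => z ∘ Equiv.swap i j
        invFun := fun z => z ∘ Equiv.swap i j
        left_inv := fun z => funext fun k => by simp
        right_inv := fun z => funext fun k => by simp
        map_mul' := fun a b => rfl }
    have h := hmap φ _ (hi t)
    convert h using 1
    funext k
    show (Pi.mulSingle j t : Fin n → S) k = (Pi.mulSingle i t : Fin n → S) (Equiv.swap i j k)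
    simp only [Pi.mulSingle_apply]
    exact if_congr ⟨fun hk => by rw [hk, Equiv.swap_apply_right],
      fun hk => by simpa using congrArg (Equiv.swap i j) hk⟩ rfl rfl
  rw [eq_top_iff]
  intro z _
  have : ∀ l : List (Fin n), ∀ z : Fin n → S, (∀ k, k ∉ l → z k = 1) → z ∈ H := by
    intro l
    induction l with
    | nil => intro z hz; rw [show z = 1 from funext fun k => hz k List.not_mem_nil]; exact one_mem H
    | cons a l ih =>
      intro z hz
      have h := mul_mem (hall a (z a)) (ih (Function.update z a 1) fun k hk => by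
        by_cases hka : k = a
        · subst hka; simp
        · rw [Function.update_of_ne hka]; exact hz k (by simp [hka, hk]))
      convert h using 1
      funext k
      by_cases hka : k = a
      · subst hka; simp
      · simp [Pi.mulSingle_eq_of_ne hka, Function.update_of_ne hka]
  exact this (List.finRange n) z fun k hk => absurd (List.mem_finRange k) hk

/-- A non-trivial finite group G is characteristically simple (its only characteristic subgroups are 1 and G) if and only if G is isomorphic to a direct power S^n (n ≥ 1) of some simple group S (possibly cyclic of prime order). -/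
theorem result {G : Type*} [Group G] [Finite G] [Nontrivial G] :
    (∀ H : Subgroup G, H.Characteristic → H = ⊥ ∨ H = ⊤) ↔
    ∃ (S : Type) (_ : Group S) (_ : IsSimpleGroup S) (n : ℕ), 1 ≤ n ∧ Nonempty (G ≃* (Fin n → S)) := by
  constructor
  · intro h
    let W := SemidirectProduct G (MulAut G) (MonoidHom.id _)
    haveI : Finite (MulAut G) := Finite.of_injective (fun e : MulAut G => (e : G → G)) DFunLike.coe_injective
    haveI : Finite W := Finite.of_injective (fun w : W => (w.left, w.right)) fun a b e =>
      SemidirectProduct.ext (congrArg Prod.fst e) (congrArg Prod.snd e)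
    let ι : G →* W := SemidirectProduct.inl
    have hne : ι.range ≠ ⊥ := fun e => by
      obtain ⟨g, hg⟩ := exists_ne (1 : G)
      exact hg (SemidirectProduct.inl_injective (Subgroup.mem_bot.1 (e ▸ ⟨g, rfl⟩ : ι g ∈ (⊥ : Subgroup W))
        |>.trans (map_one ι).symm))
    haveI : ι.range.Normal := by
      rw [show ι.range = (SemidirectProduct.rightHom : W →* MulAut G).ker from
        SemidirectProduct.range_inl_eq_ker_rightHom]
      infer_instance
    have hmin : ∀ M : Subgroup W, M.Normal → M ≤ ι.range → M = ⊥ ∨ M = ι.range := by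
      intro M hM hle
      have hc : (M.comap ι).Characteristic := Subgroup.characteristic_iff_le_comap.2 fun φ x hx => by
        show ι (φ x) ∈ M
        have := hM.conj_mem _ hx (SemidirectProduct.inr φ : W)
        rw [← map_inv, ← SemidirectProduct.inl_aut] at this
        exact this
      rcases h _ hc with e | e
      · left
        rw [Subgroup.eq_bot_iff_forall]
        intro m hm
        obtain ⟨g, rfl⟩ := hle hm
        rw [Subgroup.mem_bot.1 (e ▸ hm : g ∈ (⊥ : Subgroup G)), map_one]
      · right
        refine le_antisymm hle ?_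
        rintro _ ⟨g, rfl⟩
        exact (e ▸ Subgroup.mem_top g : g ∈ M.comap ι)
    obtain ⟨T, iT, m, hT, hm, ⟨ψ⟩⟩ := Cfsg.Agent.S0721.result ι.range hne hmin
    exact ⟨T, iT, hT, m, hm, ⟨(MonoidHom.ofInjective SemidirectProduct.inl_injective).trans ψ⟩⟩
  · rintro ⟨S, iS, hS, n, -, ⟨ψ⟩⟩ H hH
    have hc : (H.map ψ.toMonoidHom).Characteristic := Subgroup.characteristic_iff_le_comap.2 fun φ x hx => by
      obtain ⟨y, hy, rfl⟩ := hx
      exact ⟨(ψ.trans φ |>.trans ψ.symm) y, Subgroup.characteristic_iff_le_comap.1 hH _ hy, by simp⟩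
    rcases pow_charSimple _ hc with e | e
    · left; exact (Subgroup.map_eq_bot_iff_of_injective _ ψ.injective).1 e
    · right
      refine Subgroup.map_injective ψ.injective (e.trans ?_)
      rw [Subgroup.map_top_of_surjective _ ψ.surjective]

end Cfsg.Agent.S5914
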