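import Cfsg.Statements.S5938
import Cfsg.Agent.Lib.Geom.MaxExist
-- import your own Cfsg.Agent.* helpers here

set_option autoImplicit false
open Cfsg CfsgLib.Geom

namespace Cfsg.Agent.S5938

/-- Let p be a prime with p ≡ ±1 (mod 8) and F a field with p elements. Then PSL_2(F) has a maximal subgroup isomorphic to the symmetric group S_4. -/
theorem result {F : Type*} [Field F] [Fintype F] (p : ℕ) [Fact p.Prime] (hF : Fintype.card F = p) (hp : p % 8 = 1 ∨ p % 8 = 7) : ∃ H : Subgroup (Matrix.ProjectiveSpecialLinearGroup (Fin 2) F), IsCoatom H ∧ Nonempty (H ≃* Equiv.Perm (Fin 4)) := by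
  classical
  obtain ⟨E, _, _, f, hE, hQC⟩ := Moebius.exists_quadExt F
  have hp' : p.Prime := Fact.out
  have : CharP F p := charP_of_card_eq_prime hF
  have hodd : Odd (Fintype.card F) := Nat.odd_iff.2 (by rw [hF]; omega)
  have h7 : 7 ≤ p := by
    by_contra hlt
    interval_cases p <;> first | omega | exact absurd hp' (by norm_num)
  obtain ⟨H, ⟨i⟩⟩ := SL2Anti.exists_permFour_psl (F := F) (CfsgLib.Classical.two_ne_zero_of_odd hodd)
    (Moebius.isSquare_two_of_mod (by rw [hF]; omega))
  have e := (Moebius.mapEquiv H).symm.trans i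
  have h := Moebius.permFour_maxIn f p hE hQC h7 hF (Subgroup.map_le_range _ _) (hasAltFour_permFour e)
    (by rw [Nat.card_congr e.toEquiv, Nat.card_perm, Nat.card_fin]; rfl)
  refine ⟨H, ?_, ⟨i⟩⟩
  have := isCoatom_comap _ Matrix.ProjectiveSpecialLinearGroup.toPGL_injective h
  rwa [Subgroup.comap_map_eq_self_of_injective Matrix.ProjectiveSpecialLinearGroup.toPGL_injective] at this
end Cfsg.Agent.S5938
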