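import Cfsg.Statements.S5939
import Cfsg.Agent.Lib.Geom.MaxExist
-- import your own Cfsg.Agent.* helpers here

set_option autoImplicit false
open Cfsg CfsgLib.Geom

namespace Cfsg.Agent.S5939

/-- Let p be a prime and F a finite field of characteristic p such that either F has p elements and p ≡ ±1 (mod 10), or F has p² elements and p ≡ ±3 (mod 10). Then PSL_2(F) has a maximal subgroup isomorphic to the alternating group A_5. -/
theorem result {F : Type*} [Field F] [Fintype F] (p : ℕ) [Fact p.Prime] [CharP F p] (h : (Fintype.card F = p ∧ (p % 10 = 1 ∨ p % 10 = 9)) ∨ (Fintype.card F = p ^ 2 ∧ (p % 10 = 3 ∨ p % 10 = 7))) : ∃ H : Subgroup (Matrix.ProjectiveSpecialLinearGroup (Fin 2) F), IsCoatom H ∧ Nonempty (H ≃* alternatingGroup (Fin 5)) := by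
  classical
  obtain ⟨E, _, _, f, hE, hQC⟩ := Moebius.exists_quadExt F
  have hp : p.Prime := Fact.out
  have hodd : Odd (Fintype.card F) := by
    rcases h with ⟨h, h'⟩ | ⟨h, h'⟩ <;> rw [h]
    · exact hp.odd_of_ne_two (by omega)
    · exact (hp.odd_of_ne_two (by omega)).pow
  have h5 : 5 ∣ (Fintype.card F + 1) * (Fintype.card F * (Fintype.card F - 1)) := by
    rcases h with ⟨h, h'⟩ | ⟨h, h'⟩ <;> rw [h]
    · exact (Golden.five_dvd_iff hp (by omega) (by omega)).2 h'
    · refine dvd_mul_of_dvd_left ?_ _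
      rw [Nat.dvd_iff_mod_eq_zero, Nat.add_mod, Nat.pow_mod]
      rcases (show p % 5 = 3 ∨ p % 5 = 2 by omega) with e | e <;> rw [e]
  obtain ⟨φ, hφ⟩ := Golden.exists_golden h5
  obtain ⟨H, ⟨i⟩⟩ := Moebius.exists_altFive_psl hodd hφ
  have e := (Moebius.mapEquiv H).symm.trans i
  have h' := Moebius.altFive_maxIn f p hE hQC h (Subgroup.map_le_range _ _) (hasAltFour_altFive e)
    (by rw [Nat.card_congr e.toEquiv, nat_card_alternatingGroup, Nat.card_fin]; rfl)
  refine ⟨H, ?_, ⟨i⟩⟩
  have := isCoatom_comap _ Matrix.ProjectiveSpecialLinearGroup.toPGL_injective h'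
  rwa [Subgroup.comap_map_eq_self_of_injective Matrix.ProjectiveSpecialLinearGroup.toPGL_injective] at this
end Cfsg.Agent.S5939
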