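import Cfsg.Statements.S5941
import Cfsg.Agent.Lib.Geom.MaxSubfield
-- import your own Cfsg.Agent.* helpers here

set_option autoImplicit false
open Cfsg CfsgLib.Geom

namespace Cfsg.Agent.S5941

/-- Let K and F be finite fields of odd characteristic with #F = (#K)². Then PSL_2(F) has a maximal subgroup isomorphic to PGL_2(K). -/
theorem result {F K : Type*} [Field F] [Fintype F] [Field K] [Fintype K] (q : ℕ) (hK : Fintype.card K = q) (hF : Fintype.card F = q ^ 2) (hq : Odd q) : ∃ H : Subgroup (Matrix.ProjectiveSpecialLinearGroup (Fin 2) F), IsCoatom H ∧ Nonempty (H ≃* Matrix.ProjGenLinGroup (Fin 2) K) := by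
  classical
  have h2 : q ≠ 2 := fun e => by rw [e] at hq; exact Nat.not_odd_iff_even.2 even_two hq
  obtain ⟨L, H, hH, ⟨i⟩, ⟨e⟩, hL⟩ := Moebius.exists_coatom_subfield (F := F) (K := K) Nat.prime_two
    (by rw [hK, hF]) (by rwa [hK])
  refine ⟨H, hH, ?_⟩
  have hodd : Odd (Fintype.card F) := by rw [hF]; exact hq.pow
  have hle := Moebius.subfieldPGL_le_imL hodd hL even_two (by rw [hK, hF]) 1
  obtain ⟨j⟩ := Moebius.subfieldPGL_equiv L (1 : Matrix.ProjGenLinGroup (Fin 2) F)
  exact ⟨((e.trans (MulEquiv.subgroupCongr (inf_eq_left.2 hle))).trans j).trans (Moebius.pglCongr i.symm)⟩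
end Cfsg.Agent.S5941
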