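import Cfsg.Statements.S5942
import Cfsg.Agent.Lib.Geom.MaxSubfield
-- import your own Cfsg.Agent.* helpers here

set_option autoImplicit false
open Cfsg CfsgLib.Geom

namespace Cfsg.Agent.S5942

/-- Let K and F be finite fields of odd characteristic with #F = (#K)^r for an odd prime r. Then PSL_2(F) has a maximal subgroup isomorphic to PSL_2(K). -/
theorem result {F K : Type*} [Field F] [Fintype F] [Field K] [Fintype K] (q r : ℕ) (hK : Fintype.card K = q) (hF : Fintype.card F = q ^ r) (hq : Odd q) (hr : r.Prime) (hr2 : r ≠ 2) : ∃ H : Subgroup (Matrix.ProjectiveSpecialLinearGroup (Fin 2) F), IsCoatom H ∧ Nonempty (H ≃* Matrix.ProjectiveSpecialLinearGroup (Fin 2) K) := by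
  classical
  have h2 : q ≠ 2 := fun e => by rw [e] at hq; exact Nat.not_odd_iff_even.2 even_two hq
  obtain ⟨L, H, hH, ⟨i⟩, ⟨e⟩, hL⟩ := Moebius.exists_coatom_subfield (F := F) (K := K) hr
    (by rw [hK, hF]) (by rwa [hK])
  refine ⟨H, hH, ?_⟩
  have hr' : Odd r := hr.odd_of_ne_two hr2
  have h := Moebius.subfieldPGL_inf_imL hL (show Fintype.card K ^ r = Fintype.card F by rw [hK, hF]) (Or.inl hr') hr.ne_zero 1
  obtain ⟨j⟩ := Moebius.subfieldPSL_equiv L (1 : Matrix.ProjGenLinGroup (Fin 2) F)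
  exact ⟨((e.trans (MulEquiv.subgroupCongr h)).trans j).trans (Moebius.pslCongr i.symm)⟩
end Cfsg.Agent.S5942
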