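import Cfsg.Statements.S5945
import Cfsg.Agent.S5912

set_option autoImplicit false
open Cfsg

namespace Cfsg.Agent.S5945

open scoped Pointwise

/-- The stabiliser of a point in the symmetric group of degree six. -/
noncomputable def stabEquiv (x : Fin 6) :
    MulAction.stabilizer (Equiv.Perm (Fin 6)) x ≃* Equiv.Perm (Fin 5) := by
  classical
  have hc : Fintype.card {y : Fin 6 // y ≠ x} = 5 := by
    rw [Fintype.card_subtype_compl, Fintype.card_fin, Fintype.card_subtype_eq]
  let e : {y : Fin 6 // y ≠ x} ≃ Fin 5 := Fintype.equivFinOfCardEq hc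
  refine MulEquiv.trans ?_ e.permCongrHom
  let f : MulAction.stabilizer (Equiv.Perm (Fin 6)) x →* Equiv.Perm {y : Fin 6 // y ≠ x} :=
    { toFun := fun g => (g : Equiv.Perm (Fin 6)).subtypePerm fun y => by
        have hg : (g : Equiv.Perm (Fin 6)) x = x := g.2
        exact ⟨fun h he => h (by rw [he, hg]), fun h he => h ((g : Equiv.Perm (Fin 6)).injective (he.trans hg.symm))⟩
      map_one' := by ext; rfl
      map_mul' := fun g h => by ext; rfl }
  refine MulEquiv.ofBijective f ⟨fun g h hgh => Subtype.ext (Equiv.ext fun y => ?_), fun σ => ?_⟩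
  · by_cases hy : y = x
    · subst hy
      exact g.2.trans h.2.symm
    · exact congrArg Subtype.val (DFunLike.congr_fun hgh ⟨y, hy⟩)
  · refine ⟨⟨Equiv.Perm.ofSubtype σ, ?_⟩, ?_⟩
    · rw [MulAction.mem_stabilizer_iff, Equiv.Perm.smul_def]
      exact Equiv.Perm.ofSubtype_apply_of_not_mem σ (not_not.2 rfl)
    · ext ⟨y, hy⟩
      exact congrArg Fin.val (Equiv.Perm.ofSubtype_apply_of_mem σ hy)

/-- The symmetric group S_6 has exactly 12 subgroups of index 6; each of them is isomorphic to S_5, and at least one of them is not the stabilizer of any point. -/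
theorem result : Nat.card {H : Subgroup (Equiv.Perm (Fin 6)) // H.index = 6} = 12 ∧ (∀ H : Subgroup (Equiv.Perm (Fin 6)), H.index = 6 → Nonempty (H ≃* Equiv.Perm (Fin 5))) ∧ ∃ H : Subgroup (Equiv.Perm (Fin 6)), H.index = 6 ∧ ∀ a : Fin 6, H ≠ MulAction.stabilizer (Equiv.Perm (Fin 6)) a := by
  classical
  have h6 : Fintype.card (Fin 6) = 6 := Fintype.card_fin 6
  obtain ⟨H₂, h₂, t₂⟩ := S5912.exists_transitive h6
  have hne : ∀ a : Fin 6, H₂ ≠ MulAction.stabilizer (Equiv.Perm (Fin 6)) a := fun a e => by
    obtain ⟨b, hb⟩ := exists_ne a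
    obtain ⟨k, hk, hkb⟩ := t₂ a b
    rw [e, MulAction.mem_stabilizer_iff, Equiv.Perm.smul_def, hkb] at hk
    exact hb hk
  refine ⟨?_, fun H hH => ?_, ⟨H₂, h₂, hne⟩⟩
  · let C : Type := ↥(MulAction.orbit (ConjAct (Equiv.Perm (Fin 6))) H₂)
    have hmap : ∀ (g : Equiv.Perm (Fin 6)) (H : Subgroup (Equiv.Perm (Fin 6))),
        ConjAct.toConjAct g • H = H.map (MulAut.conj g).toMonoidHom := fun g H => rfl
    have hidx : ∀ H ∈ MulAction.orbit (ConjAct (Equiv.Perm (Fin 6))) H₂, H.index = 6 := by
      rintro _ ⟨g, rfl⟩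
      obtain ⟨g, rfl⟩ := ConjAct.toConjAct.surjective g
      show (ConjAct.toConjAct g • H₂).index = 6
      rw [hmap]
      exact (Subgroup.index_map_equiv H₂ (MulAut.conj g)).trans h₂
    have hC : Nat.card C = 6 := by
      rw [Nat.card_coe_set_eq, ← MulAction.index_stabilizer]
      have hN : MulAction.stabilizer (ConjAct (Equiv.Perm (Fin 6))) H₂ =
          (Subgroup.normalizer (H₂ : Set (Equiv.Perm (Fin 6)))).map
            (ConjAct.toConjAct : Equiv.Perm (Fin 6) ≃* ConjAct (Equiv.Perm (Fin 6))).toMonoidHom := by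
        ext g
        obtain ⟨g, rfl⟩ := ConjAct.toConjAct.surjective g
        rw [MulAction.mem_stabilizer_iff, hmap, Subgroup.mem_map_equiv, MulEquiv.symm_apply_apply,
          Subgroup.mem_normalizer_iff, Subgroup.ext_iff]
        refine ⟨fun h z => ?_, fun h z => ?_⟩
        · rw [← h (g * z * g⁻¹), Subgroup.mem_map_equiv, MulAut.conj_symm_apply]
          group
        · rw [Subgroup.mem_map_equiv, MulAut.conj_symm_apply, h (g⁻¹ * z * g)]
          group
      rw [hN]
      refine (Subgroup.index_map_equiv _ ConjAct.toConjAct).trans ?_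
      set N := Subgroup.normalizer (H₂ : Set (Equiv.Perm (Fin 6)))
      have hle : H₂ ≤ N := Subgroup.le_normalizer
      have hd := Subgroup.index_dvd_of_le hle
      rw [h₂] at hd
      refine le_antisymm (Nat.le_of_dvd (by omega) hd) (S5944.le_index_of_proper (by simp) ?_ ?_ |>.trans' (by simp))
      · intro htop
        have hn : H₂.Normal := Subgroup.normalizer_eq_top_iff.1 htop
        have hc := S5912.core_bot h6 h₂
        rw [Subgroup.normalCore_eq_self] at hc
        rw [hc, Subgroup.index_bot, Nat.card_perm, Nat.card_eq_fintype_card, h6] at h₂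
        norm_num [Nat.factorial] at h₂
      · intro hA
        rw [hA] at hle
        -- then `H₂` would be a subgroup of index three of the alternating group
        have h3 := Subgroup.relIndex_mul_index hle
        rw [alternatingGroup.index_eq_two, h₂] at h3
        have hsub : (H₂.subgroupOf (alternatingGroup (Fin 6))).index = 3 := by
          show H₂.relIndex (alternatingGroup (Fin 6)) = 3
          omega
        have hsimple := alternatingGroup.isSimpleGroup (α := Fin 6) (by simp)
        set A₃ := H₂.subgroupOf (alternatingGroup (Fin 6))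
        rcases A₃.normalCore_normal.eq_bot_or_eq_top with hb | hb
        · have hinj := (MonoidHom.ker_eq_bot_iff _).1 (Subgroup.normalCore_eq_ker A₃ ▸ hb)
          have h4 := Nat.card_le_card_of_injective _ hinj
          rw [Nat.card_perm, ← Subgroup.index_eq_card, hsub] at h4
          have h5 := (alternatingGroup (Fin 6)).card_mul_index
          rw [alternatingGroup.index_eq_two, Nat.card_perm, Nat.card_eq_fintype_card (α := Fin 6), h6] at h5
          norm_num [Nat.factorial] at h4 h5
          omega
        · have := A₃.normalCore_le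
          rw [hb, top_le_iff] at this
          rw [this, Subgroup.index_top] at hsub
          omega
    have key : {H : Subgroup (Equiv.Perm (Fin 6)) | H.index = 6} =
        (MulAction.orbit (ConjAct (Equiv.Perm (Fin 6))) H₂) ∪
          Set.range (fun a : Fin 6 => MulAction.stabilizer (Equiv.Perm (Fin 6)) a) := by
      ext H
      constructor
      · intro hH
        by_cases ht : ∀ a b : Fin 6, ∃ g ∈ H, g a = b
        · obtain ⟨g, hg⟩ := S5912.conj_of_transitive h6 h₂ hH t₂ ht
          exact Or.inl ⟨ConjAct.toConjAct g, (hmap g H₂).trans hg⟩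
        · obtain ⟨a, ha⟩ := S5912.eq_stab_of_intransitive h6 hH ht
          exact Or.inr ⟨a, ha.symm⟩
      · rintro (h | ⟨a, rfl⟩)
        · exact hidx H h
        · show (MulAction.stabilizer _ a).index = 6
          rw [MulAction.index_stabilizer_of_transitive, Nat.card_eq_fintype_card, h6]
    show Nat.card ↥{H : Subgroup (Equiv.Perm (Fin 6)) | H.index = 6} = 12
    rw [key, Nat.card_coe_set_eq, Set.ncard_union_eq, ← Nat.card_coe_set_eq, hC,
      Set.ncard_range_of_injective]
    · simp
    · intro a b hab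
      by_contra hne'
      obtain ⟨c, hc⟩ : ∃ c : Fin 6, c ≠ a ∧ c ≠ b := by
        clear hab hne'; revert a b; decide
      have hab' : MulAction.stabilizer (Equiv.Perm (Fin 6)) a = MulAction.stabilizer (Equiv.Perm (Fin 6)) b := hab
      have : Equiv.swap b c ∈ MulAction.stabilizer (Equiv.Perm (Fin 6)) b := hab' ▸
        MulAction.mem_stabilizer_iff.2 (Equiv.swap_apply_of_ne_of_ne hne' (Ne.symm hc.1))
      rw [MulAction.mem_stabilizer_iff, Equiv.Perm.smul_def, Equiv.swap_apply_left] at this
      exact hc.2 this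
    · rw [Set.disjoint_left]
      rintro _ ⟨g, rfl⟩ ⟨a, ha⟩
      obtain ⟨g, rfl⟩ := ConjAct.toConjAct.surjective g
      change MulAction.stabilizer (Equiv.Perm (Fin 6)) a = ConjAct.toConjAct g • H₂ at ha
      rw [hmap] at ha
      obtain ⟨b, hb⟩ := exists_ne a
      obtain ⟨k, hk, hkb⟩ := t₂ (g⁻¹ a) (g⁻¹ b)
      have : g * k * g⁻¹ ∈ MulAction.stabilizer (Equiv.Perm (Fin 6)) a := by
        rw [ha]
        exact ⟨k, hk, rfl⟩
      rw [MulAction.mem_stabilizer_iff, Equiv.Perm.smul_def, Equiv.Perm.mul_apply, Equiv.Perm.mul_apply,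
        hkb, Equiv.Perm.inv_def, Equiv.apply_symm_apply] at this
      exact hb this
  · obtain ⟨ψ, x, hx⟩ := S5912.exists_auto h6 hH
    have e : H.map ψ.toMonoidHom = MulAction.stabilizer (Equiv.Perm (Fin 6)) x := by
      ext g
      rw [Subgroup.mem_map_equiv, hx, ψ.apply_symm_apply]
      rfl
    refine ⟨(ψ.subgroupMap H).trans ((MulEquiv.subgroupCongr e).trans ?_)⟩
    exact stabEquiv x

end Cfsg.Agent.S5945
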