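import Cfsg.Statements.S5946
-- import your own Cfsg.Agent.* helpers here

set_option autoImplicit false
open Cfsg

namespace Cfsg.Agent.S5946

/-- Let F ⊆ K be finite fields with [K : F] = n ≥ 2 and regard K as an n-dimensional F-vector space. The Singer group M ≤ GL_F(K) of multiplications by the non-zero elements of K is self-centralizing: every F-linear automorphism of K commuting with all of M lies in M. -/
theorem result {F K : Type*} [Field F] [Fintype F] [Field K] [Fintype K] [Algebra F K] (n : ℕ) (hn : 2 ≤ n) (hdim : Module.finrank F K = n) :
    Subgroup.centralizer (((Units.map ((Algebra.lmul F K : K →ₐ[F] Module.End F K) : K →* Module.End F K)).range : Subgroup (Module.End F K)ˣ) : Set (Module.End F K)ˣ) = (Units.map ((Algebra.lmul F K : K →ₐ[F] Module.End F K) : K →* Module.End F K)).range := by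
  ext f
  rw [Subgroup.mem_centralizer_iff]
  constructor
  · intro hf
    have h : ∀ a : Kˣ, ∀ y : K, (a : K) * (f : Module.End F K) y = (f : Module.End F K) ((a : K) * y) := by
      intro a y
      have := hf (Units.map ((Algebra.lmul F K : K →ₐ[F] Module.End F K) : K →* Module.End F K) a) ⟨a, rfl⟩
      exact DFunLike.congr_fun (congrArg Units.val this) y
    have hinj : Function.Injective (f : Module.End F K) := fun u v huv => by
      have := congrArg ((f⁻¹ : (Module.End F K)ˣ) : Module.End F K) huv
      rw [← Module.End.mul_apply, ← Module.End.mul_apply, Units.inv_mul] at this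
      exact this
    have hc : (f : Module.End F K) 1 ≠ 0 := fun h0 =>
      one_ne_zero (hinj (h0.trans (map_zero _).symm))
    refine ⟨Units.mk0 _ hc, Units.ext (LinearMap.ext fun y => ?_)⟩
    show (f : Module.End F K) 1 * y = _
    rcases eq_or_ne y 0 with rfl | hy
    · simp
    · have := h (Units.mk0 y hy) 1
      rw [Units.val_mk0, mul_one] at this
      rw [← this, mul_comm]
  · rintro ⟨c, rfl⟩ _ ⟨a, rfl⟩
    rw [← map_mul, ← map_mul, mul_comm]

end Cfsg.Agent.S5946
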