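import Cfsg.Statements.S5947
import Cfsg.Agent.Lib.ClassK.Zsigmondy
import Mathlib.FieldTheory.Finite.GaloisField
import Mathlib.GroupTheory.Perm.Cycle.Type

set_option autoImplicit false
open Cfsg

namespace Cfsg.Agent.S5947

section
variable {F : Type*} [Field F] [Fintype F]

/-- a prime dividing the top cyclotomic part, for every admissible pair -/
theorem exists_ppd (n : ℕ) (hn : 2 ≤ n) (hex1 : ¬ (n = 6 ∧ Fintype.card F = 2))
    (hex2 : ¬ (n = 2 ∧ (Fintype.card F).Prime ∧ ∃ a : ℕ, Fintype.card F + 1 = 2 ^ a)) :
    ∃ r : ℕ, r.Prime ∧ r ∣ Fintype.card F ^ n - 1 ∧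
      ∀ k : ℕ, 0 < k → k < n → ¬ r ∣ Fintype.card F ^ k - 1 := by
  obtain ⟨⟨k, hk⟩, hp, hq⟩ := FiniteField.card F (ringChar F)
  simp only [PNat.mk_coe] at hq
  rw [hq] at hex1 hex2 ⊢
  generalize ringChar F = p at hp hex1 hex2 ⊢
  by_cases h6 : p = 2 ∧ k * n = 6
  · obtain ⟨rfl, h6⟩ := h6
    have hk6 : k ≤ 6 := by nlinarith
    have hn6 : n ≤ 6 := by nlinarith
    interval_cases k <;> interval_cases n <;> simp at h6
    · exact absurd ⟨rfl, by norm_num⟩ hex1
    · refine ⟨7, by norm_num, by norm_num, fun j hj hj' => ?_⟩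
      interval_cases j <;> norm_num
    · refine ⟨3, by norm_num, by norm_num, fun j hj hj' => ?_⟩
      interval_cases j <;> norm_num
  by_cases h2 : k * n = 2 ∧ ∃ m : ℕ, p + 1 = 2 ^ m
  · exfalso
    obtain ⟨h2, m, hm⟩ := h2
    have hk1 : k = 1 := by nlinarith
    subst hk1
    exact hex2 ⟨by omega, by simpa using hp, m, by simpa using hm⟩
  obtain ⟨r, hr, hd, hlt⟩ := CfsgLib.ClassK.zsigmondy hp.one_lt
    (show 1 < k * n by have := Nat.le_mul_of_pos_left n hk; omega) h6 h2
  refine ⟨r, hr, by rw [← pow_mul]; exact hd, fun j hj hj' h => ?_⟩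
  rw [← pow_mul] at h
  exact hlt _ (Nat.mul_pos hk hj) (Nat.mul_lt_mul_of_pos_left hj' hk) h

variable {V : Type*} [AddCommGroup V] [Module F V] [Finite V]

/-- an element of primitive prime order fixes every invariant proper subspace pointwise -/
theorem fix_invariant {r n : ℕ} [Fact r.Prime] (hlt : ∀ k : ℕ, 0 < k → k < n → ¬ r ∣ Fintype.card F ^ k - 1)
    (hrq : ¬ r ∣ Fintype.card F) (x : Module.End F V) (hx : x ^ r = 1) (W : Submodule F V)
    (hW : ∀ v ∈ W, x v ∈ W) (hdim : Module.finrank F W < n) : ∀ v ∈ W, x v = v := by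
  classical
  haveI : Module.Finite F V := Module.Finite.of_finite
  let y : Module.End F W := x.restrict hW
  let f : Function.End W := fun v => y v
  have hyr : y ^ r = 1 := by
    refine LinearMap.ext fun v => Subtype.ext ?_
    rw [Module.End.pow_restrict r, LinearMap.restrict_apply]
    show (x ^ r) (v : V) = (v : V)
    rw [hx, Module.End.one_apply]
  have hf : f ^ r ^ 1 = 1 := by
    funext v
    rw [pow_one]
    have : ∀ j : ℕ, (f ^ j) v = (y ^ j) v := fun j => by
      induction j with
      | zero => rfl
      | succ j ih =>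
        rw [pow_succ', pow_succ', Module.End.mul_apply, ← ih]; rfl
    rw [this r, hyr]; rfl
  haveI := Fintype.ofFinite W
  have h := Equiv.Perm.card_fixedPoints_modEq hf
  let W₀ : Submodule F W := LinearMap.ker (y - 1)
  have hfp : Fintype.card f.fixedPoints = Nat.card W₀ := by
    rw [Nat.card_eq_fintype_card.symm]
    exact Nat.card_congr (Equiv.subtypeEquivRight fun v => by
      show y v = v ↔ v ∈ LinearMap.ker (y - 1)
      rw [LinearMap.mem_ker, LinearMap.sub_apply, sub_eq_zero, Module.End.one_apply])
  rw [hfp, Fintype.card_eq_nat_card, Module.natCard_eq_pow_finrank (K := F) (V := W),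
    Module.natCard_eq_pow_finrank (K := F) (V := W₀), Nat.card_eq_fintype_card (α := F)] at h
  have hle : Module.finrank F W₀ ≤ Module.finrank F W := Submodule.finrank_le _
  have heq : Module.finrank F W₀ = Module.finrank F W := by
    by_contra hne
    have hd := (Nat.modEq_iff_dvd' (Nat.pow_le_pow_right Fintype.card_pos hle)).1 h.symm
    rw [show Fintype.card F ^ Module.finrank F W - Fintype.card F ^ Module.finrank F W₀ =
        Fintype.card F ^ Module.finrank F W₀ *
          (Fintype.card F ^ (Module.finrank F W - Module.finrank F W₀) - 1) by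
      rw [Nat.mul_sub, mul_one, ← pow_add, Nat.add_sub_cancel' hle]] at hd
    rcases (Fact.out : r.Prime).dvd_mul.1 hd with h' | h'
    · exact hrq ((Fact.out : r.Prime).dvd_of_dvd_pow h')
    · exact hlt _ (by omega) (by omega) h'
  have htop : W₀ = ⊤ := Submodule.eq_top_of_finrank_eq heq
  intro v hv
  have : (⟨v, hv⟩ : W) ∈ W₀ := htop ▸ Submodule.mem_top
  have h1 : y ⟨v, hv⟩ = ⟨v, hv⟩ := sub_eq_zero.1 this
  exact congrArg Subtype.val h1

end

/-- Let F ⊆ K be finite fields with |F| = q and [K : F] = n ≥ 2, regard K as an n-dimensional F-vector space, and let M ≤ GL_F(K) be the Singer group of multiplications by non-zero elements of K (cyclic of order q^n − 1). Assume (n, q) ≠ (6, 2), and that it is not the case that n = 2 with q a prime such that q + 1 is a power of 2. Then every abelian subgroup of GL_F(K) of order q^n − 1 is conjugate to M. -/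
theorem result {F K : Type*} [Field F] [Fintype F] [Field K] [Fintype K] [Algebra F K] (n : ℕ) (hn : 2 ≤ n) (hdim : Module.finrank F K = n)
    (hex1 : ¬ (n = 6 ∧ Fintype.card F = 2))
    (hex2 : ¬ (n = 2 ∧ (Fintype.card F).Prime ∧ ∃ a : ℕ, Fintype.card F + 1 = 2 ^ a))
    (U : Subgroup (Module.End F K)ˣ) (hU : IsMulCommutative U) (hcard : Nat.card U = Fintype.card K - 1) :
    ∃ g : (Module.End F K)ˣ, U.map (MulAut.conj g).toMonoidHom = (Units.map ((Algebra.lmul F K : K →ₐ[F] Module.End F K) : K →* Module.End F K)).range := by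
  classical
  obtain ⟨r, hr, hrd, hlt⟩ := exists_ppd (F := F) n hn hex1 hex2
  haveI : Fact r.Prime := ⟨hr⟩
  set q := Fintype.card F with hqdef
  have hq1 : 1 < q := Fintype.one_lt_card
  have hcardK : Fintype.card K = q ^ n := by rw [Module.card_eq_pow_finrank (K := F), hdim]
  have hrq : ¬ r ∣ q := fun h => by
    have h1 : r ∣ q ^ n := dvd_pow h (by omega)
    have := Nat.dvd_sub h1 hrd
    rw [Nat.sub_sub_self (Nat.one_le_pow _ _ (by omega))] at this
    exact hr.ne_one (Nat.dvd_one.1 this)
  haveI : Finite (Module.End F K) := Finite.of_injective (fun g => (g : K → K)) DFunLike.coe_injective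
  obtain ⟨⟨u, hu⟩, huo⟩ := exists_prime_orderOf_dvd_card' (G := U) r (by rw [hcard, hcardK]; exact hrd)
  set x : Module.End F K := (u : Module.End F K) with hx
  have hxr : x ^ r = 1 := by
    have h := pow_orderOf_eq_one u
    rw [Subgroup.orderOf_mk] at huo
    rw [huo] at h
    rw [hx, ← Units.val_pow_eq_pow_val, h]; rfl
  have hx1 : x ≠ 1 := fun e => by
    rw [Subgroup.orderOf_mk, show u = 1 from Units.ext e, orderOf_one] at huo
    exact hr.ne_one huo.symm
  have hfin : ∀ W : Submodule F K, W ≠ ⊤ → Module.finrank F W < n := fun W hW =>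
    hdim ▸ Submodule.finrank_lt hW
  -- `x` acts irreducibly
  have hirr : ∀ W : Submodule F K, (∀ v ∈ W, x v ∈ W) → W = ⊥ ∨ W = ⊤ := by
    intro W hW
    by_contra hno
    simp only [not_or] at hno
    have hfix := fix_invariant hlt hrq x hxr W hW (hfin W hno.2)
    obtain ⟨v, hv, hv0⟩ := W.exists_mem_ne_zero_of_ne_bot hno.1
    let R : Submodule F K := LinearMap.range (x - 1)
    have hR : R ≠ ⊤ := fun h => by
      have hinj : Function.Injective ⇑(x - 1) := LinearMap.injective_iff_surjective.2 (LinearMap.range_eq_top.1 h)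
      exact hv0 (hinj (by rw [LinearMap.sub_apply, Module.End.one_apply, hfix v hv, sub_self, map_zero]))
    have hRfix := fix_invariant hlt hrq x hxr R (by
      rintro _ ⟨w, rfl⟩
      exact ⟨x w, by simp [map_sub]⟩) (hfin R hR)
    have hsq : (x - 1) * (x - 1) = 0 := LinearMap.ext fun w => by
      rw [Module.End.mul_apply, LinearMap.sub_apply, Module.End.one_apply, hRfix _ ⟨w, rfl⟩, sub_self]; rfl
    obtain ⟨p, hcp⟩ := CharP.exists F
    have hp : p.Prime := CharP.char_is_prime F p
    haveI : Fact p.Prime := ⟨hp⟩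
    haveI : CharP (Module.End F K) p := charP_of_injective_algebraMap (algebraMap F (Module.End F K)).injective p
    have hxp : x ^ p = 1 := by
      have h1 := sub_pow_char_of_commute p (Commute.one_right x)
      rw [show (x - 1) ^ p = 0 from pow_eq_zero_of_le hp.two_le (by rw [pow_two]; exact hsq), one_pow,
        eq_comm, sub_eq_zero] at h1
      exact h1
    rw [Subgroup.orderOf_mk] at huo
    have hd : r ∣ p := huo ▸ orderOf_dvd_of_pow_eq_one (Units.ext (by rw [Units.val_pow_eq_pow_val]; exact hxp))
    have hrp := (Nat.prime_dvd_prime_iff_eq hr hp).1 hd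
    apply hrq
    obtain ⟨k, -, hk⟩ := FiniteField.card F p
    rw [hrp, hqdef, hk]
    exact dvd_pow_self p k.ne_zero
  -- the commuting maps form a field with as many elements as `K`
  let C : Subalgebra F (Module.End F K) := Subalgebra.centralizer F {x}
  have hCmem : ∀ c : Module.End F K, c ∈ C ↔ x * c = c * x := fun c => by
    show c ∈ Subalgebra.centralizer F {x} ↔ _
    rw [Subalgebra.mem_centralizer_iff]; simp
  let ev : C → K := fun c => (c : Module.End F K) 1
  have hev : Function.Injective ev := by
    intro c d h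
    rcases hirr (LinearMap.ker ((c : Module.End F K) - (d : Module.End F K))) (fun v hv => by
      rw [LinearMap.mem_ker] at hv ⊢
      have hc : (c : Module.End F K) - (d : Module.End F K) ∈ C := sub_mem c.2 d.2
      rw [← Module.End.mul_apply, ← (hCmem _).1 hc, Module.End.mul_apply, hv, map_zero]) with h' | h'
    · exfalso
      have : (1 : K) ∈ LinearMap.ker ((c : Module.End F K) - (d : Module.End F K)) := by
        rw [LinearMap.mem_ker, LinearMap.sub_apply, sub_eq_zero]; exact h
      rw [h', Submodule.mem_bot] at this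
      exact one_ne_zero this
    · exact Subtype.ext (sub_eq_zero.1 (LinearMap.ker_eq_top.1 h'))
  let emb : Option U → C := fun o => o.elim 0 fun w => ⟨(w.1 : Module.End F K), (hCmem _).2 (by
    have := hU.is_comm.comm (⟨u, hu⟩ : U) w
    exact congrArg (fun z : U => (z.1 : Module.End F K)) this)⟩
  have hemb : Function.Injective emb := by
    haveI : Nontrivial (Module.End F K) := inferInstance
    intro a b h
    have h' := congrArg (fun z : C => (z : Module.End F K)) h
    rcases a with _ | a <;> rcases b with _ | b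
    · rfl
    · exact absurd h'.symm b.1.ne_zero
    · exact absurd h' a.1.ne_zero
    · exact congrArg some (Subtype.ext (Units.ext h'))
  haveI : Fintype C := Fintype.ofFinite C
  have hcardC : Fintype.card C = Fintype.card K := by
    apply le_antisymm (Fintype.card_le_of_injective ev hev)
    haveI : Fintype U := Fintype.ofFinite U
    refine le_trans (le_of_eq ?_) (Fintype.card_le_of_injective emb hemb)
    rw [Fintype.card_option, ← Nat.card_eq_fintype_card (α := U), hcard]
    have : 0 < Fintype.card K := Fintype.card_pos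
    omega
  have hsurj : Function.Surjective emb := by
    haveI : Fintype U := Fintype.ofFinite U
    refine ((Fintype.bijective_iff_injective_and_card emb).2 ⟨hemb, ?_⟩).2
    rw [hcardC, Fintype.card_option, ← Nat.card_eq_fintype_card (α := U), hcard]
    have : 0 < Fintype.card K := Fintype.card_pos
    omega
  have hCfield : IsField C :=
    { exists_pair_ne := ⟨0, 1, fun h => one_ne_zero (α := Module.End F K) (congrArg Subtype.val h).symm⟩
      mul_comm := fun a b => by
        obtain ⟨a, rfl⟩ := hsurj a
        obtain ⟨b, rfl⟩ := hsurj b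
        rcases a with _ | a <;> rcases b with _ | b <;> simp [emb]
        exact congrArg (fun z : U => (z.1 : Module.End F K)) (hU.is_comm.comm a b)
      mul_inv_cancel := fun {a} ha => by
        obtain ⟨o, rfl⟩ := hsurj a
        rcases o with _ | w
        · exact absurd rfl ha
        · exact ⟨emb (some w⁻¹), Subtype.ext (by simp [emb])⟩ }
  letI : Field C := hCfield.toField
  let f : Polynomial F := Polynomial.X ^ Fintype.card K - Polynomial.X
  haveI h₁ : Polynomial.IsSplittingField F K f := FiniteField.isSplittingField_sub K F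
  haveI h₂ : Polynomial.IsSplittingField F C f := by
    show Polynomial.IsSplittingField F C (Polynomial.X ^ Fintype.card K - Polynomial.X)
    rw [← hcardC]; exact FiniteField.isSplittingField_sub C F
  let φ : K ≃ₐ[F] C :=
    (Polynomial.IsSplittingField.algEquiv K f).trans (Polynomial.IsSplittingField.algEquiv C f).symm
  let G : Module.End F K :=
    { toFun := fun k => ev (φ k)
      map_add' := fun a b => by
        show ((φ (a + b) : C) : Module.End F K) 1 = _
        rw [map_add]; rfl
      map_smul' := fun c a => by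
        show ((φ (c • a) : C) : Module.End F K) 1 = _
        rw [map_smul]; rfl }
  have hG : IsUnit G := (Module.End.isUnit_iff _).2 ((Fintype.bijective_iff_injective_and_card _).2
    ⟨hev.comp φ.injective, rfl⟩)
  obtain ⟨g, hg⟩ := hG
  have key : ∀ a : K, (g : Module.End F K) * Algebra.lmul F K a = (φ a : Module.End F K) * g := fun a => by
    refine LinearMap.ext fun k => ?_
    rw [hg]
    show ((φ (a * k) : C) : Module.End F K) 1 = _
    rw [map_mul]; rfl
  refine ⟨g⁻¹, le_antisymm ?_ ?_⟩
  · rintro _ ⟨w, hw, rfl⟩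
    obtain ⟨a, ha⟩ := φ.surjective (emb (some ⟨w, hw⟩))
    have ha0 : a ≠ 0 := fun e => by
      have := congrArg (fun z : C => (z : Module.End F K)) ha
      rw [e, map_zero] at this
      exact w.ne_zero this.symm
    refine ⟨Units.mk0 a ha0, Units.ext ?_⟩
    show (Algebra.lmul F K) a = ((g⁻¹ : (Module.End F K)ˣ) : Module.End F K) * (w : Module.End F K) * ((g⁻¹)⁻¹ : (Module.End F K)ˣ)
    rw [inv_inv, mul_assoc, show (w : Module.End F K) = (φ a : Module.End F K) from
      (congrArg (fun z : C => (z : Module.End F K)) ha).symm, ← key, Units.inv_mul_cancel_left]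
  · rintro _ ⟨a, rfl⟩
    obtain ⟨o, ho⟩ := hsurj (φ (a : K))
    rcases o with _ | ⟨w, hw⟩
    · exact absurd (φ.injective (ho.symm.trans (map_zero φ).symm)) a.ne_zero
    refine ⟨w, hw, Units.ext ?_⟩
    show ((g⁻¹ : (Module.End F K)ˣ) : Module.End F K) * (w : Module.End F K) * ((g⁻¹)⁻¹ : (Module.End F K)ˣ) = (Algebra.lmul F K) (a : K)
    rw [inv_inv, mul_assoc, show (w : Module.End F K) = (φ (a : K) : Module.End F K) from
      congrArg (fun z : C => (z : Module.End F K)) ho, ← key, Units.inv_mul_cancel_left]

end Cfsg.Agent.S5947
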