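import Cfsg.Statements.S5950
import Cfsg.Agent.Lib.MaxSub.SemiCriterion
import Cfsg.Agent.Lib.MaxSub.BlockSplit
-- import your own Cfsg.Agent.* helpers here

set_option autoImplicit false
open scoped MatrixGroups
open Cfsg

namespace Cfsg.Agent.S5950

open CfsgLib.KnownB.UnipClasses in
/-- Elements of order `p` fixing a splitting, in terms of partitions. -/
theorem unipotent_iff {F : Type*} [Field F] [Fintype F] {p : ℕ} [Fact p.Prime] [CharP F p] {n m : ℕ} (hn : 0 < n)
    (hm : m ≤ n) :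
    (∀ x : Matrix.SpecialLinearGroup (Fin n) F,
      (∃ c : F, ((x ^ p : Matrix.SpecialLinearGroup (Fin n) F) : Matrix (Fin n) (Fin n) F) = c • (1 : Matrix (Fin n) (Fin n) F)) →
      (∀ c : F, (x : Matrix (Fin n) (Fin n) F) ≠ c • (1 : Matrix (Fin n) (Fin n) F)) →
      ∃ U W : Submodule F (Fin n → F), IsCompl U W ∧ Module.finrank F ↥U = m ∧
        U.map (Matrix.toLin' (x : Matrix (Fin n) (Fin n) F)) ≤ U ∧ W.map (Matrix.toLin' (x : Matrix (Fin n) (Fin n) F)) ≤ W) ↔
    ∀ μ : Multiset ℕ, (∀ a ∈ μ, 0 < a ∧ a ≤ p) → μ.sum = n → ∃ ν : Multiset ℕ, ν ≤ μ ∧ ν.sum = m := by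
  classical
  haveI : Nonempty (Fin n) := ⟨⟨0, hn⟩⟩
  constructor
  · intro hall μ hμ hsum
    by_cases hone : ∀ b ∈ μ, b = 1
    · have hrep : μ = Multiset.replicate μ.card 1 := Multiset.eq_replicate_card.2 hone
      refine ⟨Multiset.replicate m 1, ?_, by simp⟩
      rw [hrep] at hsum ⊢
      rw [Multiset.sum_replicate, smul_eq_mul, mul_one] at hsum
      exact (Multiset.replicate_le_replicate _).2 (by rw [hsum]; exact hm)
    let lam : Nat.Partition n := ⟨μ, fun hb => (hμ _ hb).1, hsum⟩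
    obtain ⟨A, hA, hpart⟩ := exists_partOf (F := F) lam
    have hpA : (A - 1) ^ p = 0 := (CfsgLib.Classical.UnipJordan.pow_eq_zero_iff hA p).2 (by
      rw [hpart]; exact fun b hb => (hμ b hb).2)
    have hAp : A ^ p = 1 := by
      have := CfsgLib.Classical.UnipJordan.pow_prime_eq p (A - 1)
      rw [add_sub_cancel, hpA, add_zero] at this
      exact this
    have hdet : A.det = 1 := by
      have h1 : A.det ^ p = 1 := by rw [← Matrix.det_pow, hAp, Matrix.det_one]
      exact sub_eq_zero.1 (eq_zero_of_pow_eq_zero (n := p) (by rw [sub_pow_char, one_pow, h1, sub_self]))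
    obtain ⟨x, hx⟩ : ∃ x : Matrix.SpecialLinearGroup (Fin n) F, (x : Matrix (Fin n) (Fin n) F) = A := ⟨⟨A, hdet⟩, rfl⟩
    obtain ⟨U, W, hc, hUd, hU, hW⟩ := hall x ⟨1, by rw [Matrix.SpecialLinearGroup.coe_pow, hx, hAp, one_smul]⟩
      fun z hz => hone fun b hb => by
        rw [hx] at hz
        have hz1 : A - 1 = (z - 1) • (1 : Matrix (Fin n) (Fin n) F) := by rw [hz, sub_smul, one_smul]
        have h0 : (z - 1) ^ p = 0 := by
          rw [hz1, smul_pow, one_pow] at hpA
          exact (smul_eq_zero.1 hpA).resolve_right one_ne_zero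
        have hA1 : (A - 1) ^ 1 = 0 := by rw [pow_one, hz1, eq_zero_of_pow_eq_zero h0, zero_smul]
        exact le_antisymm ((CfsgLib.Classical.UnipJordan.pow_eq_zero_iff hA 1).1 hA1 b (by rw [hpart]; exact hb)) (hμ b hb).1
    rw [hx] at hU hW
    obtain ⟨ν, hν, hs⟩ := CfsgLib.MaxSub.BlockSplit.exists_parts (p := p) hA hc hU hW hUd
    exact ⟨ν, by rw [hpart] at hν; exact hν, hs⟩
  · intro hμ x ⟨c, hx⟩ _
    rw [Matrix.SpecialLinearGroup.coe_pow] at hx
    obtain ⟨d, hd⟩ : ∃ d : F, d ^ p = c := by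
      haveI : PerfectRing F p := inferInstance
      exact ⟨(frobeniusEquiv F p).symm c, (frobeniusEquiv F p).apply_symm_apply c⟩
    have hd0 : d ≠ 0 := fun e => by
      rw [e, zero_pow (Fact.out : p.Prime).ne_zero] at hd
      rw [← hd, zero_smul] at hx
      have := congrArg Matrix.det hx
      rw [Matrix.det_pow, x.2, one_pow, Matrix.det_zero] at this
      exact one_ne_zero this
    obtain ⟨A, hAdef⟩ : ∃ A, A = d⁻¹ • (x : Matrix (Fin n) (Fin n) F) := ⟨_, rfl⟩
    have hpA : (A - 1) ^ p = 0 := by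
      have h : A ^ p = 1 := by
        rw [hAdef, smul_pow, hx, smul_smul, inv_pow, ← hd, inv_mul_cancel₀ (pow_ne_zero _ hd0), one_smul]
      have := CfsgLib.Classical.UnipJordan.pow_prime_eq p (A - 1)
      rw [add_sub_cancel, h, left_eq_add] at this
      exact this
    have hA : IsNilpotent (A - 1) := ⟨p, hpA⟩
    obtain ⟨ν, hν, hs⟩ := hμ (partOf hA).parts (fun a ha => ⟨(partOf hA).parts_pos ha,
      (CfsgLib.Classical.UnipJordan.pow_eq_zero_iff hA p).1 hpA a ha⟩) (partOf hA).parts_sum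
    obtain ⟨U, W, hc, hUd, hU, hW⟩ := CfsgLib.MaxSub.BlockSplit.exists_split hA hν
    have hxA : (x : Matrix (Fin n) (Fin n) F) = d • A := by rw [hAdef, smul_inv_smul₀ hd0]
    refine ⟨U, W, hc, hUd.trans hs, ?_, ?_⟩
    all_goals
      rw [hxA, map_smul]
      rintro _ ⟨v, hv, rfl⟩
      refine Submodule.smul_mem _ d ?_
    · exact hU ⟨v, hv, rfl⟩
    · exact hW ⟨v, hv, rfl⟩

theorem parts_two {n m : ℕ} (hm : m ≤ n) :
    (∀ μ : Multiset ℕ, (∀ a ∈ μ, 0 < a ∧ a ≤ 2) → μ.sum = n → ∃ ν : Multiset ℕ, ν ≤ μ ∧ ν.sum = m) ↔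
      (Odd n ∨ Even m) := by
  constructor
  · intro h
    by_contra hno
    rw [not_or, Nat.not_odd_iff_even] at hno
    obtain ⟨k, hk⟩ := hno.1
    obtain ⟨ν, hν, hs⟩ := h (Multiset.replicate k 2) (fun a ha => by rw [Multiset.eq_of_mem_replicate ha]; omega)
      (by rw [Multiset.sum_replicate, smul_eq_mul]; omega)
    obtain ⟨j, rfl⟩ : ∃ j, ν = Multiset.replicate j 2 := ⟨ν.card, Multiset.eq_replicate_card.2 fun a ha =>
      Multiset.eq_of_mem_replicate (Multiset.mem_of_le hν ha)⟩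
    rw [Multiset.sum_replicate, smul_eq_mul] at hs
    exact hno.2 ⟨j, by omega⟩
  · intro h μ hμ hsum
    have key : μ = Multiset.replicate (μ.count 2) 2 + Multiset.replicate (μ.count 1) 1 := by
      refine Multiset.ext.2 fun a => ?_
      rw [Multiset.count_add, Multiset.count_replicate, Multiset.count_replicate]
      by_cases ha : a ∈ μ
      · obtain ⟨h1, h2⟩ := hμ a ha
        rcases (show a = 1 ∨ a = 2 by omega) with rfl | rfl <;> simp
      · rw [Multiset.count_eq_zero.2 ha]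
        by_cases h1 : a = 1
        · subst h1; simp [Multiset.count_eq_zero.2 ha]
        · by_cases h2 : a = 2
          · subst h2; simp [Multiset.count_eq_zero.2 ha]
          · simp [Ne.symm h1, Ne.symm h2]
    generalize μ.count 2 = b, μ.count 1 = c at key
    subst key
    rw [Multiset.sum_add, Multiset.sum_replicate, Multiset.sum_replicate, smul_eq_mul, smul_eq_mul, mul_one] at hsum
    refine ⟨Multiset.replicate (min (m / 2) b) 2 + Multiset.replicate (m - 2 * min (m / 2) b) 1,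
      add_le_add ((Multiset.replicate_le_replicate _).2 (min_le_right _ _)) ((Multiset.replicate_le_replicate _).2 ?_), ?_⟩
    · rcases h with h | h <;> obtain ⟨k, hk⟩ := h <;> omega
    · rw [Multiset.sum_add, Multiset.sum_replicate, Multiset.sum_replicate, smul_eq_mul, smul_eq_mul, mul_one]
      omega

/-- Elements of prime order of PSL_n(q) fixing no decomposition `F^n = U ⊕ W` with `dim U = m`. Here `T = PSL_n(F)` for a field `F` with `q = p^f` elements (`n ≥ 2`, `(n, q) ≠ (2, 2), (2, 3)`); an element of `T` of prime order `r` is represented by a matrix `x` of determinant 1 with `x^r` scalar and `x` not scalar; `i` denotes the multiplicative order of `q` modulo `r` (when `r ≠ p`), and `(a)_r` the `r`-part of `a`. Let `n ≥ 3`, `1 ≤ m < n/2`, and let `r` be a prime dividing the number of such decompositions (unordered pairs `{U, W}` of complementary subspaces with `dim U = m`; since `m ≠ n − m` these are the ordered pairs with `dim U = m`). Then every element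 of `T` of order `r` fixes such a pair (fixes both `U` and `W` for some complementary `U, W` with `dim U = m`) if and only if one of: (i) `r = p > 2` and every partition of `n` into parts of size at most `p` contains, as a sub-multiset, a partition of `m`; (ii) `r = p = 2` and `n` is odd or `m` is even; (iii) `r ≠ p`, `i = 1`, and `r ∣ m` or `(q−1)_r ≥ (n)_r` (with `q ≡ 1 (mod 4)` required when `r = 2` and `n` is even); (iv) `r ≠ p`, `2 ≤ i ≤ m` and `n mod i ≥ m mod i`. -/
theorem result {F : Type*} [Field F] [Fintype F] {p : ℕ} [Fact p.Prime] [CharP F p] {q : ℕ} (hq : Fintype.card F = q)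
    (n m : ℕ) (hn : 3 ≤ n) (hm : 1 ≤ m) (hmn : 2 * m < n)
    (r : ℕ) [Fact r.Prime]
    (hrΩ : r ∣ Nat.card {P : Submodule F (Fin n → F) × Submodule F (Fin n → F) // IsCompl P.1 P.2 ∧ Module.finrank F ↥P.1 = m}) :
    (∀ x : Matrix.SpecialLinearGroup (Fin n) F,
      (∃ c : F, ((x ^ r : Matrix.SpecialLinearGroup (Fin n) F) : Matrix (Fin n) (Fin n) F) = c • (1 : Matrix (Fin n) (Fin n) F)) →
      (∀ c : F, (x : Matrix (Fin n) (Fin n) F) ≠ c • (1 : Matrix (Fin n) (Fin n) F)) →
      ∃ U W : Submodule F (Fin n → F), IsCompl U W ∧ Module.finrank F ↥U = m ∧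
        U.map (Matrix.toLin' (x : Matrix (Fin n) (Fin n) F)) ≤ U ∧ W.map (Matrix.toLin' (x : Matrix (Fin n) (Fin n) F)) ≤ W) ↔
    ((r = p ∧ 2 < p ∧ (∀ μ : Multiset ℕ, (∀ a ∈ μ, 0 < a ∧ a ≤ p) → μ.sum = n → ∃ ν : Multiset ℕ, ν ≤ μ ∧ ν.sum = m)) ∨
     (r = p ∧ p = 2 ∧ (Odd n ∨ Even m)) ∨
     (r ≠ p ∧
      ((orderOf (q : ZMod r) = 1 ∧ (r ∣ m ∨ (padicValNat r n ≤ padicValNat r (q - 1) ∧ (r = 2 → Even n → q % 4 = 1)))) ∨
       (2 ≤ orderOf (q : ZMod r) ∧ orderOf (q : ZMod r) ≤ m ∧ m % orderOf (q : ZMod r) ≤ n % orderOf (q : ZMod r))))) := by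
  subst hq
  by_cases hrp : r = p
  · subst hrp
    rw [unipotent_iff (p := r) (by omega) (by omega)]
    constructor
    · intro h
      rcases (Fact.out : r.Prime).eq_two_or_odd with h2 | hodd
      · subst h2; exact Or.inr (Or.inl ⟨rfl, rfl, (parts_two (by omega)).1 h⟩)
      · exact Or.inl ⟨rfl, by have := (Fact.out : r.Prime).two_le; omega, h⟩
    · rintro (⟨-, -, h⟩ | ⟨-, h2, h⟩ | ⟨h, -⟩)
      · exact h
      · subst h2; exact (parts_two (by omega)).2 h
      · exact absurd rfl h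
  have hdim : m ≤ Module.finrank F (Fin n → F) := by rw [Module.finrank_fin_fun]; omega
  obtain ⟨e, he⟩ := CfsgLib.MaxSub.SubspaceNumber.pairs_card (F := F) (V := Fin n → F) (k := m)
  rw [he] at hrΩ
  have hnum : r ∣ CfsgLib.MaxSub.SubspaceNumber.num F (Fin n → F) m :=
    ((Fact.out : r.Prime).dvd_mul.1 hrΩ).resolve_right fun h =>
      CfsgLib.MaxSub.SemiCriterion.not_dvd_card (F := F) (p := p) hrp ((Fact.out : r.Prime).dvd_of_dvd_pow h)
  obtain ⟨j, hj, hjd⟩ := CfsgLib.MaxSub.SubspaceNumber.exists_dvd hdim hnum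
  rw [Module.finrank_fin_fun] at hjd
  have hpos := CfsgLib.MaxSub.SemiCriterion.order_pos (F := F) (p := p) hrp
  set i := orderOf (Fintype.card F : ZMod r) with hidef
  have hbig : m ≤ n % i → False := fun hle => by
    obtain ⟨t, ht⟩ := hjd
    have h1 : (n - j) % i = n % i - j := by
      have h := Nat.mod_add_div n i
      have h2 : n - j = (n % i - j) + i * (n / i) := by omega
      rw [h2, Nat.add_mul_mod_self_left, Nat.mod_eq_of_lt (by have := Nat.mod_lt n hpos; omega)]
    rw [ht, Nat.mul_mod_right] at h1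
    omega
  have hin : i ≤ n := (Nat.le_of_dvd (by omega) hjd).trans (Nat.sub_le n j)
  constructor
  · intro hall
    refine Or.inr (Or.inr ⟨hrp, ?_⟩)
    by_cases h1 : i = 1
    · refine Or.inl ⟨h1, ?_⟩
      by_contra hb
      obtain ⟨x, c, hx, hns, hrm, hdiv⟩ :=
        CfsgLib.MaxSub.SemiCriterion.exists_elem_one (p := p) hrp rfl (by omega) h1 (m := m) hb
      obtain ⟨U, W, -, hU, hUi, -⟩ := hall x ⟨c, by rw [Matrix.SpecialLinearGroup.coe_pow]; exact hx⟩ hns
      exact hrm (hU ▸ hdiv U hUi)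
    · refine Or.inr ?_
      obtain ⟨x, hx, hns, E, hE, hmod⟩ :=
        CfsgLib.MaxSub.SemiCriterion.exists_elem (p := p) hrp rfl hidef.symm (by omega) hin
      obtain ⟨U, W, -, hU, hUi, -⟩ := hall x ⟨1, by rw [Matrix.SpecialLinearGroup.coe_pow]; exact hx⟩ hns
      have h := hmod U hUi
      have hle : Module.finrank F ↥(U ⊓ E) ≤ n % i := (Submodule.finrank_mono inf_le_right).trans hE
      have hlt := Nat.mod_lt n hpos
      rw [hU, Nat.ModEq, Nat.mod_eq_of_lt (lt_of_le_of_lt hle hlt)] at h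
      refine ⟨by omega, ?_, by omega⟩
      by_contra hlt'
      rw [Nat.mod_eq_of_lt (not_le.1 hlt')] at h
      exact hbig (by omega)
  · rintro (⟨h, -⟩ | ⟨h, -⟩ | ⟨-, hcond⟩) x ⟨c, hx⟩ -
    · exact absurd h hrp
    · exact absurd h hrp
    rw [Matrix.SpecialLinearGroup.coe_pow] at hx
    have hbase : i = 1 → CfsgLib.MaxSub.SemiCriterion.Base r (Fintype.card F) n m := fun h1 => by
      rcases hcond with ⟨-, h⟩ | ⟨h, -⟩
      · exact h
      · omega
    have harith : m % i ≤ n % i := by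
      rcases hcond with ⟨h, -⟩ | ⟨-, -, h⟩
      · rw [h, Nat.mod_one]; exact Nat.zero_le _
      · exact h
    have hrF := CfsgLib.MaxSub.SemiCriterion.cast_ne (F := F) (p := p) hrp
    rcases CfsgLib.MaxSub.SemiCriterion.reduce (p := p) hrp rfl (by omega) hbase x hx with ⟨y, hy, hinv⟩ | ⟨hc, hrm, hrn⟩
    · obtain ⟨U, hU, hUd⟩ := CfsgLib.MaxSub.SemiCriterion.single_of_order (p := p) hrp hy (by omega) harith
      obtain ⟨W, hW, hWi⟩ := CfsgLib.MaxSub.SemiDims.exists_compl hrF one_ne_zero (c := 1) (by rw [hy, one_smul]) hU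
      exact ⟨U, W, hW, hUd, hinv U hU, hinv W hWi⟩
    · obtain ⟨U, -, -, hU, -, hUd, -⟩ := CfsgLib.MaxSub.SemiDims.exists_nested_not_pow (Fact.out : r.Prime)
        (CfsgLib.MaxSub.SemiCriterion.toLin_pow hx) hc hrm hrm le_rfl (by rw [Module.finrank_fin_fun]; omega)
      obtain ⟨W, hW, hWi⟩ := CfsgLib.MaxSub.SemiDims.exists_compl hrF
        (fun e => hc 0 (by rw [e, zero_pow (Fact.out : r.Prime).ne_zero]))
        (CfsgLib.MaxSub.SemiCriterion.toLin_pow hx) hU
      exact ⟨U, W, hW, hUd, hU, hWi⟩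


end Cfsg.Agent.S5950
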