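import Cfsg.Statements.S5951
import Cfsg.Agent.Lib.MaxSub.SemiCriterion
-- import your own Cfsg.Agent.* helpers here

set_option autoImplicit false
open scoped MatrixGroups
open Cfsg

namespace Cfsg.Agent.S5951

/-- Elements of prime order of PSL_n(q) fixing no pair of subspaces `U < W` with `dim U = m`, `dim W = n − m`. Here `T = PSL_n(F)` for a field `F` with `q = p^f` elements (`n ≥ 2`, `(n, q) ≠ (2, 2), (2, 3)`); an element of `T` of prime order `r` is represented by a matrix `x` of determinant 1 with `x^r` scalar and `x` not scalar; `i` denotes the multiplicative order of `q` modulo `r` (when `r ≠ p`), and `(a)_r` the `r`-part of `a`. Let `1 ≤ m < n/2` and let `r` be a prime dividing the number of such pairs. Then every element of `T` of order `r` fixes such a pair (both `U` and `W`) if and only if `r ≠ p` and either (i) `i = 1` and (`r ∣ m`, or `(q−1)_r ≥ (n)_r` with `q ≡ 1 (mod 4)` required when `r = 2` and `n` is even), or (ii) `2 ≤ i ≤ m` and `n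 mod i ≥ 2 (m mod i)`. -/
theorem result {F : Type*} [Field F] [Fintype F] {p : ℕ} [Fact p.Prime] [CharP F p] {q : ℕ} (hq : Fintype.card F = q)
    (n m : ℕ) (hn : 2 ≤ n) (hT : (n, q) ≠ (2, 2) ∧ (n, q) ≠ (2, 3)) (hm : 1 ≤ m) (hmn : 2 * m < n)
    (r : ℕ) [Fact r.Prime]
    (hrΩ : r ∣ Nat.card {P : Submodule F (Fin n → F) × Submodule F (Fin n → F) //
        P.1 ≤ P.2 ∧ Module.finrank F ↥P.1 = m ∧ Module.finrank F ↥P.2 = n - m}) :
    (∀ x : Matrix.SpecialLinearGroup (Fin n) F,
      (∃ c : F, ((x ^ r : Matrix.SpecialLinearGroup (Fin n) F) : Matrix (Fin n) (Fin n) F) = c • (1 : Matrix (Fin n) (Fin n) F)) →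
      (∀ c : F, (x : Matrix (Fin n) (Fin n) F) ≠ c • (1 : Matrix (Fin n) (Fin n) F)) →
      ∃ U W : Submodule F (Fin n → F), U ≤ W ∧ Module.finrank F ↥U = m ∧ Module.finrank F ↥W = n - m ∧
        U.map (Matrix.toLin' (x : Matrix (Fin n) (Fin n) F)) ≤ U ∧ W.map (Matrix.toLin' (x : Matrix (Fin n) (Fin n) F)) ≤ W) ↔
    (r ≠ p ∧
      ((orderOf (q : ZMod r) = 1 ∧ (r ∣ m ∨ (padicValNat r n ≤ padicValNat r (q - 1) ∧ (r = 2 → Even n → q % 4 = 1)))) ∨
       (2 ≤ orderOf (q : ZMod r) ∧ orderOf (q : ZMod r) ≤ m ∧ 2 * (m % orderOf (q : ZMod r)) ≤ n % orderOf (q : ZMod r)))) := by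
  subst hq
  rw [CfsgLib.MaxSub.SubspaceNumber.flags_card] at hrΩ
  have hdim : m ≤ Module.finrank F (Fin n → F) := by rw [Module.finrank_fin_fun]; omega
  have hdim' : m ≤ Module.finrank F (Fin (n - m) → F) := by rw [Module.finrank_fin_fun]; omega
  have hsym := CfsgLib.MaxSub.SubspaceNumber.num_symm (F := F) hdim
  rw [Module.finrank_fin_fun] at hsym
  rw [hsym] at hrΩ
  have hrp : r ≠ p := by
    rintro rfl
    rcases (Fact.out : r.Prime).dvd_mul.1 hrΩ with h | h
    · exact CfsgLib.MaxSub.SubspaceNumber.num_not_dvd (F := F) hdim h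
    · exact CfsgLib.MaxSub.SubspaceNumber.num_not_dvd (F := F) hdim' h
  obtain ⟨j, hj, hjd⟩ : ∃ j, j < 2 * m ∧ orderOf (Fintype.card F : ZMod r) ∣ n - j := by
    rcases (Fact.out : r.Prime).dvd_mul.1 hrΩ with h | h
    · obtain ⟨j, hj, hjd⟩ := CfsgLib.MaxSub.SubspaceNumber.exists_dvd hdim h
      rw [Module.finrank_fin_fun] at hjd
      exact ⟨j, by omega, hjd⟩
    · obtain ⟨j, hj, hjd⟩ := CfsgLib.MaxSub.SubspaceNumber.exists_dvd hdim' h
      rw [Module.finrank_fin_fun] at hjd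
      exact ⟨m + j, by omega, by rwa [Nat.sub_add_eq]⟩
  have hpos := CfsgLib.MaxSub.SemiCriterion.order_pos (F := F) (p := p) hrp
  set i := orderOf (Fintype.card F : ZMod r) with hidef
  have hbig : 2 * m ≤ n % i → False := fun hle => by
    obtain ⟨t, ht⟩ := hjd
    have h1 : (n - j) % i = n % i - j := by
      have h := Nat.mod_add_div n i
      have h2 : n - j = (n % i - j) + i * (n / i) := by omega
      rw [h2, Nat.add_mul_mod_self_left, Nat.mod_eq_of_lt (by have := Nat.mod_lt n hpos; omega)]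
    rw [ht, Nat.mul_mod_right] at h1
    omega
  have hin : i ≤ n := (Nat.le_of_dvd (by omega) hjd).trans (Nat.sub_le n j)
  constructor
  · intro hall
    refine ⟨hrp, ?_⟩
    by_cases h1 : i = 1
    · refine Or.inl ⟨h1, ?_⟩
      by_contra hb
      obtain ⟨x, c, hx, hns, hrm, hdiv⟩ :=
        CfsgLib.MaxSub.SemiCriterion.exists_elem_one (p := p) hrp rfl (by omega) h1 (m := m) hb
      obtain ⟨U, W, -, hU, -, hUi, -⟩ := hall x ⟨c, by rw [Matrix.SpecialLinearGroup.coe_pow]; exact hx⟩ hns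
      exact hrm (hU ▸ hdiv U hUi)
    · refine Or.inr ?_
      obtain ⟨x, hx, hns, E, hE, hmod⟩ :=
        CfsgLib.MaxSub.SemiCriterion.exists_elem (p := p) hrp rfl hidef.symm (by omega) hin
      obtain ⟨U, W, hUW, hU, hW, hUi, hWi⟩ := hall x ⟨1, by rw [Matrix.SpecialLinearGroup.coe_pow]; exact hx⟩ hns
      have h := hmod U hUi
      have h' := hmod W hWi
      have hle : Module.finrank F ↥(U ⊓ E) ≤ Module.finrank F ↥(W ⊓ E) :=
        Submodule.finrank_mono (inf_le_inf_right E hUW)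
      have hle' : Module.finrank F ↥(W ⊓ E) ≤ n % i := (Submodule.finrank_mono inf_le_right).trans hE
      have hlt := Nat.mod_lt n hpos
      rw [hU, Nat.ModEq, Nat.mod_eq_of_lt (lt_of_le_of_lt (hle.trans hle') hlt)] at h
      rw [hW, Nat.ModEq, Nat.mod_eq_of_lt (lt_of_le_of_lt hle' hlt)] at h'
      have hsum : (n % i) = (m % i + (n - m) % i) % i := by
        rw [← Nat.add_mod, Nat.add_sub_cancel' (by omega)]
      have hkey : 2 * (m % i) ≤ n % i := by
        have hm' := Nat.mod_lt m hpos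
        have hnm' := Nat.mod_lt (n - m) hpos
        by_cases hc : m % i + (n - m) % i < i
        · rw [Nat.mod_eq_of_lt hc] at hsum; omega
        · rw [Nat.mod_eq_sub_mod (not_lt.1 hc), Nat.mod_eq_of_lt (show m % i + (n - m) % i - i < i by omega)] at hsum; omega
      refine ⟨by omega, ?_, hkey⟩
      by_contra hlt'
      rw [Nat.mod_eq_of_lt (not_le.1 hlt')] at hkey
      exact hbig hkey
  · rintro ⟨-, hcond⟩ x ⟨c, hx⟩ -
    rw [Matrix.SpecialLinearGroup.coe_pow] at hx
    have hbase : i = 1 → CfsgLib.MaxSub.SemiCriterion.Base r (Fintype.card F) n m := fun h1 => by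
      rcases hcond with ⟨-, h⟩ | ⟨h, -⟩
      · exact h
      · omega
    have harith : 2 * (m % i) ≤ n % i := by
      rcases hcond with ⟨h, -⟩ | ⟨-, -, h⟩
      · rw [h, Nat.mod_one]; exact Nat.zero_le _
      · exact h
    rcases CfsgLib.MaxSub.SemiCriterion.reduce (p := p) hrp rfl (by omega) hbase x hx with ⟨y, hy, hinv⟩ | ⟨hc, hrm, hrn⟩
    · obtain ⟨U, W, hUW, hU, hW, hUd, hWd⟩ :=
        CfsgLib.MaxSub.SemiCriterion.nested_of_order (p := p) hrp hy (by omega) harith
      exact ⟨U, W, hUW, hUd, hWd, hinv U hU, hinv W hW⟩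
    · obtain ⟨U, W, hUW, hU, hW, hUd, hWd⟩ := CfsgLib.MaxSub.SemiDims.exists_nested_not_pow (Fact.out : r.Prime)
        (CfsgLib.MaxSub.SemiCriterion.toLin_pow hx) hc hrm (Nat.dvd_sub hrn hrm) (by omega)
        (by rw [Module.finrank_fin_fun]; omega)
      exact ⟨U, W, hUW, hUd, hWd, hU, hW⟩


end Cfsg.Agent.S5951
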