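import Cfsg.Statements.S5952
import Mathlib.Algebra.DirectSum.Module
import Mathlib.LinearAlgebra.FiniteDimensional.Basic
import Mathlib.LinearAlgebra.Eigenspace.Basic

set_option autoImplicit false
open Cfsg

namespace Cfsg.Agent.S5952


/-- Which dimensions of invariant subspaces a semisimple linear map has. Let `V` be a finite-dimensional vector space over a field `F` and `f` an invertible semisimple linear map of `V`. Suppose `V` is the internal direct sum of the fixed space `C_V(f)` (the eigenspace for 1) and subspaces `U_1, …, U_s`, each `f`-invariant of dimension `a ≥ 1` on which `f` acts irreducibly (no `f`-invariant subspaces other than 0 and `U_j`). Let `0 < m < dim V` and `ℓ = m mod a`. Then `f` leaves some `m`-dimensional subspace invariant if and only if `dim C_V(f) ≥ m`, or `a ≤ m` and `dim C_V(f) ≥ ℓ`. -/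
theorem result {F V : Type*} [Field F] [AddCommGroup V] [Module F V]
    [FiniteDimensional F V] (f : V →ₗ[F] V) (hf : Function.Bijective f) (hss : Module.End.IsSemisimple f)
    {s a : ℕ} (ha : 1 ≤ a) (U : Fin s → Submodule F V)
    (hUinv : ∀ j, (U j).map f ≤ U j) (hUdim : ∀ j, Module.finrank F ↥(U j) = a)
    (hUirr : ∀ j, ∀ W : Submodule F V, W ≤ U j → W.map f ≤ W → W = ⊥ ∨ W = U j)
    (hdec : DirectSum.IsInternal (fun o : Option (Fin s) => o.elim (Module.End.eigenspace f 1) U))
    (m : ℕ) (hm : 0 < m) (hmV : m < Module.finrank F V) :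
    (∃ W : Submodule F V, Module.finrank F ↥W = m ∧ W.map f ≤ W) ↔
    (m ≤ Module.finrank F ↥(Module.End.eigenspace f 1) ∨
      (a ≤ m ∧ m % a ≤ Module.finrank F ↥(Module.End.eigenspace f 1))) := by
  classical
  set E := Module.End.eigenspace f 1 with hE
  have hind := hdec.submodule_iSupIndep
  have htop := hdec.submodule_iSup_eq_top
  have hEinv : E.map f ≤ E := by
    rintro _ ⟨x, hx, rfl⟩
    have h : f x = x := by simpa using Module.End.mem_eigenspace_iff.1 hx
    exact h.symm ▸ hx
  let P : ℕ → Submodule F V := fun k => E ⊔ ⨆ j : Fin s, ⨆ _ : j.val < k, U j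
  have hPinv : ∀ k, (P k).map f ≤ P k := fun k => by
    simp only [P, Submodule.map_sup, Submodule.map_iSup]
    exact sup_le_sup hEinv (iSup₂_mono fun j _ => hUinv j)
  have hP0 : P 0 = E := by simp [P]
  have hPtop : P s = ⊤ := by
    rw [eq_top_iff, ← htop, iSup_le_iff]
    rintro (_ | j)
    · exact le_sup_left
    · exact le_sup_of_le_right (le_iSup₂_of_le j j.2 le_rfl)
  have hdisj : ∀ k (hk : k < s), P k ⊓ U ⟨k, hk⟩ = ⊥ := fun k hk => by
    refine le_bot_iff.1 (le_trans (inf_le_inf_right _ ?_) (hind (some ⟨k, hk⟩)).symm.le_bot)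
    refine sup_le (le_iSup₂_of_le none (by simp) le_rfl) (iSup₂_le fun j hj => ?_)
    exact le_iSup₂_of_le (some j) (fun e => absurd (congrArg Fin.val (Option.some.inj e)) (Nat.ne_of_lt hj)) le_rfl
  have hsucc : ∀ k (hk : k < s), P (k + 1) = P k ⊔ U ⟨k, hk⟩ := fun k hk => by
    apply le_antisymm
    · refine sup_le (le_sup_of_le_left le_sup_left) (iSup₂_le fun j hj => ?_)
      rcases Nat.lt_succ_iff_lt_or_eq.1 hj with h | h
      · exact le_sup_of_le_left (le_sup_of_le_right (le_iSup₂_of_le j h le_rfl))
      · exact le_sup_of_le_right (le_of_eq (congrArg U (Fin.ext h)))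
    · exact sup_le (sup_le_sup le_rfl (iSup₂_mono' fun j hj => ⟨j, Nat.lt_succ_of_lt hj, le_rfl⟩))
        (le_sup_of_le_right (le_iSup₂_of_le ⟨k, hk⟩ (Nat.lt_succ_self k) le_rfl))
  have hdimP : ∀ k, k ≤ s → Module.finrank F (P k) = Module.finrank F E + k * a := fun k => by
    induction k with
    | zero => intro _; rw [hP0, zero_mul, add_zero]
    | succ k ih =>
      intro hk
      have h := Submodule.finrank_sup_add_finrank_inf_eq (P k) (U ⟨k, hk⟩)
      rw [hdisj k hk, finrank_bot, add_zero, ← hsucc k hk, hUdim, ih (by omega)] at h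
      rw [h, Nat.succ_mul]; omega
  constructor
  · rintro ⟨W, hWdim, hWinv⟩
    have key : ∀ k, k ≤ s → ∃ i e, Module.finrank F (W ⊓ P k : Submodule F V) = i * a + e ∧
        e ≤ Module.finrank F E := fun k => by
      induction k with
      | zero =>
        intro _
        exact ⟨0, _, (zero_mul a).symm ▸ (zero_add _).symm, by rw [hP0]; exact Submodule.finrank_mono inf_le_right⟩
      | succ k ih =>
        intro hk
        obtain ⟨i, e, hie, he⟩ := ih (by omega)
        set X := (W ⊓ P (k + 1)) ⊔ P k with hX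
        have hXinv : X.map f ≤ X := by
          rw [hX, Submodule.map_sup]
          exact sup_le_sup ((Submodule.map_inf_le _).trans (inf_le_inf hWinv (hPinv _))) (hPinv _)
        have hXle : X ≤ P k ⊔ U ⟨k, hk⟩ := by
          rw [← hsucc k hk]; exact sup_le inf_le_right (by rw [hsucc k hk]; exact le_sup_left)
        have hmod : P k ⊔ (U ⟨k, hk⟩ ⊓ X) = X := by
          rw [← sup_inf_assoc_of_le (U ⟨k, hk⟩) (show P k ≤ X from le_sup_right)]; exact inf_eq_right.2 hXle
        have hmono : P k ≤ P (k + 1) := by rw [hsucc k hk]; exact le_sup_left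
        rcases hUirr ⟨k, hk⟩ _ inf_le_left ((Submodule.map_inf_le _).trans (inf_le_inf (hUinv _) hXinv)) with h | h
        · rw [h, sup_bot_eq] at hmod
          refine ⟨i, e, ?_, he⟩
          rw [← hie]
          have hle : W ⊓ P (k + 1) ≤ P k := le_sup_left.trans hmod.symm.le
          exact congrArg (fun Z : Submodule F V => Module.finrank F Z) (le_antisymm (le_inf inf_le_left hle) (inf_le_inf_left _ hmono))
        · rw [h, ← hsucc k hk] at hmod
          refine ⟨i + 1, e, ?_, he⟩
          have h1 := Submodule.finrank_sup_add_finrank_inf_eq (W ⊓ P (k + 1)) (P k)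
          rw [← hX, ← hmod, hdimP _ (by omega), hdimP _ (by omega), inf_assoc, inf_eq_right.2 hmono, hie,
            Nat.succ_mul] at h1
          rw [Nat.succ_mul]
          omega
    obtain ⟨i, e, hie, he⟩ := key s le_rfl
    rw [hPtop, inf_top_eq, hWdim] at hie
    rcases Nat.eq_zero_or_pos i with rfl | hi
    · exact Or.inl (by omega)
    · refine Or.inr ⟨by have := Nat.le_mul_of_pos_left a hi; omega, ?_⟩
      rw [hie, Nat.mul_add_mod_self_right]
      exact (Nat.mod_le _ _).trans he
  · intro h
    have hdimV : Module.finrank F V = Module.finrank F E + s * a := by rw [← hdimP s le_rfl, hPtop, finrank_top]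
    obtain ⟨k, hk, hk1, hk2⟩ : ∃ k, k ≤ s ∧ k * a ≤ m ∧ m ≤ Module.finrank F E + k * a := by
      rcases h with h | ⟨ha', h⟩
      · exact ⟨0, Nat.zero_le _, by simp, by omega⟩
      · by_cases hs : m / a ≤ s
        · refine ⟨m / a, hs, Nat.div_mul_le_self m a, ?_⟩
          have := Nat.div_add_mod' m a; omega
        · refine ⟨s, le_rfl, ?_, by omega⟩
          exact (Nat.mul_le_mul_right a (by omega : s ≤ m / a)).trans (Nat.div_mul_le_self m a)
    obtain ⟨E', hE'le, hE'dim⟩ : ∃ E' : Submodule F V, E' ≤ E ∧ Module.finrank F E' = m - k * a := by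
      obtain ⟨S, hS⟩ := exists_linearIndependent_of_le_finrank (R := F) (M := E) (n := m - k * a) (by omega)
      refine ⟨(Submodule.span F (Set.range S)).map E.subtype, Submodule.map_subtype_le _ _, ?_⟩
      rw [Submodule.finrank_map_subtype_eq, finrank_span_eq_card hS, Fintype.card_fin]
    have hE'inv : E'.map f ≤ E' := by
      rintro _ ⟨x, hx, rfl⟩
      have h : f x = x := by simpa using Module.End.mem_eigenspace_iff.1 (hE'le hx)
      exact h.symm ▸ hx
    let R : Submodule F V := ⨆ j : Fin s, ⨆ _ : j.val < k, U j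
    refine ⟨E' ⊔ R, ?_, ?_⟩
    · have hd1 : E ⊓ R = ⊥ := by
        refine le_bot_iff.1 (le_trans (inf_le_inf_left _ ?_) (hind none).le_bot)
        exact iSup₂_le fun j _ => le_iSup₂_of_le (some j) (by simp) le_rfl
      have hd2 : E' ⊓ R = ⊥ := le_bot_iff.1 ((inf_le_inf_right _ hE'le).trans hd1.le)
      have h1 := Submodule.finrank_sup_add_finrank_inf_eq E R
      have h2 := Submodule.finrank_sup_add_finrank_inf_eq E' R
      rw [hd1, finrank_bot, add_zero, show E ⊔ R = P k from rfl, hdimP k hk] at h1
      rw [hd2, finrank_bot, add_zero] at h2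
      omega
    · simp only [R, Submodule.map_sup, Submodule.map_iSup]
      exact sup_le_sup hE'inv (iSup₂_mono fun j _ => hUinv j)

end Cfsg.Agent.S5952
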