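import Cfsg.Statements.S5953
import Cfsg.Agent.Lib.MaxSub.IsoOdd
import Cfsg.Agent.Lib.MaxSub.IsoHerm
import Cfsg.Agent.Lib.MaxSub.IsoWitness
-- import your own Cfsg.Agent.* helpers here

set_option autoImplicit false
open scoped MatrixGroups
open Cfsg

namespace Cfsg.Agent.S5953

open CfsgLib CfsgLib.MaxSub CfsgLib.MaxSub.IsoSemi CfsgLib.Classical Polynomial Matrix

section

universe u
variable {F : Type u} [Field F] [Fintype F] {q n : ℕ} (hF : Fintype.card F = q ^ 2)

local notation "𝕍" => Fin n → F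

include hF in
theorem units_pow {z : F} (hz : z ≠ 0) : z ^ ((q - 1) * (q + 1)) = 1 := by
  have h := FiniteField.pow_card_sub_one_eq_one z hz
  rwa [hF, show q ^ 2 - 1 = (q - 1) * (q + 1) by
    rw [← one_pow 2, Nat.sq_sub_sq, mul_comm]; norm_num] at h

theorem gu_iso {A : GL (Fin n) F} (hA : A ∈ Cfsg.GU n F q) (u v : 𝕍) :
    hermB hF n ((A : Matrix (Fin n) (Fin n) F) *ᵥ u) ((A : Matrix (Fin n) (Fin n) F) *ᵥ v) = hermB hF n u v := by
  rw [hermB_apply, hermB_apply]
  exact hA v u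

theorem su_iso {A : Matrix.SpecialLinearGroup (Fin n) F} (hA : A ∈ Cfsg.SU n F q) (u v : 𝕍) :
    hermB hF n ((A : Matrix (Fin n) (Fin n) F) *ᵥ u) ((A : Matrix (Fin n) (Fin n) F) *ᵥ v) = hermB hF n u v := by
  rw [hermB_apply, hermB_apply]
  exact hA v u

theorem scalar_norm {M : Matrix (Fin n) (Fin n) F} (hn : 0 < n)
    (hM : ∀ u v, hermB hF n (M *ᵥ u) (M *ᵥ v) = hermB hF n u v) {z : F} (h : M = z • 1) : z ^ (q + 1) = 1 := by
  let e : 𝕍 := Pi.single ⟨0, hn⟩ 1
  have he : hermB hF n e e = 1 := by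
    rw [hermB_apply, Cfsg.hermForm, Finset.sum_eq_single ⟨0, hn⟩]
    · simp [e]
    · intro j _ hj
      simp [e, Pi.single_apply, hj]
    · simp
  have h1 := hM e e
  simp only [h, Matrix.smul_mulVec, Matrix.one_mulVec, LinearMap.map_smulₛₗ, LinearMap.smul_apply, map_smul, he,
    qFrob_apply, smul_eq_mul, RingHom.id_apply, mul_one] at h1
  rw [pow_succ]
  linear_combination h1

/-- An isometric involution of a Hermitian space fixes a totally isotropic subspace. -/
theorem exists_invol (h2 : (2 : F) ≠ 0) {S : Module.End F 𝕍} (hS : S * S = 1)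
    (hiso : ∀ x y, hermB hF n (S x) (S y) = hermB hF n x y) {m : ℕ}
    (hm : 2 * m < n ∨ (2 * m ≤ n ∧ LinearMap.det S = 1)) :
    ∃ W : Submodule F 𝕍, Module.finrank F W = m ∧ TI (hermB hF n) W ∧ W.map S ≤ W := by
  have hG := IsoHerm.geom hF n
  obtain ⟨P, hP⟩ : ∃ P, P = LinearMap.ker (S - 1) := ⟨_, rfl⟩
  obtain ⟨N, hN⟩ : ∃ N, N = LinearMap.ker (S + 1) := ⟨_, rfl⟩
  have hPm : ∀ x, x ∈ P ↔ S x = x := fun x => by
    rw [hP, LinearMap.mem_ker, LinearMap.sub_apply, Module.End.one_apply, sub_eq_zero]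
  have hNm : ∀ x, x ∈ N ↔ S x = -x := fun x => by
    rw [hN, LinearMap.mem_ker, LinearMap.add_apply, Module.End.one_apply, add_eq_zero_iff_eq_neg]
  have hTT : ∀ x, S (S x) = x := fun x => LinearMap.congr_fun hS x
  have hdec : ∀ v, v = (2 : F)⁻¹ • (v + S v) + (2 : F)⁻¹ • (v - S v) := fun v => by
    rw [← smul_add, show v + S v + (v - S v) = (2 : F) • v by rw [two_smul]; abel, smul_smul,
      inv_mul_cancel₀ h2, one_smul]
  have hp : ∀ v, (2 : F)⁻¹ • (v + S v) ∈ P := fun v => P.smul_mem _ ((hPm _).2 (by rw [map_add, hTT, add_comm]))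
  have hn' : ∀ v, (2 : F)⁻¹ • (v - S v) ∈ N := fun v => N.smul_mem _ ((hNm _).2 (by rw [map_sub, hTT, neg_sub]))
  have hperp : ∀ x ∈ P, ∀ y ∈ N, hermB hF n x y = 0 := fun x hx y hy => by
    have h := hiso x y
    rw [(hPm x).1 hx, (hNm y).1 hy, map_neg] at h
    exact (mul_eq_zero.1 (by linear_combination -h : (2 : F) * hermB hF n x y = 0)).resolve_left h2
  have hPnd : ND (hermB hF n) P := fun x hx h => hG.sep x fun v => by
    rw [hdec v, map_add, h _ (hp v), hperp x hx _ (hn' v), add_zero]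
  have hNnd : ND (hermB hF n) N := fun x hx h => hG.sep x fun v => by
    rw [hdec v, map_add, h _ (hn' v), hG.refl _ _ (hperp _ (hp v) x hx), add_zero]
  have hPN : P ⊓ N = ⊥ := (Submodule.eq_bot_iff _).2 fun x ⟨hx, hx'⟩ => hPnd x hx fun v hv =>
    hG.refl _ _ (hperp v hv x hx')
  have hsup : P ⊔ N = ⊤ := eq_top_iff.2 fun v _ => by
    rw [hdec v]; exact Submodule.add_mem_sup (hp v) (hn' v)
  have hsum : Module.finrank F P + Module.finrank F N = n := by
    have h := Submodule.finrank_sup_add_finrank_inf_eq P N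
    rw [hsup, hPN, finrank_top, finrank_bot, Module.finrank_fin_fun, add_zero] at h
    exact h.symm
  have hdet : LinearMap.det S = (-1 : F) ^ Module.finrank F N := by
    have hc : IsCompl P N := ⟨disjoint_iff.2 hPN, codisjoint_iff.2 hsup⟩
    let e := Submodule.prodEquivOfIsCompl P N hc
    have hSe : S = (e : (P × N) →ₗ[F] 𝕍) ∘ₗ
        ((LinearMap.id : P →ₗ[F] P).prodMap ((-1 : F) • (LinearMap.id : N →ₗ[F] N))) ∘ₗ
          (e.symm : 𝕍 →ₗ[F] (P × N)) := by
      refine LinearMap.ext fun v => ?_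
      obtain ⟨⟨a, b⟩, rfl⟩ := e.surjective v
      rw [LinearMap.comp_apply, LinearMap.comp_apply, LinearEquiv.coe_coe, LinearEquiv.coe_coe, e.symm_apply_apply]
      simp only [e, Submodule.coe_prodEquivOfIsCompl', LinearMap.prodMap_apply, LinearMap.id_apply,
        LinearMap.smul_apply, map_add, (hPm a).1 a.2, (hNm b).1 b.2, Submodule.coe_smul, neg_one_smul,
        Submodule.coe_neg]
    rw [hSe, LinearMap.det_conj, LinearMap.det_prodMap, LinearMap.det_id, LinearMap.det_smul, LinearMap.det_id,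
      one_mul, mul_one]
  have h2' : (-1 : F) ≠ 1 := fun h => h2 (by linear_combination -h)
  have hbud : m ≤ Module.finrank F P / 2 + Module.finrank F N / 2 := by
    rcases hm with h | ⟨h, h1⟩
    · omega
    · rw [hdet, neg_one_pow_eq_one_iff_even h2', Nat.even_iff] at h1
      omega
  obtain ⟨W₁, hW₁, hW₁t, hW₁d⟩ := IsoHerm.exists_ti hF hG (hermB_conj hF) hPnd
    (min m (Module.finrank F P / 2)) (by omega)
  obtain ⟨W₂, hW₂, hW₂t, hW₂d⟩ := IsoHerm.exists_ti hF hG (hermB_conj hF) hNnd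
    (m - min m (Module.finrank F P / 2)) (by omega)
  refine ⟨W₁ ⊔ W₂, ?_, ti_sup hG hW₁t hW₂t fun y hy w hw => hperp w (hW₁ hw) y (hW₂ hy), inv_sup ?_ ?_⟩
  · have h := Submodule.finrank_sup_add_finrank_inf_eq W₁ W₂
    have hb : W₁ ⊓ W₂ = ⊥ := le_bot_iff.1 (hPN ▸ inf_le_inf hW₁ hW₂)
    rw [hb, finrank_bot, add_zero, hW₁d, hW₂d] at h
    omega
  · rintro _ ⟨w, hw, rfl⟩; rw [(hPm w).1 (hW₁ hw)]; exact hw
  · rintro _ ⟨w, hw, rfl⟩; rw [(hNm w).1 (hW₂ hw)]; exact W₂.neg_mem hw

/-- An anti-isometric involution fixes a totally isotropic subspace. -/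
theorem exists_anti (h2 : (2 : F) ≠ 0) {S : Module.End F 𝕍} (hS : S * S = 1)
    (hiso : ∀ x y, hermB hF n (S x) (S y) = -hermB hF n x y) {m : ℕ} (hm : 2 * m ≤ n) :
    ∃ W : Submodule F 𝕍, Module.finrank F W = m ∧ TI (hermB hF n) W ∧ W.map S ≤ W := by
  have hG := IsoHerm.geom hF n
  have htop : ND (hermB hF n) (⊤ : Submodule F 𝕍) := fun u _ h => hG.sep u fun v => h v trivial
  have hti : ∀ f : F, f * qFrob hF f = 1 → TI (hermB hF n) (LinearMap.ker (S - f • (1 : Module.End F 𝕍))) :=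
    fun f hf x hx y hy => by
      rw [LinearMap.mem_ker, LinearMap.sub_apply, sub_eq_zero, LinearMap.smul_apply, Module.End.one_apply] at hx hy
      have h := hiso x y
      simp only [hx, hy, LinearMap.map_smulₛₗ, LinearMap.smul_apply, map_smul, smul_eq_mul, RingHom.id_apply] at h
      exact (mul_eq_zero.1 (by linear_combination h - hermB hF n x y * hf :
        (2 : F) * hermB hF n x y = 0)).resolve_left h2
  have hle : LinearMap.range (S - (1 : F) • (1 : Module.End F 𝕍)) ≤
      LinearMap.ker (S - (-1 : F) • (1 : Module.End F 𝕍)) := by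
    rintro _ ⟨v, rfl⟩
    have hTT : S (S v) = v := LinearMap.congr_fun hS v
    show S (S v - (1 : F) • v) - (-1 : F) • (S v - (1 : F) • v) = 0
    rw [one_smul, map_sub, hTT, neg_one_smul]
    abel
  have h := (S - (1 : F) • (1 : Module.End F 𝕍)).finrank_range_add_finrank_ker
  rw [Module.finrank_fin_fun] at h
  have h1 := Submodule.finrank_mono hle
  have h3 := two_mul_ti_le hG htop le_top (hti (-1) (by simp))
  have h4 := two_mul_ti_le hG htop le_top (hti 1 (by simp))
  rw [finrank_top, Module.finrank_fin_fun] at h3 h4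
  obtain ⟨W, -, hW, hWd⟩ := SemiDims.exists_between (bot_le : ⊥ ≤ LinearMap.ker (S - (1 : F) • (1 : Module.End F 𝕍))) m
    (by rw [finrank_bot]; omega) (by omega)
  refine ⟨W, hWd, ti_mono hW (hti 1 (by simp)), ?_⟩
  rintro _ ⟨w, hw, rfl⟩
  have := hW hw
  rw [LinearMap.mem_ker, LinearMap.sub_apply, sub_eq_zero, LinearMap.smul_apply, Module.End.one_apply, one_smul] at this
  rwa [this]

include hF in
/-- A scalar with `z ^ (q + 1) = 1` and a large `2`-part of `n`. -/
theorem pow_ne_neg_one (h2 : (2 : F) ≠ 0) {w : F} (hw : w ^ (q + 1) = 1)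
    (hv : padicValNat 2 (q + 1) ≤ padicValNat 2 n) : w ^ n ≠ -1 := by
  haveI : Fact (Nat.Prime 2) := ⟨Nat.prime_two⟩
  intro hwn
  obtain ⟨Q, hQ⟩ := pow_padicValNat_dvd (p := 2) (n := q + 1)
  have hQodd : Odd Q := by
    rw [← Nat.not_even_iff_odd, even_iff_two_dvd]
    rintro ⟨t, rfl⟩
    exact pow_succ_padicValNat_not_dvd (p := 2) (n := q + 1) (by omega)
      ⟨t, by rw [pow_succ, mul_assoc]; exact hQ⟩
  obtain ⟨k, hk⟩ := (pow_dvd_pow 2 hv).trans (pow_padicValNat_dvd (p := 2) (n := n))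
  have h : (w ^ n) ^ Q = 1 := by
    conv_lhs => rw [hk]
    rw [← pow_mul, mul_right_comm, ← hQ, pow_mul, hw, one_pow]
  rw [hwn, hQodd.neg_one_pow] at h
  exact h2 (by linear_combination -h)

include hF in
/-- For small `2`-part of `n` some `w` has `w ^ n = -1`. -/
theorem exists_pow_neg_one (hq : Odd q) (hn : n ≠ 0) (hv : padicValNat 2 n < padicValNat 2 (q + 1)) :
    ∃ w : F, w ^ (q + 1) = 1 ∧ w ^ n = -1 := by
  haveI : Fact (Nat.Prime 2) := ⟨Nat.prime_two⟩
  obtain ⟨g, hg⟩ := IsCyclic.exists_generator (α := Fˣ)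
  have ho : orderOf g = (q - 1) * (q + 1) := by rw [orderOf_eq_card_of_forall_mem_zpowers hg, units_card_sq hF]
  obtain ⟨D, hD⟩ : ∃ D, D = 2 ^ (padicValNat 2 n + 1) := ⟨_, rfl⟩
  obtain ⟨t, ht⟩ : D ∣ q + 1 := hD ▸ (pow_dvd_pow 2 hv).trans pow_padicValNat_dvd
  obtain ⟨w, hw⟩ : ∃ w, w = g ^ ((q - 1) * t) := ⟨_, rfl⟩
  have hwD : w ^ D = 1 := by
    rw [hw, ← pow_mul, mul_assoc, mul_comm t, ← ht, ← ho, pow_orderOf_eq_one]
  have hwh : w ^ (2 ^ padicValNat 2 n) ≠ 1 := fun h => by
    rw [hw, ← pow_mul, ← orderOf_dvd_iff_pow_eq_one, ho, ht, hD, pow_succ, mul_assoc (q - 1)] at h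
    have hq2 : 2 ≤ q := two_le_of_card_sq hF
    have := Nat.le_of_dvd (Nat.pos_of_ne_zero (by
      intro h0; simp at h0; rcases h0 with h0 | rfl <;> simp at * <;> omega))
      (Nat.dvd_of_mul_dvd_mul_left (by omega : 0 < q - 1) h)
    have ht0 : 0 < t := Nat.pos_of_ne_zero fun e => by rw [e] at ht; simp at ht
    nlinarith [Nat.two_pow_pos (padicValNat 2 n)]
  obtain ⟨k, hk⟩ := pow_padicValNat_dvd (p := 2) (n := n)
  have hkodd : Odd k := by
    rw [← Nat.not_even_iff_odd, even_iff_two_dvd]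
    rintro ⟨s, rfl⟩
    exact pow_succ_padicValNat_not_dvd (p := 2) (n := n) hn ⟨s, by rw [pow_succ, mul_assoc]; exact hk⟩
  have hneg : (w : F) ^ (2 ^ padicValNat 2 n) = -1 := by
    refine (mul_self_eq_one_iff.1 ?_).resolve_left fun h => hwh (Units.ext (by simpa using h))
    rw [← pow_add, ← mul_two, ← pow_succ, ← hD, ← Units.val_pow_eq_pow_val, hwD, Units.val_one]
  refine ⟨(w : F), ?_, ?_⟩
  · rw [ht, pow_mul, ← Units.val_pow_eq_pow_val, hwD, Units.val_one, one_pow]
  · conv_lhs => rw [hk]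
    rw [pow_mul, hneg, hkodd.neg_one_pow]

/-- The diagonal element. -/
theorem diag_su {d : Fin n → F} (hd : ∀ j, d j ^ (q + 1) = 1) (h1 : ∏ j, d j = 1) :
    ∃ A : Matrix.SpecialLinearGroup (Fin n) F, A ∈ Cfsg.SU n F q ∧
      (A : Matrix (Fin n) (Fin n) F) = Matrix.diagonal d := by
  let A : Matrix.SpecialLinearGroup (Fin n) F := ⟨Matrix.diagonal d, by rw [Matrix.det_diagonal, h1]⟩
  refine ⟨A, fun u v => ?_, rfl⟩
  show Cfsg.hermForm n F q (Matrix.diagonal d *ᵥ u) (Matrix.diagonal d *ᵥ v) = Cfsg.hermForm n F q u v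
  refine Finset.sum_congr rfl fun j _ => ?_
  rw [Matrix.mulVec_diagonal, Matrix.mulVec_diagonal, mul_pow]
  calc _ = d j ^ (q + 1) * (u j * v j ^ q) := by ring
    _ = _ := by rw [hd, one_mul]

/-- Eigenspaces of a diagonal matrix. -/
theorem finrank_diag_le_one {d : Fin n → F} {a : F} (h : ∀ j l, d j = a → d l = a → j = l) :
    Module.finrank F ↥(LinearMap.ker (Matrix.toLinAlgEquiv' (Matrix.diagonal d) - a • (1 : Module.End F 𝕍))) ≤ 1 := by
  classical
  have hmem : ∀ v, v ∈ LinearMap.ker (Matrix.toLinAlgEquiv' (Matrix.diagonal d) - a • (1 : Module.End F 𝕍)) →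
      ∀ l, d l ≠ a → v l = 0 := fun v hv l hl => by
    have h1 : Matrix.diagonal d *ᵥ v - a • v = 0 := hv
    have h2 := congrFun h1 l
    simp only [Pi.sub_apply, Matrix.mulVec_diagonal, Pi.smul_apply, smul_eq_mul, Pi.zero_apply] at h2
    rw [← sub_mul, mul_eq_zero, sub_eq_zero] at h2
    exact h2.resolve_left hl
  by_cases hex : ∃ j, d j = a
  · obtain ⟨j, hj⟩ := hex
    refine (Submodule.finrank_mono (t := Submodule.span F {(Pi.single j 1 : 𝕍)}) fun v hv => ?_).trans
      (finrank_span_le_card ({(Pi.single j 1 : 𝕍)} : Set 𝕍) |>.trans (by simp))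
    refine Submodule.mem_span_singleton.2 ⟨v j, funext fun l => ?_⟩
    by_cases hl : l = j
    · subst hl; simp
    · rw [Pi.smul_apply, Pi.single_eq_of_ne hl, smul_zero, hmem v hv l fun e => hl (h _ _ e hj)]
  · push Not at hex
    rw [show LinearMap.ker (Matrix.toLinAlgEquiv' (Matrix.diagonal d) - a • (1 : Module.End F 𝕍)) = ⊥ from
      (Submodule.eq_bot_iff _).2 fun v hv => funext fun l => hmem v hv l (hex l), finrank_bot]
    exact zero_le_one

/-- The standard element with `L ^ r = z`. -/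
theorem exists_block {r k : ℕ} (hr0 : 0 < r) (hn : n = k * r) {z : F} (hz : z ^ (q + 1) = 1) :
    ∃ A : GL (Fin n) F, A ∈ Cfsg.GU n F q ∧ (A : Matrix (Fin n) (Fin n) F) ^ r = z • 1 ∧
      ∀ l, 2 * l ≤ k → ∃ W : Submodule F 𝕍, Module.finrank F W = l * r ∧ TI (hermB hF n) W ∧
        W.map (Matrix.toLinAlgEquiv' (A : Matrix (Fin n) (Fin n) F)) ≤ W := by
  classical
  haveI : NeZero r := ⟨hr0.ne'⟩
  let e : Fin n ≃ Fin k × ZMod r := (Fintype.equivFinOfCardEq (by simp [hn])).symm
  have hz0 : z ≠ 0 := fun h => by rw [h] at hz; simp at hz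
  obtain ⟨w, hwdef⟩ : ∃ w : ZMod r → F, w = fun j => if j = 0 then z else 1 := ⟨_, rfl⟩
  have hw : ∀ j, w j ^ (q + 1) = 1 := fun j => by rw [hwdef]; dsimp only; split_ifs <;> simp [hz]
  let L : Module.End F 𝕍 :=
    { toFun := fun v x => w (e x).2 * v (e.symm ((e x).1, (e x).2 - 1))
      map_add' := fun u v => funext fun x => by simp [mul_add]
      map_smul' := fun c v => funext fun x => by simp [mul_left_comm] }
  have hL : ∀ v a j, L v (e.symm (a, j)) = w j * v (e.symm (a, j - 1)) := fun v a j => by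
    show w (e (e.symm (a, j))).2 * _ = _
    rw [e.apply_symm_apply]
  have hpow : ∀ s v a j, (L ^ s) v (e.symm (a, j)) =
      (∏ t ∈ Finset.range s, w (j - (t : ZMod r))) * v (e.symm (a, j - (s : ZMod r))) := fun s => by
    induction s with
    | zero => intro v a j; simp
    | succ s ih =>
      intro v a j
      rw [pow_succ, Module.End.mul_apply, ih, hL, Finset.prod_range_succ, Nat.cast_succ, sub_add_eq_sub_sub]
      ring
  have hprod : ∀ j : ZMod r, ∏ t ∈ Finset.range r, w (j - (t : ZMod r)) = z := fun j => by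
    refine (Finset.prod_bij' (s := Finset.range r) (t := Finset.univ) (g := w) (fun t _ => j - (t : ZMod r)) (fun x _ => (j - x).val)
      (fun t _ => Finset.mem_univ _) (fun x _ => Finset.mem_range.2 (ZMod.val_lt _))
      (fun t ht => by simp [ZMod.val_natCast, Nat.mod_eq_of_lt (Finset.mem_range.1 ht)])
      (fun x _ => by simp) (fun t _ => rfl)).trans ?_
    rw [hwdef]
    simp
  have hLr : L ^ r = z • 1 := LinearMap.ext fun v => funext fun x => by
    obtain ⟨⟨a, j⟩, rfl⟩ := e.symm.surjective x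
    rw [hpow, hprod, ZMod.natCast_self, sub_zero]
    rfl
  obtain ⟨M, hM⟩ : ∃ M, M = LinearMap.toMatrixAlgEquiv' L := ⟨_, rfl⟩
  have hMv : ∀ v, M *ᵥ v = L v := fun v => by
    rw [hM, ← Matrix.toLinAlgEquiv'_apply, Matrix.toLinAlgEquiv'_toMatrixAlgEquiv']
  have hMr : M ^ r = z • 1 := by rw [hM, ← map_pow, hLr, map_smul, map_one]
  have hdet : M.det ≠ 0 := fun h => by
    have h1 := congrArg Matrix.det hMr
    rw [Matrix.det_pow, h, zero_pow hr0.ne', Matrix.det_smul, Matrix.det_one, mul_one] at h1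
    exact pow_ne_zero _ hz0 h1.symm
  refine ⟨Matrix.GeneralLinearGroup.mkOfDetNeZero M hdet, fun u v => ?_, hMr, fun l hl => ?_⟩
  · show Cfsg.hermForm n F q (M *ᵥ u) (M *ᵥ v) = Cfsg.hermForm n F q u v
    rw [hMv, hMv, Cfsg.hermForm, Cfsg.hermForm]
    refine Fintype.sum_equiv (e.trans (((Equiv.refl _).prodCongr (Equiv.subRight 1)).trans e.symm)) _ _ fun x => ?_
    obtain ⟨⟨a, j⟩, rfl⟩ := e.symm.surjective x
    rw [hL, hL, mul_pow]
    simp only [Equiv.trans_apply, e.apply_symm_apply, Equiv.prodCongr_apply, Prod.map, Equiv.refl_apply,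
      Equiv.subRight_apply]
    calc _ = w j ^ (q + 1) * (u (e.symm (a, j - 1)) * v (e.symm (a, j - 1)) ^ q) := by ring
      _ = _ := by rw [hw, one_mul]
  · obtain ⟨W₀, -, hW₀, hW₀d⟩ := IsoHerm.exists_ti hF (IsoHerm.geom hF k) (hermB_conj hF) (U := ⊤)
      (fun u _ hu => hermB_sep hF u fun v => hu v trivial) l (by simpa using hl)
    let Φ : (ZMod r → W₀) →ₗ[F] 𝕍 :=
      { toFun := fun y x => (y (e x).2 : Fin k → F) (e x).1
        map_add' := fun y y' => funext fun x => by simp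
        map_smul' := fun c y => funext fun x => by simp }
    have hΦ : ∀ y a j, Φ y (e.symm (a, j)) = (y j : Fin k → F) a := fun y a j => by
      show (y (e (e.symm (a, j))).2 : Fin k → F) (e (e.symm (a, j))).1 = _
      rw [e.apply_symm_apply]
    have hinj : Function.Injective Φ := fun y y' h => funext fun j => Subtype.ext (funext fun a => by
      rw [← hΦ, ← hΦ, h])
    refine ⟨LinearMap.range Φ, ?_, ?_, ?_⟩
    · rw [LinearMap.finrank_range_of_inj hinj, Module.finrank_pi_fintype, Finset.sum_const, Finset.card_univ,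
        ZMod.card, hW₀d, smul_eq_mul, mul_comm]
    · rintro _ ⟨y, rfl⟩ _ ⟨y', rfl⟩
      rw [hermB_apply, Cfsg.hermForm, ← e.symm.sum_comp, Fintype.sum_prod_type, Finset.sum_comm]
      refine Finset.sum_eq_zero fun j _ => ?_
      have h := hW₀ _ (y j).2 _ (y' j).2
      rw [hermB_apply, Cfsg.hermForm] at h
      simpa only [hΦ] using h
    · rintro _ ⟨_, ⟨y, rfl⟩, rfl⟩
      refine ⟨fun j => w j • y (j - 1), funext fun x => ?_⟩
      obtain ⟨⟨a, j⟩, rfl⟩ := e.symm.surjective x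
      show Φ _ (e.symm (a, j)) = (M *ᵥ Φ y) (e.symm (a, j))
      rw [hMv, hΦ, hL, hΦ]
      simp

include hF in
theorem not_dvd_of_ne {r : ℕ} (hr : r.Prime) (hr2 : r ≠ 2) (h : r ∣ q + 1) : ¬ r ∣ q - 1 := fun h1 => by
  have hq : 1 ≤ q := by
    rcases Nat.eq_zero_or_pos q with rfl | hq
    · simp at h; exact absurd h hr.ne_one
    · exact hq
  have h2 := Nat.dvd_sub h h1
  rw [show q + 1 - (q - 1) = 2 by omega] at h2
  exact hr2 ((Nat.prime_dvd_prime_iff_eq hr Nat.prime_two).1 h2)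

/-- Invariant subspaces of `T` with `T ^ r = z`, `z` not an `r`-th power. -/
theorem dvd_of_not_pow {V : Type*} [AddCommGroup V] [Module F V] [FiniteDimensional F V] {r : ℕ} (hr : r.Prime)
    {T : Module.End F V} {z : F} (hz0 : z ≠ 0) (hT : T ^ r = z • 1) (hz : ∀ w : F, w ^ r ≠ z) {W : Submodule F V}
    (hWi : W.map T ≤ W) : r ∣ Module.finrank F W := by
  let S : Module.End F W := T.restrict fun x hx => apply_mem hWi hx
  have hSk : ∀ k (x : W), ((S ^ k) x : V) = (T ^ k) (x : V) := fun k x => by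
    induction k with
    | zero => rfl
    | succ k ih => rw [pow_succ', pow_succ', Module.End.mul_apply, Module.End.mul_apply,
        LinearMap.coe_restrict_apply, ih]
  have hS : S ^ r = z • 1 := LinearMap.ext fun x => Subtype.ext (by rw [hSk, hT]; rfl)
  have h := congrArg LinearMap.det hS
  rw [map_pow, LinearMap.det_smul, map_one, mul_one] at h
  obtain ⟨D, hD⟩ : ∃ D, D = Module.finrank F W := ⟨_, rfl⟩
  rw [← hD] at h ⊢
  by_contra hnd
  have hcop : Nat.gcd D r = 1 := ((Nat.Prime.coprime_iff_not_dvd hr).2 hnd).symm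
  obtain ⟨a, b, hab⟩ : ∃ a b : ℤ, (1 : ℤ) = (D : ℤ) * a + (r : ℤ) * b :=
    ⟨Nat.gcdA D r, Nat.gcdB D r, by rw [← Nat.gcd_eq_gcd_ab, hcop, Nat.cast_one]⟩
  refine hz (LinearMap.det S ^ a * z ^ b) ?_
  rw [← zpow_natCast, mul_zpow, ← _root_.zpow_mul, ← _root_.zpow_mul, mul_comm a, _root_.zpow_mul, zpow_natCast, h,
    ← zpow_natCast z, ← _root_.zpow_mul, ← zpow_add₀ hz0, mul_comm b, ← hab, zpow_one]

variable {p : ℕ} [Fact p.Prime] [CharP F p]

include hF p in
/-- All elements with `T ^ r = z`, `z` not an `r`-th power, fix a totally isotropic subspace of dimension `l r`. -/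
theorem exists_of_not_pow {r k l : ℕ} (hr : r.Prime) (hrp : r ≠ p) (hn : n = k * r) {z : F} (hz : z ^ (q + 1) = 1)
    (hzr : ∀ w : F, w ^ r ≠ z) (hl : 2 * l ≤ k) {B : GL (Fin n) F} (hB : B ∈ Cfsg.GU n F q)
    (hBr : (B : Matrix (Fin n) (Fin n) F) ^ r = z • 1) :
    ∃ W : Submodule F 𝕍, Module.finrank F W = l * r ∧ TI (hermB hF n) W ∧
      W.map (Matrix.toLinAlgEquiv' (B : Matrix (Fin n) (Fin n) F)) ≤ W := by
  obtain ⟨A, hA, hAr, hAW⟩ := exists_block hF hr.pos hn hz
  have hg := X_pow_sub_C_irreducible_of_prime hr hzr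
  have hgm : (X ^ r - C z : F[X]).Monic := monic_X_pow_sub_C z hr.ne_zero
  have hchar : ∀ {M : Matrix (Fin n) (Fin n) F}, M ^ r = z • 1 → M.charpoly = (X ^ r - C z) ^ k := fun {M} hM => by
    obtain ⟨j, hj⟩ := KnownC.charpoly_eq_pow_of_aeval_pow_eq_zero M hg hgm (m := 1) (by
      rw [pow_one, map_sub, map_pow, aeval_X, aeval_C, hM, Algebra.algebraMap_eq_smul_one, sub_self])
    have hd := congrArg natDegree hj
    rw [Matrix.charpoly_natDegree_eq_dim, Fintype.card_fin, natDegree_pow, natDegree_X_pow_sub_C, hn] at hd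
    rw [hj, Nat.eq_of_mul_eq_mul_right hr.pos hd]
  obtain ⟨f, -, hf⟩ := FiniteField.card F p
  have hpq : p ∣ q := by
    have h : p ∣ q ^ 2 := by rw [← hF, hf]; exact dvd_pow_self p f.ne_zero
    exact (Fact.out : p.Prime).dvd_of_dvd_pow h
  have hco : ∀ {M : GL (Fin n) F}, (M : Matrix (Fin n) (Fin n) F) ^ r = z • 1 → (orderOf M).Coprime p := fun {M} hM => by
    refine Nat.Coprime.coprime_dvd_left (orderOf_dvd_of_pow_eq_one (n := r * (q + 1)) (Units.ext ?_))
      (Nat.Coprime.mul_left ((Nat.coprime_primes hr Fact.out).2 hrp) ?_)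
    · rw [Units.val_pow_eq_pow_val, pow_mul, hM, _root_.smul_pow, hz, one_pow, one_smul, Units.val_one]
    · refine ((Nat.Prime.coprime_iff_not_dvd (Fact.out : p.Prime)).2 fun h => ?_).symm
      exact (Fact.out : p.Prime).not_dvd_one ((Nat.dvd_add_right hpq).1 h)
  obtain ⟨h, hh⟩ := isConj_iff.1 ((SemiUnitary.isConj_iff_gl hF ⟨A, hA⟩ ⟨B, hB⟩).2
    (KnownB.SSClass.gl_isConj_of_charpoly p (hco hAr) (hco hBr) ((hchar hAr).trans (hchar hBr).symm)))
  have hh' : ((h : GL (Fin n) F) : Matrix (Fin n) (Fin n) F) * (A : Matrix (Fin n) (Fin n) F) =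
      (B : Matrix (Fin n) (Fin n) F) * (h : GL (Fin n) F) := by
    rw [← Units.val_mul, ← Units.val_mul]
    exact congrArg (fun X : ↥(Cfsg.GU n F q) => ((X : GL (Fin n) F) : Matrix (Fin n) (Fin n) F))
      (mul_inv_eq_iff_eq_mul.1 hh)
  obtain ⟨W, hWd, hW, hWi⟩ := hAW l hl
  obtain ⟨φ, hφ⟩ : ∃ φ : 𝕍 ≃ₗ[F] 𝕍, ∀ v, φ v = ((h : GL (Fin n) F) : Matrix (Fin n) (Fin n) F) *ᵥ v :=
    ⟨Classical.glLin (h : GL (Fin n) F), fun v => by rw [Classical.glLin_apply]⟩
  refine ⟨W.map (φ : 𝕍 →ₗ[F] 𝕍), by rw [LinearEquiv.finrank_map_eq]; exact hWd, ?_, ?_⟩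
  · rintro _ ⟨u, hu, rfl⟩ _ ⟨v, hv, rfl⟩
    rw [LinearEquiv.coe_coe, hφ, hφ, gu_iso hF h.2]
    exact hW u hu v hv
  · rintro _ ⟨_, ⟨u, hu, rfl⟩, rfl⟩
    refine ⟨_, apply_mem hWi hu, ?_⟩
    show φ ((A : Matrix (Fin n) (Fin n) F) *ᵥ u) = (B : Matrix (Fin n) (Fin n) F) *ᵥ φ u
    rw [hφ, hφ, Matrix.mulVec_mulVec, Matrix.mulVec_mulVec, hh']

include p in
/-- The determinant when `T ^ r = z` is not an `r`-th power. -/
theorem det_of_not_pow {r k : ℕ} (hr : r.Prime) (hrodd : Odd r) (hn : n = k * r) {z : F}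
    (hzr : ∀ w : F, w ^ r ≠ z) {M : Matrix (Fin n) (Fin n) F} (hM : M ^ r = z • 1) : M.det = z ^ k := by
  obtain ⟨j, hj⟩ := KnownC.charpoly_eq_pow_of_aeval_pow_eq_zero M (X_pow_sub_C_irreducible_of_prime hr hzr)
    (monic_X_pow_sub_C z hr.ne_zero) (m := 1) (by
      rw [pow_one, map_sub, map_pow, aeval_X, aeval_C, hM, Algebra.algebraMap_eq_smul_one, sub_self])
  have hd := congrArg natDegree hj
  rw [Matrix.charpoly_natDegree_eq_dim, Fintype.card_fin, natDegree_pow, natDegree_X_pow_sub_C, hn] at hd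
  obtain rfl := Nat.eq_of_mul_eq_mul_right hr.pos hd
  rw [Matrix.det_eq_sign_charpoly_coeff, Fintype.card_fin, hj, coeff_zero_eq_eval_zero, eval_pow, eval_sub,
    eval_pow, eval_X, eval_C, zero_pow hr.ne_zero, zero_sub, hn, mul_comm k, pow_mul, hrodd.neg_one_pow, ← mul_pow,
    neg_one_mul, neg_neg]

include hF in
/-- A norm-one scalar that is not an `r`-th power when the `r`-part of `n` is large. -/
theorem exists_not_pow {r k : ℕ} [hr : Fact r.Prime] (hr2 : r ≠ 2) (hrq : r ∣ q + 1) (hn : n = k * r) (hn0 : n ≠ 0)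
    (hv : padicValNat r (q + 1) < padicValNat r n) :
    ∃ z : F, z ^ (q + 1) = 1 ∧ z ^ k = 1 ∧ ∀ w : F, w ^ r ≠ z := by
  obtain ⟨g, hg⟩ := IsCyclic.exists_generator (α := Fˣ)
  have ho : orderOf g = (q - 1) * (q + 1) := by rw [orderOf_eq_card_of_forall_mem_zpowers hg, units_card_sq hF]
  obtain ⟨u, hu⟩ : ∃ u, u = padicValNat r (q + 1) := ⟨_, rfl⟩
  obtain ⟨t, ht⟩ : r ^ u ∣ q + 1 := hu ▸ pow_padicValNat_dvd
  have htr : ¬ r ∣ t := fun ⟨s, hs⟩ => pow_succ_padicValNat_not_dvd (p := r) (n := q + 1) (by omega)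
    (hu ▸ ⟨s, by rw [pow_succ, mul_assoc, ← hs]; exact ht⟩)
  obtain ⟨z, hz⟩ : ∃ z, z = g ^ ((q - 1) * t) := ⟨_, rfl⟩
  have hzu : z ^ r ^ u = 1 := by rw [hz, ← pow_mul, mul_assoc, mul_comm t, ← ht, ← ho, pow_orderOf_eq_one]
  refine ⟨(z : F), ?_, ?_, fun w hw => ?_⟩
  · rw [ht, pow_mul, ← Units.val_pow_eq_pow_val, hzu, Units.val_one, one_pow]
  · obtain ⟨s, hs⟩ : r ^ u ∣ k := by
      have h := (pow_dvd_pow r (show u + 1 ≤ padicValNat r n by omega)).trans pow_padicValNat_dvd
      rw [pow_succ, hn] at h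
      exact Nat.dvd_of_mul_dvd_mul_right hr.out.pos h
    rw [hs, pow_mul, ← Units.val_pow_eq_pow_val, hzu, Units.val_one, one_pow]
  · have hw0 : w ≠ 0 := fun h => z.ne_zero (by rw [← hw, h, zero_pow hr.out.ne_zero])
    obtain ⟨e, he⟩ := (mem_powers_iff_mem_zpowers (x := g)).2 (hg (Units.mk0 w hw0))
    have h1 : g ^ (e * r) = g ^ ((q - 1) * t) := by
      rw [← hz, pow_mul, show g ^ e = Units.mk0 w hw0 from he]
      exact Units.ext (by rw [Units.val_pow_eq_pow_val, Units.val_mk0, hw])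
    rw [pow_eq_pow_iff_modEq, ho] at h1
    have h2 : e * r ≡ (q - 1) * t [MOD r] := h1.of_dvd (hrq.trans (dvd_mul_left _ _))
    have h3 := (h2.symm.trans (Nat.modEq_zero_iff_dvd.2 (dvd_mul_left _ _)))
    exact ((hr.out.dvd_mul.1 (Nat.modEq_zero_iff_dvd.1 h3)).resolve_right htr).elim (fun s hs => by
      exact not_dvd_of_ne hF hr.out hr2 hrq ⟨s, hs⟩)

include hF in
/-- A norm-one scalar with `z ^ k = 1` is an `r`-th power when the `r`-part of `n` is small. -/
theorem pow_of_small {r k : ℕ} [hr : Fact r.Prime] (hrq : r ∣ q + 1) (hn : n = k * r) (hn0 : n ≠ 0)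
    (hv : padicValNat r n ≤ padicValNat r (q + 1)) {z : F} (hz : z ^ (q + 1) = 1) (hzk : z ^ k = 1) :
    ∃ w : F, w ^ r = z := by
  obtain ⟨g, hg⟩ := IsCyclic.exists_generator (α := Fˣ)
  have ho : orderOf g = (q - 1) * (q + 1) := by rw [orderOf_eq_card_of_forall_mem_zpowers hg, units_card_sq hF]
  obtain ⟨D, hD⟩ : ∃ D, D = Nat.gcd (q + 1) k := ⟨_, rfl⟩
  have hz0 : z ≠ 0 := fun h => by rw [h] at hz; simp at hz
  have hzD : z ^ D = 1 := hD ▸ pow_gcd_eq_one.2 ⟨hz, hzk⟩
  have hrD : r * D ∣ q + 1 := by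
    obtain ⟨t, ht⟩ := (hD ▸ Nat.gcd_dvd_left _ _ : D ∣ q + 1)
    by_cases hrt : r ∣ t
    · obtain ⟨s, rfl⟩ := hrt
      exact ⟨s, by rw [ht]; ring⟩
    exfalso
    have h1 : r ^ padicValNat r (q + 1) ∣ D :=
      (((Nat.Prime.coprime_iff_not_dvd hr.out).2 hrt).pow_left _).dvd_of_dvd_mul_right
        (ht ▸ pow_padicValNat_dvd)
    have h2 : r ^ (padicValNat r (q + 1) + 1) ∣ n := by
      rw [pow_succ, hn]
      exact mul_dvd_mul_right (h1.trans (hD ▸ Nat.gcd_dvd_right _ _)) r
    have := (padicValNat_dvd_iff_le hn0).1 h2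
    omega
  obtain ⟨e, he⟩ := (mem_powers_iff_mem_zpowers (x := g)).2 (hg (Units.mk0 z hz0))
  have h1 : g ^ (e * D) = 1 := by
    rw [pow_mul, show g ^ e = Units.mk0 z hz0 from he]
    exact Units.ext (by rw [Units.val_pow_eq_pow_val, Units.val_mk0, hzD, Units.val_one])
  rw [← orderOf_dvd_iff_pow_eq_one, ho] at h1
  have hDpos : 0 < D := hD ▸ Nat.gcd_pos_of_pos_left _ (by omega)
  obtain ⟨s, hs⟩ := Nat.dvd_of_mul_dvd_mul_right hDpos ((hrD.trans (dvd_mul_left _ _)).trans h1)
  refine ⟨((g ^ s : Fˣ) : F), ?_⟩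
  rw [← Units.val_pow_eq_pow_val, ← pow_mul, mul_comm, ← hs, show g ^ e = Units.mk0 z hz0 from he, Units.val_mk0]

theorem ctx_herm {r : ℕ} (hr : r.Prime) (hr2 : r ≠ 2) (hrF : (r : F) ≠ 0) {M : Matrix (Fin n) (Fin n) F}
    (hM : ∀ u v, hermB hF n (M *ᵥ u) (M *ᵥ v) = hermB hF n u v)
    (hMr : (Matrix.toLinAlgEquiv' M) ^ r = 1) : Ctx (hermB hF n) (Matrix.toLinAlgEquiv' M) r where
  toGeom := IsoHerm.geom hF n
  invol := qFrob_qFrob hF
  flip := ⟨1, by simp, fun u v => by rw [one_mul, hermB_conj]⟩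
  iso := fun u v => hM u v
  pow := hMr
  prime := hr
  rne := hrF
  rne2 := hr2

end

/-- Elements of prime order of PSU_n(q) with no fixed totally isotropic `m`-space. Here `T = PSU_n(q)` (`n ≥ 3`, `(n, q) ≠ (3, 2)`), realised through the matrices of determinant 1 over the field `F` with `q²` elements preserving the Hermitian form `h(u, v) = Σ u_i v_i^q`; an element of `T` of prime order `r` is such a matrix `x` with `x^r` scalar and `x` not scalar. For `r ≠ p` let `i` be the multiplicative order of `q` modulo `r`, `b = i/2` for `i` even and `b = i` for `i` odd, `c = i, i/2, 2i` according as `i ≡ 0, 2 (mod 4)` or `i` odd, and write `k = n mod c`, `ℓ = m mod b`, `ℓ' = m mod c`, `n' = ⌊n/b⌋`, `m' = ⌊m/b⌋`, `s = (r−1)/b`; `(a)_r` is the `r`-part of `a`. Let `1 ≤ m ≤ n/2` and let `r` be a prime dividing the number of totally isotropic `m`-spaces. Then every element of `T` of order `r` fixes a totally isotropic `m`-space if and only if either (i) `r = 2`, `p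 ≠ 2`, and (`m < n/2` or `(q+1)_2 ≤ (n)_2`); or (ii) `r ≠ p`, `r > 2`, `b ≤ m`, `k ≥ 2ℓ`, and either `i ≢ 2 (mod 4)`, or `i ≡ 2 (mod 4)`, `n' − 2m' ≥ s` and (`i > 2`, or `i = 2` and (`r ∣ m` or `(q+1)_r ≥ (n)_r`)). -/
theorem result {F : Type*} [Field F] [Fintype F] {p : ℕ} [Fact p.Prime] [CharP F p] {q : ℕ} (hq : Fintype.card F = q ^ 2)
    (n m : ℕ) (hn : 3 ≤ n) (hT : (n, q) ≠ (3, 2)) (hm : 1 ≤ m) (hmn : 2 * m ≤ n)
    (r : ℕ) [Fact r.Prime]
    (hrΩ : r ∣ Nat.card {W : Submodule F (Fin n → F) // Module.finrank F ↥W = m ∧ (∀ u ∈ W, ∀ v ∈ W, Cfsg.hermForm n F q u v = 0)})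
    (i b c : ℕ) (hi : i = orderOf (q : ZMod r)) (hb : b = if Even i then i / 2 else i)
    (hc : c = if i % 4 = 0 then i else if i % 4 = 2 then i / 2 else 2 * i) :
    (∀ x : Matrix.SpecialLinearGroup (Fin n) F, x ∈ Cfsg.SU n F q →
      (∃ z : F, ((x ^ r : Matrix.SpecialLinearGroup (Fin n) F) : Matrix (Fin n) (Fin n) F) = z • (1 : Matrix (Fin n) (Fin n) F)) →
      (∀ z : F, (x : Matrix (Fin n) (Fin n) F) ≠ z • (1 : Matrix (Fin n) (Fin n) F)) →
      ∃ W : Submodule F (Fin n → F), Module.finrank F ↥W = m ∧ (∀ u ∈ W, ∀ v ∈ W, Cfsg.hermForm n F q u v = 0) ∧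
        W.map (Matrix.toLin' (x : Matrix (Fin n) (Fin n) F)) ≤ W) ↔
    ((r = 2 ∧ p ≠ 2 ∧ (2 * m < n ∨ padicValNat 2 (q + 1) ≤ padicValNat 2 n)) ∨
     (r ≠ p ∧ 2 < r ∧ b ≤ m ∧ 2 * (m % b) ≤ n % c ∧
       (i % 4 ≠ 2 ∨ (i % 4 = 2 ∧ (r - 1) / b + 2 * (m / b) ≤ n / b ∧
         (2 < i ∨ (i = 2 ∧ (r ∣ m ∨ padicValNat r n ≤ padicValNat r (q + 1)))))))) := by
  classical
  have hr : r.Prime := Fact.out
  have hq2 := two_le_of_card_sq hq
  have hG := IsoHerm.geom hq n
  obtain ⟨hrp, j, hj, hjr⟩ := IsoHerm.dvd_count_herm (p := p) hq hmn hrΩ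
  have hrF : (r : F) ≠ 0 := SympOrderR.r_ne_zero (p := p) hr hrp
  obtain ⟨a, hqa⟩ := IsoHerm.exists_pow_of_card (p := p) (F := F) (q := q) (by rw [Nat.card_eq_fintype_card, hq])
  have hσ : ∀ x : F, qFrob hq x = x ^ p ^ a := fun x => by rw [qFrob_apply, hqa]
  have hto : ∀ M : Matrix (Fin n) (Fin n) F,
      (Matrix.toLin' M : (Fin n → F) →ₗ[F] (Fin n → F)) = Matrix.toLinAlgEquiv' M := fun _ => rfl
  have hscal : ∀ {M : Matrix (Fin n) (Fin n) F} {z : F},
      M = z • 1 → Matrix.toLinAlgEquiv' M = z • (1 : Module.End F (Fin n → F)) := by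
    rintro M z rfl; rw [map_smul, map_one]
  have hq0 : (q : ZMod r) ≠ 0 :=
    IsoHerm.q_ne_zero (p := p) (F := F) (by rw [Nat.card_eq_fintype_card, hq]) hrp
  suffices
      (∀ x : Matrix.SpecialLinearGroup (Fin n) F, x ∈ Cfsg.SU n F q →
        (∃ z : F, (x : Matrix (Fin n) (Fin n) F) ^ r = z • (1 : Matrix (Fin n) (Fin n) F)) →
        (∀ z : F, (x : Matrix (Fin n) (Fin n) F) ≠ z • (1 : Matrix (Fin n) (Fin n) F)) →
        ∃ W : Submodule F (Fin n → F), Module.finrank F ↥W = m ∧ TI (hermB hq n) W ∧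
          W.map (Matrix.toLinAlgEquiv' (x : Matrix (Fin n) (Fin n) F)) ≤ W) ↔
      ((r = 2 ∧ p ≠ 2 ∧ (2 * m < n ∨ padicValNat 2 (q + 1) ≤ padicValNat 2 n)) ∨
       (r ≠ p ∧ 2 < r ∧ b ≤ m ∧ 2 * (m % b) ≤ n % c ∧
         (i % 4 ≠ 2 ∨ (i % 4 = 2 ∧ (r - 1) / b + 2 * (m / b) ≤ n / b ∧
           (2 < i ∨ (i = 2 ∧ (r ∣ m ∨ padicValNat r n ≤ padicValNat r (q + 1)))))))) by
    have hTI : ∀ W : Submodule F (Fin n → F), (∀ u ∈ W, ∀ v ∈ W, Cfsg.hermForm n F q u v = 0) ↔
        TI (hermB hq n) W := fun W =>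
      ⟨fun h u hu v hv => by rw [hermB_apply]; exact h v hv u hu,
        fun h u hu v hv => by rw [← hermB_apply hq]; exact h v hv u hu⟩
    simp only [hTI, hto, Matrix.SpecialLinearGroup.coe_pow]
    exact this
  by_cases hr2 : r = 2
  · subst hr2
    have h2 : (2 : F) ≠ 0 := by exact_mod_cast hrF
    have hp2 : p ≠ 2 := Ne.symm hrp
    have hqodd : Odd q := hqa ▸ ((Fact.out : p.Prime).odd_of_ne_two hp2).pow
    constructor
    · intro h
      refine Or.inl ⟨rfl, hp2, ?_⟩
      by_contra hne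
      push Not at hne
      obtain ⟨hmn', hv⟩ := hne
      obtain ⟨w, hw1, hwn⟩ := exists_pow_neg_one hq (n := n) hqodd (by omega) hv
      obtain ⟨d, hd⟩ : ∃ d : Fin n → F, d = fun j : Fin n => if (j : ℕ) = n - 1 then -w else w := ⟨_, rfl⟩
      have hd1 : ∀ j, d j ^ (q + 1) = 1 := fun j => by
        rw [hd]; dsimp only
        split_ifs
        · rw [hqodd.add_one.neg_pow, hw1]
        · exact hw1
      have hprod : ∏ j, d j = 1 := by
        obtain ⟨l, rfl⟩ : ∃ l, n = l + 1 := ⟨n - 1, by omega⟩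
        rw [Fin.prod_univ_castSucc, hd]
        simp only [Fin.val_castSucc, Fin.val_last, Nat.add_sub_cancel, if_true]
        rw [Finset.prod_congr rfl fun (j : Fin l) _ => if_neg (ne_of_lt j.2), Finset.prod_const, Finset.card_univ,
          Fintype.card_fin, mul_neg, ← pow_succ, hwn, neg_neg]
      obtain ⟨A, hA, hAd⟩ := diag_su (q := q) hd1 hprod
      have hw0 : w ≠ 0 := fun e => by rw [e] at hw1; simp at hw1
      obtain ⟨W, hWd, hW, hWi⟩ := h A hA ⟨w * w, by
        rw [hAd, Matrix.diagonal_pow, ← Matrix.diagonal_one, ← Matrix.diagonal_smul]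
        congr 1
        funext j
        simp only [Pi.pow_apply, Pi.smul_apply, smul_eq_mul, mul_one, hd, sq]
        split_ifs <;> ring⟩ fun z hz => h2 (by
          rw [hAd, ← Matrix.diagonal_one, ← Matrix.diagonal_smul] at hz
          have hd' := Matrix.diagonal_injective hz
          have ha := congrFun hd' ⟨0, by omega⟩
          have hb := congrFun hd' ⟨n - 1, by omega⟩
          simp only [hd, Pi.smul_apply, smul_eq_mul, mul_one, show ¬ (0 : ℕ) = n - 1 by omega, if_true,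
            if_false] at ha hb
          refine (mul_eq_zero.1 (?_ : (2 : F) * w = 0)).resolve_right hw0
          linear_combination ha - hb)
      obtain ⟨l, rfl⟩ : ∃ l, n = l + 1 := ⟨n - 1, by omega⟩
      obtain ⟨P, hP⟩ : ∃ P : Submodule F (Fin (l + 1) → F), P = LinearMap.ker (LinearMap.proj (Fin.last l)) :=
        ⟨_, rfl⟩
      have hWP : W ≤ P := fun x hx => by
        have hyW : (Matrix.toLinAlgEquiv' (A : Matrix (Fin (l + 1)) (Fin (l + 1)) F) x) - w • x ∈ W :=
          W.sub_mem (apply_mem hWi hx) (W.smul_mem w hx)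
        have hy : ∀ j, ((Matrix.toLinAlgEquiv' (A : Matrix (Fin (l + 1)) (Fin (l + 1)) F) x) - w • x) j =
            (d j - w) * x j := fun j => by
          rw [Matrix.toLinAlgEquiv'_apply, hAd, Pi.sub_apply, Matrix.mulVec_diagonal, Pi.smul_apply, smul_eq_mul]
          ring
        have hyy := hW _ hyW _ hyW
        rw [hermB_apply, Cfsg.hermForm, Finset.sum_eq_single (Fin.last l)] at hyy
        · rw [← pow_succ', pow_eq_zero_iff (by omega), hy] at hyy
          rw [hP, LinearMap.mem_ker]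
          refine (mul_eq_zero.1 hyy).resolve_left fun e => ?_
          rw [hd] at e
          simp at e
          exact h2 ((mul_eq_zero.1 (by linear_combination -e : (2 : F) * w = 0)).resolve_right hw0)
        · intro j _ hj
          have hj' : ¬ (j : ℕ) = l + 1 - 1 := fun e => hj (Fin.ext (by simp; omega))
          rw [hy, hd]
          simp only [hj', if_false, sub_self, zero_mul]
        · simp
      have hPnd : ND (hermB hq (l + 1)) P := fun u hu hu' => funext fun j => by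
        rw [hP, LinearMap.mem_ker] at hu
        by_cases hjl : j = Fin.last l
        · rw [hjl]; exact hu
        refine (qFrob hq).injective ?_
        have := hu' (Pi.single j 1) (by rw [hP, LinearMap.mem_ker]; exact Pi.single_eq_of_ne (Ne.symm hjl) 1)
        rw [hermB_apply, Cfsg.hermForm, Finset.sum_eq_single j (fun k _ hk => by simp [Pi.single_eq_of_ne hk])
          (by simp), Pi.single_eq_same, one_mul] at this
        rw [qFrob_apply, this, Pi.zero_apply, map_zero]
      have h3 := two_mul_ti_le hG hPnd hWP hW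
      have h4 : Module.finrank F P ≤ l := by
        have h5 := (LinearMap.proj (R := F) (φ := fun _ => F) (Fin.last l)).finrank_range_add_finrank_ker
        rw [LinearMap.range_eq_top.2 (LinearMap.proj_surjective _), finrank_top, Module.finrank_self,
          Module.finrank_fin_fun, ← hP] at h5
        omega
      omega
    · rintro (⟨-, -, hcond⟩ | ⟨-, h, -⟩) A hA ⟨z, hz⟩ -
      swap
      · omega
      have hiso := su_iso hq hA
      have hz1 : z ^ (q + 1) = 1 := scalar_norm hq (by omega) (fun u v => by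
        rw [sq, ← Matrix.mulVec_mulVec, ← Matrix.mulVec_mulVec, hiso, hiso]) hz
      have hz0 : z ≠ 0 := fun e => by rw [e] at hz1; simp at hz1
      have hchar : ringChar F ≠ 2 := by rwa [ringChar.eq F p]
      obtain ⟨w, hw⟩ : IsSquare z := (FiniteField.isSquare_iff hchar hz0).2 (by
        obtain ⟨k, hk⟩ := hqodd
        rw [hq, show q ^ 2 / 2 = (q + 1) * k by
          rw [hk, show (2 * k + 1) ^ 2 = 2 * ((2 * k + 1 + 1) * k) + 1 by ring]; omega, pow_mul, hz1, one_pow])
      have hw0 : w ≠ 0 := fun e => hz0 (by rw [hw, e, mul_zero])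
      obtain ⟨S, hSdef⟩ : ∃ S, S = w⁻¹ • Matrix.toLinAlgEquiv' (A : Matrix (Fin n) (Fin n) F) := ⟨_, rfl⟩
      have hSS : S * S = 1 := by
        rw [hSdef, smul_mul_smul_comm, ← map_mul, hscal ((sq _).symm.trans hz), hw, smul_smul, ← mul_inv,
          inv_mul_cancel₀ (mul_ne_zero hw0 hw0), one_smul]
      have hww : w ^ (q + 1) * w ^ (q + 1) = 1 := by rw [← mul_pow, ← hw, hz1]
      have hSB : ∀ u v, hermB hq n (S u) (S v) = (w ^ (q + 1))⁻¹ * hermB hq n u v := fun u v => by
        rw [hSdef]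
        simp only [LinearMap.smul_apply, LinearMap.map_smulₛₗ, map_smul, smul_eq_mul, RingHom.id_apply,
          map_inv₀, qFrob_apply, Matrix.toLinAlgEquiv'_apply, hiso]
        rw [pow_succ, mul_inv]
        ring
      suffices ∃ W : Submodule F (Fin n → F), Module.finrank F W = m ∧ TI (hermB hq n) W ∧ W.map S ≤ W by
        obtain ⟨W, hWd, hW, hWi⟩ := this
        refine ⟨W, hWd, hW, ?_⟩
        rintro _ ⟨x, hx, rfl⟩
        have h := W.smul_mem w (apply_mem hWi hx)
        rwa [hSdef, LinearMap.smul_apply, smul_smul, mul_inv_cancel₀ hw0, one_smul] at h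
      rcases mul_self_eq_one_iff.1 hww with h1 | h1
      · have hiso' : ∀ u v, hermB hq n (S u) (S v) = hermB hq n u v := fun u v => by
          rw [hSB, h1, inv_one, one_mul]
        rcases hcond with hlt | hv
        · exact exists_invol hq h2 hSS hiso' (Or.inl hlt)
        refine exists_invol hq h2 hSS hiso' (Or.inr ⟨hmn, ?_⟩)
        have hdS := congrArg LinearMap.det hSS
        rw [map_mul, map_one] at hdS
        refine (mul_self_eq_one_iff.1 hdS).resolve_right fun h => ?_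
        have hdA : LinearMap.det (Matrix.toLinAlgEquiv' (A : Matrix (Fin n) (Fin n) F)) = 1 := by
          rw [show (Matrix.toLinAlgEquiv' (A : Matrix (Fin n) (Fin n) F)) =
            Matrix.toLin' (A : Matrix (Fin n) (Fin n) F) from rfl, LinearMap.det_toLin', A.2]
        rw [hSdef, LinearMap.det_smul, Module.finrank_fin_fun, hdA, mul_one, inv_pow] at h
        exact pow_ne_neg_one hq h2 h1 hv (by rw [← inv_inv (w ^ n), h, inv_neg, inv_one])
      · exact exists_anti hq h2 hSS (fun u v => by rw [hSB, h1, inv_neg, inv_one, neg_one_mul]) hmn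
  have hr3 : 2 < r := lt_of_le_of_ne hr.two_le (Ne.symm hr2)
  have hodd : Odd r := hr.odd_of_ne_two hr2
  have hi0 : 0 < i := IsoHerm.ord_pos_of_ne_zero hq0 hi
  have hbe := IsoHerm.b_eq_order hq hi hb
  have hbpos : 0 < b := by
    rw [hb]; split_ifs with h
    · obtain ⟨u, hu⟩ := h; omega
    · omega
  have hSD : SelfDual (Fintype.card F) (p ^ a) r ↔ i % 4 = 2 := hqa ▸ IsoHerm.sd_iff hq hr2 hq0 hi
  have hcb : (i % 4 = 2 → c = b) ∧ (¬ i % 4 = 2 → c = 2 * b) := by
    constructor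
    · intro h
      rw [hc, if_neg (by omega), if_pos h, hb, if_pos (Nat.even_iff.2 (by omega))]
    · intro h
      rw [hc, hb]
      by_cases h4 : i % 4 = 0
      · rw [if_pos h4, if_pos (Nat.even_iff.2 (by omega))]; omega
      · rw [if_neg h4, if_neg h, if_neg (by rw [Nat.even_iff]; omega)]
  have hcdvd : c ∣ n - j := by
    have h2 : (2 : ZMod r) ≠ 0 := fun h => hr2 ((Nat.prime_dvd_prime_iff_eq hr Nat.prime_two).1
      ((ZMod.natCast_eq_zero_iff 2 r).1 (by exact_mod_cast h)))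
    have h2k : i ∣ 2 * (n - j) := hi ▸ orderOf_dvd_of_pow_eq_one (by
      rw [mul_comm, pow_mul, hjr, ← pow_mul, mul_comm, pow_mul, neg_one_sq, one_pow])
    rcases Nat.even_or_odd (n - j) with hev | hod
    · have hik : i ∣ n - j := hi ▸ orderOf_dvd_of_pow_eq_one (by rw [hjr, hev.neg_one_pow])
      rcases Nat.even_or_odd i with hie | hio
      · rw [hc]
        split_ifs with h4 h4'
        · exact hik
        · exact (Nat.div_dvd_of_dvd (even_iff_two_dvd.1 hie)).trans hik
        · rw [Nat.even_iff] at hie; omega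
      · rw [hc, if_neg (by rw [Nat.odd_iff] at hio; omega), if_neg (by rw [Nat.odd_iff] at hio; omega)]
        exact (Nat.coprime_two_left.2 hio).mul_dvd_of_dvd_of_dvd (even_iff_two_dvd.1 hev) hik
    · have hie : Even i := by
        by_contra hne
        rw [Nat.not_even_iff_odd] at hne
        have h1 : ((q : ZMod r) ^ (n - j)) ^ i = 1 := by
          rw [← pow_mul, mul_comm, pow_mul, hi, pow_orderOf_eq_one, one_pow]
        rw [hjr, hod.neg_one_pow, hne.neg_one_pow] at h1
        exact h2 (by linear_combination -h1)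
      obtain ⟨u, hu⟩ := hie
      have huk : u ∣ n - j := Nat.dvd_of_mul_dvd_mul_left two_pos (by rwa [show 2 * u = i by omega])
      have h4 : u % 2 = 1 := by
        by_contra h4
        exact absurd ((show 2 ∣ u by omega).trans huk) (fun h => by rw [Nat.odd_iff] at hod; omega)
      rw [hc, if_neg (by omega), if_pos (by omega), show i / 2 = u by omega]
      exact huk
  have hcpos : 0 < c := by
    by_cases h : i % 4 = 2
    · rw [hcb.1 h]; exact hbpos
    · rw [hcb.2 h]; omega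
  have hcn : c ≤ n := (Nat.le_of_dvd (by omega) hcdvd).trans (by omega)
  have hdvd : b ∣ r - 1 := hbe ▸ orderOf_dvd_of_pow_eq_one (ZMod.pow_card_sub_one_eq_one (by
    rw [hq, Nat.cast_pow]; exact pow_ne_zero _ hq0))
  have htpos : 1 ≤ (r - 1) / b := Nat.div_pos (Nat.le_of_dvd (by omega) hdvd) hbpos
  have hri : i ≠ 2 → r.Coprime (q + 1) := fun hne => (Nat.Prime.coprime_iff_not_dvd hr).2 fun h => hne (by
    rw [← ZMod.natCast_eq_zero_iff, Nat.cast_add, Nat.cast_one, add_eq_zero_iff_eq_neg] at h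
    rw [hi, h]
    haveI : Fact (2 < r) := ⟨hr3⟩
    exact orderOf_eq_prime (by rw [neg_one_sq]) (ZMod.neg_one_ne_one))
  have hrq : i = 2 → r ∣ q + 1 := fun h => by
    rw [← ZMod.natCast_eq_zero_iff, Nat.cast_add, Nat.cast_one]
    have h1 : (q : ZMod r) * q = 1 := by rw [← sq, ← h, hi, pow_orderOf_eq_one]
    rcases mul_self_eq_one_iff.1 h1 with h' | h'
    · rw [h', orderOf_one] at hi; omega
    · rw [h', neg_add_cancel]
  have hbm : b ≤ m ∨ n % c < 2 * (m % b) := by
    by_cases hbm : b ≤ m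
    · exact Or.inl hbm
    refine Or.inr ?_
    rw [Nat.mod_eq_of_lt (by omega : m < b), show n = (n - j) + j by omega]
    obtain ⟨t, ht⟩ := hcdvd
    rw [ht, Nat.mul_add_mod]
    have := Nat.mod_le j c
    omega
  constructor
  · intro h
    refine Or.inr ⟨hrp, hr3, ?_⟩
    have hwit : ∀ A : Matrix.SpecialLinearGroup (Fin n) F, A ∈ Cfsg.SU n F q →
        (Matrix.toLinAlgEquiv' (A : Matrix (Fin n) (Fin n) F)) ^ r = 1 →
        (∀ z : F, (A : Matrix (Fin n) (Fin n) F) ≠ z • 1) →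
        ∃ W : Submodule F (Fin n → F), Module.finrank F W = m ∧ TI (hermB hq n) W ∧
          W.map (Matrix.toLinAlgEquiv' (A : Matrix (Fin n) (Fin n) F)) ≤ W :=
      fun A hA hAr hAs => h A hA ⟨1, Matrix.toLinAlgEquiv'.injective (by
        rw [map_pow, hAr, one_smul, map_one])⟩ hAs
    have hns : i ≠ 2 → ∀ A : Matrix.SpecialLinearGroup (Fin n) F, A ∈ Cfsg.SU n F q →
        (Matrix.toLinAlgEquiv' (A : Matrix (Fin n) (Fin n) F)) ^ r = 1 →
        Module.finrank F ↥(LinearMap.ker (Matrix.toLinAlgEquiv' (A : Matrix (Fin n) (Fin n) F) - 1)) < n →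
        ∀ z : F, (A : Matrix (Fin n) (Fin n) F) ≠ z • 1 := fun hne A hA hAr hlt z hz => by
      have hz1 := scalar_norm hq (by omega) (su_iso hq hA) hz
      rw [hscal hz, _root_.smul_pow, one_pow] at hAr
      have hzr : z ^ r = 1 := by
        have := congrFun (LinearMap.congr_fun hAr (Pi.single ⟨0, by omega⟩ 1)) ⟨0, by omega⟩
        simpa using this
      have hz' : z = 1 := by
        have := pow_gcd_eq_one.2 ⟨hzr, hz1⟩
        rwa [(hri hne).gcd_eq_one, pow_one] at this
      rw [hscal hz, hz', one_smul, sub_self, LinearMap.ker_zero, finrank_top, Module.finrank_fin_fun] at hlt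
      omega
    have hfac : ∀ g ∈ SympOrderR.factors F r, g.natDegree = b := fun g hg =>
      SympOrderR.natDegree_factor (F := F) (p := p) rfl hr hrp hbe hg
    have hfne : ∀ g ∈ SympOrderR.factors F r, ¬ (X - C (1 : F)) ∣ g := fun g hg hd =>
      (SympOrderR.facts (F := F) hr hrp hg).1 (eq_of_monic_of_associated (SympOrderR.mem_factors.1 hg).1
        (monic_X_sub_C 1) ((irreducible_X_sub_C 1).associated_of_dvd (SympOrderR.mem_factors.1 hg).2.1 hd).symm)
    have hsdc : (∃ k : ℕ, (Fintype.card F : ZMod r) ^ k = -((p : ZMod r) ^ a)) ↔ i % 4 = 2 := by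
      rw [← hSD]
      have hp0 : ((p : ZMod r) ^ a) ≠ 0 := by rw [← Nat.cast_pow, ← hqa]; exact hq0
      constructor
      · rintro ⟨k, hk⟩
        obtain ⟨s, hs⟩ : ∃ s, s = b * (k + 1) - k - 1 := ⟨_, rfl⟩
        have hQ : (Fintype.card F : ZMod r) ^ (b * (k + 1)) = 1 := by
          rw [pow_mul, hbe, pow_orderOf_eq_one, one_pow]
        refine ⟨s + 1, ?_⟩
        have hk1 : k + 1 ≤ b * (k + 1) := Nat.le_mul_of_pos_left _ hbpos
        rw [← ZMod.natCast_eq_zero_iff, Nat.cast_add, Nat.cast_mul, Nat.cast_pow, Nat.cast_pow, Nat.cast_one]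
        rw [show b * (k + 1) = k + (s + 1) by omega, pow_add, hk] at hQ
        linear_combination -hQ
      · rintro ⟨k, hk⟩
        obtain ⟨s, hs⟩ : ∃ s, s = b * (k + 1) - k := ⟨_, rfl⟩
        have hQ : (Fintype.card F : ZMod r) ^ (b * (k + 1)) = 1 := by
          rw [pow_mul, hbe, pow_orderOf_eq_one, one_pow]
        rw [← ZMod.natCast_eq_zero_iff, Nat.cast_add, Nat.cast_mul, Nat.cast_pow, Nat.cast_pow, Nat.cast_one] at hk
        refine ⟨s, ?_⟩
        have hk1 : k + 1 ≤ b * (k + 1) := Nat.le_mul_of_pos_left _ hbpos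
        rw [show b * (k + 1) = k + s by omega, pow_add] at hQ
        have h1 : (p : ZMod r) ^ a * (Fintype.card F : ZMod r) ^ k = -1 := by linear_combination hk
        linear_combination (Fintype.card F : ZMod r) ^ s * h1 - (p : ZMod r) ^ a * hQ
    have hcase2 : 2 * (m % b) ≤ n % c := by
      by_contra hlt
      push Not at hlt
      have hne2 : i ≠ 2 := fun e => by
        rw [hb, e] at hlt
        simp [Nat.mod_one] at hlt
      obtain ⟨g, hg⟩ : (SympOrderR.factors F r).Nonempty := by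
        rw [← Finset.card_pos, SympOrderR.card_factors (F := F) (p := p) rfl hr hrp hbe]
        exact htpos
      obtain ⟨hgm, hgi, -⟩ := SympOrderR.mem_factors.1 hg
      obtain ⟨hts, htt⟩ := KnownC.SigmaFactors.tilde_mem hr hrp (qFrob hq) (qFrob_qFrob hq) hσ hg
      obtain ⟨B, hBm, hBd, hBs, hBall, hB1⟩ : ∃ B : F[X], B.Monic ∧ B.natDegree = c ∧
          SemiPalin.tilde (qFrob hq) B = B ∧ (∀ Q : F[X], Irreducible Q → Q ∣ B → Q ∣ X ^ r - 1) ∧
          ¬ (X - C (1 : F)) ∣ B := by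
        by_cases h42 : i % 4 = 2
        · exact ⟨g, hgm, (hfac g hg).trans (hcb.1 h42).symm,
            (KnownC.SigmaFactors.tilde_fix_iff hr hrp hbe (qFrob hq) (qFrob_qFrob hq) hσ hg).2 (hsdc.2 h42),
            fun Q _ hQ => hQ.trans (SympOrderR.facts (F := F) hr hrp hg).2.1, hfne g hg⟩
        · refine ⟨g * SemiPalin.tilde (qFrob hq) g, hgm.mul (SympOrderR.mem_factors.1 hts).1, ?_, ?_,
            fun Q hQ hd => (hQ.prime.dvd_or_dvd hd).elim (fun h => h.trans (SympOrderR.facts (F := F) hr hrp hg).2.1)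
              fun h => h.trans (SympOrderR.facts (F := F) hr hrp hts).2.1,
            fun hd => ((irreducible_X_sub_C (1 : F)).prime.dvd_or_dvd hd).elim (hfne g hg) (hfne _ hts)⟩
          · rw [hgm.natDegree_mul (SympOrderR.mem_factors.1 hts).1, hfac g hg, hfac _ hts, hcb.2 h42, two_mul]
          · rw [SemiPalin.tilde_mul, htt, mul_comm]
      obtain ⟨f, hfdef⟩ : ∃ f, f = (X - C (1 : F)) ^ (n % c) * B ^ (n / c) := ⟨_, rfl⟩
      have hpw : ∀ (P : F[X]), SemiPalin.tilde (qFrob hq) P = P → ∀ k : ℕ,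
          SemiPalin.tilde (qFrob hq) (P ^ k) = P ^ k := fun P hP k => by
        induction k with
        | zero => rw [pow_zero, SemiPalin.tilde, coeff_one_zero, map_one, inv_one, map_one, one_mul, ← map_one C,
            SemiPalin.srev_C, map_one]
        | succ k ih => rw [pow_succ, SemiPalin.tilde_mul, ih, hP]
      obtain ⟨A, hA, hAr, hAf⟩ := IsoHerm.exists_su (p := p) hq (hri hne2) (n := n) (f := f)
        (hfdef ▸ ((monic_X_sub_C 1).pow _).mul (hBm.pow _))
        (by rw [hfdef, ((monic_X_sub_C 1).pow _).natDegree_mul (hBm.pow _), (monic_X_sub_C 1).natDegree_pow,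
          natDegree_X_sub_C, hBm.natDegree_pow, hBd, mul_one, mul_comm _ c, Nat.mod_add_div])
        (by rw [hfdef, SemiPalin.tilde_mul, hpw _ (KnownC.SigmaFactors.tilde_X_sub_one _), hpw _ hBs])
        (fun Q hQ hd => (hQ.prime.dvd_or_dvd (hfdef ▸ hd)).elim
          (fun h => (hQ.prime.dvd_of_dvd_pow h).trans PalinCount.X_sub_one_dvd)
          fun h => hBall Q hQ (hQ.prime.dvd_of_dvd_pow h))
      have hTr : (Matrix.toLinAlgEquiv' (A : Matrix (Fin n) (Fin n) F)) ^ r = 1 := by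
        rw [← map_pow, ← Matrix.SpecialLinearGroup.coe_pow, hAr]; exact map_one _
      have hfix := IsoWitness.finrank_fix_lt hrF hTr (e := n % c) fun hd => by
        rw [hAf, hfdef, pow_succ, mul_dvd_mul_iff_left (pow_ne_zero _ (X_sub_C_ne_zero 1))] at hd
        exact hB1 ((irreducible_X_sub_C (1 : F)).prime.dvd_of_dvd_pow hd)
      have := Nat.mod_lt n hcpos
      obtain ⟨W, hWd, hW, hWi⟩ := hwit A hA hTr (hns hne2 A hA hTr (by omega))
      have hfb := fix_bound (ctx_herm hq hr hr2 hrF (su_iso hq hA) hTr) hWi hW hWd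
      rw [← hbe] at hfb
      omega
    have hbm' : b ≤ m := hbm.resolve_right (by omega)
    refine ⟨hbm', hcase2, ?_⟩
    by_cases h42 : i % 4 = 2
    swap
    · exact Or.inl h42
    refine Or.inr ⟨h42, ?_⟩
    by_cases hi2 : i = 2
    swap
    · refine ⟨?_, Or.inl (by omega)⟩
      by_contra hlt
      push Not at hlt
      obtain ⟨o, ho⟩ : ∃ o, o = min ((r - 1) / b) (n / b) := ⟨_, rfl⟩
      have hbn : b ≤ n := hcb.1 h42 ▸ hcn
      have hopos : 1 ≤ o := by
        have := Nat.div_pos hbn hbpos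
        omega
      have hob : b * o ≤ n := (Nat.mul_le_mul_left b (by omega : o ≤ n / b)).trans (Nat.mul_div_le _ _)
      obtain ⟨S, hS, hSc⟩ := Finset.exists_subset_card_eq (s := SympOrderR.factors F r) (n := o)
        (by rw [SympOrderR.card_factors (F := F) (p := p) rfl hr hrp hbe]; omega)
      obtain ⟨P, hPdef⟩ : ∃ P, P = ∏ g ∈ S, g := ⟨_, rfl⟩
      have hPm : P.Monic := hPdef ▸ monic_prod_of_monic _ _ fun g hg => (SympOrderR.mem_factors.1 (hS hg)).1
      have hPd : P.natDegree = b * o := by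
        rw [hPdef, natDegree_prod_of_monic _ _ fun g hg => (SympOrderR.mem_factors.1 (hS hg)).1,
          Finset.sum_congr rfl fun g hg => hfac g (hS hg), Finset.sum_const, hSc, smul_eq_mul, mul_comm]
      have h1t : SemiPalin.tilde (qFrob hq) (1 : F[X]) = 1 := by
        rw [SemiPalin.tilde, coeff_one_zero, map_one, inv_one, map_one, one_mul, ← map_one C, SemiPalin.srev_C,
          map_one]
      have hPt : SemiPalin.tilde (qFrob hq) P = P := by
        rw [hPdef]
        refine Finset.prod_induction _ (fun x => SemiPalin.tilde (qFrob hq) x = x) (fun x y hx hy => ?_) h1t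
          fun g hg => ?_
        · rw [SemiPalin.tilde_mul, hx, hy]
        · exact (KnownC.SigmaFactors.tilde_fix_iff hr hrp hbe (qFrob hq) (qFrob_qFrob hq) hσ (hS hg)).2 (hsdc.2 h42)
      have hP1 : ¬ (X - C (1 : F)) ∣ P := fun hd => by
        obtain ⟨g, hg, hgd⟩ := (irreducible_X_sub_C (1 : F)).prime.exists_mem_finset_dvd (hPdef ▸ hd)
        exact hfne g (hS hg) hgd
      obtain ⟨f, hfdef⟩ : ∃ f, f = (X - C (1 : F)) ^ (n - b * o) * P := ⟨_, rfl⟩
      obtain ⟨A, hA, hAr, hAf⟩ := IsoHerm.exists_su (p := p) hq (hri hi2) (n := n) (f := f)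
        (hfdef ▸ ((monic_X_sub_C 1).pow _).mul hPm)
        (by rw [hfdef, ((monic_X_sub_C 1).pow _).natDegree_mul hPm, (monic_X_sub_C 1).natDegree_pow,
          natDegree_X_sub_C, hPd, mul_one]; omega)
        (by
          rw [hfdef, SemiPalin.tilde_mul, hPt]
          congr 1
          induction (n - b * o) with
          | zero => rw [pow_zero, h1t]
          | succ k ih => rw [pow_succ, SemiPalin.tilde_mul, ih, KnownC.SigmaFactors.tilde_X_sub_one])
        (fun Q hQ hd => (hQ.prime.dvd_or_dvd (hfdef ▸ hd)).elim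
          (fun h => (hQ.prime.dvd_of_dvd_pow h).trans PalinCount.X_sub_one_dvd)
          fun h => by
            obtain ⟨g, hg, hgd⟩ := hQ.prime.exists_mem_finset_dvd (hPdef ▸ h)
            exact hgd.trans (SympOrderR.facts (F := F) hr hrp (hS hg)).2.1)
      have hTr : (Matrix.toLinAlgEquiv' (A : Matrix (Fin n) (Fin n) F)) ^ r = 1 := by
        rw [← map_pow, ← Matrix.SpecialLinearGroup.coe_pow, hAr]; exact map_one _
      have hfix := IsoWitness.finrank_fix_lt hrF hTr (e := n - b * o) fun hd => by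
        rw [hAf, hfdef, pow_succ, mul_dvd_mul_iff_left (pow_ne_zero _ (X_sub_C_ne_zero 1))] at hd
        exact hP1 hd
      have := Nat.mul_le_mul_left b hopos
      obtain ⟨W, hWd, hW, hWi⟩ := hwit A hA hTr (hns hi2 A hA hTr (by omega))
      have hctx := ctx_herm hq hr hr2 hrF (su_iso hq hA) hTr
      have hfb := fix_bound_of_simple (p := p) hctx hσ (hSD.2 h42) (fun g hg => ?_) hWi hW hWd
      · rcases le_total ((r - 1) / b) (n / b) with hle | hle
        · rw [min_eq_left hle] at ho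
          subst ho
          have h7 : (r - 1) / b + 2 * (m / b) ≤ n / b := by
            rw [Nat.le_div_iff_mul_le hbpos]
            have := Nat.div_mul_le_self m b
            rw [add_mul, mul_assoc, mul_comm ((r - 1) / b) b]
            omega
          omega
        · rw [min_eq_right hle] at ho
          subst ho
          have := Nat.div_add_mod n b
          have := Nat.mod_lt n hbpos
          omega
      · refine ker_factor_one (p := p) hctx hrp hg ?_
        obtain ⟨hgm, hgi, -⟩ := SympOrderR.mem_factors.1 hg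
        rw [← hbe]
        by_contra hlt2
        have h := IsoWitness.pow_dvd_charpoly hrF hTr hgi hgm (k := 2) (by rw [hfac g hg]; omega)
        rw [hAf, hfdef] at h
        have hnd : ¬ g ∣ (X - C (1 : F)) ^ (n - b * o) := fun hd =>
          SympOrderR.not_dvd_X_sub_one (F := F) hr hrp hg (hgi.prime.dvd_of_dvd_pow hd)
        have h2 : g ^ 2 ∣ P := hgi.prime.pow_dvd_of_dvd_mul_left 2 hnd h
        obtain ⟨k, hk, hkd⟩ := hgi.prime.exists_mem_finset_dvd
          (hPdef ▸ (dvd_pow_self g two_ne_zero).trans h2 : g ∣ ∏ g ∈ S, g)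
        obtain rfl := SympOrderR.eq_of_dvd hg (hS hk) hkd
        rw [hPdef, ← Finset.mul_prod_erase _ _ hk, pow_two, mul_dvd_mul_iff_left hgi.ne_zero] at h2
        obtain ⟨k', hk', hkd'⟩ := hgi.prime.exists_mem_finset_dvd h2
        exact (Finset.mem_erase.1 hk').1 (SympOrderR.eq_of_dvd hg (hS (Finset.mem_erase.1 hk').2) hkd').symm
    have hb1 : b = 1 := by rw [hb, hi2]; simp
    subst hb1
    refine ⟨?_, Or.inr ⟨hi2, ?_⟩⟩
    · by_contra hlt
      simp only [Nat.div_one] at hlt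
      push Not at hlt
      obtain ⟨ω, hω⟩ : ∃ ω : F, IsPrimitiveRoot ω r := by
        obtain ⟨g, hg⟩ := IsCyclic.exists_generator (α := Fˣ)
        have ho : orderOf g = (q - 1) * (q + 1) := by
          rw [orderOf_eq_card_of_forall_mem_zpowers hg, units_card_sq hq]
        obtain ⟨t, ht⟩ := hrq hi2
        refine ⟨((g ^ ((q - 1) * t) : Fˣ) : F), IsPrimitiveRoot.coe_units_iff.2 ?_⟩
        have h := IsPrimitiveRoot.orderOf g
        rw [ho] at h
        exact h.pow (by rw [← ho]; exact orderOf_pos g) (by rw [ht]; ring)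
      obtain ⟨k, hk⟩ : ∃ k, k = min ((r - 1) / 2) (n / 2) := ⟨_, rfl⟩
      obtain ⟨s, hs⟩ : ∃ s : Fin n → ℕ, s = fun j : Fin n =>
          if (j : ℕ) < k then (j : ℕ) + 1 else if (j : ℕ) < 2 * k then r - ((j : ℕ) - k + 1) else 0 := ⟨_, rfl⟩
      have hs' : ∀ j, s j = if (j : ℕ) < k then (j : ℕ) + 1 else
          if (j : ℕ) < 2 * k then r - ((j : ℕ) - k + 1) else 0 := fun j => by rw [hs]
      have hsr : ∀ j, s j < r := fun j => by rw [hs']; split_ifs <;> omega
      have hωr : ω ^ r = 1 := hω.pow_eq_one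
      have hsum : r ∣ ∑ j, s j := by
        have hn' : n = k + k + (n - 2 * k) := by omega
        obtain ⟨e0, he0⟩ : ∃ e0, e0 = n - 2 * k := ⟨_, rfl⟩
        rw [← he0] at hn'
        subst hn'
        rw [Fin.sum_univ_add, Fin.sum_univ_add, ← Finset.sum_add_distrib]
        refine dvd_add (Finset.dvd_sum fun x _ => ?_) (Finset.dvd_sum fun x _ => ?_)
        · rw [hs', hs']
          simp only [Fin.val_castAdd, Fin.val_natAdd, if_pos x.2, if_neg (show ¬ k + (x : ℕ) < k by omega),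
            if_pos (show k + (x : ℕ) < 2 * k by omega), Nat.add_sub_cancel_left]
          rw [show (x : ℕ) + 1 + (r - ((x : ℕ) + 1)) = r by omega]
        · rw [hs']
          simp only [Fin.val_natAdd, if_neg (show ¬ k + k + (x : ℕ) < k by omega),
            if_neg (show ¬ k + k + (x : ℕ) < 2 * k by omega), dvd_zero]
      obtain ⟨A, hA, hAd⟩ := diag_su (n := n) (q := q) (d := fun j => ω ^ s j) (fun j => by
          obtain ⟨t, ht⟩ := hrq hi2
          rw [ht, ← pow_mul, mul_comm, mul_assoc, pow_mul, hωr, one_pow])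
        (by
          obtain ⟨t, ht⟩ := hsum
          rw [Finset.prod_pow_eq_pow_sum, ht, pow_mul, hωr, one_pow])
      have hTr : (Matrix.toLinAlgEquiv' (A : Matrix (Fin n) (Fin n) F)) ^ r = 1 := by
        rw [← map_pow, hAd, Matrix.diagonal_pow]
        refine (congrArg Matrix.toLinAlgEquiv' (?_ : _ = (1 : Matrix (Fin n) (Fin n) F))).trans (map_one _)
        rw [← Matrix.diagonal_one]
        congr 1
        funext j
        rw [Pi.pow_apply, ← pow_mul, mul_comm, pow_mul, hωr, one_pow]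
      have hk1 : 1 ≤ k := by omega
      have hinj : ∀ j l, ω ^ s j = ω ^ s l → s j = s l := fun j l e => hω.pow_inj (hsr j) (hsr l) e
      obtain ⟨W, hWd, hW, hWi⟩ := hwit A hA hTr fun z hz => by
        rw [hAd, ← Matrix.diagonal_one, ← Matrix.diagonal_smul] at hz
        have hd' := Matrix.diagonal_injective hz
        have e := hinj ⟨0, by omega⟩ ⟨k, by omega⟩ ((congrFun hd' ⟨0, by omega⟩).trans
          (congrFun hd' ⟨k, by omega⟩).symm)
        simp only [hs', if_pos (show 0 < k by omega), lt_irrefl, if_false, if_pos (show k < 2 * k by omega)] at e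
        omega
      have hctx := ctx_herm hq hr hr2 hrF (su_iso hq hA) hTr
      have hone : ∀ g ∈ SympOrderR.factors F r, Module.finrank F ↥(LinearMap.ker (aeval
          (Matrix.toLinAlgEquiv' (A : Matrix (Fin n) (Fin n) F)) g)) ≤ orderOf (Fintype.card F : ZMod r) := by
        intro g hg
        rw [← hbe]
        obtain ⟨hgm, hgi, -⟩ := SympOrderR.mem_factors.1 hg
        have hdeg := hfac g hg
        have hg' := hgm.eq_X_add_C hdeg
        have ha1 : -(g.coeff 0) ≠ 1 := fun e =>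
          (SympOrderR.facts (F := F) hr hrp hg).1 (by rw [hg', show g.coeff 0 = -1 by linear_combination -e]; simp [sub_eq_add_neg])
        rw [hg', map_add, aeval_X, aeval_C, hAd, Algebra.algebraMap_eq_smul_one,
          show g.coeff 0 • (1 : Module.End F (Fin n → F)) = -((-g.coeff 0) • (1 : Module.End F (Fin n → F))) by
            module, ← sub_eq_add_neg]
        refine finrank_diag_le_one fun x y ex ey => ?_
        have e := hinj x y (ex.trans ey.symm)
        have hx0 : s x ≠ 0 := fun e0 => ha1 (by rw [← ex, e0, pow_zero])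
        simp only [hs'] at e hx0
        apply Fin.ext
        split_ifs at e hx0 <;> omega
      have hfb := fix_bound_of_simple (p := p) hctx hσ (hSD.2 h42) hone hWi hW hWd
      have hker : Module.finrank F ↥(LinearMap.ker
          (Matrix.toLinAlgEquiv' (A : Matrix (Fin n) (Fin n) F) - 1)) ≤ n - 2 * k := by
        let f : ↥(LinearMap.ker (Matrix.toLinAlgEquiv' (A : Matrix (Fin n) (Fin n) F) - 1)) →ₗ[F]
            (Fin (n - 2 * k) → F) :=
          (LinearMap.funLeft F F fun x : Fin (n - 2 * k) => (⟨2 * k + x, by omega⟩ : Fin n)) ∘ₗ Submodule.subtype _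
        have hf : Function.Injective f := (injective_iff_map_eq_zero f).2 fun v hv => Subtype.ext (funext fun x => by
          by_cases hx : (x : ℕ) < 2 * k
          · obtain ⟨u, hu⟩ : ∃ u, u = (v : Fin n → F) := ⟨_, rfl⟩
            have h0 : (A : Matrix (Fin n) (Fin n) F) *ᵥ u - u = 0 := hu ▸ v.2
            show (v : Fin n → F) x = 0
            rw [← hu]
            rw [hAd] at h0
            have h1 := congrFun h0 x
            rw [Pi.sub_apply, Matrix.mulVec_diagonal, Pi.zero_apply] at h1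
            have h1' : (ω ^ s x - 1) * u x = 0 := by linear_combination h1
            refine (mul_eq_zero.1 h1').resolve_left fun e => ?_
            have e' := hω.pow_inj (hsr x) (by omega : (0 : ℕ) < r) ((sub_eq_zero.1 e).trans (pow_zero _).symm)
            rw [hs'] at e'
            split_ifs at e'; omega
          · have h1 : (v : Fin n → F) ⟨2 * k + ((x : ℕ) - 2 * k), by omega⟩ = 0 :=
              congrFun hv ⟨(x : ℕ) - 2 * k, by omega⟩
            have e : (⟨2 * k + ((x : ℕ) - 2 * k), by omega⟩ : Fin n) = x := Fin.ext (by simp; omega)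
            rw [e] at h1
            exact h1)
        have := LinearMap.finrank_le_finrank_of_injective hf
        rwa [Module.finrank_fin_fun] at this
      have := Nat.odd_iff.1 hodd
      omega
    · by_contra hne
      push Not at hne
      obtain ⟨hrm, hv⟩ := hne
      obtain ⟨k, hk⟩ : r ∣ n := by
        by_contra hn'
        rw [padicValNat.eq_zero_of_not_dvd hn'] at hv
        omega
      rw [mul_comm] at hk
      obtain ⟨z, hz1, hzk, hzr⟩ := exists_not_pow hq (n := n) hr2 (hrq hi2) hk (by omega) hv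
      obtain ⟨B, hB, hBr, -⟩ := exists_block hq hr.pos hk hz1
      have hdet := det_of_not_pow (p := p) hr hodd hk hzr hBr
      let A : Matrix.SpecialLinearGroup (Fin n) F :=
        ⟨(B : Matrix (Fin n) (Fin n) F), by rw [hdet, hzk]⟩
      have hz0 : z ≠ 0 := fun e => by rw [e] at hz1; simp at hz1
      obtain ⟨W, hWd, -, hWi⟩ := h A hB ⟨z, hBr⟩ fun y hy => hzr y (by
        have h1 : (A : Matrix (Fin n) (Fin n) F) ^ r = z • 1 := hBr
        rw [hy, _root_.smul_pow, one_pow] at h1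
        have := congrFun (congrFun h1 ⟨0, by omega⟩) ⟨0, by omega⟩
        simpa using this)
      exact hrm (hWd ▸ dvd_of_not_pow hr hz0 (by rw [← map_pow]; exact hscal hBr) hzr hWi)
  · rintro (⟨h, -⟩ | ⟨-, -, -, h2, h3⟩) A hA ⟨z, hz⟩ -
    · exact absurd h hr2
    have hiso := su_iso hq hA
    have hpowiso : ∀ k u v, hermB hq n (((A : Matrix (Fin n) (Fin n) F) ^ k) *ᵥ u)
        (((A : Matrix (Fin n) (Fin n) F) ^ k) *ᵥ v) = hermB hq n u v := fun k => by
      induction k with
      | zero => intro u v; rw [pow_zero, Matrix.one_mulVec, Matrix.one_mulVec]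
      | succ k ih => intro u v; rw [pow_succ', ← Matrix.mulVec_mulVec, ← Matrix.mulVec_mulVec, hiso, ih]
    have hz1 : z ^ (q + 1) = 1 := scalar_norm hq (by omega) (hpowiso r) hz
    have hz0 : z ≠ 0 := fun e => by rw [e] at hz1; simp at hz1
    by_cases hroot : ∃ w : F, w ^ r = z
    · obtain ⟨w, hw, hw1⟩ : ∃ w : F, w ^ r = z ∧ w ^ (q + 1) = 1 := by
        by_cases hi2 : i = 2
        · obtain ⟨w, hw⟩ := hroot
          refine ⟨w, hw, ?_⟩
          have hw0 : w ≠ 0 := fun e => hz0 (by rw [← hw, e, zero_pow hr.ne_zero])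
          have ha : (w ^ (q + 1)) ^ r = 1 := by rw [← pow_mul, mul_comm, pow_mul, hw, hz1]
          have hb : (w ^ (q + 1)) ^ (q - 1) = 1 := by rw [← pow_mul, mul_comm]; exact units_pow hq hw0
          have h := pow_gcd_eq_one.2 ⟨ha, hb⟩
          rwa [((Nat.Prime.coprime_iff_not_dvd hr).2 (not_dvd_of_ne hq hr hr2 (hrq hi2))).gcd_eq_one, pow_one] at h
        · obtain ⟨u, -, hu⟩ := Nat.exists_mul_mod_eq_one_of_coprime (hri hi2) (by omega)
          refine ⟨z ^ u, ?_, by rw [← pow_mul, mul_comm, pow_mul, hz1, one_pow]⟩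
          rw [← pow_mul, mul_comm, ← Nat.div_add_mod (r * u) (q + 1), hu, pow_add, pow_mul, hz1, one_pow, one_mul,
            pow_one]
      have hw0 : w ≠ 0 := fun e => by rw [e] at hw1; simp at hw1
      obtain ⟨M, hM⟩ : ∃ M, M = w⁻¹ • (A : Matrix (Fin n) (Fin n) F) := ⟨_, rfl⟩
      have hTr : (Matrix.toLinAlgEquiv' M) ^ r = 1 := by
        rw [← map_pow, hM, _root_.smul_pow, hz, smul_smul, inv_pow, hw, inv_mul_cancel₀ hz0, one_smul, map_one]
      have hMiso : ∀ u v, hermB hq n (M *ᵥ u) (M *ᵥ v) = hermB hq n u v := fun u v => by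
        simp only [hM, Matrix.smul_mulVec, LinearMap.map_smulₛₗ, LinearMap.smul_apply, map_smul, hiso,
          smul_eq_mul, RingHom.id_apply, map_inv₀, qFrob_apply]
        rw [← mul_assoc, ← mul_inv, ← pow_succ', hw1, inv_one, one_mul]
      have hctx := ctx_herm hq hr hr2 hrF hMiso hTr
      obtain ⟨X, hX, hXi, hXt, hXd, hX2⟩ := exists_mov_part (p := p) hctx hσ (n := n) (c := c) (m := m) (δ := 0)
        (Module.finrank_fin_fun F)
        ⟨fun h => by rw [← hbe]; exact hcb.1 (hSD.1 h), fun h => by rw [← hbe]; exact hcb.2 (mt hSD.2 h)⟩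
        (by omega) (by rw [← hbe]; omega)
        (fun h => by rw [← hbe]; exact (h3.resolve_left (not_not_intro (hSD.1 h))).2.1)
      obtain ⟨Z, hZ, hZt, hZd⟩ := IsoHerm.exists_ti hq hG (hermB_conj hq) (nd_fix hctx)
        (m - Module.finrank F X) (by omega)
      obtain ⟨hWt, hWi, hWd⟩ := ti_sup_fix hctx hX hXi hXt hZ hZt
      refine ⟨X ⊔ Z, by omega, hWt, ?_⟩
      rintro _ ⟨x, hx, rfl⟩
      have h := (X ⊔ Z).smul_mem w (apply_mem hWi hx)
      rwa [hM, map_smul, LinearMap.smul_apply, smul_smul, mul_inv_cancel₀ hw0, one_smul] at h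
    push Not at hroot
    have hi2 : i = 2 := by
      by_contra hi2
      obtain ⟨u, -, hu⟩ := Nat.exists_mul_mod_eq_one_of_coprime (hri hi2) (by omega)
      refine hroot (z ^ u) ?_
      rw [← pow_mul, mul_comm, ← Nat.div_add_mod (r * u) (q + 1), hu, pow_add, pow_mul, hz1, one_pow, one_mul, pow_one]
    have hdvdn : r ∣ n := by
      have h := dvd_of_not_pow (V := Fin n → F) hr hz0 (T := Matrix.toLinAlgEquiv' (A : Matrix (Fin n) (Fin n) F))
        (by rw [← map_pow]; exact hscal hz) hroot (W := ⊤) le_top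
      rwa [finrank_top, Module.finrank_fin_fun] at h
    obtain ⟨k, hk⟩ := hdvdn
    rw [mul_comm] at hk
    rcases ((h3.resolve_left (not_not_intro (by omega))).2.2.resolve_left (by omega)).2 with hrm | hv
    · obtain ⟨l, hl⟩ := hrm
      let B : GL (Fin n) F := Matrix.GeneralLinearGroup.mkOfDetNeZero (A : Matrix (Fin n) (Fin n) F)
        (by rw [A.2]; exact one_ne_zero)
      obtain ⟨W, hWd, hW, hWi⟩ := exists_of_not_pow hq (p := p) hr hrp hk hz1 hroot (l := l)
        (Nat.le_of_mul_le_mul_right (by rw [mul_assoc, mul_comm l r, ← hl, ← hk]; omega) hr.pos) (B := B) hA hz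
      exact ⟨W, by rw [hWd, hl, mul_comm], hW, hWi⟩
    · have hdet := det_of_not_pow (p := p) hr hodd hk hroot hz
      rw [A.2] at hdet
      obtain ⟨w, hw⟩ := pow_of_small hq (n := n) (hrq hi2) hk (by omega) hv hz1 hdet.symm
      exact absurd hw (hroot w)

end Cfsg.Agent.S5953
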