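import Cfsg.Statements.S5954
import Cfsg.Agent.S5953
import Cfsg.Agent.Lib.MaxSub.IsoNDHermPrime
import Cfsg.Agent.Lib.MaxSub.IsoNDHermUnip
import Cfsg.Agent.Lib.MaxSub.IsoNDHermTwo
-- import your own Cfsg.Agent.* helpers here

set_option autoImplicit false
open scoped MatrixGroups
open Cfsg

namespace Cfsg.Agent.S5954

open Matrix Polynomial CfsgLib CfsgLib.MaxSub CfsgLib.MaxSub.IsoSemi CfsgLib.Classical

section

universe u
variable {F : Type u} [Field F] [Fintype F] {q n : ℕ} (hF : Fintype.card F = q ^ 2)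

local notation "𝕍" => Fin n → F

theorem map_le_of_smul {T : Module.End F 𝕍} {w : F} (hw : w ≠ 0) {W : Submodule F 𝕍}
    (h : W.map (w⁻¹ • T) ≤ W) : W.map T ≤ W := by
  rintro _ ⟨x, hx, rfl⟩
  have h1 := W.smul_mem w (apply_mem h hx)
  rwa [LinearMap.smul_apply, smul_smul, mul_inv_cancel₀ hw, one_smul] at h1

theorem smul_iso {T : Module.End F 𝕍} (hT : ∀ u v, hermB hF n (T u) (T v) = hermB hF n u v) (w : F) (u v : 𝕍) :
    hermB hF n ((w⁻¹ • T) u) ((w⁻¹ • T) v) = (w ^ (q + 1))⁻¹ * hermB hF n u v := by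
  simp only [LinearMap.smul_apply, LinearMap.map_smulₛₗ, map_smul, smul_eq_mul, RingHom.id_apply, map_inv₀,
    qFrob_apply, hT]
  rw [pow_succ, mul_inv]
  ring

theorem nd_iff_stmt (W : Submodule F 𝕍) :
    (∀ u ∈ W, u ≠ 0 → ∃ v ∈ W, Cfsg.hermForm n F q u v ≠ 0) ↔ ND (hermB hF n) W := by
  constructor
  · intro h u hu h0
    by_contra hne
    obtain ⟨v, hv, hv'⟩ := h u hu hne
    apply hv'
    rw [← hermB_apply hF, ← hermB_conj hF, h0 v hv, map_zero]
  · intro h u hu hne
    by_contra hno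
    push Not at hno
    refine hne (h u hu fun v hv => ?_)
    rw [← hermB_conj hF, hermB_apply hF, hno v hv, map_zero]

theorem c_dvd {r i c : ℕ} [hr : Fact r.Prime] (hr2 : r ≠ 2) (hi : i = orderOf (q : ZMod r))
    (hc : c = if i % 4 = 0 then i else if i % 4 = 2 then i / 2 else 2 * i) (hi2 : i = 2) : c = 1 := by
  rw [hc, hi2]; rfl

end

/-- Elements of prime order of PSU_n(q) with no fixed nondegenerate `m`-space. Here `T = PSU_n(q)` (`n ≥ 3`, `(n, q) ≠ (3, 2)`), realised through the matrices of determinant 1 over the field `F` with `q²` elements preserving the Hermitian form `h(u, v) = Σ u_i v_i^q`; an element of `T` of prime order `r` is such a matrix `x` with `x^r` scalar and `x` not scalar. For `r ≠ p` let `i` be the multiplicative order of `q` modulo `r`, `b = i/2` for `i` even and `b = i` for `i` odd, `c = i, i/2, 2i` according as `i ≡ 0, 2 (mod 4)` or `i` odd, and write `k = n mod c`, `ℓ = m mod b`, `ℓ' = m mod c`, `n' = ⌊n/b⌋`, `m' = ⌊m/b⌋`, `s =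 (r−1)/b`; `(a)_r` is the `r`-part of `a`. Let `1 ≤ m < n/2` and let `r` be a prime dividing the number of nondegenerate `m`-spaces. Then every element of `T` of order `r` fixes a nondegenerate `m`-space if and only if one of: (i) `r = p > 2` and every partition of `n` into parts of size at most `p` contains (as a sub-multiset) a partition of `m`; (ii) `r = p = 2` and (`n` is odd or `m` is even); (iii) `r = 2 ≠ p` and (`n` is odd, or `m` is even, or `(q+1)_2 ≥ (n)_2` and `q ≡ 3 (mod 4)`); (iv) `r ≠ p`, `r > 2`, and either `i ≠ 2`, `c ≤ m` and `k ≥ ℓ'`, or `i = 2` and (`r ∣ m` or `(q+1)_r ≥ (n)_r`). -/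
theorem result {F : Type*} [Field F] [Fintype F] {p : ℕ} [Fact p.Prime] [CharP F p] {q : ℕ} (hq : Fintype.card F = q ^ 2)
    (n m : ℕ) (hn : 3 ≤ n) (hT : (n, q) ≠ (3, 2)) (hm : 1 ≤ m) (hmn : 2 * m < n)
    (r : ℕ) [Fact r.Prime]
    (hrΩ : r ∣ Nat.card {W : Submodule F (Fin n → F) // Module.finrank F ↥W = m ∧ (∀ u ∈ W, u ≠ 0 → ∃ v ∈ W, Cfsg.hermForm n F q u v ≠ 0)})
    (i b c : ℕ) (hi : i = orderOf (q : ZMod r)) (hb : b = if Even i then i / 2 else i)
    (hc : c = if i % 4 = 0 then i else if i % 4 = 2 then i / 2 else 2 * i) :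
    (∀ x : Matrix.SpecialLinearGroup (Fin n) F, x ∈ Cfsg.SU n F q →
      (∃ z : F, ((x ^ r : Matrix.SpecialLinearGroup (Fin n) F) : Matrix (Fin n) (Fin n) F) = z • (1 : Matrix (Fin n) (Fin n) F)) →
      (∀ z : F, (x : Matrix (Fin n) (Fin n) F) ≠ z • (1 : Matrix (Fin n) (Fin n) F)) →
      ∃ W : Submodule F (Fin n → F), Module.finrank F ↥W = m ∧ (∀ u ∈ W, u ≠ 0 → ∃ v ∈ W, Cfsg.hermForm n F q u v ≠ 0) ∧
        W.map (Matrix.toLin' (x : Matrix (Fin n) (Fin n) F)) ≤ W) ↔
    ((r = p ∧ 2 < p ∧ (∀ μ : Multiset ℕ, (∀ a ∈ μ, 0 < a ∧ a ≤ p) → μ.sum = n → ∃ ν : Multiset ℕ, ν ≤ μ ∧ ν.sum = m)) ∨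
     (r = p ∧ p = 2 ∧ (Odd n ∨ Even m)) ∨
     (r = 2 ∧ p ≠ 2 ∧ (Odd n ∨ Even m ∨ (padicValNat 2 n ≤ padicValNat 2 (q + 1) ∧ q % 4 = 3))) ∨
     (r ≠ p ∧ 2 < r ∧ ((i ≠ 2 ∧ c ≤ m ∧ m % c ≤ n % c) ∨ (i = 2 ∧ (r ∣ m ∨ padicValNat r n ≤ padicValNat r (q + 1)))))) := by
  classical
  have hr : r.Prime := Fact.out
  have hpP : p.Prime := Fact.out
  have hq2 := two_le_of_card_sq hq
  have hG := IsoHerm.geom hq n
  have hσ := qFrob_ne_id hq
  have hconj : ∀ u v, qFrob hq (hermB hq n u v) = hermB hq n v u := hermB_conj hq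
  have htop : ND (hermB hq n) (⊤ : Submodule F (Fin n → F)) := fun u _ hu => hG.sep u fun v => hu v trivial
  have hdim : Module.finrank F ↥(⊤ : Submodule F (Fin n → F)) = n := by rw [finrank_top, Module.finrank_fin_fun]
  obtain ⟨a, hqa⟩ := IsoHerm.exists_pow_of_card (p := p) (F := F) (q := q) (by rw [Nat.card_eq_fintype_card, hq])
  have hto : ∀ M : Matrix (Fin n) (Fin n) F,
      (Matrix.toLin' M : (Fin n → F) →ₗ[F] (Fin n → F)) = Matrix.toLinAlgEquiv' M := fun _ => rfl
  have hscal : ∀ {M : Matrix (Fin n) (Fin n) F} {z : F},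
      M = z • 1 → Matrix.toLinAlgEquiv' M = z • (1 : Module.End F (Fin n → F)) := by
    rintro M z rfl; rw [map_smul, map_one]
  simp only [nd_iff_stmt hq, hto, Matrix.SpecialLinearGroup.coe_pow] at hrΩ ⊢
  have hiso : ∀ {A : Matrix.SpecialLinearGroup (Fin n) F}, A ∈ Cfsg.SU n F q → ∀ u v,
      hermB hq n (Matrix.toLinAlgEquiv' (A : Matrix (Fin n) (Fin n) F) u)
        (Matrix.toLinAlgEquiv' (A : Matrix (Fin n) (Fin n) F) v) = hermB hq n u v :=
    fun hA u v => S5953.su_iso hq hA u v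
  have hz1of : ∀ {A : Matrix.SpecialLinearGroup (Fin n) F}, A ∈ Cfsg.SU n F q → ∀ {k : ℕ} {z : F},
      (A : Matrix (Fin n) (Fin n) F) ^ k = z • 1 → z ^ (q + 1) = 1 := fun {A} hA {k z} hz => by
    refine S5953.scalar_norm hq (by omega) (M := (A : Matrix (Fin n) (Fin n) F) ^ k) ?_ hz
    induction k generalizing z with
    | zero => intro u v; rw [pow_zero, Matrix.one_mulVec, Matrix.one_mulVec]
    | succ k ih =>
      clear hz
      have key : ∀ (j : ℕ) u v, hermB hq n (((A : Matrix (Fin n) (Fin n) F) ^ j) *ᵥ u)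
          (((A : Matrix (Fin n) (Fin n) F) ^ j) *ᵥ v) = hermB hq n u v := fun j => by
        induction j with
        | zero => intro u v; rw [pow_zero, Matrix.one_mulVec, Matrix.one_mulVec]
        | succ j ihj =>
          intro u v
          rw [pow_succ', ← Matrix.mulVec_mulVec, ← Matrix.mulVec_mulVec, S5953.su_iso hq hA, ihj]
      exact key _
  by_cases hrp : r = p
  · subst hrp
    rw [IsoNDHermUnip.fix_iff hq (by omega : 0 < n) (by omega : m ≤ n)]
    by_cases hp2 : r = 2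
    · subst hp2
      rw [IsoNDHermUnip.parts_two hmn]
      simp
    · have h2lt : 2 < r := lt_of_le_of_ne hr.two_le (Ne.symm hp2)
      simp [hp2, h2lt]
  have hrF : (r : F) ≠ 0 := SympOrderR.r_ne_zero (p := p) hr hrp
  by_cases hr2 : r = 2
  · subst hr2
    have h2 : (2 : F) ≠ 0 := by exact_mod_cast hrF
    have hp2 : p ≠ 2 := Ne.symm hrp
    have hqodd : Odd q := hqa ▸ (hpP.odd_of_ne_two hp2).pow
    simp only [hrp, hp2, lt_self_iff_false, false_and, and_false, true_and, ne_eq, not_false_iff, false_or, or_false]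
    constructor
    · intro h
      by_contra hne
      push Not at hne
      obtain ⟨hn2, hm2, hv⟩ := hne
      rw [Nat.not_odd_iff_even] at hn2
      obtain ⟨hh, rfl⟩ := hn2
      obtain ⟨w, hw1, hwn⟩ := IsoNDHermTwo.exists_scalar hq hqodd (n := hh + hh) ⟨hh, rfl⟩ (by omega)
        (fun e => hv e.1 e.2)
      obtain ⟨S, hSS, hS⟩ := IsoNDHermTwo.exists_anti_invol hq (n := hh + hh) (two_mul hh).symm
      have hw0 : w ≠ 0 := fun e => by rw [e] at hw1; simp at hw1
      obtain ⟨M, hM⟩ : ∃ M, M = LinearMap.toMatrixAlgEquiv' (w • S) := ⟨_, rfl⟩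
      have hMS : Matrix.toLinAlgEquiv' M = w • S := by rw [hM, Matrix.toLinAlgEquiv'_toMatrixAlgEquiv']
      have hdet : M.det = 1 := by
        rw [← LinearMap.det_toLin', show Matrix.toLin' M = Matrix.toLinAlgEquiv' M from rfl, hMS,
          LinearMap.det_smul, (IsoNDHermTwo.det_anti hG h2 hS hSS).2, Module.finrank_fin_fun, hwn, ← pow_add,
          Even.neg_one_pow ⟨_, rfl⟩]
      have hMiso : ∀ u v, hermB hq (hh + hh) (M *ᵥ u) (M *ᵥ v) = hermB hq (hh + hh) u v := fun u v => by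
        rw [show M *ᵥ u = (w • S) u by rw [← hMS]; rfl, show M *ᵥ v = (w • S) v by rw [← hMS]; rfl]
        simp only [LinearMap.smul_apply, LinearMap.map_smulₛₗ, map_smul, smul_eq_mul, RingHom.id_apply, qFrob_apply,
          hS]
        linear_combination (-hermB hq (hh + hh) u v) * hw1
      let A : Matrix.SpecialLinearGroup (Fin (hh + hh)) F := ⟨M, hdet⟩
      have hA : A ∈ Cfsg.SU (hh + hh) F q := fun u v => by
        rw [← hermB_apply hq, ← hermB_apply hq]; exact hMiso v u
      obtain ⟨W, hWd, hW, hWi⟩ := h A hA ⟨w * w, Matrix.toLinAlgEquiv'.injective (by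
          show Matrix.toLinAlgEquiv' (M ^ 2) = _
          rw [map_pow, hMS, sq, smul_mul_smul_comm, hSS, map_smul, map_one])⟩
        fun z hz => by
          have hS1 : S = (w⁻¹ * z) • 1 := by
            rw [← smul_smul, ← hscal hz, show Matrix.toLinAlgEquiv' (A : Matrix _ _ F) = w • S from hMS,
              smul_smul, inv_mul_cancel₀ hw0, one_smul]
          obtain ⟨v, -, hvv⟩ := IsoNDHerm.exists_aniso hσ hconj htop fun e => by
            rw [e, finrank_bot] at hdim; omega
          have h1 := hS v v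
          have h3 := LinearMap.congr_fun hSS v
          simp only [hS1, Module.End.mul_apply, LinearMap.smul_apply, Module.End.one_apply, map_smul,
            smul_smul] at h3
          have hss : (w⁻¹ * z) * (w⁻¹ * z) = 1 := by
            by_contra hne
            have : ((w⁻¹ * z) * (w⁻¹ * z) - 1) • v = 0 := by rw [sub_smul, one_smul, h3, sub_self]
            rcases smul_eq_zero.1 this with e | e
            · exact hne (sub_eq_zero.1 e)
            · exact hvv (by simp [e])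
          simp only [hS1, LinearMap.smul_apply, Module.End.one_apply, map_smul, LinearMap.map_smulₛₗ,
            smul_eq_mul, RingHom.id_apply] at h1
          have hσs : qFrob hq (w⁻¹ * z) = w⁻¹ * z := by
            rcases mul_self_eq_one_iff.1 hss with e | e <;> rw [e] <;> simp
          rw [hσs] at h1
          refine hvv ((mul_eq_zero.1 (?_ : (2 : F) * hermB hq (hh + hh) v v = 0)).resolve_left h2)
          linear_combination h1 - hermB hq (hh + hh) v v * hss
      have hWS : W.map S ≤ W := by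
        have : W.map (w⁻¹ • (w • S)) ≤ W := by
          rintro _ ⟨x, hx, rfl⟩
          rw [LinearMap.smul_apply]
          exact W.smul_mem _ (by rw [← hMS]; exact apply_mem hWi hx)
        rwa [smul_smul, inv_mul_cancel₀ hw0, one_smul] at this
      exact hm2 (hWd ▸ IsoNDHerm.even_of_anti hconj hG h2 hS hSS hW hWS)
    · rintro hcond A hA ⟨z, hz⟩ -
      have hz1 := hz1of hA hz
      have hz0 : z ≠ 0 := fun e => by rw [e] at hz1; simp at hz1
      have hchar : ringChar F ≠ 2 := by rwa [ringChar.eq F p]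
      obtain ⟨w, hw⟩ : IsSquare z := (FiniteField.isSquare_iff hchar hz0).2 (by
        obtain ⟨k, hk⟩ := hqodd
        rw [hq, show q ^ 2 / 2 = (q + 1) * k by
          rw [hk, show (2 * k + 1) ^ 2 = 2 * ((2 * k + 1 + 1) * k) + 1 by ring]; omega, pow_mul, hz1, one_pow])
      have hw0 : w ≠ 0 := fun e => hz0 (by rw [hw, e, mul_zero])
      obtain ⟨S, hSdef⟩ : ∃ S, S = w⁻¹ • Matrix.toLinAlgEquiv' (A : Matrix (Fin n) (Fin n) F) := ⟨_, rfl⟩
      have hSS : S * S = 1 := by
        rw [hSdef, smul_mul_smul_comm, ← map_mul, hscal ((sq _).symm.trans hz), hw, smul_smul, ← mul_inv,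
          inv_mul_cancel₀ (mul_ne_zero hw0 hw0), one_smul]
      have hww : w ^ (q + 1) * w ^ (q + 1) = 1 := by rw [← mul_pow, ← hw, hz1]
      suffices ∃ W : Submodule F (Fin n → F), Module.finrank F W = m ∧ ND (hermB hq n) W ∧ W.map S ≤ W by
        obtain ⟨W, hWd, hW, hWi⟩ := this
        exact ⟨W, hWd, hW, map_le_of_smul hw0 (hSdef ▸ hWi)⟩
      rcases mul_self_eq_one_iff.1 hww with h1 | h1
      · have hS : ∀ u v, hermB hq n (S u) (S v) = hermB hq n u v := fun u v => by
          rw [hSdef, smul_iso hq (hiso hA), h1, inv_one, one_mul]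
        obtain ⟨W, -, hW, hWi, hWd⟩ := IsoNDHerm.exists_of_pieces hG
          (IsoNDHerm.orth_of_scale hG one_ne_zero fun u v => by rw [hS, one_mul])
          (IsoNDHerm.lines_of_invol hσ hconj hG h2 hS hSS) m ⊤ htop le_top (by omega)
        exact ⟨W, by omega, hW, hWi⟩
      · have hS : ∀ u v, hermB hq n (S u) (S v) = -hermB hq n u v := fun u v => by
          rw [hSdef, smul_iso hq (hiso hA), h1, inv_neg, inv_one, neg_one_mul]
        obtain ⟨hev, hdS⟩ := IsoNDHermTwo.det_anti hG h2 hS hSS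
        rw [Module.finrank_fin_fun] at hev hdS
        rcases hcond with ho | hme | ⟨hv, hq4⟩
        · exact absurd hev (Nat.not_even_iff_odd.2 ho)
        · obtain ⟨hme', hme''⟩ := hme
          obtain ⟨W, -, hW, hWi, hWd⟩ := IsoNDHerm.exists_of_pieces hG
            (IsoNDHerm.orth_of_scale hG (neg_ne_zero.2 one_ne_zero) fun u v => by rw [hS, neg_one_mul])
            (IsoNDHerm.planes_of_anti hσ hconj hG h2 hS hSS) hme' ⊤ htop le_top (by omega)
          exact ⟨W, by omega, hW, hWi⟩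
        · exfalso
          refine IsoNDHermTwo.no_scalar h2 hev (by omega) hv hq4 h1 ?_
          have hdA : LinearMap.det (Matrix.toLinAlgEquiv' (A : Matrix (Fin n) (Fin n) F)) = 1 := by
            rw [show (Matrix.toLinAlgEquiv' (A : Matrix (Fin n) (Fin n) F)) =
              Matrix.toLin' (A : Matrix (Fin n) (Fin n) F) from rfl, LinearMap.det_toLin', A.2]
          rw [hSdef, LinearMap.det_smul, Module.finrank_fin_fun, hdA, mul_one, inv_pow] at hdS
          rw [← inv_inv (w ^ n), hdS]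
          rcases neg_one_pow_eq_or F (n / 2) with e | e <;> rw [e] <;> simp
  have h2lt : 2 < r := lt_of_le_of_ne hr.two_le (Ne.symm hr2)
  simp only [hr2, false_and, false_or, hrp, h2lt, true_and, ne_eq, not_false_iff]
  have hq0 : (q : ZMod r) ≠ 0 :=
    IsoHerm.q_ne_zero (p := p) (F := F) (by rw [Nat.card_eq_fintype_card, hq]) hrp
  have hσp : ∀ x : F, qFrob hq x = x ^ p ^ a := fun x => by rw [qFrob_apply, hqa]
  have hi0 : 0 < i := IsoHerm.ord_pos_of_ne_zero hq0 hi
  have hbe := IsoHerm.b_eq_order hq hi hb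
  have hbpos : 0 < b := by
    rw [hb]; split_ifs with h
    · obtain ⟨u, hu⟩ := h; omega
    · omega
  have hSD : SelfDual (Fintype.card F) (p ^ a) r ↔ i % 4 = 2 := hqa ▸ IsoHerm.sd_iff hq hr2 hq0 hi
  have hcb : (i % 4 = 2 → c = b) ∧ (¬ i % 4 = 2 → c = 2 * b) := by
    constructor
    · intro h
      rw [hc, if_neg (by omega), if_pos h, hb, if_pos (Nat.even_iff.2 (by omega))]
    · intro h
      rw [hc, hb]
      by_cases h4 : i % 4 = 0
      · rw [if_pos h4, if_pos (Nat.even_iff.2 (by omega))]; omega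
      · rw [if_neg h4, if_neg h, if_neg (by rw [Nat.even_iff]; omega)]
  have hcc : (SelfDual (Fintype.card F) (p ^ a) r → c = orderOf (Fintype.card F : ZMod r)) ∧
      (¬ SelfDual (Fintype.card F) (p ^ a) r → c = 2 * orderOf (Fintype.card F : ZMod r)) :=
    ⟨fun h => hbe ▸ hcb.1 (hSD.1 h), fun h => hbe ▸ hcb.2 (mt hSD.2 h)⟩
  have hcpos : 0 < c := by
    by_cases h : i % 4 = 2
    · rw [hcb.1 h]; exact hbpos
    · rw [hcb.2 h]; omega
  obtain ⟨W₀, -, hW₀n, hW₀d⟩ := IsoNDHerm.exists_nd hσ hconj hG htop (k := m) (by omega)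
  have hmemb : IsoNDHermPrime.Member (hermB hq n) m W₀ := ⟨hW₀d, hW₀n⟩
  have hcount : r ∣ Nat.card {W : Submodule F (Fin n → F) // IsoNDHermPrime.Member (hermB hq n) m W} := hrΩ
  have hcn : c ≤ n := by
    have := IsoNDHermPrime.le_finrank (p := p) (qFrob_qFrob hq) hσp hconj hG hcc hr hr2 hrF
      (hcount.trans (IsoNDHermPrime.dvd_card_isoms hσ (qFrob_qFrob hq) hconj hG hmemb))
    rwa [Module.finrank_fin_fun] at this
  have hri : i ≠ 2 → r.Coprime (q + 1) := fun hne => (Nat.Prime.coprime_iff_not_dvd hr).2 fun h => hne (by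
    rw [← ZMod.natCast_eq_zero_iff, Nat.cast_add, Nat.cast_one, add_eq_zero_iff_eq_neg] at h
    rw [hi, h]
    haveI : Fact (2 < r) := ⟨h2lt⟩
    exact orderOf_eq_prime (by rw [neg_one_sq]) (ZMod.neg_one_ne_one))
  have hrq : i = 2 → r ∣ q + 1 := fun h => by
    rw [← ZMod.natCast_eq_zero_iff, Nat.cast_add, Nat.cast_one]
    have h1 : (q : ZMod r) * q = 1 := by rw [← sq, ← h, hi, pow_orderOf_eq_one]
    rcases mul_self_eq_one_iff.1 h1 with h' | h'
    · rw [h', orderOf_one] at hi; omega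
    · rw [h', neg_add_cancel]
  have hodd : Odd r := hr.odd_of_ne_two hr2
  constructor
  · intro h
    by_cases hi2 : i = 2
    · refine Or.inr ⟨hi2, ?_⟩
      by_contra hne
      push Not at hne
      obtain ⟨hrm, hv⟩ := hne
      obtain ⟨k, hk⟩ : r ∣ n := by
        by_contra hn'
        rw [padicValNat.eq_zero_of_not_dvd hn'] at hv
        omega
      rw [mul_comm] at hk
      obtain ⟨z, hz1, hzk, hzr⟩ := S5953.exists_not_pow hq (n := n) hr2 (hrq hi2) hk (by omega) hv
      obtain ⟨B, hB, hBr, -⟩ := S5953.exists_block hq hr.pos hk hz1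
      have hdet := S5953.det_of_not_pow (p := p) hr hodd hk hzr hBr
      let A : Matrix.SpecialLinearGroup (Fin n) F :=
        ⟨(B : Matrix (Fin n) (Fin n) F), by rw [hdet, hzk]⟩
      have hz0 : z ≠ 0 := fun e => by rw [e] at hz1; simp at hz1
      obtain ⟨W, hWd, -, hWi⟩ := h A hB ⟨z, hBr⟩ fun y hy => hzr y (by
        have h1 : (A : Matrix (Fin n) (Fin n) F) ^ r = z • 1 := hBr
        rw [hy, _root_.smul_pow, one_pow] at h1
        have := congrFun (congrFun h1 ⟨0, by omega⟩) ⟨0, by omega⟩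
        simpa using this)
      exact hrm (hWd ▸ S5953.dvd_of_not_pow hr hz0 (by rw [← map_pow]; exact hscal hBr) hzr hWi)
    refine Or.inl ⟨hi2, ?_⟩
    have hfac : ∀ g ∈ SympOrderR.factors F r, g.natDegree = b := fun g hg =>
      SympOrderR.natDegree_factor (F := F) (p := p) rfl hr hrp hbe hg
    have hfne : ∀ g ∈ SympOrderR.factors F r, ¬ (X - C (1 : F)) ∣ g := fun g hg hd =>
      (SympOrderR.facts (F := F) hr hrp hg).1 (eq_of_monic_of_associated (SympOrderR.mem_factors.1 hg).1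
        (monic_X_sub_C 1) ((irreducible_X_sub_C 1).associated_of_dvd (SympOrderR.mem_factors.1 hg).2.1 hd).symm)
    have hsdc : (∃ k : ℕ, (Fintype.card F : ZMod r) ^ k = -((p : ZMod r) ^ a)) ↔ i % 4 = 2 := by
      rw [← hSD]
      constructor
      · rintro ⟨k, hk⟩
        obtain ⟨s, hs⟩ : ∃ s, s = b * (k + 1) - k - 1 := ⟨_, rfl⟩
        have hQ : (Fintype.card F : ZMod r) ^ (b * (k + 1)) = 1 := by
          rw [pow_mul, hbe, pow_orderOf_eq_one, one_pow]
        refine ⟨s + 1, ?_⟩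
        have hk1 : k + 1 ≤ b * (k + 1) := Nat.le_mul_of_pos_left _ hbpos
        rw [← ZMod.natCast_eq_zero_iff, Nat.cast_add, Nat.cast_mul, Nat.cast_pow, Nat.cast_pow, Nat.cast_one]
        rw [show b * (k + 1) = k + (s + 1) by omega, pow_add, hk] at hQ
        linear_combination -hQ
      · rintro ⟨k, hk⟩
        obtain ⟨s, hs⟩ : ∃ s, s = b * (k + 1) - k := ⟨_, rfl⟩
        have hQ : (Fintype.card F : ZMod r) ^ (b * (k + 1)) = 1 := by
          rw [pow_mul, hbe, pow_orderOf_eq_one, one_pow]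
        rw [← ZMod.natCast_eq_zero_iff, Nat.cast_add, Nat.cast_mul, Nat.cast_pow, Nat.cast_pow, Nat.cast_one] at hk
        refine ⟨s, ?_⟩
        have hk1 : k + 1 ≤ b * (k + 1) := Nat.le_mul_of_pos_left _ hbpos
        rw [show b * (k + 1) = k + s by omega, pow_add] at hQ
        have h1 : (p : ZMod r) ^ a * (Fintype.card F : ZMod r) ^ k = -1 := by linear_combination hk
        linear_combination (Fintype.card F : ZMod r) ^ s * h1 - (p : ZMod r) ^ a * hQ
    obtain ⟨g, hg⟩ : (SympOrderR.factors F r).Nonempty := by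
      rw [← Finset.card_pos, SympOrderR.card_factors (F := F) (p := p) rfl hr hrp hbe]
      exact Nat.div_pos (Nat.le_of_dvd (by omega) (hbe ▸ orderOf_dvd_of_pow_eq_one
        (ZMod.pow_card_sub_one_eq_one (by rw [hq, Nat.cast_pow]; exact pow_ne_zero _ hq0)))) hbpos
    obtain ⟨hgm, hgi, -⟩ := SympOrderR.mem_factors.1 hg
    obtain ⟨hts, htt⟩ := KnownC.SigmaFactors.tilde_mem hr hrp (qFrob hq) (qFrob_qFrob hq) hσp hg
    obtain ⟨B, hBm, hBd, hBs, hBall, hB1⟩ : ∃ B : F[X], B.Monic ∧ B.natDegree = c ∧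
        SemiPalin.tilde (qFrob hq) B = B ∧ (∀ Q : F[X], Irreducible Q → Q ∣ B → Q ∣ X ^ r - 1) ∧
        ¬ (X - C (1 : F)) ∣ B := by
      by_cases h42 : i % 4 = 2
      · exact ⟨g, hgm, (hfac g hg).trans (hcb.1 h42).symm,
          (KnownC.SigmaFactors.tilde_fix_iff hr hrp hbe (qFrob hq) (qFrob_qFrob hq) hσp hg).2 (hsdc.2 h42),
          fun Q _ hQ => hQ.trans (SympOrderR.facts (F := F) hr hrp hg).2.1, hfne g hg⟩
      · refine ⟨g * SemiPalin.tilde (qFrob hq) g, hgm.mul (SympOrderR.mem_factors.1 hts).1, ?_, ?_,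
          fun Q hQ hd => (hQ.prime.dvd_or_dvd hd).elim (fun h => h.trans (SympOrderR.facts (F := F) hr hrp hg).2.1)
            fun h => h.trans (SympOrderR.facts (F := F) hr hrp hts).2.1,
          fun hd => ((irreducible_X_sub_C (1 : F)).prime.dvd_or_dvd hd).elim (hfne g hg) (hfne _ hts)⟩
        · rw [hgm.natDegree_mul (SympOrderR.mem_factors.1 hts).1, hfac g hg, hfac _ hts, hcb.2 h42, two_mul]
        · rw [SemiPalin.tilde_mul, htt, mul_comm]
    obtain ⟨f, hfdef⟩ : ∃ f, f = (X - C (1 : F)) ^ (n % c) * B ^ (n / c) := ⟨_, rfl⟩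
    have hpw : ∀ (P : F[X]), SemiPalin.tilde (qFrob hq) P = P → ∀ k : ℕ,
        SemiPalin.tilde (qFrob hq) (P ^ k) = P ^ k := fun P hP k => by
      induction k with
      | zero => rw [pow_zero, SemiPalin.tilde, coeff_one_zero, map_one, inv_one, map_one, one_mul, ← map_one C,
          SemiPalin.srev_C, map_one]
      | succ k ih => rw [pow_succ, SemiPalin.tilde_mul, ih, hP]
    obtain ⟨A, hA, hAr, hAf⟩ := IsoHerm.exists_su (p := p) hq (hri hi2) (n := n) (f := f)
      (hfdef ▸ ((monic_X_sub_C 1).pow _).mul (hBm.pow _))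
      (by rw [hfdef, ((monic_X_sub_C 1).pow _).natDegree_mul (hBm.pow _), (monic_X_sub_C 1).natDegree_pow,
        natDegree_X_sub_C, hBm.natDegree_pow, hBd, mul_one, mul_comm _ c, Nat.mod_add_div])
      (by rw [hfdef, SemiPalin.tilde_mul, hpw _ (KnownC.SigmaFactors.tilde_X_sub_one _), hpw _ hBs])
      (fun Q hQ hd => (hQ.prime.dvd_or_dvd (hfdef ▸ hd)).elim
        (fun h => (hQ.prime.dvd_of_dvd_pow h).trans PalinCount.X_sub_one_dvd)
        fun h => hBall Q hQ (hQ.prime.dvd_of_dvd_pow h))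
    have hTr : (Matrix.toLinAlgEquiv' (A : Matrix (Fin n) (Fin n) F)) ^ r = 1 := by
      rw [← map_pow, ← Matrix.SpecialLinearGroup.coe_pow, hAr]; exact map_one _
    have hfix := IsoWitness.finrank_fix_lt hrF hTr (e := n % c) fun hd => by
      rw [hAf, hfdef, pow_succ, mul_dvd_mul_iff_left (pow_ne_zero _ (X_sub_C_ne_zero 1))] at hd
      exact hB1 ((irreducible_X_sub_C (1 : F)).prime.dvd_of_dvd_pow hd)
    have hlt := Nat.mod_lt n hcpos
    obtain ⟨W, hWd, hW, hWi⟩ := h A hA ⟨1, Matrix.toLinAlgEquiv'.injective (by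
        rw [map_pow, hTr, one_smul, map_one])⟩ fun z hz => by
      have hz1 := S5953.scalar_norm hq (by omega) (S5953.su_iso hq hA) hz
      have hTr' := hTr
      rw [hscal hz, _root_.smul_pow, one_pow] at hTr'
      have hzr : z ^ r = 1 := by
        have := congrFun (LinearMap.congr_fun hTr' (Pi.single ⟨0, by omega⟩ 1)) ⟨0, by omega⟩
        simpa using this
      have hz' : z = 1 := by
        have := pow_gcd_eq_one.2 ⟨hzr, hz1⟩
        rwa [(hri hi2).gcd_eq_one, pow_one] at this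
      rw [hscal hz, hz', one_smul, sub_self, LinearMap.ker_zero, finrank_top, Module.finrank_fin_fun] at hfix
      omega
    have hC := S5953.ctx_herm hq hr hr2 hrF (S5953.su_iso hq hA) hTr
    obtain ⟨d, hd⟩ := (nd_dims (p := p) hC hσp hcc (nd_mov hC) (inv_mov _) le_rfl).1
    obtain ⟨t, z, htd, htz, hz⟩ := (IsoNDHermPrime.fixes_iff (p := p) hσ hσp hconj hcc hC hcpos hd).1
      ⟨W, ⟨hWd, hW⟩, hWi⟩
    refine ⟨IsoNDHermPrime.le_of_fixed (p := p) hσ (qFrob_qFrob hq) hσp hconj hcc hC (by omega) hcount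
      ⟨hWd, hW⟩ hWi, ?_⟩
    have hsum := (Matrix.toLinAlgEquiv' (A : Matrix (Fin n) (Fin n) F) - 1).finrank_range_add_finrank_ker
    rw [hd, Module.finrank_fin_fun] at hsum
    rw [Module.finrank_fin_fun] at hz
    rw [← htz, Nat.mul_add_mod, Nat.mod_eq_of_lt (by omega)]
    omega
  · rintro hcond A hA ⟨z, hz⟩ -
    have hz1 := hz1of hA hz
    have hz0 : z ≠ 0 := fun e => by rw [e] at hz1; simp at hz1
    by_cases hroot : ∃ w : F, w ^ r = z
    · obtain ⟨w, hw, hw1⟩ : ∃ w : F, w ^ r = z ∧ w ^ (q + 1) = 1 := by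
        by_cases hi2 : i = 2
        · obtain ⟨w, hw⟩ := hroot
          refine ⟨w, hw, ?_⟩
          have hw0 : w ≠ 0 := fun e => hz0 (by rw [← hw, e, zero_pow hr.ne_zero])
          have ha : (w ^ (q + 1)) ^ r = 1 := by rw [← pow_mul, mul_comm, pow_mul, hw, hz1]
          have hb : (w ^ (q + 1)) ^ (q - 1) = 1 := by
            rw [← pow_mul, mul_comm]; exact S5953.units_pow hq hw0
          have h := pow_gcd_eq_one.2 ⟨ha, hb⟩
          rwa [((Nat.Prime.coprime_iff_not_dvd hr).2 (S5953.not_dvd_of_ne hq hr hr2 (hrq hi2))).gcd_eq_one,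
            pow_one] at h
        · obtain ⟨u, -, hu⟩ := Nat.exists_mul_mod_eq_one_of_coprime (hri hi2) (by omega)
          refine ⟨z ^ u, ?_, by rw [← pow_mul, mul_comm, pow_mul, hz1, one_pow]⟩
          rw [← pow_mul, mul_comm, ← Nat.div_add_mod (r * u) (q + 1), hu, pow_add, pow_mul, hz1, one_pow, one_mul,
            pow_one]
      have hw0 : w ≠ 0 := fun e => by rw [e] at hw1; simp at hw1
      obtain ⟨M, hM⟩ : ∃ M, M = w⁻¹ • (A : Matrix (Fin n) (Fin n) F) := ⟨_, rfl⟩
      have hTr : (Matrix.toLinAlgEquiv' M) ^ r = 1 := by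
        rw [← map_pow, hM, _root_.smul_pow, hz, smul_smul, inv_pow, hw, inv_mul_cancel₀ hz0, one_smul, map_one]
      have hMiso : ∀ u v, hermB hq n (M *ᵥ u) (M *ᵥ v) = hermB hq n u v := fun u v => by
        have h := smul_iso hq (hiso hA) w u v
        rw [hw1, inv_one, one_mul] at h
        rw [hM, Matrix.smul_mulVec, Matrix.smul_mulVec]
        exact h
      have hC := S5953.ctx_herm hq hr hr2 hrF hMiso hTr
      obtain ⟨d, hd⟩ := (nd_dims (p := p) hC hσp hcc (nd_mov hC) (inv_mov _) le_rfl).1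
      have hdn := Submodule.finrank_le (LinearMap.range (Matrix.toLinAlgEquiv' M - 1))
      rw [hd, Module.finrank_fin_fun] at hdn
      have hmod : m % c ≤ n % c := by
        rcases hcond with ⟨-, -, hle⟩ | ⟨hi2, -⟩
        · exact hle
        · rw [c_dvd (q := q) hr2 hi hc hi2, Nat.mod_one]; exact Nat.zero_le _
      obtain ⟨W, ⟨hWd, hW⟩, hWi⟩ := (IsoNDHermPrime.fixes_iff (p := p) hσ hσp hconj hcc hC hcpos hd (m := m)).2 (by
        rw [Module.finrank_fin_fun]
        rcases le_or_gt (m / c) d with hbd | hbd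
        · refine ⟨m / c, m % c, hbd, Nat.div_add_mod m c, ?_⟩
          have h1 := Nat.mul_le_mul_left c ((Nat.le_div_iff_mul_le hcpos).2 (by rw [mul_comm]; omega) : d ≤ n / c)
          have := Nat.div_add_mod n c
          omega
        · have h1 := Nat.mul_le_mul_left c hbd.le
          have := Nat.div_add_mod m c
          exact ⟨d, m - c * d, le_rfl, by omega, by omega⟩)
      refine ⟨W, hWd, hW, map_le_of_smul hw0 ?_⟩
      rwa [hM, map_smul] at hWi
    push Not at hroot
    have hi2 : i = 2 := by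
      by_contra hi2
      obtain ⟨u, -, hu⟩ := Nat.exists_mul_mod_eq_one_of_coprime (hri hi2) (by omega)
      refine hroot (z ^ u) ?_
      rw [← pow_mul, mul_comm, ← Nat.div_add_mod (r * u) (q + 1), hu, pow_add, pow_mul, hz1, one_pow, one_mul,
        pow_one]
    have hT : (Matrix.toLinAlgEquiv' (A : Matrix (Fin n) (Fin n) F)) ^ r = z • 1 := by
      rw [← map_pow]; exact hscal hz
    have hdvd : ∀ W : Submodule F (Fin n → F), W.map (Matrix.toLinAlgEquiv' (A : Matrix (Fin n) (Fin n) F)) ≤ W →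
        r ∣ Module.finrank F W := fun W hW => S5953.dvd_of_not_pow hr hz0 hT hroot hW
    obtain ⟨k, hk⟩ : r ∣ n := hdim ▸ hdvd ⊤ le_top
    rw [mul_comm] at hk
    rcases (hcond.resolve_left fun e => e.1 hi2).2 with hrm | hv
    · obtain ⟨l, hl⟩ := hrm
      obtain ⟨W, -, hW, hWi, hWd⟩ := IsoNDHerm.exists_of_pieces hG
        (IsoNDHerm.orth_of_scale hG one_ne_zero fun u v => by rw [hiso hA, one_mul])
        (IsoNDHerm.pieces_of_simple hσ hconj hG hr.pos one_ne_zero (fun u v => by rw [hiso hA, one_mul]) hT hdvd)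
        l ⊤ htop le_top (by omega)
      exact ⟨W, hWd.trans hl.symm, hW, hWi⟩
    · have hdet := S5953.det_of_not_pow (p := p) hr hodd hk hroot hz
      rw [A.2] at hdet
      obtain ⟨w, hw⟩ := S5953.pow_of_small hq (n := n) (hrq hi2) hk (by omega) hv hz1 hdet.symm
      exact absurd hw (hroot w)

end Cfsg.Agent.S5954
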