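import Cfsg.Statements.S5955
import Cfsg.Agent.Lib.MaxSub.IsoPieces
import Cfsg.Agent.Lib.MaxSub.IsoWitness
import Cfsg.Agent.Lib.MaxSub.OmegaElem
import Mathlib.LinearAlgebra.SymplecticGroup
-- import your own Cfsg.Agent.* helpers here

set_option autoImplicit false
open scoped MatrixGroups
open Cfsg

namespace Cfsg.Agent.S5955

open CfsgLib CfsgLib.MaxSub CfsgLib.MaxSub.IsoSemi CfsgLib.Classical Polynomial Matrix

section

universe u v
variable {F : Type u} [Field F] [Fintype F] {V : Type v} [AddCommGroup V] [Module F V] [FiniteDimensional F V]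
  {B : V →ₗ[F] V →ₗ[F] F} (hG : Geom B) (halt : ∀ v, B v v = 0)

omit [Fintype F] [FiniteDimensional F V] in
theorem map_le_of_smul {W : Submodule F V} {T : Module.End F V} {c : F} (h : ∀ w ∈ W, T w = c • w) :
    W.map T ≤ W := by
  rintro _ ⟨w, hw, rfl⟩; rw [h w hw]; exact W.smul_mem c hw

include hG halt in
/-- An involution fixes a totally isotropic subspace of every dimension up to half. -/
theorem exists_invol (h2 : (2 : F) ≠ 0) {T : Module.End F V} (hT : T * T = 1)
    (hiso : ∀ x y, B (T x) (T y) = B x y) {m : ℕ} (hm : 2 * m ≤ Module.finrank F V) :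
    ∃ W : Submodule F V, Module.finrank F W = m ∧ TI B W ∧ W.map T ≤ W := by
  obtain ⟨P, hP⟩ : ∃ P, P = LinearMap.ker (T - 1) := ⟨_, rfl⟩
  obtain ⟨N, hN⟩ : ∃ N, N = LinearMap.ker (T + 1) := ⟨_, rfl⟩
  have hPm : ∀ x, x ∈ P ↔ T x = x := fun x => by
    rw [hP, LinearMap.mem_ker, LinearMap.sub_apply, Module.End.one_apply, sub_eq_zero]
  have hNm : ∀ x, x ∈ N ↔ T x = -x := fun x => by
    rw [hN, LinearMap.mem_ker, LinearMap.add_apply, Module.End.one_apply, add_eq_zero_iff_eq_neg]
  have hTT : ∀ x, T (T x) = x := fun x => LinearMap.congr_fun hT x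
  have hdec : ∀ v, v = (2 : F)⁻¹ • (v + T v) + (2 : F)⁻¹ • (v - T v) := fun v => by
    rw [← smul_add, show v + T v + (v - T v) = (2 : F) • v by rw [two_smul]; abel, smul_smul,
      inv_mul_cancel₀ h2, one_smul]
  have hp : ∀ v, (2 : F)⁻¹ • (v + T v) ∈ P := fun v => P.smul_mem _ ((hPm _).2 (by
    rw [map_add, hTT, add_comm]))
  have hn : ∀ v, (2 : F)⁻¹ • (v - T v) ∈ N := fun v => N.smul_mem _ ((hNm _).2 (by
    rw [map_sub, hTT, neg_sub]))
  have hperp : ∀ x ∈ P, ∀ y ∈ N, B x y = 0 := fun x hx y hy => by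
    have h := hiso x y
    rw [(hPm x).1 hx, (hNm y).1 hy, map_neg] at h
    exact (mul_eq_zero.1 (by linear_combination -h : (2 : F) * B x y = 0)).resolve_left h2
  have hPnd : ND B P := fun x hx h => hG.sep x fun v => by
    rw [hdec v, map_add, h _ (hp v), hperp x hx _ (hn v), add_zero]
  have hNnd : ND B N := fun x hx h => hG.sep x fun v => by
    rw [hdec v, map_add, h _ (hn v), hG.refl _ _ (hperp _ (hp v) x hx), add_zero]
  have hPN : P ⊓ N = ⊥ := (Submodule.eq_bot_iff _).2 fun x ⟨hx, hx'⟩ => hPnd x hx fun v hv =>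
    hG.refl _ _ (hperp v hv x hx')
  have hsum : Module.finrank F P + Module.finrank F N = Module.finrank F V := by
    have h := Submodule.finrank_sup_add_finrank_inf_eq P N
    have hsup : P ⊔ N = ⊤ := eq_top_iff.2 fun v _ => by
      rw [hdec v]; exact Submodule.add_mem_sup (hp v) (hn v)
    rw [hsup, hPN, finrank_top, finrank_bot, add_zero] at h
    exact h.symm
  obtain ⟨t, ht⟩ := OmegaElem.even_finrank_of_alt (B.compl₁₂ P.subtype P.subtype) (fun v => halt _) fun x hx =>
    Subtype.ext (hPnd x x.2 fun v hv => hx ⟨v, hv⟩)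
  obtain ⟨W₁, hW₁, hW₁t, hW₁d⟩ := exists_ti_alt hG halt hPnd (min m t) (by omega)
  obtain ⟨W₂, hW₂, hW₂t, hW₂d⟩ := exists_ti_alt hG halt hNnd (m - min m t) (by omega)
  refine ⟨W₁ ⊔ W₂, ?_, ti_sup hG hW₁t hW₂t fun y hy w hw => hperp w (hW₁ hw) y (hW₂ hy),
    inv_sup (map_le_of_smul (c := 1) fun w hw => by rw [one_smul]; exact (hPm w).1 (hW₁ hw))
      (map_le_of_smul (c := -1) fun w hw => by rw [neg_one_smul]; exact (hNm w).1 (hW₂ hw))⟩
  have h := Submodule.finrank_sup_add_finrank_inf_eq W₁ W₂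
  have hW12 : W₁ ⊓ W₂ = ⊥ := le_bot_iff.1 (hPN ▸ inf_le_inf hW₁ hW₂)
  rw [hW12, finrank_bot, add_zero, hW₁d, hW₂d] at h
  omega

include hG in
/-- A square root of `-1` with eigenvalues in `F` fixes a totally isotropic subspace. -/
theorem exists_split_complex (h2 : (2 : F) ≠ 0) {T : Module.End F V} (hT : T * T = -1) {c : F} (hc : c * c = -1)
    (hiso : ∀ x y, B (T x) (T y) = B x y) {m : ℕ} (hm : 2 * m ≤ Module.finrank F V) :
    ∃ W : Submodule F V, Module.finrank F W = m ∧ TI B W ∧ W.map T ≤ W := by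
  have hti : ∀ e : F, e * e = -1 → TI B (LinearMap.ker (T - e • (1 : Module.End F V))) := fun e he x hx y hy => by
    rw [LinearMap.mem_ker, LinearMap.sub_apply, sub_eq_zero, LinearMap.smul_apply, Module.End.one_apply] at hx hy
    have h := hiso x y
    rw [hx, hy, map_smul, map_smul, LinearMap.smul_apply, smul_eq_mul, smul_eq_mul, ← mul_assoc, he] at h
    exact (mul_eq_zero.1 (by linear_combination -h : (2 : F) * B x y = 0)).resolve_left h2
  have hm' : ∀ e : F, e * e = -1 → Module.finrank F (LinearMap.ker (T - e • (1 : Module.End F V))) * 2 ≤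
      Module.finrank F V := fun e he => by
    rw [mul_comm, ← finrank_top (R := F) (M := V)]
    exact two_mul_ti_le hG (fun u _ h => hG.sep u fun v => h v trivial) le_top (hti e he)
  have h := (T - c • (1 : Module.End F V)).finrank_range_add_finrank_ker
  have hle : LinearMap.range (T - c • (1 : Module.End F V)) ≤
      LinearMap.ker (T - (-c) • (1 : Module.End F V)) := by
    rintro _ ⟨v, rfl⟩
    have hTT : T (T v) = -v := LinearMap.congr_fun hT v
    show T (T v - c • v) - (-c) • (T v - c • v) = 0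
    rw [map_sub, map_smul, hTT, neg_smul, smul_sub, smul_smul, hc, neg_one_smul]
    abel
  have h1 := Submodule.finrank_mono hle
  have h2' := hm' c hc
  have h3 := hm' (-c) (by rw [neg_mul_neg, hc])
  obtain ⟨W, -, hW, hWd⟩ := SemiDims.exists_between (bot_le : ⊥ ≤ LinearMap.ker (T - c • (1 : Module.End F V))) m
    (by rw [finrank_bot]; omega) (by omega)
  exact ⟨W, hWd, ti_mono hW (hti c hc), map_le_of_smul (c := c) fun w hw => by
    have := hW hw
    rwa [LinearMap.mem_ker, LinearMap.sub_apply, sub_eq_zero, LinearMap.smul_apply, Module.End.one_apply] at this⟩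

omit [Fintype F] [FiniteDimensional F V] in
/-- Three dimensions suffice for a zero of a quadratic form. -/
theorem exists_form_zero [Finite F] (h2 : (2 : F) ≠ 0) (P : V →ₗ[F] V →ₗ[F] F) (hP : ∀ u v, P u v = P v u)
    {Y : Submodule F V} [FiniteDimensional F Y] (hY : 3 ≤ Module.finrank F Y) :
    ∃ v ∈ Y, v ≠ 0 ∧ P v v = 0 := by
  classical
  haveI := Fintype.ofFinite F
  by_contra hno
  push Not at hno
  have hker : ∀ L : Y →ₗ[F] F, Module.finrank F Y ≤ Module.finrank F (LinearMap.ker L) + 1 := fun L => by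
    have h := L.finrank_range_add_finrank_ker
    have h1 := (LinearMap.range L).finrank_le
    rw [Module.finrank_self] at h1
    omega
  haveI : Nontrivial Y := Module.nontrivial_of_finrank_pos (R := F) (by omega)
  obtain ⟨a, ha⟩ := exists_ne (0 : Y)
  let La : Y →ₗ[F] F := P a ∘ₗ Y.subtype
  have h1 := hker La
  obtain ⟨b, hb, hb0⟩ := Submodule.exists_mem_ne_zero_of_ne_bot
    (fun h => by rw [h, finrank_bot] at h1; omega : LinearMap.ker La ≠ ⊥)
  let Lb : Y →ₗ[F] F := P b ∘ₗ Y.subtype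
  have h2' := hker Lb
  have h3 := Submodule.finrank_sup_add_finrank_inf_eq (LinearMap.ker La) (LinearMap.ker Lb)
  have h4 := (LinearMap.ker La ⊔ LinearMap.ker Lb).finrank_le
  obtain ⟨c, ⟨hca, hcb⟩, hc0⟩ := Submodule.exists_mem_ne_zero_of_ne_bot
    (fun h => by rw [h, finrank_bot] at h3; omega : LinearMap.ker La ⊓ LinearMap.ker Lb ≠ ⊥)
  have eab : P a b = 0 := hb
  have eac : P a c = 0 := hca
  have ebc : P b c = 0 := hcb
  have hA := hno a a.2 fun h => ha (Subtype.ext h)
  have hB := hno b b.2 fun h => hb0 (Subtype.ext h)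
  have hodd : Fintype.card F % 2 = 1 := FiniteField.odd_card_of_char_ne_two (F := F) fun h => h2 (by
    haveI := ringChar.of_eq h; exact_mod_cast CharP.cast_eq_zero F 2)
  obtain ⟨x, y, hxy⟩ := FiniteField.exists_root_sum_quadratic
    (f := Polynomial.C (P a a) * Polynomial.X ^ 2 + Polynomial.C 0 * Polynomial.X + Polynomial.C (P c c))
    (g := Polynomial.C (P b b) * Polynomial.X ^ 2 + Polynomial.C 0 * Polynomial.X + Polynomial.C 0)
    (degree_quadratic hA) (degree_quadratic hB) hodd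
  simp only [map_zero, zero_mul, add_zero, eval_add, eval_mul, eval_C, eval_pow, eval_X] at hxy
  obtain ⟨w, hw⟩ : ∃ w : V, w = x • (a : V) + y • (b : V) + c := ⟨_, rfl⟩
  refine hno w (hw ▸ Y.add_mem (Y.add_mem (Y.smul_mem _ a.2) (Y.smul_mem _ b.2)) c.2) (fun h0 => ?_) ?_
  · have hx : x = 0 := by
      have h := congrArg (P a) (hw ▸ h0)
      simpa [eab, eac, hA] using h
    have hy : y = 0 := by
      have h := congrArg (P b) (hw ▸ h0)
      simpa [hx, ebc, hB] using h
    exact hc0 (Subtype.ext (by simpa [hw, hx, hy] using h0))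
  · simp only [hw, map_add, map_smul, LinearMap.add_apply, LinearMap.smul_apply, smul_eq_mul, hP (b : V) a,
      hP (c : V) a, hP (c : V) b, eab, eac, ebc]
    linear_combination hxy

include hG halt in
/-- A square root of `-1` fixes a totally isotropic subspace of every even dimension up to half. -/
theorem exists_complex (h2 : (2 : F) ≠ 0) {T : Module.End F V} (hT : T * T = -1) (hns : ¬ IsSquare (-1 : F))
    (hiso : ∀ x y, B (T x) (T y) = B x y) :
    ∀ j, 4 * j ≤ Module.finrank F V → ∃ W : Submodule F V, Module.finrank F W = 2 * j ∧ TI B W ∧ W.map T ≤ W := by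
  intro j
  have hTT : ∀ x, T (T x) = -x := fun x => LinearMap.congr_fun hT x
  induction j with
  | zero => intro _; exact ⟨⊥, finrank_bot F V, ti_bot, inv_bot T⟩
  | succ j ih =>
    intro hj
    obtain ⟨W, hWd, hW, hWi⟩ := ih (by omega)
    obtain ⟨C, hC, hCi⟩ := SemiDims.exists_compl (r := 2) (by exact_mod_cast h2) (c := (-1 : F))
      (neg_ne_zero.2 one_ne_zero) (by rw [sq, hT, neg_one_smul]) hWi
    have hpi : (perp B W).map T ≤ perp B W := by
      rintro _ ⟨v, hv, rfl⟩ w hw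
      have h : w = T (-T w) := by rw [map_neg, hTT, neg_neg]
      rw [h, hiso]
      exact hv _ (W.neg_mem (apply_mem hWi hw))
    have hY : 3 ≤ Module.finrank F ↥(perp B W ⊓ C) := by
      have h1 := Submodule.finrank_sup_add_finrank_inf_eq W (perp B W ⊓ C)
      have h3 := finrank_perp hG W
      rw [show W ⊔ perp B W ⊓ C = perp B W by
          rw [inf_comm, ← sup_inf_assoc_of_le C (ti_iff_le_perp.1 hW), hC.sup_eq_top, top_inf_eq],
        show W ⊓ (perp B W ⊓ C) = ⊥ from le_bot_iff.1 (hC.disjoint.eq_bot ▸ inf_le_inf_left W inf_le_right),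
        finrank_bot] at h1
      omega
    obtain ⟨v, ⟨hvp, hvC⟩, hv0, hvv⟩ := exists_form_zero h2 (B.compl₂ T + (B.compl₂ T).flip)
      (fun u v => add_comm _ _) hY
    have hvT : B v (T v) = 0 := by
      simp only [LinearMap.add_apply, LinearMap.compl₂_apply, LinearMap.flip_apply] at hvv
      exact (mul_eq_zero.1 (by linear_combination hvv : (2 : F) * B v (T v) = 0)).resolve_left h2
    let L : (F × F) →ₗ[F] V := (LinearMap.toSpanSingleton F V v).coprod (LinearMap.toSpanSingleton F V (T v))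
    have hL : ∀ w, L w = w.1 • v + w.2 • T v := fun w => rfl
    have hLi : Function.Injective L := (injective_iff_map_eq_zero L).2 fun w hw => by
      rw [hL] at hw
      have h1 := congrArg T hw
      rw [map_add, map_smul, map_smul, hTT, map_zero] at h1
      have h3 : (w.1 * w.1 + w.2 * w.2) • v = 0 := by
        have := congrArg₂ (· + ·) (congrArg (w.1 • ·) hw) (congrArg ((-w.2) • ·) h1)
        simp only [smul_zero, add_zero] at this
        rw [← this]
        module
      rw [smul_eq_zero] at h3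
      replace h3 := h3.resolve_right hv0
      by_cases hy : w.2 = 0
      · rw [hy, mul_zero, add_zero] at h3
        exact Prod.ext (mul_self_eq_zero.1 h3) hy
      · exact absurd ⟨w.1 / w.2, by field_simp; linear_combination -h3⟩ hns
    have hLC : LinearMap.range L ≤ perp B W ⊓ C := by
      rintro _ ⟨w, rfl⟩
      rw [hL]
      exact Submodule.add_mem _ (Submodule.smul_mem _ _ ⟨hvp, hvC⟩)
        (Submodule.smul_mem _ _ ⟨apply_mem hpi hvp, apply_mem hCi hvC⟩)
    refine ⟨W ⊔ LinearMap.range L, ?_, ti_sup hG hW ?_ (hLC.trans inf_le_left), inv_sup hWi ?_⟩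
    · have h := Submodule.finrank_sup_add_finrank_inf_eq W (LinearMap.range L)
      have hWL : W ⊓ LinearMap.range L = ⊥ :=
        le_bot_iff.1 (hC.disjoint.eq_bot ▸ inf_le_inf_left W (hLC.trans inf_le_right))
      rw [hWL, finrank_bot, add_zero,
        hWd, LinearMap.finrank_range_of_inj hLi, Module.finrank_prod, Module.finrank_self] at h
      omega
    · rintro _ ⟨w, rfl⟩ _ ⟨z, rfl⟩
      simp [hL, halt, hvT, hG.refl _ _ hvT]
    · rintro _ ⟨_, ⟨w, rfl⟩, rfl⟩
      exact ⟨(-w.2, w.1), by rw [hL, hL, map_add, map_smul, map_smul, hTT]; module⟩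

omit [Fintype F] in
/-- Without a square root of `-1` the invariant subspaces are even-dimensional. -/
theorem even_of_complex {T : Module.End F V} (hT : T * T = -1) (hns : ¬ IsSquare (-1 : F)) {W : Submodule F V}
    (hWi : W.map T ≤ W) : Even (Module.finrank F W) := by
  by_contra hodd
  rw [Nat.not_even_iff_odd] at hodd
  let S : Module.End F W := T.restrict fun x hx => apply_mem hWi hx
  have hS : S * S = (-1 : F) • (1 : Module.End F W) := LinearMap.ext fun x => Subtype.ext (by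
    show T (T (x : V)) = (((-1 : F) • x : W) : V)
    rw [Submodule.coe_smul, neg_one_smul]
    exact LinearMap.congr_fun hT (x : V))
  have h := congrArg LinearMap.det hS
  rw [map_mul, LinearMap.det_smul, map_one, mul_one, hodd.neg_one_pow] at h
  exact hns ⟨_, h.symm⟩

/-- Forward direction in odd order: the arithmetic conditions give the subspace. -/
theorem exists_odd {p r : ℕ} [Fact p.Prime] [CharP F p] {T : Module.End F V} (hC : Ctx B T r)
    (halt : ∀ v, B v v = 0) {d m i c : ℕ} (hdim : Module.finrank F V = 2 * d) (hmd : m ≤ d)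
    (hi : i = orderOf (Fintype.card F : ZMod r)) (hc : c = if Even i then i else 2 * i)
    (hSD : SelfDual (Fintype.card F) (p ^ 0) r ↔ Even i)
    (h2 : 2 * (m % i) ≤ (2 * d) % c) (h3 : Odd i ∨ (r - 1) / i + 2 * (m / i) ≤ (2 * d) / i) :
    ∃ W : Submodule F V, Module.finrank F W = m ∧ TI B W ∧ W.map T ≤ W := by
  haveI : Fact r.Prime := ⟨hC.prime⟩
  have hσp : ∀ x : F, RingHom.id F x = x ^ p ^ 0 := fun x => by simp
  have hipos : 0 < i := hi ▸ ord_pos hC
  have hsum := (T - 1).finrank_range_add_finrank_ker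
  rw [hdim] at hsum
  obtain ⟨hcdvd, -⟩ := nd_dims hC hσp (d := c)
    ⟨fun h => by rw [hc, if_pos (hSD.1 h), hi], fun h => by rw [hc, if_neg (mt hSD.2 h), hi]⟩
    (nd_mov hC) (inv_mov T) le_rfl
  obtain ⟨W₀, hW₀R, hW₀i, hW₀, hW₀b, hW₀e⟩ := exists_max (p := p) hC hσp (nd_mov hC) (inv_mov T) le_rfl
  obtain ⟨w, hw⟩ := dvd_finrank hC hW₀i hW₀R
  rw [← hi] at hw
  obtain ⟨k, hk⟩ : ∃ k, k = min w (m / i) := ⟨_, rfl⟩
  have hkw : i * k ≤ i * w := Nat.mul_le_mul_left _ (by omega)
  have hkm : i * k ≤ m := (Nat.mul_le_mul_left i (by omega : k ≤ m / i)).trans (Nat.mul_div_le m i)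
  obtain ⟨e0, he0⟩ : ∃ e0, e0 = Module.finrank F ↥(LinearMap.ker (T - 1)) := ⟨_, rfl⟩
  obtain ⟨R', hR'⟩ := hcdvd
  rw [← he0, hR'] at hsum
  have hneed : 2 * (m - i * k) ≤ e0 := by
    have hmod : (2 * d) % c = e0 % c := by rw [← hsum, Nat.mul_add_mod]
    rcases le_total (m / i) w with hle | hle
    · have hm := Nat.div_add_mod m i
      rw [min_eq_right hle] at hk
      subst hk
      have := Nat.mod_le e0 c
      omega
    · rw [min_eq_left hle] at hk
      subst hk
      rcases h3 with ho | h3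
      · have := hW₀e (mt hSD.1 (Nat.not_even_iff_odd.2 ho))
        rw [hR', hw] at this
        omega
      by_cases hev : Even i
      swap
      · have := hW₀e (mt hSD.1 hev)
        rw [hR', hw] at this
        omega
      rw [if_pos hev] at hc
      subst c
      obtain ⟨t, ht⟩ : i ∣ r - 1 := hi ▸ orderOf_dvd_of_pow_eq_one (ZMod.pow_card_sub_one_eq_one fun h0 => by
        rw [h0] at hi; simp at hi; omega)
      rw [ht, Nat.mul_div_cancel_left _ hipos, ← hsum, Nat.mul_add_div hipos] at h3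
      rw [hR', hw, ht, ← mul_assoc, mul_comm 2, mul_assoc, ← mul_add] at hW₀b
      have hR := Nat.le_of_mul_le_mul_left hW₀b hipos
      have h5 : i * (2 * (m / i)) ≤ i * (2 * k + e0 / i) := Nat.mul_le_mul_left _ (by omega)
      rw [mul_add, mul_left_comm i 2, mul_left_comm i 2] at h5
      have := Nat.div_add_mod m i
      have := Nat.div_add_mod e0 i
      omega
  obtain ⟨X, hX, hXi, hXd⟩ := exists_sub hC hW₀i (hW₀R) k (by rw [hw, ← hi]; exact hkw)
  obtain ⟨Z, hZ, hZt, hZd⟩ := exists_ti_alt hC.toGeom halt (nd_fix hC) (m - i * k) (by omega)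
  refine ⟨X ⊔ Z, ?_, ti_sup hC.toGeom (ti_mono hX hW₀) hZt
    (le_perp_comm hC.toGeom ((hX.trans hW₀R).trans ((fix_le_perp hC).trans (perp_antitone hZ)))),
    inv_sup hXi (map_le_of_smul (c := 1) fun z hz => by
      rw [one_smul]; exact sub_eq_zero.1 (show (T - 1) z = 0 from hZ hz))⟩
  have h := Submodule.finrank_sup_add_finrank_inf_eq X Z
  rw [le_bot_iff.1 ((inf_le_inf (hX.trans hW₀R) hZ).trans ((inf_comm _ _).trans (disjoint_fix_mov hC)).le),
    finrank_bot, add_zero, hXd, hZd, ← hi] at h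
  omega

end

section

universe u
variable {F : Type u} [Field F] {d : ℕ}

theorem sympBilin_mulVec (A : ↥(Matrix.symplecticGroup (Fin d) F)) (u v : Fin d ⊕ Fin d → F) :
    Geom.sympBilin d F ((A : Matrix (Fin d ⊕ Fin d) (Fin d ⊕ Fin d) F) *ᵥ u)
      ((A : Matrix (Fin d ⊕ Fin d) (Fin d ⊕ Fin d) F) *ᵥ v) = Geom.sympBilin d F u v := by
  rw [Geom.sympBilin_apply, Geom.sympBilin_apply, Cfsg.sympForm, Cfsg.sympForm]
  have h := A.2
  rw [SymplecticGroup.mem_iff'] at h
  rw [Matrix.mulVec_mulVec, Matrix.dotProduct_mulVec, Matrix.vecMul_mulVec, ← Matrix.mul_assoc,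
    ← Matrix.dotProduct_mulVec, h]

theorem geom_symp [Fintype F] : Geom (Geom.sympBilin d F) :=
  ⟨Geom.sympBilin_sep, fun x y hxy => by rw [Geom.sympBilin_swap, hxy, neg_zero]⟩

theorem scalar_sq {A : ↥(Matrix.symplecticGroup (Fin d) F)} {z : F} (hd : 1 ≤ d)
    (hA : (A : Matrix (Fin d ⊕ Fin d) (Fin d ⊕ Fin d) F) = z • 1) : z * z = 1 := by
  let u : Fin d ⊕ Fin d → F := Pi.single (Sum.inl ⟨0, hd⟩) 1
  obtain ⟨v, hv⟩ : ∃ v, Geom.sympBilin d F u v ≠ 0 := by
    by_contra h
    push Not at h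
    simpa [u] using congrFun (Geom.sympBilin_sep u h) (Sum.inl ⟨0, hd⟩)
  have h := sympBilin_mulVec A u v
  simp only [hA, Matrix.smul_mulVec, Matrix.one_mulVec, map_smul, LinearMap.smul_apply, smul_eq_mul] at h
  exact mul_right_cancel₀ hv (by linear_combination h)

theorem ctx_symp [Fintype F] {r : ℕ} (hr : r.Prime) (hr2 : r ≠ 2) (hrF : (r : F) ≠ 0)
    (A : ↥(Matrix.symplecticGroup (Fin d) F))
    (hA : (Matrix.toLinAlgEquiv' (A : Matrix (Fin d ⊕ Fin d) (Fin d ⊕ Fin d) F)) ^ r = 1) :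
    Ctx (Geom.sympBilin d F) (Matrix.toLinAlgEquiv' (A : Matrix (Fin d ⊕ Fin d) (Fin d ⊕ Fin d) F)) r where
  toGeom := geom_symp
  invol := fun _ => rfl
  flip := ⟨-1, by simp, fun u v => by rw [Geom.sympBilin_swap u v]; simp⟩
  iso := fun u v => sympBilin_mulVec A u v
  pow := hA
  prime := hr
  rne := hrF
  rne2 := hr2

/-- A rescaling of order dividing `r`. -/
theorem pow_eq_one_smul {r : ℕ} (hr : Odd r) {A : ↥(Matrix.symplecticGroup (Fin d) F)} {z : F} (hd : 1 ≤ d)
    (hA : ((A ^ r : ↥(Matrix.symplecticGroup (Fin d) F)) : Matrix (Fin d ⊕ Fin d) (Fin d ⊕ Fin d) F) = z • 1) :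
    ∃ A' : ↥(Matrix.symplecticGroup (Fin d) F), A' ^ r = 1 ∧
      (A' : Matrix (Fin d ⊕ Fin d) (Fin d ⊕ Fin d) F) = z • (A : Matrix (Fin d ⊕ Fin d) (Fin d ⊕ Fin d) F) ∧
      z * z = 1 := by
  have hz := scalar_sq hd hA
  have hmem : z • (A : Matrix (Fin d ⊕ Fin d) (Fin d ⊕ Fin d) F) ∈ Matrix.symplecticGroup (Fin d) F := by
    have h := A.2
    rw [SymplecticGroup.mem_iff] at h ⊢
    rw [Matrix.transpose_smul, Matrix.smul_mul, Matrix.smul_mul, Matrix.mul_smul, smul_smul, hz, one_smul, h]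
  refine ⟨⟨_, hmem⟩, Subtype.ext ?_, rfl, hz⟩
  rw [SubmonoidClass.coe_pow, _root_.smul_pow, ← SubmonoidClass.coe_pow, hA, smul_smul, ← pow_succ]
  obtain ⟨k, rfl⟩ := hr
  rw [show 2 * k + 1 + 1 = 2 * (k + 1) by ring, pow_mul, sq, hz, one_pow, one_smul]
  rfl

end

/-- Elements of prime order of PSp_n(q) with no fixed totally isotropic `m`-space. Here `T = PSp_n(q)` with `n = 2d ≥ 4`, `(n, q) ≠ (4, 2)`, realised through the symplectic matrices over the field `F` with `q` elements (preserving the standard alternating form); an element of `T` of prime order `r` is such a matrix `x` with `x^r` scalar and `x` not scalar. For `r ≠ p` let `i` be the multiplicative order of `q` modulo `r`, `c = i` for `i` even and `c = 2i` for `i` odd, and write `k = n mod c`, `ℓ = m mod i`, `ℓ' = m mod c`, `n' = ⌊n/i⌋`, `m' = ⌊m/i⌋`, `t = (r−1)/i`. Let `1 ≤ m ≤ n/2` and let `r` be a prime dividing the number of totally isotropic `m`-spaces. Then every element of `T` of order `r` fixes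 a totally isotropic `m`-space if and only if either (i) `r = 2 ≠ p` and (`m` is even or `q ≡ 1 (mod 4)`); or (ii) `r ≠ p`, `r > 2`, `i ≤ m`, `k ≥ 2ℓ`, and (`i` is odd or `n' − 2m' ≥ t`). -/
theorem result {F : Type*} [Field F] [Fintype F] {p : ℕ} [Fact p.Prime] [CharP F p] {q : ℕ} (hq : Fintype.card F = q)
    (d m : ℕ) (hd : 2 ≤ d) (hT : (d, q) ≠ (2, 2)) (hm : 1 ≤ m) (hmd : m ≤ d)
    (r : ℕ) [Fact r.Prime]
    (hrΩ : r ∣ Nat.card {W : Submodule F (Fin d ⊕ Fin d → F) // Module.finrank F ↥W = m ∧ (∀ u ∈ W, ∀ v ∈ W, Cfsg.sympForm d F u v = 0)})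
    (i c : ℕ) (hi : i = orderOf (q : ZMod r)) (hc : c = if Even i then i else 2 * i) :
    (∀ x : ↥(Matrix.symplecticGroup (Fin d) F),
      (∃ z : F, ((x ^ r : ↥(Matrix.symplecticGroup (Fin d) F)) : Matrix (Fin d ⊕ Fin d) (Fin d ⊕ Fin d) F) = z • (1 : Matrix (Fin d ⊕ Fin d) (Fin d ⊕ Fin d) F)) →
      (∀ z : F, (x : Matrix (Fin d ⊕ Fin d) (Fin d ⊕ Fin d) F) ≠ z • (1 : Matrix (Fin d ⊕ Fin d) (Fin d ⊕ Fin d) F)) →
      ∃ W : Submodule F (Fin d ⊕ Fin d → F), Module.finrank F ↥W = m ∧ (∀ u ∈ W, ∀ v ∈ W, Cfsg.sympForm d F u v = 0) ∧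
        W.map (Matrix.toLin' (x : Matrix (Fin d ⊕ Fin d) (Fin d ⊕ Fin d) F)) ≤ W) ↔
    ((r = 2 ∧ p ≠ 2 ∧ (Even m ∨ q % 4 = 1)) ∨
     (r ≠ p ∧ 2 < r ∧ i ≤ m ∧ 2 * (m % i) ≤ (2 * d) % c ∧ (Odd i ∨ (r - 1) / i + 2 * (m / i) ≤ (2 * d) / i))) := by
  classical
  subst hq
  have hr : r.Prime := Fact.out
  have hdim : Module.finrank F (Fin d ⊕ Fin d → F) = 2 * d := by simp; omega
  obtain ⟨hrp, j, hjm, hjr⟩ := IsoWitness.dvd_count_symp (p := p) hmd hrΩ
  have hrF : (r : F) ≠ 0 := SympOrderR.r_ne_zero (p := p) hr hrp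
  have hto : ∀ M : Matrix (Fin d ⊕ Fin d) (Fin d ⊕ Fin d) F,
      (Matrix.toLin' M : (Fin d ⊕ Fin d → F) →ₗ[F] (Fin d ⊕ Fin d → F)) = Matrix.toLinAlgEquiv' M := fun _ => rfl
  have hscal : ∀ {M : Matrix (Fin d ⊕ Fin d) (Fin d ⊕ Fin d) F} {z : F},
      M = z • 1 → Matrix.toLinAlgEquiv' M = z • (1 : Module.End F (Fin d ⊕ Fin d → F)) := by
    rintro M z rfl; rw [map_smul, map_one]
  by_cases hr2 : r = 2
  · subst hr2
    have h2 : (2 : F) ≠ 0 := by exact_mod_cast hrF
    have hp2 : p ≠ 2 := Ne.symm hrp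
    have hchar : ringChar F ≠ 2 := by rwa [ringChar.eq F p]
    have hsq : IsSquare (-1 : F) ↔ Fintype.card F % 4 ≠ 3 := FiniteField.isSquare_neg_one_iff
    have hq4 : Fintype.card F % 4 = 1 ∨ Fintype.card F % 4 = 3 := by
      have := FiniteField.odd_card_of_char_ne_two hchar
      omega
    constructor
    · intro h
      refine Or.inl ⟨rfl, hp2, ?_⟩
      by_contra hne
      push Not at hne
      obtain ⟨hmo, hq1⟩ := hne
      have hns : ¬ IsSquare (-1 : F) := fun hs => hsq.1 hs (hq4.resolve_left hq1)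
      let J : ↥(Matrix.symplecticGroup (Fin d) F) := ⟨Matrix.J (Fin d) F, SymplecticGroup.J_mem (Fin d) F⟩
      have hJ : (J : Matrix (Fin d ⊕ Fin d) (Fin d ⊕ Fin d) F) * J = -1 := Matrix.J_squared (Fin d) F
      obtain ⟨W, hWd, -, hWi⟩ := h J ⟨-1, by rw [SubmonoidClass.coe_pow, sq, hJ, neg_one_smul]⟩ fun z hz => hns (by
        rw [hz, Matrix.smul_mul, Matrix.mul_smul, smul_smul, Matrix.one_mul] at hJ
        have := congrFun (congrFun hJ (Sum.inl ⟨0, by omega⟩)) (Sum.inl ⟨0, by omega⟩)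
        simp only [Matrix.smul_apply, Matrix.one_apply_eq, smul_eq_mul, mul_one, Matrix.neg_apply] at this
        exact ⟨z, this.symm⟩)
      rw [hto] at hWi
      exact hmo (hWd ▸ even_of_complex (by rw [← map_mul, hJ, map_neg, map_one]) hns hWi)
    · rintro (⟨-, -, hcond⟩ | ⟨-, h, -⟩) A ⟨z, hz⟩ -
      swap
      · omega
      have hz2 := scalar_sq (by omega) hz
      have hTT : Matrix.toLinAlgEquiv' (A : Matrix (Fin d ⊕ Fin d) (Fin d ⊕ Fin d) F) *
          Matrix.toLinAlgEquiv' (A : Matrix (Fin d ⊕ Fin d) (Fin d ⊕ Fin d) F) = z • 1 := by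
        rw [← map_mul, ← sq, ← SubmonoidClass.coe_pow, hscal hz]
      have hiso : ∀ u v, Geom.sympBilin d F
          (Matrix.toLinAlgEquiv' (A : Matrix (Fin d ⊕ Fin d) (Fin d ⊕ Fin d) F) u)
          (Matrix.toLinAlgEquiv' (A : Matrix (Fin d ⊕ Fin d) (Fin d ⊕ Fin d) F) v) = Geom.sympBilin d F u v :=
        fun u v => sympBilin_mulVec A u v
      suffices ∃ W : Submodule F (Fin d ⊕ Fin d → F), Module.finrank F W = m ∧ TI (Geom.sympBilin d F) W ∧
          W.map (Matrix.toLinAlgEquiv' (A : Matrix (Fin d ⊕ Fin d) (Fin d ⊕ Fin d) F)) ≤ W by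
        obtain ⟨W, h1, h2, h3⟩ := this
        exact ⟨W, h1, fun u hu v hv => (Geom.sympBilin_apply u v).symm.trans (h2 u hu v hv), h3⟩
      rcases mul_self_eq_one_iff.1 hz2 with rfl | rfl
      · rw [one_smul] at hTT
        exact exists_invol geom_symp Geom.sympBilin_self h2 hTT hiso (by omega)
      rw [show (-1 : F) • (1 : Module.End F (Fin d ⊕ Fin d → F)) = -1 from LinearMap.ext fun v => neg_one_smul F v] at hTT
      rcases hq4 with hq1 | hq3
      · obtain ⟨c, hc⟩ := hsq.2 (by omega)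
        exact exists_split_complex geom_symp h2 hTT hc.symm hiso (by omega)
      · obtain ⟨k, hk⟩ := hcond.resolve_right (by omega)
        obtain ⟨W, hWd, hW⟩ := exists_complex geom_symp Geom.sympBilin_self h2 hTT
          (fun hs => hsq.1 hs hq3) hiso k (by omega)
        exact ⟨W, by omega, hW⟩
  have hr3 : 2 < r := lt_of_le_of_ne hr.two_le (Ne.symm hr2)
  have hipos : 0 < i := SympOrderR.i_pos (F := F) (p := p) rfl hr hrp hi
  have hdvd : i ∣ r - 1 := hi ▸ orderOf_dvd_of_pow_eq_one (ZMod.pow_card_sub_one_eq_one fun h0 => by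
    rw [h0] at hi; simp at hi; omega)
  have htpos : 1 ≤ (r - 1) / i := Nat.div_pos (Nat.le_of_dvd (by omega) hdvd) hipos
  have h2r : (2 : ZMod r) ≠ 0 := fun h => hr2 ((Nat.prime_dvd_prime_iff_eq hr Nat.prime_two).1
    ((ZMod.natCast_eq_zero_iff 2 r).1 (by exact_mod_cast h)))
  have hqi : (Fintype.card F : ZMod r) ^ i = 1 := hi ▸ pow_orderOf_eq_one _
  have hSD : SelfDual (Fintype.card F) (p ^ 0) r ↔ Even i := by
    constructor
    · rintro ⟨k, hk⟩
      rw [pow_zero, one_mul, ← ZMod.natCast_eq_zero_iff, Nat.cast_add, Nat.cast_pow, Nat.cast_one] at hk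
      by_contra hodd
      rw [Nat.not_even_iff_odd] at hodd
      have h1 : ((Fintype.card F : ZMod r) ^ k) ^ i = 1 := by rw [← pow_mul, mul_comm, pow_mul, hqi, one_pow]
      rw [eq_neg_of_add_eq_zero_left hk, hodd.neg_one_pow] at h1
      exact h2r (by linear_combination -h1)
    · rintro ⟨k, hk⟩
      refine ⟨k, ?_⟩
      rw [pow_zero, one_mul, ← ZMod.natCast_eq_zero_iff, Nat.cast_add, Nat.cast_pow, Nat.cast_one]
      rcases sq_eq_one_iff.1 (show ((Fintype.card F : ZMod r) ^ k) ^ 2 = 1 by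
        rw [← pow_mul, show k * 2 = i by omega, hqi]) with h | h
      · have := orderOf_dvd_of_pow_eq_one h
        rw [← hi] at this
        have := Nat.le_of_dvd (by omega) this
        omega
      · rw [h, neg_add_cancel]
  have hcdvd : c ∣ 2 * (d - j) := by
    have h1 : i ∣ 2 * (d - j) := hi ▸ orderOf_dvd_of_pow_eq_one (by
      rw [← ZMod.natCast_eq_zero_iff, Nat.cast_sub (Nat.one_le_pow _ _ Fintype.card_pos), sub_eq_zero] at hjr
      simpa using hjr)
    by_cases hev : Even i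
    · rwa [hc, if_pos hev]
    · rw [hc, if_neg hev]
      exact mul_dvd_mul_left 2 ((Nat.coprime_two_right.2 (Nat.not_even_iff_odd.1 hev)).dvd_of_dvd_mul_left h1)
  have hcpos : 0 < c := by rw [hc]; split_ifs <;> omega
  have hcd : c ≤ 2 * d := (Nat.le_of_dvd (by omega) hcdvd).trans (by omega)
  have hsmall : i ≤ m ∨ (2 * d) % c < 2 * (m % i) := by
    by_cases him : i ≤ m
    · exact Or.inl him
    refine Or.inr ?_
    rw [Nat.mod_eq_of_lt (by omega : m < i), show 2 * d = 2 * (d - j) + 2 * j by omega]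
    obtain ⟨t, ht⟩ := hcdvd
    rw [ht, Nat.mul_add_mod]
    have := Nat.mod_le (2 * j) c
    omega
  constructor
  · intro h
    refine Or.inr ⟨hrp, hr3, ?_⟩
    have hwit : ∀ A : ↥(Matrix.symplecticGroup (Fin d) F), A ^ r = 1 →
        Module.finrank F ↥(LinearMap.ker
          (Matrix.toLinAlgEquiv' (A : Matrix (Fin d ⊕ Fin d) (Fin d ⊕ Fin d) F) - 1)) < 2 * d →
        ∃ W : Submodule F (Fin d ⊕ Fin d → F), Module.finrank F W = m ∧ TI (Geom.sympBilin d F) W ∧
          W.map (Matrix.toLinAlgEquiv' (A : Matrix (Fin d ⊕ Fin d) (Fin d ⊕ Fin d) F)) ≤ W := by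
      intro A hA hfix
      obtain ⟨W, h1, h2, h3⟩ := h A ⟨1, by rw [hA, one_smul]; rfl⟩ fun z hz => by
        have hzr : z ^ r = 1 := by
          have h4 : ((A ^ r : ↥(Matrix.symplecticGroup (Fin d) F)) :
              Matrix (Fin d ⊕ Fin d) (Fin d ⊕ Fin d) F) = z ^ r • 1 := by
            rw [SubmonoidClass.coe_pow, hz, _root_.smul_pow, one_pow]
          rw [hA] at h4
          simpa using (congrFun (congrFun h4 (Sum.inl ⟨0, by omega⟩)) (Sum.inl ⟨0, by omega⟩)).symm
        have hz2 := scalar_sq (by omega) hz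
        obtain ⟨k, hk⟩ := hr.odd_of_ne_two hr2
        rw [hk, pow_succ, pow_mul, sq, hz2, one_pow, one_mul] at hzr
        rw [hscal (hz.trans (by rw [hzr])), one_smul, sub_self, LinearMap.ker_zero, finrank_top, hdim] at hfix
        omega
      exact ⟨W, h1, fun u hu v hv => (Geom.sympBilin_apply u v).trans (h2 u hu v hv), h3⟩
    have hctx := fun (A : ↥(Matrix.symplecticGroup (Fin d) F)) hA =>
      ctx_symp hr hr2 hrF A (IsoWitness.coe_pow_eq_one (r := r) hA)
    have hcase2 : 2 * (m % i) ≤ (2 * d) % c := by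
      by_contra hlt
      push Not at hlt
      have he : Even ((2 * d) % c) := by
        have hce : Even c := by
          rw [hc]
          split_ifs with hev
          · exact hev
          · exact even_two_mul i
        rw [Nat.even_iff] at hce ⊢
        rw [Nat.mod_mod_of_dvd _ (Nat.dvd_of_mod_eq_zero hce)]
        omega
      obtain ⟨A, hA, hAe⟩ := IsoWitness.exists_symp_block (F := F) (p := p) (d := d) hr2 hrp hi hc
        (Nat.mod_add_div (2 * d) c) he
      have := Nat.mod_lt (2 * d) hcpos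
      obtain ⟨W, hWd, hW, hWi⟩ := hwit A hA (by omega)
      have hs := finrank_split (hctx A hA) hWi
      obtain ⟨t, ht⟩ := dvd_finrank (hctx A hA) (inv_inf hWi (inv_mov _)) inf_le_right
      have h1 := two_mul_ti_le (hctx A hA).toGeom (nd_fix (hctx A hA)) inf_le_right (ti_mono inf_le_left hW)
      rw [ht, hWd, ← hi] at hs
      have h4 := Nat.mod_le (Module.finrank F ↥(W ⊓ LinearMap.ker
        (Matrix.toLinAlgEquiv' (A : Matrix (Fin d ⊕ Fin d) (Fin d ⊕ Fin d) F) - 1))) i
      have h5 : m % i = Module.finrank F ↥(W ⊓ LinearMap.ker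
        (Matrix.toLinAlgEquiv' (A : Matrix (Fin d ⊕ Fin d) (Fin d ⊕ Fin d) F) - 1)) % i := by
        rw [← hs, Nat.add_mul_mod_self_left]
      omega
    have him : i ≤ m := hsmall.resolve_right (by omega)
    refine ⟨him, hcase2, ?_⟩
    by_contra hne
    push Not at hne
    obtain ⟨hev, hlt⟩ := hne
    rw [Nat.not_odd_iff_even] at hev
    obtain ⟨o, ho⟩ : ∃ o, o = min ((r - 1) / i) (2 * d / i) := ⟨_, rfl⟩
    have hid : i ≤ 2 * d := by rwa [hc, if_pos hev] at hcd
    have hopos : 1 ≤ o := by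
      have := Nat.div_pos hid hipos
      omega
    have hoi : i * o ≤ 2 * d := (Nat.mul_le_mul_left i (by omega : o ≤ 2 * d / i)).trans (Nat.mul_div_le _ _)
    obtain ⟨A, hA, hAe, hAg⟩ := IsoWitness.exists_symp_distinct (F := F) (p := p) (d := d) hr2 hrp hi hev
      (by omega : o ≤ (r - 1) / i) hoi
    have := Nat.mul_le_mul_left i hopos
    obtain ⟨W, hWd, hW, hWi⟩ := hwit A hA (by omega)
    have hone : ∀ g ∈ SympOrderR.factors F r, Module.finrank F ↥(LinearMap.ker (aeval
        (Matrix.toLinAlgEquiv' (A : Matrix (Fin d ⊕ Fin d) (Fin d ⊕ Fin d) F)) g)) ≤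
          orderOf (Fintype.card F : ZMod r) := fun g hg => by
      have hker : LinearMap.ker (aeval (Matrix.toLinAlgEquiv'
          (A : Matrix (Fin d ⊕ Fin d) (Fin d ⊕ Fin d) F)) g) ≤ LinearMap.range
            (Matrix.toLinAlgEquiv' (A : Matrix (Fin d ⊕ Fin d) (Fin d ⊕ Fin d) F) - 1) := fun x hx => by
        obtain ⟨a, b, hab⟩ := (irreducible_X_sub_C (1 : F)).coprime_iff_not_dvd.2 fun hd1 =>
          (SympOrderR.facts (F := F) hr hrp hg).1 (eq_of_monic_of_associated (SympOrderR.mem_factors.1 hg).1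
            (monic_X_sub_C 1)
            ((irreducible_X_sub_C 1).associated_of_dvd (SympOrderR.mem_factors.1 hg).2.1 hd1).symm)
        refine ⟨aeval (Matrix.toLinAlgEquiv' (A : Matrix (Fin d ⊕ Fin d) (Fin d ⊕ Fin d) F)) a x, ?_⟩
        have h6 := LinearMap.congr_fun (congrArg
          (aeval (Matrix.toLinAlgEquiv' (A : Matrix (Fin d ⊕ Fin d) (Fin d ⊕ Fin d) F))) hab) x
        rw [map_add, map_mul, map_mul, map_one, LinearMap.add_apply, Module.End.mul_apply, Module.End.mul_apply,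
          LinearMap.mem_ker.1 hx, map_zero, add_zero, map_one, Module.End.one_apply] at h6
        refine Eq.trans ?_ h6
        rw [← Module.End.mul_apply, ← Module.End.mul_apply]
        congr 1
        rw [← map_mul, mul_comm a, map_mul, map_sub, aeval_X, map_one]
      obtain ⟨t, ht⟩ := dvd_finrank (hctx A hA) (inv_ker_aeval _ g) hker
      have hlt2 := hAg g hg
      rw [ht, ← hi] at hlt2 ⊢
      have ht1 : t < 2 := Nat.lt_of_mul_lt_mul_left (by rwa [mul_comm 2 i] at hlt2)
      calc i * t ≤ i * 1 := Nat.mul_le_mul_left _ (by omega)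
        _ = i := mul_one i
    have hbot := no_ti (p := p) (c := 0) (hctx A hA) (fun x => by simp) (hSD.2 hev) hone
      (inv_inf hWi (inv_mov _)) inf_le_right (ti_mono inf_le_left hW)
    have hs := finrank_split (hctx A hA) hWi
    rw [hbot, finrank_bot, hWd, add_zero] at hs
    have h1 := two_mul_ti_le (hctx A hA).toGeom (nd_fix (hctx A hA)) inf_le_right (ti_mono inf_le_left hW)
    rw [hs] at h1
    rcases le_total ((r - 1) / i) (2 * d / i) with hle | hle
    · rw [min_eq_left hle] at ho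
      subst ho
      have h7 : (r - 1) / i + 2 * (m / i) ≤ 2 * d / i := by
        rw [Nat.le_div_iff_mul_le hipos]
        have := Nat.div_mul_le_self m i
        rw [add_mul, mul_assoc, mul_comm ((r - 1) / i) i]
        omega
      omega
    · rw [min_eq_right hle] at ho
      subst ho
      have := Nat.div_add_mod (2 * d) i
      have := Nat.mod_lt (2 * d) hipos
      omega
  · rintro (⟨h, -, -⟩ | ⟨-, -, -, h2, h3⟩) A ⟨z, hz⟩ -
    · exact absurd h hr2
    obtain ⟨A', hA', hAA', hzz⟩ := pow_eq_one_smul (hr.odd_of_ne_two hr2) (by omega) hz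
    obtain ⟨W, hWd, hW, hWi⟩ := exists_odd (ctx_symp hr hr2 hrF A' (IsoWitness.coe_pow_eq_one hA'))
      Geom.sympBilin_self hdim hmd hi hc hSD h2 h3
    refine ⟨W, hWd, fun u hu v hv => (Geom.sympBilin_apply u v).symm.trans (hW u hu v hv), ?_⟩
    rintro _ ⟨w, hw, rfl⟩
    have hA2 : (A : Matrix (Fin d ⊕ Fin d) (Fin d ⊕ Fin d) F) =
        z • (A' : Matrix (Fin d ⊕ Fin d) (Fin d ⊕ Fin d) F) := by rw [hAA', smul_smul, hzz, one_smul]
    rw [hto, hA2, map_smul, LinearMap.smul_apply]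
    exact W.smul_mem _ (apply_mem hWi hw)

end Cfsg.Agent.S5955
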