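import Cfsg.Statements.S5956
import Cfsg.Agent.Lib.MaxSub.IsoNDSympStd
import Cfsg.Agent.Lib.MaxSub.IsoNDSympUnip
import Cfsg.Agent.Lib.MaxSub.IsoNDSympPrime
import Cfsg.Agent.Lib.MaxSub.IsoWitness
-- import your own Cfsg.Agent.* helpers here

set_option autoImplicit false
open scoped MatrixGroups
open Cfsg

namespace Cfsg.Agent.S5956

open Matrix CfsgLib CfsgLib.MaxSub CfsgLib.MaxSub.IsoSemi CfsgLib.Classical

universe u

section

variable {F : Type u} [Field F] {d : ℕ}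

/-- The involution with alternating form. -/
theorem exists_alt_invol (h2 : (2 : F) = 0) (hd : 0 < d) (hde : Even d) :
    ∃ A : ↥(Matrix.symplecticGroup (Fin d) F),
      (A : Matrix (Fin d ⊕ Fin d) (Fin d ⊕ Fin d) F) * A = 1 ∧
      (∀ z : F, (A : Matrix (Fin d ⊕ Fin d) (Fin d ⊕ Fin d) F) ≠ z • (1 : Matrix (Fin d ⊕ Fin d) (Fin d ⊕ Fin d) F)) ∧
      LinearMap.ker (Matrix.toLin' (A : Matrix (Fin d ⊕ Fin d) (Fin d ⊕ Fin d) F) - 1) ≤
        LinearMap.range (Matrix.toLin' (A : Matrix (Fin d ⊕ Fin d) (Fin d ⊕ Fin d) F) - 1) ∧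
      ∀ u, Geom.sympBilin d F u ((Matrix.toLin' (A : Matrix (Fin d ⊕ Fin d) (Fin d ⊕ Fin d) F) - 1) u) = 0 := by
  classical
  obtain ⟨σ, hσ, hfree⟩ := KnownC.exists_fixedPointFree_involution (Fin d) (by simpa using hde)
  have hneg : ∀ a : F, -a = a := fun a => by
    rw [neg_eq_iff_add_eq_zero, ← two_mul, h2, zero_mul]
  obtain ⟨S, hS⟩ : ∃ S : Matrix (Fin d) (Fin d) F, S = (1 : Matrix (Fin d) (Fin d) F).submatrix σ id := ⟨_, rfl⟩
  have hSv : ∀ (w : Fin d → F) j, (S *ᵥ w) j = w (σ j) := fun w j => by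
    simp [hS, Matrix.mulVec, dotProduct, Matrix.one_apply]
  obtain ⟨M, hM⟩ : ∃ M : Matrix (Fin d ⊕ Fin d) (Fin d ⊕ Fin d) F, M = Matrix.fromBlocks 1 S 0 1 := ⟨_, rfl⟩
  have hMl : ∀ v j, (M *ᵥ v) (Sum.inl j) = v (Sum.inl j) + v (Sum.inr (σ j)) := fun v j => by
    rw [hM, Matrix.fromBlocks_mulVec]
    simp [hSv]
  have hMr : ∀ v j, (M *ᵥ v) (Sum.inr j) = v (Sum.inr j) := fun v j => by
    rw [hM, Matrix.fromBlocks_mulVec]
    simp
  let e : Equiv.Perm (Fin d) := hσ.toPerm σ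
  have hmem : M ∈ Matrix.symplecticGroup (Fin d) F := by
    rw [Geom.mem_symplecticGroup_iff_form]
    intro u v
    rw [Geom.sympForm_eq_sum, Geom.sympForm_eq_sum]
    simp only [hMl, hMr]
    rw [Finset.sum_congr rfl fun j _ => (by ring :
      u (Sum.inr j) * (v (Sum.inl j) + v (Sum.inr (σ j))) - (u (Sum.inl j) + u (Sum.inr (σ j))) * v (Sum.inr j) =
        (u (Sum.inr j) * v (Sum.inl j) - u (Sum.inl j) * v (Sum.inr j)) +
          (u (Sum.inr j) * v (Sum.inr (σ j)) - u (Sum.inr (σ j)) * v (Sum.inr j))),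
      Finset.sum_add_distrib, add_eq_left, Finset.sum_sub_distrib, sub_eq_zero]
    conv_lhs => rw [← Equiv.sum_comp e]
    refine Finset.sum_congr rfl fun j _ => ?_
    show u (Sum.inr (σ j)) * v (Sum.inr (σ (σ j))) = _
    rw [hσ j]
  obtain ⟨T, hT⟩ : ∃ T, T = Matrix.toLin' M - 1 := ⟨_, rfl⟩
  have hTl : ∀ v j, T v (Sum.inl j) = v (Sum.inr (σ j)) := fun v j => by
    simp [hT, hMl]
  have hTr : ∀ v j, T v (Sum.inr j) = 0 := fun v j => by
    simp [hT, hMr]
  refine ⟨⟨M, hmem⟩, ?_, fun z hz => ?_, fun v hv => ?_, fun u => ?_⟩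
  · refine Matrix.ext_iff_mulVec.2 fun v => funext fun j => ?_
    show ((M * M) *ᵥ v) j = _
    rw [← Matrix.mulVec_mulVec, Matrix.one_mulVec]
    rcases j with j | j
    · rw [hMl, hMl, hMr, add_assoc, ← two_mul, h2, zero_mul, add_zero]
    · rw [hMr, hMr]
  · have := congrFun (congrFun hz (Sum.inl ⟨0, hd⟩)) (Sum.inr (σ ⟨0, hd⟩))
    simp [hM, hS, Matrix.one_apply] at this
  · change v ∈ LinearMap.ker (Matrix.toLin' M - 1) at hv
    rw [← hT, LinearMap.mem_ker] at hv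
    show v ∈ LinearMap.range (Matrix.toLin' M - 1)
    rw [← hT]
    refine ⟨Sum.elim 0 fun j => v (Sum.inl (σ j)), funext fun j => ?_⟩
    rcases j with j | j
    · rw [hTl]; simp [hσ j]
    · rw [hTr]
      have := congrFun hv (Sum.inl (σ j))
      rw [hTl, hσ j] at this
      exact this.symm
  · show Geom.sympBilin d F u ((Matrix.toLin' M - 1) u) = 0
    rw [← hT, Geom.sympBilin_apply, Geom.sympForm_eq_sum]
    simp only [hTl, hTr, mul_zero, sub_zero]
    exact Finset.sum_involution (fun j _ => σ j)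
      (fun j _ => by
        rw [hσ j, mul_comm (u (Sum.inr (σ j))), ← two_mul, h2, zero_mul])
      (fun j _ _ => hfree j) (fun j _ => Finset.mem_univ _) fun j _ => hσ j

theorem mulVec_mem_of_smul {z : F} (hz : z * z = 1) {A A' : Matrix (Fin d ⊕ Fin d) (Fin d ⊕ Fin d) F}
    (hA : A' = z • A) {W : Submodule F (Fin d ⊕ Fin d → F)} (hW : W.map (Matrix.toLin' A') ≤ W) :
    W.map (Matrix.toLin' A) ≤ W := by
  rintro _ ⟨v, hv, rfl⟩
  have h := W.smul_mem z (hW ⟨v, hv, rfl⟩)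
  rwa [hA, map_smul, LinearMap.smul_apply, smul_smul, hz, one_smul] at h

end

/-- Elements of prime order of PSp_n(q) with no fixed nondegenerate `m`-space. Here `T = PSp_n(q)` with `n = 2d ≥ 4`, `(n, q) ≠ (4, 2)`, realised through the symplectic matrices over the field `F` with `q` elements (preserving the standard alternating form); an element of `T` of prime order `r` is such a matrix `x` with `x^r` scalar and `x` not scalar. For `r ≠ p` let `i` be the multiplicative order of `q` modulo `r`, `c = i` for `i` even and `c = 2i` for `i` odd, and write `k = n mod c`, `ℓ = m mod i`, `ℓ' = m mod c`, `n' = ⌊n/i⌋`, `m' = ⌊m/i⌋`, `t = (r−1)/i`. Let `m` be even with `2 ≤ m < n/2` and let `r` be a prime dividing the number of nondegenerate `m`-spaces. Then every element of `T` of order `r` fixes a nondegenerate `m`-space if and only if one of: (i) `r = p > 2` and every partition of `n` into parts of size at most `p` in which every odd part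 has even multiplicity contains (as a sub-multiset) a partition of `m` in which every odd part has even multiplicity; (ii) `r = p = 2` and (`n ≡ 2 (mod 4)` or `m ≡ 0 (mod 4)`); (iii) `r = 2 ≠ p`; (iv) `r ≠ p`, `r > 2`, `c ≤ m` and `k ≥ ℓ'`. -/
theorem result {F : Type*} [Field F] [Fintype F] {p : ℕ} [Fact p.Prime] [CharP F p] {q : ℕ} (hq : Fintype.card F = q)
    (d m : ℕ) (hd : 2 ≤ d) (hT : (d, q) ≠ (2, 2)) (hm : 2 ≤ m) (hme : Even m) (hmd : m < d)
    (r : ℕ) [Fact r.Prime]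
    (hrΩ : r ∣ Nat.card {W : Submodule F (Fin d ⊕ Fin d → F) // Module.finrank F ↥W = m ∧ (∀ u ∈ W, u ≠ 0 → ∃ v ∈ W, Cfsg.sympForm d F u v ≠ 0)})
    (i c : ℕ) (hi : i = orderOf (q : ZMod r)) (hc : c = if Even i then i else 2 * i) :
    (∀ x : ↥(Matrix.symplecticGroup (Fin d) F),
      (∃ z : F, ((x ^ r : ↥(Matrix.symplecticGroup (Fin d) F)) : Matrix (Fin d ⊕ Fin d) (Fin d ⊕ Fin d) F) = z • (1 : Matrix (Fin d ⊕ Fin d) (Fin d ⊕ Fin d) F)) →
      (∀ z : F, (x : Matrix (Fin d ⊕ Fin d) (Fin d ⊕ Fin d) F) ≠ z • (1 : Matrix (Fin d ⊕ Fin d) (Fin d ⊕ Fin d) F)) →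
      ∃ W : Submodule F (Fin d ⊕ Fin d → F), Module.finrank F ↥W = m ∧ (∀ u ∈ W, u ≠ 0 → ∃ v ∈ W, Cfsg.sympForm d F u v ≠ 0) ∧
        W.map (Matrix.toLin' (x : Matrix (Fin d ⊕ Fin d) (Fin d ⊕ Fin d) F)) ≤ W) ↔
    ((r = p ∧ 2 < p ∧ (∀ μ : Multiset ℕ, (∀ a ∈ μ, 0 < a ∧ a ≤ p) → (∀ a : ℕ, Odd a → Even (μ.count a)) → μ.sum = 2 * d →
        ∃ ν : Multiset ℕ, ν ≤ μ ∧ ν.sum = m ∧ ∀ a : ℕ, Odd a → Even (ν.count a))) ∨
     (r = p ∧ p = 2 ∧ ((2 * d) % 4 = 2 ∨ m % 4 = 0)) ∨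
     (r = 2 ∧ p ≠ 2) ∨
     (r ≠ p ∧ 2 < r ∧ c ≤ m ∧ m % c ≤ (2 * d) % c)) := by
  classical
  subst hq
  have hrP : r.Prime := Fact.out
  have hpP : p.Prime := Fact.out
  have hm2 := Nat.even_iff.1 hme
  simp only [IsoNDSympStd.nd_iff_stmt] at hrΩ ⊢
  have hG := IsoNDSympStd.geom_symp (F := F) (d := d)
  have halt : ∀ v, Geom.sympBilin d F v v = 0 := Geom.sympBilin_self
  have hdim : Module.finrank F ↥(⊤ : Submodule F (Fin d ⊕ Fin d → F)) = 2 * d := by
    rw [finrank_top, Module.finrank_fintype_fun_eq_card]; simp; omega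
  have hndtop : ND (Geom.sympBilin d F) (⊤ : Submodule F (Fin d ⊕ Fin d → F)) :=
    fun u _ h => hG.sep u fun v => h v trivial
  have hto : ∀ A : ↥(Matrix.symplecticGroup (Fin d) F),
      ∀ u v, Geom.sympBilin d F (Matrix.toLin' (A : Matrix (Fin d ⊕ Fin d) (Fin d ⊕ Fin d) F) u)
        (Matrix.toLin' (A : Matrix (Fin d ⊕ Fin d) (Fin d ⊕ Fin d) F) v) = Geom.sympBilin d F u v := fun A u v => by
    rw [Matrix.toLin'_apply, Matrix.toLin'_apply]; exact IsoNDSympStd.sympBilin_mulVec A u v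
  have hsq : ∀ (A : ↥(Matrix.symplecticGroup (Fin d) F)) (z : F),
      (A : Matrix (Fin d ⊕ Fin d) (Fin d ⊕ Fin d) F) * A = z • 1 →
      Matrix.toLin' (A : Matrix (Fin d ⊕ Fin d) (Fin d ⊕ Fin d) F) *
        Matrix.toLin' (A : Matrix (Fin d ⊕ Fin d) (Fin d ⊕ Fin d) F) = z • 1 := fun A z h => by
    rw [Module.End.mul_eq_comp, ← Matrix.toLin'_mul, h, map_smul, Matrix.toLin'_one]; rfl
  have hscal : ∀ A : ↥(Matrix.symplecticGroup (Fin d) F), Odd r → A ^ r = 1 → A ≠ 1 → ∀ z : F,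
      (A : Matrix (Fin d ⊕ Fin d) (Fin d ⊕ Fin d) F) ≠ z • (1 : Matrix (Fin d ⊕ Fin d) (Fin d ⊕ Fin d) F) :=
    fun A ho hA hA1 z hz => hA1 (IsoNDSympStd.eq_one_of_scalar ho (by omega) hA hz)
  by_cases hrp : r = p
  · subst hrp
    rcases hrP.eq_two_or_odd' with hr2 | hodd
    · subst hr2
      have h2 : (2 : F) = 0 := by exact_mod_cast CharP.cast_eq_zero F 2
      simp only [lt_self_iff_false, false_and, and_false, true_and, ne_eq, not_true, false_or, or_false]
      constructor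
      · intro h
        by_contra hne
        push Not at hne
        obtain ⟨A, hAA, hAn, hKR, hq⟩ := exists_alt_invol (F := F) (d := d) h2 (by omega) (Nat.even_iff.2 (by omega))
        obtain ⟨W, hWd, hW, hWi⟩ := h A ⟨1, by rw [SubmonoidClass.coe_pow, sq, hAA, one_smul]⟩ hAn
        have h4 := IsoNDSymp.four_dvd hG halt h2 (hto A)
          (by rw [hsq A 1 (by rw [hAA, one_smul]), one_smul]) hKR hq hW hWi
        omega
      · rintro hcond A ⟨z, hz⟩ -
        have hz2 := IsoNDSympStd.scalar_sq (by omega) hz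
        obtain rfl : z = 1 := by
          have : (z - 1) * (z - 1) = 0 := by linear_combination hz2 + (1 - z) * h2
          exact sub_eq_zero.1 (mul_self_eq_zero.1 this)
        rw [SubmonoidClass.coe_pow, sq] at hz
        obtain ⟨W, -, hW, hWi, hWd⟩ := IsoNDSymp.exists_two hG halt h2 (hto A)
          ((hsq A 1 hz).trans (one_smul _ _)) d ⊤ hndtop le_top hdim (m / 2) (by omega)
          (by rw [Nat.odd_iff, Nat.even_iff]; omega)
        exact ⟨W, by omega, hW, hWi⟩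
    · have hr2 : r ≠ 2 := fun e => by rw [e] at hodd; exact absurd hodd (by decide)
      have h2lt : 2 < r := lt_of_le_of_ne hrP.two_le (Ne.symm hr2)
      simp only [h2lt, hr2, true_and, false_and, ne_eq, not_true, or_false]
      have hom : ∀ W : Submodule F (Fin d ⊕ Fin d → F),
          ND (KnownC.SpNilp.omega F d) W ↔ ND (Geom.sympBilin d F) W := fun W => by
        have e : KnownC.SpNilp.omega F d = Geom.sympBilin d F := LinearMap.ext fun x => LinearMap.ext fun y => by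
          rw [KnownC.SpNilp.omega_apply, Geom.sympBilin_apply]; rfl
        rw [e]
      constructor
      · intro h μ hle ho hsum
        refine IsoNDSympUnip.part_of_fixed (F := F) (m := d) hr2 hme (by omega) (fun A hA hA1 => ?_) hle ho hsum
        obtain ⟨W, hWd, hW, hWi⟩ := h A ⟨1, by rw [hA, one_smul]; rfl⟩ (hscal A hodd hA hA1)
        exact ⟨W, hWd, (hom W).2 hW, hWi⟩
      · rintro hpart A ⟨z, hz⟩ -
        obtain ⟨A', hA', hAA', hzz⟩ := IsoNDSympStd.pow_eq_one_smul hodd (by omega) hz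
        obtain ⟨W, hWd, hW, hWi⟩ := IsoNDSympUnip.fixed_of_part hr2 hpart hA'
        exact ⟨W, hWd, (hom W).1 hW, mulVec_mem_of_smul hzz hAA' hWi⟩
  simp only [hrp, false_and, ne_eq, not_false_iff, true_and, false_or]
  have hrF : (r : F) ≠ 0 := SympOrderR.r_ne_zero (p := p) hrP hrp
  by_cases hr2 : r = 2
  · subst hr2
    have h2 : (2 : F) ≠ 0 := by exact_mod_cast hrF
    refine iff_of_true ?_ (Or.inl ⟨rfl, Ne.symm hrp⟩)
    rintro A ⟨z, hz⟩ -
    have hz2 := IsoNDSympStd.scalar_sq (by omega) hz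
    rw [SubmonoidClass.coe_pow, sq] at hz
    have hTT := hsq A z hz
    rcases mul_self_eq_one_iff.1 hz2 with rfl | rfl
    · obtain ⟨W, -, hW, hWi, hWd⟩ := IsoNDSymp.exists_of_planes hG (hto A)
        (IsoNDSymp.planes_of_sq_one hG halt h2 (hto A) (hTT.trans (one_smul _ _))) (m / 2) ⊤ hndtop le_top (by omega)
      exact ⟨W, by omega, hW, hWi⟩
    · obtain ⟨W, -, hW, hWi, hWd⟩ := IsoNDSymp.exists_of_planes hG (hto A)
        (IsoNDSymp.planes_of_sq_neg_one hG halt h2 (hto A) (hTT.trans (neg_one_smul F (1 : Module.End F (Fin d ⊕ Fin d → F))))) (m / 2) ⊤ hndtop le_top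
        (by omega)
      exact ⟨W, by omega, hW, hWi⟩
  have hodd : Odd r := hrP.odd_of_ne_two hr2
  have h2lt : 2 < r := lt_of_le_of_ne hrP.two_le (Ne.symm hr2)
  simp only [hr2, false_and, false_or, h2lt, true_and]
  have hipos : 0 < i := SympOrderR.i_pos (F := F) (p := p) rfl hrP hrp hi
  have hcpos : 0 < c := by rw [hc]; split_ifs <;> omega
  have hctx : ∀ A : ↥(Matrix.symplecticGroup (Fin d) F), A ^ r = 1 →
      Ctx (Geom.sympBilin d F) (Matrix.toLin' (A : Matrix (Fin d ⊕ Fin d) (Fin d ⊕ Fin d) F)) r := fun A hA =>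
    { toGeom := hG
      invol := fun _ => rfl
      flip := ⟨-1, by simp, fun u v => by rw [Geom.sympBilin_swap u v]; simp⟩
      iso := hto A
      pow := IsoWitness.coe_pow_eq_one hA
      prime := hrP
      rne := hrF
      rne2 := hr2 }
  obtain ⟨W₀, -, hW₀, -, hW₀d⟩ := IsoNDSymp.exists_of_planes hG (T := 1) (fun x y => rfl)
    (fun U hU _ hne => IsoNDSympPrime.plane_one hG halt hU hne) (m / 2) ⊤ hndtop le_top (by omega)
  have hmemb : IsoNDSympPrime.Member (Geom.sympBilin d F) m W₀ := ⟨by omega, hW₀⟩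
  have hcount : r ∣ Nat.card {W : Submodule F (Fin d ⊕ Fin d → F) //
      IsoNDSympPrime.Member (Geom.sympBilin d F) m W} := hrΩ
  have hcd : c ≤ 2 * d := by
    have := IsoNDSympPrime.le_finrank (p := p) hG halt hi hc hrp
      (hcount.trans (IsoNDSympPrime.dvd_card_isoms hG halt hmemb))
    rw [← finrank_top, hdim] at this
    exact this
  have hV : Module.finrank F (Fin d ⊕ Fin d → F) = 2 * d := by rw [← finrank_top, hdim]
  have hce : c % 2 = 0 := by
    rw [hc]; split_ifs with h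
    · exact Nat.even_iff.1 h
    · omega
  constructor
  · intro h
    obtain ⟨A, hA, hAe⟩ := IsoWitness.exists_symp_block (F := F) (p := p) (d := d) hr2 hrp hi hc
      (Nat.mod_add_div (2 * d) c)
      (Nat.even_iff.2 (by rw [Nat.mod_mod_of_dvd _ (Nat.dvd_of_mod_eq_zero hce)]; omega))
    have hlt := Nat.mod_lt (2 * d) hcpos
    have hAe' : Module.finrank F
        ↥(LinearMap.ker (Matrix.toLin' (A : Matrix (Fin d ⊕ Fin d) (Fin d ⊕ Fin d) F) - 1)) ≤ (2 * d) % c := hAe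
    have hA1 : A ≠ 1 := fun e => by
      rw [e, OneMemClass.coe_one, Matrix.toLin'_one,
        show (LinearMap.id : Module.End F (Fin d ⊕ Fin d → F)) - 1 = 0 from sub_self _,
        LinearMap.ker_zero, finrank_top, hV] at hAe'
      omega
    obtain ⟨W, hWd, hW, hWi⟩ := h A ⟨1, by rw [hA, one_smul]; rfl⟩ (hscal A hodd hA hA1)
    have hC := hctx A hA
    obtain ⟨⟨a, ha⟩, -⟩ := IsoNDSympPrime.dims (p := p) hi hc hC (nd_mov hC) (inv_mov _) le_rfl
    have hsum := (Matrix.toLin' (A : Matrix (Fin d ⊕ Fin d) (Fin d ⊕ Fin d) F) - 1).finrank_range_add_finrank_ker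
    rw [ha, hV] at hsum
    obtain ⟨b, z, -, hbz, hz⟩ := (IsoNDSympPrime.fixes_iff (p := p) halt hi hc hC ha hme).1 ⟨W, ⟨hWd, hW⟩, hWi⟩
    refine ⟨IsoNDSympPrime.le_of_fixed (p := p) halt hi hc hC hrp (by omega) hcount ⟨hWd, hW⟩ hWi, ?_⟩
    rw [hV] at hz
    rw [← hbz, Nat.mul_add_mod, Nat.mod_eq_of_lt (by omega)]
    omega
  · rintro ⟨hcm, hmod⟩ A ⟨z, hz⟩ -
    obtain ⟨A', hA', hAA', hzz⟩ := IsoNDSympStd.pow_eq_one_smul hodd (by omega) hz
    have hC := hctx A' hA'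
    obtain ⟨⟨a, ha⟩, -⟩ := IsoNDSympPrime.dims (p := p) hi hc hC (nd_mov hC) (inv_mov _) le_rfl
    have hsum := (Matrix.toLin' (A' : Matrix (Fin d ⊕ Fin d) (Fin d ⊕ Fin d) F) - 1).finrank_range_add_finrank_ker
    rw [ha, hV] at hsum
    obtain ⟨W, ⟨hWd, hW⟩, hWi⟩ := (IsoNDSympPrime.fixes_iff (p := p) halt hi hc hC ha hme).2 (by
      rcases le_or_gt (m / c) a with hba | hba
      · refine ⟨m / c, m % c, hba, Nat.div_add_mod m c, ?_⟩
        have h1 := Nat.mul_le_mul_left c ((Nat.le_div_iff_mul_le hcpos).2 (by rw [mul_comm]; omega) : a ≤ 2 * d / c)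
        have := Nat.div_add_mod (2 * d) c
        omega
      · have h1 := Nat.mul_le_mul_left c hba.le
        have := Nat.div_add_mod m c
        exact ⟨a, m - c * a, le_rfl, by omega, by omega⟩)
    exact ⟨W, hWd, hW, mulVec_mem_of_smul hzz hAA' hWi⟩

end Cfsg.Agent.S5956
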