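import Cfsg.Statements.S5958
import Cfsg.Agent.Lib.MaxSub.SemiPieces
import Cfsg.Agent.Lib.MaxSub.DecompNumber
-- import your own Cfsg.Agent.* helpers here

set_option autoImplicit false
open scoped MatrixGroups
open Cfsg

namespace Cfsg.Agent.S5958

open CfsgLib.MaxSub

section

variable {F : Type*} [Field F] [Fintype F] {r n a t : ℕ} [Fact r.Prime]

theorem root_one (hnd : ¬ r ∣ Fintype.card F - 1) {z : F} (hz : z ^ r = 1) : z = 1 := by
  classical
  have hr : r.Prime := Fact.out
  have hz0 : z ≠ 0 := fun e => by rw [e, zero_pow hr.ne_zero] at hz; exact zero_ne_one hz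
  have hcop : (Nat.card Fˣ).Coprime r := by
    rw [Nat.card_units, Nat.card_eq_fintype_card]; exact ((hr.coprime_iff_not_dvd).2 hnd).symm
  have := (powCoprime hcop).injective (a₁ := Units.mk0 z hz0) (a₂ := 1) (Units.ext (by simpa using hz))
  exact congrArg Units.val this

/-- An element of order `r` with at most an `e`-dimensional fixed space. -/
theorem witness {p : ℕ} [Fact p.Prime] [CharP F p] {c : ℕ} (hc : orderOf (Fintype.card F : ZMod r) = c)
    (hc2 : 2 ≤ c) {e B : ℕ} (hB : 0 < B) (hn : n = e + c * B) :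
    ∃ x : Matrix.SpecialLinearGroup (Fin n) F, (x : Matrix (Fin n) (Fin n) F) ^ r = 1 ∧
      (∀ z : F, (x : Matrix (Fin n) (Fin n) F) ≠ z • 1) ∧
      Module.finrank F ↥(LinearMap.ker (Matrix.toLinAlgEquiv' (x : Matrix (Fin n) (Fin n) F) - 1)) = e := by
  classical
  subst hn hc
  have hnd : ¬ r ∣ Fintype.card F - 1 := fun h => by
    have := (SemiCriterion.order_eq_one_iff (F := F) (r := r)).2 h; omega
  obtain ⟨A, hA, hE⟩ := SemiWitness.exists_fixed (F := F) (p := p) (e := e) (B := B) (i := orderOf (Fintype.card F : ZMod r))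
    (by omega) SemiCriterion.dvd_pow_order
  have hdet : A.det = 1 := root_one hnd (by rw [← Matrix.det_pow, hA, Matrix.det_one])
  refine ⟨⟨A, hdet⟩, hA, fun z hz => ?_, hE⟩
  change A = z • 1 at hz
  have hpos := Nat.mul_pos (show 0 < orderOf (Fintype.card F : ZMod r) by omega) hB
  haveI : Nonempty (Fin (e + orderOf (Fintype.card F : ZMod r) * B)) := ⟨⟨0, by omega⟩⟩
  have hz1 : z = 1 := root_one hnd (by
    have h := hA
    rw [hz, smul_pow, one_pow] at h
    simpa using congrFun (congrFun h (Classical.arbitrary _)) (Classical.arbitrary _))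
  rw [hz, hz1, one_smul, map_one, sub_self, LinearMap.ker_zero, finrank_top, Module.finrank_fin_fun] at hE
  omega

variable {D : Fin t → Submodule F (Fin n → F)} {σ : Equiv.Perm (Fin t)} {y : Module.End F (Fin n → F)}

omit [Fintype F] [Fact r.Prime] in
theorem map_iter (hσ : ∀ j, (D j).map y = D (σ j)) : ∀ (i : ℕ) j, (D j).map (y ^ i) = D ((σ ^ i) j) := by
  intro i
  induction i with
  | zero => intro j; simp [Module.End.one_eq_id]
  | succ i ih =>
    intro j
    rw [pow_succ' y, Module.End.mul_eq_comp, Submodule.map_comp, ih, hσ, pow_succ' σ, Equiv.Perm.mul_apply]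

omit [Fintype F] [Fact r.Prime] in
theorem iter_r (hD : Cfsg.Geo.IsMDecomposition a D) (hσ : ∀ j, (D j).map y = D (σ j)) (hy : y ^ r = 1) (j : Fin t) :
    (σ ^ r) j = j := by
  by_contra hne
  have h := map_iter hσ r j
  rw [hy, Module.End.one_eq_id, Submodule.map_id] at h
  have h1 := hD.indep.pairwiseDisjoint hne
  rw [Function.onFun, ← h] at h1
  have h2 := hD.finrank_eq j
  rw [disjoint_self.1 h1, finrank_bot] at h2
  have := hD.pos
  omega

omit [Fintype F] in
theorem iter_ne (hD : Cfsg.Geo.IsMDecomposition a D) (hσ : ∀ j, (D j).map y = D (σ j)) (hy : y ^ r = 1) {j : Fin t}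
    (hne : σ j ≠ j) : ∀ i i', i < r → i' < r → (σ ^ i) j = (σ ^ i') j → i = i' := by
  have hperiod : Function.minimalPeriod σ j = r := by
    have hd : Function.minimalPeriod σ j ∣ r := (Function.isPeriodicPt_iff_minimalPeriod_dvd (f := σ)).1 (by
      have := iter_r hD hσ hy j; rwa [Equiv.Perm.coe_pow] at this)
    rcases (Nat.dvd_prime (Fact.out : r.Prime)).1 hd with h | h
    · exact absurd (Function.minimalPeriod_eq_one_iff_isFixedPt.1 h) hne
    · exact h
  intro i i' hi hi' h
  rw [Equiv.Perm.coe_pow, Equiv.Perm.coe_pow] at h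
  exact Function.iterate_injOn_Iio_minimalPeriod (f := σ) (x := j) (by rw [hperiod]; exact hi)
    (by rw [hperiod]; exact hi') h

omit [Fintype F] in
/-- The orbit of a vector in a moved member is independent. -/
theorem orbit_indep (hD : Cfsg.Geo.IsMDecomposition a D) (hσ : ∀ j, (D j).map y = D (σ j)) (hy : y ^ r = 1)
    {j : Fin t} (hne : σ j ≠ j) (w : Fin r → Fin n → F) (hw : ∀ i, w i ∈ D j)
    (h : ∑ i : Fin r, (y ^ (i : ℕ)) (w i) = 0) : ∀ i, w i = 0 := by
  classical
  obtain ⟨ψ, hψ⟩ := CfsgLib.MaxSub.Decomp.exists_coord hD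
  intro i
  have hmem : ∀ l : Fin r, (y ^ (l : ℕ)) (w l) ∈ D ((σ ^ (l : ℕ)) j) := fun l => by
    rw [← map_iter hσ]; exact Submodule.mem_map_of_mem (hw l)
  have h1 := congrFun (congrArg ψ h) ((σ ^ (i : ℕ)) j)
  rw [map_sum, Finset.sum_apply, map_zero, Pi.zero_apply, Finset.sum_eq_single i (fun l _ hl => (hψ _ _).1 (hmem l) _
    fun e => hl (Fin.ext (iter_ne hD hσ hy hne _ _ l.2 i.2 e.symm))) (fun h => absurd (Finset.mem_univ i) h)] at h1
  have h2 : (y ^ (i : ℕ)) (w i) = 0 := by
    refine ψ.injective (funext fun l => ?_)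
    rw [map_zero]
    by_cases hl : l = (σ ^ (i : ℕ)) j
    · rw [hl]; exact h1
    · exact (hψ _ _).1 (hmem i) l hl
  have h3 := congrArg (fun v => (y ^ (r - (i : ℕ))) v) h2
  simp only [map_zero, ← Module.End.mul_apply, ← pow_add, Nat.sub_add_cancel i.2.le, hy, Module.End.one_apply] at h3
  exact h3

omit [Fintype F] in
/-- A moved member injects into the fixed space. -/
theorem le_fixed (hD : Cfsg.Geo.IsMDecomposition a D) (hσ : ∀ j, (D j).map y = D (σ j)) (hy : y ^ r = 1)
    {j : Fin t} (hne : σ j ≠ j) : a ≤ Module.finrank F ↥(LinearMap.ker (y - 1)) := by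
  let Q : (Fin n → F) →ₗ[F] (Fin n → F) := ∑ i : Fin r, y ^ (i : ℕ)
  have hQ : ∀ v, Q v ∈ LinearMap.ker (y - 1) := fun v => by
    rw [LinearMap.mem_ker, ← Module.End.mul_apply, show Q = ∑ i : Fin r, y ^ (i : ℕ) from rfl,
      Fin.sum_univ_eq_sum_range (fun i => y ^ i) r, mul_geom_sum, hy, sub_self, LinearMap.zero_apply]
  let g : D j →ₗ[F] ↥(LinearMap.ker (y - 1)) := LinearMap.codRestrict _ (Q ∘ₗ (D j).subtype) fun v => hQ _
  have hg : Function.Injective g := by
    rw [injective_iff_map_eq_zero]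
    intro v hv
    have h : Q (v : Fin n → F) = 0 := congrArg Subtype.val hv
    simp only [Q, LinearMap.sum_apply] at h
    exact Subtype.ext (orbit_indep hD hσ hy hne (fun _ => (v : Fin n → F)) (fun _ => v.2) h ⟨0, (Fact.out : r.Prime).pos⟩)
  have := LinearMap.finrank_le_finrank_of_injective hg
  rwa [hD.finrank_eq] at this

omit [Fintype F] in
/-- A moved member forces a large image of `y - 1`. -/
theorem le_rank (hD : Cfsg.Geo.IsMDecomposition a D) (hσ : ∀ j, (D j).map y = D (σ j)) (hy : y ^ r = 1)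
    {j : Fin t} (hne : σ j ≠ j) : (r - 1) * a ≤ Module.finrank F ↥(LinearMap.range (y - 1)) := by
  classical
  obtain ⟨r', hr'⟩ : ∃ r', r = r' + 1 := ⟨r - 1, by have := (Fact.out : r.Prime).pos; omega⟩
  subst hr'
  rw [Nat.add_sub_cancel]
  let g : (Fin r' → D j) →ₗ[F] ↥(LinearMap.range (y - 1)) :=
    LinearMap.codRestrict _ ((y - 1) ∘ₗ ∑ i : Fin r', (y ^ (i : ℕ)) ∘ₗ (D j).subtype ∘ₗ LinearMap.proj i)
      fun v => ⟨_, rfl⟩
  have hg : Function.Injective g := by
    rw [injective_iff_map_eq_zero]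
    intro w hw
    have h : (y - 1) (∑ i : Fin r', (y ^ (i : ℕ)) (w i : Fin n → F)) = 0 := by
      have : ((y - 1) ∘ₗ ∑ i : Fin r', (y ^ (i : ℕ)) ∘ₗ (D j).subtype ∘ₗ LinearMap.proj i) w = 0 :=
        congrArg Subtype.val hw
      simpa [LinearMap.sum_apply] using this
    let u : Fin (r' + 1) → Fin n → F :=
      (Fin.cons 0 fun i => (w i : Fin n → F) : Fin (r' + 1) → Fin n → F) - Fin.snoc (fun i => (w i : Fin n → F)) 0
    have hu : ∀ i, u i ∈ D j := fun i => by
      refine Submodule.sub_mem _ ?_ ?_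
      · refine Fin.cases ?_ ?_ i
        · rw [Fin.cons_zero]; exact Submodule.zero_mem _
        · intro i; rw [Fin.cons_succ]; exact (w i).2
      · refine Fin.lastCases ?_ ?_ i
        · rw [Fin.snoc_last]; exact Submodule.zero_mem _
        · intro i; rw [Fin.snoc_castSucc]; exact (w i).2
    have hsum : ∑ i : Fin (r' + 1), (y ^ (i : ℕ)) (u i) = 0 := by
      simp only [u, Pi.sub_apply, map_sub, Finset.sum_sub_distrib]
      rw [Fin.sum_univ_succ, Fin.sum_univ_castSucc (f := fun i : Fin (r' + 1) =>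
        (y ^ (i : ℕ)) ((Fin.snoc (fun i => (w i : Fin n → F)) 0 : Fin (r' + 1) → Fin n → F) i))]
      simp only [Fin.cons_zero, Fin.cons_succ, Fin.snoc_last, Fin.snoc_castSucc, map_zero, zero_add, add_zero,
        Fin.val_succ, Fin.val_castSucc, pow_succ', Module.End.mul_apply]
      rw [LinearMap.sub_apply, Module.End.one_apply, map_sum] at h
      exact h
    have h0 := orbit_indep hD hσ hy hne u hu hsum
    funext i
    refine Subtype.ext ?_
    have : ∀ (l : ℕ) (hl : l < r'), (w ⟨l, hl⟩ : Fin n → F) = 0 := by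
      intro l
      induction l with
      | zero =>
        intro hl
        have h1 := h0 (Fin.castSucc ⟨0, hl⟩)
        simp only [u, Pi.sub_apply, Fin.snoc_castSucc] at h1
        rw [show Fin.castSucc (⟨0, hl⟩ : Fin r') = (0 : Fin (r' + 1)) from Fin.ext rfl, Fin.cons_zero, zero_sub,
          neg_eq_zero] at h1
        exact h1
      | succ l ihl =>
        intro hl
        have h1 := h0 (Fin.castSucc ⟨l + 1, hl⟩)
        simp only [u, Pi.sub_apply, Fin.snoc_castSucc] at h1
        rw [show Fin.castSucc (⟨l + 1, hl⟩ : Fin r') = Fin.succ (⟨l, by omega⟩ : Fin r') from Fin.ext rfl,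
          Fin.cons_succ, ihl (by omega), zero_sub, neg_eq_zero] at h1
        exact h1
    exact this i i.2
  have h := LinearMap.finrank_le_finrank_of_injective hg
  rwa [Module.finrank_pi_fintype, Finset.sum_const, Finset.card_univ, Fintype.card_fin, hD.finrank_eq, smul_eq_mul] at h

/-- All members stable. -/
theorem of_no_move {c : ℕ} (hc : orderOf (Fintype.card F : ZMod r) = c) (hrF : (r : F) ≠ 0) (hy : y ^ r = 1)
    (hD : Cfsg.Geo.IsMDecomposition a D) (hσ : ∀ j, (D j).map y = D (σ j)) (hfix : ∀ j, σ j = j) :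
    (∀ j, a ≡ Module.finrank F ↥(D j ⊓ LinearMap.ker (y - 1)) [MOD c]) ∧
      (∑ j, Module.finrank F ↥(D j ⊓ LinearMap.ker (y - 1))) ≤ Module.finrank F ↥(LinearMap.ker (y - 1)) := by
  classical
  refine ⟨fun j => ?_, ?_⟩
  · have := SemiDims.finrank_modEq hrF hy (U := D j) (by rw [hσ, hfix])
    rwa [hD.finrank_eq, hc] at this
  · obtain ⟨ψ, hψ⟩ := CfsgLib.MaxSub.Decomp.exists_coord hD
    let g : (∀ j, ↥(D j ⊓ LinearMap.ker (y - 1))) →ₗ[F] ↥(LinearMap.ker (y - 1)) :=
      ∑ j, Submodule.inclusion inf_le_right ∘ₗ LinearMap.proj j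
    have hg : Function.Injective g := by
      rw [injective_iff_map_eq_zero]
      intro w hw
      have h : ∑ j, (w j : Fin n → F) = 0 := by
        have := congrArg Subtype.val hw
        simpa [g, LinearMap.sum_apply] using this
      funext j
      refine Subtype.ext (ψ.injective (funext fun l => ?_))
      rw [Pi.zero_apply, Submodule.coe_zero, map_zero]
      by_cases hl : l = j
      · subst hl
        have h1 := congrFun (congrArg ψ h) l
        rw [map_sum, Finset.sum_apply, map_zero, Finset.sum_eq_single l (fun i _ hi => (hψ _ _).1 (w i).2.1 l hi.symm)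
          (fun h => absurd (Finset.mem_univ l) h)] at h1
        exact h1
      · exact (hψ _ _).1 (w j).2.1 l hl
    have := LinearMap.finrank_le_finrank_of_injective hg
    rwa [Module.finrank_pi_fintype] at this

omit [Fintype F] in
/-- With members of dimension one the fixed space is at least a part `1/r` of the whole. -/
theorem orbit_count (hD : Cfsg.Geo.IsMDecomposition 1 D) (hσ : ∀ j, (D j).map y = D (σ j)) (hy : y ^ r = 1)
    (hroot : ∀ z : F, z ^ r = 1 → z = 1) (hrF : (r : F) ≠ 0) :
    t ≤ r * Module.finrank F ↥(LinearMap.ker (y - 1)) := by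
  classical
  have hr : r.Prime := Fact.out
  obtain ⟨ψ, hψ⟩ := CfsgLib.MaxSub.Decomp.exists_coord hD
  choose v hv hv0 using fun j => (Submodule.ne_bot_iff (D j)).1 (fun h => by
    have := hD.finrank_eq j; rw [h, finrank_bot] at this; omega)
  let orb : Fin t → Finset (Fin t) := fun j => (Finset.range r).image fun i => (σ ^ i) j
  have horb : ∀ j l, l ∈ orb j ↔ ∃ i, (σ ^ i) j = l := fun j l => by
    simp only [orb, Finset.mem_image, Finset.mem_range]
    refine ⟨fun ⟨i, _, h⟩ => ⟨i, h⟩, fun ⟨i, h⟩ => ⟨i % r, Nat.mod_lt _ hr.pos, ?_⟩⟩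
    rw [← h]
    conv_rhs => rw [← Nat.mod_add_div i r, pow_add, pow_mul]
    rw [Equiv.Perm.mul_apply]
    congr 1
    have : ∀ k : ℕ, ((σ ^ r) ^ k) j = j := fun k => by
      induction k with
      | zero => rfl
      | succ k ih => rw [pow_succ', Equiv.Perm.mul_apply, ih, iter_r hD hσ hy]
    rw [this]
  have horbeq : ∀ j l, l ∈ orb j → orb l = orb j := fun j l hl => by
    obtain ⟨i, rfl⟩ := (horb j l).1 hl
    ext m
    rw [horb, horb]
    constructor
    · rintro ⟨k, rfl⟩; exact ⟨k + i, by rw [pow_add, Equiv.Perm.mul_apply]⟩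
    · rintro ⟨k, rfl⟩
      refine ⟨(r - 1) * i + k, ?_⟩
      rw [← Equiv.Perm.mul_apply, ← pow_add, show (r - 1) * i + k + i = k + r * i by
        have h1 : (r - 1) * i + i = r * i := by
          rw [← Nat.succ_mul, Nat.succ_eq_add_one, Nat.sub_add_cancel hr.one_lt.le]
        omega, pow_add, Equiv.Perm.mul_apply]
      congr 1
      clear horb hl
      induction i with
      | zero => simp
      | succ i ih => rw [Nat.mul_succ, pow_add, Equiv.Perm.mul_apply, iter_r hD hσ hy, ih]
  have hself : ∀ j, j ∈ orb j := fun j => (horb j j).2 ⟨0, rfl⟩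
  let rep : Fin t → Fin t := fun j => (orb j).min' ⟨j, hself j⟩
  have hrep : ∀ j, rep j ∈ orb j := fun j => Finset.min'_mem _ _
  have hreprep : ∀ j l, l ∈ orb j → rep l = rep j := fun j l hl => by
    simp only [rep, horbeq j l hl]
  let S := Finset.univ.image rep
  have hcover : Fintype.card (Fin t) ≤ Fintype.card (↥S × Fin r) := by
    refine Fintype.card_le_of_surjective (fun s : ↥S × Fin r => (σ ^ (s.2 : ℕ)) s.1.1) fun j => ?_
    have : j ∈ orb (rep j) := by rw [horbeq j _ (hrep j)]; exact hself j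
    obtain ⟨i, hi, h⟩ := Finset.mem_image.1 this
    exact ⟨(⟨rep j, Finset.mem_image_of_mem rep (Finset.mem_univ j)⟩, ⟨i, Finset.mem_range.1 hi⟩), h⟩
  let Q : (Fin n → F) →ₗ[F] (Fin n → F) := ∑ i : Fin r, y ^ (i : ℕ)
  have hQ : ∀ v, Q v ∈ LinearMap.ker (y - 1) := fun v => by
    rw [LinearMap.mem_ker, ← Module.End.mul_apply, show Q = ∑ i : Fin r, y ^ (i : ℕ) from rfl,
      Fin.sum_univ_eq_sum_range (fun i => y ^ i) r, mul_geom_sum, hy, sub_self, LinearMap.zero_apply]
  have hQ0 : ∀ j, ψ (Q (v j)) j ≠ 0 := fun j h0 => by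
    have hQj : ψ (Q (v j)) j = ∑ i : Fin r, ψ ((y ^ (i : ℕ)) (v j)) j := by
      simp [Q, LinearMap.sum_apply, map_sum, Finset.sum_apply]
    rw [hQj] at h0
    have hvj : ψ (v j) j ≠ 0 := fun h => hv0 j (ψ.injective (funext fun l => by
      rw [map_zero]
      by_cases hl : l = j
      · rw [hl]; exact h
      · exact (hψ _ _).1 (hv j) l hl))
    by_cases hj : σ j = j
    · obtain ⟨z, hz⟩ : ∃ z : F, z • v j = y (v j) := by
        have hmem : y (v j) ∈ D j := by
          have := Submodule.mem_map_of_mem (f := y) (hv j)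
          rwa [hσ, hj] at this
        have hspan : D j = Submodule.span F {v j} := (Submodule.eq_of_le_of_finrank_eq
          ((Submodule.span_singleton_le_iff_mem _ _).2 (hv j)) (by rw [finrank_span_singleton (hv0 j), hD.finrank_eq])).symm
        rw [hspan] at hmem
        exact Submodule.mem_span_singleton.1 hmem
      have hzi : ∀ i : ℕ, (y ^ i) (v j) = z ^ i • v j := fun i => by
        induction i with
        | zero => simp
        | succ i ih => rw [pow_succ', Module.End.mul_apply, ih, map_smul, ← hz, smul_smul, pow_succ]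
      have hzr : z ^ r = 1 := by
        have h := hzi r
        rw [hy, Module.End.one_apply] at h
        exact smul_left_injective F (hv0 j) (h.symm.trans (one_smul _ _).symm)
      simp only [hzi, hroot z hzr, one_pow, one_smul, Finset.sum_const, Finset.card_univ, Fintype.card_fin,
        ← Nat.cast_smul_eq_nsmul F, smul_eq_zero] at h0
      exact hvj (h0.resolve_left hrF)
    · rw [Finset.sum_eq_single (f := fun i : Fin r => ψ ((y ^ (i : ℕ)) (v j)) j) (⟨0, hr.pos⟩ : Fin r) (fun i _ hi => (hψ _ _).1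
        (show (y ^ (i : ℕ)) (v j) ∈ D ((σ ^ (i : ℕ)) j) by rw [← map_iter hσ]; exact Submodule.mem_map_of_mem (hv j)) _
        fun e => hi (Fin.ext (iter_ne hD hσ hy hj _ _ i.2 hr.pos (e.symm.trans rfl)))) (fun h => absurd (Finset.mem_univ _) h)] at h0
      exact hvj (by simpa using h0)
  let g : (↥S → F) →ₗ[F] ↥(LinearMap.ker (y - 1)) :=
    LinearMap.codRestrict _ (Q ∘ₗ ∑ s : ↥S, (LinearMap.proj (R := F) (φ := fun _ : ↥S => F) s).smulRight (v s.1)) fun _ => hQ _
  have hg : Function.Injective g := by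
    rw [injective_iff_map_eq_zero]
    intro w hw
    have h : ∑ s : ↥S, w s • Q (v s.1) = 0 := by
      have := congrArg Subtype.val hw
      simpa [g, LinearMap.sum_apply, map_sum, map_smul] using this
    funext s
    have h1 := congrFun (congrArg ψ h) s.1
    rw [map_sum, Finset.sum_apply, map_zero, Pi.zero_apply, Finset.sum_eq_single s] at h1
    · rw [map_smul, Pi.smul_apply, smul_eq_zero] at h1
      exact h1.resolve_right (hQ0 s.1)
    · intro s' _ hs'
      rw [map_smul, Pi.smul_apply]
      have : ψ (Q (v s'.1)) s.1 = 0 := by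
        simp only [Q, LinearMap.sum_apply, map_sum, Finset.sum_apply]
        refine Finset.sum_eq_zero fun i _ => ?_
        refine (hψ _ _).1 (show (y ^ (i : ℕ)) (v s'.1) ∈ D ((σ ^ (i : ℕ)) s'.1) by
          rw [← map_iter hσ]; exact Submodule.mem_map_of_mem (hv _)) _ fun e => hs' (Subtype.ext ?_)
        obtain ⟨j, -, hj⟩ := Finset.mem_image.1 s.2
        obtain ⟨j', -, hj'⟩ := Finset.mem_image.1 s'.2
        have e1 : rep s.1 = s.1 := by rw [← hj]; exact hreprep j _ (hrep j)
        have e2 : rep s'.1 = s'.1 := by rw [← hj']; exact hreprep j' _ (hrep j')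
        rw [← e1, ← e2, hreprep s'.1 s.1 ((horb _ _).2 ⟨i, e.symm⟩)]
      rw [this, smul_zero]
    · intro h; exact absurd (Finset.mem_univ s) h
  have h := LinearMap.finrank_le_finrank_of_injective hg
  rw [Module.finrank_fintype_fun_eq_card] at h
  rw [Fintype.card_fin, Fintype.card_prod, Fintype.card_fin] at hcover
  exact hcover.trans ((Nat.mul_comm _ _).trans_le (Nat.mul_le_mul_left r h))

/-- Stable decomposition, no cycles. -/
theorem pos_stable {c : ℕ} (hc : orderOf (Fintype.card F : ZMod r) = c) (hc0 : 0 < c) (hrF : (r : F) ≠ 0)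
    (ht : 2 ≤ t) (ha : 1 ≤ a) (hat : n = a * t) (hy : y ^ r = 1)
    (he : t * (a % c) ≤ Module.finrank F ↥(LinearMap.ker (y - 1))) :
    ∃ D : Fin t → Submodule F (Fin n → F), Cfsg.Geo.IsMDecomposition a D ∧ ∀ j, (D j).map y ≤ D j := by
  classical
  obtain ⟨e, B, u, X, hn, hee, hu, hX, hX0, hXc, -, htop⟩ := SemiPieces.exists_pieces hrF hc hc0 hy
  rw [Module.finrank_fin_fun] at hn
  rw [← hee] at he
  obtain ⟨β, hβ⟩ : ∃ β, a % c + c * β = a := ⟨_, Nat.mod_add_div a c⟩
  have hBle : B ≤ t * β := by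
    refine Nat.le_of_mul_le_mul_left ?_ hc0
    have h1 : t * (a % c) + c * (t * β) = n := by rw [hat, show a * t = (a % c + c * β) * t by rw [hβ]]; ring
    omega
  let bg : Fin t → ℕ := fun g => min β (B - (g : ℕ) * β)
  have hbsum : ∑ g, bg g = B := by
    have key : ∀ j, ∑ g ∈ Finset.range j, min β (B - g * β) = min B (j * β) := by
      intro j
      induction j with
      | zero => simp
      | succ j ih => rw [Finset.sum_range_succ, ih, Nat.succ_mul]; omega
    show ∑ g : Fin t, min β (B - (g : ℕ) * β) = B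
    rw [Fin.sum_univ_eq_sum_range (fun g => min β (B - g * β)) t, key]
    exact min_eq_left hBle
  let ag : Fin t → ℕ := fun g => a - c * bg g
  have hagb : ∀ g, ag g + c * bg g = a := fun g => by
    have h1 : c * bg g ≤ c * β := Nat.mul_le_mul_left c (min_le_left _ _)
    simp only [ag]; omega
  have hasum : ∑ g, ag g = e := by
    have h1 : ∑ g, (ag g + c * bg g) = a * t := by
      simp only [hagb, Finset.sum_const, Finset.card_univ, Fintype.card_fin, smul_eq_mul, mul_comm]
    rw [Finset.sum_add_distrib, ← Finset.mul_sum, hbsum, ← hat] at h1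
    omega
  let ia : ((g : Fin t) × Fin (ag g)) ≃ Fin e := finSigmaFinEquiv.trans (finCongr hasum)
  let ib : ((g : Fin t) × Fin (bg g)) ≃ Fin B := finSigmaFinEquiv.trans (finCongr hbsum)
  let D : Fin t → Submodule F (Fin n → F) := fun g =>
    Submodule.span F (Set.range fun s : Fin (ag g) => u (ia ⟨g, s⟩)) ⊔ ⨆ s : Fin (bg g), X (ib ⟨g, s⟩)
  refine ⟨D, SemiPieces.isMDecomposition_of_span ht ha hat (fun g => ?_) ?_, fun g => ?_⟩
  · refine (Submodule.finrank_add_le_finrank_add_finrank _ _).trans ?_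
    have h1 : Module.finrank F ↥(Submodule.span F (Set.range fun s : Fin (ag g) => u (ia ⟨g, s⟩))) ≤ ag g := by
      have := finrank_range_le_card (R := F) (fun s : Fin (ag g) => u (ia ⟨g, s⟩))
      rwa [Set.finrank, Fintype.card_fin] at this
    have h2 := SemiPieces.finrank_biSup_le (fun s : Fin (bg g) => X (ib ⟨g, s⟩)) Finset.univ
    rw [show (⨆ s ∈ (Finset.univ : Finset (Fin (bg g))), X (ib ⟨g, s⟩)) = ⨆ s, X (ib ⟨g, s⟩) from
      iSup_congr fun s => iSup_pos (Finset.mem_univ s)] at h2
    have h3 : ∑ s : Fin (bg g), Module.finrank F ↥(X (ib ⟨g, s⟩)) ≤ c * bg g := by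
      refine (Finset.sum_le_sum fun s _ => hXc _).trans (le_of_eq ?_)
      rw [Finset.sum_const, Finset.card_univ, Fintype.card_fin, smul_eq_mul, mul_comm]
    have := hagb g
    omega
  · rw [eq_top_iff, ← htop]
    refine sup_le (Submodule.span_le.2 ?_) (iSup_le fun b => ?_)
    · rintro _ ⟨i, rfl⟩
      refine Submodule.mem_iSup_of_mem (ia.symm i).1 (Submodule.mem_sup_left (Submodule.subset_span ⟨(ia.symm i).2, ?_⟩))
      show u (ia (ia.symm i)) = u i
      rw [Equiv.apply_symm_apply]
    · refine le_trans ?_ (le_iSup D (ib.symm b).1)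
      refine le_sup_of_le_right (le_iSup_of_le (ib.symm b).2 ?_)
      show X b ≤ X (ib (ib.symm b))
      rw [Equiv.apply_symm_apply]
  · rw [Submodule.map_sup, Submodule.map_span, Submodule.map_iSup]
    refine sup_le_sup (Submodule.span_mono ?_) (iSup_mono fun s => hX _)
    rintro _ ⟨_, ⟨s, rfl⟩, rfl⟩
    exact ⟨s, (hu _).symm⟩

omit [Fintype F] in
theorem addOne_val {r : ℕ} [NeZero r] (j : Fin r) : ((j + 1 : Fin r) : ℕ) = ((j : ℕ) + 1) % r := by
  rw [Fin.val_add, Fin.val_one', Nat.add_mod_mod]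

/-- Cycles of lines. -/
theorem pos_lines {c : ℕ} (hc : orderOf (Fintype.card F : ZMod r) = c) (hc0 : 0 < c) (hcr : c = r - 1)
    (hrF : (r : F) ≠ 0) (ht : 2 ≤ t) (hnt : n = 1 * t) (hy : y ^ r = 1)
    (he : n ≤ r * Module.finrank F ↥(LinearMap.ker (y - 1))) :
    ∃ D : Fin t → Submodule F (Fin n → F), Cfsg.Geo.IsMDecomposition 1 D ∧
      ∃ σ : Equiv.Perm (Fin t), ∀ j, (D j).map y = D (σ j) := by
  classical
  have hr : r.Prime := Fact.out
  haveI : NeZero r := ⟨hr.ne_zero⟩
  obtain ⟨e, B, u, X, hn, hee, hu, hX, hX0, hXc, hXmin, htop⟩ := SemiPieces.exists_pieces hrF hc hc0 hy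
  rw [Module.finrank_fin_fun] at hn
  rw [← hee] at he
  obtain ⟨r', rfl⟩ : ∃ r', r = r' + 1 := ⟨r - 1, by have := hr.pos; omega⟩
  rw [Nat.add_sub_cancel] at hcr
  subst hcr
  have hBe : B ≤ e := by
    refine Nat.le_of_mul_le_mul_left ?_ hc0
    rw [Nat.succ_mul] at he
    omega
  choose w hw hw0 using fun b => (Submodule.ne_bot_iff _).1 (hX0 b)
  let z : Fin B → Fin n → F := fun b => u (Fin.castLE hBe b) + w b
  obtain ⟨π⟩ : Nonempty (Fin B × Fin (c + 1) ⊕ Fin (e - B) ≃ Fin t) := ⟨Fintype.equivOfCardEq (by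
    simp only [Fintype.card_sum, Fintype.card_prod, Fintype.card_fin, Nat.mul_succ]
    have := Nat.mul_comm B c
    omega)⟩
  let L : Fin B × Fin (c + 1) ⊕ Fin (e - B) → Submodule F (Fin n → F) :=
    Sum.elim (fun p => (Submodule.span F {z p.1}).map (y ^ (p.2 : ℕ)))
      (fun s => Submodule.span F {u ⟨B + s, by omega⟩})
  let τ : Equiv.Perm (Fin B × Fin (c + 1) ⊕ Fin (e - B)) :=
    Equiv.sumCongr ((Equiv.refl (Fin B)).prodCongr (Equiv.addRight (1 : Fin (c + 1)))) (Equiv.refl _)
  refine ⟨L ∘ π.symm, SemiPieces.isMDecomposition_of_span ht le_rfl hnt (fun j => ?_) ?_,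
    π.symm.trans (τ.trans π), fun j => ?_⟩
  · show Module.finrank F ↥(L (π.symm j)) ≤ 1
    have h1 : ∀ x : Fin n → F, Module.finrank F ↥(Submodule.span F {x}) ≤ 1 := fun x =>
      (finrank_span_le_card _).trans (by simp)
    rcases π.symm j with p | s
    · exact (Submodule.finrank_map_le _ _).trans (h1 _)
    · exact h1 _
  · rw [show iSup (L ∘ π.symm) = iSup L from π.symm.surjective.iSup_comp L, eq_top_iff, ← htop]
    have hZ : ∀ b, ∀ i : ℕ, (y ^ i) (z b) ∈ iSup L := fun b i => by
      refine Submodule.mem_iSup_of_mem (Sum.inl (b, (⟨i % (c + 1), Nat.mod_lt _ (Nat.succ_pos c)⟩ : Fin (c + 1)))) ⟨z b, Submodule.mem_span_singleton_self _, ?_⟩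
      show (y ^ (i % (c + 1))) (z b) = (y ^ i) (z b)
      rw [← pow_eq_pow_mod i hy]
    have hsum : ∀ b, ∑ i ∈ Finset.range (c + 1), (y ^ i) (w b) = 0 := fun b => by
      have hmem : ∑ i ∈ Finset.range (c + 1), (y ^ i) (w b) ∈ X b ⊓ LinearMap.ker (y - 1) := by
        refine ⟨Submodule.sum_mem _ fun i _ => ?_, ?_⟩
        · have key : ∀ i : ℕ, (y ^ i) (w b) ∈ X b := fun i => by
            induction i with
            | zero => exact hw b
            | succ i ih => rw [pow_succ', Module.End.mul_apply]; exact hX b ⟨_, ih, rfl⟩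
          exact key i
        · rw [SetLike.mem_coe, LinearMap.mem_ker, ← LinearMap.sum_apply, ← Module.End.mul_apply, mul_geom_sum, hy,
            sub_self, LinearMap.zero_apply]
      have hbot : X b ⊓ LinearMap.ker (y - 1) = ⊥ := by
        by_contra h
        have hinv : (X b ⊓ LinearMap.ker (y - 1)).map y ≤ X b ⊓ LinearMap.ker (y - 1) := by
          rintro _ ⟨x, hx, rfl⟩
          have hx' : (y - 1) x = 0 := hx.2
          rw [LinearMap.sub_apply, Module.End.one_apply, sub_eq_zero] at hx'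
          rw [hx']; exact hx
        have h1 := hXmin b _ hinv inf_le_left h
        have h2 : (X b ⊔ LinearMap.ker (y - 1)) = LinearMap.ker (y - 1) := sup_eq_right.2 (by rw [← h1]; exact inf_le_right)
        have h3 : Submodule.span F (Set.range u) ⊔ iSup X ≤ LinearMap.ker (y - 1) ⊔ ⨆ (l) (_ : l ≠ b), X l := by
          refine sup_le (le_sup_of_le_left (Submodule.span_le.2 ?_)) (iSup_le fun l => ?_)
          · rintro _ ⟨i, rfl⟩; simp [hu]
          · by_cases hl : l = b
            · subst hl; exact le_sup_of_le_left (by rw [← h1]; exact inf_le_right)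
            · exact le_sup_of_le_right (le_iSup₂_of_le l hl le_rfl)
        rw [htop] at h3
        have h4 := (Submodule.finrank_mono h3).trans (Submodule.finrank_add_le_finrank_add_finrank _ _)
        have h5 := SemiPieces.finrank_biSup_le X (Finset.univ.erase b)
        rw [show (⨆ i ∈ Finset.univ.erase b, X i) = ⨆ (l) (_ : l ≠ b), X l from
          iSup_congr fun l => iSup_congr_Prop (by simp) fun _ => rfl] at h5
        have h6 := Finset.sum_le_sum (s := Finset.univ.erase b) (fun l _ => hXc l)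
        rw [Finset.sum_const, Finset.card_erase_of_mem (Finset.mem_univ b), Finset.card_univ, Fintype.card_fin,
          smul_eq_mul] at h6
        rw [finrank_top, Module.finrank_fin_fun, ← hee] at h4
        have h7 : (B - 1) * c + c = c * B := by
          rw [← Nat.succ_mul, Nat.mul_comm, Nat.succ_eq_add_one, Nat.sub_add_cancel (by have := b.2; omega)]
        omega
      rw [← Submodule.mem_bot F, ← hbot]; exact hmem
    have hub : ∀ b, u (Fin.castLE hBe b) ∈ iSup L := fun b => by
      have h1 : ∑ i ∈ Finset.range (c + 1), (y ^ i) (z b) ∈ iSup L := Submodule.sum_mem _ fun i _ => hZ b i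
      have hfix : ∀ i : ℕ, (y ^ i) (u (Fin.castLE hBe b)) = u (Fin.castLE hBe b) := fun i => by
        induction i with
        | zero => rfl
        | succ i ih => rw [pow_succ', Module.End.mul_apply, ih, hu]
      simp only [z, map_add, hfix] at h1
      rw [Finset.sum_add_distrib, hsum, add_zero, Finset.sum_const, Finset.card_range, ← Nat.cast_smul_eq_nsmul F] at h1
      simpa only [smul_smul, inv_mul_cancel₀ hrF, one_smul] using Submodule.smul_mem _ ((c + 1 : ℕ) : F)⁻¹ h1
    have hXb : ∀ b, X b ≤ iSup L := fun b => by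
      let Z := (X b) ⊓ iSup L
      have hLi : (iSup L).map y ≤ iSup L := by
        rw [Submodule.map_iSup]
        refine iSup_le fun k => ?_
        rcases k with ⟨b', i⟩ | s
        · rintro _ ⟨_, ⟨x, hx, rfl⟩, rfl⟩
          obtain ⟨s, rfl⟩ := Submodule.mem_span_singleton.1 hx
          rw [map_smul, map_smul, ← Module.End.mul_apply, ← pow_succ']
          exact Submodule.smul_mem _ _ (hZ b' _)
        · rintro _ ⟨x, hx, rfl⟩
          obtain ⟨t', rfl⟩ := Submodule.mem_span_singleton.1 hx
          rw [map_smul, hu]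
          exact Submodule.smul_mem _ _ (Submodule.mem_iSup_of_mem (Sum.inr s) (Submodule.mem_span_singleton_self _))
      have hwZ : w b ∈ Z := ⟨hw b, by simpa [z] using Submodule.sub_mem _ (hZ b 0) (hub b)⟩
      have h := hXmin b Z ((Submodule.map_inf_le _).trans (inf_le_inf (hX b) hLi)) inf_le_left
        (fun h => hw0 b (by rw [h] at hwZ; exact hwZ))
      rw [← h]; exact inf_le_right
    refine sup_le (Submodule.span_le.2 ?_) (iSup_le hXb)
    rintro _ ⟨i, rfl⟩
    by_cases hi : (i : ℕ) < B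
    · exact hub ⟨i, hi⟩
    · refine Submodule.mem_iSup_of_mem (Sum.inr ⟨(i : ℕ) - B, by omega⟩) ?_
      show u i ∈ Submodule.span F {u ⟨B + ((i : ℕ) - B), _⟩}
      rw [show (⟨B + ((i : ℕ) - B), by omega⟩ : Fin e) = i from Fin.ext (by show B + ((i : ℕ) - B) = i; omega)]
      exact Submodule.mem_span_singleton_self _
  · show (L (π.symm j)).map y = L (π.symm (π (τ (π.symm j))))
    rw [Equiv.symm_apply_apply]
    rcases π.symm j with ⟨b, i⟩ | s
    · show ((Submodule.span F {z b}).map (y ^ (i : ℕ))).map y = (Submodule.span F {z b}).map (y ^ ((i + 1 : Fin (c + 1)) : ℕ))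
      rw [← Submodule.map_comp, ← Module.End.mul_eq_comp, ← pow_succ', addOne_val, ← pow_eq_pow_mod _ hy]
    · show (Submodule.span F {u ⟨B + s, _⟩}).map y = Submodule.span F {u ⟨B + s, _⟩}
      rw [Submodule.map_span, Set.image_singleton, hu]

/-- Blocks for a scalar which is no `r`-th power. -/
theorem pos_not_pow (ht : 2 ≤ t) (ha : 1 ≤ a) (hat : n = a * t) {d : F} (hy : y ^ r = d • (1 : Module.End F (Fin n → F)))
    (hd : ∀ e : F, e ^ r ≠ d) (hrn : r ∣ n) :
    ∃ D : Fin t → Submodule F (Fin n → F), Cfsg.Geo.IsMDecomposition a D ∧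
      ∃ σ : Equiv.Perm (Fin t), ∀ j, (D j).map y = D (σ j) := by
  classical
  have hr : r.Prime := Fact.out
  haveI : NeZero r := ⟨hr.ne_zero⟩
  obtain ⟨k, hk⟩ := hrn
  obtain ⟨v, hv⟩ := SemiPieces.exists_cyclic hr hy hd (k := k) (by rw [Module.finrank_fin_fun, hk])
  let cyc : Fin k → Submodule F (Fin n → F) := fun b => Submodule.span F (Set.range fun j : Fin r => (y ^ (j : ℕ)) (v b))
  have hd0 : d ≠ 0 := fun e => hd 0 (by rw [e, zero_pow hr.ne_zero])
  have hrot : ∀ S : Submodule F (Fin n → F), S.map (y ^ r) = S := fun S => by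
    rw [hy]
    refine le_antisymm ?_ fun x hx => ⟨d⁻¹ • x, S.smul_mem _ hx, ?_⟩
    · rintro _ ⟨x, hx, rfl⟩; exact S.smul_mem d hx
    · show d • d⁻¹ • x = x
      rw [smul_inv_smul₀ hd0]
  rcases hr.dvd_mul.1 (hat ▸ ⟨k, hk⟩ : r ∣ a * t) with ⟨β, hβ⟩ | ⟨G, hG⟩
  · obtain ⟨ρ⟩ : Nonempty (Fin t × Fin β ≃ Fin k) := ⟨Fintype.equivOfCardEq (by
      rw [Fintype.card_prod, Fintype.card_fin, Fintype.card_fin, Fintype.card_fin]
      refine Nat.eq_of_mul_eq_mul_left hr.pos ?_
      rw [← hk, hat, hβ]; ring)⟩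
    let D : Fin t → Submodule F (Fin n → F) := fun g => ⨆ s, cyc (ρ (g, s))
    have hdim : ∀ g, Module.finrank F ↥(D g) ≤ a := fun g => by
      have h2 := SemiPieces.finrank_biSup_le (fun s : Fin β => cyc (ρ (g, s))) Finset.univ
      rw [show (⨆ s ∈ (Finset.univ : Finset (Fin β)), cyc (ρ (g, s))) = D g from
        iSup_congr fun s => iSup_pos (Finset.mem_univ s)] at h2
      refine h2.trans ((Finset.sum_le_sum (g := fun _ => r) fun s _ => ?_).trans (le_of_eq ?_))
      · have := finrank_range_le_card (R := F) (fun j : Fin r => (y ^ (j : ℕ)) (v (ρ (g, s))))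
        rwa [Set.finrank, Fintype.card_fin] at this
      · rw [Finset.sum_const, Finset.card_univ, Fintype.card_fin, smul_eq_mul, hβ, mul_comm]
    have hsup : iSup D = ⊤ := by
      rw [eq_top_iff, ← hv]
      refine iSup_le fun b => ?_
      refine le_iSup_of_le (ρ.symm b).1 (le_iSup_of_le (ρ.symm b).2 ?_)
      show cyc b ≤ cyc (ρ (ρ.symm b))
      rw [Equiv.apply_symm_apply]
    have hD := SemiPieces.isMDecomposition_of_span ht ha hat hdim hsup
    refine ⟨D, hD, Equiv.refl _, fun g => ?_⟩
    have hinj : Function.Injective y := fun p q h => by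
      have h' : (y ^ r) p = (y ^ r) q := by
        obtain ⟨r', hr'⟩ : ∃ r', r = r' + 1 := ⟨r - 1, by have := hr.pos; omega⟩
        rw [hr', pow_succ, Module.End.mul_apply, Module.End.mul_apply, h]
      rw [hy] at h'
      exact smul_right_injective _ hd0 h'
    refine Submodule.eq_of_le_of_finrank_eq ?_ (Submodule.equivMapOfInjective y hinj (D g)).finrank_eq.symm
    show (⨆ s, cyc (ρ (g, s))).map y ≤ _
    rw [Submodule.map_iSup]
    exact iSup_mono fun s => SemiPieces.cyc_inv hr.pos hy _
  · obtain ⟨π⟩ : Nonempty (Fin G × Fin r ≃ Fin t) := ⟨Fintype.equivOfCardEq (by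
      rw [Fintype.card_prod, Fintype.card_fin, Fintype.card_fin, Fintype.card_fin, hG, mul_comm])⟩
    obtain ⟨ρ⟩ : Nonempty (Fin G × Fin a ≃ Fin k) := ⟨Fintype.equivOfCardEq (by
      rw [Fintype.card_prod, Fintype.card_fin, Fintype.card_fin, Fintype.card_fin]
      refine Nat.eq_of_mul_eq_mul_left hr.pos ?_
      rw [← hk, hat, hG]; ring)⟩
    let L : Fin G × Fin r → Submodule F (Fin n → F) := fun p =>
      (Submodule.span F (Set.range fun s : Fin a => v (ρ (p.1, s)))).map (y ^ (p.2 : ℕ))
    refine ⟨L ∘ π.symm, SemiPieces.isMDecomposition_of_span ht ha hat (fun j => ?_) ?_,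
      π.symm.trans (((Equiv.refl (Fin G)).prodCongr (Equiv.addRight (1 : Fin r))).trans π), fun j => ?_⟩
    · refine (Submodule.finrank_map_le _ _).trans ?_
      have := finrank_range_le_card (R := F) (fun s : Fin a => v (ρ ((π.symm j).1, s)))
      rwa [Set.finrank, Fintype.card_fin] at this
    · rw [show iSup (L ∘ π.symm) = iSup L from π.symm.surjective.iSup_comp L, eq_top_iff, ← hv]
      refine iSup_le fun b => Submodule.span_le.2 ?_
      rintro _ ⟨i, rfl⟩
      refine Submodule.mem_iSup_of_mem ((ρ.symm b).1, i) ⟨v b, Submodule.subset_span ⟨(ρ.symm b).2, ?_⟩, rfl⟩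
      show v (ρ (ρ.symm b)) = v b
      rw [Equiv.apply_symm_apply]
    · show (L (π.symm j)).map y = L (π.symm (π (((Equiv.refl (Fin G)).prodCongr (Equiv.addRight (1 : Fin r))) (π.symm j))))
      rw [Equiv.symm_apply_apply]
      rcases π.symm j with ⟨g, i⟩
      show ((Submodule.span F (Set.range fun s : Fin a => v (ρ (g, s)))).map (y ^ (i : ℕ))).map y =
        (Submodule.span F (Set.range fun s : Fin a => v (ρ (g, s)))).map (y ^ ((i + 1 : Fin r) : ℕ))
      rw [← Submodule.map_comp, ← Module.End.mul_eq_comp, ← pow_succ', addOne_val]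
      rcases Nat.lt_or_ge ((i : ℕ) + 1) r with h | h
      · rw [Nat.mod_eq_of_lt h]
      · rw [show (i : ℕ) + 1 = r by omega, Nat.mod_self, hrot, pow_zero, Module.End.one_eq_id, Submodule.map_id]

end

/-- Elements of odd prime order of PSL_n(q) and imprimitive subgroups. Here `T = PSL_n(F)` for a field `F` with `q = p^f` elements (`n ≥ 2`, `(n, q) ≠ (2, 2), (2, 3)`), `n = a·t` with `t ≥ 2`, and Ω is the set of direct-sum decompositions of `F^n` into `t` subspaces of dimension `a` (unordered; their number is the number of ordered ones divided by `t!`), whose stabilizers are the imprimitive subgroups of type GL_a(q) ≀ S_t (maximal except in some small cases; maximality is not assumed); an element of `T` of prime order `r` (a matrix `x` of determinant 1 with `x^r` scalar, `x` not scalar) fixes a point of Ω when it permutes the summands of some such decomposition. Let `r ≠ p` be an odd prime dividing the number of such decompositions, let `c` be the multiplicative order of `q` modulo `r`,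 and write `k = n mod c`, `ℓ = a mod c`. Then every element of `T` of order `r` stabilizes such a decomposition if and only if either `a = 1`, `c = r − 1 > 1` and `n ≤ k·r`, or `c ≤ a` and `k = t·ℓ`. -/
theorem result {F : Type*} [Field F] [Fintype F] {p : ℕ} [Fact p.Prime] [CharP F p] {q : ℕ} (hq : Fintype.card F = q)
    (n a t : ℕ) (hn : 2 ≤ n) (hT : (n, q) ≠ (2, 2) ∧ (n, q) ≠ (2, 3)) (hat : n = a * t) (ha : 1 ≤ a) (ht : 2 ≤ t)
    (r : ℕ) [Fact r.Prime] (hr2 : r ≠ 2) (hrp : r ≠ p) (hΩ : r ∣ Nat.card {D : Fin t → Submodule F (Fin n → F) // Cfsg.Geo.IsMDecomposition a D} / Nat.factorial t)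
    (c : ℕ) (hc : c = orderOf (q : ZMod r)) :
    (∀ x : Matrix.SpecialLinearGroup (Fin n) F,
      (∃ z : F, ((x ^ r : Matrix.SpecialLinearGroup (Fin n) F) : Matrix (Fin n) (Fin n) F) = z • (1 : Matrix (Fin n) (Fin n) F)) →
      (∀ z : F, (x : Matrix (Fin n) (Fin n) F) ≠ z • (1 : Matrix (Fin n) (Fin n) F)) →
      ∃ D : Fin t → Submodule F (Fin n → F), Cfsg.Geo.IsMDecomposition a D ∧
        ∃ σ : Equiv.Perm (Fin t), ∀ j, (D j).map (Matrix.toLin' (x : Matrix (Fin n) (Fin n) F)) = D (σ j)) ↔
    ((a = 1 ∧ 1 < c ∧ c = r - 1 ∧ n ≤ (n % c) * r) ∨ (c ≤ a ∧ n % c = t * (a % c))) := by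
  subst hq
  classical
  have hr : r.Prime := Fact.out
  have hrF := SemiCriterion.cast_ne (F := F) (p := p) hrp
  have hpos := SemiCriterion.order_pos (F := F) (p := p) hrp
  rw [← hc] at hpos
  have hcr1 : c ∣ r - 1 := hc ▸ ZMod.orderOf_dvd_card_sub_one (fun h => SemiCriterion.not_dvd_card (F := F) hrp
    ((ZMod.natCast_eq_zero_iff _ r).1 h))
  have hcle : c ≤ r - 1 := Nat.le_of_dvd (by have := hr.two_le; omega) hcr1
  have hcn : c ≤ n := by
    have h := DecompNumber.dvd_card_gl ha ht hat hΩ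
    rw [Matrix.card_GL_field] at h
    obtain ⟨i, -, hi⟩ := (Prime.dvd_finsetProd_iff hr.prime _).1 h
    have hi' : Fintype.card F ^ n - Fintype.card F ^ (i : ℕ) =
        Fintype.card F ^ (i : ℕ) * (Fintype.card F ^ (n - (i : ℕ)) - 1) := by
      rw [Nat.mul_sub, mul_one, ← pow_add, Nat.add_sub_cancel' i.2.le]
    rw [hi'] at hi
    have h' := (hr.dvd_mul.1 hi).resolve_left fun h => SemiCriterion.not_dvd_card (F := F) hrp (hr.dvd_of_dvd_pow h)
    rw [← ZMod.natCast_eq_zero_iff, Nat.cast_sub (Nat.one_le_pow _ _ Fintype.card_pos), Nat.cast_pow, Nat.cast_one,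
      sub_eq_zero] at h'
    rw [hc]
    exact (Nat.le_of_dvd (by omega) (orderOf_dvd_of_pow_eq_one h')).trans (Nat.sub_le n i)
  constructor
  · intro hall
    by_cases hc1 : c = 1
    · exact Or.inr ⟨by omega, by rw [hc1, Nat.mod_one, Nat.mod_one, mul_zero]⟩
    have hc2 : 2 ≤ c := by omega
    have hnd : ¬ r ∣ Fintype.card F - 1 := fun h => hc1 (hc.trans ((SemiCriterion.order_eq_one_iff (F := F)).2 h))
    have run : ∀ e B, 0 < B → n = e + c * B → ∃ (y : Module.End F (Fin n → F)) (D : Fin t → Submodule F (Fin n → F))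
        (σ : Equiv.Perm (Fin t)), y ^ r = 1 ∧ Module.finrank F ↥(LinearMap.ker (y - 1)) = e ∧
        Cfsg.Geo.IsMDecomposition a D ∧ ∀ j, (D j).map y = D (σ j) := by
      intro e B hB hn
      obtain ⟨x, hx, hns, he⟩ := witness (p := p) hc.symm hc2 hB hn
      obtain ⟨D, hD, σ, hσ⟩ := hall x ⟨1, by rw [Matrix.SpecialLinearGroup.coe_pow, hx, one_smul]⟩ hns
      exact ⟨_, D, σ, by rw [← map_pow, hx, map_one], he, hD, hσ⟩
    have hk : n % c + c * (n / c) = n := Nat.mod_add_div n c
    have hkc := Nat.mod_lt n hpos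
    obtain ⟨y, D, σ, hy, he, hD, hσ⟩ := run (n % c) (n / c) (Nat.div_pos hcn hpos) hk.symm
    by_cases hfix : ∀ j, σ j = j
    · refine Or.inr ?_
      obtain ⟨hcong, hsum⟩ := of_no_move hc.symm hrF hy hD hσ hfix
      have hlow : t * (a % c) ≤ n % c := by
        refine le_trans ?_ (hsum.trans he.le)
        refine le_trans (le_of_eq ?_) (Finset.sum_le_sum fun j _ => (show a % c ≤ _ from
          (show a % c = _ from hcong j) ▸ Nat.mod_le _ c))
        rw [Finset.sum_const, Finset.card_univ, Fintype.card_fin, smul_eq_mul]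
      have heq : n % c = t * (a % c) := by
        have : n % c = (t * (a % c)) % c := by rw [hat, mul_comm a t, Nat.mul_mod, Nat.mul_mod t (a % c), Nat.mod_mod]
        rw [this, Nat.mod_eq_of_lt (lt_of_le_of_lt hlow hkc)]
      refine ⟨?_, heq⟩
      by_contra hac
      rw [Nat.mod_eq_of_lt (not_le.1 hac), mul_comm, ← hat] at heq
      omega
    push Not at hfix
    obtain ⟨j, hj⟩ := hfix
    have hak : a ≤ n % c := (le_fixed hD hσ hy hj).trans he.le
    have hac : a < c := lt_of_le_of_lt hak hkc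
    obtain ⟨y', D', σ', hy', he', hD', hσ'⟩ := run (n - c) 1 one_pos (by omega)
    have hmove : ∃ j, σ' j ≠ j := by
      by_contra hno
      push Not at hno
      obtain ⟨hcong, hsum⟩ := of_no_move hc.symm hrF hy' hD' hσ' hno
      have : ∀ j, a ≤ Module.finrank F ↥(D' j ⊓ LinearMap.ker (y' - 1)) := fun j => by
        have h := hcong j
        rw [Nat.ModEq, Nat.mod_eq_of_lt hac] at h
        rw [h]; exact Nat.mod_le _ c
      have h1 := Finset.sum_le_sum (s := Finset.univ) (fun j _ => this j)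
      rw [Finset.sum_const, Finset.card_univ, Fintype.card_fin, smul_eq_mul, mul_comm, ← hat] at h1
      omega
    obtain ⟨j', hj'⟩ := hmove
    have hrank := le_rank hD' hσ' hy' hj'
    have hker := (y' - 1).finrank_range_add_finrank_ker
    rw [Module.finrank_fin_fun] at hker
    have hran : (r - 1) * a ≤ c := by omega
    have ha1 : a = 1 := by
      by_contra hne
      have := Nat.mul_le_mul_left (r - 1) (show 2 ≤ a by omega)
      have := hr.two_le
      omega
    subst ha1
    refine Or.inl ⟨rfl, by omega, by omega, ?_⟩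
    have hcnt := orbit_count hD hσ hy (fun z hz => root_one hnd hz) hrF
    rw [one_mul] at hat
    refine hat.le.trans ?_
    exact hcnt.trans ((Nat.mul_le_mul_left r he.le).trans (le_of_eq (mul_comm _ _)))
  · intro hcond x ⟨d, hx⟩ _
    rw [Matrix.SpecialLinearGroup.coe_pow] at hx
    have hxT := SemiCriterion.toLin_pow hx
    by_cases hpow : ∃ e : F, e ^ r = d
    · obtain ⟨e, he⟩ := hpow
      have he0 : e ≠ 0 := fun h => by
        rw [h, zero_pow hr.ne_zero] at he
        rw [← he, zero_smul] at hx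
        have := congrArg Matrix.det hx
        haveI hne : Nonempty (Fin n) := ⟨⟨0, by omega⟩⟩
        rw [Matrix.det_pow, x.2, one_pow, Matrix.det_zero] at this
        exact one_ne_zero this
      obtain ⟨y, hydef⟩ : ∃ y : Module.End F (Fin n → F),
          y = e⁻¹ • Matrix.toLinAlgEquiv' (x : Matrix (Fin n) (Fin n) F) := ⟨_, rfl⟩
      have hy : y ^ r = 1 := by
        rw [hydef, smul_pow, hxT, smul_smul, inv_pow, ← he, inv_mul_cancel₀ (pow_ne_zero _ he0), one_smul]
      have htr : ∀ S : Submodule F (Fin n → F), S.map (Matrix.toLin' (x : Matrix (Fin n) (Fin n) F)) = S.map y :=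
        fun S => by rw [hydef]; exact (Submodule.map_smul _ _ _ (inv_ne_zero he0)).symm
      have hmod : n % c ≤ Module.finrank F ↥(LinearMap.ker (y - 1)) := by
        have h := SemiDims.finrank_modEq hrF hy (U := ⊤) le_top
        rw [finrank_top, top_inf_eq, Module.finrank_fin_fun, ← hc] at h
        rw [show n % c = _ from h]; exact Nat.mod_le _ _
      rcases hcond with ⟨ha1, -, hcr, hle⟩ | ⟨-, heq⟩
      · subst ha1
        obtain ⟨D, hD, σ, hσ⟩ := pos_lines hc.symm hpos hcr hrF ht hat hy (hle.trans (by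
          rw [mul_comm]; exact Nat.mul_le_mul_left r hmod))
        exact ⟨D, hD, σ, fun j => by rw [htr]; exact hσ j⟩
      · obtain ⟨D, hD, hinv⟩ := pos_stable hc.symm hpos hrF ht ha hat hy (heq ▸ hmod)
        refine ⟨D, hD, Equiv.refl _, fun j => ?_⟩
        rw [htr]
        have hinj : Function.Injective y := fun v w h => by
          have h' := congrArg (y ^ (r - 1)) h
          simp only [← Module.End.mul_apply, ← pow_succ, Nat.sub_add_cancel hr.one_lt.le, hy, Module.End.one_apply] at h'
          exact h'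
        exact Submodule.eq_of_le_of_finrank_eq (hinv j) (Submodule.equivMapOfInjective y hinj (D j)).finrank_eq.symm
    · push Not at hpow
      obtain ⟨k, hk, -⟩ := SemiWitness.det_eq hr hx hpow
      obtain ⟨D, hD, σ, hσ⟩ := pos_not_pow ht ha hat hxT hpow ⟨k, hk⟩
      exact ⟨D, hD, σ, hσ⟩


end Cfsg.Agent.S5958
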