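import Cfsg.Statements.S5959
import Cfsg.Agent.Lib.Classical.UnipJordan
import Cfsg.Agent.Lib.MaxSub.DecompCoord
-- import your own Cfsg.Agent.* helpers here

set_option autoImplicit false
open scoped MatrixGroups
open Cfsg

namespace Cfsg.Agent.S5959

theorem min_sum_add (s : Multiset ℕ) {e : ℕ} (he : 1 ≤ e) :
    2 * (s.map fun x => min e x).sum =
      (s.map fun x => min (e - 1) x).sum + (s.map fun x => min (e + 1) x).sum + s.count e := by
  induction s using Multiset.induction_on with
  | empty => simp
  | cons b s ih =>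
    simp only [Multiset.map_cons, Multiset.sum_cons, Multiset.count_cons]
    split_ifs with h <;> omega

theorem eq_of_min_sum {s t : Multiset ℕ} (hs : ∀ b ∈ s, 0 < b) (ht : ∀ b ∈ t, 0 < b)
    (h : ∀ k, (s.map fun x => min k x).sum = (t.map fun x => min k x).sum) : s = t := by
  refine Multiset.ext.2 fun e => ?_
  rcases Nat.eq_zero_or_pos e with rfl | he
  · rw [Multiset.count_eq_zero.2 fun h => lt_irrefl _ (hs _ h), Multiset.count_eq_zero.2 fun h => lt_irrefl _ (ht _ h)]
  · have h1 := min_sum_add s he
    have h2 := min_sum_add t he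
    rw [h, h, h] at h1
    omega

theorem min_sum_finset {ι : Type*} (s : Finset ι) (f : ι → Multiset ℕ) (k : ℕ) :
    ((∑ j ∈ s, f j).map fun x => min k x).sum = ∑ j ∈ s, ((f j).map fun x => min k x).sum := by
  classical
  induction s using Finset.induction_on with
  | empty => simp
  | insert b s hb ih => rw [Finset.sum_insert hb, Finset.sum_insert hb, Multiset.map_add, Multiset.sum_add, ih]

theorem geom_eq_pow {F : Type*} [Field F] {p : ℕ} [Fact p.Prime] [CharP F p] {R : Type*} [Ring R] [Algebra F R] (x : R) :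
    ∑ i ∈ Finset.range p, x ^ i = (x - 1) ^ (p - 1) := by
  have h : (∑ i ∈ Finset.range p, (Polynomial.X : Polynomial F) ^ i) = (Polynomial.X - 1) ^ (p - 1) := by
    refine mul_right_cancel₀ (b := (Polynomial.X - 1 : Polynomial F)) (by simpa using Polynomial.X_sub_C_ne_zero (1 : F)) ?_
    rw [geom_sum_mul, ← pow_succ, Nat.sub_add_cancel (Fact.out : p.Prime).one_lt.le, sub_pow_char, one_pow]
  have := congrArg (Polynomial.aeval x) h
  simpa using this

open CfsgLib.KnownB.UnipClasses CfsgLib.Classical.UnipJordan in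
/-- The transformation permuting a decomposition with few maximal blocks fixes its members, and the blocks split. -/
theorem split_parts {F : Type*} [Field F] [Fintype F] {p : ℕ} [Fact p.Prime] [CharP F p] {n a t : ℕ} (ha : 1 ≤ a)
    (ht : 0 < t) {A : Matrix (Fin n) (Fin n) F} (hA : IsNilpotent (A - 1)) (hpA : (A - 1) ^ p = 0)
    (hcount : (partOf hA).parts.count p < a) {D : Fin t → Submodule F (Fin n → F)}
    (hD : Cfsg.Geo.IsMDecomposition a D) {σ : Equiv.Perm (Fin t)}
    (hσ : ∀ j, (D j).map (Matrix.toLin' A) = D (σ j)) :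
    ∃ ν : Multiset ℕ, ν ≤ (partOf hA).parts ∧ ν.sum = a := by
  classical
  obtain ⟨ψ, hψ⟩ := CfsgLib.MaxSub.Decomp.exists_coord hD
  have hsingle := CfsgLib.MaxSub.Decomp.single_of_coord ψ hψ
  have hp : p.Prime := Fact.out
  have hAp : A ^ p = 1 := by
    have := pow_prime_eq p (A - 1)
    rw [add_sub_cancel, hpA, add_zero] at this
    exact this
  have hinj : ∀ i j, D i = D j → i = j := fun i j h => by
    by_contra hne
    have h0 : D i = ⊥ := by
      have := hD.indep.pairwiseDisjoint hne
      rw [Function.onFun, ← h] at this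
      exact disjoint_self.1 this
    have := hD.finrank_eq i
    rw [h0, finrank_bot] at this
    omega
  have hiter : ∀ (i : ℕ) j, ∀ v ∈ D j, (A ^ i).mulVec v ∈ D ((σ ^ i) j) := by
    intro i
    induction i with
    | zero => intro j v hv; simpa using hv
    | succ i ih =>
      intro j v hv
      rw [pow_succ' A, ← Matrix.mulVec_mulVec, pow_succ' σ, Equiv.Perm.mul_apply, ← hσ]
      exact ⟨_, ih j v hv, Matrix.toLin'_apply _ _⟩
  have hmap : ∀ (i : ℕ) j, (D j).map (Matrix.toLin' (A ^ i)) = D ((σ ^ i) j) := by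
    intro i
    induction i with
    | zero => intro j; simp
    | succ i ih => intro j; rw [pow_succ', Matrix.toLin'_mul, Submodule.map_comp, ih, hσ, pow_succ', Equiv.Perm.mul_apply]
  have hperp : ∀ j, (σ ^ p) j = j := fun j => hinj _ _ (by rw [← hmap, hAp, Matrix.toLin'_one, Submodule.map_id])
  have hfix : ∀ j, σ j = j := by
    intro j
    by_contra hne
    have horb : ∀ i, i < p → (σ ^ i) j = j → i = 0 := by
      intro i hi hij
      by_contra h0
      refine hne ?_
      have hd : Function.minimalPeriod σ j ∣ i := (Function.isPeriodicPt_iff_minimalPeriod_dvd (f := σ)).1 (by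
        rwa [Equiv.Perm.coe_pow] at hij)
      have hdp : Function.minimalPeriod σ j ∣ p := (Function.isPeriodicPt_iff_minimalPeriod_dvd (f := σ)).1 (by
        have := hperp j; rwa [Equiv.Perm.coe_pow] at this)
      rcases (Nat.dvd_prime hp).1 hdp with h | h
      · exact Function.minimalPeriod_eq_one_iff_isFixedPt.1 h
      · rw [h] at hd
        exact absurd (Nat.le_of_dvd (Nat.pos_of_ne_zero h0) hd) (by omega)
    let N := Matrix.toLin' ((A - 1) ^ (p - 1))
    have hN : ∀ v, N v = ∑ i ∈ Finset.range p, (A ^ i).mulVec v := fun v => by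
      simp only [N, Matrix.toLin'_apply, ← geom_eq_pow (F := F) A, Matrix.sum_mulVec]
    have hNinj : Function.Injective (N ∘ₗ (D j).subtype) := by
      rw [injective_iff_map_eq_zero]
      rintro ⟨v, hv⟩ h0
      have h1 := congrFun (congrArg ψ h0) j
      simp only [LinearMap.comp_apply, Submodule.subtype_apply, hN, map_sum, Finset.sum_apply, map_zero, Pi.zero_apply] at h1
      rw [Finset.sum_eq_single 0 (fun i hi h0 => (hψ _ _).1 (hiter i j v hv) j fun h => h0 (horb i (Finset.mem_range.1 hi) h.symm))
        (fun h => absurd (Finset.mem_range.2 hp.pos) h), pow_zero, Matrix.one_mulVec] at h1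
      refine Subtype.ext (ψ.injective (funext fun k => ?_))
      rw [Submodule.coe_zero, map_zero]
      by_cases hk : k = j
      · subst hk; exact h1
      · exact (hψ v j).1 hv k hk
    have h1 := LinearMap.finrank_range_of_inj hNinj
    have h2 := Submodule.finrank_mono (LinearMap.range_comp_le_range (D j).subtype N)
    have h3 := N.finrank_range_add_finrank_ker
    have h4 := card_ker_pow hA (p - 1)
    rw [hD.finrank_eq] at h1
    rw [Module.finrank_fin_fun] at h3
    have h5 : Nat.card (LinearMap.ker N) = Nat.card {v : Fin n → F // ((A - 1) ^ (p - 1)).mulVec v = 0} :=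
      Nat.card_congr (Equiv.subtypeEquivRight fun v => by rw [LinearMap.mem_ker]; exact Iff.rfl)
    rw [h4, Module.natCard_eq_pow_finrank (K := F), Nat.card_eq_fintype_card] at h5
    have h6 := Nat.pow_right_injective Fintype.one_lt_card h5
    have h7 : ∀ s : Multiset ℕ, (∀ e ∈ s, e ≤ p) → (s.map fun e => min (p - 1) e).sum + s.count p = s.sum := by
      intro s
      induction s using Multiset.induction_on with
      | empty => simp
      | cons b s ih =>
        intro hs
        have hb := hs b (Multiset.mem_cons_self _ _)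
        have := ih fun e he => hs e (Multiset.mem_cons_of_mem he)
        simp only [Multiset.map_cons, Multiset.sum_cons, Multiset.count_cons]
        have := hp.pos
        split_ifs with h <;> omega
    have h8 := h7 _ ((pow_eq_zero_iff hA p).1 hpA)
    rw [(partOf hA).parts_sum] at h8
    omega
  let g : Fin t → ((Fin a → F) →ₗ[F] (Fin a → F)) := fun j =>
    (LinearMap.proj j) ∘ₗ ψ.toLinearMap ∘ₗ Matrix.toLin' A ∘ₗ ψ.symm.toLinearMap ∘ₗ LinearMap.single F (fun _ : Fin t => Fin a → F) j
  let M : Fin t → Matrix (Fin a) (Fin a) F := fun j => LinearMap.toMatrix' (g j)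
  have hcomm : ∀ v j, ψ (A.mulVec v) j = (M j).mulVec (ψ v j) := by
    intro v j
    conv_lhs => rw [← ψ.symm_apply_apply v, ← Finset.univ_sum_single (ψ v), map_sum, Matrix.mulVec_sum, map_sum,
      Finset.sum_apply]
    rw [Finset.sum_eq_single j]
    · simp [M, g]
    · intro i _ hij
      have := hiter 1 i _ (hsingle i (ψ v i))
      rw [pow_one, pow_one, hfix] at this
      exact (hψ _ _).1 this j hij.symm
    · intro h; exact absurd (Finset.mem_univ j) h
  have hcommk : ∀ (k : ℕ) v j, ψ (((A - 1) ^ k).mulVec v) j = ((M j - 1) ^ k).mulVec (ψ v j) := by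
    intro k
    induction k with
    | zero => intro v j; simp
    | succ k ih =>
      intro v j
      rw [pow_succ', ← Matrix.mulVec_mulVec, pow_succ', ← Matrix.mulVec_mulVec, Matrix.sub_mulVec, Matrix.one_mulVec,
        Matrix.sub_mulVec, Matrix.one_mulVec, map_sub, Pi.sub_apply, hcomm, ih]
  have hMp : ∀ j, (M j - 1) ^ p = 0 := fun j => by
    refine Matrix.toLin'.injective (LinearMap.ext fun w => ?_)
    have h := hcommk p (ψ.symm (Pi.single j w)) j
    rw [hpA, Matrix.zero_mulVec, map_zero, ψ.apply_symm_apply, Pi.single_eq_same] at h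
    rw [Matrix.toLin'_apply, map_zero, LinearMap.zero_apply, ← h]; rfl
  have hM : ∀ j, IsNilpotent (M j - 1) := fun j => ⟨p, hMp j⟩
  have hparts : (partOf hA).parts = ∑ j, (partOf (hM j)).parts := by
    refine eq_of_min_sum (fun b hb => (partOf hA).parts_pos hb) (fun b hb => ?_) fun k => ?_
    · obtain ⟨j, -, hj⟩ := Multiset.mem_sum.1 hb
      exact (partOf (hM j)).parts_pos hj
    · rw [min_sum_finset]
      refine Nat.pow_right_injective (Fintype.one_lt_card (α := F)) ?_
      simp only
      rw [← card_ker_pow hA k, ← Finset.prod_pow_eq_pow_sum,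
        Finset.prod_congr rfl fun j _ => (card_ker_pow (hM j) k).symm, ← Nat.card_pi]
      refine Nat.card_congr ((Equiv.subtypeEquiv ψ.toEquiv (q := fun f => ∀ j, ((M j - 1) ^ k).mulVec (f j) = 0)
        fun v => ⟨fun h j => ?_, fun h => ψ.injective (funext fun j => ?_)⟩).trans (Equiv.subtypePiEquivPi (β := fun _ : Fin t => Fin a → F) (p := fun j w => ((M j - 1) ^ k).mulVec w = 0)))
      · rw [LinearEquiv.coe_toEquiv, ← hcommk, h, map_zero]; rfl
      · rw [hcommk, map_zero]; exact h j
  refine ⟨(partOf (hM ⟨0, ht⟩)).parts, ?_, (partOf (hM _)).parts_sum⟩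
  rw [hparts]
  exact Finset.single_le_sum (f := fun j => (partOf (hM j)).parts) (fun j _ => Multiset.zero_le _) (Finset.mem_univ _)

/-- Elements of order `p` of PSL_n(q) and imprimitive subgroups: a necessary condition. Here `T = PSL_n(F)` for a field `F` with `q = p^f` elements (`n ≥ 2`, `(n, q) ≠ (2, 2), (2, 3)`), `n = a·t` with `t ≥ 2`, and Ω is the set of direct-sum decompositions of `F^n` into `t` subspaces of dimension `a` (unordered; their number is the number of ordered ones divided by `t!`), whose stabilizers are the imprimitive subgroups of type GL_a(q) ≀ S_t (maximal except in some small cases; maximality is not assumed); an element of `T` of prime order `r` (a matrix `x` of determinant 1 with `x^r` scalar, `x` not scalar) fixes a point of Ω when it permutes the summands of some such decomposition. Suppose `p > 2` divides the number of such decompositions. If every element of `T` of order `p` stabilizes such a decomposition, then every partition of `n` into parts of size at most `p` in which the part `p`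 occurs fewer than `a` times contains (as a sub-multiset) a partition of `a`. -/
theorem result {F : Type*} [Field F] [Fintype F] {p : ℕ} [Fact p.Prime] [CharP F p] {q : ℕ} (hq : Fintype.card F = q)
    (n a t : ℕ) (hn : 2 ≤ n) (hT : (n, q) ≠ (2, 2) ∧ (n, q) ≠ (2, 3)) (hat : n = a * t) (ha : 1 ≤ a) (ht : 2 ≤ t)
    (hp : 2 < p) (hΩ : p ∣ Nat.card {D : Fin t → Submodule F (Fin n → F) // Cfsg.Geo.IsMDecomposition a D} / Nat.factorial t)
    (h : ∀ x : Matrix.SpecialLinearGroup (Fin n) F,
      (∃ z : F, ((x ^ p : Matrix.SpecialLinearGroup (Fin n) F) : Matrix (Fin n) (Fin n) F) = z • (1 : Matrix (Fin n) (Fin n) F)) →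
      (∀ z : F, (x : Matrix (Fin n) (Fin n) F) ≠ z • (1 : Matrix (Fin n) (Fin n) F)) →
      ∃ D : Fin t → Submodule F (Fin n → F), Cfsg.Geo.IsMDecomposition a D ∧
        ∃ σ : Equiv.Perm (Fin t), ∀ j, (D j).map (Matrix.toLin' (x : Matrix (Fin n) (Fin n) F)) = D (σ j)) :
    (∀ μ : Multiset ℕ, (∀ b ∈ μ, 0 < b ∧ b ≤ p) → μ.sum = n → μ.count p < a → ∃ ν : Multiset ℕ, ν ≤ μ ∧ ν.sum = a) := by
  intro μ hμ hsum hcount
  classical
  by_cases hone : ∀ b ∈ μ, b = 1
  · have hrep : μ = Multiset.replicate μ.card 1 := Multiset.eq_replicate_card.2 hone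
    refine ⟨Multiset.replicate a 1, ?_, by simp⟩
    rw [hrep] at hsum ⊢
    rw [Multiset.sum_replicate, smul_eq_mul, mul_one] at hsum
    refine (Multiset.replicate_le_replicate _).2 ?_
    rw [hsum, hat]
    exact Nat.le_mul_of_pos_right a (by omega)
  let lam : Nat.Partition n := ⟨μ, fun hb => (hμ _ hb).1, hsum⟩
  obtain ⟨A, hA, hpart⟩ := CfsgLib.KnownB.UnipClasses.exists_partOf (F := F) lam
  have hpA : (A - 1) ^ p = 0 := (CfsgLib.Classical.UnipJordan.pow_eq_zero_iff hA p).2 (by
    rw [hpart]; exact fun b hb => (hμ b hb).2)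
  have hAp : A ^ p = 1 := by
    have := CfsgLib.Classical.UnipJordan.pow_prime_eq p (A - 1)
    rw [add_sub_cancel, hpA, add_zero] at this
    exact this
  have hdet : A.det = 1 := by
    have h1 : A.det ^ p = 1 := by rw [← Matrix.det_pow, hAp, Matrix.det_one]
    exact sub_eq_zero.1 (eq_zero_of_pow_eq_zero (n := p) (by rw [sub_pow_char, one_pow, h1, sub_self]))
  obtain ⟨x, hx⟩ : ∃ x : Matrix.SpecialLinearGroup (Fin n) F, (x : Matrix (Fin n) (Fin n) F) = A := ⟨⟨A, hdet⟩, rfl⟩
  obtain ⟨D, hD, σ, hσ⟩ := h x ⟨1, by rw [Matrix.SpecialLinearGroup.coe_pow, hx, hAp, one_smul]⟩ fun z hz => hone fun b hb => by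
    rw [hx] at hz
    have hz1 : A - 1 = (z - 1) • (1 : Matrix (Fin n) (Fin n) F) := by rw [hz, sub_smul, one_smul]
    have h0 : (z - 1) ^ p = 0 := by
      rw [hz1, smul_pow, one_pow] at hpA
      haveI : Nonempty (Fin n) := ⟨⟨0, by omega⟩⟩
      exact (smul_eq_zero.1 hpA).resolve_right one_ne_zero
    have hA1 : (A - 1) ^ 1 = 0 := by rw [pow_one, hz1, eq_zero_of_pow_eq_zero h0, zero_smul]
    exact le_antisymm ((CfsgLib.Classical.UnipJordan.pow_eq_zero_iff hA 1).1 hA1 b (by rw [hpart]; exact hb)) (hμ b hb).1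
  rw [hx] at hσ
  obtain ⟨ν, hν, hνs⟩ := split_parts (p := p) ha (by omega) hA hpA (by rw [hpart]; exact hcount) hD hσ
  exact ⟨ν, by rw [hpart] at hν; exact hν, hνs⟩


end Cfsg.Agent.S5959
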