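import Cfsg.Statements.S5960
import Cfsg.Agent.Lib.MaxSub.InvolPlanes
import Cfsg.Agent.Lib.Geom.Symp
-- import your own Cfsg.Agent.* helpers here

set_option autoImplicit false
open scoped MatrixGroups
open Cfsg

namespace Cfsg.Agent.S5960

/-- Involutions of PSp_n(q) and imprimitive subgroups. Here `T = PSp_n(q)`, `n = 2d ≥ 4`, `(n, q) ≠ (4, 2)`, realised through the symplectic matrices over the field `F` with `q` elements and the standard alternating form; `n = a·t` with `a` even and `t ≥ 2`, and Ω is the (nonempty) set of orthogonal decompositions of `F^n` into `t` nondegenerate subspaces of dimension `a` (unordered; counted as ordered ones divided by `t!`), whose stabilizers are the imprimitive subgroups of type Sp_a(q) ≀ S_t (maximality is not assumed); an element of `T` of prime order `r` (a symplectic matrix `x` with `x^r` scalar, `x` not scalar) fixes a point of Ω when it permutes the summands of some such decomposition.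 If the number of such decompositions is even, then every involution of `T` stabilizes one of them (the action is 2-elusive). -/
theorem result {F : Type*} [Field F] [Fintype F] {p : ℕ} [Fact p.Prime] [CharP F p] {q : ℕ} (hq : Fintype.card F = q)
    (d : ℕ) (hd : 2 ≤ d) (hT : (d, q) ≠ (2, 2))
    (a t : ℕ) (hat : 2 * d = a * t) (ha : 2 ≤ a) (hae : Even a) (ht : 2 ≤ t) (hΩ : 2 ∣ Nat.card {D : Fin t → Submodule F (Fin d ⊕ Fin d → F) // (Cfsg.Geo.IsMDecomposition a D ∧ (∀ j, ∀ u ∈ D j, u ≠ 0 → ∃ v ∈ D j, Cfsg.sympForm d F u v ≠ 0) ∧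
          (∀ j j', j ≠ j' → ∀ u ∈ D j, ∀ v ∈ D j', Cfsg.sympForm d F u v = 0))} / Nat.factorial t)
    (x : ↥(Matrix.symplecticGroup (Fin d) F))
    (hx1 : ∃ z : F, ((x ^ 2 : ↥(Matrix.symplecticGroup (Fin d) F)) : Matrix (Fin d ⊕ Fin d) (Fin d ⊕ Fin d) F) = z • (1 : Matrix (Fin d ⊕ Fin d) (Fin d ⊕ Fin d) F))
    (hx2 : ∀ z : F, (x : Matrix (Fin d ⊕ Fin d) (Fin d ⊕ Fin d) F) ≠ z • (1 : Matrix (Fin d ⊕ Fin d) (Fin d ⊕ Fin d) F)) :
    ∃ D : Fin t → Submodule F (Fin d ⊕ Fin d → F), (Cfsg.Geo.IsMDecomposition a D ∧ (∀ j, ∀ u ∈ D j, u ≠ 0 → ∃ v ∈ D j, Cfsg.sympForm d F u v ≠ 0) ∧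
          (∀ j j', j ≠ j' → ∀ u ∈ D j, ∀ v ∈ D j', Cfsg.sympForm d F u v = 0)) ∧
        ∃ σ : Equiv.Perm (Fin t), ∀ j, (D j).map (Matrix.toLin' (x : Matrix (Fin d ⊕ Fin d) (Fin d ⊕ Fin d) F)) = D (σ j) := by
  obtain ⟨c, rfl⟩ : ∃ c, a = 2 * c := even_iff_exists_two_nsmul a |>.1 hae |>.imp fun c hc => by simpa [two_mul] using hc
  obtain ⟨z, hz⟩ := hx1
  rw [pow_two] at hz
  have hz' : ((x : Matrix (Fin d ⊕ Fin d) (Fin d ⊕ Fin d) F) * x) = z • 1 := hz
  have hsymp := (CfsgLib.Geom.mem_symplecticGroup_iff_form _).1 x.2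
  have hz0 : z ≠ 0 := by
    intro h
    rw [h, zero_smul] at hz'
    have h1 := hsymp
    obtain ⟨i⟩ : Nonempty (Fin d ⊕ Fin d) := ⟨.inl ⟨0, by omega⟩⟩
    refine absurd (CfsgLib.Geom.sympBilin_sep (Pi.single i (1 : F)) fun y => ?_) (by simp)
    rw [CfsgLib.Geom.sympBilin_apply, ← h1, ← h1, Matrix.mulVec_mulVec, Matrix.mulVec_mulVec, hz', Matrix.zero_mulVec,
      Matrix.zero_mulVec, ← CfsgLib.Geom.sympBilin_apply, map_zero]
  obtain ⟨D, hD, hnd, horth, hσ⟩ := CfsgLib.MaxSub.InvolPlanes.exists_decomposition (CfsgLib.Geom.sympBilin d F)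
    (Matrix.toLin' (x : Matrix (Fin d ⊕ Fin d) (Fin d ⊕ Fin d) F)) (fun v => CfsgLib.Geom.sympBilin_self v)
    (fun v hv => CfsgLib.Geom.sympBilin_sep v hv)
    (fun u v => by simp only [CfsgLib.Geom.sympBilin_apply, Matrix.toLin'_apply]; exact hsymp u v) hz0
    (fun v => by rw [Matrix.toLin'_apply, Matrix.toLin'_apply, Matrix.mulVec_mulVec, hz', Matrix.smul_mulVec, Matrix.one_mulVec])
    (c := c) (t := t) (by omega) ht (by rw [Fintype.card_sum, Fintype.card_fin]; omega)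
  refine ⟨D, ⟨hD, fun j u hu hu0 => ?_, fun j j' hjj u hu v hv => ?_⟩, hσ⟩
  · obtain ⟨v, hv, hne⟩ := hnd j u hu hu0
    exact ⟨v, hv, by rwa [CfsgLib.Geom.sympBilin_apply] at hne⟩
  · rw [← CfsgLib.Geom.sympBilin_apply]; exact horth j j' hjj u hu v hv

end Cfsg.Agent.S5960
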