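import Cfsg.Statements.S5961
import Cfsg.Agent.Lib.MaxSub.IsoNDSympStd
import Cfsg.Agent.Lib.MaxSub.IsoWitness
import Cfsg.Agent.Lib.MaxSub.IsoNDSympDecomp
import Cfsg.Agent.Lib.Geom.SympSpace
-- import your own Cfsg.Agent.* helpers here

set_option autoImplicit false
open scoped MatrixGroups
open Cfsg

namespace Cfsg.Agent.S5961

open Matrix CfsgLib CfsgLib.MaxSub CfsgLib.MaxSub.IsoSemi CfsgLib.Classical

section

universe u
variable {F : Type u} [Field F] [Fintype F] {d a t : ℕ}

local notation "𝕍" => Fin d ⊕ Fin d → F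

/-- An orthogonal decomposition. -/
def OrthDec (B : 𝕍 →ₗ[F] 𝕍 →ₗ[F] F) (a : ℕ) (D : Fin t → Submodule F 𝕍) : Prop :=
  Cfsg.Geo.IsMDecomposition a D ∧ (∀ j, ND B (D j)) ∧ ∀ j j', j ≠ j' → ∀ u ∈ D j, ∀ v ∈ D j', B u v = 0

/-- The number of unordered decompositions divides the order of the isometry group. -/
theorem dvd_card_isoms {B : 𝕍 →ₗ[F] 𝕍 →ₗ[F] F} (hG : Geom B) (halt : ∀ v, B v v = 0) {r : ℕ} [hr : Fact r.Prime]
    (h : r ∣ Nat.card {D : Fin t → Submodule F 𝕍 // OrthDec B a D} / Nat.factorial t)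
    (hne : Nonempty {D : Fin t → Submodule F 𝕍 // OrthDec B a D}) :
    r ∣ Nat.card (Geom.formIsoms (σ := RingHom.id F) B) := by
  classical
  let X := {D : Fin t → Submodule F 𝕍 // OrthDec B a D}
  have hN : Nat.factorial t ∣ Nat.card X := by
    letI : MulAction (Equiv.Perm (Fin t)) X :=
      { smul := fun σ D => ⟨fun j => D.1 (σ⁻¹ j), {
          two_le := D.2.1.two_le
          pos := D.2.1.pos
          finrank_eq := fun j => D.2.1.finrank_eq _
          indep := D.2.1.indep.comp (σ⁻¹).injective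
          iSup_eq_top := ((σ⁻¹).iSup_comp (g := D.1)).trans D.2.1.iSup_eq_top },
          fun j => D.2.2.1 _, fun j j' hjj => D.2.2.2 _ _ fun e => hjj ((σ⁻¹).injective e)⟩
        one_smul := fun D => Subtype.ext rfl
        mul_smul := fun σ τ D => Subtype.ext rfl }
    have hfree : ∀ D : X, MulAction.stabilizer (Equiv.Perm (Fin t)) D = ⊥ := fun D => by
      rw [Subgroup.eq_bot_iff_forall]
      intro σ hσ
      refine Equiv.ext fun j => ?_
      by_contra hne
      have h1 : D.1 (σ⁻¹ (σ j)) = D.1 (σ j) :=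
        congrFun (congrArg Subtype.val (MulAction.mem_stabilizer_iff.1 hσ)) (σ j)
      rw [Equiv.Perm.inv_def, Equiv.symm_apply_apply] at h1
      exact hne (IsoNDSympDecomp.injD D.2.1 h1.symm)
    haveI : Finite (MulAction.orbitRel.Quotient (Equiv.Perm (Fin t)) X) := Quotient.finite _
    haveI := Fintype.ofFinite (MulAction.orbitRel.Quotient (Equiv.Perm (Fin t)) X)
    rw [Nat.card_congr (MulAction.selfEquivSigmaOrbits (Equiv.Perm (Fin t)) X), Nat.card_sigma]
    refine Finset.dvd_sum fun w _ => ?_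
    rw [Nat.card_congr (MulAction.orbitEquivQuotientStabilizer _ w.out), hfree, ← Subgroup.index, Subgroup.index_bot,
      Nat.card_eq_fintype_card, Fintype.card_perm, Fintype.card_fin]
  refine (h.trans (Nat.div_dvd_of_dvd hN)).trans ?_
  let G := ↥(Geom.formIsoms (σ := RingHom.id F) B)
  letI : MulAction G X :=
    { smul := fun g D => ⟨fun j => (D.1 j).map (g.1 : 𝕍 →ₗ[F] 𝕍), {
        two_le := D.2.1.two_le
        pos := D.2.1.pos
        finrank_eq := fun j => by rw [LinearEquiv.finrank_map_eq]; exact D.2.1.finrank_eq j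
        indep := LinearMap.iSupIndep_map (g.1 : 𝕍 →ₗ[F] 𝕍) g.1.injective D.2.1.indep
        iSup_eq_top := by rw [← Submodule.map_iSup, D.2.1.iSup_eq_top, Submodule.map_top, LinearEquiv.range] },
        fun j => by
          rintro _ ⟨x, hx, rfl⟩ h
          show g.1 x = 0
          rw [D.2.2.1 j x hx fun y hy => (g.2 x y).symm.trans (h _ ⟨y, hy, rfl⟩), map_zero],
        fun j j' hjj => by
          rintro _ ⟨x, hx, rfl⟩ _ ⟨y, hy, rfl⟩
          exact (g.2 x y).trans (D.2.2.2 j j' hjj x hx y hy)⟩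
      one_smul := fun D => Subtype.ext (funext fun j => Submodule.map_id _)
      mul_smul := fun g g' D => Subtype.ext (funext fun j => Submodule.map_comp _ _ _) }
  obtain ⟨D₀⟩ := hne
  obtain ⟨ψ, hψ⟩ := Decomp.exists_coord D₀.2.1
  have horb : MulAction.orbit G D₀ = Set.univ := Set.eq_univ_of_forall fun D => by
    have hiso : ∀ j, ∃ e : D₀.1 j ≃ₗ[F] D.1 j, ∀ x y,
        B (e x : 𝕍) (e y : 𝕍) = B (x : 𝕍) (y : 𝕍) := fun j =>
      Geom.exists_symp_isometry a (B.compl₁₂ (D₀.1 j).subtype (D₀.1 j).subtype)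
        (B.compl₁₂ (D.1 j).subtype (D.1 j).subtype) (fun v => halt _)
        (fun x hx => Subtype.ext (D₀.2.2.1 j x x.2 fun y hy => hx ⟨y, hy⟩))
        (fun v => halt _) (fun x hx => Subtype.ext (D.2.2.1 j x x.2 fun y hy => hx ⟨y, hy⟩))
        (D₀.2.1.finrank_eq j) (D.2.1.finrank_eq j)
    choose e he using hiso
    let π : ∀ j, 𝕍 →ₗ[F] ↥(D₀.1 j) := fun j => LinearMap.codRestrict _
      (ψ.symm.toLinearMap ∘ₗ LinearMap.single F (fun _ : Fin t => Fin a → F) j ∘ₗ LinearMap.proj j ∘ₗ ψ.toLinearMap)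
      fun v => Decomp.single_of_coord ψ hψ j _
    have hπ : ∀ v, ∑ j, (π j v : 𝕍) = v := fun v => by
      show ∑ j, ψ.symm (Pi.single j (ψ v j)) = v
      rw [← map_sum, Finset.univ_sum_single, ψ.symm_apply_apply]
    let g : 𝕍 →ₗ[F] 𝕍 := ∑ j, (D.1 j).subtype ∘ₗ (e j).toLinearMap ∘ₗ π j
    have hg : ∀ v, g v = ∑ j, ((e j (π j v)) : 𝕍) := fun v => by simp [g]
    have hgB : ∀ u v, B (g u) (g v) = B u v := fun u v => by
      conv_rhs => rw [← hπ u, ← hπ v]
      simp only [hg, map_sum, LinearMap.sum_apply]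
      refine Finset.sum_congr rfl fun j _ => Finset.sum_congr rfl fun l _ => ?_
      by_cases hjl : l = j
      · subst hjl; exact he l _ _
      · rw [D.2.2.2 l j hjl _ (e l (π l u)).2 _ (e j (π j v)).2,
          D₀.2.2.2 l j hjl _ (π l u).2 _ (π j v).2]
    have hinj : Function.Injective g := (injective_iff_map_eq_zero g).2 fun v hv => hG.sep v fun w => by
      rw [← hgB, hv, map_zero, LinearMap.zero_apply]
    refine ⟨⟨LinearEquiv.ofBijective g ⟨hinj, LinearMap.injective_iff_surjective.1 hinj⟩, hgB⟩,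
      Subtype.ext (funext fun k => ?_)⟩
    show (D₀.1 k).map g = D.1 k
    refine Submodule.eq_of_le_of_finrank_eq ?_ ?_
    · rintro _ ⟨v, hv, rfl⟩
      rw [hg, Finset.sum_eq_single k (fun j _ hjk => ?_) (fun h => absurd (Finset.mem_univ k) h)]
      · exact (e k _).2
      · have : π j v = 0 := Subtype.ext (by
          show ψ.symm (Pi.single j (ψ v j)) = 0
          rw [(hψ v k).1 hv j hjk, Pi.single_zero, map_zero])
        rw [this, map_zero, Submodule.coe_zero]
    · rw [(Submodule.equivMapOfInjective g hinj _).finrank_eq.symm, D₀.2.1.finrank_eq, D.2.1.finrank_eq]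
  have hidx := MulAction.index_stabilizer (G := G) D₀
  rw [horb, Set.ncard_univ] at hidx
  rw [← hidx]
  exact Subgroup.index_dvd_card _

end

/-- Elements of odd prime order of PSp_n(q) and imprimitive subgroups. Here `T = PSp_n(q)`, `n = 2d ≥ 4`, `(n, q) ≠ (4, 2)`, realised through the symplectic matrices over the field `F` with `q` elements and the standard alternating form; `n = a·t` with `a` even and `t ≥ 2`, and Ω is the (nonempty) set of orthogonal decompositions of `F^n` into `t` nondegenerate subspaces of dimension `a` (unordered; counted as ordered ones divided by `t!`), whose stabilizers are the imprimitive subgroups of type Sp_a(q) ≀ S_t (maximality is not assumed); an element of `T` of prime order `r` (a symplectic matrix `x` with `x^r` scalar, `x` not scalar) fixes a point of Ω when it permutes the summands of some such decomposition. Let `r ≠ p` be an odd prime dividing the number of such decompositions, let `i` be the multiplicative order of `q`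 modulo `r`, `c = i` if `i` is even and `c = 2i` if `i` is odd, and write `k = n mod c`, `ℓ = a mod c`. Then every element of `T` of order `r` stabilizes such a decomposition if and only if `c ≤ a` and `k = t·ℓ`. -/
theorem result {F : Type*} [Field F] [Fintype F] {p : ℕ} [Fact p.Prime] [CharP F p] {q : ℕ} (hq : Fintype.card F = q)
    (d : ℕ) (hd : 2 ≤ d) (hT : (d, q) ≠ (2, 2))
    (a t : ℕ) (hat : 2 * d = a * t) (ha : 2 ≤ a) (hae : Even a) (ht : 2 ≤ t)
    (r : ℕ) [Fact r.Prime] (hr2 : r ≠ 2) (hrp : r ≠ p) (hΩ : r ∣ Nat.card {D : Fin t → Submodule F (Fin d ⊕ Fin d → F) // (Cfsg.Geo.IsMDecomposition a D ∧ (∀ j, ∀ u ∈ D j, u ≠ 0 → ∃ v ∈ D j, Cfsg.sympForm d F u v ≠ 0) ∧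
          (∀ j j', j ≠ j' → ∀ u ∈ D j, ∀ v ∈ D j', Cfsg.sympForm d F u v = 0))} / Nat.factorial t)
    (i c : ℕ) (hi : i = orderOf (q : ZMod r)) (hc : c = if Even i then i else 2 * i) :
    (∀ x : ↥(Matrix.symplecticGroup (Fin d) F),
      (∃ z : F, ((x ^ r : ↥(Matrix.symplecticGroup (Fin d) F)) : Matrix (Fin d ⊕ Fin d) (Fin d ⊕ Fin d) F) = z • (1 : Matrix (Fin d ⊕ Fin d) (Fin d ⊕ Fin d) F)) →
      (∀ z : F, (x : Matrix (Fin d ⊕ Fin d) (Fin d ⊕ Fin d) F) ≠ z • (1 : Matrix (Fin d ⊕ Fin d) (Fin d ⊕ Fin d) F)) →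
      ∃ D : Fin t → Submodule F (Fin d ⊕ Fin d → F), (Cfsg.Geo.IsMDecomposition a D ∧ (∀ j, ∀ u ∈ D j, u ≠ 0 → ∃ v ∈ D j, Cfsg.sympForm d F u v ≠ 0) ∧
          (∀ j j', j ≠ j' → ∀ u ∈ D j, ∀ v ∈ D j', Cfsg.sympForm d F u v = 0)) ∧
        ∃ σ : Equiv.Perm (Fin t), ∀ j, (D j).map (Matrix.toLin' (x : Matrix (Fin d ⊕ Fin d) (Fin d ⊕ Fin d) F)) = D (σ j)) ↔
    (c ≤ a ∧ (2 * d) % c = t * (a % c)) := by
  classical
  subst hq
  have hrP : r.Prime := Fact.out
  have hodd : Odd r := hrP.odd_of_ne_two hr2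
  have h2lt : 2 < r := lt_of_le_of_ne hrP.two_le (Ne.symm hr2)
  have hrF : (r : F) ≠ 0 := SympOrderR.r_ne_zero (p := p) hrP hrp
  have hG := IsoNDSympStd.geom_symp (F := F) (d := d)
  have halt : ∀ v, Geom.sympBilin d F v v = 0 := Geom.sympBilin_self
  have hto : ∀ A : ↥(Matrix.symplecticGroup (Fin d) F),
      ∀ u v, Geom.sympBilin d F (Matrix.toLin' (A : Matrix (Fin d ⊕ Fin d) (Fin d ⊕ Fin d) F) u)
        (Matrix.toLin' (A : Matrix (Fin d ⊕ Fin d) (Fin d ⊕ Fin d) F) v) = Geom.sympBilin d F u v := fun A u v => by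
    rw [Matrix.toLin'_apply, Matrix.toLin'_apply]; exact IsoNDSympStd.sympBilin_mulVec A u v
  have hV : Module.finrank F (Fin d ⊕ Fin d → F) = 2 * d := by
    rw [Module.finrank_fintype_fun_eq_card]; simp; omega
  have hdec : ∀ D : Fin t → Submodule F (Fin d ⊕ Fin d → F),
      (Cfsg.Geo.IsMDecomposition a D ∧ (∀ j, ∀ u ∈ D j, u ≠ 0 → ∃ v ∈ D j, Cfsg.sympForm d F u v ≠ 0) ∧
        (∀ j j', j ≠ j' → ∀ u ∈ D j, ∀ v ∈ D j', Cfsg.sympForm d F u v = 0)) ↔
      OrthDec (Geom.sympBilin d F) a D := fun D => by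
    simp only [IsoNDSympStd.nd_iff_stmt]
    simp only [OrthDec, Geom.sympBilin_apply]
  simp only [hdec] at hΩ ⊢
  have hipos : 0 < i := SympOrderR.i_pos (F := F) (p := p) rfl hrP hrp hi
  have hcpos : 0 < c := by rw [hc]; split_ifs <;> omega
  have hce : c % 2 = 0 := by
    rw [hc]; split_ifs with h
    · exact Nat.even_iff.1 h
    · omega
  have hcr : c ≤ r - 1 := by
    have h1 : i ∣ r - 1 := hi ▸ orderOf_dvd_of_pow_eq_one (ZMod.pow_card_sub_one_eq_one fun h0 => by
      rw [h0] at hi; simp at hi; omega)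
    refine Nat.le_of_dvd (by omega) ?_
    rw [hc]
    split_ifs with h
    · exact h1
    · exact (Nat.coprime_two_left.2 (Nat.not_even_iff_odd.1 h)).mul_dvd_of_dvd_of_dvd
        (even_iff_two_dvd.1 (hodd.tsub_odd odd_one)) h1
  have hne : Nonempty {D : Fin t → Submodule F (Fin d ⊕ Fin d → F) // OrthDec (Geom.sympBilin d F) a D} := by
    by_contra h
    rw [not_nonempty_iff] at h
    obtain ⟨D, hD1, hD2, hD3⟩ : ∃ D : Fin t → Submodule F (Fin d ⊕ Fin d → F),
        OrthDec (Geom.sympBilin d F) a D := by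
      have hC1 : Ctx (Geom.sympBilin d F) (1 : Module.End F (Fin d ⊕ Fin d → F)) r :=
        { toGeom := hG
          invol := fun _ => rfl
          flip := ⟨-1, by simp, fun u v => by rw [Geom.sympBilin_swap u v]; simp⟩
          iso := fun u v => rfl
          pow := one_pow r
          prime := hrP
          rne := hrF
          rne2 := hr2 }
      obtain ⟨D, hD, hDo, hDs⟩ := IsoNDSympDecomp.exists_members (p := p) halt hi hc hC1 hae t ⊥ ⊤ bot_le
        (by simp [sub_self]) (by simp) (fun u hu _ => (Submodule.mem_bot F).1 hu)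
        (fun u _ h => hG.sep u fun v => h v trivial)
        (by rw [finrank_bot, finrank_top, hV, zero_add, hat]) (by rw [finrank_bot]; exact Nat.zero_le _)
      have hdisj : ∀ j, Disjoint (D j) (⨆ l ≠ j, D l) := fun j => Submodule.disjoint_def.2 fun x hx hx' =>
        (hD j).2.1 x hx fun y hy =>
          hG.refl _ _ ((iSup₂_le fun l (hl : l ≠ j) => hDo l j hl :
            (⨆ l ≠ j, D l) ≤ perp (Geom.sympBilin d F) (D j)) hx' y hy)
      exact ⟨D, ⟨ht, by omega, fun j => (hD j).2.2.2, hdisj, by rw [hDs, bot_sup_eq]⟩, fun j => (hD j).2.1,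
        fun j j' hjj u hu v hv => hDo j' j (Ne.symm hjj) hv u hu⟩
    exact h.false ⟨D, hD1, hD2, hD3⟩
  have hcd : c ≤ 2 * d := by
    have := IsoNDSympPrime.le_finrank (p := p) hG halt hi hc hrp (dvd_card_isoms hG halt hΩ hne)
    rwa [hV] at this
  have hctx : ∀ A : ↥(Matrix.symplecticGroup (Fin d) F), A ^ r = 1 →
      Ctx (Geom.sympBilin d F) (Matrix.toLin' (A : Matrix (Fin d ⊕ Fin d) (Fin d ⊕ Fin d) F)) r := fun A hA =>
    { toGeom := hG
      invol := fun _ => rfl
      flip := ⟨-1, by simp, fun u v => by rw [Geom.sympBilin_swap u v]; simp⟩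
      iso := hto A
      pow := IsoWitness.coe_pow_eq_one hA
      prime := hrP
      rne := hrF
      rne2 := hr2 }
  constructor
  · intro h
    have hwit : ∀ e M : ℕ, e + c * M = 2 * d → Even e → e < 2 * d → ∃ (T : Module.End F (Fin d ⊕ Fin d → F))
        (D : Fin t → Submodule F (Fin d ⊕ Fin d → F)) (σ : Equiv.Perm (Fin t)),
        Ctx (Geom.sympBilin d F) T r ∧ Module.finrank F ↥(LinearMap.ker (T - 1)) ≤ e ∧
        OrthDec (Geom.sympBilin d F) a D ∧ ∀ j, (D j).map T = D (σ j) := by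
      intro e M hed hev hlt
      obtain ⟨A, hA, hAe⟩ := IsoWitness.exists_symp_block (F := F) (p := p) (d := d) hr2 hrp hi hc hed hev
      have hAe' : Module.finrank F
          ↥(LinearMap.ker (Matrix.toLin' (A : Matrix (Fin d ⊕ Fin d) (Fin d ⊕ Fin d) F) - 1)) ≤ e := hAe
      have hA1 : A ≠ 1 := fun e' => by
        rw [e', OneMemClass.coe_one, Matrix.toLin'_one,
          show (LinearMap.id : Module.End F (Fin d ⊕ Fin d → F)) - 1 = 0 from sub_self _,
          LinearMap.ker_zero, finrank_top, hV] at hAe'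
        omega
      obtain ⟨D, hD, σ, hσ⟩ := h A ⟨1, by rw [hA, one_smul]; rfl⟩
        fun z hz => hA1 (IsoNDSympStd.eq_one_of_scalar hodd (by omega) hA hz)
      exact ⟨_, D, σ, hctx A hA, hAe', hD, hσ⟩
    have hfixed : ∀ {T : Module.End F (Fin d ⊕ Fin d → F)} {D : Fin t → Submodule F (Fin d ⊕ Fin d → F)},
        Ctx (Geom.sympBilin d F) T r → OrthDec (Geom.sympBilin d F) a D → (∀ j, (D j).map T ≤ D j) →
        ∀ j, Module.finrank F ↥(D j ⊓ LinearMap.ker (T - 1)) % c = a % c := by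
      intro T D hC hD hfix j
      obtain ⟨-, ⟨b, hb⟩, hs⟩ := IsoNDSympPrime.parts (p := p) halt hi hc hC (hD.2.1 j) (hfix j)
      rw [hb, hD.1.finrank_eq] at hs
      rw [← hs, Nat.add_mul_mod_self_left]
    have hca : c ≤ a := by
      by_contra hca
      -- an element moving exactly one piece
      obtain ⟨A₀, hA₀, hA₀e⟩ := IsoWitness.exists_symp_block (F := F) (p := p) (d := d) hr2 hrp hi hc
        (e := 2 * d - c) (M := 1) (by omega) (Nat.even_iff.2 (by omega))
      obtain ⟨T, hTdef⟩ : ∃ T, T = Matrix.toLin' (A₀ : Matrix (Fin d ⊕ Fin d) (Fin d ⊕ Fin d) F) := ⟨_, rfl⟩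
      have hC₀ : Ctx (Geom.sympBilin d F) T r := hTdef ▸ hctx A₀ hA₀
      have hA₀e' : Module.finrank F ↥(LinearMap.ker (T - 1)) ≤ 2 * d - c := hTdef ▸ hA₀e
      have hsum₀ := (T - 1).finrank_range_add_finrank_ker
      rw [hV] at hsum₀
      obtain ⟨X, hXR, hXi, hXn, hXd⟩ :=
        (IsoNDSympPrime.dims (p := p) hi hc hC₀ (nd_mov hC₀) (inv_mov _) le_rfl).2 1 (by omega)
      rw [mul_one] at hXd
      have hXc := isCompl_perp hG hXn
      let e := Submodule.prodEquivOfIsCompl X (perp (Geom.sympBilin d F) X) hXc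
      obtain ⟨T', hT'def⟩ : ∃ T' : Module.End F (Fin d ⊕ Fin d → F), T' =
          (e : (↥X × ↥(perp (Geom.sympBilin d F) X)) →ₗ[F] (Fin d ⊕ Fin d → F)) ∘ₗ
          ((T.restrict fun x hx => IsoSemi.apply_mem hXi hx : ↥X →ₗ[F] ↥X).prodMap LinearMap.id) ∘ₗ
          (e.symm : (Fin d ⊕ Fin d → F) →ₗ[F] (↥X × ↥(perp (Geom.sympBilin d F) X))) := ⟨_, rfl⟩
      have happ : ∀ (x : ↥X) (y : ↥(perp (Geom.sympBilin d F) X)),
          T' ((x : Fin d ⊕ Fin d → F) + y) = T (x : Fin d ⊕ Fin d → F) + y := fun x y => by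
        rw [← Submodule.coe_prodEquivOfIsCompl' X _ hXc (x, y), hT'def, LinearMap.comp_apply, LinearMap.comp_apply,
          LinearEquiv.coe_coe, LinearEquiv.coe_coe, e.symm_apply_apply]
        rfl
      have hsplit : ∀ v, ∃ (x : ↥X) (y : ↥(perp (Geom.sympBilin d F) X)), (x : Fin d ⊕ Fin d → F) + y = v :=
        fun v => ⟨(e.symm v).1, (e.symm v).2, e.apply_symm_apply v⟩
      have hT'B : ∀ u v, Geom.sympBilin d F (T' u) (T' v) = Geom.sympBilin d F u v := fun u v => by
        obtain ⟨x, y, rfl⟩ := hsplit u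
        obtain ⟨x', y', rfl⟩ := hsplit v
        rw [happ, happ]
        simp only [map_add, LinearMap.add_apply]
        rw [hC₀.iso, y'.2 _ (IsoSemi.apply_mem hXi x.2), y'.2 _ x.2, hG.refl _ _ (y.2 _ (IsoSemi.apply_mem hXi x'.2)),
          hG.refl _ _ (y.2 _ x'.2)]
      have hT'k : ∀ (k : ℕ) (x : ↥X) (y : ↥(perp (Geom.sympBilin d F) X)),
          (T' ^ k) ((x : Fin d ⊕ Fin d → F) + y) = (T ^ k) (x : Fin d ⊕ Fin d → F) + y := fun k => by
        induction k with
        | zero => intro x y; rfl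
        | succ k ih =>
          intro x y
          rw [pow_succ', Module.End.mul_apply, ih, pow_succ', Module.End.mul_apply]
          exact happ ⟨_, IsoSemi.pow_apply_mem hXi k x.2⟩ y
      obtain ⟨M, hM⟩ : ∃ M, M = LinearMap.toMatrix' T' := ⟨_, rfl⟩
      have hMv : ∀ v, M *ᵥ v = T' v := fun v => by rw [hM, LinearMap.toMatrix'_mulVec]
      have hMmem : M ∈ Matrix.symplecticGroup (Fin d) F := by
        rw [Geom.mem_symplecticGroup_iff_form]
        intro u v
        rw [← Geom.sympBilin_apply, ← Geom.sympBilin_apply, hMv, hMv, hT'B]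
      obtain ⟨A, hA⟩ : ∃ A : ↥(Matrix.symplecticGroup (Fin d) F), A = ⟨M, hMmem⟩ := ⟨_, rfl⟩
      have hAT : Matrix.toLin' (A : Matrix (Fin d ⊕ Fin d) (Fin d ⊕ Fin d) F) = T' := by
        rw [hA]; exact LinearMap.ext fun v => hMv v
      have hT'r : T' ^ r = 1 := LinearMap.ext fun v => by
        obtain ⟨x, y, rfl⟩ := hsplit v
        rw [hT'k, hC₀.pow]; rfl
      have hAr : A ^ r = 1 := Subtype.ext (Matrix.toLinAlgEquiv'.injective (by
        rw [SubmonoidClass.coe_pow, map_pow, show Matrix.toLinAlgEquiv' (A : Matrix (Fin d ⊕ Fin d) (Fin d ⊕ Fin d) F) =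
          T' from hAT, hT'r, OneMemClass.coe_one, map_one]))
      have hC := hctx A hAr
      rw [hAT] at hC
      have hR : LinearMap.range (T' - 1) ≤ X := by
        rintro _ ⟨v, rfl⟩
        obtain ⟨x, y, rfl⟩ := hsplit v
        rw [LinearMap.sub_apply, Module.End.one_apply, happ, add_sub_add_right_eq_sub]
        exact X.sub_mem (IsoSemi.apply_mem hXi x.2) x.2
      have hR0 : Module.finrank F ↥(LinearMap.range (T' - 1)) ≠ 0 := fun h0 => by
        obtain ⟨x, hx, hx0⟩ := Submodule.exists_mem_ne_zero_of_ne_bot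
          (fun e0 => by rw [e0, finrank_bot] at hXd; omega : X ≠ ⊥)
        have h1 : (T' - 1) x = 0 := LinearMap.congr_fun (LinearMap.range_eq_bot.1 (Submodule.finrank_eq_zero.1 h0)) x
        rw [LinearMap.sub_apply, sub_eq_zero, Module.End.one_apply] at h1
        have h2 := happ ⟨x, hx⟩ 0
        simp only [Submodule.coe_zero, add_zero] at h2
        exact hx0 (no_fix hC₀ hXR hx (h2 ▸ h1))
      have hsum1 := (T' - 1).finrank_range_add_finrank_ker
      have hRd := Submodule.finrank_mono hR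
      rw [hV] at hsum1
      obtain ⟨D, hD, σ, hσ⟩ := h A ⟨1, by rw [hAr, one_smul]; rfl⟩ fun z hz => hR0 (by
        have hA1 := IsoNDSympStd.eq_one_of_scalar hodd (by omega) hAr hz
        rw [← hAT, hA1, OneMemClass.coe_one, Matrix.toLin'_one,
          show (LinearMap.id : Module.End F (Fin d ⊕ Fin d → F)) - 1 = 0 from sub_self _, LinearMap.range_zero,
          finrank_bot])
      rw [hAT] at hσ
      by_cases hmv : ∃ j, σ j ≠ j
      · obtain ⟨j, hj⟩ := hmv
        have h1 := IsoNDSympDecomp.fix_add_le hD.1 hσ hrP hC.pow hj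
        have h2 : (r - 1) * 2 ≤ (r - 1) * a := Nat.mul_le_mul_left _ ha
        have h3 : t * a = 2 * d := by rw [hat, mul_comm]
        omega
      · push Not at hmv
        have hz := fun j => hfixed hC hD (fun j => by rw [hσ, hmv]) j
        have hsum := IsoNDSympDecomp.sum_le hD.1 (LinearMap.ker (T' - 1))
        have hall : ∀ j, a ≤ Module.finrank F ↥(D j ⊓ LinearMap.ker (T' - 1)) := fun j => by
          have := hz j
          rw [Nat.mod_eq_of_lt (by omega : a < c)] at this
          exact this ▸ Nat.mod_le _ _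
        have := Finset.sum_le_sum (fun j (_ : j ∈ Finset.univ) => hall j)
        rw [Finset.sum_const, Finset.card_univ, Fintype.card_fin, smul_eq_mul, mul_comm, ← hat] at this
        omega
    refine ⟨hca, ?_⟩
    have hlt := Nat.mod_lt (2 * d) hcpos
    obtain ⟨T, D, σ, hC, hTe, hD, hσ⟩ := hwit ((2 * d) % c) ((2 * d) / c) (Nat.mod_add_div _ c)
      (Nat.even_iff.2 (by rw [Nat.mod_mod_of_dvd _ (Nat.dvd_of_mod_eq_zero hce)]; omega)) (by omega)
    have hmv : ∀ j, σ j = j := fun j => by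
      by_contra hj
      have := IsoNDSympDecomp.le_fix hD.1 hσ hrP hC.pow hj
      omega
    have hz := fun j => hfixed hC hD (fun j => by rw [hσ, hmv]) j
    have hsum := IsoNDSympDecomp.sum_le hD.1 (LinearMap.ker (T - 1))
    have hall : ∀ j, Module.finrank F ↥(D j ⊓ LinearMap.ker (T - 1)) = a % c := fun j => by
      rw [← hz j, Nat.mod_eq_of_lt]
      have := Submodule.finrank_mono (inf_le_right : D j ⊓ LinearMap.ker (T - 1) ≤ _)
      omega
    rw [Finset.sum_congr rfl (fun j _ => hall j), Finset.sum_const, Finset.card_univ, Fintype.card_fin,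
      smul_eq_mul] at hsum
    rw [hat, Nat.mul_mod, ← Nat.mul_mod, show a * t = t * (a % c) + c * (a / c * t) by
      conv_lhs => rw [← Nat.mod_add_div a c]
      ring, Nat.add_mul_mod_self_left, Nat.mod_eq_of_lt (by omega)]
  · rintro ⟨hca, hmod⟩ A ⟨z, hz⟩ -
    obtain ⟨A', hA', hAA', hzz⟩ := IsoNDSympStd.pow_eq_one_smul hodd (by omega) hz
    have hC := hctx A' hA'
    obtain ⟨⟨β, hβ⟩, -⟩ := IsoNDSympPrime.dims (p := p) hi hc hC (nd_mov hC) (inv_mov _) le_rfl
    have hsum := (Matrix.toLin' (A' : Matrix (Fin d ⊕ Fin d) (Fin d ⊕ Fin d) F) - 1).finrank_range_add_finrank_ker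
    rw [hV, hat] at hsum
    have hle : Module.finrank F ↥(LinearMap.range (Matrix.toLin'
        (A' : Matrix (Fin d ⊕ Fin d) (Fin d ⊕ Fin d) F) - 1)) ≤ c * (a / c) * t := by
      rw [hβ, mul_assoc]
      refine Nat.mul_le_mul_left c ?_
      have h1 : c * β ≤ a * t := by omega
      have h2 : a * t = t * (a % c) + c * (a / c * t) := by
        conv_lhs => rw [← Nat.mod_add_div a c]
        ring
      have h3 : t * (a % c) < c := hmod ▸ Nat.mod_lt _ hcpos
      by_contra hlt
      have h4 : c * (a / c * t + 1) ≤ c * β := Nat.mul_le_mul_left c (by omega)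
      rw [Nat.mul_succ] at h4
      omega
    obtain ⟨D, hD, hDo, hDs⟩ := IsoNDSympDecomp.exists_members (p := p) halt hi hc hC hae t _ _ le_rfl le_rfl
      (inv_mov _) (nd_mov hC) (nd_fix hC) hsum hle
    have hdisj : ∀ j, Disjoint (D j) (⨆ l ≠ j, D l) := fun j => Submodule.disjoint_def.2 fun x hx hx' =>
      (hD j).2.1 x hx fun y hy =>
        hG.refl _ _ ((iSup₂_le fun l (hl : l ≠ j) => hDo l j hl :
          (⨆ l ≠ j, D l) ≤ perp (Geom.sympBilin d F) (D j)) hx' y hy)
    have htop : iSup D = ⊤ := by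
      rw [hDs]
      refine Submodule.eq_top_of_finrank_eq ?_
      have h := Submodule.finrank_sup_add_finrank_inf_eq
        (LinearMap.range (Matrix.toLin' (A' : Matrix (Fin d ⊕ Fin d) (Fin d ⊕ Fin d) F) - 1))
        (LinearMap.ker (Matrix.toLin' (A' : Matrix (Fin d ⊕ Fin d) (Fin d ⊕ Fin d) F) - 1))
      rw [inf_comm, disjoint_fix_mov hC, finrank_bot] at h
      rw [hV, hat]
      omega
    refine ⟨D, ⟨⟨ht, by omega, fun j => (hD j).2.2.2, hdisj, htop⟩, fun j => (hD j).2.1,
      fun j j' hjj u hu v hv => hDo j' j (Ne.symm hjj) hv u hu⟩, 1, fun j => ?_⟩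
    have hinv : (D j).map (Matrix.toLin' (A : Matrix (Fin d ⊕ Fin d) (Fin d ⊕ Fin d) F)) ≤ D j := by
      rintro _ ⟨v, hv, rfl⟩
      have h := (D j).smul_mem z ((hD j).2.2.1 ⟨v, hv, rfl⟩)
      rwa [hAA', map_smul, LinearMap.smul_apply, smul_smul, hzz, one_smul] at h
    refine Submodule.eq_of_le_of_finrank_eq hinv ?_
    refine ((Submodule.equivMapOfInjective _ ?_ (D j)).finrank_eq).symm
    refine (injective_iff_map_eq_zero _).2 fun v hv => hG.sep v fun w => ?_
    rw [← hto A v w, hv, map_zero, LinearMap.zero_apply]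

end Cfsg.Agent.S5961
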