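import Cfsg.Statements.S5963
import Cfsg.Agent.Lib.MaxSub.PolarCount
import Cfsg.Agent.Lib.Geom.SympSpace
import Mathlib.FieldTheory.Finite.Extension
-- import your own Cfsg.Agent.* helpers here

set_option autoImplicit false
open scoped MatrixGroups
open Cfsg

namespace Cfsg.Agent.S5963

theorem pow_sub_pow_eq {q d i : ℕ} (h : i ≤ d) : q ^ d - q ^ i = q ^ i * (q ^ (d - i) - 1) := by
  rw [Nat.mul_sub, ← pow_add, Nat.add_sub_cancel' h, mul_one]

theorem pairs_formula (F : Type*) [Field F] [Fintype F] (d : ℕ) :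
    Nat.card (CfsgLib.MaxSub.PolarCount.Pairs F d) * (∏ i ∈ Finset.range d, Fintype.card F ^ i) =
      Fintype.card F ^ (d ^ 2) * ∏ i ∈ Finset.range d, (Fintype.card F ^ (i + 1) + 1) := by
  have hq : 1 < Fintype.card F := Fintype.one_lt_card
  have hpos : ∀ i : ℕ, 0 < Fintype.card F ^ (i + 1) - 1 := fun i => Nat.sub_pos_of_lt (Nat.one_lt_pow (by omega) hq)
  have hGL : Nat.card (GL (Fin d) F) =
      (∏ i ∈ Finset.range d, Fintype.card F ^ i) * ∏ i ∈ Finset.range d, (Fintype.card F ^ (i + 1) - 1) := by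
    rw [Matrix.card_GL_field, Fin.prod_univ_eq_prod_range (fun i => Fintype.card F ^ d - Fintype.card F ^ i) d,
      ← Finset.prod_range_reflect (fun i => Fintype.card F ^ (i + 1) - 1) d, ← Finset.prod_mul_distrib]
    refine Finset.prod_congr rfl fun i hi => ?_
    have hid := Finset.mem_range.1 hi
    rw [pow_sub_pow_eq hid.le, show d - 1 - i + 1 = d - i by omega]
  have h := CfsgLib.MaxSub.PolarCount.natCard_pairs_mul F d
  rw [hGL, CfsgLib.Classical.card_formIsoms_alt (CfsgLib.Geom.sympBilin d F) CfsgLib.Geom.sympBilin_self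
    CfsgLib.Geom.sympBilin_sep (m := d) (by rw [Module.finrank_fintype_fun_eq_card, Fintype.card_sum, Fintype.card_fin]; omega)] at h
  refine Nat.eq_of_mul_eq_mul_right (Finset.prod_pos fun i (_ : i ∈ Finset.range d) => hpos i) ?_
  rw [mul_assoc, h, mul_assoc, ← Finset.prod_mul_distrib]
  refine congrArg _ (Finset.prod_congr rfl fun i _ => ?_)
  have h1 : 1 ≤ Fintype.card F ^ (i + 1) := Nat.one_le_pow _ _ (by omega)
  rw [show 2 * (i + 1) = (i + 1) + (i + 1) by ring, pow_add]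
  obtain ⟨t, ht⟩ := Nat.exists_eq_add_of_le h1
  rw [ht, Nat.add_sub_cancel_left]
  have : (1 + t) * (1 + t) = 1 + (1 + t + 1) * t := by ring
  rw [this, Nat.add_sub_cancel_left]

theorem exists_half_order {q r d : ℕ} (hr : r.Prime) (hr2 : r ≠ 2) (hq : Odd q) (hd : 1 ≤ d) (hrq : ¬ r ∣ q)
    {N a b : ℕ} (hN : N * (∏ i ∈ Finset.range d, q ^ i) = q ^ b * ∏ i ∈ Finset.range d, (q ^ (i + 1) + 1))
    (hΩ : r ∣ N / 2) : ∃ j, 0 < j ∧ j ≤ d ∧ r ∣ q ^ j + 1 ∧ ∀ m, r ∣ q ^ m - 1 → 2 * j ∣ m := by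
  haveI := Fact.mk hr
  have hN2 : 2 ∣ N := by
    have h1 : 2 ∣ q ^ b * ∏ i ∈ Finset.range d, (q ^ (i + 1) + 1) := by
      refine Dvd.dvd.mul_left ?_ _
      refine dvd_trans ?_ (Finset.dvd_prod_of_mem _ (Finset.mem_range.2 hd : 0 ∈ Finset.range d))
      simpa [← even_iff_two_dvd] using Odd.add_one hq
    rw [← hN] at h1
    refine (Nat.Coprime.dvd_mul_right (Nat.Coprime.prod_right fun i _ => ?_)).1 h1
    exact Nat.Coprime.pow_right _ (Nat.coprime_two_left.2 hq)
  have h1 : r ∣ q ^ b * ∏ i ∈ Finset.range d, (q ^ (i + 1) + 1) := by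
    rw [← hN]
    exact (hΩ.trans (Nat.div_dvd_of_dvd hN2)).mul_right _
  obtain ⟨i, hi, hri⟩ := (Prime.dvd_finsetProd_iff hr.prime _).1
    ((hr.dvd_mul.1 h1).resolve_left fun h => hrq (hr.dvd_of_dvd_pow h))
  have hk : (q : ZMod r) ^ (i + 1) = -1 := by
    have := (ZMod.natCast_eq_zero_iff _ r).2 hri
    push_cast at this
    exact eq_neg_of_add_eq_zero_left this
  haveI : Fact (2 < r) := ⟨lt_of_le_of_ne hr.two_le (Ne.symm hr2)⟩
  have hne : (-1 : ZMod r) ≠ 1 := ZMod.neg_one_ne_one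
  have hord : orderOf (q : ZMod r) ∣ 2 * (i + 1) := orderOf_dvd_of_pow_eq_one (by rw [mul_comm, pow_mul, hk]; ring)
  have hnd : ¬ orderOf (q : ZMod r) ∣ i + 1 := fun h => hne (hk ▸ orderOf_dvd_iff_pow_eq_one.1 h)
  obtain ⟨j, hj⟩ : 2 ∣ orderOf (q : ZMod r) := by
    by_contra h
    exact hnd ((((Nat.prime_two.coprime_iff_not_dvd).2 h).symm).dvd_of_dvd_mul_left hord)
  rw [hj] at hord
  have hj0 : 0 < j := Nat.pos_of_ne_zero fun h => by subst h; simp at hord
  have hjd : j ≤ i + 1 := Nat.le_of_dvd (by omega) (Nat.dvd_of_mul_dvd_mul_left (by omega) hord)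
  refine ⟨j, hj0, le_trans hjd (Finset.mem_range.1 hi), ?_, fun m hm => ?_⟩
  · rw [← ZMod.natCast_eq_zero_iff]
    push_cast
    have h2 : (q : ZMod r) ^ j * (q : ZMod r) ^ j = 1 := by rw [← pow_add, ← two_mul, ← hj, pow_orderOf_eq_one]
    rcases mul_self_eq_one_iff.1 h2 with h | h
    · have := Nat.le_of_dvd hj0 (orderOf_dvd_of_pow_eq_one h)
      omega
    · rw [h]; ring
  · rw [← hj]
    refine orderOf_dvd_of_pow_eq_one ?_
    have h0 : 1 ≤ q ^ m := Nat.one_le_pow _ _ hq.pos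
    have := (ZMod.natCast_eq_zero_iff _ r).2 hm
    rw [Nat.cast_sub h0] at this
    push_cast at this
    exact sub_eq_zero.1 this

/-- A field generated by an element of order `r` carrying an alternating form preserved by it. -/
theorem exists_torus (F : Type*) [Field F] [Fintype F] (p : ℕ) [Fact p.Prime] [CharP F p] (h2 : (2 : F) ≠ 0)
    {r j : ℕ} (hr : r.Prime) (hr2 : r ≠ 2) (hj : 0 < j) (hdvd : r ∣ Fintype.card F ^ j + 1)
    (hmin : ∀ m, r ∣ Fintype.card F ^ m - 1 → 2 * j ∣ m) :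
    ∃ (K : Type) (_ : Field K) (_ : Algebra F K) (_ : FiniteDimensional F K) (B : K →ₗ[F] K →ₗ[F] F) (w : K),
      Module.finrank F K = 2 * j ∧ (∀ v, B v v = 0) ∧ (∀ x, (∀ y, B x y = 0) → x = 0) ∧
      (∀ x y, B (w * x) (w * y) = B x y) ∧ w ^ r = 1 ∧ w ≠ 1 ∧ (∀ z : F, algebraMap F K z ≠ w) ∧
      ∀ S : Submodule F K, (∀ s ∈ S, w * s ∈ S) → S = ⊥ ∨ S = ⊤ := by
  classical
  haveI := Fact.mk hr
  haveI : NeZero (2 * j) := ⟨by omega⟩
  let K := FiniteField.Extension F p (2 * j)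
  haveI : Fintype K := Fintype.ofFinite K
  have hcard : Fintype.card K = Fintype.card F ^ (2 * j) := by
    rw [Fintype.card_eq_nat_card, FiniteField.natCard_extension, Nat.card_eq_fintype_card]
  have hrK : r ∣ Fintype.card Kˣ := by
    rw [Fintype.card_units, hcard]
    refine dvd_trans hdvd ⟨Fintype.card F ^ j - 1, ?_⟩
    rw [Nat.mul_sub, mul_one, two_mul, pow_add]
    have h1 : 1 ≤ Fintype.card F ^ j := Nat.one_le_pow _ _ Fintype.card_pos
    obtain ⟨t, ht⟩ := Nat.exists_eq_add_of_le h1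
    rw [ht, show (1 + t + 1) * (1 + t) = ((1 + t) * (1 + t) - 1) + (1 + t + 1) by
      have : (1 + t) * (1 + t) = 1 + (t + t + t * t) := by ring
      rw [this, Nat.add_sub_cancel_left]; ring, Nat.add_sub_cancel]
  obtain ⟨u, hu⟩ := exists_prime_orderOf_dvd_card r hrK
  have hwr : (u : K) ^ r = 1 := by rw [← Units.val_pow_eq_pow_val, ← hu, pow_orderOf_eq_one, Units.val_one]
  have hworder : orderOf (u : K) = r := by rw [orderOf_units, hu]
  have hfr : Module.finrank F K = 2 * j := FiniteField.finrank_extension F p (2 * j)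
  let σ : K ≃ₐ[F] K := FiniteField.Extension.frob F p (2 * j) ^ j
  have hσ : ∀ x, σ x = x ^ (Fintype.card F ^ j) := fun x => by
    show (FiniteField.Extension.frob F p (2 * j) ^ j) x = _
    rw [FiniteField.Extension.frob_iterate_apply, Nat.card_eq_fintype_card]
  have hσσ : ∀ x, σ (σ x) = x := fun x => by
    rw [hσ, hσ, ← pow_mul, ← pow_add, ← two_mul, ← hcard, FiniteField.pow_card]
  have hσw : σ u * (u : K) = 1 := by
    rw [hσ, ← pow_succ]
    exact orderOf_dvd_iff_pow_eq_one.1 (hworder ▸ hdvd)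
  have hu1 : (u : K) ≠ 1 := fun h => hr.ne_one (by rw [← hworder, h, orderOf_one])
  have huF : ∀ z : F, algebraMap F K z ≠ (u : K) := fun z hz => by
    have h := hσw
    rw [← hz, AlgEquiv.commutes, hz, ← pow_two] at h
    exact hr2 ((Nat.prime_dvd_prime_iff_eq hr Nat.prime_two).1 (hworder ▸ orderOf_dvd_of_pow_eq_one h))
  obtain ⟨c, hc, hσc⟩ : ∃ c : K, c ≠ 0 ∧ σ c = -c := by
    refine ⟨(u : K) - σ u, fun h => ?_, by rw [map_sub, hσσ]; ring⟩
    have h' := hσw
    rw [← sub_eq_zero.1 h, ← pow_two] at h'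
    exact hr2 ((Nat.prime_dvd_prime_iff_eq hr Nat.prime_two).1 (hworder ▸ orderOf_dvd_of_pow_eq_one h'))
  let B : K →ₗ[F] K →ₗ[F] F := LinearMap.mk₂ F (fun x y => Algebra.trace F K (c * x * σ y))
    (fun x₁ x₂ y => by rw [mul_add, add_mul, map_add])
    (fun a x y => by rw [mul_smul_comm, smul_mul_assoc, map_smul])
    (fun x y₁ y₂ => by rw [map_add σ, mul_add, map_add])
    (fun a x y => by rw [map_smul σ, mul_smul_comm, map_smul])
  have hB : ∀ x y, B x y = Algebra.trace F K (c * x * σ y) := fun _ _ => rfl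
  refine ⟨K, inferInstance, inferInstance, inferInstance, B, (u : K), hfr, fun v => ?_, fun x hx => ?_, fun x y => ?_,
    hwr, hu1, huF, ?_⟩
  · have h := Algebra.trace_eq_of_algEquiv σ (c * v * σ v)
    rw [map_mul σ, map_mul σ, hσσ, hσc, show -c * σ v * v = -(c * v * σ v) by ring, map_neg] at h
    rw [hB]
    exact (mul_eq_zero.1 (show 2 * Algebra.trace F K (c * v * σ v) = 0 by linear_combination -h)).resolve_left h2
  · by_contra hx0
    obtain ⟨t, ht⟩ := Algebra.trace_surjective F K 1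
    have h := hx (σ ((c * x)⁻¹ * t))
    rw [hB, hσσ, ← mul_assoc, mul_inv_cancel₀ (mul_ne_zero hc hx0), one_mul, ht] at h
    exact one_ne_zero h
  · rw [hB, hB, map_mul σ, show c * ((u : K) * x) * (σ u * σ y) = σ u * u * (c * x * σ y) by ring, hσw, one_mul]
  · intro S hS
    have htop : Algebra.adjoin F {(u : K)} = ⊤ := by
      set A := Algebra.adjoin F {(u : K)}
      have hle : Module.finrank F A ≤ 2 * j :=
        le_trans (LinearMap.finrank_le_finrank_of_injective (f := A.val.toLinearMap) Subtype.val_injective) (le_of_eq hfr)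
      haveI : Fintype A := Fintype.ofFinite A
      letI : Field A := Fintype.fieldOfDomain A
      have hu' : (u : K) ^ (Fintype.card F ^ Module.finrank F A) = u := by
        have h := FiniteField.pow_card (⟨u, Algebra.subset_adjoin rfl⟩ : A)
        rw [Module.card_eq_pow_finrank (K := F) (V := A)] at h
        exact congrArg Subtype.val h
      have hd : r ∣ Fintype.card F ^ Module.finrank F A - 1 := by
        rw [← hworder]
        refine orderOf_dvd_of_pow_eq_one ?_
        have h1 : 1 ≤ Fintype.card F ^ Module.finrank F A := Nat.one_le_pow _ _ Fintype.card_pos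
        refine mul_right_cancel₀ (Units.ne_zero u) ?_
        rw [one_mul, ← pow_succ, Nat.sub_add_cancel h1, hu']
      have hge := Nat.le_of_dvd Module.finrank_pos (hmin _ hd)
      exact Algebra.toSubmodule_eq_top.1 (Submodule.eq_top_of_finrank_eq (hfr.symm ▸ le_antisymm hle hge))
    refine or_iff_not_imp_left.2 fun hne => ?_
    obtain ⟨s, hs, hs0⟩ := (Submodule.ne_bot_iff _).1 hne
    have hA : ∀ a : K, ∀ t ∈ S, a * t ∈ S := fun a => by
      have ha : a ∈ Algebra.adjoin F {(u : K)} := htop ▸ Algebra.mem_top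
      induction ha using Algebra.adjoin_induction with
      | mem x hx => obtain rfl := Set.mem_singleton_iff.1 hx; exact hS
      | algebraMap z => intro t ht; rw [← Algebra.smul_def]; exact S.smul_mem z ht
      | add x y _ _ hx hy => intro t ht; rw [add_mul]; exact S.add_mem (hx t ht) (hy t ht)
      | mul x y _ _ hx hy => intro t ht; rw [mul_assoc]; exact hx _ (hy t ht)
    exact Submodule.eq_top_iff'.2 fun a => by simpa [mul_assoc, inv_mul_cancel₀ hs0] using hA (a * s⁻¹) s hs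

/-- No pair of complementary isotropic subspaces is fixed by a torus element acting on one summand. -/
theorem no_pair {F : Type*} [Field F] {d : ℕ} {K : Type*} [Field K] [Algebra F K] {W : Type*} [AddCommGroup W] [Module F W]
    {B : K →ₗ[F] K →ₗ[F] F} (hB : ∀ x, (∀ y, B x y = 0) → x = 0) (C : W →ₗ[F] W →ₗ[F] F) {w : K} (hw : w ≠ 1)
    (hirr : ∀ S : Submodule F K, (∀ s ∈ S, w * s ∈ S) → S = ⊥ ∨ S = ⊤)
    (e : (Fin d ⊕ Fin d → F) ≃ₗ[F] K × W)
    (he : ∀ a b, B (e a).1 (e b).1 + C (e a).2 (e b).2 = Cfsg.sympForm d F a b)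
    (f : (Fin d ⊕ Fin d → F) →ₗ[F] (Fin d ⊕ Fin d → F)) (hf : ∀ v, e (f v) = (w * (e v).1, (e v).2))
    {U V : Submodule F (Fin d ⊕ Fin d → F)} (hUV : IsCompl U V)
    (hU : ∀ u ∈ U, ∀ v ∈ U, Cfsg.sympForm d F u v = 0) (hV : ∀ u ∈ V, ∀ v ∈ V, Cfsg.sympForm d F u v = 0)
    (hfU : U.map f = U) (hfV : V.map f = V) : False := by
  have key : ∀ U : Submodule F (Fin d ⊕ Fin d → F), (∀ u ∈ U, ∀ v ∈ U, Cfsg.sympForm d F u v = 0) → U.map f = U →
      ∀ u ∈ U, (e u).1 = 0 := by
    intro U hU hfU u hu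
    let S : Submodule F K := U.comap ((e.symm : K × W →ₗ[F] (Fin d ⊕ Fin d → F)) ∘ₗ LinearMap.inl F K W)
    have hmem : ∀ s, s ∈ S ↔ e.symm (s, 0) ∈ U := fun _ => Iff.rfl
    have hfu : ∀ x ∈ U, f x ∈ U := fun x hx => hfU ▸ Submodule.mem_map_of_mem hx
    rcases hirr S (fun s hs => by
      rw [hmem] at hs ⊢
      convert hfu _ hs using 1
      exact e.injective (by rw [hf, e.apply_symm_apply, e.apply_symm_apply])) with h | h
    · have h1 : (w - 1) * (e u).1 ∈ S := by
        rw [hmem]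
        convert U.sub_mem (hfu u hu) hu using 1
        refine e.injective ?_
        rw [map_sub, hf, e.apply_symm_apply]
        simp [sub_mul, Prod.ext_iff]
      rw [h, Submodule.mem_bot] at h1
      exact (mul_eq_zero.1 h1).resolve_left (sub_ne_zero.2 hw)
    · exfalso
      have hall : ∀ x : K, e.symm (x, 0) ∈ U := fun x => (hmem x).1 (h ▸ Submodule.mem_top)
      refine one_ne_zero (hB 1 fun y => ?_)
      have := hU _ (hall 1) _ (hall y)
      rw [← he, e.apply_symm_apply, e.apply_symm_apply] at this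
      simpa using this
  have h1 : (e.symm ((1 : K), 0)) ∈ U ⊔ V := hUV.sup_eq_top ▸ Submodule.mem_top
  obtain ⟨a, ha, b, hb, hab⟩ := Submodule.mem_sup.1 h1
  have := congrArg (fun v => (e v).1) hab
  simp only [map_add, Prod.fst_add, key U hU hfU a ha, key V hV hfV b hb, add_zero, e.apply_symm_apply] at this
  exact zero_ne_one this

/-- Derangements of odd prime order of PSp_n(q), q odd, on pairs of complementary totally isotropic subspaces. Here `T = PSp_n(q)`, `n = 2d ≥ 4`, `q` odd, realised through the symplectic matrices over the field `F` with `q` elements; Ω is the set of unordered pairs `{U, W}` of complementary totally isotropic `d`-spaces (`F^n = U ⊕ W`), whose stabilizers are the subgroups of type GL_d(q).2 (maximal except in some small cases; maximality is not assumed); an element of `T` of prime order `r` (a symplectic matrix `x` with `x^r` scalar, `x` not scalar) fixes such a pair when it fixes or interchanges `U` and `W`. For every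 odd prime `r ≠ p` dividing the number of such pairs, some element of `T` of order `r` fixes no such pair (the action is never `r`-elusive for odd `r ≠ p`). -/
theorem result {F : Type*} [Field F] [Fintype F] {p : ℕ} [Fact p.Prime] [CharP F p] {q : ℕ} (hq : Fintype.card F = q)
    (d : ℕ) (hd : 2 ≤ d) (hT : (d, q) ≠ (2, 2)) (hodd : Odd q)
    (r : ℕ) [Fact r.Prime] (hr2 : r ≠ 2) (hrp : r ≠ p) (hΩ : r ∣ Nat.card {P : Submodule F (Fin d ⊕ Fin d → F) × Submodule F (Fin d ⊕ Fin d → F) // IsCompl P.1 P.2 ∧ (∀ u ∈ P.1, ∀ v ∈ P.1, Cfsg.sympForm d F u v = 0) ∧ (∀ u ∈ P.2, ∀ v ∈ P.2, Cfsg.sympForm d F u v = 0)} / 2) :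
    ∃ x : ↥(Matrix.symplecticGroup (Fin d) F),
      (∃ z : F, ((x ^ r : ↥(Matrix.symplecticGroup (Fin d) F)) : Matrix (Fin d ⊕ Fin d) (Fin d ⊕ Fin d) F) = z • (1 : Matrix (Fin d ⊕ Fin d) (Fin d ⊕ Fin d) F)) ∧
      (∀ z : F, (x : Matrix (Fin d ⊕ Fin d) (Fin d ⊕ Fin d) F) ≠ z • (1 : Matrix (Fin d ⊕ Fin d) (Fin d ⊕ Fin d) F)) ∧
      ¬ (∃ U W : Submodule F (Fin d ⊕ Fin d → F), IsCompl U W ∧ (∀ u ∈ U, ∀ v ∈ U, Cfsg.sympForm d F u v = 0) ∧ (∀ u ∈ W, ∀ v ∈ W, Cfsg.sympForm d F u v = 0) ∧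
        ((U.map (Matrix.toLin' (x : Matrix (Fin d ⊕ Fin d) (Fin d ⊕ Fin d) F)) = U ∧ W.map (Matrix.toLin' (x : Matrix (Fin d ⊕ Fin d) (Fin d ⊕ Fin d) F)) = W) ∨
         (U.map (Matrix.toLin' (x : Matrix (Fin d ⊕ Fin d) (Fin d ⊕ Fin d) F)) = W ∧ W.map (Matrix.toLin' (x : Matrix (Fin d ⊕ Fin d) (Fin d ⊕ Fin d) F)) = U))) := by
  subst hq
  have h2 : (2 : F) ≠ 0 := by
    intro h
    have hc : p = 2 := (Nat.prime_dvd_prime_iff_eq Fact.out Nat.prime_two).1
      ((CharP.cast_eq_zero_iff F p 2).1 (by exact_mod_cast h))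
    exact (Nat.not_even_iff_odd.2 hodd) (Nat.even_iff.2 (FiniteField.even_card_iff_char_two.1 ((ringChar.eq F p).trans hc)))
  have hr : r.Prime := Fact.out
  have hrq : ¬ r ∣ Fintype.card F := fun h => by
    obtain ⟨n, -, hn⟩ := FiniteField.card F p
    rw [hn] at h
    exact hrp ((Nat.prime_dvd_prime_iff_eq hr Fact.out).1 (hr.dvd_of_dvd_pow h))
  obtain ⟨j, hj0, hjd, hjdvd, hjmin⟩ := exists_half_order (a := 0) hr hr2 hodd (by omega) hrq (pairs_formula F d) hΩ
  obtain ⟨K, _, _, _, B, w, hK, hBa, hBn, hBw, hwr, hw1, hwF, hirr⟩ := exists_torus F p h2 hr hr2 hj0 hjdvd hjmin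
  let C := CfsgLib.Geom.sympBilin (d - j) F
  let B' : (K × (Fin (d - j) ⊕ Fin (d - j) → F)) →ₗ[F] (K × (Fin (d - j) ⊕ Fin (d - j) → F)) →ₗ[F] F :=
    B.compl₁₂ (LinearMap.fst F K _) (LinearMap.fst F K _) + C.compl₁₂ (LinearMap.snd F K _) (LinearMap.snd F K _)
  have hB' : ∀ a b, B' a b = B a.1 b.1 + C a.2 b.2 := fun _ _ => rfl
  obtain ⟨e, he⟩ := CfsgLib.Geom.exists_symp_isometry (2 * d) (CfsgLib.Geom.sympBilin d F) B'
    CfsgLib.Geom.sympBilin_self CfsgLib.Geom.sympBilin_sep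
    (fun v => by rw [hB', hBa, CfsgLib.Geom.sympBilin_self, add_zero])
    (fun x hx => Prod.ext (hBn _ fun y => by simpa [hB'] using hx (y, 0))
      (CfsgLib.Geom.sympBilin_sep _ fun y => by simpa [hB'] using hx (0, y)))
    (by rw [Module.finrank_fintype_fun_eq_card, Fintype.card_sum, Fintype.card_fin]; omega)
    (by rw [Module.finrank_prod, hK, Module.finrank_fintype_fun_eq_card, Fintype.card_sum, Fintype.card_fin]; omega)
  let f : (Fin d ⊕ Fin d → F) →ₗ[F] (Fin d ⊕ Fin d → F) :=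
    e.symm.toLinearMap ∘ₗ LinearMap.prodMap (LinearMap.mulLeft F w) LinearMap.id ∘ₗ e.toLinearMap
  have hf : ∀ v, e (f v) = (w * (e v).1, (e v).2) := fun v => e.apply_symm_apply _
  have he' : ∀ a b, B (e a).1 (e b).1 + C (e a).2 (e b).2 = Cfsg.sympForm d F a b := fun a b => by
    rw [← hB', he, CfsgLib.Geom.sympBilin_apply]
  have hA : LinearMap.toMatrix' f ∈ Matrix.symplecticGroup (Fin d) F := by
    rw [CfsgLib.Geom.mem_symplecticGroup_iff_form]
    intro a b
    rw [LinearMap.toMatrix'_mulVec, LinearMap.toMatrix'_mulVec, ← he', hf, hf, hBw, he']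
  obtain ⟨x, hx⟩ : ∃ x : ↥(Matrix.symplecticGroup (Fin d) F),
      (x : Matrix (Fin d ⊕ Fin d) (Fin d ⊕ Fin d) F) = LinearMap.toMatrix' f := ⟨⟨_, hA⟩, rfl⟩
  have hxl : Matrix.toLin' (x : Matrix (Fin d ⊕ Fin d) (Fin d ⊕ Fin d) F) = f := by rw [hx, Matrix.toLin'_toMatrix']
  have hxpow : ∀ (k : ℕ) (v : Fin d ⊕ Fin d → F), e ((f ^ k) v) = (w ^ k * (e v).1, (e v).2) := by
    intro k
    induction k with
    | zero => intro v; simp
    | succ k ih => intro v; rw [pow_succ', Module.End.mul_apply, hf, ih]; simp [pow_succ', mul_assoc]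
  have hfr : f ^ r = 1 := LinearMap.ext fun v => e.injective (by rw [hxpow, hwr]; simp)
  refine ⟨x, ⟨1, ?_⟩, fun z hz => ?_, ?_⟩
  · rw [one_smul, SubmonoidClass.coe_pow]
    refine Matrix.toLinAlgEquiv'.injective ?_
    rw [map_pow, map_one]
    show Matrix.toLin' (x : Matrix (Fin d ⊕ Fin d) (Fin d ⊕ Fin d) F) ^ r = 1
    rw [hxl, hfr]
  · have h := hf (e.symm ((1 : K), 0))
    rw [← hxl, hz, Matrix.toLin'_apply, Matrix.smul_mulVec, Matrix.one_mulVec, map_smul, e.apply_symm_apply] at h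
    have h1 := congrArg Prod.fst h
    rw [Prod.smul_fst, Algebra.smul_def, mul_one] at h1
    simp only [mul_one] at h1
    exact hwF z h1
  · rintro ⟨U, V, hUV, hU, hV, ⟨h1, h2'⟩ | ⟨h1, h2'⟩⟩
    · rw [hxl] at h1 h2'
      exact no_pair hBn C hw1 hirr e he' f hf hUV hU hV h1 h2'
    · rw [hxl] at h1 h2'
      have heven : ∀ k, U.map (f ^ (2 * k)) = U := by
        intro k
        induction k with
        | zero => simp [Module.End.one_eq_id]
        | succ k ih =>
          rw [show 2 * (k + 1) = (2 * k).succ.succ by omega, pow_succ', pow_succ', Module.End.mul_eq_comp,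
            Module.End.mul_eq_comp, Submodule.map_comp _ f, Submodule.map_comp _ f, ih, h1, h2']
      obtain ⟨k, hk⟩ := hr.odd_of_ne_two hr2
      have h3 : U.map (f ^ r) = V := by rw [hk, pow_succ', Module.End.mul_eq_comp, Submodule.map_comp, heven, h1]
      rw [hfr, Module.End.one_eq_id, Submodule.map_id] at h3
      subst h3
      have hbot : U = ⊥ := disjoint_self.1 hUV.disjoint
      have htop : U = ⊤ := codisjoint_self.1 hUV.codisjoint
      haveI : Nonempty (Fin d ⊕ Fin d) := ⟨Sum.inl ⟨0, by omega⟩⟩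
      exact bot_ne_top (hbot.symm.trans htop)


end Cfsg.Agent.S5963
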