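import Cfsg.Statements.S5964
import Cfsg.Agent.Lib.MaxSub.InvolAlt
import Cfsg.Agent.Lib.Classical.SLOrder
-- import your own Cfsg.Agent.* helpers here

set_option autoImplicit false
open scoped MatrixGroups
open Cfsg

namespace Cfsg.Agent.S5964

theorem odd_geom_sum {a k : ℕ} (ha : Odd a) (hk : Odd k) : ∃ s, Odd s ∧ a ^ k - 1 = (a - 1) * s := by
  refine ⟨∑ i ∈ Finset.range k, a ^ i, ?_, ?_⟩
  · rw [Finset.odd_sum_iff_odd_card_odd, Finset.filter_true_of_mem fun i _ => ha.pow]
    simpa using hk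
  · have h := geom_sum_mul_add (a - 1) k
    rw [Nat.sub_add_cancel (show 1 ≤ a from ha.pos)] at h
    rw [mul_comm]
    omega

theorem index_odd {F : Type*} [Field F] [Fintype F] (F₀ : Subfield F) {k n : ℕ} (hn : 1 ≤ n)
    (hodd : Odd (Nat.card F₀)) (hk : Odd k) (hqk : Fintype.card F = Nat.card F₀ ^ k)
    (H : Subgroup (Matrix.SpecialLinearGroup (Fin n) F))
    (hH : ∀ y : Matrix.SpecialLinearGroup (Fin n) F₀, Matrix.SpecialLinearGroup.map (F₀.subtype : F₀ →+* F) y ∈ H) :
    Odd H.index := by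
  classical
  haveI : Fintype F₀ := Fintype.ofFinite _
  have h1 := CfsgLib.Classical.card_sl_mul (F := F) hn
  have h0 := CfsgLib.Classical.card_sl_mul (F := F₀) hn
  rw [← Nat.card_eq_fintype_card (α := F₀)] at h0
  rw [hqk] at h1
  obtain ⟨a, ha⟩ : ∃ a, Nat.card F₀ = a := ⟨_, rfl⟩
  rw [ha] at h0 h1 hodd
  have hprod : ∀ s : Finset (Fin n), ∃ b, Odd b ∧
      ∏ i ∈ s, ((a ^ k) ^ n - (a ^ k) ^ (i : ℕ)) = (∏ i ∈ s, (a ^ n - a ^ (i : ℕ))) * b := by
    intro s
    induction s using Finset.induction_on with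
    | empty => exact ⟨1, odd_one, by simp⟩
    | insert i s hi ih =>
      obtain ⟨b, hb, hbe⟩ := ih
      obtain ⟨j, hj⟩ : ∃ j, n = (i : ℕ) + j := ⟨n - i, by omega⟩
      obtain ⟨t, ht, hte⟩ := odd_geom_sum (a := a ^ j) hodd.pow hk
      obtain ⟨u, hu, hue⟩ : ∃ u, Odd u ∧ (a ^ k) ^ (i : ℕ) = a ^ (i : ℕ) * u := by
        refine ⟨a ^ ((i : ℕ) * (k - 1)), hodd.pow, ?_⟩
        rw [← pow_mul, ← pow_add]
        congr 1
        obtain ⟨k', rfl⟩ : ∃ k', k = k' + 1 := ⟨k - 1, by have := hk.pos; omega⟩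
        simp; ring
      refine ⟨b * (u * t), hb.mul (hu.mul ht), ?_⟩
      rw [Finset.prod_insert hi, Finset.prod_insert hi, hbe]
      have e1 : (a ^ k) ^ n - (a ^ k) ^ (i : ℕ) = (a ^ n - a ^ (i : ℕ)) * (u * t) := by
        have e2 : ∀ b : ℕ, b ^ n = b ^ (i : ℕ) * b ^ j := fun b => by rw [← pow_add, ← hj]
        rw [e2, e2, ← Nat.mul_sub_one, ← Nat.mul_sub_one, hue,
          show (a ^ k) ^ j = (a ^ j) ^ k by rw [← pow_mul, ← pow_mul, mul_comm], hte]
        ring
      rw [e1]; ring
  obtain ⟨b, hb, hbe⟩ := hprod Finset.univ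
  obtain ⟨t, ht, hte⟩ := odd_geom_sum hodd hk
  rw [hbe, ← h0, hte] at h1
  have ha1 : 0 < a - 1 := by
    have : 1 < Nat.card F₀ := Finite.one_lt_card
    omega
  have hmain : t * Nat.card (Matrix.SpecialLinearGroup (Fin n) F) = Nat.card (Matrix.SpecialLinearGroup (Fin n) F₀) * b :=
    Nat.eq_of_mul_eq_mul_left ha1 (by rw [← mul_assoc, h1]; ring)
  let f := (Matrix.SpecialLinearGroup.map (n := Fin n) (F₀.subtype : F₀ →+* F)).codRestrict H hH
  have hf : Function.Injective f := fun x y h => by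
    ext i j
    have := congrFun (congrFun (congrArg Subtype.val (congrArg Subtype.val h)) i) j
    simpa [f] using this
  obtain ⟨c, hc⟩ := Subgroup.card_dvd_of_injective f hf
  have h2 := H.index_mul_card
  rw [hc] at h2
  rw [← h2] at hmain
  have h3 : t * H.index * c = b := Nat.eq_of_mul_eq_mul_left (Nat.card_pos (α := Matrix.SpecialLinearGroup (Fin n) F₀))
    (by rw [← hmain]; ring)
  rw [← h3, Nat.odd_mul, Nat.odd_mul] at hb
  exact hb.1.2

theorem conj_mem {F : Type*} [Field F] {F₀ : Subfield F} {n : ℕ} {ι : Type} [Fintype ι] [DecidableEq ι]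
    (x : Matrix.SpecialLinearGroup (Fin n) F) (β : Module.Basis ι F (Fin n → F)) (e : ι ≃ Fin n)
    (hdet : LinearMap.det ((β.reindex e).equiv (Pi.basisFun F (Fin n)) (Equiv.refl _) : (Fin n → F) →ₗ[F] (Fin n → F)) = 1)
    {c : F} (hc : c ≠ 0) (M : Matrix ι ι F₀)
    (hM : LinearMap.toMatrix β β (Matrix.toLin' (x : Matrix (Fin n) (Fin n) F)) = c • M.map (F₀.subtype : F₀ →+* F)) :
    ∃ P : Matrix.SpecialLinearGroup (Fin n) F, P⁻¹ * x * P ∈ ((Cfsg.Geo.subfieldSubgroup F₀ 1).comap
      (Matrix.SpecialLinearGroup.toGL : Matrix.SpecialLinearGroup (Fin n) F →* GL (Fin n) F)) := by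
  obtain ⟨E, hE⟩ : ∃ E, (β.reindex e).equiv (Pi.basisFun F (Fin n)) (Equiv.refl _) = E := ⟨_, rfl⟩
  rw [hE] at hdet
  let P : Matrix.SpecialLinearGroup (Fin n) F := ⟨LinearMap.toMatrix' (E.symm : (Fin n → F) →ₗ[F] (Fin n → F)), by
    rw [LinearMap.det_toMatrix', LinearEquiv.det_coe_symm, hdet, inv_one]⟩
  have hP : ∀ v, (P : Matrix (Fin n) (Fin n) F).mulVec v = E.symm v := fun v => by
    rw [← Matrix.toLin'_apply]; simp [P]
  have hPi : ∀ v, ((P⁻¹ : Matrix.SpecialLinearGroup (Fin n) F) : Matrix (Fin n) (Fin n) F).mulVec v = E v := fun v => by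
    conv_lhs => rw [← E.symm_apply_apply v, ← hP]
    rw [Matrix.mulVec_mulVec, ← Matrix.SpecialLinearGroup.coe_mul, inv_mul_cancel,
      Matrix.SpecialLinearGroup.coe_one, Matrix.one_mulVec]
  let N : Matrix (Fin n) (Fin n) F₀ := M.submatrix e.symm e.symm
  have hval : ((P⁻¹ * x * P : Matrix.SpecialLinearGroup (Fin n) F) : Matrix (Fin n) (Fin n) F) =
      c • N.map (F₀.subtype : F₀ →+* F) := by
    ext i j
    have h1 : ((P⁻¹ * x * P : Matrix.SpecialLinearGroup (Fin n) F) : Matrix (Fin n) (Fin n) F) i j =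
        (E (Matrix.toLin' (x : Matrix (Fin n) (Fin n) F) (E.symm (Pi.single j 1)))) i := by
      rw [← Matrix.col_apply (A := ((P⁻¹ * x * P : Matrix.SpecialLinearGroup (Fin n) F) : Matrix (Fin n) (Fin n) F)),
        ← Matrix.mulVec_single_one, Matrix.SpecialLinearGroup.coe_mul, Matrix.SpecialLinearGroup.coe_mul,
        ← Matrix.mulVec_mulVec, hP, ← Matrix.mulVec_mulVec, hPi, Matrix.toLin'_apply]
    have h2 : ∀ v, E v i = β.repr v (e.symm i) := fun v => by
      have hEf : E = (β.reindex e).equivFun := LinearEquiv.toLinearMap_injective ((β.reindex e).ext fun l => by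
        rw [← hE, LinearEquiv.coe_coe, LinearEquiv.coe_coe, Module.Basis.equiv_apply]
        ext q; simp [Finsupp.single_apply, Pi.single_apply, eq_comm])
      rw [hEf]; simp
    have h3 : E.symm (Pi.single j 1) = β (e.symm j) := by
      rw [LinearEquiv.symm_apply_eq, ← hE]
      rw [show β (e.symm j) = β.reindex e j by simp, Module.Basis.equiv_apply]
      simp
    rw [h1, h2, h3, ← LinearMap.toMatrix_apply, hM]
    simp [N]
  refine ⟨P, ?_⟩
  obtain ⟨G, hG⟩ : ∃ G : GL (Fin n) F₀, (G : Matrix (Fin n) (Fin n) F₀) = N := by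
    refine ⟨Matrix.GeneralLinearGroup.mkOfDetNeZero N fun h => ?_, rfl⟩
    have h1 := congrArg Matrix.det hval
    rw [(P⁻¹ * x * P).2, Matrix.det_smul, ← RingHom.mapMatrix_apply, ← RingHom.map_det, h, map_zero, mul_zero] at h1
    exact one_ne_zero h1
  obtain ⟨S, hS⟩ : ∃ S : GL (Fin n) F, S = Units.map (Matrix.scalar (Fin n) : F →+* Matrix (Fin n) (Fin n) F).toMonoidHom (Units.mk0 c hc) :=
    ⟨_, rfl⟩
  show Matrix.SpecialLinearGroup.toGL (P⁻¹ * x * P) ∈ Cfsg.Geo.subfieldSubgroup F₀ 1
  refine ⟨S * Matrix.GeneralLinearGroup.map (F₀.subtype : F₀ →+* F) G,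
    mul_mem (Subgroup.mem_sup_right ⟨Units.mk0 c hc, hS.symm⟩) (Subgroup.mem_sup_left ⟨G, rfl⟩), ?_⟩
  simp only [MulEquiv.coe_toMonoidHom, MulAut.one_apply, map_one]
  apply Units.ext
  show (S : Matrix (Fin n) (Fin n) F) * (G : Matrix (Fin n) (Fin n) F₀).map (F₀.subtype : F₀ →+* F) =
    ((P⁻¹ * x * P : Matrix.SpecialLinearGroup (Fin n) F) : Matrix (Fin n) (Fin n) F)
  rw [hval, hG, hS, Matrix.smul_eq_diagonal_mul]
  rfl

/-- Involutions of PSL_n(q) and subfield subgroups. Here `T = PSL_n(F)` for a field `F` with `q = p^f` elements (`n ≥ 2`, `(n, q) ≠ (2, 2), (2, 3)`), `F₀` is the subfield with `q₀` elements where `q = q₀^k` for a prime `k`, and `H` is the subgroup of matrices of determinant 1 lying in the subfield group of `F₀` (invertible matrices over `F₀` times scalars) — a maximal subgroup of type GL_n(q₀) (the case `n = 2`, `q₀ = 2` is excluded); Ω is the set of `T`-conjugates of `H` (cosets of `H`), so an element of `T` of prime order `r` (a matrix `x` of determinant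 1 with `x^r` scalar, `x` not scalar) fixes a point of Ω when some conjugate of `x` by a matrix of determinant 1 lies in `H`. Suppose the index of `H` is even. Then every involution of `T` is conjugate in `T` into `H` if and only if either `q` is even, or `k = 2` and `(n)_2 ≤ (q − 1)_2`. (For `q` odd and `k` odd the index of `H` is odd, so that case does not arise.) -/
theorem result {F : Type*} [Field F] [Fintype F] {p : ℕ} [Fact p.Prime] [CharP F p] {q : ℕ} (hq : Fintype.card F = q)
    (n : ℕ) (hn : 2 ≤ n) (hT : (n, q) ≠ (2, 2) ∧ (n, q) ≠ (2, 3))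
    (F₀ : Subfield F) (k q₀ : ℕ) (hk : k.Prime) (hF₀ : Nat.card ↥F₀ = q₀) (hqk : q = q₀ ^ k) (hC5 : ¬ (n = 2 ∧ q₀ = 2)) (hΩ : 2 ∣ ((Cfsg.Geo.subfieldSubgroup F₀ 1).comap (Matrix.SpecialLinearGroup.toGL : Matrix.SpecialLinearGroup (Fin n) F →* GL (Fin n) F)).index) :
    (∀ x : Matrix.SpecialLinearGroup (Fin n) F,
      (∃ z : F, ((x ^ 2 : Matrix.SpecialLinearGroup (Fin n) F) : Matrix (Fin n) (Fin n) F) = z • (1 : Matrix (Fin n) (Fin n) F)) →
      (∀ z : F, (x : Matrix (Fin n) (Fin n) F) ≠ z • (1 : Matrix (Fin n) (Fin n) F)) →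
      ∃ P : Matrix.SpecialLinearGroup (Fin n) F, P⁻¹ * x * P ∈ ((Cfsg.Geo.subfieldSubgroup F₀ 1).comap (Matrix.SpecialLinearGroup.toGL : Matrix.SpecialLinearGroup (Fin n) F →* GL (Fin n) F))) ↔
    (Odd q → (k = 2 ∧ padicValNat 2 n ≤ padicValNat 2 (q - 1))) := by
  classical
  subst hq
  subst hF₀
  haveI : Finite F₀ := inferInstance
  constructor
  · intro hall hodd
    have hodd₀ : Odd (Nat.card F₀) := (Nat.odd_pow_iff hk.ne_zero).1 (hqk ▸ hodd)
    have hk2 : k = 2 := by
      rcases hk.eq_two_or_odd' with h | hk'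
      · exact h
      refine absurd hΩ (Nat.two_dvd_ne_zero.2 (Nat.odd_iff.1 (index_odd F₀ (by omega) hodd₀ hk' hqk _ fun y => ?_)))
      refine ⟨Matrix.GeneralLinearGroup.map (F₀.subtype : F₀ →+* F) (Matrix.SpecialLinearGroup.toGL y),
        Subgroup.mem_sup_left ⟨_, rfl⟩, ?_⟩
      apply Units.ext
      simp
    subst hk2
    refine ⟨rfl, ?_⟩
    by_contra hv
    rw [not_le] at hv
    obtain ⟨N, hN⟩ : ∃ N, Fintype.card F - 1 = N := ⟨_, rfl⟩
    have hN0 : N ≠ 0 := by have := Fintype.one_lt_card (α := F); omega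
    rw [hN] at hv
    obtain ⟨l, hl⟩ : 2 ^ padicValNat 2 N ∣ N := pow_padicValNat_dvd
    obtain ⟨n', hn'⟩ : 2 ^ (padicValNat 2 N + 1) ∣ n := (pow_dvd_pow 2 hv).trans pow_padicValNat_dvd
    have hi1 : 1 ≤ padicValNat 2 N := by
      refine one_le_padicValNat_of_dvd hN0 ?_
      obtain ⟨j, hj⟩ := hodd
      omega
    obtain ⟨w, hw⟩ := IsCyclic.exists_ofOrder_eq_natCard (α := Fˣ)
    have hcard : orderOf w = N := by rw [hw, Nat.card_units, Nat.card_eq_fintype_card, hN]
    -- `u` generates the 2-part of the unit group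
    obtain ⟨u, hu⟩ : ∃ u : F, u = (w : F) ^ l := ⟨_, rfl⟩
    have hlpos : 0 < l := Nat.pos_of_ne_zero fun h => hN0 (by rw [hl, h, mul_zero])
    have hu2 : u ^ (2 ^ padicValNat 2 N) = 1 := by
      rw [hu, ← pow_mul, mul_comm, ← hl, ← hcard, ← Units.val_pow_eq_pow_val, pow_orderOf_eq_one, Units.val_one]
    have h2 : (2 : F) ≠ 0 := by
      intro h
      have := FiniteField.even_card_iff_char_two.1 (CharP.ringChar_of_prime_eq_zero Nat.prime_two (by exact_mod_cast h) : ringChar F = 2)
      exact (Nat.not_even_iff_odd.2 hodd) (Nat.even_iff.2 this)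
    have hsq : ¬ ∃ c : F, c * c = -u := by
      rintro ⟨c, hc⟩
      have hu0 : u ≠ 0 := by rw [hu]; exact pow_ne_zero _ w.ne_zero
      have hc0 : c ≠ 0 := fun h => hu0 (by rw [h, mul_zero] at hc; linear_combination hc)
      have h4 : IsSquare (-1 : F) := by
        rw [FiniteField.isSquare_neg_one_iff, hqk]
        obtain ⟨j, hj⟩ := hodd₀
        rw [hj, Nat.pow_mod]
        rcases Nat.even_or_odd j with ⟨t, rfl⟩ | ⟨t, rfl⟩
        · simp [show (2 * (t + t) + 1) % 4 = 1 by omega]
        · simp [show (2 * (2 * t + 1) + 1) % 4 = 3 by omega]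
      obtain ⟨i, hi⟩ := h4
      have hcu : (c * i) * (c * i) = u := by linear_combination (i * i) * hc + u * hi
      have hpow : (c * i) ^ N = 1 := by
        rw [← hN]
        exact FiniteField.pow_card_sub_one_eq_one _ fun h => hu0 (by rw [← hcu, h, mul_zero])
      obtain ⟨j, hj⟩ : ∃ j, padicValNat 2 N = j + 1 := ⟨_, (Nat.sub_add_cancel hi1).symm⟩
      have h5 : u ^ (2 ^ j * l) = 1 := by
        rw [← hcu, ← pow_two, ← pow_mul, ← mul_assoc, ← pow_succ', ← hj, ← hl, hpow]
      rw [hu, ← pow_mul, ← Units.val_pow_eq_pow_val, Units.val_eq_one, ← orderOf_dvd_iff_pow_eq_one, hcard, hl, hj,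
        pow_succ, show l * (2 ^ j * l) = (2 ^ j * l) * l by ring, mul_assoc, mul_assoc,
        Nat.mul_dvd_mul_iff_left (Nat.two_pow_pos j), mul_comm 2 l, mul_dvd_mul_iff_left hlpos.ne'] at h5
      obtain ⟨l', rfl⟩ := h5
      exact pow_succ_padicValNat_not_dvd (p := 2) hN0 ⟨l', by rw [pow_succ, mul_assoc, ← hl]⟩
    obtain ⟨r, rfl⟩ : ∃ r, n = 2 * r := ⟨2 ^ padicValNat 2 N * n', by rw [hn', pow_succ]; ring⟩
    have hur : u ^ r = 1 := by
      rw [pow_succ] at hn'
      rw [show r = 2 ^ padicValNat 2 N * n' by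
        apply Nat.eq_of_mul_eq_mul_left (show 0 < 2 by norm_num); rw [hn']; ring, pow_mul, hu2, one_pow]
    let e : Fin 2 × Fin r ≃ Fin (2 * r) := finProdFinEquiv
    let X : Matrix (Fin (2 * r)) (Fin (2 * r)) F :=
      (Matrix.blockDiagonal fun _ : Fin r => (!![0, -u; 1, 0] : Matrix (Fin 2) (Fin 2) F)).submatrix e.symm e.symm
    have hXX : X * X = (-u) • 1 := by
      rw [Matrix.submatrix_mul_equiv, ← Matrix.blockDiagonal_mul,
        show ((fun k : Fin r => (!![0, -u; 1, 0] : Matrix (Fin 2) (Fin 2) F) * !![0, -u; 1, 0])) =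
          (-u) • (1 : Fin r → Matrix (Fin 2) (Fin 2) F) by
          funext k; ext i j; fin_cases i <;> fin_cases j <;> simp [Matrix.mul_apply, Fin.sum_univ_two],
        Matrix.blockDiagonal_smul, Matrix.blockDiagonal_one]
      ext i j
      simp [Matrix.one_apply]
      split_ifs <;> simp
    have hXd : X.det = 1 := by
      rw [Matrix.det_submatrix_equiv_self, Matrix.det_blockDiagonal, Finset.prod_const, Finset.card_univ,
        Fintype.card_fin, Matrix.det_fin_two]
      simp [hur]
    obtain ⟨x, hx⟩ : ∃ x : Matrix.SpecialLinearGroup (Fin (2 * r)) F, (x : Matrix (Fin (2 * r)) (Fin (2 * r)) F) = X :=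
      ⟨⟨X, hXd⟩, rfl⟩
    haveI hne : Nonempty (Fin (2 * r)) := ⟨⟨0, by omega⟩⟩
    obtain ⟨P, g, hg, hgP⟩ := hall x ⟨-u, by simp only [pow_two, Matrix.SpecialLinearGroup.coe_mul, hx]; exact hXX⟩
      (fun z h => by
        refine hsq ⟨z, ?_⟩
        have h1 := hXX
        rw [← hx, h, Algebra.smul_mul_assoc, one_mul, smul_smul] at h1
        have := congrFun (congrFun h1 ⟨0, by omega⟩) ⟨0, by omega⟩
        simpa using this)
    obtain ⟨y, hy, sc, hsc, rfl⟩ : ∃ y ∈ (Matrix.GeneralLinearGroup.map (n := Fin (2 * r)) (F₀.subtype : F₀ →+* F)).range,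
        ∃ sc ∈ Cfsg.Geo.scalars (Fin (2 * r)) F, y * sc = g := by
      have hle : (Matrix.GeneralLinearGroup.map (n := Fin (2 * r)) (F₀.subtype : F₀ →+* F)).range ⊔
          Cfsg.Geo.scalars (Fin (2 * r)) F ≤ (Matrix.GeneralLinearGroup.map (n := Fin (2 * r)) (F₀.subtype : F₀ →+* F)).range ⊔
          Cfsg.Geo.scalars (Fin (2 * r)) F := le_rfl
      haveI : (Cfsg.Geo.scalars (Fin (2 * r)) F).Normal := ⟨fun a ha b => by
        obtain ⟨z, hz⟩ := (Cfsg.Geo.mem_scalars_iff a).1 ha
        refine (Cfsg.Geo.mem_scalars_iff _).2 ⟨z, ?_⟩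
        rw [Units.val_mul, Units.val_mul, hz, Algebra.mul_smul_comm, mul_one, Algebra.smul_mul_assoc, ← Units.val_mul,
          mul_inv_cancel, Units.val_one]⟩
      exact Subgroup.mem_sup_of_normal_right.1 (hle hg)
    obtain ⟨y, rfl⟩ := hy
    obtain ⟨z, hz⟩ := (Cfsg.Geo.mem_scalars_iff sc).1 hsc
    obtain ⟨Y, hY⟩ : ∃ Y : Matrix (Fin (2 * r)) (Fin (2 * r)) F, ((P⁻¹ * x * P : Matrix.SpecialLinearGroup (Fin (2 * r)) F) : Matrix (Fin (2 * r)) (Fin (2 * r)) F) = Y := ⟨_, rfl⟩
    have hval : Y = (z : F) • (y : Matrix (Fin (2 * r)) (Fin (2 * r)) F₀).map (F₀.subtype : F₀ →+* F) := by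
      have := congrArg Units.val hgP
      simp only [map_one, MonoidHom.coe_coe, MulAut.one_apply, MulEquiv.coe_toMonoidHom, Units.val_mul, hz,
        Algebra.mul_smul_comm, mul_one] at this
      rw [← hY]
      exact this.symm
    have hPP : ((P⁻¹ * x * P) * (P⁻¹ * x * P) : Matrix.SpecialLinearGroup (Fin (2 * r)) F) = P⁻¹ * (x * x) * P := by group
    have hYY : Y * Y = (-u) • 1 := by
      have := congrArg Subtype.val hPP
      rw [Matrix.SpecialLinearGroup.coe_mul, hY] at this
      rw [this, Matrix.SpecialLinearGroup.coe_mul, Matrix.SpecialLinearGroup.coe_mul, Matrix.SpecialLinearGroup.coe_mul,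
        hx, hXX, Algebra.mul_smul_comm, mul_one, Algebra.smul_mul_assoc, ← Matrix.SpecialLinearGroup.coe_mul,
        inv_mul_cancel, Matrix.SpecialLinearGroup.coe_one]
    rw [hval, Algebra.smul_mul_assoc, Algebra.mul_smul_comm, smul_smul, ← RingHom.mapMatrix_apply, ← map_mul] at hYY
    have h00 := congrFun (congrFun hYY ⟨0, by omega⟩) ⟨0, by omega⟩
    simp only [Matrix.smul_apply, RingHom.mapMatrix_apply, Matrix.map_apply, Matrix.one_apply_eq, smul_eq_mul, mul_one] at h00
    obtain ⟨d, hd⟩ : ∃ d : F₀, ((y : Matrix (Fin (2 * r)) (Fin (2 * r)) F₀) * y) ⟨0, by omega⟩ ⟨0, by omega⟩ = d := ⟨_, rfl⟩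
    rw [hd] at h00
    have hd0 : (d : F) ≠ 0 := fun h => by
      rw [show ((F₀.subtype : F₀ →+* F) d) = (d : F) from rfl, h, mul_zero] at h00
      refine hsq ⟨0, ?_⟩
      rw [mul_zero]; exact h00
    have hq₀ : (d : F) ^ (Nat.card F₀ - 1) = 1 := by
      haveI : Fintype F₀ := Fintype.ofFinite _
      have := congrArg (fun a : F₀ => (a : F)) (FiniteField.pow_card_sub_one_eq_one d (fun h => hd0 (by rw [h]; rfl)))
      simpa [Nat.card_eq_fintype_card] using this
    obtain ⟨s, hs⟩ : IsSquare (d : F) := by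
      refine (FiniteField.isSquare_iff (fun h => h2 (by
        have := ringChar.Nat.cast_ringChar (R := F); rw [h] at this; exact_mod_cast this)) hd0).2 ?_
      obtain ⟨j, hj⟩ := hodd₀
      rw [hj] at hq₀
      rw [hqk, hj, show (2 * j + 1) ^ 2 / 2 = (2 * j + 1 - 1) * (j + 1) by
        rw [Nat.add_sub_cancel]
        have e1 : (2 * j + 1) ^ 2 = 2 * (2 * j * (j + 1)) + 1 := by ring
        omega, pow_mul, hq₀, one_pow]
    refine hsq ⟨z * s, ?_⟩
    rw [← h00, show ((F₀.subtype : F₀ →+* F) d) = (d : F) from rfl, hs]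
    ring
  · intro hcond x hx hxs
    obtain ⟨z, hz⟩ := hx
    rw [pow_two, Matrix.SpecialLinearGroup.coe_mul] at hz
    have hdet : (x : Matrix (Fin n) (Fin n) F).det = 1 := x.2
    haveI hne : Nonempty (Fin n) := ⟨⟨0, by omega⟩⟩
    have hz0 : z ≠ 0 := by
      intro h
      have h1 := congrArg Matrix.det hz
      rw [Matrix.det_mul, hdet, mul_one, h, zero_smul, Matrix.det_zero] at h1
      exact one_ne_zero h1
    have hL : ∀ v, Matrix.toLin' (x : Matrix (Fin n) (Fin n) F) (Matrix.toLin' (x : Matrix (Fin n) (Fin n) F) v) = z • v := fun v => by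
      rw [Matrix.toLin'_apply, Matrix.toLin'_apply, Matrix.mulVec_mulVec, hz, Matrix.smul_mulVec, Matrix.one_mulVec]
    have hscal : ∀ {ι : Type} [Fintype ι] [DecidableEq ι] (B : Module.Basis ι F (Fin n → F)) (e : ι ≃ Fin n)
        (w : ι → Fˣ), (∏ i, (w i : F)) = LinearMap.det ((B.reindex e).equiv (Pi.basisFun F (Fin n)) (Equiv.refl _) :
          (Fin n → F) →ₗ[F] (Fin n → F)) →
        LinearMap.det (((B.unitsSMul w).reindex e).equiv (Pi.basisFun F (Fin n)) (Equiv.refl _) :
          (Fin n → F) →ₗ[F] (Fin n → F)) = 1 := by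
      intro ι _ _ B e w hw
      let C : (Fin n → F) →ₗ[F] (Fin n → F) := B.constr F fun i => (w i : F) • B i
      have hC : LinearMap.det C = ∏ i, (w i : F) := by
        rw [← LinearMap.det_toMatrix B, show LinearMap.toMatrix B B C = Matrix.diagonal (fun i => (w i : F)) from ?_,
          Matrix.det_diagonal]
        ext i j
        rw [LinearMap.toMatrix_apply, Matrix.diagonal_apply]
        simp [C, Finsupp.single_apply, eq_comm]
        split_ifs with h <;> simp [h]
      have hcomp : ((((B.unitsSMul w).reindex e).equiv (Pi.basisFun F (Fin n)) (Equiv.refl _) :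
          (Fin n → F) →ₗ[F] (Fin n → F))) ∘ₗ C = ((B.reindex e).equiv (Pi.basisFun F (Fin n)) (Equiv.refl _) :
          (Fin n → F) →ₗ[F] (Fin n → F)) := by
        apply B.ext
        intro i
        rw [LinearMap.comp_apply, show C (B i) = (B.unitsSMul w).reindex e (e i) by
          simp [C, Module.Basis.unitsSMul_apply, Units.smul_def],
          show B i = B.reindex e (e i) by simp, LinearEquiv.coe_coe, LinearEquiv.coe_coe, Module.Basis.equiv_apply,
          Module.Basis.equiv_apply]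
      have := congrArg LinearMap.det hcomp
      rw [LinearMap.det_comp, hC, ← hw] at this
      have hne : (∏ i, (w i : F)) ≠ 0 := Finset.prod_ne_zero_iff.2 fun i _ => (w i).ne_zero
      exact (mul_eq_right₀ hne).1 this
    by_cases h2 : (2 : F) = 0
    · have hr2 : ringChar F = 2 := CharP.ringChar_of_prime_eq_zero Nat.prime_two (by exact_mod_cast h2)
      obtain ⟨c, rfl⟩ := FiniteField.isSquare_of_char_two hr2 z
      have hc : c ≠ 0 := fun h => hz0 (by rw [h, mul_zero])
      obtain ⟨r, s, B, hrs, hB1, hB2⟩ := CfsgLib.MaxSub.InvolPairs.exists_basis _ hz0 hL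
      rw [Module.finrank_fin_fun] at hrs
      have hsing : ∀ l, Matrix.toLin' (x : Matrix (Fin n) (Fin n) F) (B (.inr l)) = c • B (.inr l) := fun l => by
        obtain ⟨d, hd⟩ := hB2 l
        have h := hL (B (.inr l))
        rw [hd, map_smul, hd, smul_smul] at h
        have hdc : d * d = c * c := smul_left_injective F (B.ne_zero _) h
        have : (d - c) * (d - c) = 0 := by linear_combination hdc + (c * c - d * c) * h2
        rw [hd, sub_eq_zero.1 (mul_self_eq_zero.1 this)]
      have hr : r ≠ 0 := by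
        rintro rfl
        refine hxs c (Matrix.toLin'.injective (B.ext fun i => ?_))
        rcases i with ⟨k', _⟩ | l
        · exact k'.elim0
        rw [hsing, map_smul, Matrix.toLin'_one]; rfl
      let B₁ := B.unitsSMul fun i => Sum.elim (fun p => if p.2 then (Units.mk0 c hc)⁻¹ else 1) (fun _ => 1) i
      let e : (Fin r × Bool) ⊕ Fin s ≃ Fin n := Fintype.equivFinOfCardEq (by simp; omega)
      obtain ⟨δ, hδ⟩ : ∃ δ, δ = LinearMap.det ((B₁.reindex e).equiv (Pi.basisFun F (Fin n)) (Equiv.refl _) :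
          (Fin n → F) →ₗ[F] (Fin n → F)) := ⟨_, rfl⟩
      have hδ0 : δ ≠ 0 := by rw [hδ]; exact (LinearEquiv.isUnit_det' _).ne_zero
      obtain ⟨a, ha⟩ := FiniteField.isSquare_of_char_two hr2 δ
      have ha0 : a ≠ 0 := fun h => hδ0 (by rw [ha, h, mul_zero])
      let k₀ : Fin r := ⟨0, Nat.pos_of_ne_zero hr⟩
      let w : (Fin r × Bool) ⊕ Fin s → Fˣ := Sum.elim (fun p => if p.1 = k₀ then Units.mk0 a ha0 else 1) (fun _ => 1)
      have hw : (∏ i, (w i : F)) = δ := by
        rw [Fintype.prod_sum_type, Fintype.prod_prod_type]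
        simp [w, ha, Finset.prod_ite_eq', apply_ite Units.val, ite_pow]
        rw [Finset.prod_eq_single k₀ (fun b _ hb => by simp [hb]) (by simp)]
        simp
      refine conj_mem x (B₁.unitsSMul w) e (hscal B₁ e w (hw.trans hδ)) hc
        (Matrix.of fun i j => if i = Sum.map (fun p => (p.1, !p.2)) id j then 1 else 0) ?_
      ext i j
      rw [LinearMap.toMatrix_apply]
      have hkey : Matrix.toLin' (x : Matrix (Fin n) (Fin n) F) ((B₁.unitsSMul w) j) =
          c • (B₁.unitsSMul w) (Sum.map (fun p => (p.1, !p.2)) id j) := by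
        simp only [B₁, Module.Basis.unitsSMul_apply, Units.smul_def, map_smul]
        rcases j with ⟨k', b⟩ | l
        · cases b <;> simp [w, hB1, smul_smul]
          · congr 1; field_simp
          · rw [← hB1, ← Matrix.toLin'_apply, hL, smul_smul]; congr 1; field_simp
        · simp [hsing, smul_smul, w]
      rw [hkey, map_smul, Module.Basis.repr_self, Finsupp.smul_apply, Finsupp.single_apply]
      simp [eq_comm]
      split_ifs <;> simp
    · have hodd : Odd (Fintype.card F) := by
        rw [Nat.odd_iff]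
        refine FiniteField.odd_card_of_char_ne_two fun h => h2 ?_
        have := ringChar.Nat.cast_ringChar (R := F)
        rw [h] at this
        exact_mod_cast this
      obtain ⟨rfl, hv⟩ := hcond hodd
      by_cases hsq : ∃ c : F, c * c = z
      swap
      · exfalso
        push Not at hsq
        obtain ⟨r, B, hB⟩ := CfsgLib.MaxSub.InvolPairs.nonsquare_pairs _ hL hsq
        have hr : 2 * r = n := by
          have := Module.finrank_eq_card_basis B
          rw [Module.finrank_fin_fun] at this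
          simp at this; omega
        have hd : LinearMap.det (Matrix.toLin' (x : Matrix (Fin n) (Fin n) F)) = (-z) ^ r := by
          let e2 : Fin r × Bool ≃ Fin 2 × Fin r := (Equiv.prodComm _ _).trans (finTwoEquiv.symm.prodCongr (Equiv.refl _))
          rw [← LinearMap.det_toMatrix (B.reindex e2), show LinearMap.toMatrix (B.reindex e2) (B.reindex e2)
            (Matrix.toLin' (x : Matrix (Fin n) (Fin n) F)) = Matrix.blockDiagonal fun _ => !![0, z; 1, 0] from ?_,
            Matrix.det_blockDiagonal, Finset.prod_const, Finset.card_univ, Fintype.card_fin, Matrix.det_fin_two]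
          · simp
          ext ⟨b', k'⟩ ⟨b, k⟩
          rw [LinearMap.toMatrix_apply, Matrix.blockDiagonal_apply]
          have h1 : ∀ k, Matrix.toLin' (x : Matrix (Fin n) (Fin n) F) (B (k, true)) = z • B (k, false) := fun k => by
            rw [← hB, hL]
          fin_cases b <;> fin_cases b' <;> simp [e2, finTwoEquiv, hB, h1, Finsupp.single_apply, eq_comm]
          all_goals split_ifs <;> simp_all
        rw [LinearMap.det_toLin', hdet] at hd
        obtain ⟨N, hN⟩ : ∃ N, Fintype.card F - 1 = N := ⟨_, rfl⟩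
        have hN0 : N ≠ 0 := by have := Fintype.one_lt_card (α := F); omega
        rw [hN] at hv
        have hodd₀ : Odd (Nat.card F₀) := (Nat.odd_pow_iff two_ne_zero).1 (hqk ▸ hodd)
        obtain ⟨i, hi⟩ : IsSquare (-1 : F) := by
          rw [FiniteField.isSquare_neg_one_iff, hqk]
          obtain ⟨j, hj⟩ := hodd₀
          rw [hj, Nat.pow_mod]
          rcases Nat.even_or_odd j with ⟨t, rfl⟩ | ⟨t, rfl⟩
          · simp [show (2 * (t + t) + 1) % 4 = 1 by omega]
          · simp [show (2 * (2 * t + 1) + 1) % 4 = 3 by omega]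
        have hhalf : (-z) ^ (Fintype.card F / 2) = -1 := by
          refine (FiniteField.pow_dichotomy ?_ (neg_ne_zero.2 hz0)).resolve_left fun h => ?_
          · intro h; exact h2 (by have := ringChar.Nat.cast_ringChar (R := F); rw [h] at this; exact_mod_cast this)
          obtain ⟨c, hc⟩ := (FiniteField.isSquare_iff (fun h => h2 (by
            have := ringChar.Nat.cast_ringChar (R := F); rw [h] at this; exact_mod_cast this)) (neg_ne_zero.2 hz0)).2 h
          exact hsq (c * i) (by linear_combination (c * c) * hi.symm + hc)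
        obtain ⟨t, hte⟩ : 2 ^ padicValNat 2 n ∣ n := pow_padicValNat_dvd
        obtain ⟨j, hj⟩ : ∃ j, padicValNat 2 n = j + 1 := ⟨padicValNat 2 n - 1, by
          have := one_le_padicValNat_of_dvd (p := 2) (n := n) (by omega) ⟨r, hr.symm⟩
          omega⟩
        have htodd : Odd t := by
          by_contra he
          obtain ⟨t', rfl⟩ := even_iff_two_dvd.1 (Nat.not_odd_iff_even.1 he)
          exact pow_succ_padicValNat_not_dvd (p := 2) (show n ≠ 0 by omega) ⟨t', by rw [pow_succ, mul_assoc, ← hte]⟩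
        obtain ⟨l, hl⟩ : 2 ^ (j + 1) ∣ N := hj ▸ (pow_dvd_pow 2 hv).trans pow_padicValNat_dvd
        have hrt : r = 2 ^ j * t := by
          rw [hj, pow_succ] at hte
          apply Nat.eq_of_mul_eq_mul_left (show 0 < 2 by norm_num); rw [hr, hte]; ring
        have hq2 : Fintype.card F / 2 = 2 ^ j * l := by
          have : N = 2 * (2 ^ j * l) := by rw [hl, pow_succ]; ring
          omega
        have h1 : ((-z) ^ (Fintype.card F / 2)) ^ t = 1 := by
          rw [hq2, ← pow_mul, show 2 ^ j * l * t = r * l by rw [hrt]; ring, pow_mul, ← hd, one_pow]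
        rw [hhalf, htodd.neg_one_pow] at h1
        exact h2 (by linear_combination -h1)
      obtain ⟨c, rfl⟩ := hsq
      have hc : c ≠ 0 := fun h => hz0 (by rw [h, mul_zero])
      obtain ⟨s, B, hB⟩ := CfsgLib.MaxSub.InvolAlt.eigen_basis h2 _ hc hL
      have hs : s = n := by
        have := Module.finrank_eq_card_basis B
        rw [Module.finrank_fin_fun, Fintype.card_fin] at this
        exact this.symm
      subst hs
      let l₀ : Fin s := ⟨0, by omega⟩
      obtain ⟨δ, hδ⟩ : ∃ δ, δ = LinearMap.det ((B.reindex (Equiv.refl _)).equiv (Pi.basisFun F (Fin s)) (Equiv.refl _) :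
          (Fin s → F) →ₗ[F] (Fin s → F)) := ⟨_, rfl⟩
      have hδ0 : δ ≠ 0 := by rw [hδ]; exact (LinearEquiv.isUnit_det' _).ne_zero
      let w : Fin s → Fˣ := Function.update (fun _ => 1) l₀ (Units.mk0 δ hδ0)
      have hw : (∏ i, (w i : F)) = δ := by
        rw [Finset.prod_eq_single l₀]
        · simp [w]
        · intro i _ hi; simp [w, hi]
        · simp
      refine conj_mem x (B.unitsSMul w) (Equiv.refl _) (hscal B _ w (hw.trans hδ)) hc
        (Matrix.diagonal fun i => if Matrix.toLin' (x : Matrix (Fin s) (Fin s) F) (B i) = c • B i then 1 else -1) ?_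
      ext i j
      rw [LinearMap.toMatrix_apply, Matrix.smul_apply, Matrix.map_apply, Matrix.diagonal_apply]
      simp only [Module.Basis.unitsSMul_apply, Units.smul_def, map_smul]
      by_cases hp : Matrix.toLin' (x : Matrix (Fin s) (Fin s) F) (B j) = c • B j
      · rw [hp]
        rcases eq_or_ne i j with rfl | hij <;> simp [*, Module.Basis.repr_unitsSMul, Finsupp.single_apply, Units.smul_def, Ne.symm]
        all_goals rw [Matrix.toLin'_apply] at hp
        all_goals try simp [hp]
        all_goals field_simp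
      · rw [(hB j).resolve_left hp]
        rcases eq_or_ne i j with rfl | hij <;> simp [*, Module.Basis.repr_unitsSMul, Finsupp.single_apply, Units.smul_def, Ne.symm]
        all_goals rw [Matrix.toLin'_apply] at hp
        all_goals try simp [hp]
        all_goals field_simp

end Cfsg.Agent.S5964
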