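import Cfsg.Statements.S5965
import Cfsg.Agent.Lib.MaxSub.CompanionBasis
import Cfsg.Agent.Lib.KnownC.CentralizerDet
import Cfsg.Agent.Lib.KnownC.FieldDescent
import Cfsg.Agent.Lib.MaxSub.SemiWitness
import Cfsg.Agent.Lib.MaxSub.SemiCriterion
import Cfsg.Agent.Lib.Classical.SLOrder
-- import your own Cfsg.Agent.* helpers here

set_option autoImplicit false
open scoped MatrixGroups
open Cfsg

namespace Cfsg.Agent.S5965

open CfsgLib.MaxSub Matrix Polynomial

universe u

section

variable {F : Type u} [Field F] [Fintype F] {F₀ : Subfield F} {n r : ℕ}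

theorem mem_iff {g : GL (Fin n) F} : g ∈ Cfsg.Geo.subfieldSubgroup F₀ 1 ↔
    ∃ (h : GL (Fin n) F₀) (a : Fˣ), (g : Matrix (Fin n) (Fin n) F) =
      (a : F) • (h : Matrix (Fin n) (Fin n) F₀).map (F₀.subtype : F₀ →+* F) := by
  haveI : (Cfsg.Geo.scalars (Fin n) F).Normal := ⟨fun a ha b => by
    obtain ⟨z, hz⟩ := (Cfsg.Geo.mem_scalars_iff a).1 ha
    refine (Cfsg.Geo.mem_scalars_iff _).2 ⟨z, ?_⟩
    rw [Units.val_mul, Units.val_mul, hz, Algebra.mul_smul_comm, mul_one, Algebra.smul_mul_assoc, ← Units.val_mul,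
      mul_inv_cancel, Units.val_one]⟩
  have h0 : g ∈ Cfsg.Geo.subfieldSubgroup F₀ 1 ↔ g ∈ (Matrix.GeneralLinearGroup.map (n := Fin n) (F₀.subtype : F₀ →+* F)).range ⊔
      Cfsg.Geo.scalars (Fin n) F := by
    constructor
    · rintro ⟨y, hy, rfl⟩; simpa using hy
    · exact fun hg => ⟨g, hg, by simp⟩
  rw [h0, Subgroup.mem_sup_of_normal_right]
  constructor
  · rintro ⟨_, ⟨h, rfl⟩, sc, hsc, rfl⟩
    obtain ⟨z, hz⟩ := (Cfsg.Geo.mem_scalars_iff sc).1 hsc
    exact ⟨h, z, by rw [Units.val_mul, hz, Algebra.mul_smul_comm, mul_one]; rfl⟩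
  · rintro ⟨h, z, hz⟩
    refine ⟨_, ⟨h, rfl⟩, Units.map (Matrix.scalar (Fin n) : F →+* Matrix (Fin n) (Fin n) F).toMonoidHom z, ⟨z, rfl⟩, Units.ext ?_⟩
    rw [Units.val_mul, hz]
    show (h : Matrix (Fin n) (Fin n) F₀).map (F₀.subtype : F₀ →+* F) * Matrix.scalar (Fin n) (z : F) = _
    rw [Matrix.scalar_apply, ← Matrix.smul_one_eq_diagonal, Algebra.mul_smul_comm, mul_one]


/-- The Frobenius of a subfield. -/
theorem frob {p : ℕ} [Fact p.Prime] [CharP F p] : ∃ σ : F →+* F, (∀ x, σ x = x ^ Nat.card F₀) ∧ (∀ x, x ∈ F₀ ↔ σ x = x) ∧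
    ∀ (K : Type u) [Field K] [Algebra F K] (x y : K), (x + y) ^ Nat.card F₀ = x ^ Nat.card F₀ + y ^ Nat.card F₀ := by
  classical
  haveI : Fintype F₀ := Fintype.ofFinite _
  haveI : CharP F₀ p := (RingHom.charP_iff_charP (F₀.subtype : F₀ →+* F) p).2 inferInstance
  obtain ⟨f, hp, hf⟩ := FiniteField.card F₀ p
  rw [Nat.card_eq_fintype_card, hf]
  refine ⟨iterateFrobenius F p f, fun x => iterateFrobenius_def p f x, fun x => ?_, fun K _ _ a b => ?_⟩
  · rw [iterateFrobenius_def]
    constructor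
    · intro hx
      have := congrArg Subtype.val (FiniteField.pow_card (⟨x, hx⟩ : F₀))
      rwa [hf] at this
    · intro hx
      have hne : (Polynomial.X ^ p ^ (f : ℕ) - Polynomial.X : F[X]) ≠ 0 :=
        FiniteField.X_pow_card_sub_X_ne_zero F (Nat.one_lt_pow f.ne_zero hp.one_lt)
      have h1 : ((Finset.univ : Finset F₀).map ⟨Subtype.val, Subtype.val_injective⟩ : Finset F) =
          (Polynomial.X ^ p ^ (f : ℕ) - Polynomial.X : F[X]).roots.toFinset := by
        refine Finset.eq_of_subset_of_card_le (fun a ha => ?_) ?_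
        · obtain ⟨a', -, rfl⟩ := Finset.mem_map.1 ha
          rw [Multiset.mem_toFinset, mem_roots hne, IsRoot, eval_sub, eval_pow, eval_X, sub_eq_zero]
          have := congrArg Subtype.val (FiniteField.pow_card (a' : F₀))
          rwa [hf] at this
        · rw [Finset.card_map, Finset.card_univ, hf]
          refine (Multiset.toFinset_card_le _).trans ((card_roots' _).trans (le_of_eq ?_))
          exact FiniteField.X_pow_card_sub_X_natDegree_eq F (Nat.one_lt_pow f.ne_zero hp.one_lt)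
      have : x ∈ ((Finset.univ : Finset F₀).map ⟨Subtype.val, Subtype.val_injective⟩ : Finset F) := by
        rw [h1, Multiset.mem_toFinset, mem_roots hne, IsRoot, eval_sub, eval_pow, eval_X, hx, sub_self]
      obtain ⟨a, -, rfl⟩ := Finset.mem_map.1 this
      exact a.2
  · haveI : CharP K p := (RingHom.charP_iff_charP (algebraMap F K) p).1 inferInstance
    exact add_pow_char_pow a b p f

/-- Conjugating into the subfield group from a basis. -/
theorem conj_into (hn : 1 ≤ n) (hrF : (r : F) ≠ 0) (x : Matrix.SpecialLinearGroup (Fin n) F) {a₀ a : F} (ha₀ : a₀ ≠ 0)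
    (hy : (a₀⁻¹ • (x : Matrix (Fin n) (Fin n) F)) ^ r = 1) (ha : a ≠ 0) (G : GL (Fin n) F) (M : Matrix (Fin n) (Fin n) F₀)
    (h : (x : Matrix (Fin n) (Fin n) F) * G =
      (G : Matrix (Fin n) (Fin n) F) * (a • M.map (F₀.subtype : F₀ →+* F))) :
    ∃ P : Matrix.SpecialLinearGroup (Fin n) F, P⁻¹ * x * P ∈ ((Cfsg.Geo.subfieldSubgroup F₀ 1).comap
      (Matrix.SpecialLinearGroup.toGL : Matrix.SpecialLinearGroup (Fin n) F →* GL (Fin n) F)) := by
  classical
  haveI : Nonempty (Fin n) := ⟨⟨0, hn⟩⟩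
  haveI : Nontrivial (Fin n → F) := Function.nontrivial
  have hdG : (G : Matrix (Fin n) (Fin n) F).det ≠ 0 := (Matrix.GeneralLinearGroup.det G).ne_zero
  obtain ⟨T, hT, hTd⟩ := CfsgLib.KnownC.exists_commute_det (Matrix.toLinAlgEquiv' (a₀⁻¹ • (x : Matrix (Fin n) (Fin n) F)))
    hrF (by rw [← map_pow, hy, map_one]) (G : Matrix (Fin n) (Fin n) F).det⁻¹
  let C := LinearMap.toMatrixAlgEquiv' T
  have hC : C * (x : Matrix (Fin n) (Fin n) F) = (x : Matrix (Fin n) (Fin n) F) * C := by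
    refine Matrix.toLinAlgEquiv'.injective ?_
    have h1 : T * Matrix.toLinAlgEquiv' (a₀⁻¹ • (x : Matrix (Fin n) (Fin n) F)) = Matrix.toLinAlgEquiv' (a₀⁻¹ • (x : Matrix (Fin n) (Fin n) F)) * T := hT
    rw [map_smul, mul_smul_comm, smul_mul_assoc] at h1
    rw [map_mul, map_mul, show Matrix.toLinAlgEquiv' C = T from Matrix.toLinAlgEquiv'_toMatrixAlgEquiv' T]
    exact smul_right_injective _ (inv_ne_zero ha₀) h1
  have hdC : C.det = (G : Matrix (Fin n) (Fin n) F).det⁻¹ := by
    rw [← hTd]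
    exact LinearMap.det_toMatrix' T
  let P : Matrix.SpecialLinearGroup (Fin n) F := ⟨C * G, by rw [Matrix.det_mul, hdC, inv_mul_cancel₀ hdG]⟩
  have hxP : (x : Matrix (Fin n) (Fin n) F) * P = (P : Matrix (Fin n) (Fin n) F) * (a • M.map (F₀.subtype : F₀ →+* F)) := by
    show (x : Matrix (Fin n) (Fin n) F) * (C * G) = C * G * _
    rw [← mul_assoc, ← hC, mul_assoc, h, mul_assoc]
  have hM : M.det ≠ 0 := fun hM => by
    have h1 := congrArg Matrix.det h
    rw [Matrix.det_mul, Matrix.det_mul, x.2, one_mul, Matrix.det_smul,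
      show (M.map (F₀.subtype : F₀ →+* F)).det = 0 by
        rw [← map_zero (F₀.subtype : F₀ →+* F), ← hM]; exact ((F₀.subtype : F₀ →+* F).map_det _).symm,
      mul_zero, mul_zero] at h1
    exact hdG h1
  refine ⟨P, ?_⟩
  rw [Subgroup.mem_comap, mem_iff]
  refine ⟨Matrix.GeneralLinearGroup.mkOfDetNeZero M hM, Units.mk0 a ha, ?_⟩
  show ((P⁻¹ : Matrix.SpecialLinearGroup (Fin n) F) : Matrix (Fin n) (Fin n) F) * (x : Matrix (Fin n) (Fin n) F) * P =
    a • M.map (F₀.subtype : F₀ →+* F)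
  rw [mul_assoc, hxP, ← mul_assoc, ← Matrix.SpecialLinearGroup.coe_mul, inv_mul_cancel, Matrix.SpecialLinearGroup.coe_one,
    one_mul]

/-- The scalar of an element is an `r`-th power. -/
theorem scalar_pow [Fact r.Prime] (hn : 1 ≤ n) (hr2 : r ≠ 2)
    (hv : r ∣ Fintype.card F - 1 → padicValNat r n ≤ padicValNat r (Fintype.card F - 1))
    (x : Matrix.SpecialLinearGroup (Fin n) F) {z : F} (hx : (x : Matrix (Fin n) (Fin n) F) ^ r = z • 1) :
    ∃ a : F, a ≠ 0 ∧ a ^ r = z ∧ (a⁻¹ • (x : Matrix (Fin n) (Fin n) F)) ^ r = 1 := by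
  classical
  have hr : r.Prime := Fact.out
  have hz0 : z ≠ 0 := fun e => by
    haveI : Nonempty (Fin n) := ⟨⟨0, hn⟩⟩
    rw [e, zero_smul] at hx
    have := congrArg Matrix.det hx
    rw [Matrix.det_pow, x.2, one_pow, Matrix.det_zero] at this
    exact one_ne_zero this
  suffices ∃ a : F, a ^ r = z by
    obtain ⟨a, ha⟩ := this
    have ha0 : a ≠ 0 := fun e => hz0 (by rw [← ha, e, zero_pow hr.ne_zero])
    exact ⟨a, ha0, ha, by rw [_root_.smul_pow, hx, smul_smul, inv_pow, ha, inv_mul_cancel₀ hz0, one_smul]⟩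
  by_contra hno
  push Not at hno
  have hdvd : r ∣ Fintype.card F - 1 := by
    by_contra h
    have hcop : (Nat.card Fˣ).Coprime r := by
      rw [Nat.card_units, Nat.card_eq_fintype_card]; exact ((hr.coprime_iff_not_dvd).2 h).symm
    obtain ⟨d, hd⟩ := (powCoprime hcop).surjective (Units.mk0 z hz0)
    exact hno (d : F) (by simpa using congrArg Units.val hd)
  obtain ⟨k, hk, hdet⟩ := SemiWitness.det_eq hr hx hno
  have hk0 : 0 < k := Nat.pos_of_ne_zero fun e => by rw [e, mul_zero] at hk; omega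
  rw [x.2] at hdet
  have hv' := hv hdvd
  rw [hk, padicValNat.mul hr.ne_zero hk0.ne', padicValNat_self] at hv'
  obtain ⟨d, hd⟩ := SemiWitness.exists_pow_of_pow_eq_one hr hdvd (by omega) hk0 (μ := z) (by
    rw [hdet, neg_pow z k, hk, ← mul_assoc, ← pow_add, ← Nat.succ_mul,
      Even.neg_one_pow (Even.mul_right (by simpa [Nat.succ_eq_add_one] using (hr.odd_of_ne_two hr2).add_one) k), one_mul])
  exact hno d hd

/-- Elements with rational elementary divisors. -/
theorem pos_rational {p : ℕ} [Fact p.Prime] [CharP F p] [Fact r.Prime] (hn : 1 ≤ n) (hrF : (r : F) ≠ 0) {j : ℕ}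
    (hj : Nat.card F₀ ≡ Fintype.card F ^ j [MOD r]) (x : Matrix.SpecialLinearGroup (Fin n) F) {a : F} (ha : a ≠ 0)
    (hy : (a⁻¹ • (x : Matrix (Fin n) (Fin n) F)) ^ r = 1) :
    ∃ P : Matrix.SpecialLinearGroup (Fin n) F, P⁻¹ * x * P ∈ ((Cfsg.Geo.subfieldSubgroup F₀ 1).comap
      (Matrix.SpecialLinearGroup.toGL : Matrix.SpecialLinearGroup (Fin n) F →* GL (Fin n) F)) := by
  classical
  obtain ⟨σ, hσ, hfix, hadd⟩ := frob (F := F) (F₀ := F₀) (p := p)
  set φ := Matrix.toLinAlgEquiv' (a⁻¹ • (x : Matrix (Fin n) (Fin n) F)) with hφ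
  have hφr : φ ^ r = 1 := by rw [hφ, ← map_pow, hy, map_one]
  obtain ⟨D⟩ := CfsgLib.KnownB.GLBlocks.nonempty_decomp φ
  have hcoeff : ∀ i l, (CompanionBasis.blockPoly D i).coeff l ∈ F₀ := fun i l => by
    obtain ⟨h1, h2⟩ := CompanionBasis.decomp_of_pow_eq_one D hrF hφr i
    rw [h1, hfix]
    have := congrArg (fun f => Polynomial.coeff f l) (CompanionBasis.map_eq_of_dvd (D.irred i) (D.monic i) h2 hσ
      (fun K _ _ x y => hadd K x y) hj)
    simpa using this
  obtain ⟨b, hb⟩ := CompanionBasis.exists_companion D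
  let e : ((i : D.ι) × Fin (CompanionBasis.blockPoly D i).natDegree) ≃ Fin n := Fintype.equivFinOfCardEq (by
    rw [← Module.finrank_eq_card_basis b, Module.finrank_fin_fun])
  let B := b.reindex e
  have hM : ∀ i j, LinearMap.toMatrix B B φ i j ∈ F₀ := fun i j => by
    rw [LinearMap.toMatrix_apply, Module.Basis.reindex_apply, Module.Basis.repr_reindex_apply]
    rcases e.symm j with ⟨k, l⟩
    rw [hb]
    split_ifs with h
    · rw [Module.Basis.repr_self, Finsupp.single_apply]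
      split_ifs
      · exact one_mem _
      · exact zero_mem _
    · rw [map_neg, map_sum, Finsupp.neg_apply, Finsupp.finsetSum_apply]
      refine neg_mem (sum_mem fun m _ => ?_)
      rw [map_smul, Module.Basis.repr_self, Finsupp.smul_apply, smul_eq_mul, Finsupp.single_apply]
      split_ifs
      · rw [mul_one]; exact hcoeff _ _
      · rw [mul_zero]; exact zero_mem _
  let G : Matrix (Fin n) (Fin n) F := Matrix.of fun i j => B j i
  have hG : IsUnit G := by
    rw [← Matrix.linearIndependent_cols_iff_isUnit]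
    exact B.linearIndependent
  refine conj_into hn hrF x ha hy ha hG.unit (Matrix.of fun i j => (⟨_, hM i j⟩ : F₀)) ?_
  rw [IsUnit.unit_spec]
  refine Matrix.ext_of_mulVec_single fun j => ?_
  have hGj : ∀ l, G *ᵥ Pi.single l 1 = B l := fun l => by rw [Matrix.mulVec_single_one]; rfl
  have h1 : (a⁻¹ • (x : Matrix (Fin n) (Fin n) F)) *ᵥ B j = ∑ i, LinearMap.toMatrix B B φ i j • B i := by
    rw [← Matrix.toLinAlgEquiv'_apply, ← hφ, ← B.sum_repr (φ (B j))]
    simp [LinearMap.toMatrix_apply]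
  rw [← Matrix.mulVec_mulVec, hGj, ← Matrix.mulVec_mulVec, Matrix.smul_mulVec, Matrix.mulVec_smul,
    show (x : Matrix (Fin n) (Fin n) F) *ᵥ B j = a • ((a⁻¹ • (x : Matrix (Fin n) (Fin n) F)) *ᵥ B j) by
      rw [Matrix.smul_mulVec, smul_inv_smul₀ ha], h1]
  congr 1
  funext l
  simp [Matrix.mulVec, dotProduct, G, Finset.sum_apply, mul_comm, Pi.single_apply]

/-- An involution of the indices. -/
theorem exists_involution {ι α : Type*} [Fintype ι] [DecidableEq α] (f : ι → α) (θ : α → α) (hθ : ∀ v, θ (θ v) = v)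
    (hc : ∀ v, Fintype.card {i // f i = θ v} = Fintype.card {i // f i = v}) :
    ∃ π : Equiv.Perm ι, π * π = 1 ∧ ∀ i, f (π i) = θ (f i) := by
  classical
  let S : Equiv ((v : α) × Fin (Fintype.card {i // f i = v})) ι :=
    (Equiv.sigmaCongrRight fun v => (Fintype.equivFin {i // f i = v}).symm).trans (Equiv.sigmaFiberEquiv f)
  let m : ((v : α) × Fin (Fintype.card {i // f i = v})) → ((v : α) × Fin (Fintype.card {i // f i = v})) :=
    fun a => ⟨θ a.1, Fin.cast (hc a.1).symm a.2⟩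
  have hext : ∀ a b : (v : α) × Fin (Fintype.card {i // f i = v}), a.1 = b.1 → (a.2 : ℕ) = b.2 → a = b := by
    rintro ⟨v, j⟩ ⟨v', j'⟩ h h'
    dsimp only at h h'
    subst h
    rw [Fin.ext h']
  have hm : Function.Involutive m := fun a => hext _ _ (hθ a.1) rfl
  refine ⟨S.symm.trans (hm.toPerm.trans S), Equiv.ext fun i => ?_, fun i => ?_⟩
  · show S (m (S.symm (S (m (S.symm i))))) = i
    rw [S.symm_apply_apply, hm, S.apply_symm_apply]
  · have hS : ∀ a, f (S a) = a.1 := fun a => ((Fintype.equivFin {i // f i = a.1}).symm a.2).2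
    show f (S (m (S.symm i))) = θ (f i)
    rw [hS]
    show θ (S.symm i).1 = θ (f i)
    rw [← hS (S.symm i), S.apply_symm_apply]

/-- Powers in the cyclic group of units. -/
theorem exists_root {u : F} {l m : ℕ} (hlm : Fintype.card F - 1 = l * m) (hu : u ^ m = 1) : ∃ b : F, b ≠ 0 ∧ b ^ l = u := by
  classical
  have hN : 0 < Fintype.card F - 1 := by have := Fintype.one_lt_card (α := F); omega
  have hm0 : 0 < m := Nat.pos_of_ne_zero fun e => by rw [e, mul_zero] at hlm; omega
  have hu0 : u ≠ 0 := fun e => by rw [e, zero_pow hm0.ne'] at hu; exact zero_ne_one hu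
  obtain ⟨g, hg⟩ := IsCyclic.exists_generator (α := Fˣ)
  obtain ⟨e, he⟩ := (mem_powers_iff_mem_zpowers).2 (hg (Units.mk0 u hu0))
  simp only at he
  have hgo : orderOf g = Fintype.card F - 1 := by
    rw [orderOf_eq_card_of_forall_mem_zpowers hg, Nat.card_eq_fintype_card, Fintype.card_units]
  have : orderOf g ∣ e * m := orderOf_dvd_of_pow_eq_one (by rw [pow_mul, he]; exact Units.ext (by simpa using hu))
  rw [hgo, hlm] at this
  obtain ⟨t, rfl⟩ : l ∣ e := Nat.dvd_of_mul_dvd_mul_right hm0 this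
  exact ⟨((g ^ t : Fˣ) : F), Units.ne_zero _, by rw [← Units.val_pow_eq_pow_val, ← pow_mul, mul_comm, he, Units.val_mk0]⟩

/-- Eigenvalue multisets closed under `v ↦ ρ / v` are realised over a subfield of index two. -/
theorem pos_pairs {p : ℕ} [Fact p.Prime] [CharP F p] (hn : 1 ≤ n) (hrF : (r : F) ≠ 0)
    (hq : Fintype.card F = Nat.card F₀ ^ 2) (hr0 : r ∣ Nat.card F₀ + 1) (x : Matrix.SpecialLinearGroup (Fin n) F)
    {a : F} (ha : a ≠ 0) (hy : (a⁻¹ • (x : Matrix (Fin n) (Fin n) F)) ^ r = 1) (G : GL (Fin n) F) (lam : Fin n → F)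
    (hlam : ∀ j, lam j ^ r = 1)
    (hG : (x : Matrix (Fin n) (Fin n) F) * G = (G : Matrix (Fin n) (Fin n) F) * (a • Matrix.diagonal lam))
    {ρ : F} (hρ : ρ ^ r = 1) (π : Equiv.Perm (Fin n)) (hπ : π * π = 1) (hπl : ∀ j, lam (π j) = ρ * (lam j)⁻¹) :
    ∃ P : Matrix.SpecialLinearGroup (Fin n) F, P⁻¹ * x * P ∈ ((Cfsg.Geo.subfieldSubgroup F₀ 1).comap
      (Matrix.SpecialLinearGroup.toGL : Matrix.SpecialLinearGroup (Fin n) F →* GL (Fin n) F)) := by
  classical
  obtain ⟨σ, hσ, hfix, -⟩ := frob (F := F) (F₀ := F₀) (p := p)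
  have hq1 : 1 < Nat.card F₀ := Finite.one_lt_card
  have hne : ∀ {v : F}, v ^ r = 1 → v ≠ 0 := fun {v} hv e => by
    rcases Nat.eq_zero_or_pos r with h | h
    · exact hrF (by rw [h, Nat.cast_zero])
    · rw [e, zero_pow h.ne'] at hv; exact zero_ne_one hv
  have hinv : ∀ {v : F}, v ^ r = 1 → v ^ Nat.card F₀ = v⁻¹ := fun {v} hv => by
    obtain ⟨t, ht⟩ := hr0
    refine eq_inv_of_mul_eq_one_left ?_
    rw [← pow_succ, ht, pow_mul, hv, one_pow]
  obtain ⟨b, hb0, hb⟩ := exists_root (F := F) (u := ρ⁻¹) (l := Nat.card F₀ - 1) (m := Nat.card F₀ + 1) (by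
    rw [hq, mul_comm, ← Nat.sq_sub_sq, one_pow]) (by
    obtain ⟨t, ht⟩ := hr0
    rw [ht, inv_pow, pow_mul, hρ, one_pow, inv_one])
  have hbq : b ^ Nat.card F₀ = b * ρ⁻¹ := by
    rw [← hb, ← pow_succ', Nat.sub_add_cancel hq1.le]
  let d : Fin n → F := fun j => lam j * b⁻¹
  have hd : ∀ j, σ (d j) = d (π j) := fun j => by
    simp only [d, hσ, mul_pow, inv_pow, hinv (hlam j), hbq, hπl]
    have := hne hρ
    field_simp
  let σe : F ≃+* F := RingEquiv.ofBijective σ ⟨σ.injective, Finite.surjective_of_injective σ.injective⟩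
  have hσe : ∀ v, σe v = σ v := fun v => rfl
  have hσ2 : σe ^ 2 = 1 := RingEquiv.ext fun v => by
    show σ (σ v) = v
    rw [hσ, hσ, ← pow_mul, ← pow_two, ← hq, FiniteField.pow_card]
  let Pm : Matrix (Fin n) (Fin n) F := Matrix.of fun i j => if π i = j then 1 else 0
  have hπ' : ∀ i, π (π i) = i := fun i => Equiv.ext_iff.1 hπ i
  have hPm : Pm * Pm = 1 := by
    ext i j
    simp [Pm, Matrix.mul_apply, Matrix.one_apply]
    rw [Finset.sum_eq_single (π i) (fun l _ hl => by simp [Ne.symm hl]) (by simp)]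
    simp [hπ']
  let g : GL (Fin n) F := ⟨Pm, Pm, hPm, hPm⟩
  have hgσ : Matrix.GeneralLinearGroup.map (σe : F →+* F) g = g := Units.ext (by
    ext i j
    show σ (Pm i j) = Pm i j
    simp only [Pm, Matrix.of_apply]
    split_ifs <;> simp)
  have hnorm : CfsgLib.KnownC.normProd σe g (orderOf σe) = 1 := by
    have h2 : orderOf σe ∣ 2 := orderOf_dvd_of_pow_eq_one hσ2
    rcases (Nat.dvd_prime Nat.prime_two).1 h2 with h | h
    · exfalso
      rw [orderOf_eq_one_iff] at h
      haveI : Fintype F₀ := Fintype.ofFinite _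
      have hall : ∀ v : F, v ∈ F₀ := fun v => (hfix v).2 (by rw [← hσe, h]; rfl)
      have hc : Fintype.card F ≤ Nat.card F₀ := by
        rw [← Nat.card_eq_fintype_card]
        exact Nat.card_le_card_of_injective (fun v => (⟨v, hall v⟩ : F₀)) fun u v huv => congrArg Subtype.val huv
      rw [hq] at hc
      nlinarith
    · rw [h, CfsgLib.KnownC.normProd_succ, CfsgLib.KnownC.normProd_succ, CfsgLib.KnownC.normProd_zero, map_one,
        mul_one, hgσ]
      exact Units.ext hPm
  obtain ⟨h, hh⟩ := CfsgLib.KnownC.exists_descent σe g hnorm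
  let W : Matrix (Fin n) (Fin n) F := ((h⁻¹ : GL (Fin n) F) : Matrix (Fin n) (Fin n) F) * Matrix.diagonal d * (h : Matrix (Fin n) (Fin n) F)
  have hσh : (h : Matrix (Fin n) (Fin n) F).map σ = Pm * (h : Matrix (Fin n) (Fin n) F) := by
    have := congrArg Units.val hh
    rw [Units.val_mul] at this
    conv_rhs => rw [← this]
    show _ = Pm * (Pm * _)
    rw [← mul_assoc, hPm, one_mul]
    rfl
  have hσhi : (((h⁻¹ : GL (Fin n) F) : Matrix (Fin n) (Fin n) F)).map σ = ((h⁻¹ : GL (Fin n) F) : Matrix (Fin n) (Fin n) F) * Pm := by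
    refine left_inv_eq_right_inv (a := (h : Matrix (Fin n) (Fin n) F).map σ) ?_ ?_
    · rw [← Matrix.map_mul, Units.inv_mul, Matrix.map_one σ (map_zero σ) (map_one σ)]
    · rw [hσh, mul_assoc, ← mul_assoc (h : Matrix (Fin n) (Fin n) F), Units.mul_inv, one_mul, hPm]
  have hW : ∀ i j, W i j ∈ F₀ := fun i j => by
    rw [hfix]
    have : W.map σ = W := by
      simp only [W]
      rw [Matrix.map_mul, Matrix.map_mul, hσh, hσhi, Matrix.diagonal_map (map_zero σ)]
      simp only [mul_assoc]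
      congr 1
      rw [← mul_assoc, ← mul_assoc]
      congr 1
      ext i j
      have e1 : π i = j ↔ i = π j := ⟨fun e => by rw [← e, hπ'], fun e => by rw [e, hπ']⟩
      simp [Pm, Matrix.mul_apply, Matrix.diagonal_apply, hd]
      rw [Finset.sum_eq_single (π i) (fun l _ hl => by simp [Ne.symm hl]) (by simp)]
      simp [hπ']
    exact congrFun (congrFun this i) j
  refine conj_into hn hrF x ha hy (mul_ne_zero ha hb0) (G * h) (Matrix.of fun i j => (⟨W i j, hW i j⟩ : F₀)) ?_
  rw [show (Matrix.of fun i j => (⟨W i j, hW i j⟩ : F₀)).map (F₀.subtype : F₀ →+* F) = W from rfl, Units.val_mul,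
    ← mul_assoc, hG, mul_assoc, mul_assoc]
  congr 1
  rw [Algebra.smul_mul_assoc, Algebra.mul_smul_comm, mul_smul]
  congr 1
  show _ = b • ((h : Matrix (Fin n) (Fin n) F) * (_ * Matrix.diagonal d * _))
  rw [← mul_assoc, ← mul_assoc, Units.mul_inv, one_mul, ← Algebra.smul_mul_assoc]
  congr 1
  ext i j
  simp only [Matrix.smul_apply, Matrix.diagonal_apply, smul_eq_mul]
  split_ifs
  · simp only [d]; field_simp
  · rw [mul_zero]

end

section

variable {F : Type u} [Field F] [Fintype F] {F₀ : Subfield F} {n r : ℕ}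

theorem index_facts :
    ∃ c, ((Cfsg.Geo.subfieldSubgroup F₀ 1).comap (Matrix.SpecialLinearGroup.toGL : Matrix.SpecialLinearGroup (Fin n) F →* GL (Fin n) F)).index * c *
      Nat.card (Matrix.SpecialLinearGroup (Fin n) F₀) = Nat.card (Matrix.SpecialLinearGroup (Fin n) F) := by
  classical
  set H := ((Cfsg.Geo.subfieldSubgroup F₀ 1).comap (Matrix.SpecialLinearGroup.toGL : Matrix.SpecialLinearGroup (Fin n) F →* GL (Fin n) F)) with hH
  have hmem : ∀ y : Matrix.SpecialLinearGroup (Fin n) F₀, Matrix.SpecialLinearGroup.map (F₀.subtype : F₀ →+* F) y ∈ H := fun y => by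
    rw [hH, Subgroup.mem_comap, mem_iff]
    refine ⟨Matrix.SpecialLinearGroup.toGL y, 1, ?_⟩
    rw [Units.val_one, one_smul]
    rfl
  let f := (Matrix.SpecialLinearGroup.map (n := Fin n) (F₀.subtype : F₀ →+* F)).codRestrict H hmem
  have hf : Function.Injective f := fun x y h => by
    ext i j
    have := congrFun (congrFun (congrArg Subtype.val (congrArg Subtype.val h)) i) j
    simpa [f] using this
  obtain ⟨c, hc⟩ := Subgroup.card_dvd_of_injective f hf
  refine ⟨c, ?_⟩
  rw [← H.index_mul_card, hc]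
  ring

/-- If `k` does not divide the order of `q₀` modulo `r`, the index is prime to `r`. -/
theorem index_not_dvd [Fact r.Prime] (hn : 1 ≤ n) {k : ℕ} (hk : k.Prime) (hrk : r ≠ k)
    (hq : Fintype.card F = Nat.card F₀ ^ k) (hki : ¬ k ∣ orderOf (Nat.card F₀ : ZMod r))
    (hra : ¬ r ∣ Nat.card F₀) :
    ¬ r ∣ ((Cfsg.Geo.subfieldSubgroup F₀ 1).comap (Matrix.SpecialLinearGroup.toGL : Matrix.SpecialLinearGroup (Fin n) F →* GL (Fin n) F)).index := by
  classical
  have hr : r.Prime := Fact.out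
  haveI : Fintype F₀ := Fintype.ofFinite _
  obtain ⟨c, hc⟩ := index_facts (F := F) (F₀ := F₀) (n := n)
  have h1 := CfsgLib.Classical.card_sl_mul (F := F) hn
  have h0 := CfsgLib.Classical.card_sl_mul (F := F₀) hn
  rw [← Nat.card_eq_fintype_card (α := F₀)] at h0
  rw [hq] at h1
  have ha1 : 1 < Nat.card F₀ := Finite.one_lt_card
  obtain ⟨a, ha⟩ : ∃ a, Nat.card F₀ = a := ⟨_, rfl⟩
  rw [ha] at h0 h1 hki hra ha1
  have geom : ∀ j : ℕ, ∃ s, ¬ r ∣ s ∧ (a ^ j) ^ k - 1 = (a ^ j - 1) * s := fun j => by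
    refine ⟨∑ l ∈ Finset.range k, (a ^ j) ^ l, fun hdvd => ?_, ?_⟩
    · rw [← ZMod.natCast_eq_zero_iff] at hdvd
      simp only [Nat.cast_sum, Nat.cast_pow] at hdvd
      have h2 := geom_sum_mul ((a : ZMod r) ^ j) k
      rw [hdvd, zero_mul] at h2
      have h3 : (((a : ZMod r) ^ j)) ^ k = 1 := sub_eq_zero.1 h2.symm
      have h4 : (a : ZMod r) ^ j = 1 := by
        rw [← orderOf_eq_one_iff]
        have d1 : orderOf ((a : ZMod r) ^ j) ∣ k := orderOf_dvd_of_pow_eq_one h3
        have d2 : orderOf ((a : ZMod r) ^ j) ∣ orderOf (a : ZMod r) := orderOf_pow_dvd _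
        rcases (Nat.dvd_prime hk).1 d1 with h | h
        · exact h
        · exact absurd (h ▸ d2) hki
      rw [h4] at hdvd
      simp only [one_pow, Finset.sum_const, Finset.card_range, nsmul_eq_mul, mul_one] at hdvd
      exact hrk ((Nat.prime_dvd_prime_iff_eq hr hk).1 ((ZMod.natCast_eq_zero_iff _ r).1 hdvd))
    · have h := geom_sum_mul_add (a ^ j - 1) k
      rw [Nat.sub_add_cancel (Nat.one_le_pow _ _ (by omega))] at h
      rw [mul_comm]
      omega
  have hprod : ∀ s : Finset (Fin n), ∃ b, ¬ r ∣ b ∧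
      ∏ i ∈ s, ((a ^ k) ^ n - (a ^ k) ^ (i : ℕ)) = (∏ i ∈ s, (a ^ n - a ^ (i : ℕ))) * b := by
    intro s
    induction s using Finset.induction_on with
    | empty => exact ⟨1, hr.not_dvd_one, by simp⟩
    | insert i s hi ih =>
      obtain ⟨b, hb, hbe⟩ := ih
      obtain ⟨j, hj⟩ : ∃ j, n = (i : ℕ) + j := ⟨n - i, by omega⟩
      obtain ⟨t, ht, hte⟩ := geom j
      obtain ⟨u, hu, hue⟩ : ∃ u, ¬ r ∣ u ∧ (a ^ k) ^ (i : ℕ) = a ^ (i : ℕ) * u := by
        refine ⟨a ^ ((i : ℕ) * (k - 1)), fun h => hra (hr.dvd_of_dvd_pow h), ?_⟩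
        rw [← pow_mul, ← pow_add]
        congr 1
        obtain ⟨k', rfl⟩ : ∃ k', k = k' + 1 := ⟨k - 1, by have := hk.pos; omega⟩
        simp; ring
      refine ⟨b * (u * t), hr.not_dvd_mul hb (hr.not_dvd_mul hu ht), ?_⟩
      rw [Finset.prod_insert hi, Finset.prod_insert hi, hbe]
      have e1 : (a ^ k) ^ n - (a ^ k) ^ (i : ℕ) = (a ^ n - a ^ (i : ℕ)) * (u * t) := by
        have e2 : ∀ b : ℕ, b ^ n = b ^ (i : ℕ) * b ^ j := fun b => by rw [← pow_add, ← hj]
        rw [e2, e2, ← Nat.mul_sub_one, ← Nat.mul_sub_one, hue,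
          show (a ^ k) ^ j = (a ^ j) ^ k by rw [← pow_mul, ← pow_mul, mul_comm], hte]
        ring
      rw [e1]; ring
  obtain ⟨b, hb, hbe⟩ := hprod Finset.univ
  obtain ⟨t, ht, hte⟩ := geom 1
  rw [pow_one] at hte
  rw [hbe, ← h0, hte] at h1
  have hmain : t * Nat.card (Matrix.SpecialLinearGroup (Fin n) F) = Nat.card (Matrix.SpecialLinearGroup (Fin n) F₀) * b :=
    Nat.eq_of_mul_eq_mul_left (show 0 < a - 1 by omega) (by rw [← mul_assoc, h1]; ring)
  intro hdvd
  rw [← hc] at hmain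
  have h3 : t * (((Cfsg.Geo.subfieldSubgroup F₀ 1).comap (Matrix.SpecialLinearGroup.toGL : Matrix.SpecialLinearGroup (Fin n) F →* GL (Fin n) F)).index * c) = b :=
    Nat.eq_of_mul_eq_mul_left (Nat.card_pos (α := Matrix.SpecialLinearGroup (Fin n) F₀)) (by rw [← hmain]; ring)
  exact hb (h3 ▸ (hdvd.mul_right c).mul_left t)

/-- In dimension two with `q = q₀²` the index is prime to the divisors of `q₀ + 1`. -/
theorem index_two [Fact r.Prime] (hr2 : r ≠ 2) (hq : Fintype.card F = Nat.card F₀ ^ 2) (hr0 : r ∣ Nat.card F₀ + 1) :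
    ¬ r ∣ ((Cfsg.Geo.subfieldSubgroup F₀ 1).comap (Matrix.SpecialLinearGroup.toGL : Matrix.SpecialLinearGroup (Fin 2) F →* GL (Fin 2) F)).index := by
  classical
  have hr : r.Prime := Fact.out
  haveI : Fintype F₀ := Fintype.ofFinite _
  obtain ⟨c, hc⟩ := index_facts (F := F) (F₀ := F₀) (n := 2)
  have h1 := CfsgLib.Classical.card_sl_mul (F := F) (show 1 ≤ 2 by omega)
  have h0 := CfsgLib.Classical.card_sl_mul (F := F₀) (show 1 ≤ 2 by omega)
  rw [← Nat.card_eq_fintype_card (α := F₀), Fin.prod_univ_two] at h0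
  rw [hq, Fin.prod_univ_two] at h1
  have hA : 2 ≤ Nat.card F₀ := Finite.one_lt_card
  obtain ⟨a, ha⟩ : ∃ a, Nat.card F₀ = a := ⟨_, rfl⟩
  rw [ha] at h0 h1 hr0 hA
  obtain ⟨a', rfl⟩ : ∃ a', a = a' + 1 := ⟨a - 1, by omega⟩
  simp only [Fin.val_zero, Fin.val_one, pow_zero, pow_one, Nat.add_sub_cancel] at h0 h1
  have e0 : (a' + 1) ^ 2 - 1 = a' * (a' + 2) := by
    rw [show (a' + 1) ^ 2 = a' * (a' + 2) + 1 by ring, Nat.add_sub_cancel]
  have e1 : (a' + 1) ^ 2 - (a' + 1) = a' * (a' + 1) := by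
    rw [show (a' + 1) ^ 2 = a' * (a' + 1) + (a' + 1) by ring, Nat.add_sub_cancel]
  have e2 : ((a' + 1) ^ 2) ^ 2 - 1 = a' * (a' + 2) * ((a' + 1) ^ 2 + 1) := by
    rw [show ((a' + 1) ^ 2) ^ 2 = a' * (a' + 2) * ((a' + 1) ^ 2 + 1) + 1 by ring, Nat.add_sub_cancel]
  have e3 : ((a' + 1) ^ 2) ^ 2 - (a' + 1) ^ 2 = (a' + 1) ^ 2 * (a' * (a' + 2)) := by
    rw [show ((a' + 1) ^ 2) ^ 2 = (a' + 1) ^ 2 * (a' * (a' + 2)) + (a' + 1) ^ 2 by ring, Nat.add_sub_cancel]
  rw [e0, e1] at h0
  rw [e0, e2, e3] at h1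
  have g0 : Nat.card (Matrix.SpecialLinearGroup (Fin 2) F₀) = (a' + 1) * (a' * (a' + 2)) :=
    Nat.eq_of_mul_eq_mul_left (show 0 < a' by omega) (by rw [h0]; ring)
  have g1 : Nat.card (Matrix.SpecialLinearGroup (Fin 2) F) = (a' + 1) ^ 2 * (a' * (a' + 2)) * ((a' + 1) ^ 2 + 1) :=
    Nat.eq_of_mul_eq_mul_left (show 0 < a' * (a' + 2) from Nat.mul_pos (by omega) (by omega)) (by rw [h1]; ring)
  rw [g0, g1] at hc
  have h3 : ((Cfsg.Geo.subfieldSubgroup F₀ 1).comap (Matrix.SpecialLinearGroup.toGL : Matrix.SpecialLinearGroup (Fin 2) F →* GL (Fin 2) F)).index * c = (a' + 1) * ((a' + 1) ^ 2 + 1) :=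
    Nat.eq_of_mul_eq_mul_left (show 0 < (a' + 1) * (a' * (a' + 2)) from Nat.mul_pos (by omega) (Nat.mul_pos (by omega) (by omega)))
      (by rw [mul_comm, hc]; ring)
  intro hdvd
  have h4 := h3 ▸ hdvd.mul_right c
  rw [← ZMod.natCast_eq_zero_iff] at h4 hr0
  push_cast at h4 hr0
  have hm : (a' : ZMod r) + 1 = -1 := eq_neg_of_add_eq_zero_left hr0
  rw [hm, neg_one_sq, neg_one_mul, neg_eq_zero, show (1 : ZMod r) + 1 = ((2 : ℕ) : ZMod r) by norm_num, ZMod.natCast_eq_zero_iff] at h4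
  exact hr2 ((Nat.prime_dvd_prime_iff_eq hr Nat.prime_two).1 h4)

/-- The rank does not change under field extension. -/
theorem rank_map_subfield (N : Matrix (Fin n) (Fin n) F₀) :
    (N.map (F₀.subtype : F₀ →+* F)).rank = N.rank := by
  classical
  let ι : (Fin n → F₀) →ₗ[F₀] (Fin n → F) :=
    { toFun := fun v i => (v i : F)
      map_add' := fun _ _ => rfl
      map_smul' := fun _ _ => rfl }
  let b := Module.finBasis F₀ ↥(LinearMap.range N.mulVecLin)
  have hli : LinearIndependent F fun i => ι (b i : Fin n → F₀) := by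
    obtain ⟨π, hπ⟩ := (Algebra.linearMap F₀ F).exists_leftInverse_of_injective
      (LinearMap.ker_eq_bot.2 (algebraMap F₀ F).injective)
    rw [Fintype.linearIndependent_iff]
    intro c hc i
    by_contra hne
    have hzero : ∀ t : F, π (t * c i) = 0 := fun t => by
      refine Fintype.linearIndependent_iff.1 (b.linearIndependent.map' (LinearMap.range N.mulVecLin).subtype (Submodule.ker_subtype _))
        (fun l => π (t * c l)) (funext fun m => ?_) i
      have h1 := congrArg (fun v : Fin n → F => π (t * v m)) hc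
      simp only [Finset.sum_apply, Pi.smul_apply, smul_eq_mul, Finset.mul_sum, map_sum, Pi.zero_apply, mul_zero, map_zero] at h1 ⊢
      rw [← h1]
      refine Finset.sum_congr rfl fun l _ => ?_
      show π (t * c l) * (b l : Fin n → F₀) m = π (t * (c l * ((b l : Fin n → F₀) m : F)))
      rw [show t * (c l * ((b l : Fin n → F₀) m : F)) = (b l : Fin n → F₀) m • (t * c l) by
        rw [Subfield.smul_def, smul_eq_mul]; ring, map_smul, smul_eq_mul, mul_comm]
    have := hzero (c i)⁻¹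
    rw [inv_mul_cancel₀ hne] at this
    have h1 : π (1 : F) = 1 := by simpa using LinearMap.congr_fun hπ 1
    rw [h1] at this
    exact one_ne_zero this
  have hrange : LinearMap.range (N.map (F₀.subtype : F₀ →+* F)).mulVecLin = Submodule.span F (Set.range fun i => ι (b i : Fin n → F₀)) := by
    refine le_antisymm ?_ (Submodule.span_le.2 ?_)
    · rw [Matrix.range_mulVecLin, Submodule.span_le]
      rintro _ ⟨j, rfl⟩
      have hmem : N.col j ∈ LinearMap.range N.mulVecLin := ⟨Pi.single j 1, by rw [Matrix.mulVecLin_apply, Matrix.mulVec_single_one]⟩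
      have h1 : (N.map (F₀.subtype : F₀ →+* F)).col j = ι ((⟨_, hmem⟩ : ↥(LinearMap.range N.mulVecLin)) : Fin n → F₀) := rfl
      rw [SetLike.mem_coe, h1, ← b.sum_repr ⟨_, hmem⟩, Submodule.coe_sum, map_sum]
      refine Submodule.sum_mem _ fun i _ => ?_
      rw [Submodule.coe_smul, map_smul, Subfield.smul_def]
      exact Submodule.smul_mem _ _ (Submodule.subset_span ⟨i, rfl⟩)
    · rintro _ ⟨i, rfl⟩
      obtain ⟨v, hv⟩ := (b i).2
      refine ⟨ι v, ?_⟩
      funext m
      rw [Matrix.mulVecLin_apply]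
      have := RingHom.map_mulVec (F₀.subtype : F₀ →+* F) N v m
      rw [show N *ᵥ v = (b i : Fin n → F₀) from hv] at this
      exact this.symm
  rw [Matrix.rank, Matrix.rank, hrange, finrank_span_eq_card hli, Fintype.card_fin]

/-- The kernel dimension of a matrix. -/
theorem ker_rank {K : Type*} [Field K] (A : Matrix (Fin n) (Fin n) K) :
    A.rank + Module.finrank K ↥(LinearMap.ker (Matrix.toLinAlgEquiv' A)) = n := by
  have h := (Matrix.toLinAlgEquiv' A).finrank_range_add_finrank_ker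
  rw [Module.finrank_fin_fun] at h
  exact h

/-- Scalars with `r`-th power in the subfield. -/
theorem scalar_mem [Fact r.Prime] (hnd : ¬ r ∣ Fintype.card F - 1) (hnd0 : ¬ r ∣ Nat.card F₀ - 1) {b : F} (hb0 : b ≠ 0)
    (hb : b ^ r ∈ F₀) : b ∈ F₀ := by
  classical
  haveI : Fintype F₀ := Fintype.ofFinite _
  have hr : r.Prime := Fact.out
  have hcop0 : (Nat.card F₀ˣ).Coprime r := by
    rw [Nat.card_units]; exact ((hr.coprime_iff_not_dvd).2 hnd0).symm
  obtain ⟨d, hd⟩ := (powCoprime hcop0).surjective (Units.mk0 ⟨b ^ r, hb⟩ fun e => pow_ne_zero r hb0 (congrArg Subtype.val e))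
  have hd' : ((d : F₀) : F) ^ r = b ^ r := by simpa using congrArg (fun z : F₀ˣ => ((z : F₀) : F)) hd
  have hcop : (Nat.card Fˣ).Coprime r := by
    rw [Nat.card_units, Nat.card_eq_fintype_card]; exact ((hr.coprime_iff_not_dvd).2 hnd).symm
  have := (powCoprime hcop).injective (a₁ := Units.mk0 ((d : F₀) : F) fun e => d.ne_zero (Subtype.ext e))
    (a₂ := Units.mk0 b hb0) (Units.ext (by simpa using hd'))
  rw [← show ((d : F₀) : F) = b from congrArg Units.val this]
  exact (d : F₀).2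

/-- The witness with one eigen-orbit. -/
theorem neg_fixed {p : ℕ} [Fact p.Prime] [CharP F p] [Fact r.Prime] {c : ℕ} (hc : orderOf (Fintype.card F : ZMod r) = c)
    (hc2 : 2 ≤ c) (hnd0 : ¬ r ∣ Nat.card F₀ - 1) (hrp : r ≠ p) (hi : c < orderOf (Nat.card F₀ : ZMod r)) (hcn : c ≤ n) :
    ∃ x : Matrix.SpecialLinearGroup (Fin n) F,
      (∃ z : F, ((x ^ r : Matrix.SpecialLinearGroup (Fin n) F) : Matrix (Fin n) (Fin n) F) = z • (1 : Matrix (Fin n) (Fin n) F)) ∧
      (∀ z : F, (x : Matrix (Fin n) (Fin n) F) ≠ z • 1) ∧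
      ∀ P : Matrix.SpecialLinearGroup (Fin n) F, P⁻¹ * x * P ∉ ((Cfsg.Geo.subfieldSubgroup F₀ 1).comap
        (Matrix.SpecialLinearGroup.toGL : Matrix.SpecialLinearGroup (Fin n) F →* GL (Fin n) F)) := by
  classical
  haveI : Fintype F₀ := Fintype.ofFinite _
  obtain ⟨e, rfl⟩ : ∃ e, n = e + c * 1 := ⟨n - c, by omega⟩
  haveI hne : Nonempty (Fin (e + c * 1)) := ⟨⟨0, by omega⟩⟩
  have hr : r.Prime := Fact.out
  have hnd : ¬ r ∣ Fintype.card F - 1 := fun h => by
    have := (SemiCriterion.order_eq_one_iff (F := F) (r := r)).2 h; omega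
  have hcop : (Nat.card Fˣ).Coprime r := by
    rw [Nat.card_units, Nat.card_eq_fintype_card]; exact ((hr.coprime_iff_not_dvd).2 hnd).symm
  have hroot : ∀ z : F, z ^ r = 1 → z = 1 := fun z hz => by
    have hz0 : z ≠ 0 := fun e => by rw [e, zero_pow hr.ne_zero] at hz; exact zero_ne_one hz
    exact congrArg Units.val ((powCoprime hcop).injective (a₁ := Units.mk0 z hz0) (a₂ := 1) (Units.ext (by simpa using hz)))
  obtain ⟨A, hA, hE⟩ := SemiWitness.exists_fixed (F := F) (p := p) (r := r) (e := e) (B := 1) (i := c) (by omega)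
    (hc ▸ SemiCriterion.dvd_pow_order)
  let x : Matrix.SpecialLinearGroup (Fin (e + c * 1)) F := ⟨A, hroot _ (by rw [← Matrix.det_pow, hA, Matrix.det_one])⟩
  refine ⟨x, ⟨1, by rw [Matrix.SpecialLinearGroup.coe_pow, one_smul]; exact hA⟩, fun z hz => ?_, fun P hP => ?_⟩
  · change A = z • 1 at hz
    have hz1 : z = 1 := hroot z (by
      have h := hA
      rw [hz, _root_.smul_pow, one_pow] at h
      simpa using congrFun (congrFun h (Classical.arbitrary _)) (Classical.arbitrary _))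
    rw [hz, hz1, one_smul, map_one, sub_self, LinearMap.ker_zero, finrank_top, Module.finrank_fin_fun] at hE
    omega
  rw [Subgroup.mem_comap, mem_iff] at hP
  obtain ⟨h, b, hb⟩ := hP
  let φ : Matrix (Fin (e + c * 1)) (Fin (e + c * 1)) F₀ →+* Matrix (Fin (e + c * 1)) (Fin (e + c * 1)) F :=
    (F₀.subtype : F₀ →+* F).mapMatrix
  have hy : ((P⁻¹ * x * P : Matrix.SpecialLinearGroup (Fin (e + c * 1)) F) : Matrix (Fin (e + c * 1)) (Fin (e + c * 1)) F) ^ r = 1 := by
    rw [← Matrix.SpecialLinearGroup.coe_pow, show ((P⁻¹ * x * P) ^ r : Matrix.SpecialLinearGroup (Fin (e + c * 1)) F) = P⁻¹ * x ^ r * P by simpa using conj_pow (i := r) (a := P⁻¹) (b := x),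
      show x ^ r = 1 from Subtype.ext (by rw [Matrix.SpecialLinearGroup.coe_pow]; exact hA), mul_one P⁻¹, inv_mul_cancel,
      Matrix.SpecialLinearGroup.coe_one]
  change ((P⁻¹ * x * P : Matrix.SpecialLinearGroup (Fin (e + c * 1)) F) : Matrix (Fin (e + c * 1)) (Fin (e + c * 1)) F) = (b : F) • φ h at hb
  have hbr : (b : F) ^ r ∈ F₀ := by
    rw [hb, _root_.smul_pow, ← map_pow] at hy
    have h2 := congrFun (congrFun hy (Classical.arbitrary _)) (Classical.arbitrary _)
    simp only [Matrix.one_apply_eq, Matrix.smul_apply, φ, RingHom.mapMatrix_apply, Matrix.map_apply, smul_eq_mul] at h2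
    rw [eq_inv_of_mul_eq_one_left h2]
    exact F₀.inv_mem (SetLike.coe_mem _)
  have hbmem : (b : F) ∈ F₀ := scalar_mem hnd hnd0 b.ne_zero hbr
  let M : Matrix (Fin (e + c * 1)) (Fin (e + c * 1)) F₀ := (⟨(b : F), hbmem⟩ : F₀) • (h : Matrix _ _ F₀)
  have hM : φ M = ((P⁻¹ * x * P : Matrix.SpecialLinearGroup (Fin (e + c * 1)) F) : Matrix (Fin (e + c * 1)) (Fin (e + c * 1)) F) := by
    rw [hb]
    ext i j
    simp [φ, M]
  have hMr : M ^ r = 1 := Matrix.map_injective (F₀.subtype : F₀ →+* F).injective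
    (show φ (M ^ r) = φ 1 by rw [map_pow, map_one, hM, hy])
  have hrank : (M - 1).rank = (A - 1).rank := by
    rw [← rank_map_subfield (F := F), show (M - 1).map (F₀.subtype : F₀ →+* F) = φ (M - 1) from rfl, map_sub, map_one, hM]
    have h1 : ((P⁻¹ * x * P : Matrix.SpecialLinearGroup (Fin (e + c * 1)) F) : Matrix (Fin (e + c * 1)) (Fin (e + c * 1)) F) - 1 =
        ((P⁻¹ : Matrix.SpecialLinearGroup (Fin (e + c * 1)) F) : Matrix (Fin (e + c * 1)) (Fin (e + c * 1)) F) * (A - 1) * (P : Matrix (Fin (e + c * 1)) (Fin (e + c * 1)) F) := by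
      rw [mul_sub, sub_mul, mul_one ((P⁻¹ : Matrix.SpecialLinearGroup (Fin (e + c * 1)) F) : Matrix (Fin (e + c * 1)) (Fin (e + c * 1)) F), ← Matrix.SpecialLinearGroup.coe_mul P⁻¹ P, inv_mul_cancel, Matrix.SpecialLinearGroup.coe_one]
      rfl
    rw [h1, Matrix.rank_mul_eq_left_of_isUnit_det _ _ (by rw [P.2]; exact isUnit_one),
      Matrix.rank_mul_eq_right_of_isUnit_det _ _ (by rw [(P⁻¹).2]; exact isUnit_one)]
  have k1 := ker_rank (A - 1)
  have k0 := ker_rank (M - 1)
  rw [map_sub, map_one] at k1 k0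
  rw [hE] at k1
  have hrF0 : (r : F₀) ≠ 0 := fun h0 => SemiCriterion.cast_ne (F := F) (p := p) hrp (by
    simpa using congrArg (F₀.subtype : F₀ →+* F) h0)
  have hmod := SemiDims.finrank_modEq hrF0 (T := Matrix.toLinAlgEquiv' M) (r := r) (by rw [← map_pow, hMr, map_one]) (U := ⊤) le_top
  rw [finrank_top, top_inf_eq, Module.finrank_fin_fun, ← Nat.card_eq_fintype_card] at hmod
  have hd := (Nat.modEq_iff_dvd' (by omega)).1 hmod.symm
  rw [show e + c * 1 - Module.finrank F₀ ↥(LinearMap.ker (Matrix.toLinAlgEquiv' M - 1)) = c by omega] at hd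
  have := Nat.le_of_dvd (by omega) hd
  omega

/-- Diagonal witnesses. -/
theorem neg_diag {p : ℕ} [Fact p.Prime] [CharP F p] [Fact r.Prime] (S : Multiset F) (hS : Multiset.card S = n)
    (hroots : ∀ s ∈ S, s ^ r = 1) {a : F} (hdet : a ^ n * S.prod = 1) {s₁ s₂ : F} (h₁ : s₁ ∈ S) (h₂ : s₂ ∈ S)
    (hne : s₁ ≠ s₂) (hno : ∀ ρ : F, ρ ≠ 0 → S.map (fun t => t ^ Nat.card F₀ * ρ) ≠ S) :
    ∃ x : Matrix.SpecialLinearGroup (Fin n) F,
      (∃ z : F, ((x ^ r : Matrix.SpecialLinearGroup (Fin n) F) : Matrix (Fin n) (Fin n) F) = z • (1 : Matrix (Fin n) (Fin n) F)) ∧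
      (∀ z : F, (x : Matrix (Fin n) (Fin n) F) ≠ z • 1) ∧
      ∀ P : Matrix.SpecialLinearGroup (Fin n) F, P⁻¹ * x * P ∉ ((Cfsg.Geo.subfieldSubgroup F₀ 1).comap
        (Matrix.SpecialLinearGroup.toGL : Matrix.SpecialLinearGroup (Fin n) F →* GL (Fin n) F)) := by
  classical
  obtain ⟨σ, hσ, hfix, -⟩ := frob (F := F) (F₀ := F₀) (p := p)
  obtain ⟨t, ht⟩ : ∃ t : Fin n → F, Finset.univ.val.map t = S := by
    obtain ⟨l, rfl⟩ := Quotient.exists_rep S
    obtain rfl : l.length = n := hS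
    exact ⟨l.get, by rw [Fin.univ_val_map, List.ofFn_get]; rfl⟩
  have hmem : ∀ i, t i ∈ S := fun i => ht ▸ Multiset.mem_map.2 ⟨i, Finset.mem_univ i, rfl⟩
  have ha : a ≠ 0 := fun e => by
    have hn : n ≠ 0 := fun h => by
      subst h
      rw [Multiset.card_eq_zero.1 hS] at h₁
      exact Multiset.notMem_zero _ h₁
    rw [e, zero_pow hn, zero_mul] at hdet
    exact zero_ne_one hdet
  let x : Matrix.SpecialLinearGroup (Fin n) F := ⟨Matrix.diagonal fun i => a * t i, by
    rw [Matrix.det_diagonal, Finset.prod_mul_distrib, Finset.prod_const, Finset.card_univ, Fintype.card_fin,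
      Finset.prod_eq_multiset_prod, ht, hdet]⟩
  refine ⟨x, ⟨a ^ r, ?_⟩, fun z hz => ?_, fun P hP => ?_⟩
  · rw [Matrix.SpecialLinearGroup.coe_pow]
    show (Matrix.diagonal fun i => a * t i) ^ r = _
    rw [Matrix.diagonal_pow, Matrix.smul_one_eq_diagonal]
    congr 1
    funext i
    rw [Pi.pow_apply, mul_pow, hroots _ (hmem i), mul_one]
  · change (Matrix.diagonal fun i => a * t i) = z • 1 at hz
    rw [← ht, Multiset.mem_map] at h₁ h₂
    obtain ⟨i, -, rfl⟩ := h₁
    obtain ⟨j, -, rfl⟩ := h₂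
    have h1 := congrFun (congrFun hz i) i
    have h2 := congrFun (congrFun hz j) j
    simp at h1 h2
    exact hne (mul_left_cancel₀ ha (h1.trans h2.symm))
  rw [Subgroup.mem_comap, mem_iff] at hP
  obtain ⟨h, b, hb⟩ := hP
  change ((P⁻¹ * x * P : Matrix.SpecialLinearGroup (Fin n) F) : Matrix (Fin n) (Fin n) F) =
    (b : F) • (h : Matrix (Fin n) (Fin n) F₀).map (F₀.subtype : F₀ →+* F) at hb
  let U : GL (Fin n) F := Matrix.SpecialLinearGroup.toGL P
  let d : Fin n → F := fun i => (b : F)⁻¹ * (a * t i)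
  have hconj : ((U⁻¹ : GL (Fin n) F) : Matrix (Fin n) (Fin n) F) * Matrix.diagonal d * (U : Matrix (Fin n) (Fin n) F) =
      (h : Matrix (Fin n) (Fin n) F₀).map (F₀.subtype : F₀ →+* F) := by
    rw [show Matrix.diagonal d = (b : F)⁻¹ • Matrix.diagonal (fun i => a * t i) by rw [← Matrix.diagonal_smul]; rfl,
      Algebra.mul_smul_comm, Algebra.smul_mul_assoc,
      show ((U⁻¹ : GL (Fin n) F) : Matrix (Fin n) (Fin n) F) * Matrix.diagonal (fun i => a * t i) * (U : Matrix (Fin n) (Fin n) F) =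
        ((P⁻¹ * x * P : Matrix.SpecialLinearGroup (Fin n) F) : Matrix (Fin n) (Fin n) F) from rfl, hb,
      inv_smul_smul₀ b.ne_zero]
  have hpoly : (∏ i, (Polynomial.X - Polynomial.C (σ (d i)))) = ∏ i, (Polynomial.X - Polynomial.C (d i)) := by
    have h1 : ((h : Matrix (Fin n) (Fin n) F₀).map (F₀.subtype : F₀ →+* F)).charpoly = ∏ i, (Polynomial.X - Polynomial.C (d i)) := by
      rw [← hconj, Matrix.coe_units_inv, Matrix.charpoly_units_conj', Matrix.charpoly_diagonal]
    have h2 := congrArg (Polynomial.map σ) h1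
    rw [← Matrix.charpoly_map, Polynomial.map_prod] at h2
    simp only [Polynomial.map_sub, Polynomial.map_X, Polynomial.map_C] at h2
    rw [← h2, show ((h : Matrix (Fin n) (Fin n) F₀).map (F₀.subtype : F₀ →+* F)).map σ =
      (h : Matrix (Fin n) (Fin n) F₀).map (F₀.subtype : F₀ →+* F) from Matrix.ext fun i j => (hfix _).1 (SetLike.coe_mem _), h1]
  have hroots' : Finset.univ.val.map (fun i => σ (d i)) = Finset.univ.val.map d := by
    have := congrArg Polynomial.roots hpoly
    have hm : ∀ f : Fin n → F, (Finset.univ.val.map fun i => Polynomial.X - Polynomial.C (f i)) =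
        (Finset.univ.val.map f).map fun c => Polynomial.X - Polynomial.C c := fun f => by rw [Multiset.map_map]; rfl
    rw [Finset.prod_eq_multiset_prod, Finset.prod_eq_multiset_prod, hm fun i => σ (d i), hm d, Polynomial.roots_multiset_prod_X_sub_C,
      Polynomial.roots_multiset_prod_X_sub_C] at this
    exact this
  refine hno (((b : F)⁻¹ * a) ^ Nat.card F₀ * ((b : F) * a⁻¹))
    (mul_ne_zero (pow_ne_zero _ (mul_ne_zero (inv_ne_zero b.ne_zero) ha)) (mul_ne_zero b.ne_zero (inv_ne_zero ha))) ?_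
  have := congrArg (Multiset.map fun v => (b : F) * a⁻¹ * v) hroots'
  rw [Multiset.map_map, Multiset.map_map] at this
  rw [← ht, Multiset.map_map]
  convert this using 1
  · refine Multiset.map_congr rfl fun i _ => ?_
    simp only [Function.comp, d, hσ, mul_pow]
    ring
  · refine Multiset.map_congr rfl fun i _ => ?_
    have hb0 := b.ne_zero
    simp only [Function.comp, d]
    field_simp

/-- The translation is trivial. -/
theorem rho_one [Fact r.Prime] {S : Multiset F} (hS : Multiset.card S = n) (hroots : ∀ s ∈ S, s ^ r = 1) (hprod : S.prod = 1)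
    (hrn : ¬ r ∣ n) {N : ℕ} {ρ : F} (h : S.map (fun t => t ^ N * ρ) = S) : ρ = 1 := by
  have hr : r.Prime := Fact.out
  have h1 := congrArg Multiset.prod h
  rw [Multiset.prod_map_mul, Multiset.prod_map_pow, Multiset.map_id', hprod, one_pow, one_mul, Multiset.map_const',
    Multiset.prod_replicate, hS] at h1
  obtain ⟨s, hs⟩ : ∃ s, s ∈ S := by
    refine Multiset.card_pos_iff_exists_mem.1 ?_
    rw [hS]
    rcases Nat.eq_zero_or_pos n with h | h
    · exact absurd (h ▸ dvd_zero r) hrn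
    · exact h
  have h2 : (s ^ N * ρ) ^ r = 1 := hroots _ (h ▸ Multiset.mem_map_of_mem _ hs)
  rw [mul_pow, ← pow_mul, mul_comm N, pow_mul, hroots s hs, one_pow, one_mul] at h2
  have := pow_gcd_eq_one.2 ⟨h2, h1⟩
  rwa [(hr.coprime_iff_not_dvd).2 hrn, pow_one] at this

/-- `ω, ω, ω⁻²`. -/
theorem no_rho_two [Fact r.Prime] (hr2 : r ≠ 2) {ω : F} (hω : orderOf ω = r) (hn : 3 ≤ n) {N : ℕ} (hN : r ∣ N + 1)
    (h : r ∣ n → 3 < n - 3) (ρ : F) :
    (ω ::ₘ ω ::ₘ (ω⁻¹ ^ 2) ::ₘ Multiset.replicate (n - 3) 1).map (fun t => t ^ N * ρ) ≠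
      ω ::ₘ ω ::ₘ (ω⁻¹ ^ 2) ::ₘ Multiset.replicate (n - 3) 1 := by
  classical
  have hr : r.Prime := Fact.out
  have hωr : ω ^ r = 1 := hω ▸ pow_orderOf_eq_one ω
  have hω0 : ω ≠ 0 := fun e => by rw [e, zero_pow hr.ne_zero] at hωr; exact zero_ne_one hωr
  intro heq
  have hprod : (ω ::ₘ ω ::ₘ (ω⁻¹ ^ 2) ::ₘ Multiset.replicate (n - 3) 1 : Multiset F).prod = 1 := by
    simp; field_simp
  have hρ : ρ = 1 := by
    by_cases hrn : r ∣ n
    · by_contra hne
      have := congrArg (Multiset.count ρ) heq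
      simp only [Multiset.map_cons, Multiset.map_replicate, one_pow, one_mul, Multiset.count_cons, Multiset.count_replicate,
        if_true, if_neg (Ne.symm hne)] at this
      have := h hrn
      split_ifs at * <;> omega
    · refine rho_one (n := n) (by simp; omega) (fun s hs => ?_) hprod hrn heq
      simp only [Multiset.mem_cons, Multiset.mem_replicate] at hs
      rcases hs with rfl | rfl | rfl | ⟨-, rfl⟩
      · exact hωr
      · exact hωr
      · rw [inv_pow, inv_pow, ← pow_mul, mul_comm, pow_mul, hωr, one_pow, inv_one]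
      · exact one_pow r
  subst hρ
  have hmem : ω ^ N * 1 ∈ (ω ::ₘ ω ::ₘ (ω⁻¹ ^ 2) ::ₘ Multiset.replicate (n - 3) 1 : Multiset F) :=
    heq ▸ Multiset.mem_map_of_mem _ (Multiset.mem_cons_self _ _)
  have hinv : ω ^ N = ω⁻¹ := by
    obtain ⟨t, ht⟩ := hN
    refine eq_inv_of_mul_eq_one_left ?_
    rw [← pow_succ, ht, pow_mul, hωr, one_pow]
  have hω1 : ω ≠ 1 := fun e => hr.ne_one (by rw [← hω, e, orderOf_one])
  rw [mul_one, hinv] at hmem
  simp only [Multiset.mem_cons, Multiset.mem_replicate] at hmem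
  rcases hmem with e | e | e | ⟨-, e⟩
  · exact hr2 ((Nat.prime_dvd_prime_iff_eq hr Nat.prime_two).1 (hω ▸ orderOf_dvd_of_pow_eq_one (by
      rw [pow_two]; conv_lhs => arg 2; rw [← e]
      exact mul_inv_cancel₀ hω0)))
  · exact hr2 ((Nat.prime_dvd_prime_iff_eq hr Nat.prime_two).1 (hω ▸ orderOf_dvd_of_pow_eq_one (by
      rw [pow_two]; conv_lhs => arg 2; rw [← e]
      exact mul_inv_cancel₀ hω0)))
  · refine hω1 (inv_eq_one.1 ?_)
    refine mul_left_cancel₀ (inv_ne_zero hω0) ?_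
    rw [mul_one, ← pow_two, ← e]
  · exact hω1 (inv_eq_one.1 e)

/-- `ω, ω⁻¹`. -/
theorem no_rho_big [Fact r.Prime] {ω : F} (hω : orderOf ω = r) (hn : 2 ≤ n) {N : ℕ} (hN : ¬ r ∣ N + 1)
    (hN1 : ¬ N ≡ 1 [MOD r]) (hN0 : ¬ r ∣ N) (h : r ∣ n → 2 < n - 2) (ρ : F) :
    (ω ::ₘ ω⁻¹ ::ₘ Multiset.replicate (n - 2) 1).map (fun t => t ^ N * ρ) ≠
      ω ::ₘ ω⁻¹ ::ₘ Multiset.replicate (n - 2) 1 := by
  classical
  have hr : r.Prime := Fact.out
  have hωr : ω ^ r = 1 := hω ▸ pow_orderOf_eq_one ω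
  have hω0 : ω ≠ 0 := fun e => by rw [e, zero_pow hr.ne_zero] at hωr; exact zero_ne_one hωr
  intro heq
  have hprod : (ω ::ₘ ω⁻¹ ::ₘ Multiset.replicate (n - 2) 1 : Multiset F).prod = 1 := by simp [hω0]
  have hρ : ρ = 1 := by
    by_cases hrn : r ∣ n
    · by_contra hne
      have := congrArg (Multiset.count ρ) heq
      simp only [Multiset.map_cons, Multiset.map_replicate, one_pow, one_mul, Multiset.count_cons, Multiset.count_replicate,
        if_true, if_neg (Ne.symm hne)] at this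
      have := h hrn
      split_ifs at * <;> omega
    · refine rho_one (n := n) (by simp; omega) (fun s hs => ?_) hprod hrn heq
      simp only [Multiset.mem_cons, Multiset.mem_replicate] at hs
      rcases hs with rfl | rfl | ⟨-, rfl⟩
      · exact hωr
      · rw [inv_pow, hωr, inv_one]
      · exact one_pow r
  subst hρ
  have hmem : ω ^ N * 1 ∈ (ω ::ₘ ω⁻¹ ::ₘ Multiset.replicate (n - 2) 1 : Multiset F) :=
    heq ▸ Multiset.mem_map_of_mem _ (Multiset.mem_cons_self _ _)
  rw [mul_one] at hmem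
  simp only [Multiset.mem_cons, Multiset.mem_replicate] at hmem
  rcases hmem with e | e | ⟨-, e⟩
  · have h1 : Units.mk0 ω hω0 ^ N = Units.mk0 ω hω0 ^ 1 := Units.ext (by simpa using e)
    rw [pow_eq_pow_iff_modEq, ← orderOf_units, Units.val_mk0, hω] at h1
    exact hN1 h1
  · refine hN (hω ▸ orderOf_dvd_of_pow_eq_one ?_)
    rw [pow_succ, e, inv_mul_cancel₀ hω0]
  · exact hN0 (hω ▸ orderOf_dvd_of_pow_eq_one e)

/-- `ω` alone. -/
theorem no_rho_single [Fact r.Prime] (hr2 : r ≠ 2) {ω : F} (hω : orderOf ω = r) {N : ℕ} (hN : r ∣ N + 1) (ρ : F) :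
    (ω ::ₘ Multiset.replicate (r - 1) 1).map (fun t => t ^ N * ρ) ≠ ω ::ₘ Multiset.replicate (r - 1) 1 := by
  classical
  have hr : r.Prime := Fact.out
  have := hr.two_le
  have hωr : ω ^ r = 1 := hω ▸ pow_orderOf_eq_one ω
  have hω0 : ω ≠ 0 := fun e => by rw [e, zero_pow hr.ne_zero] at hωr; exact zero_ne_one hωr
  intro heq
  have hρ : ρ = 1 := by
    by_contra hne
    have := congrArg (Multiset.count ρ) heq
    simp only [Multiset.map_cons, Multiset.map_replicate, one_pow, one_mul, Multiset.count_cons, Multiset.count_replicate,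
      if_true, if_neg (Ne.symm hne)] at this
    split_ifs at * <;> omega
  subst hρ
  have hmem : ω ^ N * 1 ∈ (ω ::ₘ Multiset.replicate (r - 1) 1 : Multiset F) :=
    heq ▸ Multiset.mem_map_of_mem _ (Multiset.mem_cons_self _ _)
  have hinv : ω ^ N = ω⁻¹ := by
    obtain ⟨t, ht⟩ := hN
    refine eq_inv_of_mul_eq_one_left ?_
    rw [← pow_succ, ht, pow_mul, hωr, one_pow]
  rw [mul_one, hinv] at hmem
  simp only [Multiset.mem_cons, Multiset.mem_replicate] at hmem
  rcases hmem with e | ⟨-, e⟩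
  · exact hr2 ((Nat.prime_dvd_prime_iff_eq hr Nat.prime_two).1 (hω ▸ orderOf_dvd_of_pow_eq_one (by
      rw [pow_two]; conv_lhs => arg 2; rw [← e]
      exact mul_inv_cancel₀ hω0)))
  · exact hr.ne_one (by rw [← hω, inv_eq_one.1 e, orderOf_one])

/-- An eigenbasis. -/
theorem eigenbasis [Fact r.Prime] (hrF : (r : F) ≠ 0) (hr1 : r ∣ Fintype.card F - 1) {φ : Module.End F (Fin n → F)} (hφ : φ ^ r = 1) :
    ∃ (G : GL (Fin n) F) (lam : Fin n → F), (∀ j, lam j ^ r = 1) ∧
      ∀ j, φ ((G : Matrix (Fin n) (Fin n) F) *ᵥ Pi.single j 1) = lam j • ((G : Matrix (Fin n) (Fin n) F) *ᵥ Pi.single j 1) := by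
  classical
  have hr : r.Prime := Fact.out
  obtain ⟨ζ, hζ⟩ : ∃ ζ : F, IsPrimitiveRoot ζ r := by
    obtain ⟨w, hw⟩ := exists_prime_orderOf_dvd_card r (G := Fˣ) (by rw [Fintype.card_units]; exact hr1)
    exact ⟨(w : F), IsPrimitiveRoot.iff_orderOf.2 (by rw [orderOf_units, hw])⟩
  obtain ⟨D⟩ := CfsgLib.KnownB.GLBlocks.nonempty_decomp φ
  have hlin : ∀ i, ∃ l : F, l ^ r = 1 ∧ CompanionBasis.blockPoly D i = Polynomial.X - Polynomial.C l := fun i => by
    obtain ⟨h1, h2⟩ := CompanionBasis.decomp_of_pow_eq_one D hrF hφ i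
    rw [← map_one (Polynomial.C : F →+* F[X]), X_pow_sub_C_eq_prod hζ hr.pos (one_pow r)] at h2
    obtain ⟨m, -, hm⟩ := (Prime.dvd_finsetProd_iff (D.irred i).prime _).1 h2
    refine ⟨ζ ^ m * 1, ?_, h1.trans (Polynomial.eq_of_monic_of_associated (D.monic i) (Polynomial.monic_X_sub_C _)
      ((D.irred i).associated_of_dvd (Polynomial.irreducible_X_sub_C _) hm))⟩
    rw [mul_one, ← pow_mul, mul_comm, pow_mul, hζ.pow_eq_one, one_pow]
  choose l hl hlp using hlin
  obtain ⟨b, hb⟩ := CompanionBasis.exists_companion D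
  let e : ((i : D.ι) × Fin (CompanionBasis.blockPoly D i).natDegree) ≃ Fin n := Fintype.equivFinOfCardEq (by
    rw [← Module.finrank_eq_card_basis b, Module.finrank_fin_fun])
  let G : Matrix (Fin n) (Fin n) F := Matrix.of fun i j => b (e.symm j) i
  have hG : IsUnit G := by
    rw [← Matrix.linearIndependent_cols_iff_isUnit]
    exact b.linearIndependent.comp _ e.symm.injective
  refine ⟨hG.unit, fun j => l (e.symm j).1, fun j => hl _, fun j => ?_⟩
  beta_reduce
  rw [IsUnit.unit_spec, show G *ᵥ Pi.single j 1 = b (e.symm j) from by rw [Matrix.mulVec_single_one]; rfl]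
  rcases e.symm j with ⟨i, m⟩
  have hdeg : (CompanionBasis.blockPoly D i).natDegree = 1 := by rw [hlp, Polynomial.natDegree_X_sub_C]
  rw [hb, dif_neg (by omega), Finset.sum_eq_single m (fun m' _ hm' => absurd (Fin.ext (by omega)) hm') (by simp)]
  have hm0 : (m : ℕ) = 0 := by omega
  rw [hm0, hlp, Polynomial.coeff_sub, Polynomial.coeff_X_zero, Polynomial.coeff_C_zero, zero_sub, neg_smul, neg_neg]

/-- Multisets of five or three roots of unity with product one are symmetric. -/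
theorem symmetric [DecidableEq F] [Fact r.Prime] (hr35 : r = 3 ∨ r = 5) {ζ : F} (hζ : IsPrimitiveRoot ζ r) (lam : Fin r → F)
    (hlam : ∀ j, lam j ^ r = 1) (hprod : ∏ j, lam j = 1) :
    ∃ ρ : F, ρ ^ r = 1 ∧ ∀ v, Fintype.card {j // lam j = ρ * v⁻¹} = Fintype.card {j // lam j = v} := by
  classical
  have hr : r.Prime := Fact.out
  haveI : NeZero r := ⟨hr.ne_zero⟩
  choose u hu using fun j => hζ.eq_pow_of_pow_eq_one (hlam j)
  let uz : Fin r → ZMod r := fun j => (u j : ZMod r)
  let pw : ZMod r → F := fun v => ζ ^ v.val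
  have hpw : ∀ a : ℕ, pw (a : ZMod r) = ζ ^ a := fun a => by
    simp only [pw, ZMod.val_natCast]
    rw [← pow_eq_pow_mod _ hζ.pow_eq_one]
  have hinj : Function.Injective pw := fun a b h => ZMod.val_injective r (hζ.pow_inj (ZMod.val_lt a) (ZMod.val_lt b) h)
  have hadd : ∀ a b, pw (a + b) = pw a * pw b := fun a b => by
    rw [← ZMod.natCast_zmod_val a, ← ZMod.natCast_zmod_val b, ← Nat.cast_add, hpw, hpw, hpw, pow_add]
  have hl : ∀ j, lam j = pw (uz j) := fun j => by rw [hpw]; exact (hu j).2.symm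
  have hsum : ∑ j, uz j = 0 := by
    refine hinj ?_
    rw [show pw 0 = 1 by simp [pw], ← hprod]
    show pw (∑ j, uz j) = _
    have : ∀ s : Finset (Fin r), pw (∑ j ∈ s, uz j) = ∏ j ∈ s, lam j := fun s => by
      induction s using Finset.induction_on with
      | empty => simp [pw]
      | insert j s hj ih => rw [Finset.sum_insert hj, Finset.prod_insert hj, hadd, ih, hl]
    exact this _
  suffices ∃ σ : ZMod r, ∀ v, (Finset.univ.filter fun j => uz j = σ - v).card = (Finset.univ.filter fun j => uz j = v).card by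
    obtain ⟨σ, hσ⟩ := this
    refine ⟨pw σ, by simp only [pw]; rw [← pow_mul, mul_comm, pow_mul, hζ.pow_eq_one, one_pow], fun v => ?_⟩
    by_cases hv : ∃ w, pw w = v
    · obtain ⟨w, rfl⟩ := hv
      have hw0 : pw w ≠ 0 := pow_ne_zero _ (hζ.ne_zero hr.ne_zero)
      have e1 : pw σ * (pw w)⁻¹ = pw (σ - w) := by
        rw [mul_inv_eq_iff_eq_mul₀ hw0, ← hadd, sub_add_cancel]
      rw [e1, Fintype.card_subtype, Fintype.card_subtype]
      simp only [hl, hinj.eq_iff]
      exact hσ w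
    · push Not at hv
      have h0 : ∀ v' : F, (∀ w, pw w ≠ v') → Fintype.card {j // lam j = v'} = 0 := fun v' hv' =>
        Fintype.card_eq_zero_iff.2 ⟨fun j => hv' (uz j.1) (by rw [← hl]; exact j.2)⟩
      rw [h0 v hv, h0]
      intro w hw
      refine hv (σ - w) ?_
      have hw0 : pw w ≠ 0 := pow_ne_zero _ (hζ.ne_zero hr.ne_zero)
      have hσ0 : pw σ ≠ 0 := pow_ne_zero _ (hζ.ne_zero hr.ne_zero)
      have hv0 : v ≠ 0 := fun e => by rw [e, _root_.inv_zero, mul_zero] at hw; exact hw0 hw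
      have hadd' : pw (σ - w) * pw w = pw σ := by rw [← hadd, sub_add_cancel]
      rw [hw] at hadd'
      rw [mul_left_comm] at hadd'
      exact (mul_inv_eq_one₀ hv0).1 ((mul_eq_left₀ hσ0).1 hadd')
  have hfib : ∑ v : ZMod r, (Finset.univ.filter fun j => uz j = v).card = r := by
    rw [← Finset.card_eq_sum_card_fiberwise (fun j _ => Finset.mem_univ _), Finset.card_univ, Fintype.card_fin]
  have hws : ∑ v : ZMod r, ((Finset.univ.filter fun j => uz j = v).card : ZMod r) * v = 0 := by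
    rw [← hsum, ← Finset.sum_fiberwise Finset.univ uz uz]
    refine Finset.sum_congr rfl fun v _ => ?_
    rw [Finset.sum_congr rfl (fun j hj => (Finset.mem_filter.1 hj).2), Finset.sum_const, nsmul_eq_mul]
  generalize hC : (fun v => (Finset.univ.filter fun j => uz j = v).card) = C
  have hC' : ∀ v, (Finset.univ.filter fun j => uz j = v).card = C v := fun v => congrFun hC v
  simp only [hC'] at hfib hws ⊢
  rcases hr35 with rfl | rfl
  · have e1 : ∀ {M : Type} [AddCommMonoid M] (f : ZMod 3 → M), ∑ v : ZMod 3, f v = f 0 + f 1 + f 2 :=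
      fun {M} _ f => Fin.sum_univ_three (f : Fin 3 → M)
    rw [e1] at hfib hws
    have hd : 3 ∣ C 1 + 2 * C 2 := by
      rw [← ZMod.natCast_eq_zero_iff, ← hws]; push_cast
      show (C 1 : ZMod 3) + 2 * (C 2 : ZMod 3) = (C 0 : ZMod 3) * 0 + (C 1 : ZMod 3) * 1 + (C 2 : ZMod 3) * 2
      ring
    rcases (show C 1 = C 2 ∨ C 0 = C 1 ∨ C 0 = C 2 by omega) with h | h | h
    · exact ⟨0, fun v => by fin_cases v <;> first | rfl | exact h | exact h.symm⟩
    · exact ⟨1, fun v => by fin_cases v <;> first | rfl | exact h | exact h.symm⟩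
    · exact ⟨2, fun v => by fin_cases v <;> first | rfl | exact h | exact h.symm⟩
  · have e1 : ∀ {M : Type} [AddCommMonoid M] (f : ZMod 5 → M), ∑ v : ZMod 5, f v = f 0 + f 1 + f 2 + f 3 + f 4 :=
      fun {M} _ f => Fin.sum_univ_five (f : Fin 5 → M)
    rw [e1] at hfib hws
    have hd : 5 ∣ C 1 + 2 * C 2 + 3 * C 3 + 4 * C 4 := by
      rw [← ZMod.natCast_eq_zero_iff, ← hws]; push_cast
      show (C 1 : ZMod 5) + 2 * (C 2 : ZMod 5) + 3 * (C 3 : ZMod 5) + 4 * (C 4 : ZMod 5) =
        (C 0 : ZMod 5) * 0 + (C 1 : ZMod 5) * 1 + (C 2 : ZMod 5) * 2 + (C 3 : ZMod 5) * 3 + (C 4 : ZMod 5) * 4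
      ring
    obtain ⟨d, hd⟩ := hd
    have hd4 : d ≤ 4 := by omega
    rcases (show (C 1 = C 4 ∧ C 2 = C 3) ∨ (C 0 = C 1 ∧ C 2 = C 4) ∨ (C 0 = C 2 ∧ C 3 = C 4) ∨ (C 0 = C 3 ∧ C 1 = C 2) ∨
        (C 0 = C 4 ∧ C 1 = C 3) by
          have h0 : C 0 ≤ 5 := by omega
          have h4 : C 4 ≤ 5 := by omega
          interval_cases d <;> interval_cases C 0 <;> first | omega | (interval_cases C 4 <;> omega)) with ⟨h, h'⟩ | ⟨h, h'⟩ | ⟨h, h'⟩ | ⟨h, h'⟩ | ⟨h, h'⟩
    · exact ⟨0, fun v => by fin_cases v <;> first | rfl | exact h | exact h.symm | exact h' | exact h'.symm⟩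
    · exact ⟨1, fun v => by fin_cases v <;> first | rfl | exact h | exact h.symm | exact h' | exact h'.symm⟩
    · exact ⟨2, fun v => by fin_cases v <;> first | rfl | exact h | exact h.symm | exact h' | exact h'.symm⟩
    · exact ⟨3, fun v => by fin_cases v <;> first | rfl | exact h | exact h.symm | exact h' | exact h'.symm⟩
    · exact ⟨4, fun v => by fin_cases v <;> first | rfl | exact h | exact h.symm | exact h' | exact h'.symm⟩

end

/-- Elements of odd prime order r ≠ p of PSL_n(q) and subfield subgroups. Here `T = PSL_n(F)` for a field `F` with `q = p^f` elements (`n ≥ 2`, `(n, q) ≠ (2, 2), (2, 3)`), `F₀` is the subfield with `q₀` elements where `q = q₀^k` for a prime `k`, and `H` is the subgroup of matrices of determinant 1 lying in the subfield group of `F₀` (invertible matrices over `F₀` times scalars) — a maximal subgroup of type GL_n(q₀) (the case `n = 2`, `q₀ = 2` is excluded); Ω is the set of `T`-conjugates of `H` (cosets of `H`), so an element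 of `T` of prime order `r` (a matrix `x` of determinant 1 with `x^r` scalar, `x` not scalar) fixes a point of Ω when some conjugate of `x` by a matrix of determinant 1 lies in `H`. Let `r ≠ p` be an odd prime dividing the index of `H`, with `(n, r) ≠ (6, 3)` and, when `r = k` divides `q₀ − 1`, with `(n)_r ≤ (q − 1)_r`. Then every element of `T` of order `r` is conjugate in `T` into `H` if and only if `r = k`, or `k = 2`, `r = n ∈ {3, 5}` and `(q₀ + 1)_r = r`. The two excluded cases, `(n, r) = (6, 3)` and `r = k ∣ q₀ − 1` with `(n)_r > (q − 1)_r`, are ones where this criterion can fail, so they are left out. -/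
theorem result {F : Type*} [Field F] [Fintype F] {p : ℕ} [Fact p.Prime] [CharP F p] {q : ℕ} (hq : Fintype.card F = q)
    (n : ℕ) (hn : 2 ≤ n) (hT : (n, q) ≠ (2, 2) ∧ (n, q) ≠ (2, 3))
    (F₀ : Subfield F) (k q₀ : ℕ) (hk : k.Prime) (hF₀ : Nat.card ↥F₀ = q₀) (hqk : q = q₀ ^ k) (hC5 : ¬ (n = 2 ∧ q₀ = 2)) (r : ℕ) [Fact r.Prime] (hr2 : r ≠ 2) (hrp : r ≠ p) (hgap : ¬ (n = 6 ∧ r = 3)) (hgapk : r = k → r ∣ q₀ - 1 → padicValNat r n ≤ padicValNat r (q - 1)) (hΩ : r ∣ ((Cfsg.Geo.subfieldSubgroup F₀ 1).comap (Matrix.SpecialLinearGroup.toGL : Matrix.SpecialLinearGroup (Fin n) F →* GL (Fin n) F)).index) :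
    (∀ x : Matrix.SpecialLinearGroup (Fin n) F,
      (∃ z : F, ((x ^ r : Matrix.SpecialLinearGroup (Fin n) F) : Matrix (Fin n) (Fin n) F) = z • (1 : Matrix (Fin n) (Fin n) F)) →
      (∀ z : F, (x : Matrix (Fin n) (Fin n) F) ≠ z • (1 : Matrix (Fin n) (Fin n) F)) →
      ∃ P : Matrix.SpecialLinearGroup (Fin n) F, P⁻¹ * x * P ∈ ((Cfsg.Geo.subfieldSubgroup F₀ 1).comap (Matrix.SpecialLinearGroup.toGL : Matrix.SpecialLinearGroup (Fin n) F →* GL (Fin n) F))) ↔
    (r = k ∨ (k = 2 ∧ r = n ∧ (n = 3 ∨ n = 5) ∧ padicValNat r (q₀ + 1) = 1)) := by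
  classical
  subst hq hF₀
  have hr : r.Prime := Fact.out
  have hrF := SemiCriterion.cast_ne (F := F) (p := p) hrp
  have hn1 : 1 ≤ n := by omega
  haveI : Fintype F₀ := Fintype.ofFinite _
  have hq1 : 1 < Nat.card F₀ := Finite.one_lt_card
  have hrq : ¬ r ∣ Fintype.card F := SemiCriterion.not_dvd_card (F := F) hrp
  have hra : ¬ r ∣ Nat.card F₀ := fun h => hrq (by rw [hqk]; exact dvd_pow h hk.ne_zero)
  have hQ0 : (Nat.card F₀ : ZMod r) ≠ 0 := fun h => hra ((ZMod.natCast_eq_zero_iff _ r).1 h)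
  have hir : orderOf (Nat.card F₀ : ZMod r) ∣ r - 1 := ZMod.orderOf_dvd_card_sub_one hQ0
  have hiN : ∀ {m : ℕ}, r ∣ Nat.card F₀ ^ m - 1 ↔ (Nat.card F₀ : ZMod r) ^ m = 1 := fun {m} => by
    rw [← ZMod.natCast_eq_zero_iff, Nat.cast_sub (Nat.one_le_pow _ _ (by omega)), Nat.cast_pow, Nat.cast_one, sub_eq_zero]
  have hqZ : (Fintype.card F : ZMod r) = (Nat.card F₀ : ZMod r) ^ k := by rw [hqk, Nat.cast_pow]
  constructor
  · intro hall
    by_contra hcond
    push Not at hcond
    obtain ⟨hrk, hcond⟩ := hcond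
    have hki : k ∣ orderOf (Nat.card F₀ : ZMod r) := by
      by_contra h
      exact index_not_dvd hn1 hk hrk hqk h hra hΩ
    obtain ⟨c, hc⟩ := hki
    have hcq : orderOf (Fintype.card F : ZMod r) = c := by
      rw [hqZ, orderOf_pow' _ hk.ne_zero, hc, Nat.gcd_mul_right_left, Nat.mul_div_cancel_left _ hk.pos]
    have hipos : 0 < orderOf (Nat.card F₀ : ZMod r) :=
      Nat.pos_of_ne_zero fun h => by rw [h] at hir; have := hr.two_le; rw [zero_dvd_iff] at hir; omega
    have hc0 : 0 < c := Nat.pos_of_ne_zero fun h => by rw [h, mul_zero] at hc; omega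
    have hnd0 : ¬ r ∣ Nat.card F₀ - 1 := fun h => by
      have h1 := orderOf_eq_one_iff.2 (by simpa using (hiN (m := 1)).1 (by rwa [pow_one]) : (Nat.card F₀ : ZMod r) = 1)
      rw [hc] at h1
      have := hk.two_le
      have := Nat.eq_one_of_mul_eq_one_right h1
      omega
    suffices hw : ∃ x : Matrix.SpecialLinearGroup (Fin n) F,
        (∃ z : F, ((x ^ r : Matrix.SpecialLinearGroup (Fin n) F) : Matrix (Fin n) (Fin n) F) = z • (1 : Matrix (Fin n) (Fin n) F)) ∧
        (∀ z : F, (x : Matrix (Fin n) (Fin n) F) ≠ z • 1) ∧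
        ∀ P : Matrix.SpecialLinearGroup (Fin n) F, P⁻¹ * x * P ∉ ((Cfsg.Geo.subfieldSubgroup F₀ 1).comap
          (Matrix.SpecialLinearGroup.toGL : Matrix.SpecialLinearGroup (Fin n) F →* GL (Fin n) F)) by
      obtain ⟨x, h1, h2, h3⟩ := hw
      obtain ⟨P, hP⟩ := hall x h1 h2
      exact h3 P hP
    rcases Nat.lt_or_ge c 2 with hc1 | hc2
    swap
    · have hcn : c ≤ n := by
        obtain ⟨e, he⟩ := index_facts (F := F) (F₀ := F₀) (n := n)
        have h1 := CfsgLib.Classical.card_sl_mul (F := F) hn1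
        have h2 : r ∣ ∏ i : Fin n, (Fintype.card F ^ n - Fintype.card F ^ (i : ℕ)) := by
          rw [← h1, ← he]
          exact dvd_mul_of_dvd_right ((hΩ.mul_right e).mul_right _) _
        obtain ⟨i, -, hi⟩ := (Prime.dvd_finsetProd_iff hr.prime _).1 h2
        have hi' : Fintype.card F ^ n - Fintype.card F ^ (i : ℕ) =
            Fintype.card F ^ (i : ℕ) * (Fintype.card F ^ (n - (i : ℕ)) - 1) := by
          rw [Nat.mul_sub, mul_one, ← pow_add, Nat.add_sub_cancel' i.2.le]
        rw [hi'] at hi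
        have h' := (hr.dvd_mul.1 hi).resolve_left fun h => hrq (hr.dvd_of_dvd_pow h)
        rw [← ZMod.natCast_eq_zero_iff, Nat.cast_sub (Nat.one_le_pow _ _ Fintype.card_pos), Nat.cast_pow, Nat.cast_one,
          sub_eq_zero] at h'
        rw [← hcq]
        exact (Nat.le_of_dvd (by omega) (orderOf_dvd_of_pow_eq_one h')).trans (Nat.sub_le n i)
      refine neg_fixed (p := p) hcq hc2 hnd0 hrp ?_ hcn
      rw [hc]
      exact (lt_mul_iff_one_lt_left hc0).2 hk.one_lt
    obtain rfl : c = 1 := by omega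
    rw [mul_one] at hc
    have hrd : r ∣ Fintype.card F - 1 := SemiCriterion.order_eq_one_iff.1 hcq
    obtain ⟨w, hw⟩ := exists_prime_orderOf_dvd_card r (G := Fˣ) (by rw [Fintype.card_units]; exact hrd)
    have hω : orderOf (w : F) = r := by rw [orderOf_units, hw]
    have hωr : (w : F) ^ r = 1 := by rw [← hω, pow_orderOf_eq_one]
    have hω0 : (w : F) ≠ 0 := w.ne_zero
    have hω1 : (w : F) ≠ 1 := fun e => hr.ne_one (by rw [← hω, e, orderOf_one])
    have hr3 : 3 ≤ r := by have := hr.two_le; omega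
    by_cases hk2 : k = 2
    · subst hk2
      have hr0 : r ∣ Nat.card F₀ + 1 := by
        have h1 : (Nat.card F₀ : ZMod r) * Nat.card F₀ = 1 := by rw [← pow_two, ← hc, pow_orderOf_eq_one]
        rcases mul_self_eq_one_iff.1 h1 with h | h
        · rw [h, orderOf_one] at hc; omega
        · rw [← ZMod.natCast_eq_zero_iff]; push_cast; rw [h, neg_add_cancel]
      have hn3 : 3 ≤ n := by
        by_contra h
        obtain rfl : n = 2 := by omega
        exact index_two hr2 hqk hr0 hΩ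
      by_cases hsmall : r ∣ n ∧ n - 3 ≤ 3
      · obtain ⟨⟨m, hm⟩, hle⟩ := hsmall
        have hn6 : n ≤ 6 := by omega
        have hrn : r = n ∧ (n = 3 ∨ n = 5) := by
          have hr6 : r ≤ 6 := (Nat.le_of_dvd (by omega) ⟨m, hm⟩).trans hn6
          rcases (show r = 3 ∨ r = 4 ∨ r = 5 ∨ r = 6 by omega) with rfl | rfl | rfl | rfl
          · rcases (show n = 3 ∨ n = 6 by omega) with h | h
            · exact ⟨h.symm, Or.inl h⟩
            · exact absurd ⟨h, rfl⟩ hgap
          · exact absurd hr (by decide)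
          · exact ⟨by omega, Or.inr (by omega)⟩
          · exact absurd hr (by decide)
        have hv := hcond rfl hrn.1 hrn.2
        have hsq : r * r ∣ Fintype.card F - 1 := by
          have h0 : Nat.card F₀ + 1 ≠ 0 := by omega
          have h1 : 1 ≤ padicValNat r (Nat.card F₀ + 1) := one_le_padicValNat_of_dvd h0 hr0
          have h2 : r ^ 2 ∣ Nat.card F₀ + 1 := (padicValNat_dvd_iff_le h0).2 (by omega)
          rw [hqk, ← pow_two r]
          refine h2.trans ?_
          have := Nat.sq_sub_sq (Nat.card F₀) 1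
          rw [one_pow] at this
          rw [this]
          exact dvd_mul_right _ _
        obtain ⟨m', hm'⟩ := hsq
        obtain ⟨a, ha, har⟩ := exists_root (F := F) (u := (w : F)⁻¹) (l := r) (m := r * m') (by rw [hm', mul_assoc])
          (by rw [inv_pow, pow_mul, hωr, one_pow, inv_one])
        obtain ⟨hrn', -⟩ := hrn
        subst hrn'
        refine neg_diag (p := p) ((w : F) ::ₘ Multiset.replicate (r - 1) 1) (by simp; omega) (fun s hs => ?_) (a := a) ?_
          (Multiset.mem_cons_self _ _) (s₂ := 1) ?_ hω1 fun ρ _ => no_rho_single hr2 hω hr0 ρ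
        · simp only [Multiset.mem_cons, Multiset.mem_replicate] at hs
          rcases hs with rfl | ⟨-, rfl⟩
          · exact hωr
          · exact one_pow r
        · simp [har, hω0]
        · exact Multiset.mem_cons_of_mem (Multiset.mem_replicate.2 ⟨by omega, rfl⟩)
      · by_cases hn3' : n - 3 = 0
        · -- `n = 3`, `r ≠ 3`
          obtain rfl : n = 3 := by omega
          refine neg_diag (p := p) ((w : F) ::ₘ (w : F) ::ₘ ((w : F)⁻¹ ^ 2) ::ₘ Multiset.replicate (3 - 3) 1) (by simp)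
            (fun s hs => ?_) (a := 1) ?_ (s₁ := (w : F)) (Multiset.mem_cons_self _ _) (s₂ := (w : F)⁻¹ ^ 2)
            (Multiset.mem_cons_of_mem (Multiset.mem_cons_of_mem (Multiset.mem_cons_self _ _))) ?_
            fun ρ _ => no_rho_two hr2 hω hn3 hr0 (fun h => absurd h fun h' => hsmall ⟨h', by omega⟩) ρ
          · simp only [Multiset.mem_cons, Multiset.mem_replicate] at hs
            rcases hs with rfl | rfl | rfl | ⟨-, rfl⟩
            · exact hωr
            · exact hωr
            · rw [inv_pow, inv_pow, ← pow_mul, mul_comm, pow_mul, hωr, one_pow, inv_one]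
            · exact one_pow r
          · simp; field_simp
          · intro e
            have h3 : (w : F) ^ 3 = 1 := by
              rw [pow_succ']; nth_rewrite 1 [e]
              rw [inv_pow, inv_mul_cancel₀ (pow_ne_zero _ hω0)]
            exact hsmall ⟨hω ▸ orderOf_dvd_of_pow_eq_one h3, by omega⟩
        refine neg_diag (p := p) ((w : F) ::ₘ (w : F) ::ₘ ((w : F)⁻¹ ^ 2) ::ₘ Multiset.replicate (n - 3) 1) (by simp; omega)
          (fun s hs => ?_) (a := 1) ?_ (s₁ := (w : F)) (Multiset.mem_cons_self _ _) (s₂ := 1)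
          (Multiset.mem_cons_of_mem (Multiset.mem_cons_of_mem (Multiset.mem_cons_of_mem (Multiset.mem_replicate.2 ⟨hn3', rfl⟩)))) ?_
          fun ρ _ => no_rho_two hr2 hω hn3 hr0 (fun h => by
            by_contra h'
            exact hsmall ⟨h, by omega⟩) ρ
        · simp only [Multiset.mem_cons, Multiset.mem_replicate] at hs
          rcases hs with rfl | rfl | rfl | ⟨-, rfl⟩
          · exact hωr
          · exact hωr
          · rw [inv_pow, inv_pow, ← pow_mul, mul_comm, pow_mul, hωr, one_pow, inv_one]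
          · exact one_pow r
        · simp; field_simp
        · exact hω1
    · have hkodd : Odd k := hk.odd_of_ne_two hk2
      have hk3 : 3 ≤ k := by have := hk.two_le; omega
      have hkr : 2 * k ≤ r - 1 := by
        obtain ⟨t, ht⟩ : k ∣ r - 1 := hc ▸ hir
        rcases t with _ | _ | t
        · omega
        · exfalso
          obtain ⟨j, hj⟩ := hr.odd_of_ne_two hr2
          obtain ⟨l, hl⟩ := hkodd
          omega
        · rw [ht, mul_comm]; exact Nat.mul_le_mul_left k (by omega)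
      refine neg_diag (p := p) ((w : F) ::ₘ (w : F)⁻¹ ::ₘ Multiset.replicate (n - 2) 1) (by simp; omega) (fun s hs => ?_)
        (a := 1) (by simp) (s₁ := (w : F)) (Multiset.mem_cons_self _ _) (s₂ := (w : F)⁻¹)
        (Multiset.mem_cons_of_mem (Multiset.mem_cons_self _ _)) ?_
        fun ρ _ => no_rho_big hω hn ?_ ?_ hra (fun h => by have := Nat.le_of_dvd (by omega) h; omega) ρ
      · simp only [Multiset.mem_cons, Multiset.mem_replicate] at hs
        rcases hs with rfl | rfl | ⟨-, rfl⟩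
        · exact hωr
        · rw [inv_pow, hωr, inv_one]
        · exact one_pow r
      · intro e
        refine hr2 ((Nat.prime_dvd_prime_iff_eq hr Nat.prime_two).1 (hω ▸ orderOf_dvd_of_pow_eq_one ?_))
        rw [pow_two]; conv_lhs => arg 2; rw [e]
        exact mul_inv_cancel₀ hω0
      · intro h
        rw [← ZMod.natCast_eq_zero_iff] at h
        push_cast at h
        have h1 : orderOf (Nat.card F₀ : ZMod r) ∣ 2 := orderOf_dvd_of_pow_eq_one (by
          rw [eq_neg_of_add_eq_zero_left h, neg_one_sq])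
        rw [hc] at h1
        have := Nat.le_of_dvd two_pos h1
        omega
      · intro h
        rw [← ZMod.natCast_eq_natCast_iff, Nat.cast_one] at h
        rw [h, orderOf_one] at hc
        omega
  · intro hcond x ⟨z, hx⟩ _
    rw [Matrix.SpecialLinearGroup.coe_pow] at hx
    rcases hcond with rfl | ⟨rfl, hrn, hn35, hv1⟩
    · have hfer : (Fintype.card F : ZMod r) = (Nat.card F₀ : ZMod r) := by rw [hqZ, ZMod.pow_card]
      obtain ⟨a, ha, -, hy⟩ := scalar_pow hn1 hr2 (fun h => hgapk rfl (by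
        rw [← ZMod.natCast_eq_zero_iff, Nat.cast_sub Fintype.card_pos, hfer, Nat.cast_one, sub_eq_zero] at h
        rw [← pow_one (Nat.card F₀), hiN, pow_one, h])) x hx
      exact pos_rational (p := p) hn1 hrF (j := 1) ((ZMod.natCast_eq_natCast_iff _ _ r).1 (by rw [pow_one, hfer])) x ha hy
    · subst hrn
      have hr0 : r ∣ Nat.card F₀ + 1 := dvd_of_one_le_padicValNat (by omega)
      have hnd0 : ¬ r ∣ Nat.card F₀ - 1 := fun h => by
        have h2 := Nat.dvd_sub hr0 h
        rw [show Nat.card F₀ + 1 - (Nat.card F₀ - 1) = 2 by omega] at h2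
        exact hr2 ((Nat.prime_dvd_prime_iff_eq hr Nat.prime_two).1 h2)
      have hfac : Fintype.card F - 1 = (Nat.card F₀ + 1) * (Nat.card F₀ - 1) := by
        rw [hqk, ← Nat.sq_sub_sq, one_pow]
      have hvq : padicValNat r (Fintype.card F - 1) = 1 := by
        rw [hfac, padicValNat.mul (by omega) (by omega), padicValNat.eq_zero_of_not_dvd hnd0, hv1]
      have hrd : r ∣ Fintype.card F - 1 := by rw [hfac]; exact dvd_mul_of_dvd_left hr0 _
      obtain ⟨a, ha, haz, hy⟩ := scalar_pow hn1 hr2 (fun _ => by rw [hvq, padicValNat_self]) x hx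
      obtain ⟨G, lam, hlam, hG⟩ := eigenbasis hrF hrd (φ := Matrix.toLinAlgEquiv' (a⁻¹ • (x : Matrix (Fin r) (Fin r) F)))
        (by rw [← map_pow, hy, map_one])
      have hxG : (x : Matrix (Fin r) (Fin r) F) * G = (G : Matrix (Fin r) (Fin r) F) * (a • Matrix.diagonal lam) := by
        refine Matrix.ext_of_mulVec_single fun j => ?_
        have h1 := hG j
        rw [Matrix.toLinAlgEquiv'_apply, Matrix.smul_mulVec, inv_smul_eq_iff₀ ha] at h1
        rw [← Matrix.mulVec_mulVec, h1, ← Matrix.mulVec_mulVec, Matrix.smul_mulVec, Matrix.diagonal_mulVec_single, mul_one,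
          Matrix.mulVec_smul, show (Pi.single j (lam j) : Fin r → F) = lam j • Pi.single j 1 by
            rw [← Pi.single_smul, smul_eq_mul, mul_one], Matrix.mulVec_smul]
      have hz1 : z = 1 := by
        have hzr : z ^ r = 1 := by
          have := congrArg Matrix.det hx
          rw [Matrix.det_pow, x.2, one_pow, Matrix.det_smul, Matrix.det_one, mul_one, Fintype.card_fin] at this
          exact this.symm
        have har : a ^ (r * r) = 1 := by rw [pow_mul, haz, hzr]
        have h3 := pow_gcd_eq_one.2 ⟨har, FiniteField.pow_card_sub_one_eq_one a ha⟩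
        obtain ⟨i, hi, hg⟩ := (Nat.dvd_prime_pow hr).1 (show Nat.gcd (r * r) (Fintype.card F - 1) ∣ r ^ 2 by
          rw [pow_two]; exact Nat.gcd_dvd_left _ _)
        have hi1 : i ≤ 1 := by
          have hN : Fintype.card F - 1 ≠ 0 := by have := Fintype.one_lt_card (α := F); omega
          rw [← hvq]
          exact (padicValNat_dvd_iff_le hN).1 (hg ▸ Nat.gcd_dvd_right _ _)
        rw [← haz]
        rw [hg] at h3
        interval_cases i
        · rw [pow_zero, pow_one] at h3; rw [h3, one_pow]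
        · rwa [pow_one] at h3
      subst hz1
      have hprod : ∏ j, lam j = 1 := by
        have h1 := congrArg Matrix.det hxG
        rw [Matrix.det_mul, Matrix.det_mul, x.2, one_mul, Matrix.det_smul, Matrix.det_diagonal, Fintype.card_fin, haz, one_mul] at h1
        exact (mul_eq_left₀ (Matrix.GeneralLinearGroup.det G).ne_zero).1 h1.symm
      obtain ⟨ζ, hζ⟩ : ∃ ζ : F, IsPrimitiveRoot ζ r := by
        obtain ⟨w, hw⟩ := exists_prime_orderOf_dvd_card r (G := Fˣ) (by rw [Fintype.card_units]; exact hrd)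
        exact ⟨(w : F), IsPrimitiveRoot.iff_orderOf.2 (by rw [orderOf_units, hw])⟩
      obtain ⟨ρ, hρ, hcnt⟩ := symmetric hn35 hζ lam hlam hprod
      have hρ0 : ρ ≠ 0 := fun e => by rw [e, zero_pow hr.ne_zero] at hρ; exact zero_ne_one hρ
      obtain ⟨π, hπ, hπl⟩ := exists_involution lam (fun v => ρ * v⁻¹) (fun v => by
        rw [_root_.mul_inv, inv_inv, ← mul_assoc, mul_inv_cancel₀ hρ0, one_mul]) hcnt
      exact pos_pairs (p := p) hn1 hrF hqk hr0 x ha hy G lam hlam hxG hρ π hπ hπl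


end Cfsg.Agent.S5965
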