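import Cfsg.Statements.S5966
import Cfsg.Agent.Lib.MaxSub.NilBasis
-- import your own Cfsg.Agent.* helpers here

set_option autoImplicit false
open scoped MatrixGroups
open Cfsg

namespace Cfsg.Agent.S5966

open CfsgLib.MaxSub Matrix

section

variable {K : Type*} [Field K] {m n : ℕ}

/-- The model square-zero map of half rank. -/
abbrev low (m : ℕ) (K : Type*) [Field K] : Matrix (Fin m ⊕ Fin m) (Fin m ⊕ Fin m) K :=
  Matrix.fromBlocks 0 0 1 0

/-- Square-zero maps of half rank are standard. -/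
theorem standard {N Z : Matrix (Fin m ⊕ Fin m) (Fin m ⊕ Fin m) K} (hN : N * N = 0) (hZ : Z * N + N * Z = 1) :
    ∃ g : GL (Fin m ⊕ Fin m) K, N * g = (g : Matrix (Fin m ⊕ Fin m) (Fin m ⊕ Fin m) K) * low m K := by
  classical
  set T := Matrix.toLinAlgEquiv' N with hT
  set S := Matrix.toLinAlgEquiv' Z with hS
  have hTT : ∀ v, T (T v) = 0 := fun v => by
    rw [← Module.End.mul_apply, hT, ← map_mul, hN, map_zero, LinearMap.zero_apply]
  have hST : ∀ v, S (T v) + T (S v) = v := fun v => by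
    rw [← Module.End.mul_apply, ← Module.End.mul_apply, ← LinearMap.add_apply, hT, hS, ← map_mul, ← map_mul, ← map_add,
      hZ, map_one, Module.End.one_apply]
  have hker : LinearMap.ker T = LinearMap.range T := by
    refine le_antisymm ?_ ?_
    · intro v hv
      refine ⟨S v, ?_⟩
      have := hST v
      rwa [show T v = 0 from hv, map_zero, zero_add] at this
    · rintro _ ⟨v, rfl⟩; exact hTT v
  have hdim : Module.finrank K ↥(LinearMap.range T) = m := by
    have h := T.finrank_range_add_finrank_ker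
    rw [hker, Module.finrank_fintype_fun_eq_card, Fintype.card_sum, Fintype.card_fin] at h
    omega
  let b := Module.finBasisOfFinrankEq K ↥(LinearMap.range T) hdim
  let v : Fin m ⊕ Fin m → (Fin m ⊕ Fin m → K) := Sum.elim (fun i => S (b i)) (fun i => (b i : Fin m ⊕ Fin m → K))
  have hTb : ∀ i, T (b i : Fin m ⊕ Fin m → K) = 0 := fun i => by
    have h : (b i : Fin m ⊕ Fin m → K) ∈ LinearMap.ker T := by rw [hker]; exact (b i).2
    exact h
  have hTS : ∀ i, T (S (b i)) = (b i : Fin m ⊕ Fin m → K) := fun i => by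
    have := hST (b i : Fin m ⊕ Fin m → K)
    rwa [hTb, map_zero, zero_add] at this
  have hli : LinearIndependent K v := by
    rw [Fintype.linearIndependent_iff]
    intro c hc
    rw [Fintype.sum_sum_type] at hc
    have h1 := congrArg T hc
    simp only [v, Sum.elim_inl, Sum.elim_inr, map_add, map_sum, map_smul, hTS, hTb, smul_zero, Finset.sum_const_zero,
      add_zero, map_zero] at h1
    have hbi : LinearIndependent K fun i => (b i : Fin m ⊕ Fin m → K) :=
      b.linearIndependent.map' (LinearMap.range T).subtype (Submodule.ker_subtype _)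
    have h2 := Fintype.linearIndependent_iff.1 hbi (fun i => c (Sum.inl i)) h1
    simp only [v, Sum.elim_inl, Sum.elim_inr, h2, zero_smul, Finset.sum_const_zero, zero_add] at hc
    have h3 := Fintype.linearIndependent_iff.1 hbi (fun i => c (Sum.inr i)) hc
    rintro (i | i)
    · exact h2 i
    · exact h3 i
  let g : Matrix (Fin m ⊕ Fin m) (Fin m ⊕ Fin m) K := Matrix.of fun i j => v j i
  have hg : IsUnit g := by
    rw [← Matrix.linearIndependent_cols_iff_isUnit]
    exact hli
  refine ⟨hg.unit, ?_⟩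
  rw [IsUnit.unit_spec]
  refine Matrix.ext_of_mulVec_single fun j => ?_
  rw [← Matrix.mulVec_mulVec, ← Matrix.mulVec_mulVec,
    show g *ᵥ Pi.single j 1 = v j from by rw [Matrix.mulVec_single_one]; rfl, ← Matrix.toLinAlgEquiv'_apply, ← hT]
  rcases j with i | i
  · rw [show low m K *ᵥ Pi.single (Sum.inl i) 1 = Pi.single (Sum.inr i) 1 from by
      rw [Matrix.mulVec_single_one]; funext l; rcases l with l | l <;> simp [low, Matrix.one_apply, Pi.single_apply],
      Matrix.mulVec_single_one]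
    exact hTS i
  · rw [show low m K *ᵥ Pi.single (Sum.inr i) 1 = 0 from by
      rw [Matrix.mulVec_single_one]; funext l; rcases l with l | l <;> simp [low],
      Matrix.mulVec_zero]
    exact hTb i

/-- The centraliser of the model map has square determinants. -/
theorem det_centralizer {C : Matrix (Fin m ⊕ Fin m) (Fin m ⊕ Fin m) K} (h : C * low m K = low m K * C) :
    IsSquare C.det := by
  rw [← Matrix.fromBlocks_toBlocks C, low, Matrix.fromBlocks_multiply, Matrix.fromBlocks_multiply,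
    Matrix.fromBlocks_inj] at h
  simp only [mul_zero, zero_mul, add_zero, zero_add, mul_one, one_mul] at h
  obtain ⟨hB, -, hD, -⟩ := h
  rw [← Matrix.fromBlocks_toBlocks C, hB, Matrix.det_fromBlocks_zero₁₂, hD]
  exact ⟨_, rfl⟩

variable {F : Type*} [Field F]

theorem sub_one_cube [CharP F 3] {A : Type*} [Ring A] [Algebra F A] (Y : A) (hY : Y ^ 3 = 1) : (Y - 1) ^ 3 = 0 := by
  have h3 : ∀ a : A, 3 • a = 0 := fun a => by
    rw [← Nat.cast_smul_eq_nsmul F, show ((3 : ℕ) : F) = 0 from CharP.cast_eq_zero F 3, zero_smul]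
  have : (Y - 1) ^ 3 = (Y ^ 3 - 1) - 3 • (Y * Y - Y) := by
    simp only [pow_succ, pow_zero, one_mul, sub_mul, mul_sub, mul_one, nsmul_eq_mul]
    norm_num
    noncomm_ring
  rw [this, hY, h3, sub_self, sub_zero]

theorem cube_inj [CharP F 3] {a b : F} (h : a ^ 3 = b ^ 3) : a = b := by
  have : (a - b) ^ 3 = 0 := by
    haveI : Fact (Nat.Prime 3) := ⟨by decide⟩
    rw [sub_pow_char, h, sub_self]
  exact sub_eq_zero.1 (eq_zero_of_pow_eq_zero this)

variable [Fintype F] {F₀ : Subfield F}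

theorem cube_root [CharP F 3] (δ : F) : ∃ a : F, a ^ 3 = δ := by
  exact (Finite.surjective_of_injective (f := fun a : F => a ^ 3) fun a b => cube_inj) δ

theorem subfield_cube [CharP F 3] {a : F} (h : a ^ 3 ∈ F₀) : a ∈ F₀ := by
  obtain ⟨c, hc⟩ := (Finite.surjective_of_injective (f := fun a : F₀ => a ^ 3) fun a b hab =>
    Subtype.ext (cube_inj (by simpa using congrArg Subtype.val hab))) ⟨a ^ 3, h⟩
  have : (c : F) ^ 3 = a ^ 3 := by simpa using congrArg Subtype.val hc
  rw [← cube_inj this]; exact c.2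

theorem mem_iff {g : GL (Fin n) F} : g ∈ Cfsg.Geo.subfieldSubgroup F₀ 1 ↔
    ∃ (h : GL (Fin n) F₀) (a : Fˣ), (g : Matrix (Fin n) (Fin n) F) =
      (a : F) • (h : Matrix (Fin n) (Fin n) F₀).map (F₀.subtype : F₀ →+* F) := by
  haveI : (Cfsg.Geo.scalars (Fin n) F).Normal := ⟨fun a ha b => by
    obtain ⟨z, hz⟩ := (Cfsg.Geo.mem_scalars_iff a).1 ha
    refine (Cfsg.Geo.mem_scalars_iff _).2 ⟨z, ?_⟩
    rw [Units.val_mul, Units.val_mul, hz, Algebra.mul_smul_comm, mul_one, Algebra.smul_mul_assoc, ← Units.val_mul,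
      mul_inv_cancel, Units.val_one]⟩
  have h0 : g ∈ Cfsg.Geo.subfieldSubgroup F₀ 1 ↔ g ∈ (Matrix.GeneralLinearGroup.map (n := Fin n) (F₀.subtype : F₀ →+* F)).range ⊔
      Cfsg.Geo.scalars (Fin n) F := by
    constructor
    · rintro ⟨y, hy, rfl⟩; simpa using hy
    · exact fun hg => ⟨g, hg, by simp⟩
  rw [h0, Subgroup.mem_sup_of_normal_right]
  constructor
  · rintro ⟨_, ⟨h, rfl⟩, sc, hsc, rfl⟩
    obtain ⟨z, hz⟩ := (Cfsg.Geo.mem_scalars_iff sc).1 hsc
    exact ⟨h, z, by rw [Units.val_mul, hz, Algebra.mul_smul_comm, mul_one]; rfl⟩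
  · rintro ⟨h, z, hz⟩
    refine ⟨_, ⟨h, rfl⟩, Units.map (Matrix.scalar (Fin n) : F →+* Matrix (Fin n) (Fin n) F).toMonoidHom z, ⟨z, rfl⟩, Units.ext ?_⟩
    rw [Units.val_mul, hz]
    show (h : Matrix (Fin n) (Fin n) F₀).map (F₀.subtype : F₀ →+* F) * Matrix.scalar (Fin n) (z : F) = _
    rw [Matrix.scalar_apply, ← Matrix.smul_one_eq_diagonal, Algebra.mul_smul_comm, mul_one]

theorem isSquare_iff' [CharP F 3] {a : F} (ha : a ≠ 0) : IsSquare a ↔ a ^ (Fintype.card F / 2) = 1 :=
  FiniteField.isSquare_iff (by rw [ringChar.eq F 3]; omega) ha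

/-- A non-square of a subfield of odd index is no square. -/
theorem exists_nonsquare [CharP F 3] {k : ℕ} (hk : Odd k) (hqk : Fintype.card F = Nat.card F₀ ^ k) :
    ∃ a : F₀, a ≠ 0 ∧ ¬ IsSquare (a : F) := by
  haveI : Fintype F₀ := Fintype.ofFinite _
  haveI : CharP F₀ 3 := (RingHom.charP_iff_charP (F₀.subtype : F₀ →+* F) 3).2 inferInstance
  have h3 : ringChar F₀ ≠ 2 := by rw [ringChar.eq F₀ 3]; omega
  obtain ⟨a, ha⟩ := FiniteField.exists_nonsquare h3
  have ha0 : a ≠ 0 := fun e => ha (e ▸ IsSquare.zero)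
  have hodd := FiniteField.odd_card_of_char_ne_two h3
  rw [← Nat.card_eq_fintype_card] at hodd
  have hA : (a : F) ^ (Nat.card F₀ / 2) = -1 := by
    have := (FiniteField.pow_dichotomy h3 ha0).resolve_left fun h => ha ((FiniteField.isSquare_iff h3 ha0).2 h)
    rw [← Nat.card_eq_fintype_card] at this
    simpa using congrArg Subtype.val this
  refine ⟨a, ha0, fun hsq => ?_⟩
  rw [isSquare_iff' (fun e => ha0 (Subtype.ext e)), hqk] at hsq
  obtain ⟨S, hSo, hS⟩ : ∃ S, Odd S ∧ Nat.card F₀ ^ k / 2 = Nat.card F₀ / 2 * S := by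
    refine ⟨∑ i ∈ Finset.range k, Nat.card F₀ ^ i, ?_, ?_⟩
    · rw [Finset.odd_sum_iff_odd_card_odd, Finset.filter_true_of_mem fun i _ => (Nat.odd_iff.2 hodd).pow]
      simpa using hk
    · obtain ⟨j, hj⟩ := Nat.odd_iff.2 hodd
      have h := geom_sum_mul_add (Nat.card F₀ - 1) k
      rw [Nat.sub_add_cancel (show 1 ≤ Nat.card F₀ by omega)] at h
      rw [← h, hj, Nat.add_sub_cancel, show (2 * j + 1) / 2 = j by omega,
        show (∑ i ∈ Finset.range k, (2 * j + 1) ^ i) * (2 * j) = 2 * (j * ∑ i ∈ Finset.range k, (2 * j + 1) ^ i) by ring]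
      omega
  rw [hS, pow_mul, hA, hSo.neg_one_pow] at hsq
  exact Ring.neg_one_ne_one_of_char_ne_two (by rw [ringChar.eq F 3]; omega) hsq

/-- Elements of a subfield of index two are squares. -/
theorem isSquare_subfield [CharP F 3] (hqk : Fintype.card F = Nat.card F₀ ^ 2) (a : F₀) : IsSquare (a : F) := by
  haveI : Fintype F₀ := Fintype.ofFinite _
  haveI : CharP F₀ 3 := (RingHom.charP_iff_charP (F₀.subtype : F₀ →+* F) 3).2 inferInstance
  by_cases ha : (a : F) = 0
  · rw [ha]; exact IsSquare.zero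
  have hodd := FiniteField.odd_card_of_char_ne_two (F := F₀) (by rw [ringChar.eq F₀ 3]; omega)
  rw [← Nat.card_eq_fintype_card] at hodd
  obtain ⟨j, hj⟩ := Nat.odd_iff.2 hodd
  rw [isSquare_iff' ha, hqk, hj, show (2 * j + 1) ^ 2 / 2 = (2 * j + 1 - 1) * (j + 1) by
    rw [Nat.add_sub_cancel]
    have : (2 * j + 1) ^ 2 = 2 * (2 * j * (j + 1)) + 1 := by ring
    omega, pow_mul, ← hj, Nat.card_eq_fintype_card]
  have := congrArg Subtype.val (FiniteField.pow_card_sub_one_eq_one a fun e => ha (by rw [e]; rfl))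
  rw [show (a : F) ^ (Fintype.card F₀ - 1) = 1 by simpa using this, one_pow]

end

/-- Elements of order 3 of PSL_n(q) in characteristic 3 and subfield subgroups. Here `T = PSL_n(F)` for a field `F` with `q` elements, `q` a power of 3 (`n ≥ 2`, `(n, q) ≠ (2, 2), (2, 3)`), `F₀` is the subfield with `q₀` elements where `q = q₀^k` for a prime `k`, and `H` is the subgroup of matrices of determinant 1 lying in the subfield group of `F₀` (invertible matrices over `F₀` times scalars) — a maximal subgroup of type GL_n(q₀) (the case `n = 2`, `q₀ = 2` is excluded); Ω is the set of `T`-conjugates of `H` (cosets of `H`), so an element of `T` of prime order `r` (a matrix `x` of determinant 1 with `x^r` scalar, `x` not scalar) fixes a point of Ω when some conjugate of `x` by a matrix of determinant 1 lies in `H`. Suppose 3 divides the index of `H`. Then every element of `T` of order 3 is conjugate in `T` into `H` if and only if `n` is odd, or `n` is even and `k > 2`. -/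
theorem result {F : Type*} [Field F] [Fintype F] [CharP F 3] {q : ℕ} (hq : Fintype.card F = q)
    (n : ℕ) (hn : 2 ≤ n) (hT : (n, q) ≠ (2, 3))
    (F₀ : Subfield F) (k q₀ : ℕ) (hk : k.Prime) (hF₀ : Nat.card ↥F₀ = q₀) (hqk : q = q₀ ^ k) (hC5 : ¬ (n = 2 ∧ q₀ = 2)) (hΩ : 3 ∣ ((Cfsg.Geo.subfieldSubgroup F₀ 1).comap (Matrix.SpecialLinearGroup.toGL : Matrix.SpecialLinearGroup (Fin n) F →* GL (Fin n) F)).index) :
    (∀ x : Matrix.SpecialLinearGroup (Fin n) F,
      (∃ z : F, ((x ^ 3 : Matrix.SpecialLinearGroup (Fin n) F) : Matrix (Fin n) (Fin n) F) = z • (1 : Matrix (Fin n) (Fin n) F)) →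
      (∀ z : F, (x : Matrix (Fin n) (Fin n) F) ≠ z • (1 : Matrix (Fin n) (Fin n) F)) →
      ∃ P : Matrix.SpecialLinearGroup (Fin n) F, P⁻¹ * x * P ∈ ((Cfsg.Geo.subfieldSubgroup F₀ 1).comap (Matrix.SpecialLinearGroup.toGL : Matrix.SpecialLinearGroup (Fin n) F →* GL (Fin n) F))) ↔
    (Odd n ∨ (Even n ∧ 2 < k)) := by
  classical
  subst hq hF₀
  haveI : Nonempty (Fin n) := ⟨⟨0, by omega⟩⟩
  haveI : Fintype F₀ := Fintype.ofFinite _
  constructor
  · intro hall
    by_contra hcond
    push Not at hcond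
    obtain ⟨hne, hle⟩ := hcond
    have he : Even n := Nat.not_odd_iff_even.1 hne
    have hk2 : k = 2 := le_antisymm (hle he) hk.two_le
    subst hk2
    obtain ⟨m, rfl⟩ := he
    let R : Matrix (Fin m ⊕ Fin m) (Fin m ⊕ Fin m) F ≃ₐ[F] Matrix (Fin (m + m)) (Fin (m + m)) F :=
      Matrix.reindexAlgEquiv F F finSumFinEquiv
    have h2 : ringChar F ≠ 2 := by rw [ringChar.eq F 3]; omega
    obtain ⟨δ, hδ⟩ := FiniteField.exists_nonsquare h2
    have hδ0 : δ ≠ 0 := fun e => hδ (e ▸ IsSquare.zero)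
    let i0 : Fin m := ⟨0, by omega⟩
    let P₀ : GL (Fin m ⊕ Fin m) F := Matrix.GeneralLinearGroup.mkOfDetNeZero
      (Matrix.diagonal (Function.update (1 : Fin m ⊕ Fin m → F) (Sum.inl i0) δ)) (by
        rw [Matrix.det_diagonal, Finset.prod_update_of_mem (Finset.mem_univ _)]; simp [hδ0])
    have hP₀ : (P₀ : Matrix (Fin m ⊕ Fin m) (Fin m ⊕ Fin m) F).det = δ := by
      rw [Matrix.GeneralLinearGroup.val_mkOfDetNeZero, Matrix.det_diagonal, Finset.prod_update_of_mem (Finset.mem_univ _)]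
      simp
    let N : Matrix (Fin m ⊕ Fin m) (Fin m ⊕ Fin m) F := (P₀ : Matrix (Fin m ⊕ Fin m) (Fin m ⊕ Fin m) F) * low m F * ((P₀⁻¹ : GL (Fin m ⊕ Fin m) F) : Matrix (Fin m ⊕ Fin m) (Fin m ⊕ Fin m) F)
    let Z : Matrix (Fin m ⊕ Fin m) (Fin m ⊕ Fin m) F := (P₀ : Matrix (Fin m ⊕ Fin m) (Fin m ⊕ Fin m) F) * Matrix.fromBlocks 0 1 0 0 * ((P₀⁻¹ : GL (Fin m ⊕ Fin m) F) : Matrix (Fin m ⊕ Fin m) (Fin m ⊕ Fin m) F)
    haveI hne : Nonempty (Fin m ⊕ Fin m) := ⟨Sum.inl i0⟩
    have hlow : low m F * low m F = 0 := by simp [low, Matrix.fromBlocks_multiply]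
    have hNN : N * N = 0 := by
      show (_ * low m F * _) * (_ * low m F * _) = _
      rw [show ∀ a b c d : Matrix (Fin m ⊕ Fin m) (Fin m ⊕ Fin m) F, (a * b * c) * (a * b * d) = a * (b * (c * a) * b) * d from
        fun a b c d => by simp only [mul_assoc], Units.inv_mul, mul_one, hlow, mul_zero, zero_mul]
    have hZN : Z * N + N * Z = 1 := by
      simp only [N, Z]
      rw [show ∀ a b c d : Matrix (Fin m ⊕ Fin m) (Fin m ⊕ Fin m) F, (a * b * c) * (a * d * c) = a * (b * (c * a) * d) * c from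
        fun a b c d => by simp only [mul_assoc]]
      rw [show ∀ a b c d : Matrix (Fin m ⊕ Fin m) (Fin m ⊕ Fin m) F, (a * d * c) * (a * b * c) = a * (d * (c * a) * b) * c from
        fun a b c d => by simp only [mul_assoc]]
      rw [Units.inv_mul, mul_one, mul_one, ← add_mul, ← mul_add]
      simp [low, Matrix.fromBlocks_multiply, Matrix.fromBlocks_add]
    have hA1 : (1 + N).det = 1 := by
      have : 1 + N = (P₀ : Matrix (Fin m ⊕ Fin m) (Fin m ⊕ Fin m) F) * (1 + low m F) * ((P₀⁻¹ : GL (Fin m ⊕ Fin m) F) : Matrix (Fin m ⊕ Fin m) (Fin m ⊕ Fin m) F) := by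
        rw [mul_add, mul_one, add_mul, Units.mul_inv]
      rw [this, Matrix.det_units_conj, low, ← Matrix.fromBlocks_one, Matrix.fromBlocks_add]
      simp [Matrix.det_fromBlocks_zero₁₂]
    have hcube : (1 + N) ^ 3 = 1 := by
      have h3 : 3 • N = 0 := by
        rw [← Nat.cast_smul_eq_nsmul F, show ((3 : ℕ) : F) = 0 from CharP.cast_eq_zero F 3, zero_smul]
      have : (1 + N) ^ 3 = 1 + 3 • N + (3 • (N * N) + N * N * N) := by
        simp only [pow_succ, pow_zero, one_mul, add_mul, mul_add, mul_one, succ_nsmul, zero_nsmul]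
        noncomm_ring
      rw [this, hNN, h3]; simp
    let x : Matrix.SpecialLinearGroup (Fin (m + m)) F := ⟨R (1 + N), by
      simp only [R, Matrix.reindexAlgEquiv_apply, Matrix.det_reindex_self, hA1]⟩
    obtain ⟨Q, hQ⟩ := hall x ⟨1, by
      rw [Matrix.SpecialLinearGroup.coe_pow, one_smul]
      show (R (1 + N)) ^ 3 = 1
      rw [← map_pow, hcube, map_one]⟩ (fun z hz => by
      change R (1 + N) = z • 1 at hz
      rw [← map_one R, ← map_smul R] at hz
      have hN : N = (z - 1) • 1 := by rw [sub_smul, one_smul, eq_sub_iff_add_eq, add_comm]; exact R.injective hz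
      rw [hN, Algebra.smul_mul_assoc, one_mul, Algebra.mul_smul_comm, mul_one] at hZN
      rw [hN, Algebra.smul_mul_assoc, one_mul, smul_smul, smul_eq_zero, mul_self_eq_zero] at hNN
      rw [hNN.resolve_right one_ne_zero, zero_smul, add_zero] at hZN
      exact zero_ne_one hZN)
    rw [Subgroup.mem_comap, mem_iff] at hQ
    obtain ⟨h, a, hha⟩ := hQ
    set Q' : Matrix (Fin m ⊕ Fin m) (Fin m ⊕ Fin m) F := R.symm (Q : Matrix (Fin (m + m)) (Fin (m + m)) F) with hQ'
    set Qi : Matrix (Fin m ⊕ Fin m) (Fin m ⊕ Fin m) F := R.symm ((Q⁻¹ : Matrix.SpecialLinearGroup (Fin (m + m)) F) : Matrix (Fin (m + m)) (Fin (m + m)) F) with hQi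
    have hQQ : Qi * Q' = 1 := by
      rw [hQi, hQ', ← map_mul, ← Matrix.SpecialLinearGroup.coe_mul, inv_mul_cancel, Matrix.SpecialLinearGroup.coe_one, map_one]
    have hQQ' : Q' * Qi = 1 := by
      rw [hQi, hQ', ← map_mul, ← Matrix.SpecialLinearGroup.coe_mul, mul_inv_cancel, Matrix.SpecialLinearGroup.coe_one, map_one]
    let M : Matrix (Fin m ⊕ Fin m) (Fin m ⊕ Fin m) F₀ := (h : Matrix (Fin (m + m)) (Fin (m + m)) F₀).submatrix finSumFinEquiv finSumFinEquiv
    have hM : Qi * (1 + N) * Q' = (a : F) • M.map (F₀.subtype : F₀ →+* F) := by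
      have h1 := congrArg R.symm hha
      rw [show ((Matrix.SpecialLinearGroup.toGL (Q⁻¹ * x * Q) : GL (Fin (m + m)) F) : Matrix (Fin (m + m)) (Fin (m + m)) F) =
        ((Q⁻¹ : Matrix.SpecialLinearGroup (Fin (m + m)) F) : Matrix (Fin (m + m)) (Fin (m + m)) F) * R (1 + N) * Q from rfl,
        map_mul, map_mul, AlgEquiv.symm_apply_apply, map_smul] at h1
      exact h1
    have ha : (a : F) ∈ F₀ := by
      refine subfield_cube ?_
      have h1 := congrArg (· ^ 3) hM
      simp only [smul_pow, ← RingHom.mapMatrix_apply, ← map_pow] at h1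
      rw [show (Qi * (1 + N) * Q') ^ 3 = Qi * ((1 + N) * (Q' * Qi) * (1 + N) * (Q' * Qi) * (1 + N)) * Q' by
        simp only [pow_succ, pow_zero, one_mul, mul_assoc], hQQ', mul_one, mul_one, ← pow_three', hcube, mul_one, hQQ] at h1
      have h2 := congrFun (congrFun h1 (Sum.inl i0)) (Sum.inl i0)
      simp only [Matrix.one_apply_eq, Matrix.smul_apply, RingHom.mapMatrix_apply, Matrix.map_apply, smul_eq_mul] at h2
      rw [eq_inv_of_mul_eq_one_left h2.symm]
      exact F₀.inv_mem (SetLike.coe_mem _)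
    let N₁ : Matrix (Fin m ⊕ Fin m) (Fin m ⊕ Fin m) F₀ := (⟨(a : F), ha⟩ : F₀) • M - 1
    let φ : Matrix (Fin m ⊕ Fin m) (Fin m ⊕ Fin m) F₀ →+* Matrix (Fin m ⊕ Fin m) (Fin m ⊕ Fin m) F := (F₀.subtype : F₀ →+* F).mapMatrix
    have hN₁ : φ N₁ = Qi * N * Q' := by
      have h1 : φ N₁ = (a : F) • M.map (F₀.subtype : F₀ →+* F) - 1 := by
        simp only [φ, N₁, map_sub, map_one, RingHom.mapMatrix_apply]
        congr 1
      rw [h1, ← hM, mul_add, mul_one, add_mul, hQQ, add_sub_cancel_left]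
    have hφ : Function.Injective φ := fun A B h => Matrix.map_injective (F₀.subtype : F₀ →+* F).injective h
    have hN₁N : N₁ * N₁ = 0 := hφ (by
      rw [map_mul, hN₁, map_zero, show Qi * N * Q' * (Qi * N * Q') = Qi * (N * (Q' * Qi) * N) * Q' by simp only [mul_assoc],
        hQQ', mul_one, hNN, mul_zero, zero_mul])
    obtain ⟨π, hπ⟩ := (Algebra.linearMap F₀ F).exists_leftInverse_of_injective
      (LinearMap.ker_eq_bot.2 (algebraMap F₀ F).injective)
    have hπ1 : π 1 = 1 := by simpa using LinearMap.congr_fun hπ 1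
    let W := Qi * Z * Q'
    have hW : W * φ N₁ + φ N₁ * W = 1 := by
      rw [hN₁, show W * (Qi * N * Q') = Qi * (Z * (Q' * Qi) * N) * Q' by simp only [W, mul_assoc],
        show Qi * N * Q' * W = Qi * (N * (Q' * Qi) * Z) * Q' by simp only [W, mul_assoc], hQQ', mul_one, mul_one,
        ← add_mul, ← mul_add, hZN, mul_one, hQQ]
    have hZ₁ : W.map π * N₁ + N₁ * W.map π = 1 := by
      have h1 : (W * φ N₁).map π = W.map π * N₁ := by
        refine Matrix.ext fun i j => ?_
        simp only [Matrix.map_apply, Matrix.mul_apply, φ, RingHom.mapMatrix_apply, map_sum]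
        refine Finset.sum_congr rfl fun l _ => ?_
        rw [mul_comm, show (F₀.subtype : F₀ →+* F) (N₁ l j) * W i l = N₁ l j • W i l from rfl, map_smul, smul_eq_mul, mul_comm]
      have h2 : (φ N₁ * W).map π = N₁ * W.map π := by
        refine Matrix.ext fun i j => ?_
        simp only [Matrix.map_apply, Matrix.mul_apply, φ, RingHom.mapMatrix_apply, map_sum]
        refine Finset.sum_congr rfl fun l _ => ?_
        rw [show (F₀.subtype : F₀ →+* F) (N₁ i l) * W l j = N₁ i l • W l j from rfl, map_smul, smul_eq_mul]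
      rw [← h1, ← h2, ← Matrix.map_add π (map_add π), hW, Matrix.map_one π (map_zero π) hπ1]
    obtain ⟨g, hg⟩ := standard hN₁N hZ₁
    have hg' : φ N₁ * φ g = φ g * low m F := by
      rw [← map_mul, hg, map_mul]
      congr 1
      simp [φ, low, Matrix.fromBlocks_map]
    rw [hN₁] at hg'
    let C := ((P₀⁻¹ : GL (Fin m ⊕ Fin m) F) : Matrix (Fin m ⊕ Fin m) (Fin m ⊕ Fin m) F) * Q' * φ g
    have hC : C * low m F = low m F * C := by
      show _ * Q' * φ g * low m F = low m F * (_ * Q' * φ g)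
      rw [mul_assoc _ (φ g), ← hg', show ((P₀⁻¹ : GL (Fin m ⊕ Fin m) F) : Matrix (Fin m ⊕ Fin m) (Fin m ⊕ Fin m) F) * Q' * (Qi * N * Q' * φ g) =
        ((P₀⁻¹ : GL (Fin m ⊕ Fin m) F) : Matrix (Fin m ⊕ Fin m) (Fin m ⊕ Fin m) F) * (Q' * Qi) * N * Q' * φ g by simp only [mul_assoc],
        hQQ', mul_one]
      simp only [N, ← mul_assoc, Units.inv_mul, one_mul]
    obtain ⟨s, hs⟩ := det_centralizer hC
    obtain ⟨t, ht⟩ := isSquare_subfield hqk (g : Matrix (Fin m ⊕ Fin m) (Fin m ⊕ Fin m) F₀).det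
    have hd : C.det = δ⁻¹ * (t * t) := by
      simp only [C, Matrix.det_mul]
      rw [Matrix.coe_units_inv, Matrix.det_nonsing_inv, Ring.inverse_eq_inv', hP₀, ← ht]
      have hQd : Q'.det = 1 := by
        simp only [Q', R, Matrix.reindexAlgEquiv_symm, Matrix.reindexAlgEquiv_apply, Matrix.det_reindex_self]
        exact Q.2
      rw [hQd, mul_one]
      congr 1
      exact ((F₀.subtype : F₀ →+* F).map_det _).symm
    have ht0 : t ≠ 0 := fun e => by
      rw [e, mul_zero] at ht
      exact (Matrix.GeneralLinearGroup.det g).ne_zero (Subtype.ext ht)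
    have hs0 : s ≠ 0 := fun e => by
      rw [e, mul_zero, hd] at hs
      exact mul_ne_zero (inv_ne_zero hδ0) (mul_ne_zero ht0 ht0) hs
    refine hδ ⟨t / s, ?_⟩
    rw [div_mul_div_comm, eq_div_iff (mul_ne_zero hs0 hs0), ← hs, hd, ← mul_assoc, mul_inv_cancel₀ hδ0, one_mul]
  · intro hcond x ⟨z, hx⟩ _
    rw [Matrix.SpecialLinearGroup.coe_pow] at hx
    obtain ⟨d, hd⟩ := cube_root z
    have hd0 : d ≠ 0 := fun e => by
      rw [← hd, e, zero_pow (by decide), zero_smul] at hx
      have := congrArg Matrix.det hx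
      rw [Matrix.det_pow, x.2, one_pow, Matrix.det_zero] at this
      exact one_ne_zero this
    let Y : Module.End F (Fin n → F) := d⁻¹ • Matrix.toLinAlgEquiv' (x : Matrix (Fin n) (Fin n) F)
    have hY : Y ^ 3 = 1 := by
      show (d⁻¹ • _) ^ 3 = (1 : Module.End F (Fin n → F))
      rw [smul_pow, ← map_pow, hx, map_smul, map_one, smul_smul, inv_pow, hd, inv_mul_cancel₀ (by rw [← hd]; exact pow_ne_zero _ hd0),
        one_smul]
    obtain ⟨ι, _, dd, b, hd1, hd3, hb⟩ := NilBasis.exists_chains (sub_one_cube (F := F) Y hY)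
    let e : ((i : ι) × Fin (dd i)) ≃ Fin n := Fintype.equivFinOfCardEq (by
      rw [← Module.finrank_eq_card_basis b, Module.finrank_fin_fun])
    let bb : Fin n → Fin n → F := fun j => b (e.symm j)
    let Sh : Matrix (Fin n) (Fin n) F₀ := Matrix.of fun i j =>
      if (e.symm i).1 = (e.symm j).1 ∧ ((e.symm i).2 : ℕ) = (e.symm j).2 + 1 then 1 else 0
    let φ : Matrix (Fin n) (Fin n) F₀ →+* Matrix (Fin n) (Fin n) F := (F₀.subtype : F₀ →+* F).mapMatrix
    have hSh : ∀ j, ∑ i, (φ Sh) i j • bb i = (Y - 1) (bb j) := fun j => by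
      show _ = (Y - 1) (b (e.symm j))
      rw [show e.symm j = ⟨(e.symm j).1, (e.symm j).2⟩ from rfl, hb]
      split_ifs with h
      · rw [Finset.sum_eq_single (e ⟨(e.symm j).1, ⟨((e.symm j).2 : ℕ) + 1, h⟩⟩)]
        · simp only [φ, Sh, bb, RingHom.mapMatrix_apply, Matrix.map_apply, Matrix.of_apply]
          rw [e.symm_apply_apply]
          simp
        · intro i _ hi
          have : ¬ ((e.symm i).1 = (e.symm j).1 ∧ ((e.symm i).2 : ℕ) = (e.symm j).2 + 1) := by
            rintro ⟨h1, h2⟩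
            refine hi ((Equiv.symm_apply_eq e).1 ?_)
            rcases hh : e.symm i with ⟨p, o⟩
            rw [hh] at h1 h2
            dsimp only at h1 h2
            subst h1
            exact Sigma.ext rfl (heq_of_eq (Fin.ext h2))
          simp [φ, Sh, this]
        · simp
      · refine Finset.sum_eq_zero fun i _ => ?_
        have : ¬ ((e.symm i).1 = (e.symm j).1 ∧ ((e.symm i).2 : ℕ) = (e.symm j).2 + 1) := by
          rintro ⟨h1, h2⟩
          refine h ?_
          rw [← h2]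
          exact h1 ▸ (e.symm i).2.2
        simp [φ, Sh, this]
    let G : Matrix (Fin n) (Fin n) F := Matrix.of fun i j => bb j i
    have hG : IsUnit G := by
      rw [← Matrix.linearIndependent_cols_iff_isUnit]
      exact b.linearIndependent.comp _ e.symm.injective
    have hxG : (x : Matrix (Fin n) (Fin n) F) * G = G * (d • φ (1 + Sh)) := by
      refine Matrix.ext_of_mulVec_single fun j => ?_
      have hGj : G *ᵥ Pi.single j 1 = bb j := by rw [Matrix.mulVec_single_one]; rfl
      have hlhs : (x : Matrix (Fin n) (Fin n) F) *ᵥ bb j = d • Y (bb j) := by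
        rw [show Y (bb j) = d⁻¹ • ((x : Matrix (Fin n) (Fin n) F) *ᵥ bb j) from rfl, smul_smul, mul_inv_cancel₀ hd0,
          one_smul]
      rw [← Matrix.mulVec_mulVec, hGj, hlhs, ← Matrix.mulVec_mulVec, Matrix.smul_mulVec, Matrix.mulVec_smul, map_add,
        map_one, Matrix.add_mulVec, Matrix.one_mulVec, Matrix.mulVec_add, hGj]
      congr 1
      rw [show G *ᵥ (φ Sh *ᵥ Pi.single j 1) = ∑ i, (φ Sh) i j • bb i from by
        funext l
        rw [Matrix.mulVec_single_one, Finset.sum_apply]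
        simp [Matrix.mulVec, dotProduct, G, mul_comm], hSh, LinearMap.sub_apply, Module.End.one_apply, add_sub_cancel]
    obtain ⟨lam, a, hlam⟩ : ∃ (lam : ι → Fˣ) (a : F₀ˣ),
        (∏ i, (lam i : F) ^ dd i) * ((a : F₀) : F) = G.det⁻¹ := by
      obtain ⟨D, hD⟩ : ∃ D : Fˣ, (D : F) = G.det⁻¹ :=
        ⟨Units.mk0 _ (inv_ne_zero ((Matrix.isUnit_iff_isUnit_det G).1 hG).ne_zero), rfl⟩
      rw [← hD]
      have hprod : ∀ i₀ (u : Fˣ), (∏ i, ((Function.update (1 : ι → Fˣ) i₀ u i : Fˣ) : F) ^ dd i) = (u : F) ^ dd i₀ := fun i₀ u => by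
        rw [Finset.prod_eq_single i₀ (fun i _ hi => by simp [hi]) (by simp), Function.update_self]
      by_cases h1 : ∃ i₀, dd i₀ ≠ 2
      · obtain ⟨i₀, hi₀⟩ := h1
        have := hd1 i₀
        have := hd3 i₀
        rcases (show dd i₀ = 1 ∨ dd i₀ = 3 by omega) with h | h
        · exact ⟨Function.update 1 i₀ D, 1, by rw [hprod, h]; simp⟩
        · obtain ⟨u, hu⟩ := cube_root (D : F)
          exact ⟨Function.update 1 i₀ (Units.mk0 u (fun e => D.ne_zero (by rw [← hu, e, zero_pow (by decide)]))), 1,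
            by rw [hprod, h]; simp [hu]⟩
      · push Not at h1
        have hev : Even n := by
          have h := Module.finrank_eq_card_basis b
          rw [Module.finrank_fin_fun, Fintype.card_sigma] at h
          simp only [Fintype.card_fin, h1, Finset.sum_const, smul_eq_mul] at h
          exact ⟨Fintype.card ι, by rw [h, Finset.card_univ]; ring⟩
        have hkodd : Odd k := by
          rcases hcond with ho | ⟨-, h⟩
          · exact absurd hev (Nat.not_even_iff_odd.2 ho)
          · exact hk.odd_of_ne_two (by omega)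
        obtain ⟨i₀⟩ : Nonempty ι := ⟨(e.symm (Classical.arbitrary (Fin n))).1⟩
        obtain ⟨a, ha⟩ : ∃ a : F₀ˣ, IsSquare ((D : F) * ((a : F₀) : F)⁻¹) := by
          by_cases hsq : IsSquare (D : F)
          · exact ⟨1, by simpa using hsq⟩
          obtain ⟨a, ha0, ha⟩ := exists_nonsquare hkodd hqk
          refine ⟨Units.mk0 a ha0, ?_⟩
          have h2 : ringChar F ≠ 2 := by rw [ringChar.eq F 3]; omega
          have ha' : (a : F) ≠ 0 := fun e => ha0 (Subtype.ext e)
          rw [Units.val_mk0, isSquare_iff' (mul_ne_zero D.ne_zero (inv_ne_zero ha')), mul_pow, inv_pow,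
            (FiniteField.pow_dichotomy h2 D.ne_zero).resolve_left (fun h => hsq ((isSquare_iff' D.ne_zero).2 h)),
            (FiniteField.pow_dichotomy h2 ha').resolve_left (fun h => ha ((isSquare_iff' ha').2 h))]
          norm_num
        obtain ⟨u, hu⟩ := ha
        have ha' : ((a : F₀) : F) ≠ 0 := fun e => a.ne_zero (Subtype.ext e)
        have hu0 : u ≠ 0 := fun e => by
          rw [e, mul_zero] at hu
          exact mul_ne_zero D.ne_zero (inv_ne_zero ha') hu
        refine ⟨Function.update 1 i₀ (Units.mk0 u hu0), a, ?_⟩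
        rw [hprod, h1, Units.val_mk0, pow_two, ← hu, mul_assoc, inv_mul_cancel₀ ha', mul_one]
    let w : Fin n → F := fun j => (lam (e.symm j).1 : F)
    let A₀ : Matrix (Fin n) (Fin n) F₀ := Matrix.diagonal (Function.update (1 : Fin n → F₀) (Classical.arbitrary _) (a : F₀))
    have hA₀ : A₀.det = (a : F₀) := by
      rw [Matrix.det_diagonal, Finset.prod_update_of_mem (Finset.mem_univ _)]; simp
    let P : Matrix.SpecialLinearGroup (Fin n) F := ⟨G * Matrix.diagonal w * φ A₀, by
      rw [Matrix.det_mul, Matrix.det_mul, Matrix.det_diagonal,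
        show (φ A₀).det = ((a : F₀) : F) by rw [← hA₀]; exact ((F₀.subtype : F₀ →+* F).map_det A₀).symm,
        show (∏ j, w j) = ∏ i, (lam i : F) ^ dd i by
          rw [← e.prod_comp, Fintype.prod_sigma]; simp [w],
        mul_assoc, hlam, mul_inv_cancel₀ ((Matrix.isUnit_iff_isUnit_det G).1 hG).ne_zero]⟩
    let A : GL (Fin n) F₀ := Matrix.GeneralLinearGroup.mkOfDetNeZero A₀ (by rw [hA₀]; exact a.ne_zero)
    have hcomm : φ (1 + Sh) * Matrix.diagonal w = Matrix.diagonal w * φ (1 + Sh) := by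
      rw [map_add, map_one, mul_add, add_mul, one_mul, mul_one]
      congr 1
      ext i j
      rw [Matrix.mul_diagonal, Matrix.diagonal_mul, mul_comm]
      by_cases hij : (e.symm i).1 = (e.symm j).1 ∧ ((e.symm i).2 : ℕ) = (e.symm j).2 + 1
      · simp only [w, hij.1]
      · simp [φ, Sh, hij]
    have hdet : (1 + Sh).det ≠ 0 := fun h => by
      have h1 := congrArg Matrix.det hxG
      rw [Matrix.det_mul, Matrix.det_mul, Matrix.det_smul, x.2, one_mul,
        show (φ (1 + Sh)).det = 0 by rw [← map_zero (F₀.subtype : F₀ →+* F), ← h]; exact ((F₀.subtype : F₀ →+* F).map_det _).symm,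
        mul_zero, mul_zero] at h1
      exact ((Matrix.isUnit_iff_isUnit_det G).1 hG).ne_zero h1
    refine ⟨P, ?_⟩
    rw [Subgroup.mem_comap, mem_iff]
    refine ⟨A⁻¹ * Matrix.GeneralLinearGroup.mkOfDetNeZero _ hdet * A, Units.mk0 d hd0, ?_⟩
    show ((P⁻¹ : Matrix.SpecialLinearGroup (Fin n) F) : Matrix (Fin n) (Fin n) F) * (x : Matrix (Fin n) (Fin n) F) * P = d • φ _
    rw [Units.val_mul, Units.val_mul, map_mul, map_mul, Matrix.GeneralLinearGroup.val_mkOfDetNeZero]
    have hxP : (x : Matrix (Fin n) (Fin n) F) * P = (P : Matrix (Fin n) (Fin n) F) *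
        (d • (φ ((A⁻¹ : GL (Fin n) F₀) : Matrix (Fin n) (Fin n) F₀) * φ (1 + Sh) * φ A)) := by
      show (x : Matrix (Fin n) (Fin n) F) * (G * Matrix.diagonal w * φ A₀) = G * Matrix.diagonal w * φ A₀ * _
      rw [← mul_assoc, ← mul_assoc, hxG, Algebra.mul_smul_comm, Algebra.smul_mul_assoc, Algebra.smul_mul_assoc,
        mul_assoc G, hcomm, Algebra.mul_smul_comm, show φ A₀ = φ (A : Matrix (Fin n) (Fin n) F₀) from rfl]
      congr 1
      simp only [mul_assoc]
      rw [← mul_assoc (φ (A : Matrix (Fin n) (Fin n) F₀)), ← map_mul φ (A : Matrix (Fin n) (Fin n) F₀), Units.mul_inv, map_one, one_mul]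
    rw [mul_assoc, hxP, ← mul_assoc, ← Matrix.SpecialLinearGroup.coe_mul, inv_mul_cancel, Matrix.SpecialLinearGroup.coe_one,
      one_mul]


end Cfsg.Agent.S5966
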