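import Cfsg.Statements.S5967
import Cfsg.Agent.Lib.MaxSub.InvolAlt
import Mathlib.RingTheory.IntegralDomain
-- import your own Cfsg.Agent.* helpers here

set_option autoImplicit false
open scoped MatrixGroups
open Cfsg

namespace Cfsg.Agent.S5967

theorem exists_pow_eq_neg_one {F : Type*} [Field F] [Fintype F] {n : ℕ} (hn : n ≠ 0)
    (hv : padicValNat 2 n < padicValNat 2 (Fintype.card F - 1)) : ∃ c : F, c ^ n = -1 ∧ (2 : F) ≠ 0 := by
  obtain ⟨j, hj⟩ : ∃ j, padicValNat 2 n = j := ⟨_, rfl⟩
  rw [hj] at hv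
  obtain ⟨n', hn'⟩ : 2 ^ j ∣ n := hj ▸ pow_padicValNat_dvd
  have hodd : Odd n' := by
    by_contra he
    obtain ⟨l, rfl⟩ := even_iff_two_dvd.1 (Nat.not_odd_iff_even.1 he)
    exact pow_succ_padicValNat_not_dvd (p := 2) hn ⟨l, by rw [hj, hn']; ring⟩
  obtain ⟨w, hw⟩ := IsCyclic.exists_ofOrder_eq_natCard (α := Fˣ)
  have hcard : orderOf w = Fintype.card F - 1 := by rw [hw, Nat.card_units, Nat.card_eq_fintype_card]
  obtain ⟨k, hk⟩ : 2 ^ (j + 1) ∣ orderOf w := hcard ▸ (pow_dvd_pow 2 hv).trans pow_padicValNat_dvd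
  have hpos : 0 < orderOf w := orderOf_pos w
  have hsq : (((w : F) ^ (k * 2 ^ j)) - 1) * (((w : F) ^ (k * 2 ^ j)) + 1) = 0 := by
    have h : (w : F) ^ orderOf w = 1 := by rw [← Units.val_pow_eq_pow_val, pow_orderOf_eq_one, Units.val_one]
    rw [hk, show 2 ^ (j + 1) * k = k * 2 ^ j + k * 2 ^ j by ring, pow_add] at h
    linear_combination h
  have hne : (w : F) ^ (k * 2 ^ j) ≠ 1 := fun h => by
    have hlt : k * 2 ^ j < orderOf w := by
      have hk0 : 0 < k := Nat.pos_of_ne_zero fun h0 => by rw [hk, h0, mul_zero] at hpos; omega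
      rw [hk, pow_succ]; nlinarith [Nat.mul_pos hk0 (Nat.two_pow_pos j)]
    refine pow_ne_one_of_lt_orderOf ?_ hlt (Units.ext (by rw [Units.val_pow_eq_pow_val, h, Units.val_one]))
    intro h0
    rcases Nat.mul_eq_zero.1 h0 with h1 | h1
    · rw [h1, mul_zero] at hk; omega
    · exact (Nat.two_pow_pos j).ne' h1
  have hm := eq_neg_of_add_eq_zero_left ((mul_eq_zero.1 hsq).resolve_left (sub_ne_zero.2 hne))
  refine ⟨(w : F) ^ k, ?_, fun h2 => hne (hm.trans (by linear_combination -h2))⟩
  rw [hn', ← pow_mul, show k * (2 ^ j * n') = k * 2 ^ j * n' by ring, pow_mul, hm, hodd.neg_one_pow]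

/-- Involutions of PSL_n(q) and the symplectic-type subgroups. Here `T = PSL_n(F)` for a field `F` with `q` elements, `n ≥ 4` even, `f` is a nondegenerate alternating form on `F^n`, and `H` is the subgroup of matrices of determinant 1 preserving `f` up to a scalar — a maximal subgroup of type Sp_n(q); Ω is the set of `T`-conjugates of `H` (cosets of `H`), so an element of `T` of prime order `r` (a matrix `x` of determinant 1 with `x^r` scalar, `x` not scalar) fixes a point of Ω when some conjugate of `x` by a matrix of determinant 1 preserves `f` up to a scalar. Suppose the index of `H` is even. Then every involution of `T` is conjugate in `T` into `H` if and only if `(q − 1)_2 ≤ (n)_2`. -/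
theorem result {F : Type*} [Field F] [Fintype F] {p : ℕ} [Fact p.Prime] [CharP F p] {q : ℕ} (hq : Fintype.card F = q)
    (n : ℕ) (hn : 4 ≤ n) (he : Even n) (f : (Fin n → F) → (Fin n → F) → F) (hf : Cfsg.Geo.IsSymplecticForm f)
    (hΩ : 2 ∣ ((Cfsg.Geo.similarityGroup f).comap (Matrix.SpecialLinearGroup.toGL : Matrix.SpecialLinearGroup (Fin n) F →* GL (Fin n) F)).index) :
    (∀ x : Matrix.SpecialLinearGroup (Fin n) F,
      (∃ z : F, ((x ^ 2 : Matrix.SpecialLinearGroup (Fin n) F) : Matrix (Fin n) (Fin n) F) = z • (1 : Matrix (Fin n) (Fin n) F)) →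
      (∀ z : F, (x : Matrix (Fin n) (Fin n) F) ≠ z • (1 : Matrix (Fin n) (Fin n) F)) →
      ∃ P : Matrix.SpecialLinearGroup (Fin n) F, P⁻¹ * x * P ∈ ((Cfsg.Geo.similarityGroup f).comap (Matrix.SpecialLinearGroup.toGL : Matrix.SpecialLinearGroup (Fin n) F →* GL (Fin n) F))) ↔
    padicValNat 2 (q - 1) ≤ padicValNat 2 n := by
  subst hq
  constructor
  · intro hall
    by_contra hv
    obtain ⟨c, hcn, h2⟩ := exists_pow_eq_neg_one (F := F) (n := n) (by omega) (not_le.1 hv)
    have hc : c ≠ 0 := fun h => by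
      rw [h, zero_pow (by omega)] at hcn
      exact one_ne_zero (α := F) (by linear_combination hcn)
    let i₀ : Fin n := ⟨0, by omega⟩
    let dd : Fin n → F := fun i => if i = i₀ then c else -c
    have hdd : ∏ i, dd i = 1 := by
      rw [Finset.prod_ite, Finset.prod_const, Finset.prod_const, Finset.filter_eq', if_pos (Finset.mem_univ _),
        Finset.filter_ne', Finset.card_singleton, Finset.card_erase_of_mem (Finset.mem_univ _), Finset.card_univ,
        Fintype.card_fin, pow_one, neg_pow, (Nat.Even.sub_odd (by omega) he odd_one).neg_one_pow]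
      obtain ⟨k, rfl⟩ : ∃ k, n = k + 1 := ⟨n - 1, by omega⟩
      rw [pow_succ] at hcn
      rw [Nat.add_sub_cancel]
      linear_combination -hcn
    let x : Matrix.SpecialLinearGroup (Fin n) F := ⟨Matrix.diagonal dd, by rw [Matrix.det_diagonal, hdd]⟩
    have hxval : (x : Matrix (Fin n) (Fin n) F) = Matrix.diagonal dd := rfl
    obtain ⟨P, ⟨μ, hμ⟩⟩ := hall x ⟨c * c, by
        rw [pow_two, Matrix.SpecialLinearGroup.coe_mul, hxval, Matrix.diagonal_mul_diagonal, Matrix.smul_one_eq_diagonal]
        congr 1; funext i; simp only [dd]; split_ifs <;> ring⟩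
      (fun z h => by
        have h0 := congrFun (congrFun h i₀) i₀
        have h1 := congrFun (congrFun h ⟨1, by omega⟩) ⟨1, by omega⟩
        simp [hxval, dd, i₀] at h0 h1
        have : (2 : F) * c = 0 := by linear_combination h0 - h1
        exact mul_ne_zero h2 hc this)
    let Q : (Fin n → F) → (Fin n → F) := fun v => ((P⁻¹ : Matrix.SpecialLinearGroup (Fin n) F) : Matrix (Fin n) (Fin n) F).mulVec v
    have hT : ∀ u v, f (Q (Matrix.diagonal dd |>.mulVec u)) (Q (Matrix.diagonal dd |>.mulVec v)) = (μ : F) * f (Q u) (Q v) := by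
      intro u v
      have hPP : ∀ y, ((P : Matrix.SpecialLinearGroup (Fin n) F) : Matrix (Fin n) (Fin n) F).mulVec (Q y) = y := fun y => by
        show _ = _
        simp only [Q, Matrix.mulVec_mulVec, ← Matrix.SpecialLinearGroup.coe_mul, mul_inv_cancel,
          Matrix.SpecialLinearGroup.coe_one, Matrix.one_mulVec]
      have h := hμ (Q u) (Q v)
      simp only [Matrix.SpecialLinearGroup.toGL, MonoidHom.coe_mk, OneHom.coe_mk] at h
      have hval : ∀ y, (((P⁻¹ * x * P : Matrix.SpecialLinearGroup (Fin n) F)) : Matrix (Fin n) (Fin n) F).mulVec (Q y) =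
          Q ((Matrix.diagonal dd).mulVec y) := fun y => by
        rw [Matrix.SpecialLinearGroup.coe_mul, Matrix.SpecialLinearGroup.coe_mul, ← Matrix.mulVec_mulVec, hPP,
          ← Matrix.mulVec_mulVec, hxval]
      rw [← hval, ← hval]
      exact h
    have hsm : ∀ (a : F) y, Q (a • y) = a • Q y := fun a y => Matrix.mulVec_smul _ _ _
    have hdi : ∀ i, (Matrix.diagonal dd).mulVec (Pi.single i 1) = dd i • (Pi.single i 1 : Fin n → F) := fun i => by
      funext j
      rw [Matrix.mulVec_diagonal]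
      by_cases h : j = i
      · subst h; simp
      · simp [h]
    have key : ∀ i j, (dd i * dd j - μ) * f (Q (Pi.single i 1)) (Q (Pi.single j 1)) = 0 := fun i j => by
      have h := hT (Pi.single i 1) (Pi.single j 1)
      rw [hdi, hdi, hsm, hsm, hf.bilinear.smul_left, hf.bilinear.smul_right] at h
      linear_combination h
    let L : (Fin n → F) → ((Fin n → F) →ₗ[F] F) := fun a =>
      { toFun := fun y => f a y, map_add' := hf.bilinear.add_right a, map_smul' := fun s y => hf.bilinear.smul_right s a y }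
    have hzero : ∀ i, (∀ j, f (Q (Pi.single i 1)) (Q (Pi.single j 1)) = 0) → False := fun i hi => by
      have hQi : Q (Pi.single i 1) ≠ 0 := by
        intro h
        have := congrArg (fun w => ((P : Matrix.SpecialLinearGroup (Fin n) F) : Matrix (Fin n) (Fin n) F).mulVec w) h
        simp only [Q, Matrix.mulVec_mulVec, ← Matrix.SpecialLinearGroup.coe_mul, mul_inv_cancel,
          Matrix.SpecialLinearGroup.coe_one, Matrix.one_mulVec, Matrix.mulVec_zero] at this
        simpa using congrFun this i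
      obtain ⟨w, hw⟩ := (hf.nondegenerate _ hQi).2
      have hall0 : (L (Q (Pi.single i 1))).comp (Matrix.toLin' ((P⁻¹ : Matrix.SpecialLinearGroup (Fin n) F) : Matrix (Fin n) (Fin n) F)) = 0 := by
        apply (Pi.basisFun F (Fin n)).ext
        intro j
        simpa [L, Q] using hi j
      apply hw
      have := LinearMap.congr_fun hall0 (((P : Matrix.SpecialLinearGroup (Fin n) F) : Matrix (Fin n) (Fin n) F).mulVec w)
      rw [LinearMap.zero_apply, LinearMap.comp_apply, Matrix.toLin'_apply, Matrix.mulVec_mulVec,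
        ← Matrix.SpecialLinearGroup.coe_mul, inv_mul_cancel, Matrix.SpecialLinearGroup.coe_one, Matrix.one_mulVec] at this
      exact this
    have hdne : ∀ j, j ≠ i₀ → dd j = -c := fun j hj => if_neg hj
    by_cases hμc : (μ : F) = c * c
    · refine hzero i₀ fun j => ?_
      rcases eq_or_ne j i₀ with rfl | hj
      · exact hf.alternating _
      · refine (mul_eq_zero.1 (key i₀ j)).resolve_left fun h => ?_
        rw [hdne j hj, hμc, show dd i₀ = c from if_pos rfl] at h
        exact mul_ne_zero h2 (mul_ne_zero hc hc) (by linear_combination -h)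
    · have h1 : ∀ i j, i ≠ i₀ → j ≠ i₀ → f (Q (Pi.single i 1)) (Q (Pi.single j 1)) = 0 := fun i j hi hj =>
        (mul_eq_zero.1 (key i j)).resolve_left fun h => hμc (by rw [hdne i hi, hdne j hj] at h; linear_combination -h)
      let i₁ : Fin n := ⟨1, by omega⟩
      let i₂ : Fin n := ⟨2, by omega⟩
      have hi₁ : i₁ ≠ i₀ := by simp [i₁, i₀, Fin.ext_iff]
      have hi₂ : i₂ ≠ i₀ := by simp [i₂, i₀, Fin.ext_iff]
      by_cases hv1 : f (Q (Pi.single i₁ 1)) (Q (Pi.single i₀ 1)) = 0
      · exact hzero i₁ fun j => (eq_or_ne j i₀).elim (fun h => h ▸ hv1) (h1 _ _ hi₁)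
      obtain ⟨r, hr⟩ : ∃ r, f (Q (Pi.single i₂ 1)) (Q (Pi.single i₀ 1)) - r * f (Q (Pi.single i₁ 1)) (Q (Pi.single i₀ 1)) = 0 :=
        ⟨_, by rw [div_mul_cancel₀ _ hv1, sub_self]⟩
      have hadd : ∀ a b, Q (a + b) = Q a + Q b := fun a b => Matrix.mulVec_add _ _ _
      obtain ⟨u, hu⟩ : ∃ u, u = (Pi.single i₂ 1 : Fin n → F) + (-r) • Pi.single i₁ 1 := ⟨_, rfl⟩
      have hu0 : u i₂ = 1 := by simp [hu, i₁, i₂, Fin.ext_iff]
      obtain ⟨w, hw⟩ := (hf.nondegenerate (Q u) (fun h => by
        have := congrArg (fun w => ((P : Matrix.SpecialLinearGroup (Fin n) F) : Matrix (Fin n) (Fin n) F).mulVec w) h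
        simp only [Q, Matrix.mulVec_mulVec, ← Matrix.SpecialLinearGroup.coe_mul, mul_inv_cancel,
          Matrix.SpecialLinearGroup.coe_one, Matrix.one_mulVec, Matrix.mulVec_zero] at this
        rw [this] at hu0
        exact zero_ne_one hu0)).2
      have hall0 : (L (Q u)).comp (Matrix.toLin' ((P⁻¹ : Matrix.SpecialLinearGroup (Fin n) F) : Matrix (Fin n) (Fin n) F)) = 0 := by
        apply (Pi.basisFun F (Fin n)).ext
        intro j
        have : f (Q u) (Q (Pi.single j 1)) = 0 := by
          rw [hu, hadd, hsm, hf.bilinear.add_left, hf.bilinear.smul_left]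
          rcases eq_or_ne j i₀ with rfl | hj
          · linear_combination hr
          · rw [h1 _ _ hi₂ hj, h1 _ _ hi₁ hj]; ring
        simpa [L, Q] using this
      apply hw
      have := LinearMap.congr_fun hall0 (((P : Matrix.SpecialLinearGroup (Fin n) F) : Matrix (Fin n) (Fin n) F).mulVec w)
      rw [LinearMap.zero_apply, LinearMap.comp_apply, Matrix.toLin'_apply, Matrix.mulVec_mulVec,
        ← Matrix.SpecialLinearGroup.coe_mul, inv_mul_cancel, Matrix.SpecialLinearGroup.coe_one, Matrix.one_mulVec] at this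
      exact this
  · intro hv x hx _
    obtain ⟨z, hz⟩ := hx
    rw [pow_two, Matrix.SpecialLinearGroup.coe_mul] at hz
    have hdet : (x : Matrix (Fin n) (Fin n) F).det = 1 := x.2
    have hz0 : z ≠ 0 := by
      intro h
      have h1 := congrArg Matrix.det hz
      haveI hne : Nonempty (Fin n) := ⟨⟨0, by omega⟩⟩
      rw [Matrix.det_mul, hdet, mul_one, h, zero_smul, Matrix.det_zero] at h1
      exact one_ne_zero h1
    obtain ⟨E, μ, hE, hsim⟩ := CfsgLib.MaxSub.InvolAlt.simConj hf (by omega) he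
      (Matrix.toLin' (x : Matrix (Fin n) (Fin n) F)) hz0 (fun v => by
        rw [Matrix.toLin'_apply, Matrix.toLin'_apply, Matrix.mulVec_mulVec, hz, Matrix.smul_mulVec, Matrix.one_mulVec])
      (by rw [LinearMap.det_toLin', hdet]) hv
    let P : Matrix.SpecialLinearGroup (Fin n) F := ⟨LinearMap.toMatrix' (E.symm : (Fin n → F) →ₗ[F] (Fin n → F)), by
      rw [LinearMap.det_toMatrix', LinearEquiv.det_coe_symm, hE, inv_one]⟩
    have hP : ∀ v, (P : Matrix (Fin n) (Fin n) F).mulVec v = E.symm v := fun v => by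
      rw [← Matrix.toLin'_apply]; simp [P]
    have hPi : ∀ v, ((P⁻¹ : Matrix.SpecialLinearGroup (Fin n) F) : Matrix (Fin n) (Fin n) F).mulVec v = E v := fun v => by
      conv_lhs => rw [← E.symm_apply_apply v, ← hP]
      rw [Matrix.mulVec_mulVec, ← Matrix.SpecialLinearGroup.coe_mul, inv_mul_cancel,
        Matrix.SpecialLinearGroup.coe_one, Matrix.one_mulVec]
    have hval : ∀ v, ((P⁻¹ * x * P : Matrix.SpecialLinearGroup (Fin n) F) : Matrix (Fin n) (Fin n) F).mulVec v =
        E (Matrix.toLin' (x : Matrix (Fin n) (Fin n) F) (E.symm v)) := fun v => by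
      rw [Matrix.SpecialLinearGroup.coe_mul, Matrix.SpecialLinearGroup.coe_mul, ← Matrix.mulVec_mulVec, hP,
        ← Matrix.mulVec_mulVec, hPi, Matrix.toLin'_apply]
    have hμ : μ ≠ 0 := by
      rintro rfl
      obtain ⟨w, hw⟩ := (hf.nondegenerate (Pi.single ⟨0, by omega⟩ (1 : F)) (by simp)).2
      have hinj : ∀ y, ∃ y', E (Matrix.toLin' (x : Matrix (Fin n) (Fin n) F) (E.symm y')) = y := fun y =>
        ⟨E (((x⁻¹ : Matrix.SpecialLinearGroup (Fin n) F) : Matrix (Fin n) (Fin n) F).mulVec (E.symm y)), by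
          rw [E.symm_apply_apply, Matrix.toLin'_apply, Matrix.mulVec_mulVec, ← Matrix.SpecialLinearGroup.coe_mul,
            mul_inv_cancel, Matrix.SpecialLinearGroup.coe_one, Matrix.one_mulVec, E.apply_symm_apply]⟩
      obtain ⟨a, ha⟩ := hinj (Pi.single ⟨0, by omega⟩ (1 : F))
      obtain ⟨b, hb⟩ := hinj w
      exact hw (by rw [← ha, ← hb, hsim, zero_mul])
    exact ⟨P, Units.mk0 μ hμ, fun u v => by
      show f (Matrix.mulVec _ u) (Matrix.mulVec _ v) = _
      rw [Units.val_mk0, ← hsim, ← hval, ← hval]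
      rfl⟩

end Cfsg.Agent.S5967
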