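import Cfsg.Statements.S5968
import Cfsg.Agent.Lib.Classical.AltOrder
import Cfsg.Agent.Lib.Classical.SLOrder
import Cfsg.Agent.Lib.MaxSub.ExtMatrix
import Mathlib.FieldTheory.Finite.Extension
-- import your own Cfsg.Agent.* helpers here

set_option autoImplicit false
open scoped MatrixGroups
open Cfsg

namespace Cfsg.Agent.S5968

open Matrix

/-- no non-degenerate alternating form is scaled by `L` -/
def NoForm {F : Type*} [Field F] {n : ℕ} (L : (Fin n → F) →ₗ[F] (Fin n → F)) : Prop :=
  ∀ (B : (Fin n → F) →ₗ[F] (Fin n → F) →ₗ[F] F) (μ : F), μ ≠ 0 → (∀ v, B v v = 0) →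
    (∀ u v, B (L u) (L v) = μ * B u v) → ∃ u, u ≠ 0 ∧ ∀ v, B u v = 0

theorem finish {F : Type*} [Field F] {n r : ℕ} {f : (Fin n → F) → (Fin n → F) → F} (hf : Cfsg.Geo.IsSymplecticForm f)
    (hr : r ≠ 0) (L : (Fin n → F) →ₗ[F] (Fin n → F)) (hd : LinearMap.det L = 1) {z : F} (hL : L ^ r = z • 1)
    (hs : ∀ c : F, L ≠ c • 1) (hno : NoForm L) :
    ∃ x : Matrix.SpecialLinearGroup (Fin n) F,
      (∃ z : F, ((x ^ r : Matrix.SpecialLinearGroup (Fin n) F) : Matrix (Fin n) (Fin n) F) = z • (1 : Matrix (Fin n) (Fin n) F)) ∧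
      (∀ z : F, (x : Matrix (Fin n) (Fin n) F) ≠ z • (1 : Matrix (Fin n) (Fin n) F)) ∧
      ∀ P : Matrix.SpecialLinearGroup (Fin n) F, P⁻¹ * x * P ∉ ((Cfsg.Geo.similarityGroup f).comap (Matrix.SpecialLinearGroup.toGL : Matrix.SpecialLinearGroup (Fin n) F →* GL (Fin n) F)) := by
  obtain ⟨A, hA⟩ : ∃ A, LinearMap.toMatrixAlgEquiv' L = A := ⟨_, rfl⟩
  have hAL : ∀ v, A *ᵥ v = L v := fun v => by
    rw [← hA, ← Matrix.toLinAlgEquiv'_apply, Matrix.toLinAlgEquiv'_toMatrixAlgEquiv']
  have hA1 : A.det = 1 := by rw [← hA, ← hd]; exact LinearMap.det_toMatrix' L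
  obtain ⟨x, hx⟩ : ∃ x : Matrix.SpecialLinearGroup (Fin n) F, (x : Matrix (Fin n) (Fin n) F) = A := ⟨⟨A, hA1⟩, rfl⟩
  refine ⟨x, ⟨z, ?_⟩, fun c h => hs c ?_, fun P hP => ?_⟩
  · rw [Matrix.SpecialLinearGroup.coe_pow, hx, ← hA, ← map_pow, hL, map_smul, map_one]
  · rw [hx, ← hA] at h
    apply LinearMap.toMatrixAlgEquiv'.injective
    rw [h, map_smul, map_one]
  obtain ⟨μ, hμ⟩ := hP
  let Pi := ((P⁻¹ : Matrix.SpecialLinearGroup (Fin n) F) : Matrix (Fin n) (Fin n) F)
  let B : (Fin n → F) →ₗ[F] (Fin n → F) →ₗ[F] F :=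
    LinearMap.mk₂ F (fun u v => f (Pi *ᵥ u) (Pi *ᵥ v))
      (fun a b c => by simp [Matrix.mulVec_add, hf.bilinear.add_left])
      (fun s a b => by simp [Matrix.mulVec_smul, hf.bilinear.smul_left])
      (fun a b c => by simp [Matrix.mulVec_add, hf.bilinear.add_right])
      (fun s a b => by simp [Matrix.mulVec_smul, hf.bilinear.smul_right])
  have hPP : ∀ y, ((P : Matrix.SpecialLinearGroup (Fin n) F) : Matrix (Fin n) (Fin n) F) *ᵥ (Pi *ᵥ y) = y := fun y => by
    rw [Matrix.mulVec_mulVec, ← Matrix.SpecialLinearGroup.coe_mul, mul_inv_cancel, Matrix.SpecialLinearGroup.coe_one, Matrix.one_mulVec]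
  have hval : ∀ y, ((P⁻¹ * x * P : Matrix.SpecialLinearGroup (Fin n) F) : Matrix (Fin n) (Fin n) F) *ᵥ (Pi *ᵥ y) = Pi *ᵥ (L y) := fun y => by
    rw [Matrix.SpecialLinearGroup.coe_mul, Matrix.SpecialLinearGroup.coe_mul, ← Matrix.mulVec_mulVec, hPP, ← Matrix.mulVec_mulVec, hx, hAL]
  obtain ⟨u, hu, hrad⟩ := hno B μ μ.ne_zero (fun v => hf.alternating _) fun a b => by
    show f _ _ = _ * f _ _
    rw [← hval, ← hval]
    exact hμ _ _
  have hu' : Pi *ᵥ u ≠ 0 := fun h => hu (by rw [← hPP u, h, Matrix.mulVec_zero])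
  obtain ⟨w, hw⟩ := (hf.nondegenerate _ hu').2
  apply hw
  have := hrad ((P : Matrix (Fin n) (Fin n) F) *ᵥ w)
  simp only [B, LinearMap.mk₂_apply] at this
  rwa [Matrix.mulVec_mulVec _ Pi, ← Matrix.SpecialLinearGroup.coe_mul, inv_mul_cancel, Matrix.SpecialLinearGroup.coe_one, Matrix.one_mulVec] at this

/-- vectors pairing only with fewer vectors give a radical vector -/
theorem radical {F : Type*} [Field F] {n : ℕ} (B : (Fin n → F) →ₗ[F] (Fin n → F) →ₗ[F] F) (A C : Finset (Fin n))
    (hcard : C.card < A.card) (h : ∀ a ∈ A, ∀ b, b ∉ C → B (Pi.single a 1) (Pi.single b 1) = 0) :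
    ∃ u, u ≠ 0 ∧ ∀ v, B u v = 0 := by
  classical
  let e : ({a // a ∈ A} → F) →ₗ[F] (Fin n → F) := Fintype.linearCombination F fun a => Pi.single a.1 1
  have he : ∀ c (a : {a // a ∈ A}), e c a.1 = c a := fun c a => by
    simp [e, Fintype.linearCombination_apply, Finset.sum_apply, Pi.single_apply, Subtype.coe_inj]
  let T : ({a // a ∈ A} → F) →ₗ[F] ({b // b ∈ C} → F) := LinearMap.pi fun b => (B.flip (Pi.single b.1 1)).comp e
  obtain ⟨c, hc, hc0⟩ : ∃ c, T c = 0 ∧ c ≠ 0 := by
    by_contra hno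
    push Not at hno
    have hinj : Function.Injective T := by
      rw [injective_iff_map_eq_zero]
      exact fun a ha => hno a ha
    have := LinearMap.finrank_le_finrank_of_injective hinj
    simp at this
    omega
  refine ⟨e c, fun h0 => hc0 (funext fun a => by rw [← he c a, h0]; rfl), fun v => ?_⟩
  have hb : ∀ b, B (e c) (Pi.single b 1) = 0 := fun b => by
    by_cases hbC : b ∈ C
    · exact congrFun hc ⟨b, hbC⟩
    · rw [Fintype.linearCombination_apply, map_sum, LinearMap.sum_apply]
      exact Finset.sum_eq_zero fun a _ => by rw [map_smul, LinearMap.smul_apply, h a.1 a.2 b hbC, smul_zero]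
  have h0 : B (e c) = 0 := (Pi.basisFun F (Fin n)).ext fun b => by simpa using hb b
  rw [h0]; rfl

theorem exists_diag {F : Type*} [Field F] {n r : ℕ} {f : (Fin n → F) → (Fin n → F) → F} (hf : Cfsg.Geo.IsSymplecticForm f)
    (hn : 4 ≤ n) (he : Even n) (hr : r.Prime) (hr2 : r ≠ 2) (hgap : ¬ (n = 6 ∧ r = 3)) {ω : F} (hω : orderOf ω = r) :
    ∃ L : (Fin n → F) →ₗ[F] (Fin n → F), LinearMap.det L = 1 ∧ L ^ r = (1 : F) • 1 ∧ (∀ c : F, L ≠ c • 1) ∧ NoForm L := by
  classical
  have hr3 : 3 ≤ r := by have := hr.two_le; omega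
  have hωr : ω ^ r = 1 := by rw [← hω]; exact pow_orderOf_eq_one ω
  have hω0 : ω ≠ 0 := fun h => by rw [h, zero_pow hr.ne_zero] at hωr; exact zero_ne_one hωr
  have hne : ∀ k, 0 < k → k < r → ω ^ k ≠ 1 := fun k h1 h2 h => by
    have := orderOf_dvd_of_pow_eq_one h
    rw [hω] at this
    have := Nat.le_of_dvd h1 this
    omega
  have hω1 : ω ≠ 1 := fun h => hne 1 one_pos (by omega) (by rw [h, one_pow])
  have hω2 : ω * ω ≠ 1 := fun h => hne 2 two_pos (by omega) (by rw [pow_two, h])
  let i₀ : Fin n := ⟨0, by omega⟩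
  let i₁ : Fin n := ⟨1, by omega⟩
  let i₂ : Fin n := ⟨2, by omega⟩
  let c₂ : F := if r = 3 then ω else (ω * ω)⁻¹
  let d : Fin n → F := fun j => if j = i₀ ∨ j = i₁ then ω else if j = i₂ then c₂ else 1
  have hd01 : ω * ω * c₂ = 1 := by
    simp only [c₂]
    split_ifs with h
    · rw [← pow_two, ← pow_succ, show 2 + 1 = r by omega]; exact hωr
    · exact mul_inv_cancel₀ (mul_ne_zero hω0 hω0)
  have h01 : i₀ ≠ i₁ := by simp [i₀, i₁]
  have h02 : i₀ ≠ i₂ := by simp [i₀, i₂]
  have h12 : i₁ ≠ i₂ := by simp [i₁, i₂]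
  have hdet : ∏ j, d j = 1 := by
    rw [← Finset.prod_subset (Finset.subset_univ ({i₀, i₁, i₂} : Finset (Fin n))) fun j _ hj => by
      simp only [Finset.mem_insert, Finset.mem_singleton, not_or] at hj
      simp [d, hj.1, hj.2.1, hj.2.2]]
    rw [Finset.prod_insert (by simp [h01, h02]), Finset.prod_insert (by simp [h12]), Finset.prod_singleton]
    simp [d, h02.symm, h12.symm]
    linear_combination hd01
  refine ⟨Matrix.toLinAlgEquiv' (Matrix.diagonal d), ?_, ?_, fun c h => ?_, ?_⟩
  · show LinearMap.det (Matrix.toLin' (Matrix.diagonal d)) = 1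
    rw [LinearMap.det_toLin', Matrix.det_diagonal, hdet]
  · rw [one_smul, ← map_pow, Matrix.diagonal_pow, ← map_one (Matrix.toLinAlgEquiv' (R := F) (n := Fin n)), ← Matrix.diagonal_one]
    congr 2
    funext j
    simp only [Pi.pow_apply, d, c₂]
    split_ifs <;> simp [hωr, mul_pow, inv_pow]
  · have h' : Matrix.diagonal d = c • 1 := by
      apply (Matrix.toLinAlgEquiv' (R := F) (n := Fin n)).injective
      rw [h, map_smul, map_one]
    have e0 := congrFun (congrFun h' i₀) i₀
    have e3 := congrFun (congrFun h' ⟨3, by omega⟩) ⟨3, by omega⟩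
    simp [d, i₀, i₁, i₂] at e0 e3
    exact hω1 (e0.trans e3.symm)
  intro B μ _ hA hB
  have key : ∀ a b, d a * d b ≠ μ → B (Pi.single a 1) (Pi.single b 1) = 0 := fun a b hab => by
    have h := hB (Pi.single a 1) (Pi.single b 1)
    have hL : ∀ j, Matrix.toLinAlgEquiv' (Matrix.diagonal d) (Pi.single j (1 : F)) = d j • (Pi.single j 1 : Fin n → F) := fun j => by
      funext k
      rw [Matrix.toLinAlgEquiv'_apply, Matrix.mulVec_diagonal]
      by_cases hk : k = j
      · subst hk; simp
      · simp [hk]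
    rw [hL, hL, map_smul, map_smul, LinearMap.smul_apply, smul_eq_mul, smul_eq_mul] at h
    exact (mul_eq_zero.1 (show (d a * d b - μ) * B (Pi.single a 1) (Pi.single b 1) = 0 by linear_combination h)).resolve_left (sub_ne_zero.2 hab)
  have hd0 : d i₀ = ω := by simp [d]
  have hd1 : d i₁ = ω := by simp [d]
  have hdrest : ∀ j, j ≠ i₀ → j ≠ i₁ → j ≠ i₂ → d j = 1 := fun j a b c => by simp [d, a, b, c]
  have hd2 : d i₂ = c₂ := by simp [d, h02.symm, h12.symm]
  let i₃ : Fin n := ⟨3, by omega⟩
  have hd3 : d i₃ = 1 := hdrest _ (by simp [i₃, i₀]) (by simp [i₃, i₁]) (by simp [i₃, i₂])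
  let ones : Finset (Fin n) := Finset.univ \ {i₀, i₁, i₂}
  have hones : ∀ j ∈ ones, d j = 1 := fun j hj => by
    simp [ones] at hj; exact hdrest j hj.1 hj.2.1 hj.2.2
  have honec : ones.card = n - 3 := by
    rw [Finset.card_sdiff_of_subset (Finset.subset_univ _), Finset.card_univ, Fintype.card_fin,
      Finset.card_insert_of_notMem (by simp [h01, h02]), Finset.card_insert_of_notMem (by simp [h12]), Finset.card_singleton]
  have hall : ∀ j, j = i₀ ∨ j = i₁ ∨ j = i₂ ∨ j ∈ ones := fun j => by simp [ones]; tauto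
  by_cases hr33 : r = 3
  · have hc : c₂ = ω := if_pos hr33
    have hdw : ∀ j, j ∉ ones → d j = ω := fun j hj => by
      rcases hall j with rfl | rfl | rfl | h
      exacts [hd0, hd1, hd2.trans hc, absurd h hj]
    by_cases hμ1 : μ = 1
    · refine radical B {i₀} ∅ (by simp) fun a ha b _ => key a b ?_
      rw [Finset.mem_singleton.1 ha, hd0, hμ1]
      by_cases hb : b ∈ ones
      · rw [hones b hb, mul_one]; exact hω1
      · rw [hdw b hb]; exact hω2
    by_cases hμω : μ = ω
    · by_cases hn4 : n = 4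
      · refine radical B {i₀, i₁, i₂} ones (by rw [honec, Finset.card_insert_of_notMem (by simp [h01, h02]),
          Finset.card_insert_of_notMem (by simp [h12]), Finset.card_singleton]; omega) fun a ha b hb => key a b ?_
        rw [hdw a (by simp [ones] at ha ⊢; tauto), hdw b hb, hμω]
        intro h
        exact hω1 (mul_left_cancel₀ hω0 (h.trans (mul_one ω).symm))
      · obtain ⟨l, hl⟩ := he
        refine radical B ones {i₀, i₁, i₂} (by rw [honec, Finset.card_insert_of_notMem (by simp [h01, h02]),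
          Finset.card_insert_of_notMem (by simp [h12]), Finset.card_singleton]; omega) fun a ha b hb => key a b ?_
        rw [hones a ha, hones b (by simp [ones] at hb ⊢; tauto), one_mul, hμω]
        exact Ne.symm hω1
    · refine radical B {i₃} ∅ (by simp) fun a ha b _ => key a b ?_
      rw [Finset.mem_singleton.1 ha, hd3, one_mul]
      by_cases hb : b ∈ ones
      · rw [hones b hb]; exact Ne.symm hμ1
      · rw [hdw b hb]; exact Ne.symm hμω
  · have hr5 : 5 ≤ r := by
      rcases Nat.lt_or_ge r 5 with h | h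
      · interval_cases r <;> first | omega | exact absurd hr (by norm_num)
      · exact h
    have hc : c₂ = (ω * ω)⁻¹ := if_neg hr33
    have hww : ω * ω ≠ 0 := mul_ne_zero hω0 hω0
    have hp : ∀ k, 0 < k → k < 5 → ω ^ k ≠ 1 := fun k a b => hne k a (by omega)
    by_cases hμ1 : μ = 1
    · refine radical B {i₀} ∅ (by simp) fun a ha b _ => key a b ?_
      rw [Finset.mem_singleton.1 ha, hd0, hμ1]
      rcases hall b with rfl | rfl | rfl | hb
      · rw [hd0]; exact hω2
      · rw [hd1]; exact hω2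
      · rw [hd2, hc]; intro h; field_simp at h; exact hω1 (by first | exact h | exact h.symm | linear_combination h | linear_combination -h)
      · rw [hones b hb, mul_one]; exact hω1
    by_cases hμω : μ = ω
    · by_cases hn4 : n = 4
      · refine radical B {i₀, i₁} ones (by rw [honec, Finset.card_insert_of_notMem (by simp [h01]), Finset.card_singleton]; omega)
          fun a ha b hb => key a b ?_
        have hda : d a = ω := by
          simp only [Finset.mem_insert, Finset.mem_singleton] at ha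
          rcases ha with rfl | rfl
          exacts [hd0, hd1]
        rw [hda, hμω]
        intro h
        have h1 : d b = 1 := mul_left_cancel₀ hω0 (h.trans (mul_one ω).symm)
        rcases hall b with rfl | rfl | rfl | hb'
        · exact hω1 (hd0.symm.trans h1)
        · exact hω1 (hd1.symm.trans h1)
        · rw [hd2, hc, inv_eq_one] at h1; exact hω2 h1
        · exact hb hb'
      · obtain ⟨l, hl⟩ := he
        refine radical B ones {i₀, i₁} (by rw [honec, Finset.card_insert_of_notMem (by simp [h01]), Finset.card_singleton]; omega)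
          fun a ha b hb => key a b ?_
        rw [hones a ha, one_mul, hμω]
        rcases hall b with rfl | rfl | rfl | hb'
        · simp at hb
        · simp at hb
        · rw [hd2, hc]
          intro h
          refine hp 3 (by norm_num) (by norm_num) ?_
          rw [← mul_inv_cancel₀ hww, h]
          ring
        · rw [hones b hb']; exact Ne.symm hω1
    by_cases hμc : μ = c₂
    · refine radical B {i₀} ∅ (by simp) fun a ha b _ => key a b ?_
      rw [Finset.mem_singleton.1 ha, hd0, hμc, hc]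
      intro h
      have h3 : ω * ω * (ω * d b) = 1 := by rw [h, mul_inv_cancel₀ hww]
      rcases hall b with rfl | rfl | rfl | hb'
      · rw [hd0] at h3; exact hp 4 (by norm_num) (by norm_num) (by linear_combination h3)
      · rw [hd1] at h3; exact hp 4 (by norm_num) (by norm_num) (by linear_combination h3)
      · rw [hd2, hc] at h3
        refine hω1 ?_
        rw [mul_left_comm, mul_inv_cancel₀ hww, mul_one] at h3
        exact h3
      · rw [hones b hb'] at h3; exact hp 3 (by norm_num) (by norm_num) (by linear_combination h3)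
    refine radical B {i₃} ∅ (by simp) fun a ha b _ => key a b ?_
    rw [Finset.mem_singleton.1 ha, hd3, one_mul]
    rcases hall b with rfl | rfl | rfl | hb'
    · rw [hd0]; exact Ne.symm hμω
    · rw [hd1]; exact Ne.symm hμω
    · rw [hd2]; exact Ne.symm hμc
    · rw [hones b hb']; exact Ne.symm hμ1

theorem exists_unip {F : Type*} [Field F] {n p : ℕ} [Fact p.Prime] [CharP F p] (hn : 4 ≤ n) (hp : p ≠ 2) :
    ∃ L : (Fin n → F) →ₗ[F] (Fin n → F), LinearMap.det L = 1 ∧ L ^ p = (1 : F) • 1 ∧ (∀ c : F, L ≠ c • 1) ∧ NoForm L := by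
  have hpp : p.Prime := Fact.out
  let i₀ : Fin n := ⟨0, by omega⟩
  let i₁ : Fin n := ⟨1, by omega⟩
  let i₂ : Fin n := ⟨2, by omega⟩
  let N : Module.End F (Fin n → F) := LinearMap.single F (fun _ => F) i₀ ∘ₗ LinearMap.proj i₁ +
    LinearMap.single F (fun _ => F) i₁ ∘ₗ LinearMap.proj i₂
  have hN : ∀ v, N v = Pi.single i₀ (v i₁) + Pi.single i₁ (v i₂) := fun v => rfl
  have h10 : i₁ ≠ i₀ := by simp [i₀, i₁]
  have h20 : i₂ ≠ i₀ := by simp [i₀, i₂]
  have h21 : i₂ ≠ i₁ := by simp [i₁, i₂]
  have hN2 : ∀ v, N (N v) = Pi.single i₀ (v i₂) := fun v => by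
    simp [hN, h10, h20, h21]
  have hN3 : N ^ 3 = 0 := LinearMap.ext fun v => by
    show N (N (N v)) = 0
    rw [hN2]; simp [hN, h20, h21]
  have hLp : (1 + N) ^ p = 1 := by
    haveI : Nontrivial (Fin n → F) := ⟨⟨Pi.single i₀ 1, 0, by simp⟩⟩
    haveI : CharP (Module.End F (Fin n → F)) p :=
      charP_of_injective_algebraMap (FaithfulSMul.algebraMap_injective F (Module.End F (Fin n → F))) p
    rw [add_pow_char_of_commute p (Commute.one_left N), one_pow,
      pow_eq_zero_of_le (by have := hpp.two_le; omega : 3 ≤ p) hN3, add_zero]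
  refine ⟨1 + N, ?_, by rw [hLp, one_smul], fun c h => ?_, ?_⟩
  · have h := congrArg LinearMap.det hLp
    rw [map_pow, map_one] at h
    have : (LinearMap.det (1 + N) - 1) ^ p = 0 := by rw [sub_pow_char, h, one_pow, sub_self]
    exact sub_eq_zero.1 (pow_eq_zero_iff hpp.ne_zero |>.1 this)
  · have := congrFun (LinearMap.congr_fun h (Pi.single i₁ 1)) i₀
    simp [hN, h10, Ne.symm h10] at this
  intro B μ _ hA hB
  have sk : ∀ a b, B b a = -B a b := fun a b => by
    have h := hA (a + b)
    simp only [map_add, LinearMap.add_apply, hA] at h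
    linear_combination h
  by_cases hzero : B = 0
  · exact ⟨Pi.single i₀ 1, by simp, fun v => by rw [hzero]; rfl⟩
  have hpow : ∀ k u v, B (((1 + N) ^ k) u) (((1 + N) ^ k) v) = μ ^ k * B u v := by
    intro k
    induction k with
    | zero => simp
    | succ k ih =>
      intro u v
      rw [pow_succ', Module.End.mul_apply, Module.End.mul_apply, hB, ih, pow_succ]; ring
  have hμ : μ = 1 := by
    obtain ⟨u, v, huv⟩ : ∃ u v, B u v ≠ 0 := by
      by_contra h
      push Not at h
      exact hzero (LinearMap.ext fun u => LinearMap.ext fun v => h u v)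
    have h := hpow p u v
    rw [hLp, Module.End.one_apply, Module.End.one_apply] at h
    rcases mul_eq_zero.1 (show (μ ^ p - 1) * B u v = 0 by linear_combination -h) with h | h
    · have h1 : (μ - 1) ^ p = 0 := by rw [sub_pow_char, one_pow]; linear_combination h
      exact sub_eq_zero.1 (pow_eq_zero_iff hpp.ne_zero |>.1 h1)
    · exact absurd h huv
  have h1 : ∀ u v, B (N u) v + B (N u) (N v) = -B u (N v) := fun u v => by
    have h := hB u v
    simp only [LinearMap.add_apply, Module.End.one_apply, map_add, hμ, one_mul] at h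
    linear_combination h
  have h3' : ∀ v, N (N (N v)) = 0 := fun v => LinearMap.congr_fun hN3 v
  have h2' : ∀ u v, B (N u) (N (N v)) = 0 := fun u v => by
    have h := h1 u (N (N v))
    rw [h3', map_zero, map_zero, add_zero, neg_zero] at h
    exact h
  have h3 : ∀ u v, B (N (N u)) v = B u (N (N v)) := fun u v => by
    have a := h1 u (N v)
    have b := h1 v (N u)
    rw [h2', add_zero] at a b
    linear_combination sk v (N (N u)) - b + sk (N u) (N v) - a
  have h2ne : (2 : F) ≠ 0 := fun h => hp ((Nat.prime_dvd_prime_iff_eq hpp Nat.prime_two).1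
    ((CharP.cast_eq_zero_iff F p 2).1 (by exact_mod_cast h)))
  have h4 : ∀ u, B (N (N u)) u = 0 := fun u => by
    have a := h3 u u
    have b := sk (N (N u)) u
    exact (mul_eq_zero.1 (show (2 : F) * B (N (N u)) u = 0 by linear_combination a + b)).resolve_left h2ne
  refine ⟨Pi.single i₀ 1, by simp, fun v => ?_⟩
  have e : ∀ u : Fin n → F, u i₂ * B (Pi.single i₀ 1) u = 0 := fun u => by
    rw [← smul_eq_mul, ← LinearMap.smul_apply, ← map_smul, ← Pi.single_smul, smul_eq_mul, mul_one, ← hN2]
    exact h4 u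
  have hw := e (Pi.single i₂ 1)
  simp at hw
  by_cases hv : v i₂ = 0
  · have := e (v + Pi.single i₂ 1)
    simpa [hv, hw] using this
  · exact (mul_eq_zero.1 (e v)).resolve_left hv

theorem exists_block {F : Type*} [Field F] [Fintype F] {p : ℕ} [Fact p.Prime] [CharP F p] {n r i : ℕ}
    (hr : r.Prime) (hr2 : r ≠ 2) (hi : Odd i) (hin : i ≤ n)
    (hdvd : r ∣ Fintype.card F ^ i - 1) (hnd : ¬ r ∣ Fintype.card F - 1) :
    ∃ L : (Fin n → F) →ₗ[F] (Fin n → F), LinearMap.det L = 1 ∧ L ^ r = (1 : F) • 1 ∧ (∀ c : F, L ≠ c • 1) ∧ NoForm L := by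
  classical
  haveI : NeZero i := ⟨hi.pos.ne'⟩
  let K := FiniteField.Extension F p i
  have hK : Module.finrank F K = i := FiniteField.finrank_extension F p i
  haveI : Fintype K := Fintype.ofFinite K
  haveI : Fact r.Prime := ⟨hr⟩
  have hcard : Fintype.card Kˣ = Fintype.card F ^ i - 1 := by rw [Fintype.card_units, Module.card_eq_pow_finrank (K := F) (V := K), hK]
  obtain ⟨w, hw⟩ := exists_prime_orderOf_dvd_card r (hcard ▸ hdvd)
  obtain ⟨ω, hω⟩ : ∃ ω : K, (w : K) = ω := ⟨_, rfl⟩
  have hωr : ω ^ r = 1 := by rw [← hω, ← Units.val_pow_eq_pow_val, ← hw, pow_orderOf_eq_one, Units.val_one]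
  have hω0 : ω ≠ 0 := hω ▸ w.ne_zero
  have hω1 : ω ≠ 1 := fun h => by
    rw [show w = 1 from Units.ext (hω.trans h), orderOf_one] at hw; exact hr.one_lt.ne hw
  let V' := K × (Fin (n - i) → F)
  let e : V' ≃ₗ[F] (Fin n → F) := LinearEquiv.ofFinrankEq _ _ (by simp [V', hK]; omega)
  let T : Module.End F V' := LinearMap.prodMap (LinearMap.mulLeft F ω) LinearMap.id
  let L : Module.End F (Fin n → F) := e.conj T
  have hLr : L ^ r = 1 := by
    have hT : ∀ k, ∀ a : V', (T ^ k) a = (ω ^ k * a.1, a.2) := fun k => by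
      induction k with
      | zero => intro a; simp
      | succ k ih => intro a; rw [pow_succ', Module.End.mul_apply, ih]; rw [pow_succ', mul_assoc]; rfl
    have hLk : ∀ k, ∀ v, (L ^ k) v = e ((T ^ k) (e.symm v)) := fun k => by
      induction k with
      | zero => intro v; simp
      | succ k ih => intro v; rw [pow_succ', Module.End.mul_apply, ih, pow_succ', Module.End.mul_apply]; simp [L, LinearEquiv.conj_apply]
    refine LinearMap.ext fun v => ?_
    rw [hLk, hT, hωr, one_mul]
    simp
  refine ⟨L, ?_, by rw [hLr, one_smul], fun c h => ?_, ?_⟩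
  · by_contra hne
    have h := congrArg LinearMap.det hLr
    rw [map_pow, map_one] at h
    have hd0 : LinearMap.det L ≠ 0 := fun e => by rw [e, zero_pow hr.ne_zero] at h; exact zero_ne_one h
    have h2 : orderOf (Units.mk0 _ hd0) = r := orderOf_eq_prime (Units.ext (by simpa using h))
      (fun e => hne (by simpa using congrArg Units.val e))
    refine hnd ?_
    rw [← h2, ← Fintype.card_units]
    exact orderOf_dvd_card
  · -- the scalar would be `ω`
    have h1 := congrArg (fun M : Module.End F (Fin n → F) => e.symm (M (e (1, 0)))) h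
    simp [L, LinearEquiv.conj_apply, T] at h1
    have h2 : ω = algebraMap F K c := by
      have := congrArg Prod.fst h1
      rw [Algebra.algebraMap_eq_smul_one]
      exact (mul_one ω).symm.trans this
    rw [h2, ← map_pow] at hωr
    have hc : c ^ r = 1 := (algebraMap F K).injective (by rw [hωr, map_one])
    have hc0 : c ≠ 0 := fun e => by rw [e, zero_pow hr.ne_zero] at hc; exact zero_ne_one hc
    have hc1 : c ≠ 1 := fun e => hω1 (by rw [h2, e, map_one])
    have h3 : orderOf (Units.mk0 c hc0) = r := orderOf_eq_prime (Units.ext (by simpa using hc))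
      (fun e => hc1 (by simpa using congrArg Units.val e))
    refine hnd ?_
    rw [← h3, ← Fintype.card_units]
    exact orderOf_dvd_card
  intro B μ _ hA hB
  by_cases hzero : B = 0
  · have : Nontrivial (Fin n → F) := ⟨⟨Pi.single ⟨0, by have := hi.pos; omega⟩ 1, 0, by simp⟩⟩
    obtain ⟨u, hu⟩ := exists_ne (0 : Fin n → F)
    exact ⟨u, hu, fun v => by rw [hzero]; rfl⟩
  have hpow : ∀ k u v, B ((L ^ k) u) ((L ^ k) v) = μ ^ k * B u v := by
    intro k
    induction k with
    | zero => simp
    | succ k ih =>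
      intro u v
      rw [pow_succ', Module.End.mul_apply, Module.End.mul_apply, hB, ih, pow_succ]; ring
  have hμ : μ = 1 := by
    obtain ⟨u, v, huv⟩ : ∃ u v, B u v ≠ 0 := by
      by_contra h
      push Not at h
      exact hzero (LinearMap.ext fun u => LinearMap.ext fun v => h u v)
    have h := hpow r u v
    rw [hLr, Module.End.one_apply, Module.End.one_apply] at h
    rcases mul_eq_zero.1 (show (μ ^ r - 1) * B u v = 0 by linear_combination -h) with h | h
    · replace h := sub_eq_zero.1 h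
      by_contra hne
      have hμ0 : μ ≠ 0 := fun e => by rw [e, zero_pow hr.ne_zero] at h; exact zero_ne_one h
      have h3 : orderOf (Units.mk0 μ hμ0) = r := orderOf_eq_prime (Units.ext (by simpa using h))
        (fun e => hne (by simpa using congrArg Units.val e))
      refine hnd ?_
      rw [← h3, ← Fintype.card_units]
      exact orderOf_dvd_card
    · exact absurd h huv
  have hLe : ∀ a, L (e a) = e (T a) := fun a => by simp [L, LinearEquiv.conj_apply]
  -- pull the form back
  let C : V' →ₗ[F] V' →ₗ[F] F := B.compl₁₂ (e : V' →ₗ[F] Fin n → F) (e : V' →ₗ[F] Fin n → F)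
  have hC : ∀ a b, C (ω * a.1, a.2) (ω * b.1, b.2) = C a b := fun a b => by
    show B (e _) (e _) = B (e a) (e b)
    rw [show ((ω * a.1, a.2) : V') = T a from rfl, show ((ω * b.1, b.2) : V') = T b from rfl, ← hLe, ← hLe, hB, hμ, one_mul]
  refine ⟨e (1, 0), fun h => one_ne_zero (congrArg Prod.fst (e.map_eq_zero_iff.1 h) : (1 : K) = 0), fun v => ?_⟩
  obtain ⟨⟨y, z⟩, rfl⟩ := e.surjective v
  show C (1, 0) (y, z) = 0
  have hcross : ∀ a : K, C (a, 0) (0, z) = 0 := fun a => by
    have h := hC ((ω - 1)⁻¹ * a, 0) (0, z)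
    simp only [mul_zero] at h
    rw [← sub_eq_zero, ← LinearMap.sub_apply, ← map_sub, Prod.mk_sub_mk, sub_self, ← sub_one_mul, ← mul_assoc,
      mul_inv_cancel₀ (sub_ne_zero.2 hω1), one_mul] at h
    exact h
  have hg : ∀ (g : Polynomial F) (a b : K), C (Polynomial.aeval ω g * a, 0) (b, 0) = C (a, 0) (Polynomial.aeval ω⁻¹ g * b, 0) := by
    intro g
    induction g using Polynomial.induction_on' with
    | add g h hg hh =>
      intro a b
      rw [map_add, map_add, add_mul, add_mul, show ((Polynomial.aeval ω g * a + Polynomial.aeval ω h * a, 0) : V') =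
        (Polynomial.aeval ω g * a, 0) + (Polynomial.aeval ω h * a, 0) by simp, map_add, LinearMap.add_apply, hg, hh,
        ← map_add, Prod.mk_add_mk, add_zero]
    | monomial k c =>
      intro a b
      have hk : ∀ k a b, C (ω ^ k * a, 0) (b, 0) = C (a, 0) (ω⁻¹ ^ k * b, 0) := by
        intro k
        induction k with
        | zero => simp
        | succ k ih =>
          intro a b
          rw [pow_succ, mul_assoc, ih, pow_succ', mul_assoc]
          have h := hC (a, 0) (ω⁻¹ * (ω⁻¹ ^ k * b), 0)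
          simp only [← mul_assoc, mul_inv_cancel₀ hω0, one_mul] at h
          rw [h, mul_assoc]
      rw [Polynomial.aeval_monomial, Polynomial.aeval_monomial, mul_assoc, mul_assoc, ← Algebra.smul_def, ← Algebra.smul_def,
        show ((c • (ω ^ k * a), 0) : V') = c • ((ω ^ k * a, 0) : V') by simp, show ((c • (ω⁻¹ ^ k * b), 0) : V') = c • ((ω⁻¹ ^ k * b, 0) : V') by simp,
        map_smul, LinearMap.smul_apply, map_smul, hk]
  have hne : Polynomial.aeval ω⁻¹ (minpoly F ω) ≠ 0 := by
    intro h
    obtain ⟨σ, hσ⟩ : ∃ σ : K ≃ₐ[F] K, σ ω = ω⁻¹ := by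
      have hm : minpoly F ω = minpoly F ω⁻¹ :=
        minpoly.eq_of_irreducible_of_monic (minpoly.irreducible (IsIntegral.of_finite F ω)) h
          (minpoly.monic (IsIntegral.of_finite F ω))
      exact minpoly.exists_algEquiv_of_root' (K := F) (L := K) (x := ω⁻¹) (y := ω) (Algebra.IsAlgebraic.isAlgebraic ω) h
    have hσ2 : (σ * σ) ω = ω := by rw [AlgEquiv.mul_apply, hσ, map_inv₀, hσ, inv_inv]
    have hσi : σ ^ i = 1 := by
      have := pow_card_eq_one' (x := σ)
      rwa [IsGalois.card_aut_eq_finrank, hK] at this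
    have hfix : ∀ l, ((σ * σ) ^ l) ω = ω := fun l => by
      induction l with
      | zero => rfl
      | succ l ih => rw [pow_succ, AlgEquiv.mul_apply, hσ2, ih]
    obtain ⟨l, hl⟩ := hi
    have h1 : σ ω = ω := by
      have h2 : σ * (σ * σ) ^ l = 1 := by rw [← pow_two, ← pow_mul, ← pow_succ', ← hl, hσi]
      calc σ ω = σ (((σ * σ) ^ l) ω) := by rw [hfix]
        _ = (σ * (σ * σ) ^ l) ω := rfl
        _ = ω := by rw [h2]; rfl
    have h2 : ω ^ 2 = 1 := by
      rw [pow_two]; nth_rewrite 2 [show ω = ω⁻¹ from h1.symm.trans hσ]; exact mul_inv_cancel₀ hω0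
    have hlt : orderOf ω ∣ 2 := orderOf_dvd_of_pow_eq_one h2
    rw [orderOf_eq_prime hωr hω1] at hlt
    exact hr2 ((Nat.prime_dvd_prime_iff_eq hr Nat.prime_two).1 hlt)
  have hKK : C (1, 0) (y, 0) = 0 := by
    have h := hg (minpoly F ω) 1 ((Polynomial.aeval ω⁻¹ (minpoly F ω))⁻¹ * y)
    rw [minpoly.aeval, zero_mul, ← mul_assoc, mul_inv_cancel₀ hne, one_mul] at h
    rw [← h, show ((0 : K), (0 : Fin (n - i) → F)) = (0 : V') from rfl, map_zero, LinearMap.zero_apply]
  rw [show ((y, z) : V') = (y, 0) + (0, z) by simp, map_add, hKK, hcross, add_zero]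

/-- Derangements of odd prime order of PSL_n(q) on the cosets of a symplectic-type subgroup. Here `T = PSL_n(F)` for a field `F` with `q` elements, `n ≥ 4` even, `f` is a nondegenerate alternating form on `F^n`, and `H` is the subgroup of matrices of determinant 1 preserving `f` up to a scalar — a maximal subgroup of type Sp_n(q); Ω is the set of `T`-conjugates of `H` (cosets of `H`), so an element of `T` of prime order `r` (a matrix `x` of determinant 1 with `x^r` scalar, `x` not scalar) fixes a point of Ω when some conjugate of `x` by a matrix of determinant 1 preserves `f` up to a scalar. For every odd prime `r` dividing the index of `H`, with `(n, r) ≠ (6, 3)`, there is an element of `T` of order `r` with no conjugate in `H`. (For `n = 6`, `r = 3` this can fail: when `(q − 1)_3 = 3` every element of order 3 is conjugate into `H`.) -/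
theorem result {F : Type*} [Field F] [Fintype F] {p : ℕ} [Fact p.Prime] [CharP F p] {q : ℕ} (hq : Fintype.card F = q)
    (n : ℕ) (hn : 4 ≤ n) (he : Even n) (f : (Fin n → F) → (Fin n → F) → F) (hf : Cfsg.Geo.IsSymplecticForm f)
    (r : ℕ) [Fact r.Prime] (hr2 : r ≠ 2) (hgap : ¬ (n = 6 ∧ r = 3)) (hΩ : r ∣ ((Cfsg.Geo.similarityGroup f).comap (Matrix.SpecialLinearGroup.toGL : Matrix.SpecialLinearGroup (Fin n) F →* GL (Fin n) F)).index) :
    ∃ x : Matrix.SpecialLinearGroup (Fin n) F,
      (∃ z : F, ((x ^ r : Matrix.SpecialLinearGroup (Fin n) F) : Matrix (Fin n) (Fin n) F) = z • (1 : Matrix (Fin n) (Fin n) F)) ∧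
      (∀ z : F, (x : Matrix (Fin n) (Fin n) F) ≠ z • (1 : Matrix (Fin n) (Fin n) F)) ∧
      ∀ P : Matrix.SpecialLinearGroup (Fin n) F, P⁻¹ * x * P ∉ ((Cfsg.Geo.similarityGroup f).comap (Matrix.SpecialLinearGroup.toGL : Matrix.SpecialLinearGroup (Fin n) F →* GL (Fin n) F)) := by
  classical
  subst hq
  have hrp : r.Prime := Fact.out
  have he' := he
  obtain ⟨m, hm⟩ := he'
  by_cases hrp' : r = p
  · subst hrp'
    obtain ⟨L, hd, hL, hs, hno⟩ := exists_unip (F := F) (n := n) (p := r) hn hr2
    exact finish hf hrp.ne_zero L hd hL hs hno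
  have hdvdiff : ∀ j, r ∣ Fintype.card F ^ j - 1 ↔ (Fintype.card F : ZMod r) ^ j = 1 := fun j => by
    rw [← ZMod.natCast_eq_zero_iff, Nat.cast_sub (Nat.one_le_pow _ _ Fintype.card_pos), sub_eq_zero, Nat.cast_pow,
      Nat.cast_one]
  obtain ⟨i, hi⟩ : ∃ i, orderOf (Fintype.card F : ZMod r) = i := ⟨_, rfl⟩
  have hrq : ¬ r ∣ Fintype.card F := by
    obtain ⟨k, -, hk⟩ := FiniteField.card F p
    rw [hk]
    intro h
    exact hrp' ((Nat.prime_dvd_prime_iff_eq hrp Fact.out).1 (hrp.dvd_of_dvd_pow h))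
  obtain ⟨H, hH⟩ : ∃ H, (Cfsg.Geo.similarityGroup f).comap (Matrix.SpecialLinearGroup.toGL : Matrix.SpecialLinearGroup (Fin n) F →* GL (Fin n) F) = H := ⟨_, rfl⟩
  rw [hH] at hΩ
  have hsl := CfsgLib.Classical.card_sl_mul (F := F) (n := n) (by omega)
  obtain ⟨S, hS⟩ : ∃ S, Nat.card (Matrix.SpecialLinearGroup (Fin n) F) = S := ⟨_, rfl⟩
  rw [hS] at hsl
  have hprod : ∀ l : Fin n, Fintype.card F ^ n - Fintype.card F ^ (l : ℕ) = Fintype.card F ^ (l : ℕ) * (Fintype.card F ^ (n - l) - 1) := fun l => by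
    rw [Nat.mul_sub, mul_one, ← pow_add, Nat.add_sub_cancel' l.2.le]
  have hin : 0 < i ∧ i ≤ n := by
    have hdvdS : r ∣ S := hS ▸ hΩ.trans (Subgroup.index_dvd_card _)
    have h1 := dvd_mul_of_dvd_right hdvdS (Fintype.card F - 1)
    rw [hsl] at h1
    obtain ⟨l, -, hl⟩ := (hrp.prime.dvd_finset_prod_iff _).1 h1
    rw [hprod] at hl
    have h2 := (hrp.dvd_mul.1 hl).resolve_left fun h => hrq (hrp.dvd_of_dvd_pow h)
    rw [hdvdiff, ← orderOf_dvd_iff_pow_eq_one, hi] at h2
    have hpos : 0 < n - (l : ℕ) := by omega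
    exact ⟨Nat.pos_of_dvd_of_pos h2 hpos, (Nat.le_of_dvd hpos h2).trans (Nat.sub_le _ _)⟩
  rcases Nat.even_or_odd i with hev | hodd
  · -- `r` does not divide the index
    exfalso
    let B : (Fin n → F) →ₗ[F] (Fin n → F) →ₗ[F] F := LinearMap.mk₂ F f hf.bilinear.add_left hf.bilinear.smul_left
      (fun v x y => hf.bilinear.add_right v x y) (fun c v x => hf.bilinear.smul_right c v x)
    have hcard := CfsgLib.Classical.card_formIsoms_alt B hf.alternating (fun x hx => by
      by_contra h
      obtain ⟨w, hw⟩ := (hf.nondegenerate x h).2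
      exact hw (hx w)) m (by rw [Module.finrank_fin_fun]; omega)
    let ψ : CfsgLib.Geom.formIsoms B →* GL (Fin n) F :=
      (CfsgLib.MaxSub.glEquiv n F).symm.toMonoidHom.comp (Subgroup.subtype _)
    let δ : CfsgLib.Geom.formIsoms B →* Fˣ := Matrix.GeneralLinearGroup.det.comp ψ
    have hker : Nat.card δ.ker ∣ Nat.card H := by
      let θ : δ.ker →* Matrix.SpecialLinearGroup (Fin n) F :=
        { toFun := fun g => ⟨(ψ g.1 : Matrix (Fin n) (Fin n) F), congrArg Units.val g.2⟩
          map_one' := Subtype.ext (by simp)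
          map_mul' := fun a b => Subtype.ext (by simp [Matrix.SpecialLinearGroup.coe_mul]; rfl) }
      refine Subgroup.card_dvd_of_injective (θ.codRestrict H fun g => ?_) ?_
      · rw [← hH]
        refine ⟨1, fun u v => ?_⟩
        have hval : ∀ u, ((Matrix.SpecialLinearGroup.toGL (θ g)) : Matrix (Fin n) (Fin n) F) *ᵥ u = g.1.1 u := fun u => by
          show (ψ g.1 : Matrix (Fin n) (Fin n) F) *ᵥ u = _
          rw [← CfsgLib.MaxSub.glEquiv_apply]
          simp [ψ]
        rw [hval, hval, Units.val_one, one_mul]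
        exact g.1.2 u v
      · intro a b h
        have h' := congrArg (fun y : H => ((y : Matrix.SpecialLinearGroup (Fin n) F) : Matrix (Fin n) (Fin n) F)) h
        have h'' : ψ a.1 = ψ b.1 := Units.ext h'
        exact Subtype.ext (Subtype.ext ((CfsgLib.MaxSub.glEquiv n F).symm.injective h''))
    have hrange : Nat.card δ.range ∣ Fintype.card F - 1 := by
      rw [← Nat.card_eq_fintype_card (α := F), ← Nat.card_units]
      exact Subgroup.card_subgroup_dvd_card _
    have hSp : Nat.card (CfsgLib.Geom.formIsoms B) = Nat.card δ.ker * Nat.card δ.range := by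
      rw [← Subgroup.index_ker, mul_comm, Subgroup.index_mul_card]
    obtain ⟨c1, hc1⟩ := hker
    obtain ⟨c2, hc2⟩ := hrange
    have hidx := H.index_mul_card
    rw [hS, hc1] at hidx
    obtain ⟨ev, hev'⟩ : ∃ ev, ∏ k ∈ Finset.range m, (Fintype.card F ^ (2 * (k + 1)) - 1) = ev := ⟨_, rfl⟩
    rw [hev'] at hcard
    obtain ⟨od, hod, hodr⟩ : ∃ od, ∏ l : Fin n, (Fintype.card F ^ n - Fintype.card F ^ (l : ℕ)) = od * ev ∧ ¬ r ∣ od := by
      refine ⟨(∏ l : Fin n, Fintype.card F ^ (l : ℕ)) * ∏ k ∈ Finset.range m, (Fintype.card F ^ (2 * k + 1) - 1), ?_, ?_⟩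
      · rw [Finset.prod_congr rfl fun l _ => hprod l, Finset.prod_mul_distrib, mul_assoc]
        congr 1
        rw [Fin.prod_univ_eq_prod_range (fun l => Fintype.card F ^ (n - l) - 1) n,
          ← Finset.prod_range_reflect, ← hev', ← Finset.prod_mul_distrib]
        have hev2 : ∀ k, ∏ j ∈ Finset.range (2 * k), (Fintype.card F ^ (j + 1) - 1) =
            ∏ x ∈ Finset.range k, (Fintype.card F ^ (2 * x + 1) - 1) * (Fintype.card F ^ (2 * (x + 1)) - 1) := by
          intro k
          induction k with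
          | zero => simp
          | succ k ih =>
            rw [Finset.prod_range_succ _ k, ← ih, show 2 * (k + 1) = 2 * k + 1 + 1 by ring, Finset.prod_range_succ,
              Finset.prod_range_succ, mul_assoc]
        rw [← hev2 m, show 2 * m = n by omega]
        refine Finset.prod_congr rfl fun j hj => ?_
        have := Finset.mem_range.1 hj
        rw [show n - (n - 1 - j) = j + 1 by omega]
      · intro h
        rcases hrp.dvd_mul.1 h with h | h
        · obtain ⟨l, -, hl⟩ := (hrp.prime.dvd_finset_prod_iff _).1 h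
          exact hrq (hrp.dvd_of_dvd_pow hl)
        · obtain ⟨k, -, hk⟩ := (hrp.prime.dvd_finset_prod_iff _).1 h
          rw [hdvdiff, ← orderOf_dvd_iff_pow_eq_one, hi] at hk
          have h2k := (even_iff_two_dvd.1 hev).trans hk
          omega
    rw [hod] at hsl
    have hev0 : 0 < ev := hev' ▸ Finset.prod_pos fun k _ => Nat.sub_pos_of_lt (Nat.one_lt_pow (by omega) Fintype.one_lt_card)
    have hfin : H.index * c1 * c2 * Fintype.card F ^ (m ^ 2) = od := by
      apply Nat.eq_of_mul_eq_mul_right hev0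
      rw [← hsl, ← hidx, hc2, mul_assoc _ (Fintype.card F ^ (m ^ 2)) ev, ← hcard, hSp]
      ring
    exact hodr (hfin ▸ dvd_mul_of_dvd_left (dvd_mul_of_dvd_left (dvd_mul_of_dvd_left hΩ _) _) _)
  by_cases hi1 : i = 1
  · have hd1 : r ∣ Fintype.card Fˣ := by
      rw [Fintype.card_units, ← pow_one (Fintype.card F), hdvdiff, ← orderOf_dvd_iff_pow_eq_one, hi, hi1]
    obtain ⟨w, hw⟩ := exists_prime_orderOf_dvd_card r hd1
    obtain ⟨L, hd, hL, hs, hno⟩ := exists_diag hf hn he hrp hr2 hgap (ω := (w : F)) (by rw [orderOf_units, hw])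
    exact finish hf hrp.ne_zero L hd hL hs hno
  · obtain ⟨L, hd, hL, hs, hno⟩ := exists_block (F := F) (p := p) (n := n) hrp hr2 hodd hin.2
      ((hdvdiff i).2 (by rw [← hi, pow_orderOf_eq_one]))
      (fun h => hi1 (by
        rw [← pow_one (Fintype.card F), hdvdiff, ← orderOf_dvd_iff_pow_eq_one, hi] at h
        exact Nat.dvd_one.1 h))
    exact finish hf hrp.ne_zero L hd hL hs hno

end Cfsg.Agent.S5968
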