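import Cfsg.Statements.S5969
import Cfsg.Agent.Lib.MaxSub.InvolField
import Cfsg.Agent.S5967
-- import your own Cfsg.Agent.* helpers here

set_option autoImplicit false
open scoped MatrixGroups
open Cfsg

namespace Cfsg.Agent.S5969

theorem card_two_ne {F : Type*} [Field F] [Fintype F] : Odd (Fintype.card F) ↔ (2 : F) ≠ 0 := by
  constructor
  · intro hodd h2
    have := FiniteField.even_card_iff_char_two.1 (CharP.ringChar_of_prime_eq_zero Nat.prime_two (by exact_mod_cast h2) :
      ringChar F = 2)
    exact (Nat.not_even_iff_odd.2 hodd) (Nat.even_iff.2 this)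
  · intro h2
    rw [Nat.odd_iff]
    refine FiniteField.odd_card_of_char_ne_two fun h => h2 ?_
    have := ringChar.Nat.cast_ringChar (R := F)
    rw [h] at this
    exact_mod_cast this

/-- Involutions of PSL_n(q) and extension-field subgroups of degree 2. Here `T = PSL_n(F)` for a field `F` with `q = p^f` elements (`n ≥ 2`, `(n, q) ≠ (2, 2), (2, 3)`), `k` is a prime dividing `n`, `K` is a subalgebra of the `n × n` matrices that is a field of degree `k` over `F` (an extension-field structure F_{q^k} on `F^n`), and `H` is the subgroup of matrices of determinant 1 normalizing `K` — a subgroup of type GL_{n/k}(q^k) (maximal except in some small cases; maximality is not assumed); Ω is the set of cosets of `H` in `T`, so an element of `T` of prime order `r` (a matrix `x` of determinant 1 with `x^r` scalar, `x` not scalar) fixes a point of Ω when some conjugate of `x` by a matrix of determinant 1 normalizes `K`. Take `k = 2` and suppose the index of `H` is even. Then every involution of `T` is conjugate in `T` into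 `H` if and only if `n = 2`, or `q` is odd and `(q − 1)_2 ≤ (n)_2`. -/
theorem result {F : Type*} [Field F] [Fintype F] {p : ℕ} [Fact p.Prime] [CharP F p] {q : ℕ} (hq : Fintype.card F = q)
    (n : ℕ) (hn : 2 ≤ n) (hT : (n, q) ≠ (2, 2) ∧ (n, q) ≠ (2, 3))
    (k : ℕ) (hk : k.Prime) (hkn : k ∣ n) (K : Subalgebra F (Matrix (Fin n) (Fin n) F)) (hK : Cfsg.Geo.IsFieldSubalgebra k K) (hk2 : k = 2) (hΩ : 2 ∣ ((Cfsg.Geo.subalgebraNormalizer K).comap (Matrix.SpecialLinearGroup.toGL : Matrix.SpecialLinearGroup (Fin n) F →* GL (Fin n) F)).index) :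
    (∀ x : Matrix.SpecialLinearGroup (Fin n) F,
      (∃ z : F, ((x ^ 2 : Matrix.SpecialLinearGroup (Fin n) F) : Matrix (Fin n) (Fin n) F) = z • (1 : Matrix (Fin n) (Fin n) F)) →
      (∀ z : F, (x : Matrix (Fin n) (Fin n) F) ≠ z • (1 : Matrix (Fin n) (Fin n) F)) →
      ∃ P : Matrix.SpecialLinearGroup (Fin n) F, P⁻¹ * x * P ∈ ((Cfsg.Geo.subalgebraNormalizer K).comap (Matrix.SpecialLinearGroup.toGL : Matrix.SpecialLinearGroup (Fin n) F →* GL (Fin n) F))) ↔
    (n = 2 ∨ (Odd q ∧ padicValNat 2 (q - 1) ≤ padicValNat 2 n)) := by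
  subst hk2
  subst hq
  obtain ⟨m, hm⟩ : Even n := even_iff_two_dvd.2 hkn
  constructor
  · intro hall
    by_contra hno
    have hn2 : n ≠ 2 := fun h => hno (.inl h)
    haveI hne : Nonempty (Fin n) := ⟨⟨0, by omega⟩⟩
    let i₀ : Fin n := ⟨0, by omega⟩
    let i₁ : Fin n := ⟨1, by omega⟩
    have hi : i₁ ≠ i₀ := by simp [i₁, i₀, Fin.ext_iff]
    obtain ⟨c, A, hc, hA2, hA1, hAs, hAe⟩ : ∃ (c : F) (A : Matrix (Fin n) (Fin n) F), c ≠ 0 ∧
        (∃ z : F, A * A = z • 1) ∧ A.det = 1 ∧ (∀ z : F, A ≠ z • 1) ∧
        ∀ v, A.mulVec v = c • v ↔ v i₁ = 0 := by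
      by_cases h2 : (2 : F) = 0
      · refine ⟨1, Matrix.transvection i₀ i₁ 1, one_ne_zero, ⟨1, ?_⟩, Matrix.det_transvection_of_ne _ _ hi.symm _,
          fun z h => ?_, fun v => ?_⟩
        · rw [Matrix.transvection_mul_transvection_same _ _ hi.symm, show (1 : F) + 1 = 2 by ring, h2, Matrix.transvection_zero, one_smul]
        · have := congrFun (congrFun h i₀) i₁
          simp [Matrix.transvection, hi.symm] at this
        · rw [one_smul, Matrix.transvection, Matrix.add_mulVec, Matrix.one_mulVec, add_eq_left]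
          constructor
          · intro h
            simpa [Matrix.single_mulVec] using congrFun h i₀
          · intro h
            funext j
            simp [Matrix.single_mulVec, h, Function.update_apply]
      · have hv : padicValNat 2 n < padicValNat 2 (Fintype.card F - 1) :=
          not_le.1 fun hv => hno (.inr ⟨card_two_ne.2 h2, hv⟩)
        obtain ⟨c, hcn, -⟩ := Cfsg.Agent.S5967.exists_pow_eq_neg_one (F := F) (n := n) (by omega) hv
        have hc : c ≠ 0 := fun h => by
          rw [h, zero_pow (by omega)] at hcn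
          exact one_ne_zero (α := F) (by linear_combination hcn)
        let dd : Fin n → F := fun i => if i = i₁ then -c else c
        refine ⟨c, Matrix.diagonal dd, hc, ⟨c * c, ?_⟩, ?_, fun z h => ?_, fun v => ?_⟩
        · rw [Matrix.diagonal_mul_diagonal, Matrix.smul_one_eq_diagonal]
          congr 1; funext i; simp only [dd]; split_ifs <;> ring
        · rw [Matrix.det_diagonal, Finset.prod_ite, Finset.prod_const, Finset.prod_const, Finset.filter_eq',
            if_pos (Finset.mem_univ _), Finset.filter_ne', Finset.card_singleton,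
            Finset.card_erase_of_mem (Finset.mem_univ _), Finset.card_univ, Fintype.card_fin, pow_one, neg_mul,
            mul_comm, ← pow_succ, Nat.sub_add_cancel (by omega), hcn, neg_neg]
        · have h0 := congrFun (congrFun h i₀) i₀
          have h1 := congrFun (congrFun h i₁) i₁
          simp [dd, hi.symm] at h0 h1
          exact mul_ne_zero h2 hc (by linear_combination h0 - h1)
        · constructor
          · intro h
            have := congrFun h i₁
            simp [Matrix.mulVec_diagonal, dd] at this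
            exact (mul_eq_zero.1 (show (2 * c) * v i₁ = 0 by linear_combination -this)).resolve_left (mul_ne_zero h2 hc)
          · intro h
            funext j
            rw [Matrix.mulVec_diagonal]
            by_cases hj : j = i₁
            · subst hj; simp [h]
            · simp [dd, hj]
    obtain ⟨x₀, hx₀⟩ : ∃ x₀ : Matrix.SpecialLinearGroup (Fin n) F, (x₀ : Matrix (Fin n) (Fin n) F) = A := ⟨⟨A, hA1⟩, rfl⟩
    obtain ⟨P, hP⟩ := hall x₀ (by simp only [pow_two, Matrix.SpecialLinearGroup.coe_mul, hx₀]; exact hA2) (hx₀.symm ▸ hAs)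
    let W₀ : Submodule F (Fin n → F) := LinearMap.ker (LinearMap.proj i₁)
    have hW₀ : Module.finrank F W₀ + 1 = n := by
      have h := LinearMap.finrank_range_add_finrank_ker (LinearMap.proj (R := F) (φ := fun _ : Fin n => F) i₁)
      rw [LinearMap.range_eq_top.2 (LinearMap.proj_surjective i₁), finrank_top, Module.finrank_self,
        Module.finrank_fin_fun] at h
      show Module.finrank F (LinearMap.ker (LinearMap.proj (R := F) (φ := fun _ : Fin n => F) i₁)) + 1 = n
      omega
    have hPP : ((P : Matrix.SpecialLinearGroup (Fin n) F) : Matrix (Fin n) (Fin n) F) *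
        ((P⁻¹ : Matrix.SpecialLinearGroup (Fin n) F) : Matrix (Fin n) (Fin n) F) = 1 := by
      rw [← Matrix.SpecialLinearGroup.coe_mul, mul_inv_cancel, Matrix.SpecialLinearGroup.coe_one]
    have hPP' : ((P⁻¹ : Matrix.SpecialLinearGroup (Fin n) F) : Matrix (Fin n) (Fin n) F) *
        ((P : Matrix.SpecialLinearGroup (Fin n) F) : Matrix (Fin n) (Fin n) F) = 1 := by
      rw [← Matrix.SpecialLinearGroup.coe_mul, inv_mul_cancel, Matrix.SpecialLinearGroup.coe_one]
    have hinj : Function.Injective (Matrix.toLin' ((P⁻¹ : Matrix.SpecialLinearGroup (Fin n) F) : Matrix (Fin n) (Fin n) F)) :=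
      fun a b h => by
        simp only [Matrix.toLin'_apply] at h
        have := congrArg (fun w => ((P : Matrix.SpecialLinearGroup (Fin n) F) : Matrix (Fin n) (Fin n) F).mulVec w) h
        simpa only [Matrix.mulVec_mulVec, hPP, Matrix.one_mulVec] using this
    refine CfsgLib.MaxSub.InvolField.not_mem_normalizer (by omega) ⟨m, hm⟩ hK hP
      (W₀.map (Matrix.toLin' ((P⁻¹ : Matrix.SpecialLinearGroup (Fin n) F) : Matrix (Fin n) (Fin n) F))) ?_ hc fun w => ?_
    · rw [← (Submodule.equivMapOfInjective _ hinj W₀).finrank_eq]; exact hW₀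
    have hval : (Matrix.SpecialLinearGroup.toGL (P⁻¹ * x₀ * P : Matrix.SpecialLinearGroup (Fin n) F) :
        Matrix (Fin n) (Fin n) F).mulVec w = ((P⁻¹ : Matrix.SpecialLinearGroup (Fin n) F) : Matrix (Fin n) (Fin n) F).mulVec
          (A.mulVec ((P : Matrix (Fin n) (Fin n) F).mulVec w)) := by
      rw [Matrix.mulVec_mulVec, Matrix.mulVec_mulVec, ← hx₀]
      rfl
    rw [hval]
    constructor
    · rintro ⟨u, hu, rfl⟩
      rw [Matrix.toLin'_apply, Matrix.mulVec_mulVec _ ((P : Matrix.SpecialLinearGroup (Fin n) F) : Matrix (Fin n) (Fin n) F),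
        hPP, Matrix.one_mulVec, (hAe u).2 hu, Matrix.mulVec_smul]
    · intro h
      refine ⟨(P : Matrix (Fin n) (Fin n) F).mulVec w, ?_, ?_⟩
      · show ((P : Matrix (Fin n) (Fin n) F).mulVec w) i₁ = 0
        refine (hAe _).1 ?_
        have := congrArg (fun w => ((P : Matrix.SpecialLinearGroup (Fin n) F) : Matrix (Fin n) (Fin n) F).mulVec w) h
        simp only [Matrix.mulVec_mulVec, ← mul_assoc, hPP, one_mul, Matrix.mulVec_smul] at this
        simpa [Matrix.mulVec_mulVec] using this
      · rw [Matrix.toLin'_apply, Matrix.mulVec_mulVec, hPP', Matrix.one_mulVec]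
  · intro hcond x hx hxs
    obtain ⟨z, hz⟩ := hx
    rw [pow_two, Matrix.SpecialLinearGroup.coe_mul] at hz
    have hdet : (x : Matrix (Fin n) (Fin n) F).det = 1 := x.2
    have hz0 : z ≠ 0 := by
      intro h
      have h1 := congrArg Matrix.det hz
      haveI hne : Nonempty (Fin n) := ⟨⟨0, by omega⟩⟩
      rw [Matrix.det_mul, hdet, mul_one, h, zero_smul, Matrix.det_zero] at h1
      exact one_ne_zero h1
    obtain ⟨E, T, ω', hE1, hE2, ω, hgen, hω', hTω⟩ := CfsgLib.MaxSub.InvolField.exists_conj hn ⟨m, hm⟩ hK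
      (Matrix.toLin' (x : Matrix (Fin n) (Fin n) F)) hz0 (fun v => by
        rw [Matrix.toLin'_apply, Matrix.toLin'_apply, Matrix.mulVec_mulVec, hz, Matrix.smul_mulVec, Matrix.one_mulVec])
      (by rw [LinearMap.det_toLin', hdet])
      (fun s h => hxs s (Matrix.toLin'.injective (by rw [h, map_smul, Matrix.toLin'_one])))
      (hcond.imp id fun h => ⟨card_two_ne.1 h.1, h.2⟩)
    let P : Matrix.SpecialLinearGroup (Fin n) F := ⟨LinearMap.toMatrix' (E.symm : (Fin n → F) →ₗ[F] (Fin n → F)), by
      rw [LinearMap.det_toMatrix', LinearEquiv.det_coe_symm, hE1, inv_one]⟩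
    have hP : ∀ v, (P : Matrix (Fin n) (Fin n) F).mulVec v = E.symm v := fun v => by
      rw [← Matrix.toLin'_apply]; simp [P]
    have hPi : ∀ v, ((P⁻¹ : Matrix.SpecialLinearGroup (Fin n) F) : Matrix (Fin n) (Fin n) F).mulVec v = E v := fun v => by
      conv_lhs => rw [← E.symm_apply_apply v, ← hP]
      rw [Matrix.mulVec_mulVec, ← Matrix.SpecialLinearGroup.coe_mul, inv_mul_cancel,
        Matrix.SpecialLinearGroup.coe_one, Matrix.one_mulVec]
    have hval : ((P⁻¹ * x * P : Matrix.SpecialLinearGroup (Fin n) F) : Matrix (Fin n) (Fin n) F) = T := by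
      refine Matrix.toLin'.injective (LinearMap.ext fun v => ?_)
      rw [Matrix.toLin'_apply, Matrix.SpecialLinearGroup.coe_mul, Matrix.SpecialLinearGroup.coe_mul,
        ← Matrix.mulVec_mulVec, hP, ← Matrix.mulVec_mulVec, hPi, ← Matrix.toLin'_apply, hE2, E.apply_symm_apply]
    refine ⟨P, CfsgLib.MaxSub.InvolField.mem_normalizer hgen _ hω' ?_⟩
    show ((P⁻¹ * x * P : Matrix.SpecialLinearGroup (Fin n) F) : Matrix (Fin n) (Fin n) F) * ω =
      ω' * ((P⁻¹ * x * P : Matrix.SpecialLinearGroup (Fin n) F) : Matrix (Fin n) (Fin n) F)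
    rw [hval, hTω]

end Cfsg.Agent.S5969
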