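import Cfsg.Statements.S5970
import Cfsg.Agent.Lib.MaxSub.SemiPieces
import Cfsg.Agent.Lib.MaxSub.ExtMatrix
import Mathlib.FieldTheory.Finite.Basic
-- import your own Cfsg.Agent.* helpers here

set_option autoImplicit false
open scoped MatrixGroups
open Cfsg

namespace Cfsg.Agent.S5970

open CfsgLib.MaxSub Matrix

section

variable {F : Type*} [Field F] {n : ℕ}

/-- A cyclic basis for an element of order `n` when `q` has order `n - 1` modulo `n`. -/
theorem cyclic_basis [Fintype F] [Fact n.Prime] {c : ℕ} (hc : orderOf (Fintype.card F : ZMod n) = c) (hcn : c + 1 = n) (hn3 : 3 ≤ n)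
    (hnF : (n : F) ≠ 0) {T : Module.End F (Fin n → F)} (hT : T ^ n = 1) (hT1 : T ≠ 1) :
    ∃ b : Module.Basis (Fin n) F (Fin n → F), ∀ i : Fin n, T (b i) = b (finRotate n i) := by
  classical
  have hn : n.Prime := Fact.out
  have hc0 : 0 < c := by have := hn.two_le; omega
  obtain ⟨e, B, u, X, hd, hee, hu, hX, hX0, hXc, hXmin, htop⟩ := SemiPieces.exists_pieces hnF hc hc0 hT
  rw [Module.finrank_fin_fun] at hd
  have hB : B ≠ 0 := by
    rintro rfl
    rw [mul_zero, add_zero] at hd
    refine hT1 (sub_eq_zero.1 ?_)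
    rw [← LinearMap.ker_eq_top]
    exact Submodule.eq_top_of_finrank_eq (by rw [← hee, hd, Module.finrank_fin_fun])
  have he : 0 < e := by
    rcases Nat.eq_zero_or_pos e with h | h
    · have h1 : c ∣ n := ⟨B, by omega⟩
      rcases (Nat.dvd_prime hn).1 h1 with h2 | h2 <;> omega
    · exact h
  have hB1 : B = 1 := by
    by_contra hne
    have := Nat.mul_le_mul_left c (show 2 ≤ B by omega)
    omega
  subst hB1
  obtain ⟨w, hw, hw0⟩ := (Submodule.ne_bot_iff _).1 (hX0 0)
  let v : Fin n → F := u ⟨0, he⟩ + w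
  let b : Fin n → Fin n → F := fun i => (T ^ (i : ℕ)) v
  have hrot : ∀ i : Fin n, T (b i) = b (finRotate n i) := by
    intro i
    obtain ⟨n', rfl⟩ : ∃ n', n = n' + 1 := ⟨c, hcn.symm⟩
    show T ((T ^ (i : ℕ)) v) = (T ^ ((finRotate (n' + 1) i : Fin (n' + 1)) : ℕ)) v
    rw [← Module.End.mul_apply, ← pow_succ', finRotate_succ_apply, Fin.val_add, Fin.val_one', Nat.add_mod_mod,
      ← pow_eq_pow_mod _ hT]
  let S := Submodule.span F (Set.range b)
  have hSi : S.map T ≤ S := by
    rw [Submodule.map_span, Submodule.span_le]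
    rintro _ ⟨_, ⟨i, rfl⟩, rfl⟩
    exact Submodule.subset_span ⟨_, (hrot i).symm⟩
  have hvS : v ∈ S := Submodule.subset_span ⟨⟨0, hn.pos⟩, by simp [b]⟩
  have hwX : ∀ i : ℕ, (T ^ i) w ∈ X 0 := fun i => by
    induction i with
    | zero => exact hw
    | succ i ih => rw [pow_succ', Module.End.mul_apply]; exact hX 0 ⟨_, ih, rfl⟩
  have huT : ∀ i : ℕ, (T ^ i) (u ⟨0, he⟩) = u ⟨0, he⟩ := fun i => by
    induction i with
    | zero => rfl
    | succ i ih => rw [pow_succ', Module.End.mul_apply, ih, hu]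
  have hsum : ∑ i ∈ Finset.range n, (T ^ i) w = 0 := by
    have hbot : X 0 ⊓ LinearMap.ker (T - 1) = ⊥ := by
      have he1 : e = 1 := by rw [mul_one] at hd; omega
      by_contra h
      have hinv : (X 0 ⊓ LinearMap.ker (T - 1)).map T ≤ X 0 ⊓ LinearMap.ker (T - 1) := by
        rintro _ ⟨x, hx, rfl⟩
        have hx' : T x = x := sub_eq_zero.1 hx.2
        rw [hx']; exact hx
      have h1 := hXmin 0 _ hinv inf_le_left h
      have h2 : Submodule.span F (Set.range u) ⊔ iSup X ≤ LinearMap.ker (T - 1) := by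
        refine sup_le (Submodule.span_le.2 ?_) (iSup_le fun l => ?_)
        · rintro _ ⟨i, rfl⟩; simp [hu]
        · rw [Fin.fin_one_eq_zero l, ← h1]; exact inf_le_right
      rw [htop] at h2
      have h3 := Submodule.finrank_mono h2
      rw [finrank_top, Module.finrank_fin_fun, ← hee] at h3
      omega
    rw [← Submodule.mem_bot F, ← hbot]
    refine ⟨Submodule.sum_mem _ fun i _ => hwX i, ?_⟩
    rw [SetLike.mem_coe, LinearMap.mem_ker, ← LinearMap.sum_apply, ← Module.End.mul_apply, mul_geom_sum, hT,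
      sub_self, LinearMap.zero_apply]
  have huS : u ⟨0, he⟩ ∈ S := by
    have h1 : ∑ i ∈ Finset.range n, (T ^ i) v ∈ S := Submodule.sum_mem _ fun i hi =>
      Submodule.subset_span ⟨⟨i, Finset.mem_range.1 hi⟩, rfl⟩
    simp only [v, map_add, huT, Finset.sum_add_distrib, hsum, add_zero, Finset.sum_const, Finset.card_range,
      ← Nat.cast_smul_eq_nsmul F] at h1
    simpa only [smul_smul, inv_mul_cancel₀ hnF, one_smul] using S.smul_mem (n : F)⁻¹ h1
  have hXS : X 0 ≤ S := by
    have hwS : w ∈ S := by simpa [v] using S.sub_mem hvS huS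
    have := hXmin 0 (X 0 ⊓ S) ((Submodule.map_inf_le _).trans (inf_le_inf (hX 0) hSi)) inf_le_left
      (fun h => hw0 (by
        have hm : w ∈ X 0 ⊓ S := ⟨hw, hwS⟩
        rw [h] at hm; exact hm))
    rw [← this]; exact inf_le_right
  have hspan : ⊤ ≤ S := by
    rw [← htop]
    refine sup_le (Submodule.span_le.2 ?_) (iSup_le fun l => by rw [Fin.fin_one_eq_zero l]; exact hXS)
    rintro _ ⟨i, rfl⟩
    rw [mul_one] at hd
    rw [show i = ⟨0, he⟩ from Fin.ext (by have := i.2; omega)]
    exact huS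
  refine ⟨basisOfTopLeSpanOfCardEqFinrank b hspan (by rw [Fintype.card_fin, Module.finrank_fin_fun]), fun i => ?_⟩
  rw [coe_basisOfTopLeSpanOfCardEqFinrank]
  exact hrot i

variable {K : Subalgebra F (Matrix (Fin n) (Fin n) F)}

theorem evalV_bijective (hK : Cfsg.Geo.IsFieldSubalgebra n K) {v : Fin n → F} (hv : v ≠ 0) :
    Function.Bijective fun k : K => (k : Matrix (Fin n) (Fin n) F) *ᵥ v := by
  let f : K →ₗ[F] (Fin n → F) :=
    { toFun := fun k => (k : Matrix (Fin n) (Fin n) F) *ᵥ v
      map_add' := fun a b => Matrix.add_mulVec _ _ _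
      map_smul' := fun c a => Matrix.smul_mulVec c _ _ }
  have hinj : Function.Injective f := by
    rw [injective_iff_map_eq_zero]
    intro k hk
    by_contra hk0
    obtain ⟨y, hy, hky⟩ := hK.inv k k.2 fun e => hk0 (Subtype.ext e)
    rw [hK.comm k k.2 y hy] at hky
    refine hv ?_
    rw [← Matrix.one_mulVec v, ← hky, ← Matrix.mulVec_mulVec, show (k : Matrix (Fin n) (Fin n) F) *ᵥ v = 0 from hk,
      Matrix.mulVec_zero]
  exact ⟨hinj, (LinearMap.injective_iff_surjective_of_finrank_eq_finrank (by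
    rw [Module.finrank_fin_fun]; exact hK.finrank_eq) (f := f)).1 hinj⟩

/-- Non-scalar elements of the normaliser have eigenspaces of dimension at most one. -/
theorem eigen_small [Fintype F] (hn : n.Prime) (hK : Cfsg.Geo.IsFieldSubalgebra n K) {g : GL (Fin n) F}
    (hg : g ∈ Cfsg.Geo.subalgebraNormalizer K) {μ : F}
    (h2 : 2 ≤ Module.finrank F ↥(LinearMap.ker (Matrix.toLinAlgEquiv' (g : Matrix (Fin n) (Fin n) F) - μ • 1))) :
    (g : Matrix (Fin n) (Fin n) F) = μ • 1 := by
  classical
  set E := LinearMap.ker (Matrix.toLinAlgEquiv' (g : Matrix (Fin n) (Fin n) F) - μ • 1) with hE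
  have hmem : ∀ x, x ∈ E ↔ (g : Matrix (Fin n) (Fin n) F) *ᵥ x = μ • x := fun x => by
    rw [hE, LinearMap.mem_ker, LinearMap.sub_apply, sub_eq_zero, Matrix.toLinAlgEquiv'_apply]; rfl
  obtain ⟨v, hv, hv0⟩ := (Submodule.ne_bot_iff E).1 fun e => by rw [e, finrank_bot] at h2; omega
  obtain ⟨w, hw, hwv⟩ := SetLike.exists_of_lt (lt_of_le_of_ne ((Submodule.span_singleton_le_iff_mem _ _).2 hv)
    fun e => by rw [← e, finrank_span_singleton hv0] at h2; omega)
  obtain ⟨k, hk⟩ := (evalV_bijective hK hv0).2 w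
  simp only at hk
  rw [hmem] at hv hw
  have hginv : ((g⁻¹ : GL (Fin n) F) : Matrix (Fin n) (Fin n) F) * g = 1 := by
    rw [← Units.val_mul, inv_mul_cancel, Units.val_one]
  have hμ : μ ≠ 0 := fun e => hv0 (by
    rw [e, zero_smul] at hv
    rw [← Matrix.one_mulVec v, ← hginv, ← Matrix.mulVec_mulVec, hv, Matrix.mulVec_zero])
  have hconj : (⟨(g : Matrix (Fin n) (Fin n) F) * (k : Matrix (Fin n) (Fin n) F) * ((g⁻¹ : GL (Fin n) F) : Matrix (Fin n) (Fin n) F), (hg (k : Matrix (Fin n) (Fin n) F)).1 k.2⟩ : K) = k := by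
    refine (evalV_bijective hK hv0).1 ?_
    show ((g : Matrix (Fin n) (Fin n) F) * (k : Matrix (Fin n) (Fin n) F) * ((g⁻¹ : GL (Fin n) F) : Matrix (Fin n) (Fin n) F)) *ᵥ v = (k : Matrix (Fin n) (Fin n) F) *ᵥ v
    have hgi : ((g⁻¹ : GL (Fin n) F) : Matrix (Fin n) (Fin n) F) *ᵥ v = μ⁻¹ • v := by
      rw [← Matrix.one_mulVec (μ⁻¹ • v), ← hginv, ← Matrix.mulVec_mulVec, Matrix.mulVec_smul, hv,
        inv_smul_smul₀ hμ]
    rw [← Matrix.mulVec_mulVec, ← Matrix.mulVec_mulVec, hgi, Matrix.mulVec_smul, Matrix.mulVec_smul, hk, hw,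
      inv_smul_smul₀ hμ]
  let S : Subalgebra F K :=
    { carrier := {x | (g : Matrix (Fin n) (Fin n) F) * x = x * g}
      mul_mem' := fun {a b} ha hb => by
        simp only [Set.mem_ofPred_eq, Subalgebra.coe_mul] at ha hb ⊢
        rw [← mul_assoc, ha, mul_assoc, hb, ← mul_assoc]
      add_mem' := fun {a b} ha hb => by
        simp only [Set.mem_ofPred_eq, Subalgebra.coe_add] at ha hb ⊢
        rw [mul_add, add_mul, ha, hb]
      algebraMap_mem' := fun c => by
        simp only [Set.mem_ofPred_eq, Subalgebra.coe_algebraMap]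
        exact (Algebra.commutes c _).symm }
  haveI : IsDomain K := (isField_matField hn.pos K hK).isDomain
  haveI := Subalgebra.isSimpleOrder_of_finrank_prime F K (by rw [hK.finrank_eq]; exact hn)
  have hkS : k ∈ S := by
    have := congrArg Subtype.val hconj
    simp only at this
    show (g : Matrix (Fin n) (Fin n) F) * k = k * g
    conv_rhs => rw [← this, mul_assoc, hginv, mul_one]
  have hS : S = ⊤ := (IsSimpleOrder.eq_bot_or_eq_top S).resolve_left fun h => by
    rw [h, Algebra.mem_bot] at hkS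
    obtain ⟨c, hc⟩ := hkS
    refine hwv (Submodule.mem_span_singleton.2 ⟨c, ?_⟩)
    rw [← hk, ← hc, Subalgebra.coe_algebraMap, Algebra.algebraMap_eq_smul_one, Matrix.smul_mulVec, Matrix.one_mulVec]
  refine Matrix.ext_of_mulVec_single fun i => ?_
  obtain ⟨a, ha⟩ := (evalV_bijective hK hv0).2 (Pi.single i 1)
  simp only at ha
  have hca : (g : Matrix (Fin n) (Fin n) F) * a = a * g := (show a ∈ S by rw [hS]; exact Algebra.mem_top)
  rw [← ha, Matrix.mulVec_mulVec, hca, ← Matrix.mulVec_mulVec, hv, Matrix.smul_mulVec, Matrix.one_mulVec, Matrix.mulVec_smul]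

/-- A finite criterion for membership of the normaliser. -/
theorem mem_normalizer [Fintype F] {g : GL (Fin n) F}
    (h : ∀ k ∈ K, (g : Matrix (Fin n) (Fin n) F) * k * ((g⁻¹ : GL (Fin n) F) : Matrix (Fin n) (Fin n) F) ∈ K) :
    g ∈ Cfsg.Geo.subalgebraNormalizer K := by
  let f : K → K := fun k => ⟨_, h k k.2⟩
  have hf : Function.Injective f := fun a b hab => Subtype.ext (by
    have := congrArg (fun z : K => ((g⁻¹ : GL (Fin n) F) : Matrix (Fin n) (Fin n) F) * z * g) hab
    simpa [f, mul_assoc] using this)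
  intro k
  refine ⟨h k, fun hk => ?_⟩
  obtain ⟨k', hk'⟩ := Finite.surjective_of_injective hf ⟨_, hk⟩
  have := congrArg (fun z : K => ((g⁻¹ : GL (Fin n) F) : Matrix (Fin n) (Fin n) F) * z * g) hk'
  simp [f, mul_assoc] at this
  exact this ▸ k'.2

/-- A Galois element in the normaliser and all determinants in the field. -/
theorem galois_aux [Fintype F] {L : Type*} [Field L] [Algebra F L] [Finite L] (hn : n.Prime)
    (ι : L →ₐ[F] Matrix (Fin n) (Fin n) F) (hι : ∀ k, ι k ∈ K) (hιs : ∀ m ∈ K, ∃ k, ι k = m)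
    (hfr : Module.finrank F L = n) :
    (∃ s : GL (Fin n) F, s ∈ Cfsg.Geo.subalgebraNormalizer K ∧ (s : Matrix (Fin n) (Fin n) F) ^ n = 1 ∧
      (s : Matrix (Fin n) (Fin n) F) ≠ 1) ∧
    ∀ δ : F, δ ≠ 0 → ∃ a : GL (Fin n) F, a ∈ Cfsg.Geo.subalgebraNormalizer K ∧
      (a : Matrix (Fin n) (Fin n) F).det = δ := by
  classical
  haveI : Fintype L := Fintype.ofFinite L
  haveI : FiniteDimensional F L := Module.Finite.of_finite
  haveI : NeZero n := ⟨hn.ne_zero⟩
  let v : Fin n → F := Pi.single 0 1
  have hv : v ≠ 0 := fun e => one_ne_zero (by simpa [v] using congrFun e 0 : (1 : F) = 0)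
  let φ₀ : L →ₗ[F] (Fin n → F) :=
    { toFun := fun k => ι k *ᵥ v
      map_add' := fun a b => by rw [map_add, Matrix.add_mulVec]
      map_smul' := fun c a => by rw [map_smul, Matrix.smul_mulVec]; rfl }
  have hφ : Function.Injective φ₀ := by
    rw [injective_iff_map_eq_zero]
    intro k hk
    by_contra hk0
    refine hv ?_
    rw [← Matrix.one_mulVec v, ← map_one ι, ← inv_mul_cancel₀ hk0, map_mul, ← Matrix.mulVec_mulVec,
      show ι k *ᵥ v = 0 from hk, Matrix.mulVec_zero]
  let φ : L ≃ₗ[F] (Fin n → F) := LinearEquiv.ofInjectiveOfFinrankEq φ₀ hφ (by rw [hfr, Module.finrank_fin_fun])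
  have hφm : ∀ a k : L, ι a *ᵥ φ k = φ (a * k) := fun a k => by
    show ι a *ᵥ (ι k *ᵥ v) = ι (a * k) *ᵥ v
    rw [map_mul, Matrix.mulVec_mulVec]
  constructor
  · let γ : L ≃ₐ[F] L := FiniteField.frobeniusAlgEquivOfAlgebraic F L
    let s : (Fin n → F) ≃ₗ[F] (Fin n → F) := φ.symm.trans (γ.toLinearEquiv.trans φ)
    have hsφ : ∀ k, s (φ k) = φ (γ k) := fun k => by simp [s]
    refine ⟨(glEquiv n F).symm s, mem_normalizer fun k hk => ?_, ?_, fun h => ?_⟩
    · obtain ⟨a, rfl⟩ := hιs k hk
      have key : (((glEquiv n F).symm s : GL (Fin n) F) : Matrix (Fin n) (Fin n) F) * ι a =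
          ι (γ a) * (((glEquiv n F).symm s : GL (Fin n) F) : Matrix (Fin n) (Fin n) F) := by
        refine Matrix.ext_of_mulVec_single fun i => ?_
        obtain ⟨x, hx⟩ := φ.surjective (Pi.single i 1)
        rw [← hx, ← Matrix.mulVec_mulVec, ← Matrix.mulVec_mulVec, ← glEquiv_apply, ← glEquiv_apply,
          MulEquiv.apply_symm_apply, hφm, hsφ, hsφ, hφm, map_mul]
      rw [key, mul_assoc, ← Units.val_mul, mul_inv_cancel, Units.val_one, mul_one]
      exact hι _
    · rw [← Units.val_pow_eq_pow_val, Units.val_eq_one, ← map_pow]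
      refine (MulEquiv.map_eq_one_iff _).2 (LinearEquiv.ext fun x => ?_)
      obtain ⟨k, rfl⟩ := φ.surjective x
      have : ∀ j : ℕ, (s ^ j) (φ k) = φ ((γ ^ j) k) := fun j => by
        induction j with
        | zero => rfl
        | succ j ih => rw [pow_succ', pow_succ', LinearEquiv.mul_apply, ih, hsφ]; rfl
      rw [this, show γ ^ n = 1 by rw [← hfr, ← FiniteField.orderOf_frobeniusAlgEquivOfAlgebraic F L, pow_orderOf_eq_one]]
      rfl
    · rw [Units.val_eq_one, MulEquiv.map_eq_one_iff] at h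
      have hγ : γ = 1 := AlgEquiv.ext fun k => φ.injective (by rw [← hsφ, h]; rfl)
      have := FiniteField.orderOf_frobeniusAlgEquivOfAlgebraic F L
      rw [show FiniteField.frobeniusAlgEquivOfAlgebraic F L = 1 from hγ, orderOf_one, hfr] at this
      exact hn.ne_one this.symm
  · intro δ hδ
    obtain ⟨ν, hν⟩ := FiniteField.norm_surjective F L δ
    have hdet : (ι ν).det = δ := by
      rw [← LinearMap.det_toLin', ← hν, Algebra.norm_apply, ← LinearMap.det_conj (Algebra.lmul F L ν) φ]
      congr 1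
      refine LinearMap.ext fun x => ?_
      obtain ⟨k, rfl⟩ := φ.surjective x
      simp [hφm]
    refine ⟨Matrix.GeneralLinearGroup.mkOfDetNeZero (ι ν) (hdet ▸ hδ), mem_normalizer fun k hk => ?_, hdet⟩
    obtain ⟨a, rfl⟩ := hιs k hk
    set u := Matrix.GeneralLinearGroup.mkOfDetNeZero (ι ν) (hdet ▸ hδ) with hu
    have h : (u : Matrix (Fin n) (Fin n) F) * ι a = ι a * u := by
      show ι ν * ι a = ι a * ι ν
      rw [← map_mul, mul_comm, map_mul]
    rw [h, mul_assoc, Units.mul_inv, mul_one]
    exact hι _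

theorem galois [Fintype F] (hn : n.Prime) (hK : Cfsg.Geo.IsFieldSubalgebra n K) :
    (∃ s : GL (Fin n) F, s ∈ Cfsg.Geo.subalgebraNormalizer K ∧ (s : Matrix (Fin n) (Fin n) F) ^ n = 1 ∧
      (s : Matrix (Fin n) (Fin n) F) ≠ 1) ∧
    ∀ δ : F, δ ≠ 0 → ∃ a : GL (Fin n) F, a ∈ Cfsg.Geo.subalgebraNormalizer K ∧
      (a : Matrix (Fin n) (Fin n) F).det = δ := by
  letI : Field (MatField K) := (isField_matField hn.pos K hK).toField
  letI : Algebra F (MatField K) := (inferInstance : Algebra F ↥K)
  have : Finite (MatField K) := (inferInstance : Finite ↥K)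
  exact galois_aux (L := MatField K) hn (K.val : ↥K →ₐ[F] _) (fun k => (k : ↥K).2)
    (fun m hm => ⟨(⟨m, hm⟩ : ↥K), rfl⟩) hK.finrank_eq

end

/-- Elements of order `n` of PSL_n(q), `n` prime, and the normalizer of a Singer cycle. Here `T = PSL_n(F)` for a field `F` with `q = p^f` elements (`n ≥ 2`, `(n, q) ≠ (2, 2), (2, 3)`), `k` is a prime dividing `n`, `K` is a subalgebra of the `n × n` matrices that is a field of degree `k` over `F` (an extension-field structure F_{q^k} on `F^n`), and `H` is the subgroup of matrices of determinant 1 normalizing `K` — a subgroup of type GL_{n/k}(q^k) (maximal except in some small cases; maximality is not assumed); Ω is the set of cosets of `H` in `T`, so an element of `T` of prime order `r` (a matrix `x` of determinant 1 with `x^r` scalar, `x` not scalar) fixes a point of Ω when some conjugate of `x` by a matrix of determinant 1 normalizes `K`. Take `k = n > 3` prime with `n ≠ p` (so `H` is the normalizer of a Singer cycle), and suppose `n` divides the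 index of `H`. Then every element of `T` of order `n` is conjugate in `T` into `H` if and only if the multiplicative order of `q` modulo `n` is `n − 1`. -/
theorem result {F : Type*} [Field F] [Fintype F] {p : ℕ} [Fact p.Prime] [CharP F p] {q : ℕ} (hq : Fintype.card F = q)
    (n : ℕ) (hn : 2 ≤ n) (hT : (n, q) ≠ (2, 2) ∧ (n, q) ≠ (2, 3))
    (k : ℕ) (hk : k.Prime) (hkn : k ∣ n) (K : Subalgebra F (Matrix (Fin n) (Fin n) F)) (hK : Cfsg.Geo.IsFieldSubalgebra k K) (hkn' : k = n) (hn3 : 3 < n) (hnp : n ≠ p) (hΩ : n ∣ ((Cfsg.Geo.subalgebraNormalizer K).comap (Matrix.SpecialLinearGroup.toGL : Matrix.SpecialLinearGroup (Fin n) F →* GL (Fin n) F)).index) :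
    (∀ x : Matrix.SpecialLinearGroup (Fin n) F,
      (∃ z : F, ((x ^ n : Matrix.SpecialLinearGroup (Fin n) F) : Matrix (Fin n) (Fin n) F) = z • (1 : Matrix (Fin n) (Fin n) F)) →
      (∀ z : F, (x : Matrix (Fin n) (Fin n) F) ≠ z • (1 : Matrix (Fin n) (Fin n) F)) →
      ∃ P : Matrix.SpecialLinearGroup (Fin n) F, P⁻¹ * x * P ∈ ((Cfsg.Geo.subalgebraNormalizer K).comap (Matrix.SpecialLinearGroup.toGL : Matrix.SpecialLinearGroup (Fin n) F →* GL (Fin n) F))) ↔
    orderOf (q : ZMod n) = n - 1 := by
  subst hq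
  classical
  have hK' : Cfsg.Geo.IsFieldSubalgebra n K := hkn' ▸ hK
  have hnp' : n.Prime := hkn' ▸ hk
  haveI : Fact n.Prime := ⟨hnp'⟩
  have hnF := SemiCriterion.cast_ne (F := F) (p := p) hnp
  have hcd : orderOf (Fintype.card F : ZMod n) ∣ n - 1 := ZMod.orderOf_dvd_card_sub_one (fun h =>
    SemiCriterion.not_dvd_card (F := F) hnp ((ZMod.natCast_eq_zero_iff _ n).1 h))
  have hc0 := SemiCriterion.order_pos (F := F) (p := p) hnp
  constructor
  · intro hall
    by_contra hne
    obtain ⟨x, hx, hns, hbig⟩ : ∃ x : Matrix.SpecialLinearGroup (Fin n) F,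
        (x : Matrix (Fin n) (Fin n) F) ^ n = 1 ∧ (∀ z : F, (x : Matrix (Fin n) (Fin n) F) ≠ z • 1) ∧
        2 ≤ Module.finrank F ↥(LinearMap.ker (Matrix.toLinAlgEquiv' (x : Matrix (Fin n) (Fin n) F) - (1 : F) • 1)) := by
      rcases Nat.lt_or_ge (orderOf (Fintype.card F : ZMod n)) 2 with h1 | h2
      · obtain ⟨ω, hω⟩ := exists_prime_orderOf_dvd_card n (G := Fˣ) (by
          rw [Fintype.card_units]; exact SemiCriterion.order_eq_one_iff.1 (by omega))
        let i0 : Fin n := ⟨0, by omega⟩
        let i1 : Fin n := ⟨1, by omega⟩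
        let i2 : Fin n := ⟨2, by omega⟩
        let i3 : Fin n := ⟨3, by omega⟩
        let δ : Fin n → Fˣ := fun i => if i = i0 then ω else if i = i1 then ω⁻¹ else 1
        have hdet : (Matrix.diagonal fun i => (δ i : F)).det = 1 := by
          rw [Matrix.det_diagonal, ← Units.coe_prod, Units.val_eq_one,
            Finset.prod_eq_mul i0 i1 (by simp [i0, i1]) (fun c _ hc => by simp [δ, hc.1, hc.2]) (by simp) (by simp)]
          simp [δ, i0, i1]
        refine ⟨⟨_, hdet⟩, ?_, fun z hz => ?_, ?_⟩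
        · show (Matrix.diagonal fun i => (δ i : F)) ^ n = 1
          rw [Matrix.diagonal_pow, ← Matrix.diagonal_one]
          refine congrArg Matrix.diagonal (funext fun i => ?_)
          have : ω ^ n = 1 := by rw [← hω, pow_orderOf_eq_one]
          simp only [Pi.pow_apply, δ]
          rw [← Units.val_pow_eq_pow_val, Units.val_eq_one]
          split_ifs <;> simp [this]
        · change (Matrix.diagonal fun i => (δ i : F)) = z • 1 at hz
          have a0 := congrFun (congrFun hz i0) i0
          have a2 := congrFun (congrFun hz i2) i2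
          simp [δ, i0, i1, i2] at a0 a2
          rw [← a2] at a0
          exact hnp'.ne_one (by rw [← hω, Units.val_eq_one.1 a0, orderOf_one])
        · let f : (Fin 2 → F) →ₗ[F] (Fin n → F) :=
            { toFun := fun a => Pi.single i2 (a 0) + Pi.single i3 (a 1)
              map_add' := fun a b => by simp only [Pi.add_apply, Pi.single_add]; abel
              map_smul' := fun c a => by simp only [Pi.smul_apply, Pi.single_smul, smul_add, RingHom.id_apply] }
          have hf : Function.Injective f := by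
            rw [injective_iff_map_eq_zero]
            intro a ha
            have a2 := congrFun ha i2
            have a3 := congrFun ha i3
            simp [f, i2, i3] at a2 a3
            funext j; fin_cases j <;> assumption
          have h := LinearMap.finrank_range_of_inj hf
          rw [Module.finrank_fin_fun] at h
          rw [← h]
          refine Submodule.finrank_mono ?_
          rintro _ ⟨a, rfl⟩
          rw [LinearMap.mem_ker, one_smul, LinearMap.sub_apply, sub_eq_zero, Module.End.one_apply,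
            Matrix.toLinAlgEquiv'_apply]
          funext i
          rw [Matrix.mulVec_diagonal]
          by_cases hi : i = i0 ∨ i = i1
          · rcases hi with rfl | rfl <;> simp [f, i0, i1, i2, i3]
          · push Not at hi
            simp [δ, hi.1, hi.2]
      · generalize hg : orderOf (Fintype.card F : ZMod n) = c at *
        have hc2 : c + 2 ≤ n := by have := Nat.le_of_dvd (by omega) hcd; omega
        have hnd : ¬ n ∣ Fintype.card F - 1 := fun h => by
          have := (SemiCriterion.order_eq_one_iff (F := F)).2 h; omega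
        have hroot : ∀ z : F, z ^ n = 1 → z = 1 := fun z hz => by
          have hz0 : z ≠ 0 := fun e => by rw [e, zero_pow hnp'.ne_zero] at hz; exact zero_ne_one hz
          have hcop : (Nat.card Fˣ).Coprime n := by
            rw [Nat.card_units, Nat.card_eq_fintype_card]; exact ((hnp'.coprime_iff_not_dvd).2 hnd).symm
          exact congrArg Units.val ((powCoprime hcop).injective (a₁ := Units.mk0 z hz0) (a₂ := 1)
            (Units.ext (by simpa using hz)))
        obtain ⟨A, hA, hE⟩ := SemiWitness.exists_fixed (F := F) (p := p) (r := n) (e := n - c) (B := 1) hc0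
          (hg ▸ SemiCriterion.dvd_pow_order)
        obtain ⟨A', hA', hE'⟩ : ∃ A' : Matrix (Fin n) (Fin n) F, A' ^ n = 1 ∧
            Module.finrank F ↥(LinearMap.ker (Matrix.toLinAlgEquiv' A' - 1)) = n - c := by
          revert A
          rw [mul_one, Nat.sub_add_cancel (show c ≤ n by omega)]
          exact fun A hA hE => ⟨A, hA, hE⟩
        refine ⟨⟨A', hroot _ (by rw [← Matrix.det_pow, hA', Matrix.det_one])⟩, hA', fun z hz => ?_, ?_⟩
        · change A' = z • 1 at hz
          haveI : Nonempty (Fin n) := ⟨⟨0, by omega⟩⟩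
          have hz1 : z = 1 := hroot z (by
            have h := hA'
            rw [hz, smul_pow, one_pow] at h
            simpa using congrFun (congrFun h (Classical.arbitrary _)) (Classical.arbitrary _))
          rw [hz, hz1, one_smul, map_one, sub_self, LinearMap.ker_zero, finrank_top, Module.finrank_fin_fun] at hE'
          omega
        · show 2 ≤ Module.finrank F ↥(LinearMap.ker (Matrix.toLinAlgEquiv' A' - (1 : F) • 1))
          rw [one_smul, hE']; omega
    obtain ⟨P, hP⟩ := hall x ⟨1, by rw [Matrix.SpecialLinearGroup.coe_pow, hx, one_smul]⟩ hns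
    rw [Subgroup.mem_comap] at hP
    let g := Matrix.SpecialLinearGroup.toGL P
    let e : (Fin n → F) ≃ₗ[F] (Fin n → F) := glEquiv n F g
    have hconj : ((Matrix.SpecialLinearGroup.toGL (P⁻¹ * x * P) : GL (Fin n) F) : Matrix (Fin n) (Fin n) F) =
        (P⁻¹ : Matrix.SpecialLinearGroup (Fin n) F) * (x : Matrix (Fin n) (Fin n) F) * P := rfl
    have h := eigen_small hnp' hK' hP (μ := 1) ?_
    · rw [hconj] at h
      refine hns 1 ?_
      have h' : (P : Matrix (Fin n) (Fin n) F) * ((P⁻¹ : Matrix.SpecialLinearGroup (Fin n) F) * (x : Matrix (Fin n) (Fin n) F) * P) *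
          (P⁻¹ : Matrix.SpecialLinearGroup (Fin n) F) = (x : Matrix (Fin n) (Fin n) F) := by
        rw [← Matrix.SpecialLinearGroup.coe_mul, ← Matrix.SpecialLinearGroup.coe_mul, ← Matrix.SpecialLinearGroup.coe_mul,
          ← Matrix.SpecialLinearGroup.coe_mul]
        exact congrArg Subtype.val (show P * (P⁻¹ * x * P) * P⁻¹ = x by group)
      rw [← h', h, one_smul, mul_one, ← Matrix.SpecialLinearGroup.coe_mul, mul_inv_cancel, Matrix.SpecialLinearGroup.coe_one]
    · refine hbig.trans (le_of_eq ?_)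
      symm
      refine LinearEquiv.finrank_eq (e.submoduleMap _ |>.trans (LinearEquiv.ofEq _ _ ?_))
      rw [Submodule.map_equiv_eq_comap_symm]
      ext v
      have hes : ∀ w, e.symm w = ((P⁻¹ : Matrix.SpecialLinearGroup (Fin n) F) : Matrix (Fin n) (Fin n) F) *ᵥ w := fun w => by
        refine e.injective ?_
        rw [e.apply_symm_apply]
        show w = (P : Matrix (Fin n) (Fin n) F) *ᵥ (_ *ᵥ w)
        rw [Matrix.mulVec_mulVec, ← Matrix.SpecialLinearGroup.coe_mul, mul_inv_cancel, Matrix.SpecialLinearGroup.coe_one,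
          Matrix.one_mulVec]
      simp only [Submodule.mem_comap, LinearEquiv.coe_coe, LinearMap.mem_ker, one_smul, LinearMap.sub_apply,
        Module.End.one_apply, sub_eq_zero, Matrix.toLinAlgEquiv'_apply, hconj, hes, Matrix.mulVec_mulVec]
      rw [mul_assoc, ← Matrix.SpecialLinearGroup.coe_mul P P⁻¹, mul_inv_cancel, Matrix.SpecialLinearGroup.coe_one, mul_one,
        ← Matrix.mulVec_mulVec]
      exact ⟨fun h => by
        have := congrArg ((P : Matrix (Fin n) (Fin n) F) *ᵥ ·) h
        simpa only [Matrix.mulVec_mulVec, ← Matrix.SpecialLinearGroup.coe_mul, ← mul_assoc, mul_inv_cancel, one_mul, Matrix.SpecialLinearGroup.coe_one, Matrix.one_mulVec] using this, fun h => by rw [h]⟩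
  · intro hc x ⟨d, hx⟩ hns
    rw [Matrix.SpecialLinearGroup.coe_pow] at hx
    have hnd : ¬ n ∣ Fintype.card F - 1 := fun h => by
      have := (SemiCriterion.order_eq_one_iff (F := F) (r := n)).2 h; omega
    haveI : Nonempty (Fin n) := ⟨⟨0, by omega⟩⟩
    have hd0 : d ≠ 0 := fun e => by
      rw [e, zero_smul] at hx
      have := congrArg Matrix.det hx
      rw [Matrix.det_pow, x.2, one_pow, Matrix.det_zero] at this
      exact one_ne_zero this
    have hcop : (Nat.card Fˣ).Coprime n := by
      rw [Nat.card_units, Nat.card_eq_fintype_card]; exact ((hnp'.coprime_iff_not_dvd).2 hnd).symm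
    obtain ⟨e, he⟩ := (powCoprime hcop).surjective (Units.mk0 d hd0)
    have he' : (e : F) ^ n = d := by simpa using congrArg Units.val he
    obtain ⟨⟨s, hs, hsn, hs1⟩, hdets⟩ := galois hnp' hK'
    let y : Module.End F (Fin n → F) := (e : F)⁻¹ • Matrix.toLinAlgEquiv' (x : Matrix (Fin n) (Fin n) F)
    have hy : y ^ n = 1 := by
      show ((e : F)⁻¹ • _) ^ n = (1 : Module.End F (Fin n → F))
      rw [smul_pow, SemiCriterion.toLin_pow hx, smul_smul, inv_pow, he', inv_mul_cancel₀ hd0, one_smul]
    have hy1 : y ≠ 1 := fun h => hns e (Matrix.toLinAlgEquiv'.injective (by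
      rw [map_smul, map_one, ← h, smul_smul, mul_inv_cancel₀ e.ne_zero, one_smul]))
    obtain ⟨b, hb⟩ := cyclic_basis rfl (by omega) (by omega) hnF hy hy1
    obtain ⟨b', hb'⟩ := cyclic_basis rfl (by omega) (by omega) hnF (T := Matrix.toLinAlgEquiv' (s : Matrix (Fin n) (Fin n) F))
      (by rw [← map_pow, hsn, map_one]) (fun h => hs1 (Matrix.toLinAlgEquiv'.injective (by rw [h, map_one])))
    let E := b'.equiv b (Equiv.refl _)
    have hE : ∀ v, y (E v) = E ((s : Matrix (Fin n) (Fin n) F) *ᵥ v) := fun v => by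
      have : y ∘ₗ (E : (Fin n → F) →ₗ[F] (Fin n → F)) = (E : (Fin n → F) →ₗ[F] (Fin n → F)) ∘ₗ Matrix.toLinAlgEquiv' (s : Matrix (Fin n) (Fin n) F) := by
        refine b'.ext fun i => ?_
        simp only [LinearMap.comp_apply, LinearEquiv.coe_coe, hb']
        simp [E, hb]
      exact LinearMap.congr_fun this v
    let g := (glEquiv n F).symm E
    have hg : (x : Matrix (Fin n) (Fin n) F) * g = (g : Matrix (Fin n) (Fin n) F) * ((e : F) • (s : Matrix (Fin n) (Fin n) F)) := by
      refine Matrix.ext_of_mulVec_single fun i => ?_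
      rw [← Matrix.mulVec_mulVec, ← Matrix.mulVec_mulVec, ← glEquiv_apply, ← glEquiv_apply, MulEquiv.apply_symm_apply,
        Matrix.smul_mulVec, map_smul, ← hE, LinearMap.smul_apply, smul_smul, mul_inv_cancel₀ e.ne_zero, one_smul,
        Matrix.toLinAlgEquiv'_apply]
    obtain ⟨a, ha, had⟩ := hdets _ (inv_ne_zero (Matrix.GeneralLinearGroup.det g).ne_zero)
    obtain ⟨P, hP⟩ : ∃ P : Matrix.SpecialLinearGroup (Fin n) F, Matrix.SpecialLinearGroup.toGL P = g * a :=
      ⟨⟨(g * a : GL (Fin n) F), by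
        rw [Units.val_mul, Matrix.det_mul, had]
        exact mul_inv_cancel₀ (Matrix.GeneralLinearGroup.det g).ne_zero⟩, Units.ext rfl⟩
    refine ⟨P, ?_⟩
    · rw [Subgroup.mem_comap]
      let z : GL (Fin n) F := Units.map (algebraMap F (Matrix (Fin n) (Fin n) F)).toMonoidHom e
      have hz : (z : Matrix (Fin n) (Fin n) F) = (e : F) • 1 := Algebra.algebraMap_eq_smul_one _
      have hzN : z ∈ Cfsg.Geo.subalgebraNormalizer K := mem_normalizer fun k hk => by
        have h : (z : Matrix (Fin n) (Fin n) F) * k = k * z := by rw [hz, Algebra.smul_mul_assoc, one_mul, mul_smul_comm, mul_one]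
        rw [h, mul_assoc, Units.mul_inv, mul_one]
        exact hk
      have hxg : Matrix.SpecialLinearGroup.toGL x * g = g * (z * s) := Units.ext (by
        show (x : Matrix (Fin n) (Fin n) F) * g = (g : Matrix (Fin n) (Fin n) F) * ((z : Matrix (Fin n) (Fin n) F) * s)
        rw [hz, Algebra.smul_mul_assoc, one_mul]; exact hg)
      rw [map_mul, map_mul, map_inv, hP,
        show (g * a)⁻¹ * Matrix.SpecialLinearGroup.toGL x * (g * a) = a⁻¹ * (g⁻¹ * (Matrix.SpecialLinearGroup.toGL x * g)) * a by group,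
        hxg, inv_mul_cancel_left]
      exact mul_mem (mul_mem (inv_mem ha) (mul_mem hzN hs)) ha


end Cfsg.Agent.S5970
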