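import Cfsg.Statements.S5971
import Cfsg.Agent.Lib.MaxSub.ExtMatrix
import Cfsg.Agent.Lib.Classical.SLOrder
import Mathlib.FieldTheory.Finite.Extension
import Mathlib.LinearAlgebra.Matrix.Charpoly.Coeff
-- import your own Cfsg.Agent.* helpers here

set_option autoImplicit false
open scoped MatrixGroups
open Cfsg

namespace Cfsg.Agent.S5971

open Matrix

section

universe u

variable {F : Type u} [Field F]

local notation "M3" => Matrix (Fin 3) (Fin 3) F

set_option backward.isDefEq.respectTransparency false in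
theorem exists_model [Fintype F] {K : Subalgebra F M3} (hK : Cfsg.Geo.IsFieldSubalgebra 3 K) :
    ∃ (L : Type u) (_ : Field L) (_ : Algebra F L) (_ : FiniteDimensional F L) (ι : L →ₐ[F] M3)
      (φ : L ≃ₗ[F] (Fin 3 → F)), Module.finrank F L = 3 ∧ (∀ A, A ∈ K ↔ ∃ a, ι a = A) ∧
      ∀ a b, ι a *ᵥ φ b = φ (a * b) := by
  letI : Field (CfsgLib.MaxSub.MatField K) := (CfsgLib.MaxSub.isField_matField (by norm_num) K hK).toField
  letI : Algebra F (CfsgLib.MaxSub.MatField K) := (inferInstance : Algebra F ↥K)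
  letI : Module F (CfsgLib.MaxSub.MatField K) := Algebra.toModule
  haveI : Finite (CfsgLib.MaxSub.MatField K) := (inferInstance : Finite ↥K)
  haveI : FiniteDimensional F (CfsgLib.MaxSub.MatField K) := Module.Finite.of_finite
  let ι : CfsgLib.MaxSub.MatField K →ₐ[F] M3 := K.val
  let f : CfsgLib.MaxSub.MatField K →ₗ[F] (Fin 3 → F) :=
    (Matrix.toLin'.toLinearMap.flip (Pi.single 0 1)) ∘ₗ ι.toLinearMap
  have hfv : ∀ a, f a = ι a *ᵥ Pi.single (0 : Fin 3) (1 : F) := fun a => rfl
  have hinj : Function.Injective f := by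
    rw [injective_iff_map_eq_zero]
    intro a ha
    by_contra h0
    rw [hfv] at ha
    have h1 := congrArg (fun v => ι a⁻¹ *ᵥ v) ha
    simp only [Matrix.mulVec_mulVec, ← map_mul, inv_mul_cancel₀ h0, map_one, Matrix.one_mulVec, Matrix.mulVec_zero] at h1
    simpa using congrFun h1 0
  have hfr : Module.finrank F (CfsgLib.MaxSub.MatField K) = 3 := hK.finrank_eq
  refine ⟨CfsgLib.MaxSub.MatField K, inferInstance, inferInstance, inferInstance, ι,
    LinearMap.linearEquivOfInjective f hinj (by rw [hfr, Module.finrank_fin_fun]), hfr, fun A => ?_, fun a b => ?_⟩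
  · exact ⟨fun hA => ⟨(⟨A, hA⟩ : ↥K), rfl⟩, fun ⟨a, ha⟩ => ha ▸ (a : ↥K).2⟩
  · rw [LinearMap.linearEquivOfInjective_apply, LinearMap.linearEquivOfInjective_apply, hfv, hfv, map_mul,
      Matrix.mulVec_mulVec]

theorem not_rank_one {L : Type*} [Field L] [Algebra F L] [FiniteDimensional F L] {ι : L →ₐ[F] M3}
    {φ : L ≃ₗ[F] (Fin 3 → F)} (hφ : ∀ a b, ι a *ᵥ φ b = φ (a * b)) {K : Subalgebra F M3}
    (hK : ∀ A, A ∈ K ↔ ∃ a, ι a = A) (g : GL (Fin 3) F) (hg : g ∈ Cfsg.Geo.subalgebraNormalizer K) {a : F}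
    (ha : a ≠ 0) {u f : Fin 3 → F} (hu : u ≠ 0) (hf : f ≠ 0) (hgv : (g : M3) = a • 1 + vecMulVec u f) : False := by
  have hact : ∀ w, (g : M3) *ᵥ w = a • w + (f ⬝ᵥ w) • u := fun w => by
    rw [hgv, Matrix.add_mulVec, Matrix.smul_mulVec, Matrix.one_mulVec, Matrix.vecMulVec_mulVec]
    ext i; simp [mul_comm]
  let fl : (Fin 3 → F) →ₗ[F] F := dotProductEquiv F (Fin 3) f
  have hker : 2 ≤ Module.finrank F (LinearMap.ker fl) := by
    have h1 := fl.finrank_range_add_finrank_ker
    have h2 := Submodule.finrank_le (LinearMap.range fl)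
    rw [Module.finrank_fin_fun] at h1
    rw [Module.finrank_self] at h2
    omega
  have hcomm : ∀ k, (g : M3) * ι k = ι k * (g : M3) := by
    intro k
    obtain ⟨c, hc⟩ := (hK _).1 ((hg (ι k)).1 ((hK _).2 ⟨k, rfl⟩))
    have hgc : (g : M3) * ι k = ι c * (g : M3) := by
      rw [hc, mul_assoc, ← Units.val_mul, inv_mul_cancel, Units.val_one, mul_one]
    by_cases hck : c = k
    · rw [hgc, hck]
    exfalso
    have hle : LinearMap.ker fl ≤ Submodule.span F {ι (c - k)⁻¹ *ᵥ u} := fun w hw => by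
      have hw0 : f ⬝ᵥ w = 0 := hw
      have h := congrArg (fun A : M3 => A *ᵥ w) hgc
      simp only [← Matrix.mulVec_mulVec] at h
      rw [hact, hact, hw0, zero_smul, add_zero, Matrix.mulVec_smul] at h
      have h' : a • (ι (c - k) *ᵥ w) = (f ⬝ᵥ ι k *ᵥ w) • u := by
        rw [map_sub, Matrix.sub_mulVec, smul_sub, ← h, add_sub_cancel_left]
      have h'' := congrArg (fun v => ι (c - k)⁻¹ *ᵥ v) h'
      simp only [Matrix.mulVec_smul, Matrix.mulVec_mulVec, ← map_mul, inv_mul_cancel₀ (sub_ne_zero.2 hck), map_one,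
        Matrix.one_mulVec] at h''
      exact Submodule.mem_span_singleton.2 ⟨a⁻¹ * (f ⬝ᵥ ι k *ᵥ w), by
        rw [← smul_smul, ← h'', inv_smul_smul₀ ha]⟩
    have h3 := Submodule.finrank_mono hle
    have h4 : Module.finrank F (Submodule.span F {ι (c - k)⁻¹ *ᵥ u}) ≤ 1 := by
      refine le_trans (finrank_span_le_card _) ?_
      simp
    omega
  obtain ⟨d, hd⟩ : ∃ d, φ d = (g : M3) *ᵥ φ 1 := φ.surjective _
  have hgι : (g : M3) = ι d := by
    refine Matrix.toLin'.injective (LinearMap.ext fun w => ?_)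
    obtain ⟨b, rfl⟩ := φ.surjective w
    rw [Matrix.toLin'_apply, Matrix.toLin'_apply, hφ, mul_comm, ← hφ, hd, Matrix.mulVec_mulVec, ← hcomm,
      ← Matrix.mulVec_mulVec, hφ, mul_one]
  obtain ⟨w, hw, hw0⟩ := (Submodule.ne_bot_iff _).1 (fun h : LinearMap.ker fl = ⊥ => by
    rw [h, finrank_bot] at hker; omega)
  have hw' : f ⬝ᵥ w = 0 := hw
  have h := hact w
  rw [hgι, hw', zero_smul, add_zero] at h
  obtain ⟨b, rfl⟩ := φ.surjective w
  rw [hφ, ← map_smul, φ.injective.eq_iff, Algebra.smul_def] at h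
  have hb : b ≠ 0 := fun h0 => hw0 (by rw [h0, map_zero])
  have hda := mul_right_cancel₀ hb h
  rw [hgι, hda, AlgHom.commutes, Algebra.algebraMap_eq_smul_one, left_eq_add] at hgv
  obtain ⟨i, hi⟩ := Function.ne_iff.1 hu
  obtain ⟨j, hj⟩ := Function.ne_iff.1 hf
  exact mul_ne_zero hi hj (by simpa [vecMulVec_apply] using congrFun (congrFun hgv i) j)

/-- A vector is cyclic. -/
def Cyc (X : M3) (v : Fin 3 → F) : Prop :=
  ∀ a b c : F, a • v + b • (X *ᵥ v) + c • (X *ᵥ (X *ᵥ v)) = 0 → a = 0 ∧ b = 0 ∧ c = 0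

theorem exists_conj_cyc {X Y : M3} {z : F} (hX : X ^ 3 = z • 1) (hY : Y ^ 3 = z • 1) {v w : Fin 3 → F}
    (hv : Cyc X v) (hw : Cyc Y w) : ∃ g : GL (Fin 3) F, X * (g : M3) = (g : M3) * Y := by
  have key : ∀ (X : M3) (v : Fin 3 → F), X ^ 3 = z • 1 → Cyc X v →
      ∃ C : GL (Fin 3) F, X * (C : M3) = (C : M3) * !![0, 0, z; 1, 0, 0; 0, 1, 0] := by
    intro X v hX hv
    let C : M3 := Matrix.of fun i j => ![v, X *ᵥ v, X *ᵥ (X *ᵥ v)] j i
    have hC : IsUnit C := by
      rw [← Matrix.mulVec_injective_iff_isUnit]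
      refine (injective_iff_map_eq_zero C.mulVecLin).2 fun e he => ?_
      have h : e 0 • v + e 1 • (X *ᵥ v) + e 2 • (X *ᵥ (X *ᵥ v)) = 0 := by
        rw [← he]; ext i
        simp [C, Matrix.mulVecLin_apply, Matrix.mulVec, dotProduct, Fin.sum_univ_three, mul_comm]
      obtain ⟨h0, h1, h2⟩ := hv _ _ _ h
      ext i; fin_cases i <;> assumption
    refine ⟨hC.unit, ?_⟩
    have h3 : X *ᵥ (X *ᵥ (X *ᵥ v)) = z • v := by
      rw [Matrix.mulVec_mulVec, Matrix.mulVec_mulVec, ← pow_two, ← pow_succ, hX, Matrix.smul_mulVec, Matrix.one_mulVec]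
    rw [IsUnit.unit_spec]
    have hL : ∀ i j, (X * C) i j = (X *ᵥ ![v, X *ᵥ v, X *ᵥ (X *ᵥ v)] j) i := fun i j => rfl
    ext i j
    rw [hL]
    fin_cases j <;> simp [C, Matrix.mul_apply, Fin.sum_univ_three, h3, mul_comm, -Matrix.mulVec_mulVec]
  obtain ⟨C, hC⟩ := key X v hX hv
  obtain ⟨D, hD⟩ := key Y w hY hw
  refine ⟨C * D⁻¹, ?_⟩
  rw [Units.val_mul, ← mul_assoc, hC, mul_assoc, mul_assoc]
  congr 1
  calc !![0, 0, z; 1, 0, 0; 0, 1, 0] * ((D⁻¹ : GL (Fin 3) F) : M3)
      = ((D⁻¹ : GL (Fin 3) F) : M3) * ((D : M3) * !![0, 0, z; 1, 0, 0; 0, 1, 0]) * ((D⁻¹ : GL (Fin 3) F) : M3) := by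
        rw [← mul_assoc ((D⁻¹ : GL (Fin 3) F) : M3), ← Units.val_mul, inv_mul_cancel, Units.val_one, one_mul]
    _ = ((D⁻¹ : GL (Fin 3) F) : M3) * Y := by
        rw [← hD, mul_assoc, mul_assoc, ← Units.val_mul D, mul_inv_cancel, Units.val_one, mul_one]

theorem cyc_of_not_cube {X : M3} {z : F} (hX : X ^ 3 = z • 1) (hz : ∀ c : F, c * c * c ≠ z) {v : Fin 3 → F}
    (hv : v ≠ 0) : Cyc X v := by
  intro a b c h
  have h3 : X *ᵥ (X *ᵥ (X *ᵥ v)) = z • v := by
    rw [Matrix.mulVec_mulVec, Matrix.mulVec_mulVec, ← pow_two, ← pow_succ, hX, Matrix.smul_mulVec, Matrix.one_mulVec]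
  have hne : ∀ s : F, X *ᵥ v ≠ s • v := fun s hs => by
    simp only [hs, Matrix.mulVec_smul, smul_smul] at h3
    exact hz s (smul_left_injective F hv h3)
  by_cases hc : c = 0
  · subst hc
    rw [zero_smul, add_zero] at h
    by_cases hb : b = 0
    · subst hb
      rw [zero_smul, add_zero, smul_eq_zero] at h
      exact ⟨h.resolve_right hv, rfl, rfl⟩
    · refine absurd ?_ (hne (-(b⁻¹ * a)))
      rw [neg_smul, ← smul_smul, eq_neg_of_add_eq_zero_left h, smul_neg, inv_smul_smul₀ hb, neg_neg]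
  exfalso
  have h2 : X *ᵥ (X *ᵥ v) = (-(c⁻¹ * a)) • v + (-(c⁻¹ * b)) • (X *ᵥ v) := by
    rw [← inv_smul_smul₀ hc (X *ᵥ (X *ᵥ v)), eq_neg_of_add_eq_zero_right h]
    module
  rw [h2, Matrix.mulVec_add, Matrix.mulVec_smul, Matrix.mulVec_smul, h2] at h3
  generalize -(c⁻¹ * a) = A, -(c⁻¹ * b) = B at h2 h3
  have hAB : (A + B * B) • (X *ᵥ v) = (z - B * A) • v := by
    rw [smul_add, smul_smul, smul_smul] at h3
    rw [sub_smul, ← h3, add_smul]; abel
  by_cases h0 : A + B * B = 0
  · rw [h0, zero_smul] at hAB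
    exact hz (-B) (by linear_combination -B * h0 - (smul_eq_zero.1 hAB.symm).resolve_right hv)
  · exact hne ((A + B * B)⁻¹ * (z - B * A)) (by rw [← smul_smul, ← hAB, inv_smul_smul₀ h0])

theorem exists_cyc_one {M : M3} (h3 : (3 : F) ≠ 0) (hM : M ^ 3 = 1) {e : Fin 3 → F} (he : e ≠ 0) (hMe : M *ᵥ e = e)
    (hne : M ≠ 1) (hq : ∀ c : F, c * c + c + 1 = 0 → (M - 1) * (M - c • 1) ≠ 0) : ∃ v, Cyc M v := by
  have hMMM : ∀ w, M *ᵥ (M *ᵥ (M *ᵥ w)) = w := fun w => by
    rw [Matrix.mulVec_mulVec, Matrix.mulVec_mulVec, ← pow_two, ← pow_succ, hM, Matrix.one_mulVec]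
  obtain ⟨u, hu, hind⟩ : ∃ u, (u + M *ᵥ u + M *ᵥ (M *ᵥ u) = 0) ∧
      ∀ a b : F, a • u + b • (M *ᵥ u) = 0 → a = 0 ∧ b = 0 := by
    by_contra hno
    push Not at hno
    have hQ : ∀ w, (M *ᵥ w - w) + M *ᵥ (M *ᵥ w - w) + M *ᵥ (M *ᵥ (M *ᵥ w - w)) = 0 := fun w => by
      simp only [Matrix.mulVec_sub, hMMM]; abel
    have heig : ∀ u, u + M *ᵥ u + M *ᵥ (M *ᵥ u) = 0 → ∃ c : F, M *ᵥ u = c • u := fun u hu => by
      obtain ⟨a, b, hab, hne'⟩ := hno u hu
      by_cases hb : b = 0
      · subst hb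
        rw [zero_smul, add_zero, smul_eq_zero] at hab
        rcases hab with h | h
        · exact absurd rfl (hne' h)
        · exact ⟨0, by rw [h, Matrix.mulVec_zero, smul_zero]⟩
      · exact ⟨-(b⁻¹ * a), by rw [neg_smul, ← smul_smul, eq_neg_of_add_eq_zero_left hab, smul_neg, inv_smul_smul₀ hb, neg_neg]⟩
    obtain ⟨u₀, hu₀, hu00⟩ : ∃ u, u + M *ᵥ u + M *ᵥ (M *ᵥ u) = 0 ∧ u ≠ 0 := by
      by_contra h
      push Not at h
      exact hne (Matrix.toLin'.injective (LinearMap.ext fun w => by simpa using sub_eq_zero.1 (h _ (hQ w))))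
    obtain ⟨c, hc⟩ := heig u₀ hu₀
    have hroot : ∀ (u : Fin 3 → F) (c : F), u ≠ 0 → u + M *ᵥ u + M *ᵥ (M *ᵥ u) = 0 → M *ᵥ u = c • u →
        c * c + c + 1 = 0 := fun u c hu0 hu hc => by
      rw [hc, Matrix.mulVec_smul, hc, smul_smul] at hu
      have : (c * c + c + 1) • u = 0 := by rw [← hu]; module
      exact (smul_eq_zero.1 this).resolve_right hu0
    have hall : ∀ u, u + M *ᵥ u + M *ᵥ (M *ᵥ u) = 0 → M *ᵥ u = c • u := fun u hu => by
      by_cases hu0 : u = 0
      · rw [hu0, Matrix.mulVec_zero, smul_zero]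
      obtain ⟨d, hd⟩ := heig u hu
      obtain ⟨s, hs⟩ := heig (u + u₀) (by
        simp only [Matrix.mulVec_add]
        calc _ = (u + M *ᵥ u + M *ᵥ (M *ᵥ u)) + (u₀ + M *ᵥ u₀ + M *ᵥ (M *ᵥ u₀)) := by abel
          _ = 0 := by rw [hu, hu₀, add_zero])
      rw [Matrix.mulVec_add, hd, hc, smul_add] at hs
      by_cases hds : d = s
      · subst hds
        rw [add_right_inj] at hs
        rw [hd, smul_left_injective F hu00 hs]
      · have hu' : u = ((d - s)⁻¹ * (s - c)) • u₀ := by
          have h' : (d - s) • u = (s - c) • u₀ := by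
            rw [sub_smul, sub_smul, sub_eq_sub_iff_add_eq_add, hs, add_comm]
          rw [← smul_smul, ← h', inv_smul_smul₀ (sub_ne_zero.2 hds)]
        rw [hu', Matrix.mulVec_smul, hc, smul_comm]
    refine hq c (hroot u₀ c hu00 hu₀ hc) (Matrix.toLin'.injective (LinearMap.ext fun w => ?_))
    rw [map_zero, LinearMap.zero_apply, Matrix.toLin'_apply, ← Matrix.mulVec_mulVec]
    have h := hall _ (hQ w)
    simp only [Matrix.sub_mulVec, Matrix.one_mulVec, Matrix.smul_mulVec, Matrix.mulVec_sub, Matrix.mulVec_smul] at h ⊢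
    rw [h, smul_sub]; abel
  refine ⟨e + u, fun a b c h => ?_⟩
  simp only [Matrix.mulVec_add, hMe] at h
  have h' : (a + b + c) • e + ((a - c) • u + (b - c) • (M *ᵥ u)) = 0 := by
    have hu2 : M *ᵥ (M *ᵥ u) = -(u + M *ᵥ u) := eq_neg_of_add_eq_zero_right hu
    rw [hu2] at h
    rw [← h]; module
  have hk : (a - c) • u + (b - c) • (M *ᵥ u) = -((a + b + c) • e) := eq_neg_of_add_eq_zero_right h'
  have hQ0 : ∀ w : Fin 3 → F, w = (a - c) • u + (b - c) • (M *ᵥ u) → w + M *ᵥ w + M *ᵥ (M *ᵥ w) = 0 := fun w hw => by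
    subst hw
    simp only [Matrix.mulVec_add, Matrix.mulVec_smul, hMMM]
    calc _ = (a - c) • (u + M *ᵥ u + M *ᵥ (M *ᵥ u)) + (b - c) • (u + M *ᵥ u + M *ᵥ (M *ᵥ u)) := by module
      _ = 0 := by rw [hu, smul_zero, smul_zero, add_zero]
  have h0 := hQ0 _ hk.symm
  simp only [Matrix.mulVec_neg, Matrix.mulVec_smul, hMe] at h0
  have h00 : (3 * (a + b + c)) • e = 0 := by
    rw [← neg_eq_zero, ← h0]; module
  have habc : a + b + c = 0 := (mul_eq_zero.1 ((smul_eq_zero.1 h00).resolve_right he)).resolve_left h3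
  rw [habc, zero_smul, neg_zero] at hk
  obtain ⟨hac, hbc⟩ := hind _ _ hk
  have hc0 : c = 0 := (mul_eq_zero.1 (show 3 * c = 0 by linear_combination habc - hac - hbc)).resolve_left h3
  exact ⟨by linear_combination hac + hc0, by linear_combination hbc + hc0, hc0⟩

theorem cyc_of_det_one {M : M3} (h3 : (3 : F) ≠ 0) (hM : M ^ 3 = 1) (hdet : M.det = 1) (hns : ∀ s : F, M ≠ s • 1) :
    ∃ v, Cyc M v := by
  have hdeg : M.charpoly.natDegree = 3 := by rw [Matrix.charpoly_natDegree_eq_dim, Fintype.card_fin]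
  have h0 : M.charpoly.coeff 0 = -1 := by
    have := Matrix.det_eq_sign_charpoly_coeff M
    rw [hdet, Fintype.card_fin] at this
    linear_combination this
  have hlead : M.charpoly.coeff 3 = 1 := by
    have := (Matrix.charpoly_monic M).coeff_natDegree; rwa [hdeg] at this
  have hexp := M.charpoly.as_sum_range_C_mul_X_pow
  rw [hdeg] at hexp
  simp only [Finset.sum_range_succ, Finset.sum_range_zero, zero_add, h0, hlead, pow_zero, mul_one, pow_one, map_one,
    one_mul] at hexp
  have hcc : M.charpoly.coeff 1 = 0 ∧ M.charpoly.coeff 2 = 0 := by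
    have hCH := Matrix.aeval_self_charpoly M
    rw [hexp] at hCH
    simp only [map_add, map_mul, Polynomial.aeval_C, Polynomial.aeval_X, map_pow, map_neg, map_one, hM,
      Algebra.algebraMap_eq_smul_one, Algebra.smul_mul_assoc, one_mul] at hCH
    generalize M.charpoly.coeff 1 = A, M.charpoly.coeff 2 = B at hCH ⊢
    have h' : A • M + B • (M ^ 2) = 0 := by rw [← hCH]; abel
    have h'' : A • (1 : M3) + B • M = 0 := by
      have := congrArg (fun X => M ^ 2 * X) h'
      simp only [mul_add, Algebra.mul_smul_comm, mul_zero, ← pow_succ, hM, ← pow_add] at this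
      rwa [show M ^ (2 + 2) = M by rw [show 2 + 2 = 3 + 1 from rfl, pow_succ, hM, one_mul]] at this
    have hB : B = 0 := by
      by_contra hB
      refine hns (-(B⁻¹ * A)) ?_
      rw [neg_smul, ← smul_smul, eq_neg_of_add_eq_zero_left h'', smul_neg, inv_smul_smul₀ hB, neg_neg]
    rw [hB, zero_smul, add_zero, smul_eq_zero] at h''
    exact ⟨h''.resolve_right one_ne_zero, hB⟩
  rw [hcc.1, hcc.2] at hexp
  have hev : ∀ t : F, t * t * t = 1 → ∃ w, w ≠ 0 ∧ M *ᵥ w = t • w := fun t ht => by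
    have h := Matrix.eval_charpoly M t
    rw [hexp] at h
    simp only [Polynomial.eval_add, Polynomial.eval_mul, Polynomial.eval_C, Polynomial.eval_pow, Polynomial.eval_X,
      map_zero, map_neg, map_one, zero_mul, add_zero, Polynomial.eval_neg, Polynomial.eval_one] at h
    rw [show -1 + t ^ 3 = (0 : F) by linear_combination ht] at h
    obtain ⟨w, hw, hw'⟩ := Matrix.exists_mulVec_eq_zero_iff.2 h.symm
    refine ⟨w, hw, ?_⟩
    rw [Matrix.scalar_apply, ← Matrix.smul_one_eq_diagonal, Matrix.sub_mulVec, Matrix.smul_mulVec, Matrix.one_mulVec,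
      sub_eq_zero] at hw'
    exact hw'.symm
  obtain ⟨e, he, hMe⟩ := hev 1 (by ring)
  rw [one_smul] at hMe
  refine exists_cyc_one h3 hM he hMe (fun h => hns 1 (by rw [one_smul]; exact h)) fun c hc h => ?_
  have hc3 : c * c * c = 1 := by linear_combination (c - 1) * hc
  have hc1 : c ≠ 1 := fun h1 => h3 (by rw [h1] at hc; linear_combination hc)
  obtain ⟨w, hw, hMw⟩ := hev (c * c) (by linear_combination (c * c * c + 1) * hc3)
  have h' := congrArg (fun X : M3 => X *ᵥ w) h
  simp only [← Matrix.mulVec_mulVec, Matrix.sub_mulVec, Matrix.one_mulVec, Matrix.smul_mulVec, Matrix.zero_mulVec,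
    hMw, Matrix.mulVec_sub, Matrix.mulVec_smul] at h'
  have h'' : ((c * c - 1) * (c * c - c)) • w = 0 := by rw [← h']; module
  rcases mul_eq_zero.1 ((smul_eq_zero.1 h'').resolve_right hw) with h0 | h0
  · exact hc1 (by linear_combination -c * h0 + hc3)
  · exact hc1 (by linear_combination (c * c) * h0 - (c - 1) * hc3)

variable [Fintype F]

theorem exists_frob {L : Type*} [Field L] [Algebra F L] [FiniteDimensional F L] (hL : Module.finrank F L = 3)
    (ι : L →ₐ[F] M3) (φ : L ≃ₗ[F] (Fin 3 → F)) (hφ : ∀ a b, ι a *ᵥ φ b = φ (a * b))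
    {K : Subalgebra F M3} (hK : ∀ A, A ∈ K ↔ ∃ a, ι a = A) :
    ∃ h : GL (Fin 3) F, h ∈ Cfsg.Geo.subalgebraNormalizer K ∧ h ^ 3 = 1 ∧ h ≠ 1 ∧
      ((3 : F) ≠ 0 → ∃ v, Cyc (h : M3) v) := by
  haveI : Finite L := Module.finite_of_finite F
  haveI : Fintype L := Fintype.ofFinite L
  let s := FiniteField.frobeniusAlgHom F L
  have hs : ∀ a, s a = a ^ Fintype.card F := fun a => rfl
  have hs3 : ∀ a, s (s (s a)) = a := fun a => by
    simp only [hs, ← pow_mul]
    conv_rhs => rw [← FiniteField.pow_card a, Module.card_eq_pow_finrank (K := F) (V := L), hL]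
    ring_nf
  let A : M3 := LinearMap.toMatrix' (φ.toLinearMap ∘ₗ s.toLinearMap ∘ₗ φ.symm.toLinearMap)
  have hA : ∀ a, A *ᵥ φ a = φ (s a) := fun a => by
    rw [LinearMap.toMatrix'_mulVec]; simp
  have hext : ∀ X Y : M3, (∀ a, X *ᵥ φ a = Y *ᵥ φ a) → X = Y := fun X Y h =>
    Matrix.toLin'.injective (LinearMap.ext fun w => by
      obtain ⟨a, rfl⟩ := φ.surjective w; simpa using h a)
  have hA3 : A ^ 3 = 1 := hext _ _ fun a => by
    rw [pow_succ, pow_two, ← Matrix.mulVec_mulVec, hA, ← Matrix.mulVec_mulVec, hA, hA, hs3, Matrix.one_mulVec]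
  let h : GL (Fin 3) F := ⟨A, A * A, by rw [← hA3]; simp [pow_succ, mul_assoc], by rw [← hA3]; simp [pow_succ, mul_assoc]⟩
  have hconj : ∀ k, A * ι k * (A * A) = ι (s k) := fun k => hext _ _ fun a => by
    simp only [← Matrix.mulVec_mulVec, hA, hφ, map_mul, hs3]
  have hmin := FiniteField.minpoly_frobeniusAlgHom F L
  have hlow : ∀ p : Polynomial F, p.degree < 3 → p ≠ 0 → (Polynomial.aeval s.toLinearMap) p ≠ 0 := by
    intro p hp hp0 h
    have := minpoly.degree_le_of_ne_zero F s.toLinearMap hp0 h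
    rw [hmin, hL, ← map_one (Polynomial.C (R := F)), Polynomial.degree_X_pow_sub_C (by norm_num)] at this
    exact absurd (this.trans_lt hp) (lt_irrefl _)
  have hA1 : A ≠ 1 := fun hA1 => hlow (Polynomial.X - Polynomial.C 1)
    (by rw [Polynomial.degree_X_sub_C]; norm_num) (Polynomial.X_sub_C_ne_zero 1) (LinearMap.ext fun a => by
      have := hA a
      rw [hA1, Matrix.one_mulVec, φ.injective.eq_iff] at this
      simp [← this])
  refine ⟨h, fun k => ⟨fun hk => ?_, fun hk => ?_⟩, Units.ext (by rw [Units.val_pow_eq_pow_val]; exact hA3),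
    fun h1 => hA1 (congrArg Units.val h1), fun h3 => ?_⟩
  · obtain ⟨a, rfl⟩ := (hK k).1 hk
    exact (hK _).2 ⟨s a, (hconj a).symm⟩
  · obtain ⟨a, ha⟩ := (hK _).1 hk
    refine (hK k).2 ⟨s (s a), ?_⟩
    change ι a = A * k * (A * A) at ha
    rw [← hconj, ← hconj, ha]
    have e : A * (A * A) = 1 := by rw [← hA3]; simp [pow_succ, mul_assoc]
    have e' : (A * A) * A = 1 := by rw [mul_assoc, e]
    calc A * (A * (A * k * (A * A)) * (A * A)) * (A * A)
        = (A * (A * A)) * k * ((A * A * A) * (A * A * A)) := by simp only [mul_assoc]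
      _ = k := by rw [e, e', one_mul, one_mul, mul_one]
  · refine exists_cyc_one h3 hA3 (e := φ 1) (by simp) (by rw [hA, map_one]) hA1 fun c _ hc => ?_
    refine hlow (Polynomial.C 1 * Polynomial.X ^ 2 + Polynomial.C (-(1 + c)) * Polynomial.X + Polynomial.C c) ?_ ?_
      (LinearMap.ext fun a => φ.injective ?_)
    · exact Polynomial.degree_quadratic_le.trans_lt (by norm_num)
    · intro h0
      have := congrArg (fun p => Polynomial.coeff p 2) h0
      simp only [Polynomial.coeff_add, Polynomial.coeff_C_mul, Polynomial.coeff_X_pow, Polynomial.coeff_X, Polynomial.coeff_C, Polynomial.coeff_zero] at this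
      norm_num at this
    · have h' := congrArg (fun X : M3 => X *ᵥ φ a) hc
      have hh : (h : M3) = A := rfl
      simp only [← Matrix.mulVec_mulVec, Matrix.sub_mulVec, Matrix.one_mulVec, Matrix.smul_mulVec,
        Matrix.zero_mulVec, hh, hA, Matrix.mulVec_sub, Matrix.mulVec_smul] at h'
      simp only [map_add, map_sub, map_mul, map_pow, pow_two, map_one, map_neg, one_mul, add_smul, one_smul, LinearMap.neg_apply, Module.End.one_apply, Polynomial.aeval_X, Polynomial.aeval_C, LinearMap.add_apply,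
        LinearMap.sub_apply, Module.End.mul_apply, Module.algebraMap_end_apply, AlgHom.toLinearMap_apply,
        LinearMap.zero_apply, map_smul, map_zero]
      rw [← h']; module

theorem card_sl_three_not_dvd {q : ℕ} (hq : Fintype.card F = q) (h : q % 9 = 2 ∨ q % 9 = 5) :
    ¬ 9 ∣ Nat.card (Matrix.SpecialLinearGroup (Fin 3) F) := by
  intro h9
  have h1 := CfsgLib.Classical.card_sl_mul (F := F) (n := 3) (by norm_num)
  rw [hq, Fin.prod_univ_three] at h1
  have h2 : 9 ∣ (q ^ 3 - q ^ ((0 : Fin 3) : ℕ)) * (q ^ 3 - q ^ ((1 : Fin 3) : ℕ)) * (q ^ 3 - q ^ ((2 : Fin 3) : ℕ)) :=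
    h1 ▸ h9.mul_left _
  rw [← ZMod.natCast_eq_zero_iff] at h2
  have hq1 : 1 ≤ q := hq ▸ Fintype.card_pos
  simp only [Fin.val_zero, Fin.val_one, Fin.val_two, pow_zero, pow_one] at h2
  rw [Nat.cast_mul, Nat.cast_mul, Nat.cast_sub (Nat.one_le_pow _ _ hq1), Nat.cast_sub (Nat.le_self_pow (by norm_num) _),
    Nat.cast_sub (Nat.pow_le_pow_right hq1 (by norm_num)), Nat.cast_pow, Nat.cast_pow, Nat.cast_one,
    ← ZMod.natCast_mod q 9] at h2
  rcases h with h | h <;> rw [h] at h2 <;> revert h2 <;> decide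

end

/-- Elements of order 3 of PSL_3(q) and the normalizer of a Singer cycle. Here `T = PSL_n(F)` for a field `F` with `q = p^f` elements (`n ≥ 2`, `(n, q) ≠ (2, 2), (2, 3)`), `k` is a prime dividing `n`, `K` is a subalgebra of the `n × n` matrices that is a field of degree `k` over `F` (an extension-field structure F_{q^k} on `F^n`), and `H` is the subgroup of matrices of determinant 1 normalizing `K` — a subgroup of type GL_{n/k}(q^k) (maximal except in some small cases; maximality is not assumed); Ω is the set of cosets of `H` in `T`, so an element of `T` of prime order `r` (a matrix `x` of determinant 1 with `x^r` scalar, `x` not scalar) fixes a point of Ω when some conjugate of `x` by a matrix of determinant 1 normalizes `K`. Take `n = k = 3` and suppose 3 divides the index of `H`. Then every element of `T` of order 3 is conjugate in `T` into `H` if and only if `q ≡ 4, 7` or `8 (mod 9)`. -/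
theorem result {F : Type*} [Field F] [Fintype F] {p : ℕ} [Fact p.Prime] [CharP F p] {q : ℕ} (hq : Fintype.card F = q)
    (n : ℕ) (hn : n = 3) (k : ℕ) (hk : k.Prime) (hkn : k ∣ n) (K : Subalgebra F (Matrix (Fin n) (Fin n) F)) (hK : Cfsg.Geo.IsFieldSubalgebra k K) (hk3 : k = 3) (hΩ : 3 ∣ ((Cfsg.Geo.subalgebraNormalizer K).comap (Matrix.SpecialLinearGroup.toGL : Matrix.SpecialLinearGroup (Fin n) F →* GL (Fin n) F)).index) :
    (∀ x : Matrix.SpecialLinearGroup (Fin n) F,
      (∃ z : F, ((x ^ 3 : Matrix.SpecialLinearGroup (Fin n) F) : Matrix (Fin n) (Fin n) F) = z • (1 : Matrix (Fin n) (Fin n) F)) →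
      (∀ z : F, (x : Matrix (Fin n) (Fin n) F) ≠ z • (1 : Matrix (Fin n) (Fin n) F)) →
      ∃ P : Matrix.SpecialLinearGroup (Fin n) F, P⁻¹ * x * P ∈ ((Cfsg.Geo.subalgebraNormalizer K).comap (Matrix.SpecialLinearGroup.toGL : Matrix.SpecialLinearGroup (Fin n) F →* GL (Fin n) F))) ↔
    (q % 9 = 4 ∨ q % 9 = 7 ∨ q % 9 = 8) := by
  subst hk3 hn hq
  classical
  obtain ⟨L, _, _, _, ι, φ, hL, hKι, hφ⟩ := exists_model hK
  obtain ⟨h, hhN, hh3, hh1, hhc⟩ := exists_frob hL ι φ hφ hKι
  haveI : Finite L := Module.finite_of_finite F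
  haveI : Fintype L := Fintype.ofFinite L
  have h3iff : (3 : F) ≠ 0 ↔ ¬ 3 ∣ Fintype.card F := by
    obtain ⟨m, -, hm⟩ := FiniteField.card F p
    rw [hm]
    constructor
    · intro h3 hd
      have := (Nat.prime_dvd_prime_iff_eq Nat.prime_three Fact.out).1 (Nat.prime_three.dvd_of_dvd_pow hd)
      subst this
      exact h3 (by exact_mod_cast CharP.cast_eq_zero F 3)
    · intro hnd h3
      exact hnd (((Nat.prime_dvd_prime_iff_eq Fact.out Nat.prime_three).1
        ((CharP.cast_eq_zero_iff F p 3).1 (by exact_mod_cast h3))) ▸ dvd_pow_self _ m.2.ne')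
  constructor
  · intro hall
    by_contra hno
    have hbad : ∀ (x : Matrix.SpecialLinearGroup (Fin 3) F) (a : F) (u f : Fin 3 → F), a ≠ 0 → u ≠ 0 → f ≠ 0 →
        (x : Matrix (Fin 3) (Fin 3) F) = a • 1 + Matrix.vecMulVec u f →
        (∃ z : F, (x : Matrix (Fin 3) (Fin 3) F) ^ 3 = z • 1) → False := by
      intro x a u f ha hu hf hx hz
      obtain ⟨P, hP⟩ := hall x (by simpa only [Matrix.SpecialLinearGroup.coe_pow] using hz) fun z hz => by
        rw [hx] at hz
        have hvm : Matrix.vecMulVec u f = (z - a) • (1 : Matrix (Fin 3) (Fin 3) F) := by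
          rw [sub_smul, ← hz, add_sub_cancel_left]
        obtain ⟨i, hi⟩ := Function.ne_iff.1 hu
        obtain ⟨j, hj⟩ := Function.ne_iff.1 hf
        by_cases hij : i = j
        · obtain ⟨l, hl⟩ := exists_ne i
          have h1 := congrFun (congrFun hvm i) l
          have h2 := congrFun (congrFun hvm l) l
          have h3 := congrFun (congrFun hvm i) i
          simp [Matrix.vecMulVec_apply, hl.symm] at h1 h2 h3
          rcases h1 with h1 | h1
          · exact hi h1
          · rw [h1, mul_zero] at h2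
            rw [← h2] at h3
            subst hij
            exact mul_ne_zero hi hj h3
        · have h1 := congrFun (congrFun hvm i) j
          simp [Matrix.vecMulVec_apply, hij] at h1
          rcases h1 with h1 | h1
          · exact hi h1
          · exact hj h1
      have hPP : ((P⁻¹ : Matrix.SpecialLinearGroup (Fin 3) F) : Matrix (Fin 3) (Fin 3) F) *
          (P : Matrix (Fin 3) (Fin 3) F) = 1 := by
        rw [← Matrix.SpecialLinearGroup.coe_mul, inv_mul_cancel, Matrix.SpecialLinearGroup.coe_one]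
      have hPP' : (P : Matrix (Fin 3) (Fin 3) F) *
          ((P⁻¹ : Matrix.SpecialLinearGroup (Fin 3) F) : Matrix (Fin 3) (Fin 3) F) = 1 := by
        rw [← Matrix.SpecialLinearGroup.coe_mul, mul_inv_cancel, Matrix.SpecialLinearGroup.coe_one]
      refine not_rank_one hφ hKι _ hP ha
        (u := ((P⁻¹ : Matrix.SpecialLinearGroup (Fin 3) F) : Matrix (Fin 3) (Fin 3) F) *ᵥ u)
        (f := f ᵥ* (P : Matrix (Fin 3) (Fin 3) F)) (fun h0 => hu ?_) (fun h0 => hf ?_) ?_
      · have := congrArg (fun v => (P : Matrix (Fin 3) (Fin 3) F) *ᵥ v) h0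
        simpa only [Matrix.mulVec_mulVec, hPP', Matrix.one_mulVec, Matrix.mulVec_zero] using this
      · have := congrArg (fun v => v ᵥ* ((P⁻¹ : Matrix.SpecialLinearGroup (Fin 3) F) : Matrix (Fin 3) (Fin 3) F)) h0
        simpa only [Matrix.vecMul_vecMul, hPP', Matrix.vecMul_one, Matrix.zero_vecMul] using this
      · show ((P⁻¹ * x * P : Matrix.SpecialLinearGroup (Fin 3) F) : Matrix (Fin 3) (Fin 3) F) = _
        rw [Matrix.SpecialLinearGroup.coe_mul, Matrix.SpecialLinearGroup.coe_mul, hx, mul_add, add_mul,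
          Algebra.mul_smul_comm, mul_one, Algebra.smul_mul_assoc, hPP, Matrix.mul_vecMulVec, Matrix.vecMulVec_mul]
    by_cases h3 : (3 : F) = 0
    · let T : Matrix (Fin 3) (Fin 3) F := Matrix.transvection 0 1 1
      have hT : T.det = 1 := Matrix.det_transvection_of_ne _ _ (by decide) _
      refine hbad ⟨T, hT⟩ 1 (Pi.single 0 1) (Pi.single 1 1) one_ne_zero (by simp) (by simp) ?_ ⟨1, ?_⟩
      · show T = _
        ext i j; fin_cases i <;> fin_cases j <;> simp [T, Matrix.transvection, Matrix.vecMulVec_apply]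
      · show T ^ 3 = _
        rw [pow_succ, pow_two, Matrix.transvection_mul_transvection_same _ _ (by decide),
          Matrix.transvection_mul_transvection_same _ _ (by decide), show (1 : F) + 1 + 1 = 3 by ring, h3,
          Matrix.transvection_zero, one_smul]
    have hnd := h3iff.1 h3
    by_cases h9 : Fintype.card F % 9 = 1
    · obtain ⟨g, hg⟩ := IsCyclic.exists_generator (α := Fˣ)
      have hord : orderOf g = Fintype.card F - 1 := by
        rw [orderOf_eq_card_of_forall_mem_zpowers hg, Nat.card_units, Nat.card_eq_fintype_card]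
      have hq1 : 9 ∣ Fintype.card F - 1 := by omega
      have hζ : orderOf (g ^ ((Fintype.card F - 1) / 9)) = 9 := by
        rw [← hord, orderOf_pow_orderOf_div (by rw [hord]; have := Fintype.one_lt_card (α := F); omega) (hord ▸ hq1)]
      set ζ : Fˣ := g ^ ((Fintype.card F - 1) / 9)
      have h9' : (ζ : F) ^ 9 = 1 := by rw [← Units.val_pow_eq_pow_val, ← hζ, pow_orderOf_eq_one, Units.val_one]
      have h6 : (ζ : F) ^ 6 ≠ 1 := fun h6 => by
        have := Nat.le_of_dvd (by norm_num) (orderOf_dvd_of_pow_eq_one (x := ζ) (n := 6) (Units.ext (by simpa using h6)))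
        omega
      let D : Matrix (Fin 3) (Fin 3) F := Matrix.diagonal ![(ζ : F), (ζ : F), (ζ : F) ^ 7]
      have hD : D.det = 1 := by
        rw [Matrix.det_diagonal, Fin.prod_univ_three]
        show (ζ : F) * ζ * ζ ^ 7 = 1
        linear_combination h9'
      refine hbad ⟨D, hD⟩ ζ (Pi.single 2 1) (Pi.single 2 ((ζ : F) ^ 7 - ζ)) ζ.ne_zero (by simp)
        (fun h0 => ?_) ?_ ⟨(ζ : F) ^ 3, ?_⟩
      · have h0' := congrFun h0 2
        simp only [Pi.single_eq_same, Pi.zero_apply] at h0'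
        exact h6 (mul_left_cancel₀ ζ.ne_zero (by linear_combination h0'))
      · show D = _
        ext i j; fin_cases i <;> fin_cases j <;> simp [D, Matrix.vecMulVec_apply]
      · show D ^ 3 = _
        rw [Matrix.diagonal_pow, Matrix.smul_one_eq_diagonal]
        congr 1
        funext i
        fin_cases i <;> simp
        linear_combination ((ζ : F) ^ 3 * ((ζ : F) ^ 9 + 1)) * h9'
    · have h2 : Fintype.card F % 9 = 2 ∨ Fintype.card F % 9 = 5 := by omega
      haveI : Fact (Nat.Prime 3) := ⟨Nat.prime_three⟩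
      have hdet : Matrix.GeneralLinearGroup.det h = 1 := by
        rw [← orderOf_eq_one_iff]
        have hd3 : orderOf (Matrix.GeneralLinearGroup.det h) ∣ 3 :=
          orderOf_dvd_of_pow_eq_one (by rw [← map_pow, hh3, map_one])
        have hdq : orderOf (Matrix.GeneralLinearGroup.det h) ∣ Fintype.card F - 1 := by
          rw [← Fintype.card_units]; exact orderOf_dvd_card
        rcases (Nat.dvd_prime Nat.prime_three).1 hd3 with h1 | h1
        · exact h1
        · rw [h1] at hdq; omega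
      let h₀ : Matrix.SpecialLinearGroup (Fin 3) F := ⟨h, by simpa using congrArg Units.val hdet⟩
      have hmem : h₀ ∈ ((Cfsg.Geo.subalgebraNormalizer K).comap (Matrix.SpecialLinearGroup.toGL :
          Matrix.SpecialLinearGroup (Fin 3) F →* GL (Fin 3) F)) := by
        rw [Subgroup.mem_comap, show Matrix.SpecialLinearGroup.toGL h₀ = h from Units.ext rfl]; exact hhN
      have ho : orderOf h₀ = 3 := orderOf_eq_prime
        (Subtype.ext (by rw [Matrix.SpecialLinearGroup.coe_pow]; exact congrArg Units.val hh3))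
        fun h1 => hh1 (Units.ext (congrArg Subtype.val h1))
      have hd : 3 ∣ Nat.card ((Cfsg.Geo.subalgebraNormalizer K).comap (Matrix.SpecialLinearGroup.toGL :
          Matrix.SpecialLinearGroup (Fin 3) F →* GL (Fin 3) F)) := by
        have := orderOf_dvd_natCard (⟨h₀, hmem⟩ : ↥((Cfsg.Geo.subalgebraNormalizer K).comap
          (Matrix.SpecialLinearGroup.toGL : Matrix.SpecialLinearGroup (Fin 3) F →* GL (Fin 3) F)))
        rwa [Subgroup.orderOf_mk, ho] at this
      refine card_sl_three_not_dvd rfl h2 ?_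
      rw [← Subgroup.index_mul_card ((Cfsg.Geo.subalgebraNormalizer K).comap (Matrix.SpecialLinearGroup.toGL :
          Matrix.SpecialLinearGroup (Fin 3) F →* GL (Fin 3) F))]
      exact Nat.mul_dvd_mul hΩ hd
  · intro hq x ⟨z, hz⟩ hns
    have h3 : (3 : F) ≠ 0 := h3iff.2 (by omega)
    rw [Matrix.SpecialLinearGroup.coe_pow] at hz
    have hz3 : z * z * z = 1 := by
      have := congrArg Matrix.det hz
      rw [Matrix.det_pow, x.2, one_pow, Matrix.det_smul, Matrix.det_one, Fintype.card_fin, mul_one] at this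
      linear_combination -this
    suffices hs : ∃ g : GL (Fin 3) F, g⁻¹ * Matrix.SpecialLinearGroup.toGL x * g ∈ Cfsg.Geo.subalgebraNormalizer K by
      obtain ⟨g, hg⟩ := hs
      obtain ⟨a, ha⟩ := FiniteField.norm_surjective F L ((g : Matrix (Fin 3) (Fin 3) F).det)⁻¹
      have hda : (ι a).det = Algebra.norm F a := by
        rw [← LinearMap.det_toLin', Algebra.norm_apply,
          ← LinearMap.det_conj (Algebra.lmul F L a) φ]
        congr 1
        refine LinearMap.ext fun w => ?_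
        obtain ⟨b, rfl⟩ := φ.surjective w
        simp [hφ]
      have hga : ((g : Matrix (Fin 3) (Fin 3) F) * ι a).det = 1 := by
        rw [Matrix.det_mul, hda, ha, mul_inv_cancel₀ (Matrix.isUnit_iff_isUnit_det _ |>.1 g.isUnit).ne_zero]
      have ha0 : a ≠ 0 := fun h0 => by rw [h0, map_zero, mul_zero, Matrix.det_zero] at hga; exact zero_ne_one hga
      let k : GL (Fin 3) F := Units.map ι.toMonoidHom (Units.mk0 a ha0)
      have hkN : k ∈ Cfsg.Geo.subalgebraNormalizer K := by
        intro A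
        show A ∈ K ↔ ι a * A * ((Units.map ι.toMonoidHom (Units.mk0 a ha0))⁻¹ : GL (Fin 3) F) ∈ K
        have hinv : (((Units.map ι.toMonoidHom (Units.mk0 a ha0))⁻¹ : GL (Fin 3) F) : Matrix (Fin 3) (Fin 3) F) = ι a⁻¹ := rfl
        rw [hinv]
        constructor
        · intro hA
          obtain ⟨b, rfl⟩ := (hKι A).1 hA
          exact (hKι _).2 ⟨a * b * a⁻¹, by rw [map_mul, map_mul]⟩
        · intro hA
          obtain ⟨b, hb⟩ := (hKι _).1 hA
          refine (hKι A).2 ⟨a⁻¹ * b * a, ?_⟩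
          rw [map_mul, map_mul, hb, mul_assoc, mul_assoc, ← map_mul ι a⁻¹ a, inv_mul_cancel₀ ha0, map_one, mul_one,
            ← mul_assoc, ← map_mul, inv_mul_cancel₀ ha0, map_one, one_mul]
      obtain ⟨P, hP⟩ : ∃ P : Matrix.SpecialLinearGroup (Fin 3) F, Matrix.SpecialLinearGroup.toGL P = g * k :=
        ⟨⟨_, hga⟩, Units.ext rfl⟩
      refine ⟨P, ?_⟩
      rw [Subgroup.mem_comap, map_mul, map_mul, map_inv, hP]
      have : (g * k)⁻¹ * Matrix.SpecialLinearGroup.toGL x * (g * k) =
          k⁻¹ * (g⁻¹ * Matrix.SpecialLinearGroup.toGL x * g) * k := by group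
      rw [this]
      exact mul_mem (mul_mem (inv_mem hkN) hg) hkN
    have hfin : ∀ (T : GL (Fin 3) F) (g : GL (Fin 3) F), T ∈ Cfsg.Geo.subalgebraNormalizer K →
        (x : Matrix (Fin 3) (Fin 3) F) * (g : Matrix (Fin 3) (Fin 3) F) = (g : Matrix (Fin 3) (Fin 3) F) * T →
        ∃ g : GL (Fin 3) F, g⁻¹ * Matrix.SpecialLinearGroup.toGL x * g ∈ Cfsg.Geo.subalgebraNormalizer K := by
      intro T g hT he
      refine ⟨g, ?_⟩
      rwa [mul_assoc, show Matrix.SpecialLinearGroup.toGL x * g = g * T from Units.ext he, inv_mul_cancel_left]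
    by_cases hz1 : z = 1
    · subst hz1
      rw [one_smul] at hz
      obtain ⟨v, hv⟩ := cyc_of_det_one h3 hz x.2 hns
      obtain ⟨w, hw⟩ := hhc h3
      obtain ⟨g, hg⟩ := exists_conj_cyc (z := (1 : F)) (by rw [hz, one_smul])
        (by rw [one_smul, ← Units.val_pow_eq_pow_val, hh3, Units.val_one]) hv hw
      exact hfin h g hhN hg
    · have hzq : 3 ∣ Fintype.card F - 1 := by
        haveI : Fact (Nat.Prime 3) := ⟨Nat.prime_three⟩
        have hz0 : z ≠ 0 := fun h0 => by rw [h0] at hz3; simp at hz3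
        rw [← Fintype.card_units, ← orderOf_eq_prime (x := Units.mk0 z hz0) (p := 3)
          (Units.ext (by rw [Units.val_pow_eq_pow_val, Units.val_mk0, Units.val_one]; linear_combination hz3))
          (fun h1 => hz1 (congrArg Units.val h1))]
        exact orderOf_dvd_card
      haveI : Fact (Nat.Prime 3) := ⟨Nat.prime_three⟩
      have hnc : ∀ c : F, c * c * c ≠ z := by
        intro c hc
        have hc0 : c ≠ 0 := fun h0 => by rw [h0] at hc; rw [← hc] at hz3; simp at hz3
        have hord : orderOf (Units.mk0 c hc0) = 3 ^ (1 + 1) := orderOf_eq_prime_pow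
          (fun h1 => hz1 (by
            have := congrArg Units.val h1
            simp at this; linear_combination this - hc))
          (Units.ext (by rw [Units.val_pow_eq_pow_val, Units.val_mk0, Units.val_one, ← hz3, ← hc]; ring))
        have := orderOf_dvd_card (x := Units.mk0 c hc0)
        rw [hord, Fintype.card_units] at this
        omega
      have hLcard : Fintype.card L = Fintype.card F ^ 3 := by rw [Module.card_eq_pow_finrank (K := F) (V := L), hL]
      obtain ⟨k, hk⟩ : ∃ k : L, k ^ 3 = algebraMap F L z := by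
        obtain ⟨g, hg⟩ := IsCyclic.exists_generator (α := Lˣ)
        have hz0 : algebraMap F L z ≠ 0 := by
          simp only [ne_eq, map_eq_zero]; intro h0; rw [h0] at hz3; simp at hz3
        obtain ⟨m, hm⟩ := (mem_powers_iff_mem_zpowers).2 (hg (Units.mk0 _ hz0))
        simp only at hm
        have h9 : 9 ∣ Fintype.card Lˣ := by
          rw [Fintype.card_units, hLcard, ← Nat.modEq_zero_iff_dvd, Nat.ModEq]
          have hq1 : 1 ≤ Fintype.card F ^ 3 := Nat.one_le_pow _ _ Fintype.card_pos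
          have : Fintype.card F ^ 3 % 9 = 1 := by
            rw [Nat.pow_mod]; rcases hq with h | h | h <;> rw [h] <;> omega
          omega
        have hgo : orderOf g = Fintype.card Lˣ := by
          rw [orderOf_eq_card_of_forall_mem_zpowers hg, Nat.card_eq_fintype_card]
        have hm3 : orderOf g ∣ m * 3 := by
          refine orderOf_dvd_of_pow_eq_one ?_
          rw [pow_mul, hm]
          refine Units.ext ?_
          rw [Units.val_pow_eq_pow_val, Units.val_mk0, ← map_pow, show z ^ 3 = 1 by linear_combination hz3, map_one, Units.val_one]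
        obtain ⟨l, hl⟩ : 3 ∣ m := by
          have := (h9.trans (hgo ▸ hm3))
          omega
        exact ⟨((g ^ l : Lˣ) : L), by rw [← Units.val_pow_eq_pow_val, ← pow_mul, mul_comm, ← hl, hm, Units.val_mk0]⟩
      have hι3 : ι k ^ 3 = z • 1 := by rw [← map_pow, hk, AlgHom.commutes, Algebra.algebraMap_eq_smul_one]
      obtain ⟨g, hg⟩ := exists_conj_cyc hz hι3 (cyc_of_not_cube hz hnc (v := Pi.single 0 1) (by simp))
        (cyc_of_not_cube hι3 hnc (v := Pi.single 0 1) (by simp))
      have hk0 : k ≠ 0 := fun h0 => by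
        rw [h0, zero_pow (by norm_num), eq_comm, map_eq_zero] at hk; rw [hk] at hz3; simp at hz3
      refine hfin (Units.map ι.toMonoidHom (Units.mk0 k hk0)) g ?_ hg
      intro A
      have hinv : (((Units.map ι.toMonoidHom (Units.mk0 k hk0))⁻¹ : GL (Fin 3) F) : Matrix (Fin 3) (Fin 3) F) = ι k⁻¹ := rfl
      rw [hinv]
      show A ∈ K ↔ ι k * A * ι k⁻¹ ∈ K
      constructor
      · intro hA
        obtain ⟨b, rfl⟩ := (hKι A).1 hA
        exact (hKι _).2 ⟨k * b * k⁻¹, by rw [map_mul, map_mul]⟩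
      · intro hA
        obtain ⟨b, hb⟩ := (hKι _).1 hA
        refine (hKι A).2 ⟨k⁻¹ * b * k, ?_⟩
        rw [map_mul, map_mul, hb, mul_assoc, mul_assoc, ← map_mul ι k⁻¹ k, inv_mul_cancel₀ hk0, map_one, mul_one,
          ← mul_assoc, ← map_mul, inv_mul_cancel₀ hk0, map_one, one_mul]


end Cfsg.Agent.S5971
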