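import Cfsg.Statements.S5972
import Cfsg.Agent.Lib.MaxSub.IsoOrth
import Cfsg.Agent.Lib.MaxSub.IsoOdd
import Cfsg.Agent.Lib.MaxSub.TSCount
import Cfsg.Agent.Lib.MaxSub.OmegaElem
import Cfsg.Agent.Lib.MaxSub.IsoWitness
import Cfsg.Agent.Lib.KnownB.BCSpinor
import Cfsg.Agent.Lib.Geom.PlusType
import Cfsg.Agent.Lib.Classical.SLTwoTori
-- import your own Cfsg.Agent.* helpers here

set_option autoImplicit false
open scoped MatrixGroups
open Cfsg

namespace Cfsg.Agent.S5972

open CfsgLib CfsgLib.MaxSub CfsgLib.MaxSub.IsoSemi CfsgLib.Classical CfsgLib.Geom CfsgLib.KnownC CfsgLib.KnownC.OrthType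
open Polynomial Matrix
open QuadraticMap (polar)

section

universe u
variable {F : Type u} [Field F] [Fintype F] {ι : Type} [Fintype ι] [DecidableEq ι] {Q : QuadraticForm F (ι → F)}
  (hQ : ∀ x, (∀ y, polar Q x y = 0) → x = 0) (h2 : (2 : F) ≠ 0)

include hQ h2 in
/-- The eigenspaces of an isometric involution. -/
theorem eigen_split {T : Module.End F (ι → F)} (hT : ∀ v, Q (T v) = Q v) (hTT : T * T = 1) :
    ∃ P N : Submodule F (ι → F), (∀ x, x ∈ P ↔ T x = x) ∧ (∀ x, x ∈ N ↔ T x = -x) ∧ ND Q.polarBilin P ∧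
      ND Q.polarBilin N ∧ N ≤ perp Q.polarBilin P ∧ P ⊓ N = ⊥ ∧
      Module.finrank F P + Module.finrank F N = Fintype.card ι := by
  have hG := IsoOrth.geom hQ
  obtain ⟨P, hP⟩ : ∃ P, P = LinearMap.ker (T - 1) := ⟨_, rfl⟩
  obtain ⟨N, hN⟩ : ∃ N, N = LinearMap.ker (T + 1) := ⟨_, rfl⟩
  have hPm : ∀ x, x ∈ P ↔ T x = x := fun x => by
    rw [hP, LinearMap.mem_ker, LinearMap.sub_apply, Module.End.one_apply, sub_eq_zero]
  have hNm : ∀ x, x ∈ N ↔ T x = -x := fun x => by
    rw [hN, LinearMap.mem_ker, LinearMap.add_apply, Module.End.one_apply, add_eq_zero_iff_eq_neg]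
  have hTv : ∀ x, T (T x) = x := fun x => LinearMap.congr_fun hTT x
  have hdec : ∀ v, v = (2 : F)⁻¹ • (v + T v) + (2 : F)⁻¹ • (v - T v) := fun v => by
    rw [← smul_add, show v + T v + (v - T v) = (2 : F) • v by rw [two_smul]; abel, smul_smul,
      inv_mul_cancel₀ h2, one_smul]
  have hp : ∀ v, (2 : F)⁻¹ • (v + T v) ∈ P := fun v => P.smul_mem _ ((hPm _).2 (by rw [map_add, hTv, add_comm]))
  have hn : ∀ v, (2 : F)⁻¹ • (v - T v) ∈ N := fun v => N.smul_mem _ ((hNm _).2 (by rw [map_sub, hTv, neg_sub]))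
  have hperp : ∀ x ∈ P, ∀ y ∈ N, Q.polarBilin x y = 0 := fun x hx y hy => by
    have h : polar Q (T x) (T y) = polar Q x y := by simp only [QuadraticMap.polar, ← map_add, hT]
    rw [(hPm x).1 hx, (hNm y).1 hy, QuadraticMap.polar_neg_right] at h
    exact (mul_eq_zero.1 (by linear_combination -h : (2 : F) * polar Q x y = 0)).resolve_left h2
  have hPnd : ND Q.polarBilin P := fun x hx h => hG.sep x fun v => by
    rw [hdec v, map_add, h _ (hp v), hperp x hx _ (hn v), add_zero]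
  have hNnd : ND Q.polarBilin N := fun x hx h => hG.sep x fun v => by
    rw [hdec v, map_add, h _ (hn v), hG.refl _ _ (hperp _ (hp v) x hx), add_zero]
  have hPN : P ⊓ N = ⊥ := (Submodule.eq_bot_iff _).2 fun x ⟨hx, hx'⟩ => hPnd x hx fun v hv =>
    hG.refl _ _ (hperp v hv x hx')
  have hsup : P ⊔ N = ⊤ := eq_top_iff.2 fun v _ => by
    rw [hdec v]; exact Submodule.add_mem_sup (hp v) (hn v)
  refine ⟨P, N, hPm, hNm, hPnd, hNnd, fun y hy x hx => hperp x hx y hy, hPN, ?_⟩
  have h := Submodule.finrank_sup_add_finrank_inf_eq P N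
  rw [hsup, hPN, finrank_top, finrank_bot, Module.finrank_fintype_fun_eq_card, add_zero] at h
  exact h.symm

/-- Combine totally singular subspaces of two eigenspaces. -/
theorem join_eigen {T : Module.End F (ι → F)} {P N W₁ W₂ : Submodule F (ι → F)} (hP : ∀ x, x ∈ P ↔ T x = x)
    (hN : ∀ x, x ∈ N ↔ T x = -x) (hperp : N ≤ perp Q.polarBilin P) (hbot : P ⊓ N = ⊥) (hW₁ : W₁ ≤ P) (hW₂ : W₂ ≤ N)
    (h₁ : ∀ w ∈ W₁, Q w = 0) (h₂ : ∀ w ∈ W₂, Q w = 0) :
    Module.finrank F ↥(W₁ ⊔ W₂) = Module.finrank F W₁ + Module.finrank F W₂ ∧ (∀ w ∈ W₁ ⊔ W₂, Q w = 0) ∧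
      (W₁ ⊔ W₂).map T ≤ W₁ ⊔ W₂ := by
  refine ⟨?_, IsoOrth.ts_sup h₁ h₂ (hW₂.trans (hperp.trans (perp_antitone hW₁))), inv_sup ?_ ?_⟩
  · have h := Submodule.finrank_sup_add_finrank_inf_eq W₁ W₂
    have hb : W₁ ⊓ W₂ = ⊥ := le_bot_iff.1 (hbot ▸ inf_le_inf hW₁ hW₂)
    rw [hb, finrank_bot, add_zero] at h
    exact h
  · rintro _ ⟨w, hw, rfl⟩; rw [(hP w).1 (hW₁ hw)]; exact hw
  · rintro _ ⟨w, hw, rfl⟩; rw [(hN w).1 (hW₂ hw)]; exact W₂.neg_mem hw

end

section

universe u
variable {F : Type u} [Field F] [Fintype F]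

theorem odd_coe (d : ℕ) : Cfsg.quadFormOdd d F = ⇑(qfOdd d F) := funext fun v => (qfOdd_apply d v).symm

/-- For `q ≡ 1 mod 4` the negated space of an involution in `Ω` has maximal index. -/
theorem exists_half (h2 : (2 : F) ≠ 0) (hsq : IsSquare (-1 : F)) {d : ℕ}
    (g : Cfsg.isometryGroup F (⇑(qfOdd d F))) (hg : g ∈ Cfsg.Omega F (⇑(qfOdd d F)))
    (hgg : ∀ v, isoLin g (isoLin g v) = v) {N : Submodule F (Unit ⊕ (Fin d ⊕ Fin d) → F)}
    (hN : ∀ v, v ∈ N ↔ isoLin g v = -v) (hNnd : ND (qfOdd d F).polarBilin N) :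
    ∃ (j : ℕ) (W : Submodule F (Unit ⊕ (Fin d ⊕ Fin d) → F)),
      Module.finrank F N = 2 * j ∧ W ≤ N ∧ (∀ w ∈ W, qfOdd d F w = 0) ∧ Module.finrank F W = j := by
  classical
  let bN := Module.finBasis F N
  let c : Fin (Module.finrank F N) → (Unit ⊕ (Fin d ⊕ Fin d) → F) := fun k => (bN k : _)
  have hspan : Submodule.span F (Set.range c) = N := by
    rw [show Set.range c = N.subtype '' Set.range bN from Set.range_comp N.subtype bN, Submodule.span_image,
      bN.span_eq, Submodule.map_subtype_top]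
  have hdet : (Matrix.of fun i j => polar (qfOdd d F) (c i) (c j)).det ≠ 0 := fun h0 => by
    obtain ⟨a, ha, hMa⟩ := Matrix.exists_mulVec_eq_zero_iff.2 h0
    refine ha ?_
    have hw : (∑ j, a j • bN j) = 0 := Subtype.ext (hNnd _ (∑ j, a j • bN j : N).2 fun v hv => by
      obtain ⟨b, hb⟩ : ∃ b : Fin (Module.finrank F N) → F, (⟨v, hv⟩ : N) = ∑ i, b i • bN i :=
        ⟨fun i => bN.repr ⟨v, hv⟩ i, (bN.sum_repr _).symm⟩
      rw [show v = ((∑ i, b i • bN i : N) : Unit ⊕ (Fin d ⊕ Fin d) → F) from congrArg Subtype.val hb]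
      simp only [Submodule.coe_sum, Submodule.coe_smul, map_sum, map_smul, LinearMap.sum_apply,
        LinearMap.smul_apply, smul_eq_mul, QuadraticMap.polarBilin_apply_apply]
      refine Finset.sum_eq_zero fun i _ => mul_eq_zero_of_right _ ?_
      have := congrFun hMa i
      simp only [Matrix.mulVec, dotProduct, Matrix.of_apply, Pi.zero_apply] at this
      rw [← this]
      exact Finset.sum_congr rfl fun j _ => by rw [QuadraticMap.polar_comm, mul_comm])
    exact funext fun j => Fintype.linearIndependent_iff.1 bN.linearIndependent a hw j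
  have hsp := KnownB.BC.spinor_involution (qfOdd d F) (qfOdd_sep h2 d) (exGen_of_odd h2) h2 g c hgg
    (fun i => (hN _).1 (bN i).2) (fun v hv => hspan.symm ▸ (hN v).2 hv) hdet
  have hker : spinorHom (qfOdd d F) (qfOdd_sep h2 d) (exGen_of_odd h2) g = 1 := by
    rw [omega_eq_ker_spinorHom (qfOdd d F) (qfOdd_sep h2 d) (exGen_of_odd h2)] at hg
    exact hg
  rw [hsp, Prod.mk_eq_one, ofAdd_eq_one, ZMod.natCast_eq_zero_iff_even, sqClass_eq_one_iff, Fintype.card_fin] at hker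
  obtain ⟨⟨j, hj⟩, hs⟩ := hker
  have hsq' : IsSquare ((-1 : F) ^ j * (LinearMap.toMatrix₂ bN bN
      ((qfOdd d F).comp N.subtype).polarBilin).det) := by
    refine (hsq.pow j).mul ?_
    have hM : LinearMap.toMatrix₂ bN bN ((qfOdd d F).comp N.subtype).polarBilin =
        Matrix.of fun i k => polar (qfOdd d F) (c i) (c k) := by
      ext i k
      simp [LinearMap.toMatrix₂_apply, c, QuadraticMap.polar]
    obtain ⟨s, hs⟩ := hs
    refine ⟨s / 2 ^ j, ?_⟩
    rw [hM, div_mul_div_comm, ← pow_add, ← hj, eq_div_iff (pow_ne_zero _ h2), ← hs, mul_comm]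
  obtain ⟨W, hWd, hW⟩ := exists_totallySingular ((qfOdd d F).comp N.subtype) h2
    (fun x hx => Subtype.ext (hNnd x x.2 fun v hv => by
      have := hx ⟨v, hv⟩
      simpa [QuadraticMap.polar] using this)) (by omega) bN hsq'
  refine ⟨j, W.map N.subtype, by omega, Submodule.map_subtype_le N W, ?_, ?_⟩
  · rintro _ ⟨w, hw, rfl⟩; exact hW w hw
  · rw [← (Submodule.equivMapOfInjective N.subtype N.injective_subtype W).finrank_eq, hWd]

variable {p : ℕ} [Fact p.Prime] [CharP F p] {r : ℕ}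

include p in
/-- An element of `Ω` with prescribed characteristic polynomial. -/
theorem exists_elem [hr : Fact r.Prime] (h2 : (2 : F) ≠ 0) (hr2 : r ≠ 2) (hrp : r ≠ p) {d k : ℕ} (hd : 1 ≤ d)
    (hk : k ≤ d) {f : F[X]} (hf : f ∈ StarCount.polys (SemiPalin.tilde (RingHom.id F)) r (2 * k))
    (h1 : ¬ f.IsRoot 1) :
    ∃ x : GL (Unit ⊕ (Fin d ⊕ Fin d)) F, x ∈ Cfsg.Geo.omegaGL (Cfsg.quadFormOdd d F) ∧ x ^ r = 1 ∧
      (Matrix.toLinAlgEquiv' (x : Matrix (Unit ⊕ (Fin d ⊕ Fin d)) (Unit ⊕ (Fin d ⊕ Fin d)) F)).charpoly =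
        (X - C 1) ^ (2 * d + 1 - 2 * k) * f := by
  obtain ⟨Q₀, A, hQ₀, hA, hAr, hAc⟩ := OrthPrime.exists_model (p := p) hr.out hr2 hrp hf h1
  have hd2 := OrthPrime.finrank_two (F := F) k
  obtain ⟨φ, hφ⟩ : ∃ φ : (Fin k ⊕ Fin k → F) →ₗ[F] (Unit ⊕ (Fin d ⊕ Fin d) → F),
      ∀ v, qfOdd d F (φ v) = Q₀ v := by
    by_cases hp : IsPlus Q₀ k
    · obtain ⟨e, he⟩ := hp
      obtain ⟨ψ, hψ⟩ := embed_plus_odd (F := F) hk
      exact ⟨ψ ∘ₗ e.symm.toLinearMap, fun v => by rw [LinearMap.comp_apply, hψ, ← he]; exact congrArg Q₀ (e.apply_symm_apply v)⟩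
    · obtain ⟨l, hl, hM⟩ := (dichotomy Q₀ hQ₀ hd2).resolve_left hp
      obtain ⟨a, b, hab⟩ : ∃ a b : F, ∀ x y : F, x ^ 2 + a * x * y + b * y ^ 2 = 0 → x = 0 ∧ y = 0 :=
        exists_anisotropic_binary
      obtain ⟨e, he⟩ := hM a b hab
      obtain ⟨ψ, hψ⟩ := embed_minus_odd h2 (show l + 1 ≤ d by omega) a b
      exact ⟨ψ ∘ₗ e.symm.toLinearMap, fun v => by rw [LinearMap.comp_apply, hψ, ← he]; exact congrArg Q₀ (e.apply_symm_apply v)⟩
  obtain ⟨g, hg, hgr, hgc⟩ := OrthPrime.exists_extension (qfOdd d F) Q₀ hQ₀ φ hφ hA hAr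
  obtain ⟨x, hx, hxr, hxv⟩ := OmegaElem.exists_gl (qfOdd d F) (qfOdd_sep h2 d) (exGen_of_odd h2)
    (by simp; omega) hr.out hr2 hg hgr
  refine ⟨x, by rwa [odd_coe], hxr, ?_⟩
  rw [show Matrix.toLinAlgEquiv' (x : Matrix (Unit ⊕ (Fin d ⊕ Fin d)) (Unit ⊕ (Fin d ⊕ Fin d)) F) =
    g.toLinearMap from LinearMap.ext hxv, hgc, hAc, hd2]
  congr 2
  simp
  omega

end

/-- Elements of prime order of Ω_n(q), n = 2d+1 ≥ 7, q odd, with no fixed totally singular `m`-space. Here `T = Ω_n(q)` is realised as the commutator subgroup of the isometry group of the quadratic form `x₀² + Σ xᵢyᵢ` over the field `F` with `q` elements (it has trivial centre, so its elements of prime order `r` are used directly); let `1 ≤ m ≤ d` and let `r` be a prime dividing the number of totally singular `m`-spaces. For `r ≠ p` let `i` be the multiplicative order of `q` modulo `r`, `c = i` for `i` even and `c = 2i` for `i` odd, and write `k = n mod c`, `ℓ = m mod i`, `n' = ⌊n/i⌋`,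 `m' = ⌊m/i⌋`, `t = (r−1)/i`. Then every element of `T` of order `r` fixes some totally singular `m`-space if and only if either (i) `r = 2` and (`m < (n−1)/2` or `q ≡ 1 (mod 4)`); or (ii) `r ≠ p` is odd, `i ≤ m`, `k > 2ℓ`, and (`i` is odd or `n' − 2m' ≥ t`). -/
theorem result {F : Type*} [Field F] [Fintype F] {p : ℕ} [Fact p.Prime] [CharP F p] {q : ℕ} (hq : Fintype.card F = q) (hqodd : Odd q)
    (d m : ℕ) (hd : 3 ≤ d) (hm : 1 ≤ m) (hmd : m ≤ d)
    (r : ℕ) [Fact r.Prime]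
    (hrΩ : r ∣ Nat.card {W : Submodule F (Unit ⊕ (Fin d ⊕ Fin d) → F) // Module.finrank F ↥W = m ∧ (∀ w ∈ W, Cfsg.quadFormOdd d F w = 0)})
    (i c : ℕ) (hi : i = orderOf (q : ZMod r)) (hc : c = if Even i then i else 2 * i) :
    (∀ x : GL (Unit ⊕ (Fin d ⊕ Fin d)) F, x ∈ Cfsg.Geo.omegaGL (Cfsg.quadFormOdd d F) → orderOf x = r →
      ∃ W : Submodule F (Unit ⊕ (Fin d ⊕ Fin d) → F), Module.finrank F ↥W = m ∧ (∀ w ∈ W, Cfsg.quadFormOdd d F w = 0) ∧
        W.map (Matrix.toLin' (x : Matrix (Unit ⊕ (Fin d ⊕ Fin d)) (Unit ⊕ (Fin d ⊕ Fin d)) F)) ≤ W) ↔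
    ((r = 2 ∧ (m < d ∨ q % 4 = 1)) ∨
     (r ≠ p ∧ 2 < r ∧ i ≤ m ∧ 2 * (m % i) < (2 * d + 1) % c ∧ (Odd i ∨ (r - 1) / i + 2 * (m / i) ≤ (2 * d + 1) / i))) := by
  classical
  subst hq
  have hr : r.Prime := Fact.out
  have hp2 : p ≠ 2 := fun hp => by
    subst hp
    obtain ⟨f, -, hf⟩ := FiniteField.card F 2
    rw [hf, Nat.odd_pow_iff f.ne_zero] at hqodd
    exact absurd hqodd (by decide)
  have hchar : ringChar F ≠ 2 := by rwa [ringChar.eq F p]
  have h2 : (2 : F) ≠ 0 := Ring.two_ne_zero hchar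
  obtain ⟨hrp, j, hjm, hjr⟩ := TSCount.dvd_count_odd (p := p) h2 hmd hrΩ
  have hrF : (r : F) ≠ 0 := SympOrderR.r_ne_zero (p := p) hr hrp
  have hsep := qfOdd_sep h2 (F := F) d
  have hG := IsoOrth.geom hsep
  have hn : Module.finrank F (Unit ⊕ (Fin d ⊕ Fin d) → F) = 2 * d + 1 := by simp; omega
  have hcard : Fintype.card (Unit ⊕ (Fin d ⊕ Fin d)) = 2 * d + 1 := by simp; omega
  have htopnd : ND (qfOdd d F).polarBilin (⊤ : Submodule F (Unit ⊕ (Fin d ⊕ Fin d) → F)) :=
    fun u _ h => hG.sep u fun v => h v trivial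
  suffices
      (∀ x : GL (Unit ⊕ (Fin d ⊕ Fin d)) F, x ∈ Cfsg.Geo.omegaGL (⇑(qfOdd d F)) → orderOf x = r →
        ∃ W : Submodule F (Unit ⊕ (Fin d ⊕ Fin d) → F), Module.finrank F ↥W = m ∧ (∀ w ∈ W, qfOdd d F w = 0) ∧
          W.map (Matrix.toLinAlgEquiv' (x : Matrix (Unit ⊕ (Fin d ⊕ Fin d)) (Unit ⊕ (Fin d ⊕ Fin d)) F)) ≤ W) ↔
      ((r = 2 ∧ (m < d ∨ Fintype.card F % 4 = 1)) ∨
       (r ≠ p ∧ 2 < r ∧ i ≤ m ∧ 2 * (m % i) < (2 * d + 1) % c ∧
         (Odd i ∨ (r - 1) / i + 2 * (m / i) ≤ (2 * d + 1) / i))) by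
    simp only [odd_coe]
    exact this
  have hTQ : ∀ {x : GL (Unit ⊕ (Fin d ⊕ Fin d)) F}, x ∈ Cfsg.Geo.omegaGL (⇑(qfOdd d F)) → ∀ v,
      qfOdd d F ((x : Matrix (Unit ⊕ (Fin d ⊕ Fin d)) (Unit ⊕ (Fin d ⊕ Fin d)) F) *ᵥ v) = qfOdd d F v := by
    intro x hx v
    obtain ⟨y, -, rfl⟩ := hx
    simpa using (mem_isometryGroup_iff _ _).1 y.2 v
  have hTpow : ∀ {x : GL (Unit ⊕ (Fin d ⊕ Fin d)) F}, x ^ r = 1 →
      (Matrix.toLinAlgEquiv' (x : Matrix (Unit ⊕ (Fin d ⊕ Fin d)) (Unit ⊕ (Fin d ⊕ Fin d)) F)) ^ r = 1 :=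
    fun {x} hx => by rw [← map_pow, ← Units.val_pow_eq_pow_val, hx, Units.val_one, map_one]
  by_cases hr2 : r = 2
  · subst hr2
    have hsq : IsSquare (-1 : F) ↔ Fintype.card F % 4 ≠ 3 := FiniteField.isSquare_neg_one_iff
    constructor
    · intro h
      refine Or.inl ⟨rfl, ?_⟩
      by_contra hne
      push Not at hne
      obtain ⟨hdm, hq1⟩ := hne
      obtain rfl : m = d := by omega
      have hns : ¬ IsSquare (-1 : F) := fun hs => hsq.1 hs (by
        have := Nat.odd_iff.1 hqodd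
        omega)
      let u : Unit ⊕ (Fin m ⊕ Fin m) → F := Pi.single (.inl ()) 1
      let v : Unit ⊕ (Fin m ⊕ Fin m) → F :=
        Pi.single (.inr (.inl ⟨0, by omega⟩)) 1 + Pi.single (.inr (.inr ⟨0, by omega⟩)) 1
      have hu : qfOdd m F u = 1 := by simp [u, qfOdd_apply, Cfsg.quadFormOdd]
      have hv : qfOdd m F v = 1 := by simp [v, qfOdd_apply, Cfsg.quadFormOdd, Pi.single_apply]
      have huv : polar (qfOdd m F) u v = 0 := by simp [u, v, polar_qfOdd, Pi.single_apply]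
      let b : Fin 2 → (Unit ⊕ (Fin m ⊕ Fin m) → F) := ![u, v]
      have hbQ : ∀ k, qfOdd m F (b k) ≠ 0 := fun k => by fin_cases k <;> simp [b, hu, hv]
      have hb : ∀ k l, k ≠ l → polar (qfOdd m F) (b k) (b l) = 0 := fun k l hkl => by
        fin_cases k <;> fin_cases l <;> first | exact absurd rfl hkl | exact huv | exact (QuadraticMap.polar_comm _ _ _).trans huv
      obtain ⟨g, hg, hgw⟩ := exists_omega_word (qfOdd m F) hsep h2
        (([0, 1] : List (Fin 2)).map fun k => ⟨b k, hbQ k⟩)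
        (wordVal_eq_one _ _ (by simp) ⟨1, by simp [b, hu, hv]⟩)
      have hneg : ∀ k, isoLin g (b k) = -b k := fun k => by
        rw [hgw, reflWord_orth_apply (qfOdd m F) b hbQ hb _ (by simp), if_pos (by fin_cases k <;> simp)]
      have hfix : ∀ z, (∀ k, polar (qfOdd m F) (b k) z = 0) → isoLin g z = z := fun z hz => by
        rw [hgw]
        refine KnownB.BC.reflWord_fix _ _ fun w hw => ?_
        obtain ⟨k, -, rfl⟩ := List.mem_map.1 hw
        exact hz k
      have hvv : polar (qfOdd m F) v v = 2 := by rw [polar_self_two, hv, mul_one]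
      have huu : polar (qfOdd m F) u u = 2 := by rw [polar_self_two, hu, mul_one]
      have hdec : ∀ z, ∃ x y : F, z - isoLin g z = x • u + y • v := fun z => by
        obtain ⟨z', hz'⟩ : ∃ z', z' = z - ((polar (qfOdd m F) u z / 2) • u + (polar (qfOdd m F) v z / 2) • v) :=
          ⟨_, rfl⟩
        have h := hfix z' fun k => by
          fin_cases k <;> simp [b, hz', sub_eq_add_neg, QuadraticMap.polar_add_right, QuadraticMap.polar_neg_right,
            QuadraticMap.polar_smul_right, huv, QuadraticMap.polar_comm (qfOdd m F) v u, hvv, huu, h2]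
        have hgu : isoLin g u = -u := hneg 0
        have hgv : isoLin g v = -v := hneg 1
        refine ⟨polar (qfOdd m F) u z, polar (qfOdd m F) v z, ?_⟩
        rw [hz', map_sub, map_add, map_smul, map_smul, hgu, hgv] at h
        have h' : isoLin g z = z - ((polar (qfOdd m F) u z / 2) • u + (polar (qfOdd m F) v z / 2) • v) +
            ((polar (qfOdd m F) u z / 2) • -u + (polar (qfOdd m F) v z / 2) • -v) := by
          rw [← h]; abel
        rw [h', smul_neg, smul_neg]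
        have : ∀ s : F, s / 2 + s / 2 = s := fun s => by field_simp; ring
        conv_rhs => rw [← this (polar (qfOdd m F) u z), ← this (polar (qfOdd m F) v z)]
        module
      have hg2 : isoLin g u = -u := hneg 0
      have hu0 : u ≠ 0 := fun e => by simpa [u] using congrFun e (Sum.inl ())
      have hord : orderOf ((g : GL (Unit ⊕ (Fin m ⊕ Fin m)) F)) = 2 := by
        refine orderOf_eq_prime ?_ fun h1 => ?_
        · refine Units.ext (Matrix.toLinAlgEquiv'.injective (LinearMap.ext fun z => ?_))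
          rw [sq, Units.val_mul, map_mul, Units.val_one, map_one, Module.End.mul_apply]
          show isoLin g (isoLin g z) = z
          obtain ⟨x, y, hxy⟩ := hdec z
          have hgv : isoLin g v = -v := hneg 1
          have e : isoLin g z = z - (x • u + y • v) := by rw [← hxy]; abel
          rw [e, map_sub, map_add, map_smul, map_smul, hg2, hgv, e]
          module
        · have : isoLin g u = u := by simp [isoLin, h1]
          rw [hg2, neg_eq_iff_add_eq_zero, ← two_smul F, smul_eq_zero] at this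
          exact hu0 (this.resolve_left h2)
      obtain ⟨W, hWd, hW, hWi⟩ := h (g : GL (Unit ⊕ (Fin m ⊕ Fin m)) F) ⟨g, hg, rfl⟩ hord
      have hperp : ∀ w ∈ W, polar (qfOdd m F) u w = 0 ∧ polar (qfOdd m F) v w = 0 := fun w hw => by
        have hmem : w - isoLin g w ∈ W := W.sub_mem hw (apply_mem hWi hw)
        obtain ⟨x, y, hxy⟩ := hdec w
        rw [hxy] at hmem
        have h0 := hW _ hmem
        rw [QuadraticMap.map_add (qfOdd m F), QuadraticMap.map_smul, QuadraticMap.map_smul,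
          QuadraticMap.polar_smul_left, QuadraticMap.polar_smul_right, hu, hv, huv] at h0
        simp only [smul_eq_mul, mul_one, mul_zero, add_zero] at h0
        have hy : y = 0 := by
          by_contra hy
          exact hns ⟨x / y, by field_simp; linear_combination -h0⟩
        have hx : x = 0 := by rw [hy, mul_zero, add_zero] at h0; exact mul_self_eq_zero.1 h0
        rw [hx, hy, zero_smul, zero_smul, add_zero, sub_eq_zero] at hxy
        have key : ∀ k, polar (qfOdd m F) (b k) w = 0 := fun k => by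
          have e : polar (qfOdd m F) (isoLin g (b k)) (isoLin g w) = polar (qfOdd m F) (b k) w := by
            simp only [QuadraticMap.polar, ← map_add]
            have hiso := hTQ (x := (g : GL (Unit ⊕ (Fin m ⊕ Fin m)) F)) ⟨g, hg, rfl⟩
            simp only [isoLin, Matrix.toLin'_apply, hiso]
          rw [← hxy, hneg, QuadraticMap.polar_neg_left] at e
          exact (mul_eq_zero.1 (by linear_combination -e : (2 : F) * polar (qfOdd m F) (b k) w = 0)).resolve_left h2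
        exact ⟨key 0, key 1⟩
      obtain ⟨S, hS⟩ : ∃ S, S = Submodule.span F ({u, v} : Set (Unit ⊕ (Fin m ⊕ Fin m) → F)) := ⟨_, rfl⟩
      have hSW : W ⊔ S ≤ perp (qfOdd m F).polarBilin W := by
        refine sup_le (ti_iff_le_perp.1 (IsoOrth.ti_of_ts hW)) (hS ▸ Submodule.span_le.2 ?_)
        rintro z (rfl | rfl) w hw
        · exact (QuadraticMap.polar_comm _ _ _).trans (hperp w hw).1
        · exact (QuadraticMap.polar_comm _ _ _).trans (hperp w hw).2
      have hinf : W ⊓ S = ⊥ := (Submodule.eq_bot_iff _).2 fun z ⟨hz, hzS⟩ => by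
        rw [hS] at hzS
        obtain ⟨x, y, rfl⟩ := Submodule.mem_span_pair.1 hzS
        obtain ⟨hp1, hp2'⟩ := hperp _ hz
        rw [QuadraticMap.polar_add_right, QuadraticMap.polar_smul_right, QuadraticMap.polar_smul_right, huu, huv,
          smul_eq_mul, smul_eq_mul, mul_zero, add_zero, mul_eq_zero, or_iff_left h2] at hp1
        rw [QuadraticMap.polar_add_right, QuadraticMap.polar_smul_right, QuadraticMap.polar_smul_right, hvv,
          QuadraticMap.polar_comm (qfOdd m F) v u, huv, smul_eq_mul, smul_eq_mul, mul_zero, zero_add, mul_eq_zero,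
          or_iff_left h2] at hp2'
        rw [hp1, hp2', zero_smul, zero_smul, add_zero]
      have hSd : 2 ≤ Module.finrank F S := by
        have hli : LinearIndependent F ![u, v] := LinearIndependent.pair_iff.2 fun x y hxy => by
          have e1 := congrFun hxy (Sum.inl ())
          have e2 := congrFun hxy (Sum.inr (Sum.inl ⟨0, by omega⟩))
          simp [u, v, Pi.single_apply] at e1 e2
          exact ⟨e1, e2⟩
        have := finrank_span_eq_card hli
        rw [Matrix.range_cons, Matrix.range_cons, Matrix.range_empty, Set.union_empty, Set.singleton_union,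
          ← hS, Fintype.card_fin] at this
        omega
      have h3 := Submodule.finrank_sup_add_finrank_inf_eq W S
      rw [hinf, finrank_bot, hWd] at h3
      have h4 := finrank_perp hG W
      have h5 := Submodule.finrank_mono hSW
      rw [hWd, hn] at h4
      omega
    · rintro (⟨-, hcond⟩ | ⟨-, h, -⟩) x hx hxo
      swap
      · omega
      obtain ⟨T, hT⟩ : ∃ T, T = Matrix.toLinAlgEquiv'
          (x : Matrix (Unit ⊕ (Fin d ⊕ Fin d)) (Unit ⊕ (Fin d ⊕ Fin d)) F) := ⟨_, rfl⟩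
      have hTT : T * T = 1 := by
        rw [hT, ← map_mul, ← Units.val_mul, ← sq, ← hxo, pow_orderOf_eq_one, Units.val_one, map_one]
      rw [← hT]
      have hTiso : ∀ v, qfOdd d F (T v) = qfOdd d F v := fun v => hT ▸ hTQ hx v
      obtain ⟨P, N, hP, hN, hPnd, hNnd, hperp, hbot, hsum⟩ := eigen_split hsep h2 hTiso hTT
      rw [hcard] at hsum
      obtain ⟨W₁, W₂, hW₁, hW₂, hQ₁, hQ₂, hd'⟩ : ∃ W₁ W₂ : Submodule F (Unit ⊕ (Fin d ⊕ Fin d) → F),
          W₁ ≤ P ∧ W₂ ≤ N ∧ (∀ w ∈ W₁, qfOdd d F w = 0) ∧ (∀ w ∈ W₂, qfOdd d F w = 0) ∧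
            Module.finrank F W₁ + Module.finrank F W₂ = m := by
        by_cases hlt : m < d
        · obtain ⟨k, hk⟩ : ∃ k, k = min m ((Module.finrank F P - 1) / 2) := ⟨_, rfl⟩
          obtain ⟨W₁, hW₁, hQ₁, hd₁⟩ := IsoOrth.exists_ts hsep hPnd k (by omega)
          obtain ⟨W₂, hW₂, hQ₂, hd₂⟩ := IsoOrth.exists_ts hsep hNnd (m - k) (by omega)
          exact ⟨W₁, W₂, hW₁, hW₂, hQ₁, hQ₂, by omega⟩
        · obtain rfl : m = d := by omega
          obtain ⟨y, hy, rfl⟩ := hx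
          obtain ⟨k, W₂, hk, hW₂, hQ₂, hd₂⟩ := exists_half h2 (hsq.2 (by omega)) y hy
            (fun v => by rw [hT] at hTT; exact LinearMap.congr_fun hTT v)
            (fun v => by rw [hN v, hT]; rfl) hNnd
          obtain ⟨W₁, hW₁, hQ₁, hd₁⟩ := IsoOrth.exists_ts hsep hPnd (m - k) (by omega)
          exact ⟨W₁, W₂, hW₁, hW₂, hQ₁, hQ₂, by omega⟩
      obtain ⟨h1, hq', h3⟩ := join_eigen hP hN hperp hbot hW₁ hW₂ hQ₁ hQ₂
      exact ⟨W₁ ⊔ W₂, by omega, hq', h3⟩
  have hr3 : 2 < r := lt_of_le_of_ne hr.two_le (Ne.symm hr2)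
  have hipos : 0 < i := SympOrderR.i_pos (F := F) (p := p) rfl hr hrp hi
  have hdvd : i ∣ r - 1 := hi ▸ orderOf_dvd_of_pow_eq_one (ZMod.pow_card_sub_one_eq_one fun h0 => by
    rw [h0] at hi; simp at hi; omega)
  have htpos : 1 ≤ (r - 1) / i := Nat.div_pos (Nat.le_of_dvd (by omega) hdvd) hipos
  have hSD := IsoOrth.sd_iff (p := p) (F := F) hi hr2 hipos
  have hcdvd := IsoOrth.c_dvd_two_mul (F := F) hi hc hjr
  have hcpos : 0 < c := by rw [hc]; split_ifs <;> omega
  have hceven : c % 2 = 0 := by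
    rw [hc]; split_ifs with h
    · exact Nat.even_iff.1 h
    · omega
  have hcd : c ≤ 2 * d := (Nat.le_of_dvd (by omega) hcdvd).trans (by omega)
  have hmod : ((2 * d + 1) % c) % 2 = 1 := by
    rw [Nat.mod_mod_of_dvd _ (Nat.dvd_of_mod_eq_zero hceven)]; omega
  have hsmall : i ≤ m ∨ (2 * d + 1) % c < 2 * (m % i) := by
    by_cases him : i ≤ m
    · exact Or.inl him
    refine Or.inr ?_
    rw [Nat.mod_eq_of_lt (by omega : m < i), show 2 * d + 1 = 2 * (d - j) + (2 * j + 1) by omega]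
    obtain ⟨t, ht⟩ := hcdvd
    rw [ht, Nat.mul_add_mod]
    have := Nat.mod_le (2 * j + 1) c
    omega
  constructor
  · intro h
    refine Or.inr ⟨hrp, hr3, ?_⟩
    have hwit : ∀ k, k ≤ d → 1 ≤ k → ∀ f ∈ StarCount.polys (SemiPalin.tilde (RingHom.id F)) r (2 * k), ¬ f.IsRoot 1 →
        ∃ (T : Module.End F (Unit ⊕ (Fin d ⊕ Fin d) → F)) (W : Submodule F (Unit ⊕ (Fin d ⊕ Fin d) → F)),
          Ctx (qfOdd d F).polarBilin T r ∧ T.charpoly = (X - C 1) ^ (2 * d + 1 - 2 * k) * f ∧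
          Module.finrank F ↥(LinearMap.ker (T - 1)) ≤ 2 * d + 1 - 2 * k ∧
          Module.finrank F W = m ∧ TI (qfOdd d F).polarBilin W ∧ W.map T ≤ W := by
      intro k hkd hk1 f hf hf1
      obtain ⟨x, hx, hxr, hxc⟩ := exists_elem (p := p) h2 hr2 hrp (by omega) hkd hf hf1
      rw [odd_coe] at hx
      have hTr := hTpow hxr
      have hfix := IsoWitness.finrank_fix_lt hrF hTr (e := 2 * d + 1 - 2 * k) fun hd => by
        rw [hxc, pow_succ, mul_dvd_mul_iff_left (pow_ne_zero _ (X_sub_C_ne_zero 1))] at hd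
        exact hf1 (dvd_iff_isRoot.1 hd)
      obtain ⟨W, hWd, hW, hWi⟩ := h x hx (orderOf_eq_prime hxr fun h1 => by
        rw [h1, Units.val_one, map_one, sub_self, LinearMap.ker_zero, finrank_top, hn] at hfix
        omega)
      exact ⟨_, W, IsoOrth.ctx hsep hr hr2 hrF (fun v => hTQ hx v) hTr, hxc, hfix, hWd, IsoOrth.ti_of_ts hW, hWi⟩
    have hcase2 : 2 * (m % i) < (2 * d + 1) % c := by
      by_contra hlt
      push Not at hlt
      obtain ⟨f, hf, hf1⟩ := IsoOrth.exists_block_poly (F := F) (p := p) hi hr2 hrp hc ((2 * d + 1) / c)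
      obtain ⟨k, hk⟩ : 2 ∣ c * ((2 * d + 1) / c) := (Nat.dvd_of_mod_eq_zero hceven).mul_right _
      rw [hk] at hf
      have hle := Nat.div_add_mod (2 * d + 1) c
      have h1 : 1 ≤ (2 * d + 1) / c := Nat.div_pos (by omega) hcpos
      have := Nat.mul_le_mul_left c h1
      obtain ⟨T, W, hC, -, hfix, hWd, hW, hWi⟩ := hwit k (by omega) (by omega) f hf hf1
      have hb := fix_bound hC hWi hW hWd
      rw [← hi] at hb
      omega
    have him : i ≤ m := hsmall.resolve_right (by omega)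
    refine ⟨him, hcase2, ?_⟩
    by_contra hne
    push Not at hne
    obtain ⟨hev, hlt⟩ := hne
    rw [Nat.not_odd_iff_even] at hev
    obtain ⟨o, ho⟩ : ∃ o, o = min ((r - 1) / i) ((2 * d + 1) / i) := ⟨_, rfl⟩
    have hid : i ≤ 2 * d := by rwa [hc, if_pos hev] at hcd
    have hopos : 1 ≤ o := by
      have := Nat.div_pos (show i ≤ 2 * d + 1 by omega) hipos
      omega
    have hoi : i * o ≤ 2 * d + 1 :=
      (Nat.mul_le_mul_left i (by omega : o ≤ (2 * d + 1) / i)).trans (Nat.mul_div_le _ _)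
    obtain ⟨f, hf, hf1, hfs⟩ := IsoOrth.exists_distinct_poly (F := F) (p := p) hi hr2 hrp hev
      (by omega : o ≤ (r - 1) / i)
    obtain ⟨k, hk⟩ : 2 ∣ i * o := (even_iff_two_dvd.1 hev).mul_right _
    rw [hk] at hf
    have := Nat.mul_le_mul_left i hopos
    obtain ⟨T, W, hC, hTc, hfix, hWd, hW, hWi⟩ := hwit k (by omega) (by omega) f hf hf1
    have hb := fix_bound_of_simple (p := p) (a := 0) hC (fun x => by simp) (hSD.2 hev)
      (fun g hg => ker_factor_one (p := p) hC hrp hg (by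
        rw [← hi]
        by_contra hlt2
        obtain ⟨hgm, hgi, -⟩ := SympOrderR.mem_factors.1 hg
        have h' := IsoWitness.pow_dvd_charpoly hrF hC.pow hgi hgm (k := 2) (by
          rw [SympOrderR.natDegree_factor (F := F) (p := p) rfl hr hrp hi hg]; omega)
        rw [hTc] at h'
        exact hfs g hg (hgi.prime.pow_dvd_of_dvd_mul_left 2
          (fun hd => SympOrderR.not_dvd_X_sub_one (F := F) hr hrp hg (hgi.prime.dvd_of_dvd_pow hd)) h')))
      hWi hW hWd
    rcases le_total ((r - 1) / i) ((2 * d + 1) / i) with hle | hle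
    · rw [min_eq_left hle] at ho
      subst ho
      have h7 : (r - 1) / i + 2 * (m / i) ≤ (2 * d + 1) / i := by
        rw [Nat.le_div_iff_mul_le hipos]
        have := Nat.div_mul_le_self m i
        rw [add_mul, mul_assoc, mul_comm ((r - 1) / i) i]
        omega
      omega
    · rw [min_eq_right hle] at ho
      subst ho
      have := Nat.div_add_mod (2 * d + 1) i
      have := Nat.mod_lt (2 * d + 1) hipos
      omega
  · rintro (⟨h, -⟩ | ⟨-, -, -, h2', h3⟩) x hx hxo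
    · exact absurd h hr2
    have hC := IsoOrth.ctx hsep hr hr2 hrF (fun v => hTQ hx v) (hTpow (by rw [← hxo, pow_orderOf_eq_one]))
    obtain ⟨X, hX, hXi, hXt, hXd, hX2⟩ := exists_mov_part (p := p) (a := 0) hC (fun x => by simp)
      (n := 2 * d + 1) (c := c) (m := m) (δ := 1) hn
      ⟨fun h => by rw [← hi, hc, if_pos (hSD.1 h)], fun h => by rw [← hi, hc, if_neg (mt hSD.2 h)]⟩
      (by omega) (by rw [← hi]; omega)
      (fun h => by rw [← hi]; exact h3.resolve_left (Nat.not_odd_iff_even.2 (hSD.1 h)))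
    obtain ⟨Z, hZ, hZs, hZd⟩ := IsoOrth.exists_ts hsep (nd_fix hC) (m - Module.finrank F X) (by omega)
    obtain ⟨-, hWi, hWd⟩ := ti_sup_fix hC hX hXi hXt hZ (IsoOrth.ti_of_ts hZs)
    exact ⟨X ⊔ Z, by omega, IsoOrth.ts_sup (IsoOrth.ts_of_ti_mov (fun v => hTQ hx v) hC hXi hX hXt) hZs
      (le_perp_comm hC.toGeom ((hX.trans (fix_le_perp hC)).trans (perp_antitone hZ))), hWi⟩

end Cfsg.Agent.S5972
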