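import Cfsg.Statements.S5973
import Cfsg.Agent.Lib.MaxSub.IsoTS
import Cfsg.Agent.Lib.MaxSub.IsoTwo
import Cfsg.Agent.Lib.MaxSub.TSCount
import Cfsg.Agent.Lib.MaxSub.IsoOrthBase
-- import your own Cfsg.Agent.* helpers here

set_option autoImplicit false
open scoped MatrixGroups
open Cfsg

namespace Cfsg.Agent.S5973

open CfsgLib CfsgLib.MaxSub CfsgLib.MaxSub.IsoSemi CfsgLib.MaxSub.IsoType CfsgLib.Classical CfsgLib.Geom CfsgLib.KnownC CfsgLib.KnownC.OrthType
open Matrix
open QuadraticMap (polar)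

section

universe u
variable {F : Type u} [Field F] [Fintype F]

/-- An element of `Ω` without invariant totally singular `(d-1)`-space. -/
theorem exists_plane_witness (h2 : (2 : F) ≠ 0) (hns : ¬ IsSquare (-1 : F)) {d : ℕ} (hd : 3 ≤ d) :
    ∃ x : GL (Fin d ⊕ Fin d) F, x ∈ Cfsg.Geo.omegaGL (⇑(qfPlus d F)) ∧
      ((x ^ 2 : GL (Fin d ⊕ Fin d) F) : Matrix (Fin d ⊕ Fin d) (Fin d ⊕ Fin d) F) = (1 : F) • 1 ∧
      (∀ z : F, (x : Matrix (Fin d ⊕ Fin d) (Fin d ⊕ Fin d) F) ≠ z • 1) ∧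
      ∀ W : Submodule F (Fin d ⊕ Fin d → F), (∀ w ∈ W, qfPlus d F w = 0) →
        W.map (Matrix.toLin' (x : Matrix (Fin d ⊕ Fin d) (Fin d ⊕ Fin d) F)) ≤ W →
        Module.finrank F W + 2 ≤ d := by
  classical
  let u : Fin d ⊕ Fin d → F := Pi.single (.inl ⟨0, by omega⟩) 1 + Pi.single (.inr ⟨0, by omega⟩) 1
  let v : Fin d ⊕ Fin d → F := Pi.single (.inl ⟨1, by omega⟩) 1 + Pi.single (.inr ⟨1, by omega⟩) 1
  have hsep : ∀ x, (∀ y, polar (qfPlus d F) x y = 0) → x = 0 := qfPlus_sep d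
  have hu : qfPlus d F u = 1 := by simp [u, qfPlus_apply, Cfsg.quadFormPlus, Pi.single_apply]
  have hv : qfPlus d F v = 1 := by simp [v, qfPlus_apply, Cfsg.quadFormPlus, Pi.single_apply]
  have huv : polar (qfPlus d F) u v = 0 := by simp [u, v, polar_qfPlus, Pi.single_apply]
  have hvu : polar (qfPlus d F) v u = 0 := by rw [QuadraticMap.polar_comm]; exact huv
  let b : Fin 2 → (Fin d ⊕ Fin d → F) := ![u, v]
  have hbQ : ∀ k, qfPlus d F (b k) ≠ 0 := fun k => by fin_cases k <;> simp [b, hu, hv]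
  have hb : ∀ k l, k ≠ l → polar (qfPlus d F) (b k) (b l) = 0 := fun k l hkl => by
    fin_cases k <;> fin_cases l <;> first | exact absurd rfl hkl | exact huv | exact hvu
  obtain ⟨g, hg, hgw⟩ := exists_omega_word (qfPlus d F) hsep h2
    (([0, 1] : List (Fin 2)).map fun k => ⟨b k, hbQ k⟩)
    (wordVal_eq_one _ _ (by simp) ⟨1, by simp [b, hu, hv]⟩)
  have hneg : ∀ k, isoLin g (b k) = -b k := fun k => by
    rw [hgw, reflWord_orth_apply (qfPlus d F) b hbQ hb _ (by simp), if_pos (by fin_cases k <;> simp)]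
  have hgu : isoLin g u = -u := hneg 0
  have hgv : isoLin g v = -v := hneg 1
  obtain ⟨S, hS⟩ : ∃ S, S = Submodule.span F ({u, v} : Set (Fin d ⊕ Fin d → F)) := ⟨_, rfl⟩
  have huS : u ∈ S := hS ▸ Submodule.subset_span (Set.mem_insert u _)
  have hvS : v ∈ S := hS ▸ Submodule.subset_span (Set.mem_insert_of_mem u rfl)
  have hmem : ∀ z ∈ S, ∃ x y : F, z = x • u + y • v := fun z hz => by
    rw [hS] at hz
    obtain ⟨x, y, h⟩ := Submodule.mem_span_pair.1 hz
    exact ⟨x, y, h.symm⟩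
  have hval : ∀ x y : F, qfPlus d F (x • u + y • v) = x * x + y * y := fun x y => by
    rw [QuadraticMap.map_add (qfPlus d F), QuadraticMap.map_smul, QuadraticMap.map_smul,
      QuadraticMap.polar_smul_left, QuadraticMap.polar_smul_right, hu, hv, huv]
    simp
  have haniso : ∀ z ∈ S, qfPlus d F z = 0 → z = 0 := fun z hz h0 => by
    obtain ⟨x, y, rfl⟩ := hmem z hz
    rw [hval] at h0
    have hy : y = 0 := by
      by_contra hy
      exact hns ⟨x / y, by field_simp; linear_combination -h0⟩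
    rw [hy, mul_zero, add_zero, mul_self_eq_zero] at h0
    rw [h0, hy, zero_smul, zero_smul, add_zero]
  have hSnd : ND (qfPlus d F).polarBilin S := fun z hz h => haniso z hz (by
    have h' : polar (qfPlus d F) z z = 0 := h z hz
    rw [polar_self_two] at h'
    exact (mul_eq_zero.1 h').resolve_left h2)
  have hG := IsoOrth.geom hsep
  have hfix : ∀ z ∈ perp (qfPlus d F).polarBilin S, isoLin g z = z := fun z hz => by
    rw [hgw]
    refine KnownB.BC.reflWord_fix _ _ fun w hw => ?_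
    obtain ⟨k, -, rfl⟩ := List.mem_map.1 hw
    fin_cases k
    · exact hz u huS
    · exact hz v hvS
  have hnegS : ∀ z ∈ S, isoLin g z = -z := fun z hz => by
    obtain ⟨x, y, rfl⟩ := hmem z hz
    rw [map_add, map_smul, map_smul, hgu, hgv, smul_neg, smul_neg, neg_add]
  have hdec : ∀ z, ∃ s t, s ∈ S ∧ t ∈ perp (qfPlus d F).polarBilin S ∧ z = s + t := fun z => by
    obtain ⟨s, hs, t, ht, h⟩ := Submodule.mem_sup.1
      ((isCompl_perp hG hSnd).sup_eq_top ▸ Submodule.mem_top : z ∈ S ⊔ perp (qfPlus d F).polarBilin S)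
    exact ⟨s, t, hs, ht, h.symm⟩
  have hu0 : u ≠ 0 := fun e => by rw [e, map_zero] at hu; exact zero_ne_one hu
  have hS2 : Module.finrank F S = 2 := by
    have hli : LinearIndependent F ![u, v] := LinearIndependent.pair_iff.2 fun x y hxy => by
      have h := hval x y
      rw [hxy, map_zero] at h
      have hy : y = 0 := by
        by_contra hy
        exact hns ⟨x / y, by field_simp; linear_combination h⟩
      rw [hy, mul_zero, add_zero, eq_comm, mul_self_eq_zero] at h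
      exact ⟨h, hy⟩
    have h := finrank_span_eq_card hli
    rw [Matrix.range_cons, Matrix.range_cons, Matrix.range_empty, Set.union_empty, Set.singleton_union,
      ← hS, Fintype.card_fin] at h
    exact h
  have hV : Module.finrank F (Fin d ⊕ Fin d → F) = 2 * d := OrthPrime.finrank_two d
  refine ⟨(g : GL (Fin d ⊕ Fin d) F), ⟨g, hg, rfl⟩, ?_, fun z hz => ?_, fun W hW hWi => ?_⟩
  · rw [one_smul]
    refine Matrix.toLinAlgEquiv'.injective (LinearMap.ext fun z => ?_)
    rw [sq, Units.val_mul, map_mul, map_one, Module.End.mul_apply]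
    show isoLin g (isoLin g z) = z
    obtain ⟨s, t, hs, ht, rfl⟩ := hdec z
    rw [map_add, hnegS s hs, hfix t ht, map_add, map_neg, hnegS s hs, neg_neg, hfix t ht]
  · obtain ⟨w, hw, hw0⟩ : ∃ w ∈ perp (qfPlus d F).polarBilin S, w ≠ 0 := by
      refine Submodule.exists_mem_ne_zero_of_ne_bot fun hb => ?_
      have := finrank_perp hG S
      rw [hb, finrank_bot, hS2, hV] at this
      omega
    have h1 : z • w = w := by
      have h := hfix w hw
      rw [isoLin, Matrix.toLin'_apply, hz, Matrix.smul_mulVec, Matrix.one_mulVec] at h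
      exact h
    have h1' : z = 1 := smul_left_injective F hw0 (h1.trans (one_smul F w).symm)
    have h := hgu
    rw [isoLin, Matrix.toLin'_apply, hz, h1', one_smul, Matrix.one_mulVec, eq_neg_iff_add_eq_zero, ← two_smul F,
      smul_eq_zero] at h
    exact hu0 (h.resolve_left h2)
  · have hWS : W ≤ perp (qfPlus d F).polarBilin S := fun w hw => by
      obtain ⟨s, t, hs, ht, rfl⟩ := hdec w
      have h : isoLin g (s + t) ∈ W := hWi ⟨_, hw, rfl⟩
      rw [map_add, hnegS s hs, hfix t ht] at h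
      have h' : (2 : F) • s ∈ W := by
        have := W.sub_mem hw h
        rwa [show s + t - (-s + t) = (2 : F) • s by rw [two_smul]; abel] at this
      have hs0 : s = 0 := (smul_eq_zero.1 (haniso _ (S.smul_mem _ hs) (hW _ h'))).resolve_left h2
      rw [hs0, zero_add]; exact ht
    have hR : Module.finrank F ↥(perp (qfPlus d F).polarBilin S) = 2 * (d - 1) := by
      have := finrank_perp hG S
      omega
    have hno : ¬ HasHalf (qfPlus d F) (perp (qfPlus d F).polarBilin S) := fun h => by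
      have hsum := hasHalf_sum_iff hsep hSnd (nd_perp hG hSnd) le_rfl (k₁ := 1) (by omega) hR
      rw [(isCompl_perp hG hSnd).sup_eq_top] at hsum
      have htop : HasHalf (qfPlus d F) ⊤ :=
        (isPlus_iff_hasHalf _ hsep hV).1 ⟨LinearEquiv.refl F _, fun _ => rfl⟩
      obtain ⟨L, hL, hLQ, hLd⟩ := (hsum.1 htop).2 h
      have hLb : L = ⊥ := (Submodule.eq_bot_iff _).2 fun x hx => haniso x (hL hx) (hLQ x hx)
      rw [hLb, finrank_bot, hS2] at hLd
      omega
    obtain ⟨h1, h3⟩ := ts_part_bound hsep (nd_perp hG hSnd) hWS hW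
    have := h3 hno
    omega

/-- An element of `Ω` with square `-1`. -/
theorem exists_rot_witness (h2 : (2 : F) ≠ 0) (hns : ¬ IsSquare (-1 : F)) {d : ℕ} (hd : Even d) :
    ∃ x : GL (Fin d ⊕ Fin d) F, x ∈ Cfsg.Geo.omegaGL (⇑(qfPlus d F)) ∧
      ((x ^ 2 : GL (Fin d ⊕ Fin d) F) : Matrix (Fin d ⊕ Fin d) (Fin d ⊕ Fin d) F) = (-1 : F) • 1 ∧
      ∀ v, (x : Matrix (Fin d ⊕ Fin d) (Fin d ⊕ Fin d) F) *ᵥ
        ((x : Matrix (Fin d ⊕ Fin d) (Fin d ⊕ Fin d) F) *ᵥ v) = -v := by
  obtain ⟨A, hAA, hA⟩ := IsoTwo.exists_rot (F := F) hd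
  obtain ⟨a, s, hs, ha⟩ : ∃ a s : F, s * s = 1 ∧ 2 * (a * a) = s := by
    have hprod : IsSquare (2 : F) ∨ IsSquare (-2 : F) := by
      refine or_iff_not_imp_left.2 fun h => ?_
      rw [show (-2 : F) = (-1) * 2 by ring]
      exact CfsgLib.Geom.isSquare_mul_of_not _ _ hns h
    rcases hprod with ⟨t, ht⟩ | ⟨t, ht⟩
    · exact ⟨t / 2, 1, one_mul 1, by field_simp; linear_combination -ht⟩
    · exact ⟨t / 2, -1, by ring, by field_simp; linear_combination -ht⟩
  let H : Module.End F (Fin d ⊕ Fin d → F) :=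
    { toFun := fun v => Sum.elim (a • ((fun i => v (.inl i)) + A fun i => v (.inl i)))
        ((s * a) • ((fun i => v (.inr i)) + A fun i => v (.inr i)))
      map_add' := fun v w => funext fun j => by
        have e1 : (fun i => (v + w) (.inl i)) = (fun i => v (.inl i)) + fun i => w (.inl i) := rfl
        have e2 : (fun i => (v + w) (.inr i)) = (fun i => v (.inr i)) + fun i => w (.inr i) := rfl
        rcases j with j | j <;>
          simp only [Pi.add_apply, Sum.elim_inl, Sum.elim_inr, Pi.smul_apply, smul_eq_mul] at e1 e2 ⊢ <;>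
          simp only [e1, e2, map_add, Pi.add_apply] <;> ring
      map_smul' := fun c v => funext fun j => by
        have e1 : (fun i => (c • v) (.inl i)) = c • fun i => v (.inl i) := rfl
        have e2 : (fun i => (c • v) (.inr i)) = c • fun i => v (.inr i) := rfl
        rcases j with j | j <;>
          simp only [Pi.add_apply, Sum.elim_inl, Sum.elim_inr, Pi.smul_apply, smul_eq_mul, RingHom.id_apply] at e1 e2 ⊢ <;>
          simp only [e1, e2, map_smul, Pi.smul_apply, smul_eq_mul] <;> ring }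
  have horth : ∀ e f : Fin d → F, (∑ i, e i * A f i) + ∑ i, A e i * f i = 0 := fun e f => by
    have h := hA e (A f)
    rw [hAA] at h
    rw [← h, ← Finset.sum_add_distrib]
    exact Finset.sum_eq_zero fun i _ => by simp
  have hH : ∀ v, qfPlus d F (H v) = qfPlus d F v := fun v => by
    rw [qfPlus_apply, qfPlus_apply]
    simp only [Cfsg.quadFormPlus, H, LinearMap.coe_mk, AddHom.coe_mk, Sum.elim_inl, Sum.elim_inr, Pi.smul_apply,
      Pi.add_apply, smul_eq_mul]
    have h1 := hA (fun i => v (.inl i)) (fun i => v (.inr i))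
    have h3 := horth (fun i => v (.inl i)) (fun i => v (.inr i))
    simp only [mul_add, add_mul, Finset.sum_add_distrib, mul_mul_mul_comm a _ (s * a), ← Finset.mul_sum, h1]
    linear_combination (a * (s * a)) * h3 + (2 * a * a * s - 1 + 1) * 0 +
      (∑ i, v (.inl i) * v (.inr i)) * (s * ha + hs)
  obtain ⟨h, hh⟩ := KnownB.BC.exists_iso (qfPlus d F) (qfPlus_sep d) H hH
  have hHH : ∀ v, H (H v) = s • Sum.elim (A fun i => v (.inl i)) (A fun i => v (.inr i)) := fun v => funext fun j => by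
    have hE : ∀ (c : F) (e : Fin d → F) i, (c • (c • (e + A e) + A (c • (e + A e)))) i = 2 * (c * c) * A e i :=
      fun c e i => by
        rw [map_smul, map_add, hAA]
        simp only [Pi.smul_apply, Pi.add_apply, Pi.neg_apply, smul_eq_mul]
        ring
    rcases j with j | j
    · simp only [H, LinearMap.coe_mk, AddHom.coe_mk, Sum.elim_inl, Pi.smul_apply (α := Fin d ⊕ Fin d → F)]
      exact (hE a (fun i => v (.inl i)) j).trans (by rw [ha]; simp)
    · simp only [H, LinearMap.coe_mk, AddHom.coe_mk, Sum.elim_inr, Pi.smul_apply (α := Fin d ⊕ Fin d → F)]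
      exact (hE (s * a) (fun i => v (.inr i)) j).trans (by
        rw [show 2 * (s * a * (s * a)) = s * s * (2 * (a * a)) by ring, ha, hs, one_mul]; simp)
  have hneg : ∀ v, H (H (H (H v))) = -v := fun v => funext fun j => by
    rw [hHH, hHH]
    rcases j with j | j
    · show s * A (s • A fun i => v (.inl i)) j = -v (.inl j)
      rw [map_smul, hAA, Pi.smul_apply, Pi.neg_apply, smul_eq_mul, ← mul_assoc, hs, one_mul]
    · show s * A (s • A fun i => v (.inr i)) j = -v (.inr j)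
      rw [map_smul, hAA, Pi.smul_apply, Pi.neg_apply, smul_eq_mul, ← mul_assoc, hs, one_mul]
  have hx : ∀ v, ((((h * h : Cfsg.isometryGroup F (⇑(qfPlus d F)))) : GL (Fin d ⊕ Fin d) F) :
      Matrix (Fin d ⊕ Fin d) (Fin d ⊕ Fin d) F) *ᵥ v = H (H v) := fun v => by
    rw [Subgroup.coe_mul, Units.val_mul, ← Matrix.mulVec_mulVec, hh, hh]
  refine ⟨((h * h : Cfsg.isometryGroup F (⇑(qfPlus d F))) : GL (Fin d ⊕ Fin d) F),
    ⟨h * h, IsoTwo.sq_mem_omega (qfPlus_sep d) h2 h, rfl⟩, ?_, fun v => by rw [hx, hx, hneg]⟩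
  refine Matrix.ext_iff_mulVec.2 fun v => ?_
  rw [sq, Units.val_mul, ← Matrix.mulVec_mulVec, hx, hx, hneg, Matrix.smul_mulVec, Matrix.one_mulVec, neg_one_smul]

end

/-- Elements of prime order of PΩ⁺_n(q), n = 2d ≥ 8, with no fixed totally singular `m`-space, `m < n/2`. Here `T = PΩ⁺_n(q)` is realised through `Ω⁺_n(q)`, the commutator subgroup of the isometry group of the quadratic form `Σ xᵢyᵢ` over the field `F` with `q` elements; an element of `T` of prime order `r` is an element `x` of `Ω⁺_n(q)` with `x^r` scalar and `x` not scalar. Let `1 ≤ m < d` and let `r` be a prime dividing the number of totally singular `m`-spaces. For `r ≠ p` let `i` be the multiplicative order of `q` modulo `r`, `c = i` for `i` even and `c = 2i` for `i` odd, and write `k = n mod c`, `ℓ = m mod i`, `n' = ⌊n/i⌋`, `m' = ⌊m/i⌋`, `t = (r−1)/i`. Then every element of `T` of order `r` fixes some totally singular `m`-space if and only if one of: (i) `r = 2 ≠ p` and either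 `q ≡ 1 (mod 4)`, or `q ≡ 3 (mod 4)`, `m ≤ n/2 − 2` and (`m` even or `n ≡ 2 (mod 4)`); (ii) `r ≠ p` odd, `i` odd, `i ≤ m` and `k ≥ 2ℓ`; (iii) `r ≠ p` odd, `i` even, `i ≤ m`, `n' − 2m' ≥ t`, and one of: `i ≥ 2ℓ`, `k = 0`, `n/i` odd and `n' − 2m' > t`; or `k ≥ 2ℓ` and `n'` even; or `k > 2ℓ` and `n'` odd. -/
theorem result {F : Type*} [Field F] [Fintype F] {p : ℕ} [Fact p.Prime] [CharP F p] {q : ℕ} (hq : Fintype.card F = q)
    (d m : ℕ) (hd : 4 ≤ d) (hm : 1 ≤ m) (hmd : m < d)
    (r : ℕ) [Fact r.Prime]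
    (hrΩ : r ∣ Nat.card {W : Submodule F (Fin d ⊕ Fin d → F) // Module.finrank F ↥W = m ∧ (∀ w ∈ W, Cfsg.quadFormPlus d F w = 0)})
    (i c : ℕ) (hi : i = orderOf (q : ZMod r)) (hc : c = if Even i then i else 2 * i) :
    (∀ x : GL (Fin d ⊕ Fin d) F, x ∈ Cfsg.Geo.omegaGL (Cfsg.quadFormPlus d F) →
      (∃ z : F, ((x ^ r : GL (Fin d ⊕ Fin d) F) : Matrix (Fin d ⊕ Fin d) (Fin d ⊕ Fin d) F) = z • (1 : Matrix (Fin d ⊕ Fin d) (Fin d ⊕ Fin d) F)) →
      (∀ z : F, (x : Matrix (Fin d ⊕ Fin d) (Fin d ⊕ Fin d) F) ≠ z • (1 : Matrix (Fin d ⊕ Fin d) (Fin d ⊕ Fin d) F)) →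
      ∃ W : Submodule F (Fin d ⊕ Fin d → F), Module.finrank F ↥W = m ∧ (∀ w ∈ W, Cfsg.quadFormPlus d F w = 0) ∧
        W.map (Matrix.toLin' (x : Matrix (Fin d ⊕ Fin d) (Fin d ⊕ Fin d) F)) ≤ W) ↔
    ((r = 2 ∧ p ≠ 2 ∧ (q % 4 = 1 ∨ (q % 4 = 3 ∧ m + 2 ≤ d ∧ (Even m ∨ (2 * d) % 4 = 2)))) ∨
     (r ≠ p ∧ 2 < r ∧ Odd i ∧ i ≤ m ∧ 2 * (m % i) ≤ (2 * d) % c) ∨
     (r ≠ p ∧ 2 < r ∧ Even i ∧ i ≤ m ∧ (r - 1) / i + 2 * (m / i) ≤ (2 * d) / i ∧
       ((2 * (m % i) ≤ i ∧ (2 * d) % c = 0 ∧ Odd ((2 * d) / i) ∧ (r - 1) / i + 2 * (m / i) < (2 * d) / i) ∨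
        (2 * (m % i) ≤ (2 * d) % c ∧ Even ((2 * d) / i)) ∨
        (2 * (m % i) < (2 * d) % c ∧ Odd ((2 * d) / i))))) := by
  classical
  subst hq
  have hrP : r.Prime := Fact.out
  obtain ⟨hrp, j, hjm, hjr⟩ := TSCount.dvd_count_plus (p := p) hmd hrΩ
  have hsep : ∀ x, (∀ y, polar (qfPlus d F) x y = 0) → x = 0 := qfPlus_sep d
  have hV : Module.finrank F (Fin d ⊕ Fin d → F) = 2 * d := OrthPrime.finrank_two d
  have htop : HasHalf (qfPlus d F) ⊤ := (isPlus_iff_hasHalf _ hsep hV).1 ⟨LinearEquiv.refl F _, fun _ => rfl⟩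
  have hcoe : Cfsg.quadFormPlus d F = ⇑(qfPlus d F) := funext fun v => (qfPlus_apply d v).symm
  simp only [hcoe]
  by_cases hr2 : r = 2
  · subst hr2
    have hp2 : p ≠ 2 := fun h => hrp h.symm
    have hchar : ringChar F ≠ 2 := by rwa [ringChar.eq F p]
    have h2 : (2 : F) ≠ 0 := Ring.two_ne_zero hchar
    have hsq : IsSquare (-1 : F) ↔ Fintype.card F % 4 ≠ 3 := FiniteField.isSquare_neg_one_iff
    have hodd : Fintype.card F % 2 = 1 := FiniteField.odd_card_of_char_ne_two hchar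
    constructor
    · intro h
      refine Or.inl ⟨rfl, hp2, ?_⟩
      by_contra hne
      push Not at hne
      obtain ⟨hq1, hq3⟩ := hne
      have h3 : Fintype.card F % 4 = 3 := by omega
      have hns : ¬ IsSquare (-1 : F) := fun hs => hsq.1 hs h3
      specialize hq3 h3
      by_cases hmd2 : m + 2 ≤ d
      · obtain ⟨hmo, hd4⟩ := hq3 hmd2
        obtain ⟨x, hx, hx2, hxx⟩ := exists_rot_witness h2 hns (d := d) (Nat.even_iff.2 (by omega))
        obtain ⟨W, hWd, -, hWi⟩ := h x hx ⟨-1, hx2⟩ fun z hz => by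
          rw [sq, Units.val_mul, hz, smul_mul_smul_comm, mul_one] at hx2
          refine hns ⟨z, ?_⟩
          have := congrFun (congrFun hx2 (.inl ⟨0, by omega⟩)) (.inl ⟨0, by omega⟩)
          simpa using this.symm
        exact hmo (hWd ▸ IsoTwo.even_finrank (J := Matrix.toLin' (x : Matrix _ _ F))
          (fun v => by simpa [Matrix.toLin'_apply] using hxx v) hns hWi)
      · obtain ⟨x, hx, hx2, hxn, hxW⟩ := exists_plane_witness h2 hns (d := d) (by omega)
        obtain ⟨W, hWd, hW, hWi⟩ := h x hx ⟨1, hx2⟩ hxn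
        have := hxW W hW hWi
        omega
    · rintro (⟨-, -, hcond⟩ | ⟨-, h, -⟩ | ⟨-, h, -⟩) x hx ⟨z, hz⟩ hxn
      rotate_left
      · omega
      · omega
      obtain ⟨g, hg, rfl⟩ := hx
      obtain ⟨T, hT⟩ : ∃ T, T = isoLin g := ⟨_, rfl⟩
      have hiso : ∀ v, qfPlus d F (T v) = qfPlus d F v := fun v => by
        rw [hT, isoLin, Matrix.toLin'_apply]; exact (mem_isometryGroup_iff _ _).1 g.2 v
      have hTT : ∀ v, T (T v) = z • v := fun v => by
        have h := congrArg (fun M => M *ᵥ v) hz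
        rw [sq, Units.val_mul, ← Matrix.mulVec_mulVec, Matrix.smul_mulVec, Matrix.one_mulVec] at h
        rw [hT, isoLin, Matrix.toLin'_apply, Matrix.toLin'_apply]
        exact h
      show ∃ W : Submodule F (Fin d ⊕ Fin d → F), Module.finrank F ↥W = m ∧ (∀ w ∈ W, qfPlus d F w = 0) ∧
        W.map (isoLin g) ≤ W
      rw [← hT]
      have hz1 : z = 1 ∨ z = -1 := by
        obtain ⟨v, hv⟩ : ∃ v, qfPlus d F v ≠ 0 := ⟨Pi.single (.inl ⟨0, by omega⟩) 1 + Pi.single (.inr ⟨0, by omega⟩) 1,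
          by simp [qfPlus_apply, Cfsg.quadFormPlus, Pi.single_apply]⟩
        refine mul_self_eq_one_iff.1 (mul_right_cancel₀ hv (Eq.trans ?_ (one_mul _).symm))
        rw [← smul_eq_mul, ← QuadraticMap.map_smul, ← hTT, hiso, hiso]
      rcases hz1 with rfl | rfl
      · simp only [one_smul] at hTT
        obtain ⟨P, N, hP, hN, hPnd, hNnd, hperp, hsup, hsum⟩ := IsoTwo.eigen_split hsep h2 hiso hTT
        obtain ⟨jN, hjN, hjH⟩ := IsoTwo.involution_neg hsep h2 g hg (fun v => by rw [← hT]; exact hTT v)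
          (fun v => by rw [hN v, hT]) hNnd
        rw [hV] at hsum
        have hsi := hasHalf_sum_iff hsep hPnd hNnd hperp (k₁ := d - jN) (by omega) hjN
        rw [hsup] at hsi
        obtain ⟨W₁, W₂, hW₁, hW₂, hQ₁, hQ₂, hd'⟩ : ∃ W₁ W₂ : Submodule F (Fin d ⊕ Fin d → F),
            W₁ ≤ P ∧ W₂ ≤ N ∧ (∀ w ∈ W₁, qfPlus d F w = 0) ∧ (∀ w ∈ W₂, qfPlus d F w = 0) ∧
              Module.finrank F W₁ + Module.finrank F W₂ = m := by
          rcases hcond with hq1 | ⟨-, hm2, -⟩
          · have hN' := hjH (hsq.2 (by omega))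
            obtain ⟨W₁, hW₁, hQ₁, hd₁⟩ := exists_ts_part hsep hPnd (k := min m (d - jN)) (by omega)
              (Or.inl ((hsi.1 htop).2 hN'))
            obtain ⟨W₂, hW₂, hQ₂, hd₂⟩ := exists_ts_part hsep hNnd (k := m - min m (d - jN)) (by omega) (Or.inl hN')
            exact ⟨W₁, W₂, hW₁, hW₂, hQ₁, hQ₂, by omega⟩
          · obtain ⟨W₁, hW₁, hQ₁, hd₁⟩ := exists_ts_part hsep hPnd (k := min m (d - jN - 1)) (by omega)
              (Or.inr (by omega))
            obtain ⟨W₂, hW₂, hQ₂, hd₂⟩ := exists_ts_part hsep hNnd (k := m - min m (d - jN - 1)) (by omega)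
              (Or.inr (by omega))
            exact ⟨W₁, W₂, hW₁, hW₂, hQ₁, hQ₂, by omega⟩
        obtain ⟨h1, hq', h3⟩ := IsoTwo.join_eigen hsep hP hN hPnd hperp hW₁ hW₂ hQ₁ hQ₂
        exact ⟨W₁ ⊔ W₂, by omega, hq', h3⟩
      · simp only [neg_one_smul] at hTT
        by_cases hs : IsSquare (-1 : F)
        · obtain ⟨ι₀, hι⟩ := hs
          exact IsoTwo.exists_inv_ts_of_sq h2 hTT hiso hι.symm (by omega)
        · have hde := (IsoTwo.hasHalf_iff_even hsep h2 hTT hiso hs hV).1 htop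
          have h3 : Fintype.card F % 4 = 3 := by by_contra h3; exact hs (hsq.2 h3)
          obtain ⟨-, -, hm'⟩ := hcond.resolve_left (by omega)
          obtain ⟨k, rfl⟩ := hm'.resolve_right (by obtain ⟨k, hk⟩ := hde; omega)
          obtain ⟨W, hWi, hW, hWd⟩ := IsoTwo.grow hsep h2 hTT hiso hs k (by omega)
          exact ⟨W, by omega, hW, hWi⟩
  have hr3 : 2 < r := lt_of_le_of_ne hrP.two_le (Ne.symm hr2)
  have hpow1 : ∀ {y : ℕ}, r ∣ Fintype.card F ^ y - 1 → i ∣ y := fun {y} h => IsoOrthBase.dvd_of_sub hi h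
  have hmain := IsoTS.main (p := p) hsep hr2 hrp hi hc hm hmd (by omega) (by simp; omega) (ε := True)
    (iff_true_intro htop)
    (fun k hk Q₀ hQ₀ hcase => by
      rcases dichotomy Q₀ hQ₀ (OrthPrime.finrank_two (F := F) k) with ⟨e, he⟩ | ⟨l, rfl, hM⟩
      · obtain ⟨ψ, hψ⟩ := embed_plus_plus (F := F) hk
        exact ⟨ψ ∘ₗ e.symm.toLinearMap, fun v => by
          rw [LinearMap.comp_apply, hψ, ← he]; exact congrArg Q₀ (e.apply_symm_apply v)⟩
      · obtain ⟨a, b, hab⟩ := exists_anisotropic_binary (F := F)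
        have hlt : l + 1 < d := hcase.resolve_right fun h => not_plus_of_minus hab (hM a b hab)
          ((isPlus_iff_hasHalf _ hQ₀ (OrthPrime.finrank_two _)).2 (h.2 trivial))
        obtain ⟨e, he⟩ := hM a b hab
        obtain ⟨ψ, hψ⟩ := embed_minus_plus (F := F) (show l + 2 ≤ d by omega) a b
        exact ⟨ψ ∘ₗ e.symm.toLinearMap, fun v => by
          rw [LinearMap.comp_apply, hψ, ← he]; exact congrArg Q₀ (e.apply_symm_apply v)⟩)
    (fun ho => by
      rcases hjr with h | h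
      · obtain ⟨u, hu⟩ := hpow1 h
        exact ⟨u, j, by rw [mul_assoc, ← mul_add, ← hu]; omega, fun _ => hjm, fun h => absurd trivial h⟩
      · exact absurd (IsoOrthBase.odd_part_of_add hi hr2 h).1 (Nat.not_even_iff_odd.2 ho))
    (fun _ => by
      rcases hjr with h | h
      · obtain ⟨u, hu⟩ := hpow1 h
        exact ⟨2 * u, j, by rw [Nat.mul_left_comm, ← mul_add, ← hu]; omega, Or.inl ⟨by simp, hjm⟩⟩
      · obtain ⟨-, s, hs, hs'⟩ := IsoOrthBase.odd_part_of_add hi hr2 h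
        exact ⟨s, j + 1, by omega, Or.inr ⟨by simpa using hs, by omega, by omega⟩⟩)
  rw [hmain]
  simp only [true_iff, not_true, false_and, or_false, true_and, Nat.not_even_iff_odd, hr2, hrp, ne_eq,
    not_false_eq_true, hr3, false_or]

end Cfsg.Agent.S5973
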