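import Cfsg.Statements.S5974
import Cfsg.Agent.Lib.MaxSub.IsoNDCrit
import Cfsg.Agent.Lib.MaxSub.IsoNDTwoEven
import Cfsg.Agent.Lib.MaxSub.IsoNDStd
import Cfsg.Agent.Lib.MaxSub.IsoNDPlusTwo
-- import your own Cfsg.Agent.* helpers here

set_option autoImplicit false
open scoped MatrixGroups
open Cfsg

namespace Cfsg.Agent.S5974

open CfsgLib CfsgLib.MaxSub CfsgLib.MaxSub.IsoSemi CfsgLib.MaxSub.IsoType CfsgLib.Classical CfsgLib.Geom CfsgLib.KnownC CfsgLib.KnownC.OrthType
open Matrix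
open QuadraticMap (polar)

theorem member_iff {F : Type*} [Field F] {ι : Type} [Fintype ι] (Q : QuadraticForm F (ι → F)) {m : ℕ}
    (W : Submodule F (ι → F)) :
    (Module.finrank F W = m ∧ (∀ u ∈ W, u ≠ 0 → ∃ v ∈ W, polar Q u v ≠ 0) ∧
      ∃ U : Submodule F (ι → F), U ≤ W ∧ 2 * Module.finrank F U = m ∧ ∀ u ∈ U, Q u = 0) ↔
      IsoNDCount.Member Q m True W := by
  refine and_congr_right fun hd => and_congr ⟨fun h u hu hz => ?_, fun h u hu hu0 => ?_⟩ ?_
  · by_contra hu0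
    obtain ⟨v, hv, hv0⟩ := h u hu hu0
    exact hv0 (hz v hv)
  · by_contra hn
    push Not at hn
    exact hu0 (h u hu hn)
  · rw [iff_true, ← hd]
    exact ⟨fun ⟨U, h1, h2, h3⟩ => ⟨U, h1, h3, h2⟩, fun ⟨U, h1, h2, h3⟩ => ⟨U, h1, h3, h2⟩⟩

/-- Elements of prime order of PΩ⁺_n(q), n = 2d ≥ 8, with no fixed nondegenerate hyperbolic `m`-space. Here `T = PΩ⁺_n(q)` is realised through `Ω⁺_n(q)`, the commutator subgroup of the isometry group of `Q = Σ xᵢyᵢ` over the field `F` with `q` elements; an element of `T` of prime order `r` is an element `x` of `Ω⁺_n(q)` with `x^r` scalar and `x` not scalar. A hyperbolic `m`-space is a subspace `W` of even dimension `m` on which the polar form of `Q` is nondegenerate and which contains a totally singular subspace of dimension `m/2`. Let `m` be even with `2 ≤ m < n/2`, and let `r` be a prime dividing the number of hyperbolic `m`-spaces, with `r = 2` or `r ≠ p`. For `r ≠ p` let `i` be the multiplicative order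 of `q` modulo `r`, `c = i` for `i` even and `c = 2i` for `i` odd, and write `k = n mod c`, `ℓ' = m mod c`. Then every element of `T` of order `r` fixes some hyperbolic `m`-space if and only if one of: (i) `r = 2` and (`n ≡ 2 (mod 4)`, or `m ≡ 0 (mod 4)`, or `q ≡ 1 (mod 4)`); (ii) `r ≠ p` odd, `i` odd, `c ≤ m` and `k ≥ ℓ'`; (iii) `r ≠ p` odd, `i` even, and either `k = 0` and (`n/i` odd, or `ℓ' = 0` and `m/i` even), or `i ≤ m` and (`k > ℓ' > 0`, or `k = ℓ' > 0` and `(n + m − 2k)/i` even, or `k > ℓ' = 0` and `m/i` even). -/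
theorem result {F : Type*} [Field F] [Fintype F] {p : ℕ} [Fact p.Prime] [CharP F p] {q : ℕ} (hq : Fintype.card F = q)
    (d m : ℕ) (hd : 4 ≤ d) (hm : 2 ≤ m) (hme : Even m) (hmd : m < d)
    (r : ℕ) [Fact r.Prime] (hr : r = 2 ∨ r ≠ p)
    (hrΩ : r ∣ Nat.card {W : Submodule F (Fin d ⊕ Fin d → F) // (Module.finrank F ↥W = m ∧ (∀ u ∈ W, u ≠ 0 → ∃ v ∈ W, QuadraticMap.polar (Cfsg.quadFormPlus d F) u v ≠ 0) ∧
          ∃ U : Submodule F (Fin d ⊕ Fin d → F), U ≤ W ∧ 2 * Module.finrank F ↥U = m ∧ ∀ u ∈ U, Cfsg.quadFormPlus d F u = 0)})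
    (i c : ℕ) (hi : i = orderOf (q : ZMod r)) (hc : c = if Even i then i else 2 * i) :
    (∀ x : GL (Fin d ⊕ Fin d) F, x ∈ Cfsg.Geo.omegaGL (Cfsg.quadFormPlus d F) →
      (∃ z : F, ((x ^ r : GL (Fin d ⊕ Fin d) F) : Matrix (Fin d ⊕ Fin d) (Fin d ⊕ Fin d) F) = z • (1 : Matrix (Fin d ⊕ Fin d) (Fin d ⊕ Fin d) F)) →
      (∀ z : F, (x : Matrix (Fin d ⊕ Fin d) (Fin d ⊕ Fin d) F) ≠ z • (1 : Matrix (Fin d ⊕ Fin d) (Fin d ⊕ Fin d) F)) →
      ∃ W : Submodule F (Fin d ⊕ Fin d → F), (Module.finrank F ↥W = m ∧ (∀ u ∈ W, u ≠ 0 → ∃ v ∈ W, QuadraticMap.polar (Cfsg.quadFormPlus d F) u v ≠ 0) ∧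
          ∃ U : Submodule F (Fin d ⊕ Fin d → F), U ≤ W ∧ 2 * Module.finrank F ↥U = m ∧ ∀ u ∈ U, Cfsg.quadFormPlus d F u = 0) ∧
        W.map (Matrix.toLin' (x : Matrix (Fin d ⊕ Fin d) (Fin d ⊕ Fin d) F)) ≤ W) ↔
    ((r = 2 ∧ ((2 * d) % 4 = 2 ∨ m % 4 = 0 ∨ q % 4 = 1)) ∨
     (r ≠ p ∧ 2 < r ∧ Odd i ∧ c ≤ m ∧ m % c ≤ (2 * d) % c) ∨
     (r ≠ p ∧ 2 < r ∧ Even i ∧
       (((2 * d) % c = 0 ∧ (Odd ((2 * d) / i) ∨ (m % c = 0 ∧ Even (m / i)))) ∨
        (i ≤ m ∧ ((m % c < (2 * d) % c ∧ 0 < m % c) ∨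
                  ((2 * d) % c = m % c ∧ 0 < m % c ∧ Even ((2 * d + m - 2 * ((2 * d) % c)) / i)) ∨
                  (0 < (2 * d) % c ∧ m % c = 0 ∧ Even (m / i))))))) := by
  classical
  subst hq
  have hrP : r.Prime := Fact.out
  have hsep : ∀ x, (∀ y, polar (qfPlus d F) x y = 0) → x = 0 := qfPlus_sep d
  have hcard : Fintype.card (Fin d ⊕ Fin d) = 2 * d := by simp; omega
  simp only [← qfPlus_coe, member_iff] at hrΩ ⊢
  by_cases hr2 : r = 2
  · subst hr2
    have hmm := Nat.even_iff.1 hme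
    by_cases hp2 : p = 2
    · subst hp2
      have h2 : (2 : F) = 0 := CharP.cast_eq_zero F 2
      rw [IsoNDPlusTwo.two_iff h2 (by omega) hme hmd]
      have hq2 : Fintype.card F % 2 = 0 := FiniteField.even_card_iff_char_two.1 (ringChar.eq F 2)
      simp only [true_and, ne_eq, not_true, false_and, or_false, Nat.odd_iff]
      omega
    have hchar : ringChar F ≠ 2 := by rwa [ringChar.eq F p]
    have h2 : (2 : F) ≠ 0 := Ring.two_ne_zero hchar
    have hodd : Fintype.card F % 2 = 1 := FiniteField.odd_card_of_char_ne_two hchar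
    rw [IsoNDTwoEven.two_iff (ε := True) hsep h2 hcard (by omega) hme (by omega)
      (iff_true_intro (IsoNDStd.plus_top d)) (Or.inl (by omega)) fun h => IsoNDStd.plus_J (h.1 trivial)]
    simp only [true_iff, true_and, lt_self_iff_false, false_and, and_false, or_false, FiniteField.isSquare_neg_one_iff,
      FiniteField.isSquare_two_iff, Nat.even_iff, Nat.odd_iff]
    omega
  have hrp : r ≠ p := hr.resolve_left hr2
  have hr3 : 2 < r := lt_of_le_of_ne hrP.two_le (Ne.symm hr2)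
  obtain ⟨v₀, hv₀⟩ : ∃ v₀, qfPlus d F v₀ ≠ 0 :=
    ⟨Pi.single (.inl ⟨0, by omega⟩) 1 + Pi.single (.inr ⟨0, by omega⟩) 1,
      by simp [qfPlus_apply, Cfsg.quadFormPlus, Pi.single_apply]⟩
  rw [IsoNDMain.lhs_scalar (Q := qfPlus d F) (hrP.odd_of_ne_two hr2) hv₀
      (fun W => IsoNDCount.Member (qfPlus d F) m True W),
    IsoNDCrit.even_dim (p := p) (ε := True) hsep hr2 hrp hi hc hcard (by omega) (even_two_mul d) (by omega) hme
      (by omega) (iff_true_intro (IsoNDStd.plus_top d)) (IsoNDStd.plus_emb d) hrΩ]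
  simp only [hr2, hr3, hrp, ne_eq, not_false_eq_true, true_and, false_and, false_or, true_iff, IsoNDMain.PType]
  rcases Nat.even_or_odd i with hev | hod
  · rw [if_pos hev] at hc
    subst hc
    simp only [Nat.not_odd_iff_even.2 hev, hev, false_and, false_or, true_and, Nat.not_even_iff_odd]
    have hsum : 0 < m % c → m % c = (2 * d) % c →
        (Even ((2 * d + m - 2 * ((2 * d) % c)) / c) ↔ (Even (m / c) ↔ Even ((2 * d) / c))) := fun _ h => by
      have hc0 : 0 < c := Nat.pos_of_ne_zero fun e => by subst e; simp at h; omega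
      have h1 : (2 * d + m - 2 * ((2 * d) % c)) = c * ((2 * d) / c + m / c) := by
        have := Nat.div_add_mod (2 * d) c
        have := Nat.div_add_mod m c
        rw [mul_add]; omega
      rw [h1, Nat.mul_div_cancel_left _ hc0, Nat.even_add]
      exact iff_comm
    rcases Nat.eq_zero_or_pos ((2 * d) % c) with hk | hk <;> rcases Nat.eq_zero_or_pos (m % c) with hl | hl
    · simp only [hk, hl, true_and, le_refl, forall_const, lt_self_iff_false, false_and, and_false, or_false,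
        IsEmpty.forall_iff, and_true]
      exact ⟨fun h => h.imp id fun h => h.2, fun h => h.imp id fun h => ⟨Nat.le_of_dvd (by omega)
        (Nat.dvd_of_mod_eq_zero hl), h⟩⟩
    · simp [hk, hl, hl.ne', hl.ne, Nat.not_le.2 hl]
    · simp [hk, hk.ne', hl, hk.ne]
    · simp only [hk.ne', hl.ne', hk, hl, true_and, false_and, false_or, or_false, and_true, IsEmpty.forall_iff,
        forall_const]
      constructor
      · rintro ⟨hcm, hle, h⟩
        refine ⟨hcm, ?_⟩
        rcases lt_or_eq_of_le hle with h' | h'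
        · exact Or.inl h'
        · exact Or.inr ⟨h'.symm, (hsum hl h').2 (h h')⟩
      · rintro ⟨hcm, h | ⟨h, ho⟩⟩
        · exact ⟨hcm, h.le, fun e => absurd e h.ne⟩
        · exact ⟨hcm, h.ge, fun _ => (hsum hl h.symm).1 ho⟩
  · simp only [hod, Nat.not_even_iff_odd.2 hod, true_and, false_and, or_false, true_or, not_true, and_false,
      iff_true, false_or, implies_true, and_true]

end Cfsg.Agent.S5974
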