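import Cfsg.Statements.S5985
import Cfsg.Agent.Lib.MaxSub.OmegaElem
import Cfsg.Agent.Lib.MaxSub.SemiWitness
import Cfsg.Agent.Lib.KnownC.OrthPlusOmega
import Cfsg.Agent.Lib.Classical.InvTwoOmega
import Cfsg.Agent.Lib.Geom.SympSpace
-- import your own Cfsg.Agent.* helpers here

set_option autoImplicit false
open scoped MatrixGroups
open Cfsg

namespace Cfsg.Agent.S5985

open CfsgLib.MaxSub CfsgLib.Geom CfsgLib.Classical Matrix
open QuadraticMap (polar)

section

variable {F : Type*} [Field F] [Fintype F] {d : ℕ}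

/-- An involution of a plus space whose fixed space is totally singular lives in even index. -/
theorem even_of_fixed_ts (h2 : (2 : F) = 0) {T : Module.End F (Fin d ⊕ Fin d → F)}
    (hTq : ∀ v, qfPlus d F (T v) = qfPlus d F v) (hT2 : T * T = 1)
    (hts : ∀ v, T v = v → qfPlus d F v = 0) : Even d := by
  classical
  have hneg : ∀ a : F, -a = a := fun a => by linear_combination (-a) * h2
  let N : Module.End F (Fin d ⊕ Fin d → F) := T - 1
  have hN : ∀ v, N v = T v - v := fun v => rfl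
  have hNN : ∀ v, N (N v) = 0 := fun v => by
    rw [hN, hN, map_sub, show T (T v) = v from LinearMap.congr_fun hT2 v]
    funext i
    simp only [Pi.sub_apply, Pi.zero_apply]
    linear_combination (v i - T v i) * h2
  have hdim : Module.finrank F (Fin d ⊕ Fin d → F) = 2 * d := by simp; omega
  have hnd : (qfPlus d F).polarBilin.Nondegenerate :=
    ⟨fun x hx => qfPlus_sep d x hx, fun y hy => qfPlus_sep d y fun x => by
      rw [QuadraticMap.polar_comm]; exact hy x⟩
  have hWts : ∀ v ∈ LinearMap.ker N, qfPlus d F v = 0 := fun v hv => hts v (sub_eq_zero.1 hv)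
  have hle : LinearMap.range N ≤ LinearMap.ker N := by
    rintro _ ⟨v, rfl⟩; exact hNN v
  have h1 := N.finrank_range_add_finrank_ker
  rw [hdim] at h1
  have hk := finrank_ts_le (qfPlus d F) hnd hdim hWts
  have hr := Submodule.finrank_mono hle
  have hker : Module.finrank F (LinearMap.ker N) = d := by omega
  obtain ⟨C, hC⟩ := Submodule.exists_isCompl (LinearMap.ker N)
  have hCd : Module.finrank F C = d := by
    have := Submodule.finrank_add_eq_of_isCompl hC
    omega
  have hpN : ∀ u, polar (qfPlus d F) u (N u) = 0 := fun u => by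
    have h := hTq u
    rw [show T u = u + N u by rw [hN]; abel, QuadraticMap.map_add (qfPlus d F), hWts _ (hle ⟨u, rfl⟩),
      add_zero] at h
    linear_combination h
  let B : C →ₗ[F] C →ₗ[F] F := (qfPlus d F).polarBilin.compl₁₂ C.subtype (N ∘ₗ C.subtype)
  have hB : ∀ u v : C, B u v = polar (qfPlus d F) u.1 (N v.1) := fun u v => rfl
  have hsw : ∀ u v : C, B v u = B u v := fun u v => by
    have h := hpN (u.1 + v.1)
    rw [map_add, QuadraticMap.polar_add_left, QuadraticMap.polar_add_right, QuadraticMap.polar_add_right, hpN,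
      hpN, zero_add, add_zero, add_eq_zero_iff_eq_neg, hneg] at h
    rw [hB, hB, h]
  obtain ⟨k, hk2⟩ : Even (Module.finrank F C) := by
    refine CfsgLib.MaxSub.OmegaElem.even_finrank_of_alt B (fun u => hpN u.1) fun x hx => ?_
    have h3 : N x.1 = 0 := qfPlus_sep d _ fun y => by
      obtain ⟨a, ha, b, hb, rfl⟩ := Submodule.mem_sup.1 (hC.sup_eq_top.symm ▸ Submodule.mem_top :
        y ∈ LinearMap.ker N ⊔ C)
      rw [QuadraticMap.polar_add_right, polar_eq_zero_of_ts _ hWts (hle ⟨_, rfl⟩) ha, zero_add,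
        QuadraticMap.polar_comm]
      exact (hB ⟨b, hb⟩ x).symm.trans ((hsw x ⟨b, hb⟩).trans (hx _))
    exact Subtype.ext (Submodule.disjoint_def.1 hC.disjoint _ h3 x.2)
  exact ⟨k, by omega⟩

/-- For even `d` an involution of `Ω⁺` fixes no non-singular vector. -/
theorem exists_invol (h2 : (2 : F) = 0) (hd : 4 ≤ d) (hev : Even d) :
    ∃ x : GL (Fin d ⊕ Fin d) F, x ∈ Cfsg.Geo.omegaGL (Cfsg.quadFormPlus d F) ∧ x ^ 2 = 1 ∧ x ≠ 1 ∧
      ∀ v, (x : Matrix (Fin d ⊕ Fin d) (Fin d ⊕ Fin d) F) *ᵥ v = v → qfPlus d F v = 0 := by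
  classical
  have hneg : ∀ a : F, -a = a := fun a => by linear_combination (-a) * h2
  obtain ⟨k, rfl⟩ := hev
  let e : Fin (k + k) ≃ Fin k ⊕ Fin k := finSumFinEquiv.symm
  let S : Matrix (Fin (k + k)) (Fin (k + k)) F := (J (Fin k) F).reindex e.symm e.symm
  have hSdet : IsUnit S.det := by
    rw [show S = (J (Fin k) F).reindex e.symm e.symm from rfl, Matrix.det_reindex_self]
    exact isUnit_det_J _ _
  have hS0 : ∀ w : Fin (k + k) → F, S *ᵥ w = 0 → w = 0 := fun w hw => by
    have := congrArg (fun y => S⁻¹ *ᵥ y) hw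
    simpa [mulVec_mulVec, Matrix.nonsing_inv_mul _ hSdet] using this
  have hSalt : ∀ w : Fin (k + k) → F, w ⬝ᵥ S *ᵥ w = 0 := fun w => by
    have h : w ⬝ᵥ S *ᵥ w = (w ∘ e.symm) ⬝ᵥ J (Fin k) F *ᵥ (w ∘ e.symm) := by
      rw [show S *ᵥ w = (J (Fin k) F *ᵥ (w ∘ e.symm)) ∘ e by
        rw [show S = (J (Fin k) F).submatrix e e from rfl, submatrix_mulVec_equiv]]
      exact Fintype.sum_equiv e _ _ fun i => by simp [Function.comp_apply]
    rw [h, dotProduct, Fintype.sum_sum_type, J]
    simp only [fromBlocks_mulVec, zero_mulVec, Sum.elim_inl, Sum.elim_inr, zero_add, add_zero, neg_mulVec,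
      one_mulVec, Pi.neg_apply, Function.comp_apply, hneg]
    rw [← Finset.sum_add_distrib]
    exact Finset.sum_eq_zero fun i _ => by linear_combination (w (e.symm (.inl i)) * w (e.symm (.inr i))) * h2
  let M : Matrix (Fin (k + k) ⊕ Fin (k + k)) (Fin (k + k) ⊕ Fin (k + k)) F := fromBlocks 1 S 0 1
  have hM : ∀ v, M *ᵥ v = Sum.elim (v ∘ Sum.inl + S *ᵥ (v ∘ Sum.inr)) (v ∘ Sum.inr) := fun v => by
    simp [M, fromBlocks_mulVec]
  have hMM : M * M = 1 := by
    rw [fromBlocks_multiply, ← fromBlocks_one]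
    simp only [one_mul, mul_one, mul_zero, add_zero, zero_add, zero_mul]
    congr 1
    ext i j
    show S i j + S i j = 0
    linear_combination (S i j) * h2
  have hiso : ∀ v, qfPlus (k + k) F (M *ᵥ v) = qfPlus (k + k) F v := fun v => by
    have hdot : ∀ x : Fin (k + k) ⊕ Fin (k + k) → F, qfPlus (k + k) F x = (x ∘ Sum.inl) ⬝ᵥ (x ∘ Sum.inr) :=
      fun x => by rw [qfPlus_apply]; rfl
    rw [hdot, hdot, hM, Sum.elim_comp_inl, Sum.elim_comp_inr, add_dotProduct, dotProduct_comm (S *ᵥ _), hSalt,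
      add_zero]
  let g : GL (Fin (k + k) ⊕ Fin (k + k)) F := ⟨M, M, hMM, hMM⟩
  have hgv : (g : Matrix (Fin (k + k) ⊕ Fin (k + k)) (Fin (k + k) ⊕ Fin (k + k)) F) = M := rfl
  have hmem : g ∈ Cfsg.isometryGroup F (⇑(qfPlus (k + k) F)) := (mem_isometryGroup_iff _ _).2 hiso
  have hg2 : (⟨g, hmem⟩ : Cfsg.isometryGroup F (⇑(qfPlus (k + k) F))) ^ 2 = 1 :=
    Subtype.ext (Units.ext (by rw [SubmonoidClass.coe_pow, sq, Units.val_mul, hgv, hMM]; rfl))
  have hker : ∀ v, M *ᵥ v = v ↔ v ∘ Sum.inr = 0 := fun v => by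
    rw [hM]
    constructor
    · intro h
      exact hS0 _ (add_eq_left.1 (congrArg (· ∘ Sum.inl) h))
    · intro h
      rw [h, mulVec_zero, add_zero, ← h]
      exact Sum.elim_comp_inl_inr v
  have hrank : (M - 1).rank = k + k := by
    have hker' : LinearMap.ker (M - 1).mulVecLin = LinearMap.ker (LinearMap.funLeft F F
        (Sum.inr : Fin (k + k) → Fin (k + k) ⊕ Fin (k + k))) := by
      ext v
      rw [LinearMap.mem_ker, LinearMap.mem_ker, mulVecLin_apply, sub_mulVec, one_mulVec, sub_eq_zero]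
      exact hker v
    have h1 := (M - 1).mulVecLin.finrank_range_add_finrank_ker
    have h3 := (LinearMap.funLeft F F
      (Sum.inr : Fin (k + k) → Fin (k + k) ⊕ Fin (k + k))).finrank_range_add_finrank_ker
    rw [hker'] at h1
    rw [LinearMap.range_eq_top.2 (LinearMap.funLeft_surjective_of_injective F F _ Sum.inr_injective), finrank_top,
      Module.finrank_fin_fun] at h3
    show Module.finrank F (LinearMap.range (M - 1).mulVecLin) = k + k
    omega
  have hΩ := (InvTwo.mem_omega_iff_even (Q := qfPlus (k + k) F) (m := k + k) h2 (qfPlus_sep _)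
    (Or.inr (by simp; omega)) (by simp; omega) ⟨g, hmem⟩ hg2).2
    (by show Even (M - 1).rank; rw [hrank]; exact ⟨k, rfl⟩)
  refine ⟨g, ?_, congrArg Subtype.val hg2, fun h => ?_, fun v hv => ?_⟩
  · rw [show Cfsg.quadFormPlus (k + k) F = ⇑(qfPlus (k + k) F) from funext fun v => (qfPlus_apply _ v).symm]
    exact Subgroup.mem_map_of_mem _ hΩ
  · have h3 : M = 1 := hgv ▸ congrArg Units.val h
    rw [h3, sub_self, rank_zero] at hrank
    omega
  · rw [hgv, hker] at hv
    rw [qfPlus_apply, Cfsg.quadFormPlus]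
    exact Finset.sum_eq_zero fun i _ => by
      rw [show v (.inr i) = 0 from congrFun hv i, mul_zero]

end

/-- Elements of prime order of Ω⁺_n(q), q even, with no fixed nonsingular 1-space. Here `T = PΩ⁺_n(F)`, `n = 2d ≥ 8`, realised through `Ω⁺_n(q)`, the commutator subgroup of the isometry group of `Q = Σ xᵢyᵢ` over the field `F` with `q` elements; an element of `T` of prime order `r` is an element `x` of `Ω⁺_n(q)` with `x^r` scalar and `x` not scalar; `q` is even (so the centre is trivial). Let Ω be the set of 1-dimensional subspaces spanned by a vector `v` with `Q(v) ≠ 0`, and let `r` be a prime dividing their number. Then every element of `T` of order `r` fixes some nonsingular 1-space if and only if `r = 2` and `n ≡ 2 (mod 4)` (that is, `d` is odd). -/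
theorem result {F : Type*} [Field F] [Fintype F] {p : ℕ} [Fact p.Prime] [CharP F p] {q : ℕ} (hq : Fintype.card F = q)
    (hp : p = 2) (d : ℕ) (hd : 4 ≤ d) (r : ℕ) [Fact r.Prime]
    (hrΩ : r ∣ Nat.card {W : Submodule F (Fin d ⊕ Fin d → F) // Module.finrank F ↥W = 1 ∧ ∃ v ∈ W, Cfsg.quadFormPlus d F v ≠ 0}) :
    (∀ x : GL (Fin d ⊕ Fin d) F, x ∈ Cfsg.Geo.omegaGL (Cfsg.quadFormPlus d F) →
      (∃ z : F, ((x ^ r : GL (Fin d ⊕ Fin d) F) : Matrix (Fin d ⊕ Fin d) (Fin d ⊕ Fin d) F) = z • (1 : Matrix (Fin d ⊕ Fin d) (Fin d ⊕ Fin d) F)) →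
      (∀ z : F, (x : Matrix (Fin d ⊕ Fin d) (Fin d ⊕ Fin d) F) ≠ z • (1 : Matrix (Fin d ⊕ Fin d) (Fin d ⊕ Fin d) F)) →
      ∃ W : Submodule F (Fin d ⊕ Fin d → F), (Module.finrank F ↥W = 1 ∧ ∃ v ∈ W, Cfsg.quadFormPlus d F v ≠ 0) ∧ W.map (Matrix.toLin' (x : Matrix (Fin d ⊕ Fin d) (Fin d ⊕ Fin d) F)) ≤ W) ↔ (r = 2 ∧ Odd d) := by
  classical
  subst hp
  have hr : r.Prime := Fact.out
  have h2 : (2 : F) = 0 := by exact_mod_cast CharP.cast_eq_zero F 2
  have hQc : Cfsg.quadFormPlus d F = ⇑(qfPlus d F) := funext fun v => (qfPlus_apply d v).symm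
  have hex : (∃ t : F, t ≠ 0 ∧ t ≠ 1) ∨ Module.finrank F (Fin d ⊕ Fin d → F) ≠ 4 := Or.inr (by simp; omega)
  have hone : ∀ {x : GL (Fin d ⊕ Fin d) F}, x ∈ Cfsg.Geo.omegaGL (Cfsg.quadFormPlus d F) → ∀ v,
      qfPlus d F ((x : Matrix (Fin d ⊕ Fin d) (Fin d ⊕ Fin d) F) *ᵥ v) = qfPlus d F v := by
    intro x hx v
    obtain ⟨y, -, rfl⟩ := hx
    have := (mem_isometryGroup_iff _ _).1 y.2 v
    simpa only [hQc, Subgroup.coe_subtype] using this
  -- a scalar isometry is trivial, and invariant non-singular points are fixed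
  have hscal : ∀ {M : Matrix (Fin d ⊕ Fin d) (Fin d ⊕ Fin d) F},
      (∀ v, qfPlus d F (M *ᵥ v) = qfPlus d F v) → ∀ {z : F}, M = z • 1 → z = 1 := by
    intro M hM z hz
    let v : Fin d ⊕ Fin d → F := Sum.elim (Pi.single ⟨0, by omega⟩ 1) (Pi.single ⟨0, by omega⟩ 1)
    have hv : qfPlus d F v = 1 := by
      simp [v, qfPlus_apply, Cfsg.quadFormPlus, Pi.single_apply]
    have h := hM v
    rw [hz, smul_mulVec, one_mulVec, QuadraticMap.map_smul, hv, smul_eq_mul, mul_one] at h
    exact sub_eq_zero.1 ((mul_self_eq_zero (a := z - 1)).1 (by linear_combination h + (1 - z) * h2))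
  have hfixW : ∀ {x : GL (Fin d ⊕ Fin d) F}, x ∈ Cfsg.Geo.omegaGL (Cfsg.quadFormPlus d F) →
      ∀ W : Submodule F (Fin d ⊕ Fin d → F), (Module.finrank F ↥W = 1 ∧ ∃ v ∈ W, Cfsg.quadFormPlus d F v ≠ 0) →
      W.map (Matrix.toLin' (x : Matrix (Fin d ⊕ Fin d) (Fin d ⊕ Fin d) F)) ≤ W →
      ∃ v, qfPlus d F v ≠ 0 ∧ (x : Matrix (Fin d ⊕ Fin d) (Fin d ⊕ Fin d) F) *ᵥ v = v := by
    rintro x hx W ⟨hW1, v, hv, hQv⟩ hmap
    rw [hQc] at hQv
    have hv0 : (⟨v, hv⟩ : W) ≠ 0 := fun h => hQv (by rw [show v = 0 from congrArg Subtype.val h, map_zero])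
    obtain ⟨c, hc⟩ := (finrank_eq_one_iff_of_nonzero' ⟨v, hv⟩ hv0).1 hW1
      ⟨_, hmap (Submodule.mem_map_of_mem hv)⟩
    have hc' : c • v = (x : Matrix (Fin d ⊕ Fin d) (Fin d ⊕ Fin d) F) *ᵥ v := congrArg Subtype.val hc
    have h := hone hx v
    rw [← hc', QuadraticMap.map_smul, smul_eq_mul] at h
    have hc1 : c = 1 := by
      have : c * c = 1 := mul_right_cancel₀ hQv (h.trans (one_mul _).symm)
      exact sub_eq_zero.1 ((mul_self_eq_zero (a := c - 1)).1 (by linear_combination this + (1 - c) * h2))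
    exact ⟨v, hQv, by rw [← hc', hc1, one_smul]⟩
  constructor
  · intro h
    by_cases hr2 : r = 2
    · refine ⟨hr2, ?_⟩
      subst hr2
      by_contra hodd
      obtain ⟨x, hx, hx2, hx1, hfix⟩ := exists_invol h2 hd (Nat.not_odd_iff_even.1 hodd)
      obtain ⟨W, hW, hmap⟩ := h x hx ⟨1, by rw [hx2, one_smul]; rfl⟩ fun z hz => hx1 (Units.ext (by
        rw [hz, hscal (hone hx) hz, one_smul]; rfl))
      obtain ⟨v, hv, hxv⟩ := hfixW hx W hW hmap
      exact hv (hfix v hxv)
    · exfalso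
      -- the number of points is `q ^ (d - 1) * (q ^ d - 1)`
      have hdvd : r ∣ Fintype.card F ^ d - 1 := by
        have h1 := OmegaElem.card_points_mul (Cfsg.quadFormPlus d F) fun c v => by
          rw [hQc, QuadraticMap.map_smul, smul_eq_mul, sq]
        have h3 := OmegaElem.card_ne_zero (Cfsg.quadFormPlus d F)
        rw [card_quadFormPlus_eq, if_pos rfl, mul_one, Fintype.card_sum, Fintype.card_fin, hq] at h3
        rw [hq] at h1
        obtain ⟨N, hN⟩ := hrΩ
        rw [← h1, hN] at h3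
        obtain ⟨D, rfl⟩ : ∃ D, d = D + 1 := ⟨d - 1, by omega⟩
        obtain ⟨Q', rfl⟩ : ∃ Q', q = Q' + 1 := ⟨q - 1, by have := Fintype.card_pos (α := F); omega⟩
        obtain ⟨P, hP⟩ : ∃ P, (Q' + 1) ^ (D + 1) = P + 1 := ⟨_, (Nat.succ_pred_eq_of_pos (Nat.pow_pos (by omega))).symm⟩
        simp only [Nat.add_sub_cancel, pow_add _ (D + 1) (D + 1), hP] at h3
        have hQ0 : 0 < Q' := by have := Fintype.one_lt_card (α := F); omega
        have h4 : r * N * Q' = P * (Q' + 1) ^ D * Q' := by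
          rw [show (Q' + 1) ^ (D + 1) = (Q' + 1) ^ D * (Q' + 1) from pow_succ _ _] at hP
          nlinarith [h3, hP]
        have h5 : r ∣ P * (Q' + 1) ^ D := ⟨N, (Nat.eq_of_mul_eq_mul_right hQ0 h4).symm⟩
        rw [hq, hP, Nat.add_sub_cancel]
        refine (hr.dvd_mul.1 h5).resolve_right fun h6 => ?_
        have h7 : r ∣ Fintype.card F := by rw [hq]; exact hr.dvd_of_dvd_pow h6
        obtain ⟨f, -, hf⟩ := FiniteField.card F 2
        rw [hf] at h7
        exact hr2 ((Nat.prime_dvd_prime_iff_eq hr Nat.prime_two).1 (hr.dvd_of_dvd_pow h7))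
      obtain ⟨A, hA, hA0⟩ := SemiWitness.exists_fixed (F := F) (p := 2) (e := 0) (B := 1) (r := r)
        (show 0 < d by omega) hdvd
      obtain ⟨AF, hAF⟩ : ∃ AF : Matrix (Fin d) (Fin d) F, AF = A.reindex (finCongr (by omega)) (finCongr (by omega)) :=
        ⟨_, rfl⟩
      have hAr : AF ^ r = 1 := by
        rw [hAF, show A.reindex (finCongr _) (finCongr _) = Matrix.reindexAlgEquiv F F (finCongr (by omega)) A from rfl,
          ← map_pow, hA, map_one]
      have hA1 : ∀ v, AF *ᵥ v = v → v = 0 := fun v hv => by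
        have h1 : LinearMap.ker (Matrix.toLinAlgEquiv' A - 1) = ⊥ := Submodule.finrank_eq_zero.1 hA0
        have h3 : (v ∘ (finCongr (show 0 + d * 1 = d by omega))) ∈ LinearMap.ker (Matrix.toLinAlgEquiv' A - 1) := by
          rw [hAF, show A.reindex (finCongr _) (finCongr _) = A.submatrix (finCongr (show 0 + d * 1 = d by omega)).symm
            (finCongr (show 0 + d * 1 = d by omega)).symm from rfl, submatrix_mulVec_equiv] at hv
          rw [LinearMap.mem_ker, LinearMap.sub_apply, sub_eq_zero]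
          show A *ᵥ _ = _
          funext i
          have := congrFun hv (finCongr (show 0 + d * 1 = d by omega) i)
          simpa using this
        rw [h1, Submodule.mem_bot] at h3
        funext i
        have := congrFun h3 ((finCongr (show 0 + d * 1 = d by omega)).symm i)
        simpa using this
      let U : GL (Fin d) F := Units.ofPowEqOne AF r hAr hr.ne_zero
      have hUv : (U : Matrix (Fin d) (Fin d) F) = AF := rfl
      obtain ⟨Φ, hΦ⟩ := CfsgLib.KnownC.exists_levi (F := F) d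
      have hg : (Φ U) ^ r = 1 := by
        rw [← map_pow, show U ^ r = 1 from Units.ext (by rw [Units.val_pow_eq_pow_val, hUv, hAr]; rfl), map_one]
      obtain ⟨g, hg', hgq⟩ : ∃ g : quadIsoms (qfPlus d F), g ^ r = 1 ∧
          ∀ v, g.1 v = (Φ U).1.1 *ᵥ v := ⟨(orEquiv _).symm (Φ U), by rw [← map_pow, hg, map_one], fun v => by
            rw [← orEquiv_mulVec, MulEquiv.apply_symm_apply]⟩
      obtain ⟨x, hx, hxr, hxv⟩ := OmegaElem.exists_gl (qfPlus d F) (qfPlus_sep d) hex (by simp; omega) hr hr2 g.2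
        (by rw [← SubmonoidClass.coe_pow, hg']; rfl)
      rw [← hQc] at hx
      have hfix : ∀ v, (x : Matrix (Fin d ⊕ Fin d) (Fin d ⊕ Fin d) F) *ᵥ v = v → v = 0 := by
        intro v hv
        rw [hxv, hgq, hΦ, hUv, fromBlocks_mulVec, zero_mulVec, zero_mulVec, add_zero, zero_add] at hv
        have ha := congrArg (· ∘ Sum.inl) hv
        have hb := congrArg (· ∘ Sum.inr) hv
        simp only [Sum.elim_comp_inl, Sum.elim_comp_inr] at ha hb
        have ha0 := hA1 _ ha
        -- `w = A⁻ᵀ w` forces `Aᵀ w = w`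
        have hdetA : IsUnit AF.det := (isUnit_iff_isUnit_det _).1 (hUv ▸ U.isUnit)
        have hb' : AFᵀ *ᵥ (v ∘ Sum.inr) = v ∘ Sum.inr := by
          conv_lhs => rw [← hb]
          rw [mulVec_mulVec, ← transpose_mul, nonsing_inv_mul _ hdetA, transpose_one, one_mulVec]
        have hb0 : v ∘ Sum.inr = 0 := by
          by_contra hne
          have hdet : (AFᵀ - 1).det = 0 := exists_mulVec_eq_zero_iff.1 ⟨_, hne, by
            rw [sub_mulVec, hb', one_mulVec, sub_self]⟩
          rw [show AFᵀ - 1 = (AF - 1)ᵀ by rw [transpose_sub, transpose_one], det_transpose] at hdet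
          obtain ⟨w, hw, hw0⟩ := exists_mulVec_eq_zero_iff.2 hdet
          rw [sub_mulVec, one_mulVec, sub_eq_zero] at hw0
          exact hw (hA1 _ hw0)
        funext i
        rcases i with i | i
        · exact congrFun ha0 i
        · exact congrFun hb0 i
      obtain ⟨W, hW, hmap⟩ := h x hx ⟨1, by rw [hxr, one_smul]; rfl⟩ fun z hz => by
        let w : Fin d ⊕ Fin d → F := Pi.single (.inl ⟨0, by omega⟩) 1
        have := hfix w (by rw [hz, hscal (hone hx) hz, one_smul, one_mulVec])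
        simpa [w] using congrFun this (.inl ⟨0, by omega⟩)
      obtain ⟨v, hv, hxv'⟩ := hfixW hx W hW hmap
      exact hv (by rw [hfix v hxv', map_zero])
  · rintro ⟨rfl, hodd⟩ x hx ⟨z, hz⟩ -
    have hz1 : z = 1 := hscal (fun v => hone (pow_mem hx 2) v) hz
    rw [hz1, one_smul] at hz
    have hTT : Matrix.toLinAlgEquiv' (x : Matrix (Fin d ⊕ Fin d) (Fin d ⊕ Fin d) F) *
        Matrix.toLinAlgEquiv' (x : Matrix (Fin d ⊕ Fin d) (Fin d ⊕ Fin d) F) = 1 := by
      rw [← map_mul, ← Units.val_mul, ← sq, hz, map_one]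
    by_contra hno
    refine Nat.not_even_iff_odd.2 hodd (even_of_fixed_ts h2
      (T := Matrix.toLinAlgEquiv' (x : Matrix (Fin d ⊕ Fin d) (Fin d ⊕ Fin d) F))
      (fun v => hone hx v) hTT fun v hv => ?_)
    by_contra hQv
    have hv0 : v ≠ 0 := fun h => hQv (by rw [h, map_zero])
    refine hno ⟨Submodule.span F {v}, ⟨finrank_span_singleton hv0, v, Submodule.mem_span_singleton_self v,
      by rwa [hQc]⟩, ?_⟩
    rw [Submodule.map_span, Submodule.span_le, Set.image_singleton, Set.singleton_subset_iff]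
    show Matrix.toLinAlgEquiv' (x : Matrix (Fin d ⊕ Fin d) (Fin d ⊕ Fin d) F) v ∈ Submodule.span F {v}
    rw [hv]
    exact Submodule.mem_span_singleton_self v

end Cfsg.Agent.S5985
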