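import Cfsg.Statements.S5983
import Cfsg.Agent.Lib.MaxSub.FormsTwo
import Cfsg.Agent.Lib.MaxSub.IsoWitness
import Cfsg.Agent.Lib.MaxSub.IsoNDStd
import Cfsg.Agent.Lib.KnownA.SpStemL
import Cfsg.Agent.Lib.Classical.OrthOrder
import Cfsg.Agent.Lib.Classical.FormStab
import Cfsg.Agent.S5985
import Cfsg.Agent.S5955
import Cfsg.Agent.Lib.Geom.PlusTS
-- import your own Cfsg.Agent.* helpers here

set_option autoImplicit false
open scoped MatrixGroups
open Cfsg

namespace Cfsg.Agent.S5983

open CfsgLib CfsgLib.MaxSub CfsgLib.MaxSub.IsoType CfsgLib.Classical CfsgLib.Geom CfsgLib.KnownC CfsgLib.KnownC.OrthType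
open Matrix
open QuadraticMap (polar)

section

variable {F : Type*} [Field F] [Fintype F] {d : ℕ}

theorem mem_spGL {g : GL (Fin d ⊕ Fin d) F} : g ∈ Cfsg.spGL d F ↔ ∀ u v, Cfsg.sympForm d F
    ((g : Matrix (Fin d ⊕ Fin d) (Fin d ⊕ Fin d) F) *ᵥ u) ((g : Matrix (Fin d ⊕ Fin d) (Fin d ⊕ Fin d) F) *ᵥ v) =
      Cfsg.sympForm d F u v := Iff.rfl

theorem finrank_V : Module.finrank F (Fin d ⊕ Fin d → F) = 2 * d := by simp; omega

theorem card_spGL : Nat.card ↥(Cfsg.spGL d F) = Nat.card (Matrix.symplecticGroup (Fin d) F) := by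
  have hmem : ∀ g : GL (Fin d ⊕ Fin d) F, g ∈ Cfsg.spGL d F →
      (g : Matrix (Fin d ⊕ Fin d) (Fin d ⊕ Fin d) F) ∈ Matrix.symplecticGroup (Fin d) F := fun g hg => by
    rw [SymplecticGroup.mem_iff']
    refine Matrix.ext fun i j => ?_
    have h := mem_spGL.1 hg (Pi.single i 1) (Pi.single j 1)
    rw [Cfsg.sympForm, Cfsg.sympForm, Matrix.mulVec_mulVec, Matrix.dotProduct_mulVec, Matrix.vecMul_mulVec,
      ← Matrix.dotProduct_mulVec, single_one_dotProduct, single_one_dotProduct, mulVec_single_one,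
      mulVec_single_one, ← Matrix.mul_assoc] at h
    exact h
  refine Nat.card_congr (Equiv.ofBijective (fun g => ⟨_, hmem g.1 g.2⟩) ⟨fun a b h => ?_, fun A => ?_⟩)
  · exact Subtype.ext (Units.ext (congrArg Subtype.val h))
  · refine ⟨⟨⟨A.1, (A⁻¹ : ↥(Matrix.symplecticGroup (Fin d) F)).1, congrArg Subtype.val (mul_inv_cancel A),
      congrArg Subtype.val (inv_mul_cancel A)⟩, mem_spGL.2 fun u v => ?_⟩, rfl⟩
    have h := S5955.sympBilin_mulVec A u v
    rwa [Geom.sympBilin_apply, Geom.sympBilin_apply] at h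

variable {Q : QuadraticForm F (Fin d ⊕ Fin d → F)} (hQf : ∀ u v, polar Q u v = Cfsg.sympForm d F u v)
  (hsep : ∀ x, (∀ y, polar Q x y = 0) → x = 0)
include hQf hsep

/-- Conjugates preserving `Q` up to scalars correspond to invariant forms of the same type. -/
theorem conj_iff (hd : 0 < d) {x : GL (Fin d ⊕ Fin d) F} (hx : x ∈ Cfsg.spGL d F) :
    (∃ g ∈ Cfsg.spGL d F, g⁻¹ * x * g ∈ Cfsg.Geo.quadSimilarityGroup (⇑Q)) ↔
      ∃ Q' : QuadraticForm F (Fin d ⊕ Fin d → F), (∀ u v, polar Q' u v = polar Q u v) ∧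
        (∀ v, Q' ((x : Matrix (Fin d ⊕ Fin d) (Fin d ⊕ Fin d) F) *ᵥ v) = Q' v) ∧
        (HasHalf Q' ⊤ ↔ HasHalf Q ⊤) := by
  classical
  constructor
  · rintro ⟨g, hg, c, hc⟩
    have hy := mul_mem (mul_mem (inv_mem hg) hx) hg
    obtain ⟨u, v, huv⟩ : ∃ u v, Cfsg.sympForm d F u v ≠ 0 := by
      by_contra h
      push Not at h
      have := hsep (Pi.single (Sum.inl ⟨0, hd⟩) 1) fun y => by rw [hQf, h]
      simpa using congrFun this (Sum.inl ⟨0, hd⟩)
    have hc1 : (c : F) = 1 := by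
      have h : polar Q (((g⁻¹ * x * g : GL _ F) : Matrix _ _ F) *ᵥ u)
          (((g⁻¹ * x * g : GL _ F) : Matrix _ _ F) *ᵥ v) = (c : F) * polar Q u v := by
        simp only [QuadraticMap.polar, ← mulVec_add, hc]
        ring
      rw [hQf, hQf, mem_spGL.1 hy] at h
      exact mul_right_cancel₀ huv (h.symm.trans (one_mul _).symm)
    let e : (Fin d ⊕ Fin d → F) ≃ₗ[F] (Fin d ⊕ Fin d → F) := LinearEquiv.ofLinear
      (Matrix.toLin' ((g⁻¹ : GL _ F) : Matrix _ _ F)) (Matrix.toLin' (g : Matrix _ _ F))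
      (by rw [← Matrix.toLin'_mul, ← Units.val_mul, inv_mul_cancel, Units.val_one, Matrix.toLin'_one])
      (by rw [← Matrix.toLin'_mul, ← Units.val_mul, mul_inv_cancel, Units.val_one, Matrix.toLin'_one])
    have he : ∀ w, e w = ((g⁻¹ : GL _ F) : Matrix _ _ F) *ᵥ w := fun w => rfl
    refine ⟨Q.comp e.toLinearMap, fun u v => ?_, fun v => ?_, ?_⟩
    · show Q (e (u + v)) - Q (e u) - Q (e v) = _
      rw [map_add, ← QuadraticMap.polar, hQf, he, he, mem_spGL.1 (inv_mem hg), hQf]
    · show Q (e _) = Q (e v)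
      rw [he, he, mulVec_mulVec, ← Units.val_mul,
        show g⁻¹ * x = (g⁻¹ * x * g) * g⁻¹ by rw [mul_assoc, mul_inv_cancel, mul_one], Units.val_mul,
        ← mulVec_mulVec, hc, hc1, one_mul]
    · have hsep' : ∀ z, (∀ y, polar (Q.comp e.toLinearMap) z y = 0) → z = 0 := fun z hz => by
        refine e.map_eq_zero_iff.1 (hsep _ fun y => ?_)
        have h := hz (e.symm y)
        rw [show polar (Q.comp e.toLinearMap) z (e.symm y) = polar Q (e z) (e (e.symm y)) by
          simp [QuadraticMap.polar], e.apply_symm_apply] at h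
        exact h
      rw [← isPlus_iff_hasHalf _ hsep' finrank_V, ← isPlus_iff_hasHalf _ hsep finrank_V]
      exact ⟨fun h => isPlus_congr h e fun v => rfl,
        fun h => isPlus_congr h e.symm fun v => congrArg Q (e.apply_symm_apply v)⟩
  · rintro ⟨Q', hp, hinv, hty⟩
    obtain ⟨e, he⟩ := FormsTwo.exists_isometry Q Q' hsep (fun z hz => hsep z fun y => (hp z y).symm.trans (hz y))
      finrank_V hty.symm
    obtain ⟨E, hE⟩ : ∃ E, E = glOfEquiv e := ⟨_, rfl⟩
    have hEv : ∀ v, (E : Matrix _ _ F) *ᵥ v = e v := fun v => hE ▸ glOfEquiv_mulVec e v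
    have hEmem : E ∈ Cfsg.spGL d F := mem_spGL.2 fun u v => by
      rw [hEv, hEv, ← hQf, ← hQf, ← hp u v]
      simp only [QuadraticMap.polar, ← map_add, he]
    refine ⟨E⁻¹, inv_mem hEmem, 1, fun v => ?_⟩
    have hEE : e (((E⁻¹ : GL _ F) : Matrix _ _ F) *ᵥ v) = v := by
      rw [← hEv, mulVec_mulVec, ← Units.val_mul, mul_inv_cancel, Units.val_one, one_mulVec]
    rw [inv_inv, Units.val_mul, Units.val_mul, ← mulVec_mulVec, ← mulVec_mulVec, hEv, he, hinv, ← he, hEE,
      Units.val_one, one_mul]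

/-- The order relation between the two groups. -/
theorem index_mul (hd : 0 < d) : (Cfsg.Geo.quadSimilarityGroup (⇑Q)).relIndex (Cfsg.spGL d F) *
    Nat.card (quadIsoms Q) = Fintype.card F ^ (d ^ 2) *
      ∏ i ∈ Finset.range d, (Fintype.card F ^ (2 * (i + 1)) - 1) := by
  classical
  obtain ⟨H, hH⟩ : ∃ H, H = Cfsg.Geo.quadSimilarityGroup (⇑Q) ⊓ Cfsg.spGL d F := ⟨_, rfl⟩
  have hHI : H = Cfsg.isometryGroup F (⇑Q) := by
    ext g
    rw [mem_isometryGroup_iff, hH, Subgroup.mem_inf]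
    constructor
    · rintro ⟨⟨c, hc⟩, hg⟩
      obtain ⟨u, v, huv⟩ : ∃ u v, Cfsg.sympForm d F u v ≠ 0 := by
        by_contra h
        push Not at h
        have := hsep (Pi.single (Sum.inl ⟨0, hd⟩) 1) fun y => by rw [hQf, h]
        simpa using congrFun this (Sum.inl ⟨0, hd⟩)
      have h : polar Q ((g : Matrix _ _ F) *ᵥ u) ((g : Matrix _ _ F) *ᵥ v) = (c : F) * polar Q u v := by
        simp only [QuadraticMap.polar, ← mulVec_add, hc]
        ring
      rw [hQf, hQf, mem_spGL.1 hg] at h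
      intro w
      rw [hc, mul_right_cancel₀ huv (h.symm.trans (one_mul _).symm), one_mul]
    · intro h
      refine ⟨⟨1, fun v => by rw [h, Units.val_one, one_mul]⟩, mem_spGL.2 fun u v => ?_⟩
      rw [← hQf, ← hQf]
      simp only [QuadraticMap.polar, ← mulVec_add, h]
  rw [← Subgroup.inf_relIndex_right, ← hH, ← KnownA.SpStemL.card_sp, ← card_spGL,
    ← card_isometryGroup_eq (⇑Q) Q fun _ => rfl, ← hHI, mul_comm, Subgroup.relIndex]
  have hle : H ≤ Cfsg.spGL d F := hH ▸ inf_le_right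
  rw [← Nat.card_congr (Subgroup.subgroupOfEquivOfLe hle).toEquiv, Subgroup.card_mul_index]

/-- The arithmetic consequence. -/
theorem dvd_of_index {r : ℕ} (hr : r.Prime) (hr2 : r ≠ 2) (hrq : ¬ r ∣ Fintype.card F) (hd : 0 < d)
    (h : r ∣ (Cfsg.Geo.quadSimilarityGroup (⇑Q)).relIndex (Cfsg.spGL d F)) :
    (HasHalf Q ⊤ → r ∣ Fintype.card F ^ d + 1) ∧ (¬ HasHalf Q ⊤ → r ∣ Fintype.card F ^ d - 1) := by
  obtain ⟨k, rfl⟩ : ∃ k, d = k + 1 := ⟨d - 1, by omega⟩
  have hN := index_mul hQf hsep hd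
  obtain ⟨N, hNdef⟩ : ∃ N, N = (Cfsg.Geo.quadSimilarityGroup (⇑Q)).relIndex (Cfsg.spGL (k + 1) F) := ⟨_, rfl⟩
  rw [← hNdef] at h hN
  obtain ⟨q, hq⟩ : ∃ q, q = Fintype.card F := ⟨_, rfl⟩
  have hq1 : 1 < q := hq ▸ Fintype.one_lt_card
  have hP : 0 < ∏ i ∈ Finset.range k, (q ^ (2 * (i + 1)) - 1) := Finset.prod_pos fun i _ => by
    have := Nat.one_lt_pow (n := 2 * (i + 1)) (by omega) hq1
    omega
  obtain ⟨A, hA⟩ : ∃ A, q ^ (k + 1) = A + 1 :=
    ⟨_, (Nat.sub_add_cancel (Nat.one_le_pow _ _ (by omega))).symm⟩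
  have hA0 : 0 < A := by have := Nat.one_lt_pow (n := k + 1) (by omega) hq1; omega
  rw [Finset.prod_range_succ, ← hq, show (k + 1) ^ 2 = (k + 1) * k + (k + 1) by ring,
    pow_add q ((k + 1) * k), show q ^ (2 * (k + 1)) - 1 = A * (A + 2) from
      Nat.sub_eq_of_eq_add (by rw [mul_comm 2, pow_mul, hA]; ring)] at hN
  have hpos : 0 < q ^ ((k + 1) * k) * ∏ i ∈ Finset.range k, (q ^ (2 * (i + 1)) - 1) :=
    Nat.mul_pos (Nat.pow_pos (by omega)) hP
  have hfin : ∀ B C : ℕ, B * C = A * (A + 2) → 0 < C → r ∣ 2 * N →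
      N * (2 * C) = q ^ (k + 1) * (B * C) → r ∣ B := fun B C _ hC h2 he => by
    have h3 : 2 * N = q ^ (k + 1) * B := Nat.eq_of_mul_eq_mul_right hC (by linear_combination he)
    rw [h3] at h2
    exact (hr.dvd_mul.1 h2).resolve_left fun h4 => hrq (hq ▸ hr.dvd_of_dvd_pow h4)
  obtain ⟨a, b, hab⟩ := exists_anisotropic_binary (F := F)
  constructor
  · intro hh
    obtain ⟨e, he⟩ := (isPlus_iff_hasHalf Q hsep finrank_V).2 hh
    rw [← card_quadIsoms_congr _ Q e he, card_qfPlus_isoms k, ← hq, hA, Nat.add_sub_cancel] at hN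
    rw [← hq, hA, show A + 1 + 1 = A + 2 from rfl]
    exact hfin (A + 2) A (mul_comm _ _) hA0 (h.trans (dvd_mul_left N 2)) (Nat.eq_of_mul_eq_mul_right hpos (by
      rw [hA]; linear_combination hN))
  · intro hh
    obtain ⟨l, hl, hM⟩ := (dichotomy Q hsep finrank_V).resolve_left (mt (isPlus_iff_hasHalf Q hsep finrank_V).1 hh)
    obtain rfl : l = k := by omega
    obtain ⟨e, he⟩ := hM a b hab
    rw [← card_quadIsoms_congr _ Q e he, card_qfMinus_isoms hab l, ← hq, hA] at hN
    rw [← hq, hA, Nat.add_sub_cancel]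
    exact hfin A (A + 2) rfl (by omega) (h.trans (dvd_mul_left N 2)) (Nat.eq_of_mul_eq_mul_right hpos (by
      rw [hA]; linear_combination hN))

end

section

variable {F : Type*} [Field F] [Fintype F]

theorem zmod_arith {r q l : ℕ} [Fact r.Prime] (hr2 : r ≠ 2) :
    ((q : ZMod r) ^ (l + 1) = -1 → q ^ (l + 1) + (q ^ (l + 1) - 1) * q ^ l ≡ 1 [MOD r] → 0 < q → False) ∧
    ((q : ZMod r) ^ (l + 1) = 1 → q ^ l + (q ^ l - 1) * q ^ (l - 1) * q ^ 2 ≡ 1 [MOD r] → 0 < q → 0 < l →
      (q : ZMod r) = 1) := by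
  have h2 : (2 : ZMod r) ≠ 0 := fun h => hr2 ((Nat.prime_dvd_prime_iff_eq (Fact.out : r.Prime) Nat.prime_two).1
    ((ZMod.natCast_eq_zero_iff 2 r).1 (by exact_mod_cast h)))
  refine ⟨fun h hm hq => ?_, fun h hm hq hl => ?_⟩
  · rw [← ZMod.natCast_eq_natCast_iff, Nat.cast_add, Nat.cast_mul, Nat.cast_sub (Nat.one_le_pow _ _ hq)] at hm
    push_cast at hm
    rw [h] at hm
    have h3 : (2 : ZMod r) * ((q : ZMod r) ^ l + 1) = 0 := by linear_combination -hm
    have h4 : (q : ZMod r) ^ l = -1 := eq_neg_of_add_eq_zero_left ((mul_eq_zero.1 h3).resolve_left h2)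
    rw [pow_succ, h4] at h
    have h5 : (q : ZMod r) = 1 := by linear_combination -h
    rw [h5, one_pow] at h4
    exact h2 (by linear_combination h4)
  · rw [← ZMod.natCast_eq_natCast_iff, Nat.cast_add, Nat.cast_mul, Nat.cast_mul,
      Nat.cast_sub (Nat.one_le_pow _ _ hq)] at hm
    push_cast at hm
    rw [mul_assoc, ← pow_add, show l - 1 + 2 = l + 1 by omega, h] at hm
    have h3 : (2 : ZMod r) * ((q : ZMod r) ^ l - 1) = 0 := by linear_combination hm
    rw [pow_succ, sub_eq_zero.1 ((mul_eq_zero.1 h3).resolve_left h2), one_mul] at h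
    exact h

end

/-- Elements of prime order of PSp_n(q), q even, and the subgroups of orthogonal type. Here `T = Sp_{2d}(F)` for a field `F` of characteristic 2 with `q` elements (`d ≥ 2`, `(d, q) ≠ (2, 2)`), realised as the invertible matrices preserving the standard alternating form; `Q` is a non-degenerate quadratic form on `F^{2d}` whose polar form is that alternating form, and `H` is the subgroup of `T` preserving `Q` up to a scalar (equivalently preserving `Q`) — a subgroup of type O^±_{2d}(q) (maximality is not assumed); `Q` is of plus type when `F^{2d}` contains a `d`-dimensional subspace on which `Q` vanishes, of minus type otherwise. Ω is the set of cosets of `H` in `T`, so an element of `T` of prime order `r` (`x ∈ T` with `x^r` scalar, `x` not scalar) fixes a point of Ω exactly when some `T`-conjugate of `x` preserves `Q`. Let `r` be a prime dividing the index of `H`. Then every element of `T` of order `r` fixes a point of Ω if and only if `r = 2`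 and either `Q` is of plus type or `d` is odd. -/
theorem result {F : Type*} [Field F] [Fintype F] {p : ℕ} [Fact p.Prime] [CharP F p] {q : ℕ} (hq : Fintype.card F = q)
    (hp : p = 2) (d : ℕ) (hd : 2 ≤ d) (hT : (d, q) ≠ (2, 2)) (Q : (Fin d ⊕ Fin d → F) → F) (hQ : Cfsg.Geo.IsNondegenerateQuadraticForm Q)
    (hQf : ∀ u v, QuadraticMap.polar Q u v = Cfsg.sympForm d F u v)
    (r : ℕ) [Fact r.Prime]
    (hΩ : r ∣ (Cfsg.Geo.quadSimilarityGroup Q).relIndex (Cfsg.spGL d F)) :
    (∀ x ∈ Cfsg.spGL d F, (∃ z : F, ((x ^ r : GL (Fin d ⊕ Fin d) F) : Matrix (Fin d ⊕ Fin d) (Fin d ⊕ Fin d) F) = z • (1 : Matrix (Fin d ⊕ Fin d) (Fin d ⊕ Fin d) F)) →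
      (∀ z : F, (x : Matrix (Fin d ⊕ Fin d) (Fin d ⊕ Fin d) F) ≠ z • (1 : Matrix (Fin d ⊕ Fin d) (Fin d ⊕ Fin d) F)) →
      ∃ g ∈ Cfsg.spGL d F, g⁻¹ * x * g ∈ Cfsg.Geo.quadSimilarityGroup Q) ↔
    (r = 2 ∧ (Cfsg.Geo.IsPlusTypeOn Q ⊤ ∨ Odd d)) := by
  classical
  subst hp hq
  have hr : r.Prime := Fact.out
  have h2 : (2 : F) = 0 := CharP.cast_eq_zero F 2
  obtain ⟨R, hR⟩ : ∃ R, R = quadFormOf hQ := ⟨_, rfl⟩
  obtain rfl : Q = ⇑R := by rw [hR, quadFormOf_coe]
  have hsep : ∀ z, (∀ y, polar R z y = 0) → z = 0 := fun z hz =>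
    quadFormOf_sep hQ z fun y => by rw [quadFormOf_coe]; exact hz y
  have hplus : Cfsg.Geo.IsPlusTypeOn (⇑R) ⊤ ↔ HasHalf R ⊤ := Iff.rfl
  have hk : Module.finrank F (Fin d ⊕ Fin d → F) = 2 * d := finrank_V
  rw [hplus]
  -- scalars in `Sp` are trivial
  have hscal : ∀ {y : GL (Fin d ⊕ Fin d) F}, y ∈ Cfsg.spGL d F → ∀ {z : F},
      (y : Matrix (Fin d ⊕ Fin d) (Fin d ⊕ Fin d) F) = z • 1 → z = 1 := by
    intro y hy z hz
    obtain ⟨u, v, huv⟩ : ∃ u v, Cfsg.sympForm d F u v ≠ 0 := by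
      by_contra h
      push Not at h
      have := hsep (Pi.single (Sum.inl ⟨0, by omega⟩) 1) fun y => by rw [hQf, h]
      simpa using congrFun this (Sum.inl ⟨0, by omega⟩)
    have h := mem_spGL.1 hy u v
    simp only [hz, smul_mulVec, one_mulVec, ← hQf, QuadraticMap.polar_smul_left, QuadraticMap.polar_smul_right,
      smul_eq_mul] at h
    have h1 : z * z = 1 := mul_right_cancel₀ (show polar R u v ≠ 0 by rwa [hQf]) (by linear_combination h)
    exact sub_eq_zero.1 ((mul_self_eq_zero (a := z - 1)).1 (by linear_combination h1 + (1 - z) * h2))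
  constructor
  · intro hall
    by_cases hr2 : r = 2
    · subst hr2
      refine ⟨rfl, ?_⟩
      by_contra hno
      push Not at hno
      obtain ⟨hmin, hev⟩ := hno
      obtain ⟨k, rfl⟩ := Nat.not_odd_iff_even.1 hev
      let e : Fin (k + k) ≃ Fin k ⊕ Fin k := finSumFinEquiv.symm
      let S : Matrix (Fin (k + k)) (Fin (k + k)) F := (J (Fin k) F).submatrix e e
      have hneg : ∀ a : F, -a = a := fun a => by linear_combination (-a) * h2
      have hSt : Sᵀ = S := by
        rw [transpose_submatrix, Matrix.J_transpose]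
        exact Matrix.ext fun i j => hneg _
      have hS0 : ∀ i, S i i = 0 := fun i => by
        show J (Fin k) F (e i) (e i) = 0
        rcases e i with j | j <;> simp [Matrix.J]
      have hSu : IsUnit S.det := by
        rw [det_submatrix_equiv_self]; exact isUnit_det_J _ _
      have hdot : ∀ u w : Fin (k + k) ⊕ Fin (k + k) → F, Cfsg.sympForm (k + k) F u w =
          (u ∘ Sum.inl) ⬝ᵥ (w ∘ Sum.inr) + (u ∘ Sum.inr) ⬝ᵥ (w ∘ Sum.inl) := fun u w => by
        simp only [Cfsg.sympForm, Matrix.J, fromBlocks_mulVec, zero_mulVec, neg_mulVec, one_mulVec, zero_add,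
          add_zero, dotProduct, Fintype.sum_sum_type, Sum.elim_inl, Sum.elim_inr, Pi.neg_apply, hneg,
          Function.comp_apply]
      let M : Matrix (Fin (k + k) ⊕ Fin (k + k)) (Fin (k + k) ⊕ Fin (k + k)) F := fromBlocks 1 S 0 1
      have hM : ∀ v, M *ᵥ v = Sum.elim (v ∘ Sum.inl + S *ᵥ (v ∘ Sum.inr)) (v ∘ Sum.inr) := fun v => by
        simp [M, fromBlocks_mulVec]
      have hMM : M * M = 1 := by
        rw [fromBlocks_multiply, ← fromBlocks_one]
        simp only [one_mul, mul_one, mul_zero, add_zero, zero_add, zero_mul]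
        congr 1
        ext i j
        show S i j + S i j = 0
        linear_combination (S i j) * h2
      let x : GL (Fin (k + k) ⊕ Fin (k + k)) F := ⟨M, M, hMM, hMM⟩
      have hx : x ∈ Cfsg.spGL (k + k) F := mem_spGL.2 fun u w => by
        show Cfsg.sympForm _ F (M *ᵥ u) (M *ᵥ w) = _
        rw [hM, hM, hdot, hdot, Sum.elim_comp_inl, Sum.elim_comp_inr, Sum.elim_comp_inl, Sum.elim_comp_inr,
          add_dotProduct, dotProduct_add, dotProduct_mulVec (u ∘ Sum.inr), ← mulVec_transpose, hSt]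
        linear_combination ((S *ᵥ (u ∘ Sum.inr)) ⬝ᵥ (w ∘ Sum.inr)) * h2
      have hx1 : x ≠ 1 := fun h => by
        have h3 : S = 0 := by
          have h4 : M = 1 := congrArg Units.val h
          rw [← fromBlocks_one] at h4
          exact (fromBlocks_inj.1 h4).2.1
        haveI : Nonempty (Fin (k + k)) := ⟨⟨0, by omega⟩⟩
        rw [h3, det_zero] at hSu
        exact not_isUnit_zero hSu
      obtain ⟨Q', hp, hinv, hty⟩ := (conj_iff hQf hsep (by omega) hx).1 (hall x hx
        ⟨1, by rw [one_smul, show x ^ 2 = 1 from Units.ext (by rw [sq]; exact hMM)]; rfl⟩ fun z hz => hx1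
          (Units.ext (by rw [hz, hscal hx hz, one_smul]; rfl)))
      refine hmin (hty.1 ⟨LinearMap.range (Matrix.toLin' (M - 1)), le_top, ?_, ?_⟩)
      · rintro _ ⟨v, rfl⟩
        have hpol : Cfsg.sympForm (k + k) F v ((M - 1) *ᵥ v) = 0 := by
          rw [sub_mulVec, one_mulVec, hdot, hM, Pi.sub_comp, Pi.sub_comp, Sum.elim_comp_inl, Sum.elim_comp_inr,
            sub_self, dotProduct_zero, zero_add, add_sub_cancel_left, dotProduct_mulVec]
          have hS2 : ∀ a, a ᵥ* S ⬝ᵥ a = 0 := fun a => by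
            have h : a ⬝ᵥ S *ᵥ a = (a ∘ e.symm) ⬝ᵥ J (Fin k) F *ᵥ (a ∘ e.symm) := by
              rw [show S *ᵥ a = (J (Fin k) F *ᵥ (a ∘ e.symm)) ∘ e by
                rw [show S = (J (Fin k) F).submatrix e e from rfl, submatrix_mulVec_equiv]]
              exact Fintype.sum_equiv e _ _ fun i => by simp [Function.comp_apply]
            rw [← dotProduct_mulVec, h, dotProduct, Fintype.sum_sum_type, J]
            simp only [fromBlocks_mulVec, zero_mulVec, Sum.elim_inl, Sum.elim_inr, zero_add, add_zero, neg_mulVec,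
              one_mulVec, Pi.neg_apply, Function.comp_apply, hneg]
            rw [← Finset.sum_add_distrib]
            exact Finset.sum_eq_zero fun i _ => by linear_combination (a (e.symm (.inl i)) * a (e.symm (.inr i))) * h2
          exact hS2 _
        have h := hinv v
        have h5 : (x : Matrix _ _ F) *ᵥ v = v + (M - 1) *ᵥ v := by
          rw [sub_mulVec, one_mulVec, add_sub_cancel]
        rw [h5, QuadraticMap.map_add Q', hp, hQf, hpol, add_zero, add_eq_left] at h
        exact h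
      · have hrk : LinearMap.range (Matrix.toLin' (M - 1)) =
            LinearMap.range (LinearMap.pi fun i : Fin (k + k) ⊕ Fin (k + k) => Sum.elim
              (fun j => LinearMap.proj (R := F) (φ := fun _ : Fin (k + k) => F) j) (fun _ => 0) i) := by
          refine le_antisymm ?_ ?_
          · rintro _ ⟨v, rfl⟩
            refine ⟨S *ᵥ (v ∘ Sum.inr), funext fun i => ?_⟩
            rw [toLin'_apply, sub_mulVec, one_mulVec, hM]
            rcases i with i | i <;> simp
          · rintro _ ⟨w, rfl⟩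
            refine ⟨Sum.elim 0 (S⁻¹ *ᵥ w), funext fun i => ?_⟩
            rw [toLin'_apply, sub_mulVec, one_mulVec, hM, Sum.elim_comp_inr, mulVec_mulVec,
              mul_nonsing_inv _ hSu, one_mulVec]
            rcases i with i | i <;> simp
        rw [hrk, LinearMap.finrank_range_of_inj, finrank_top, hk, Module.finrank_fin_fun]
        intro a b hab
        funext i
        simpa using congrFun hab (Sum.inl i)
    · exfalso
      have hrq : ¬ r ∣ Fintype.card F := fun h => by
        obtain ⟨n, -, hn⟩ := FiniteField.card F 2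
        rw [hn] at h
        exact hr2 ((Nat.prime_dvd_prime_iff_eq hr Nat.prime_two).1 (hr.dvd_of_dvd_pow h))
      obtain ⟨hpl, hmi⟩ := dvd_of_index hQf hsep hr hr2 hrq (by omega) hΩ
      -- fixed-point-free elements of order `r`
      obtain ⟨i, hi⟩ : ∃ i, i = orderOf (Fintype.card F : ZMod r) := ⟨_, rfl⟩
      have hq2d : (Fintype.card F : ZMod r) ^ (2 * d) = 1 := by
        by_cases hh : HasHalf R ⊤
        · have := (ZMod.natCast_eq_zero_iff _ r).2 (hpl hh)
          push_cast at this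
          rw [mul_comm, pow_mul, eq_neg_of_add_eq_zero_left this]
          ring
        · have := (ZMod.natCast_eq_zero_iff _ r).2 (hmi hh)
          rw [Nat.cast_sub (Nat.one_le_pow _ _ Fintype.card_pos)] at this
          push_cast at this
          rw [mul_comm, pow_mul, sub_eq_zero.1 this, one_pow]
      obtain ⟨M, hM⟩ : ∃ M, 2 * d = (if Even i then i else 2 * i) * M := by
        have h1 : i ∣ 2 * d := hi ▸ orderOf_dvd_of_pow_eq_one hq2d
        split_ifs with hev
        · exact h1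
        · exact mul_dvd_mul_left 2 ((Nat.coprime_two_right.2 (Nat.not_even_iff_odd.1 hev)).dvd_of_dvd_mul_left h1)
      obtain ⟨A, hA, hAe⟩ := IsoWitness.exists_symp_block (F := F) (p := 2) (d := d) hr2 hr2 hi rfl
        (e := 0) (M := M) (by omega) ⟨0, rfl⟩
      have hfix : ∀ v, (A : Matrix (Fin d ⊕ Fin d) (Fin d ⊕ Fin d) F) *ᵥ v = v → v = 0 := fun v hv => by
        have h1 := Submodule.finrank_eq_zero.1 (Nat.le_zero.1 hAe)
        rw [← Submodule.mem_bot F, ← h1, LinearMap.mem_ker, LinearMap.sub_apply, sub_eq_zero]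
        exact hv
      let f : (Fin d ⊕ Fin d → F) ≃ₗ[F] (Fin d ⊕ Fin d → F) := LinearEquiv.ofLinear
        (Matrix.toLin' (A : Matrix (Fin d ⊕ Fin d) (Fin d ⊕ Fin d) F)) (Matrix.toLin' ((A⁻¹ : ↥(Matrix.symplecticGroup (Fin d) F)) : Matrix (Fin d ⊕ Fin d) (Fin d ⊕ Fin d) F))
        (by rw [← Matrix.toLin'_mul, show (A : Matrix (Fin d ⊕ Fin d) (Fin d ⊕ Fin d) F) * ((A⁻¹ : ↥(Matrix.symplecticGroup (Fin d) F)) : Matrix (Fin d ⊕ Fin d) (Fin d ⊕ Fin d) F) = 1 from
          congrArg Subtype.val (mul_inv_cancel A), Matrix.toLin'_one])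
        (by rw [← Matrix.toLin'_mul, show ((A⁻¹ : ↥(Matrix.symplecticGroup (Fin d) F)) : Matrix (Fin d ⊕ Fin d) (Fin d ⊕ Fin d) F) * (A : Matrix (Fin d ⊕ Fin d) (Fin d ⊕ Fin d) F) = 1 from
          congrArg Subtype.val (inv_mul_cancel A), Matrix.toLin'_one])
      have hf : ∀ v, f v = (A : Matrix (Fin d ⊕ Fin d) (Fin d ⊕ Fin d) F) *ᵥ v := fun v => rfl
      have hfj : ∀ (j : ℕ) v, (f ^ j) v = ((A ^ j : ↥(Matrix.symplecticGroup (Fin d) F)) : Matrix (Fin d ⊕ Fin d) (Fin d ⊕ Fin d) F) *ᵥ v := by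
        intro j
        induction j with
        | zero => intro v; simp
        | succ j ih => intro v; rw [pow_succ', LinearEquiv.mul_apply, ih, hf, mulVec_mulVec, pow_succ']; rfl
      have hfr : f ^ r = 1 := LinearEquiv.ext fun v => by rw [hfj, hA]; simp
      let x : GL (Fin d ⊕ Fin d) F := ⟨(A : Matrix (Fin d ⊕ Fin d) (Fin d ⊕ Fin d) F), ((A⁻¹ : ↥(Matrix.symplecticGroup (Fin d) F)) : Matrix (Fin d ⊕ Fin d) (Fin d ⊕ Fin d) F),
        congrArg Subtype.val (mul_inv_cancel A), congrArg Subtype.val (inv_mul_cancel A)⟩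
      have hgen : ∀ y : GL (Fin d ⊕ Fin d) F, y ∈ Cfsg.spGL d F → y ^ r = 1 →
          (∀ v, (y : Matrix (Fin d ⊕ Fin d) (Fin d ⊕ Fin d) F) *ᵥ v = v → v = 0) →
          ∃ Q' : QuadraticForm F (Fin d ⊕ Fin d → F), (∀ u v, polar Q' u v = polar R u v) ∧
            (∀ v, Q' ((y : Matrix (Fin d ⊕ Fin d) (Fin d ⊕ Fin d) F) *ᵥ v) = Q' v) ∧ (HasHalf Q' ⊤ ↔ HasHalf R ⊤) := fun y hy hyr hyfix =>
        (conj_iff hQf hsep (by omega) hy).1 (hall y hy ⟨1, by rw [hyr, one_smul]; rfl⟩ fun z hz => by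
          have := hyfix (Pi.single (Sum.inl ⟨0, by omega⟩) 1) (by rw [hz, hscal hy hz, one_smul, one_mulVec])
          simpa using congrFun this (Sum.inl ⟨0, by omega⟩))
      have hx : x ∈ Cfsg.spGL d F := mem_spGL.2 fun u v => by
        have h := S5955.sympBilin_mulVec A u v
        rwa [Geom.sympBilin_apply, Geom.sympBilin_apply] at h
      obtain ⟨Q', hp, hinv, hty⟩ := hgen x hx (Units.ext (by
        rw [Units.val_pow_eq_pow_val]; exact congrArg Subtype.val hA)) hfix
      have hcount := FormsTwo.card_zeros_modEq (r := r) Q' f hfr hfix hinv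
      have hsep' : ∀ z, (∀ y, polar Q' z y = 0) → z = 0 := fun z hz => hsep z fun y => (hp z y).symm.trans (hz y)
      obtain ⟨l, rfl⟩ : ∃ l, d = l + 1 := ⟨d - 1, by omega⟩
      by_cases hh : HasHalf R ⊤
      · rw [card_zeros_plus ((isPlus_iff_hasHalf Q' hsep' hk).2 (hty.2 hh)), Nat.add_sub_cancel] at hcount
        refine (zmod_arith hr2).1 ?_ hcount Fintype.card_pos
        have := (ZMod.natCast_eq_zero_iff _ r).2 (hpl hh)
        push_cast at this
        exact eq_neg_of_add_eq_zero_left this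
      · obtain ⟨l', hl', hM'⟩ := (dichotomy Q' hsep' hk).resolve_left
          fun h => hh (hty.1 ((isPlus_iff_hasHalf Q' hsep' hk).1 h))
        obtain rfl : l = l' := by omega
        obtain ⟨a, b, hab⟩ := exists_anisotropic_binary (F := F)
        rw [card_zeros_minus hab (hM' a b hab)] at hcount
        have hone : (Fintype.card F : ZMod r) = 1 := by
          refine (zmod_arith hr2).2 ?_ hcount Fintype.card_pos (by omega)
          have := (ZMod.natCast_eq_zero_iff _ r).2 (hmi hh)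
          rw [Nat.cast_sub (Nat.one_le_pow _ _ Fintype.card_pos)] at this
          push_cast at this
          exact sub_eq_zero.1 this
        -- an element with two eigenspaces
        have hdvd : r ∣ Fintype.card Fˣ := by
          rw [Fintype.card_units, ← ZMod.natCast_eq_zero_iff, Nat.cast_sub Fintype.card_pos, hone, Nat.cast_one,
            sub_self]
        obtain ⟨w, hw⟩ := exists_prime_orderOf_dvd_card r hdvd
        have hw1 : w ≠ 1 := fun h => hr.ne_one (by rw [← hw, h, orderOf_one])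
        have hw2 : (w : F) * w ≠ 1 := fun h => by
          have h3 : orderOf w ∣ 2 := orderOf_dvd_of_pow_eq_one (Units.ext (by simp [sq, h]))
          rw [hw] at h3
          exact hr2 ((Nat.prime_dvd_prime_iff_eq hr Nat.prime_two).1 h3)
        let ψ : Fˣ →* Matrix (Fin (l + 1) ⊕ Fin (l + 1)) (Fin (l + 1) ⊕ Fin (l + 1)) F :=
          { toFun := fun c => fromBlocks ((c : F) • 1) 0 0 (((c⁻¹ : Fˣ) : F) • 1)
            map_one' := by simp
            map_mul' := fun a b => by simp [fromBlocks_multiply, smul_smul, mul_comm] }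
        obtain ⟨Φ, hΦ⟩ : ∃ Φ : Fˣ →* GL (Fin (l + 1) ⊕ Fin (l + 1)) F, ∀ c,
            (Φ c : Matrix (Fin (l + 1) ⊕ Fin (l + 1)) (Fin (l + 1) ⊕ Fin (l + 1)) F) = fromBlocks ((c : F) • 1) 0 0 (((c⁻¹ : Fˣ) : F) • 1) :=
          ⟨ψ.toHomUnits, fun c => rfl⟩
        have hΦv : ∀ v, (Φ w : Matrix (Fin (l + 1) ⊕ Fin (l + 1)) (Fin (l + 1) ⊕ Fin (l + 1)) F) *ᵥ v = Sum.elim ((w : F) • (v ∘ Sum.inl))
            (((w⁻¹ : Fˣ) : F) • (v ∘ Sum.inr)) := fun v => by
          rw [hΦ, fromBlocks_mulVec]; simp [smul_mulVec]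
        obtain ⟨Q'', hp'', hinv'', hty''⟩ := hgen (Φ w) (mem_spGL.2 fun u v => by
            simp only [hΦv, Cfsg.sympForm, Matrix.J, fromBlocks_mulVec, zero_mulVec, neg_mulVec, one_mulVec,
              zero_add, add_zero, dotProduct, Fintype.sum_sum_type, Sum.elim_inl, Sum.elim_inr, Pi.neg_apply,
              Function.comp_apply, Sum.elim_comp_inl, Sum.elim_comp_inr, Pi.smul_apply, smul_eq_mul]
            have hww : (w : F) * ((w⁻¹ : Fˣ) : F) = 1 := w.mul_inv
            refine congrArg₂ (· + ·) (Finset.sum_congr rfl fun i _ => ?_) (Finset.sum_congr rfl fun i _ => ?_)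
            · linear_combination (-(u (Sum.inl i) * v (Sum.inr i))) * hww
            · linear_combination (u (Sum.inr i) * v (Sum.inl i)) * hww)
          (by rw [← map_pow, ← hw, pow_orderOf_eq_one, map_one]) fun v hv => by
            rw [hΦv] at hv
            funext i
            rcases i with i | i
            · have := congrFun hv (Sum.inl i)
              simp only [Sum.elim_inl, Pi.smul_apply, Function.comp_apply, smul_eq_mul] at this
              exact (mul_left_eq_self₀.1 this).resolve_left fun h => hw1 (Units.ext h)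
            · have := congrFun hv (Sum.inr i)
              simp only [Sum.elim_inr, Pi.smul_apply, Function.comp_apply, smul_eq_mul] at this
              exact (mul_left_eq_self₀.1 this).resolve_left fun h => hw1 (inv_eq_one.1 (Units.ext h))
        refine hh (hty''.1 ⟨coordTS (l + 1) fun _ => false, le_top, ?_, ?_⟩)
        · intro v hv
          have h := hinv'' v
          have hv' : (Φ w : Matrix (Fin (l + 1) ⊕ Fin (l + 1)) (Fin (l + 1) ⊕ Fin (l + 1)) F) *ᵥ v = (w : F) • v := by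
            rw [mem_coordTS] at hv
            simp only [Bool.false_eq_true, if_false] at hv
            rw [hΦv]
            funext i
            rcases i with i | i <;> simp [hv]
          rw [hv', QuadraticMap.map_smul, smul_eq_mul] at h
          exact (mul_left_eq_self₀.1 h).resolve_left hw2
        · rw [finrank_top, hk]
          exact congrArg (2 * ·) ((coordTSEquiv (l + 1) fun _ => false).finrank_eq.trans (by simp))
  · rintro ⟨rfl, hcase⟩ x hx ⟨z, hz⟩ -
    have hz1 : z = 1 := hscal (pow_mem hx 2) hz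
    rw [hz1, one_smul] at hz
    obtain ⟨T, hTdef⟩ : ∃ T, T = Matrix.toLinAlgEquiv' (x : Matrix (Fin d ⊕ Fin d) (Fin d ⊕ Fin d) F) := ⟨_, rfl⟩
    have hT : ∀ v, T v = (x : Matrix _ _ F) *ᵥ v := fun v => by rw [hTdef]; rfl
    have hTT : T * T = 1 := by rw [hTdef, ← map_mul, ← Units.val_mul, ← sq, hz, map_one]
    have hiso : ∀ u v, polar R (T u) (T v) = polar R u v := fun u v => by
      rw [hT, hT, hQf, hQf]; exact mem_spGL.1 hx u v
    rw [conj_iff hQf hsep (by omega) hx]
    rcases FormsTwo.exists_types h2 R hsep hk T hTT hiso with h | ⟨Q', hp, hinv, hh, hts⟩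
    · obtain ⟨Q', hp, hinv, hty⟩ := h (HasHalf R ⊤)
      exact ⟨Q', hp, fun v => by rw [← hT, hinv], hty⟩
    refine ⟨Q', hp, fun v => by rw [← hT, hinv], iff_of_true hh (hcase.resolve_right fun hodd => ?_)⟩
    obtain ⟨e, he⟩ := (isPlus_iff_hasHalf Q' (fun z hz => hsep z fun y => (hp z y).symm.trans (hz y)) hk).2 hh
    refine Nat.not_even_iff_odd.2 hodd (S5985.even_of_fixed_ts h2 (T := e.symm.conjAlgEquiv F T)
      (fun v => ?_) (by rw [← map_mul, hTT, map_one]) fun v hv => ?_)
    · show qfPlus d F (e.symm (T (e v))) = _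
      rw [← he, e.apply_symm_apply, hinv, he]
    · have h : e.symm (T (e v)) = v := hv
      rw [← he]
      exact hts _ ((e.apply_symm_apply _).symm.trans (congrArg e h))


end Cfsg.Agent.S5983
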