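import Cfsg.Statements.S5975
import Cfsg.Agent.Lib.MaxSub.ExtFixed
import Cfsg.Agent.Lib.MaxSub.FixExact
import Cfsg.Agent.Lib.MaxSub.SpExtMatrix
import Cfsg.Agent.Lib.MaxSub.SpUnitary
import Cfsg.Agent.Lib.Geom.PSpInvol
import Cfsg.Agent.Lib.KnownA.SpStemL
import Cfsg.Agent.S5983
-- import your own Cfsg.Agent.* helpers here

set_option autoImplicit false
open scoped MatrixGroups
open scoped Matrix
open Cfsg

namespace Cfsg.Agent.S5975

open CfsgLib CfsgLib.MaxSub CfsgLib.MaxSub.IsoSemi CfsgLib.Geom Matrix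
open CfsgLib.Classical (glLin glLin_apply)
open Cfsg.Agent.S5983 (mem_spGL)

section

variable {F : Type*} [Field F] [Fintype F] {d : ℕ}

/-- The symplectic matrix of an element of `spGL`, and back. -/
noncomputable def toSymp : ↥(Cfsg.spGL d F) →* ↥(Matrix.symplecticGroup (Fin d) F) :=
  MonoidHom.mk' (fun g => ⟨g.1.1, (CfsgLib.Geom.mem_symplecticGroup_iff_form _).2 fun u v => g.2 u v⟩)
    fun a b => Subtype.ext (Units.val_mul _ _)

theorem exists_toSymp (A : ↥(Matrix.symplecticGroup (Fin d) F)) : ∃ g : ↥(Cfsg.spGL d F), toSymp g = A :=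
  ⟨⟨⟨A.1, (A⁻¹ : ↥(Matrix.symplecticGroup (Fin d) F)).1, congrArg Subtype.val (mul_inv_cancel A),
    congrArg Subtype.val (inv_mul_cancel A)⟩, mem_spGL.2 fun u v => by
      have h := S5955.sympBilin_mulVec A u v
      rwa [Geom.sympBilin_apply, Geom.sympBilin_apply] at h⟩, rfl⟩

theorem spLin_toSymp (g : ↥(Cfsg.spGL d F)) (v : Fin d ⊕ Fin d → F) : spLin (toSymp g) v = glLin g.1 v := rfl

/-- The operator minus the identity. -/
noncomputable def sub1 (x : GL (Fin d ⊕ Fin d) F) : Module.End F (Fin d ⊕ Fin d → F) := (glLin x).toLinearMap - 1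

theorem sub1_apply (x : GL (Fin d ⊕ Fin d) F) (v : Fin d ⊕ Fin d → F) : sub1 x v = glLin x v - v := rfl

theorem sub1_conj (x g : GL (Fin d ⊕ Fin d) F) (v : Fin d ⊕ Fin d → F) :
    sub1 (g⁻¹ * x * g) v = glLin g⁻¹ (sub1 x (glLin g v)) := by
  rw [sub1_apply, sub1_apply, map_mul, map_mul, LinearEquiv.mul_apply, LinearEquiv.mul_apply, map_sub,
    map_inv (glLin (ι := Fin d ⊕ Fin d) (F := F)) g,
    show (glLin g)⁻¹ (glLin g v) = v from (glLin g).symm_apply_apply v]

/-- An element of the symplectic group with `2`-step nilpotent part trivial has non-degenerate moving space. -/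
theorem nd_mov_of {y : GL (Fin d ⊕ Fin d) F} (hy : y ∈ Cfsg.spGL d F)
    (h : ∀ v, sub1 y (sub1 y v) = 0 → sub1 y v = 0) : ND (sympBilin d F) (LinearMap.range (sub1 y)) := by
  rintro _ ⟨w, rfl⟩ hperp
  refine h w ?_
  rw [sub1_apply y (sub1 y w), sub_eq_zero]
  refine (sub_eq_zero.1 (sympBilin_sep _ fun z => ?_)).symm
  obtain ⟨z, rfl⟩ := (glLin y).surjective z
  have h1 : sympBilin d F (glLin y (sub1 y w)) (glLin y z) = sympBilin d F (sub1 y w) z := by
    rw [sympBilin_apply, sympBilin_apply, glLin_apply, glLin_apply]; exact mem_spGL.1 hy _ _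
  have h2 : sympBilin d F (sub1 y w) (glLin y z - z) = 0 := hperp _ ⟨z, sub1_apply y z⟩
  rw [map_sub] at h2
  rw [map_sub, LinearMap.sub_apply, h1]
  linear_combination h2

variable {L : Type*} [Field L] [Algebra F L] [Finite L] [Module L (Fin d ⊕ Fin d → F)]
  [IsScalarTower F L (Fin d ⊕ Fin d → F)] {K : Subalgebra F (Matrix (Fin d ⊕ Fin d) (Fin d ⊕ Fin d) F)}
  {ι : L → Matrix (Fin d ⊕ Fin d) (Fin d ⊕ Fin d) F} (hι : ∀ a, ι a ∈ K) (hιs : ∀ a ∈ K, ∃ b, ι b = a)
  (hsmul : ∀ (a : L) (x : Fin d ⊕ Fin d → F), a • x = ι a *ᵥ x)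

include hι hιs hsmul in
/-- Normalising elements are semilinear. -/
theorem exists_sigma (hd : 0 < d) {y : GL (Fin d ⊕ Fin d) F} (hy : y ∈ Cfsg.Geo.subalgebraNormalizer K) :
    ∃ σ : L →ₐ[F] L, ∀ a v, glLin y (a • v) = σ a • glLin y v := by
  have hex : ∀ a, ∃ b, ∀ v, glLin y (a • v) = b • glLin y v := fun a => by
    obtain ⟨b, hb⟩ := hιs _ ((hy (ι a)).mp (hι a))
    refine ⟨b, fun v => ?_⟩
    rw [glLin_apply, glLin_apply, hsmul, hsmul, mulVec_mulVec, mulVec_mulVec, hb,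
      mul_assoc _ _ (y : Matrix (Fin d ⊕ Fin d) (Fin d ⊕ Fin d) F), ← Units.val_mul, inv_mul_cancel, Units.val_one,
      mul_one]
  choose s hs using hex
  obtain ⟨v₀, hv₀⟩ : ∃ v₀ : Fin d ⊕ Fin d → F, v₀ ≠ 0 := ⟨Pi.single (Sum.inl ⟨0, hd⟩) 1, by simp⟩
  have hw : glLin y v₀ ≠ 0 := (glLin y).map_ne_zero_iff.2 hv₀
  have hinj : ∀ {a b : L}, a • glLin y v₀ = b • glLin y v₀ → a = b := fun h => smul_left_injective L hw h
  have halg : ∀ c : F, s (algebraMap F L c) = algebraMap F L c := fun c => hinj (by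
    rw [← hs, algebraMap_smul, algebraMap_smul, map_smul])
  refine ⟨{ toFun := s
            map_one' := hinj (by rw [← hs, one_smul, one_smul])
            map_mul' := fun a b => hinj (by rw [← hs, mul_smul, hs, hs, mul_smul])
            map_zero' := hinj (by rw [← hs, zero_smul, zero_smul, map_zero])
            map_add' := fun a b => hinj (by rw [← hs, add_smul, map_add, hs, hs, add_smul])
            commutes' := halg }, fun a v => hs a v⟩

include hι hιs hsmul in
/-- Semilinear elements normalise. -/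
theorem mem_normalizer {y : GL (Fin d ⊕ Fin d) F} (σ : L ≃ₐ[F] L)
    (h : ∀ a v, glLin y (a • v) = σ a • glLin y v) : y ∈ Cfsg.Geo.subalgebraNormalizer K := by
  have hc : ∀ a, (y : Matrix (Fin d ⊕ Fin d) (Fin d ⊕ Fin d) F) * ι a *
      ((y⁻¹ : GL (Fin d ⊕ Fin d) F) : Matrix (Fin d ⊕ Fin d) (Fin d ⊕ Fin d) F) = ι (σ a) := fun a => by
    have h1 : (y : Matrix (Fin d ⊕ Fin d) (Fin d ⊕ Fin d) F) * ι a = ι (σ a) * y :=
      Matrix.ext_of_mulVec_single fun i => by
        have := h a (Pi.single i 1)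
        rwa [glLin_apply, glLin_apply, hsmul, hsmul, mulVec_mulVec, mulVec_mulVec] at this
    rw [h1, mul_assoc, ← Units.val_mul, mul_inv_cancel, Units.val_one, mul_one]
  intro k
  constructor
  · intro hk
    obtain ⟨a, rfl⟩ := hιs k hk
    rw [hc]; exact hι _
  · intro hk
    obtain ⟨b, hb⟩ := hιs _ hk
    obtain ⟨a, rfl⟩ := σ.surjective b
    rw [← hc] at hb
    have := congrArg (fun z => ((y⁻¹ : GL (Fin d ⊕ Fin d) F) : Matrix (Fin d ⊕ Fin d) (Fin d ⊕ Fin d) F) * z *
      (y : Matrix (Fin d ⊕ Fin d) (Fin d ⊕ Fin d) F)) hb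
    simp [mul_assoc] at this
    exact this ▸ hι a

variable {r k : ℕ} (hk : k.Prime) (hfr : Module.finrank F L = k)
  (hsa : ∀ (a : L) u v, sympBilin d F (a • u) v = sympBilin d F u (a • v))
  (halt : ∀ (a : L) v, sympBilin d F (a • v) v = 0)

include hι hιs hsmul hk hfr hsa halt in
/-- The consequences of fixing a point. -/
theorem fixed_cases (hr : r.Prime) (hd : 0 < d) {x g : GL (Fin d ⊕ Fin d) F} {c : ℕ}
    (hx : x ∈ Cfsg.spGL d F) (hg : g ∈ Cfsg.spGL d F) (hxr : x ^ r = 1)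
    (hc : Module.finrank F ↥(LinearMap.range (sub1 x)) = c)
    (hfix : g⁻¹ * x * g ∈ Cfsg.Geo.subalgebraNormalizer K) :
    (k ∣ c ∧ ((∀ v, sub1 x (sub1 x v) = 0 → sub1 x v = 0) → 2 * k ∣ c)) ∨
      (r = k ∧ k * (2 * d - c) ≤ 2 * d) := by
  classical
  haveI : FiniteDimensional F L := Module.Finite.of_finite
  obtain ⟨y, hy⟩ : ∃ y, y = g⁻¹ * x * g := ⟨_, rfl⟩
  rw [← hy] at hfix
  have hys : y ∈ Cfsg.spGL d F := hy ▸ mul_mem (mul_mem (inv_mem hg) hx) hg
  have hrange : LinearMap.range (sub1 y) =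
      (LinearMap.range (sub1 x)).map (glLin g⁻¹).toLinearMap := by
    refine le_antisymm ?_ ?_
    · rintro _ ⟨v, rfl⟩
      exact ⟨_, ⟨glLin g v, rfl⟩, by rw [hy, sub1_conj]; rfl⟩
    · rintro _ ⟨_, ⟨v, rfl⟩, rfl⟩
      obtain ⟨w, rfl⟩ := (glLin g).surjective v
      exact ⟨w, by rw [hy, sub1_conj]; rfl⟩
  have hyc : Module.finrank F ↥(LinearMap.range (sub1 y)) = c := by
    rw [hrange, LinearEquiv.finrank_map_eq, hc]
  obtain ⟨σ, hσ⟩ := exists_sigma hι hιs hsmul hd hfix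
  by_cases hid : σ = AlgHom.id F L
  · left
    have hst : ∀ (a : L), ∀ v ∈ LinearMap.range (sub1 y), a • v ∈ LinearMap.range (sub1 y) := by
      rintro a _ ⟨v, rfl⟩
      refine ⟨a • v, ?_⟩
      rw [sub1_apply, sub1_apply, hσ, hid, AlgHom.id_apply, smul_sub]
    refine ⟨hyc ▸ hfr ▸ ExtFixed.dvd_finrank hst, fun h => hyc ▸ hfr ▸ ExtFixed.two_mul_dvd_finrank
      S5955.geom_symp halt hsa hst (nd_mov_of hys fun v hv => ?_)⟩
    rw [hy, sub1_conj] at hv ⊢
    rw [sub1_conj, map_inv (glLin (ι := Fin d ⊕ Fin d) (F := F)) g,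
      show glLin g ((glLin g)⁻¹ (sub1 x (glLin g v))) = sub1 x (glLin g v) from (glLin g).apply_symm_apply _,
      LinearEquiv.map_eq_zero_iff] at hv
    rw [h _ hv, map_zero]
  · right
    have hb : Function.Bijective σ :=
      ⟨σ.toRingHom.injective, Finite.injective_iff_surjective.1 σ.toRingHom.injective⟩
    obtain ⟨τ, hτ⟩ : ∃ τ : L ≃ₐ[F] L, ∀ a, τ a = σ a := ⟨AlgEquiv.ofBijective σ hb, fun a => rfl⟩
    have hτ1 : τ ≠ 1 := fun h => hid (AlgHom.ext fun a => by rw [← hτ, h]; rfl)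
    have hpow : ∀ (j : ℕ) a v, glLin (y ^ j) (a • v) = (τ ^ j) a • glLin (y ^ j) v := by
      intro j
      induction j with
      | zero => intro a v; simp
      | succ j ih =>
        intro a v
        rw [pow_succ', map_mul, LinearEquiv.mul_apply, ih, hσ, pow_succ', AlgEquiv.mul_apply, hτ,
          LinearEquiv.mul_apply]
    have hyr : y ^ r = 1 := by
      rw [hy, show g⁻¹ * x * g = g⁻¹ * x * g⁻¹⁻¹ by rw [inv_inv], conj_pow, hxr, mul_one, mul_inv_cancel]
    have hτr : τ ^ r = 1 := AlgEquiv.ext fun a => by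
      have h := hpow r a (Pi.single (Sum.inl ⟨0, hd⟩) 1)
      rw [hyr, map_one] at h
      exact (smul_left_injective L (by simp) h).symm
    have hrk : r = k := by
      have h1 : orderOf τ = r := by
        haveI := Fact.mk hr
        exact orderOf_eq_prime hτr hτ1
      have h2 : orderOf τ ∣ Nat.card (L ≃ₐ[F] L) := orderOf_dvd_natCard τ
      rw [IsGalois.card_aut_eq_finrank, hfr, h1] at h2
      exact (Nat.prime_dvd_prime_iff_eq hr hk).1 h2
    refine ⟨hrk, ?_⟩
    have h := ExtFixed.finrank_semi_fix (hfr ▸ hk) hid (T := (glLin y).toLinearMap) fun a v => hσ a v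
    have hsum := (sub1 y).finrank_range_add_finrank_ker
    rw [S5983.finrank_V, hyc] at hsum
    rw [hfr, S5983.finrank_V] at h
    exact le_trans (Nat.mul_le_mul_left _ (show 2 * d - c ≤ _ by
      rw [show Module.finrank F ↥(LinearMap.ker ((glLin y).toLinearMap - 1)) =
        Module.finrank F ↥(LinearMap.ker (sub1 y)) from rfl]
      omega)) h

include hι hιs hsmul hk hfr hsa halt in
/-- A prime dividing the index. -/
theorem index_arith {c : ℕ} (hr : r.Prime) (hrq : ¬ r ∣ Fintype.card F)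
    (hord : ∀ j, r ∣ Fintype.card F ^ (2 * j) - 1 ↔ c ∣ 2 * j)
    (hΩ : r ∣ (Cfsg.Geo.subalgebraNormalizer K).relIndex (Cfsg.spGL d F)) : ¬ 2 * k ∣ c ∧ c ≤ 2 * d := by
  classical
  haveI := Fintype.ofFinite L
  haveI : FiniteDimensional F L := Module.Finite.of_finite
  obtain ⟨H, hH⟩ : ∃ H, H = Cfsg.Geo.subalgebraNormalizer K ⊓ Cfsg.spGL d F := ⟨_, rfl⟩
  have hHle : H ≤ Cfsg.spGL d F := hH ▸ inf_le_right
  have hcardS : (Cfsg.Geo.subalgebraNormalizer K).relIndex (Cfsg.spGL d F) * Nat.card H =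
      Fintype.card F ^ (d ^ 2) * ∏ i ∈ Finset.range d, (Fintype.card F ^ (2 * (i + 1)) - 1) := by
    rw [← Subgroup.inf_relIndex_right, ← hH, ← KnownA.SpStemL.card_sp, ← S5983.card_spGL, mul_comm,
      Subgroup.relIndex, ← Nat.card_congr (Subgroup.subgroupOfEquivOfLe hHle).toEquiv, Subgroup.card_mul_index]
  obtain ⟨e, he, hdvd⟩ := ExtFixed.card_dvd_isoms (K := L) S5955.geom_symp halt hsa
    (H.map (glLin (ι := Fin d ⊕ Fin d) (F := F)).toMonoidHom) fun g hg hgl => by
      obtain ⟨y, rfl⟩ := (glLin (ι := Fin d ⊕ Fin d) (F := F)).surjective g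
      refine Subgroup.mem_map_of_mem _ (hH ▸ ⟨mem_normalizer hι hιs hsmul AlgEquiv.refl fun a v => hgl a v,
        mem_spGL.2 fun u v => ?_⟩)
      have := hg u v
      rwa [sympBilin_apply, sympBilin_apply, glLin_apply, glLin_apply] at this
  rw [Subgroup.card_map_of_injective (glLin (ι := Fin d ⊕ Fin d) (F := F)).injective] at hdvd
  rw [S5983.finrank_V, hfr] at he
  have hde : d = k * e := by rw [mul_left_comm] at he; omega
  have hrall : r ∣ Fintype.card F ^ (d ^ 2) * ∏ i ∈ Finset.range d, (Fintype.card F ^ (2 * (i + 1)) - 1) :=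
    hcardS ▸ dvd_mul_of_dvd_left hΩ _
  constructor
  · intro h2k
    have hK : Fintype.card L = Fintype.card F ^ k := by rw [Module.card_eq_pow_finrank (K := F) (V := L), hfr]
    have hsplit := (Finset.prod_filter_mul_prod_filter_not (Finset.range d) (fun i => k ∣ i + 1)
      fun i => Fintype.card F ^ (2 * (i + 1)) - 1)
    have himg : (Finset.range d).filter (fun i => k ∣ i + 1) =
        (Finset.range e).image fun j => k * (j + 1) - 1 := by
      ext i
      simp only [Finset.mem_filter, Finset.mem_range, Finset.mem_image]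
      constructor
      · rintro ⟨hi, t, ht⟩
        have ht0 : t ≠ 0 := fun h => by simp [h] at ht
        refine ⟨t - 1, ?_, ?_⟩
        · have : k * t ≤ k * e := by omega
          have := Nat.le_of_mul_le_mul_left this hk.pos
          omega
        · rw [show t - 1 + 1 = t by omega]; omega
      · rintro ⟨j, hj, rfl⟩
        have h1 : k * (j + 1) ≤ k * e := Nat.mul_le_mul_left k hj
        have h2 : 0 < k * (j + 1) := Nat.mul_pos hk.pos (by omega)
        exact ⟨by omega, ⟨j + 1, by omega⟩⟩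
    have hprod : ∏ i ∈ (Finset.range d).filter (fun i => k ∣ i + 1), (Fintype.card F ^ (2 * (i + 1)) - 1) =
        ∏ i ∈ Finset.range e, (Fintype.card L ^ (2 * (i + 1)) - 1) := by
      rw [himg, Finset.prod_image fun a _ b _ hab => by
        have : k * (a + 1) = k * (b + 1) := by
          have := Nat.mul_pos hk.pos (show 0 < a + 1 by omega)
          have := Nat.mul_pos hk.pos (show 0 < b + 1 by omega)
          omega
        have := Nat.eq_of_mul_eq_mul_left hk.pos this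
        omega]
      refine Finset.prod_congr rfl fun j _ => ?_
      have := Nat.mul_pos hk.pos (show 0 < j + 1 by omega)
      rw [hK, ← pow_mul, show k * (j + 1) - 1 + 1 = k * (j + 1) by omega, mul_left_comm k 2]
    rw [hprod] at hsplit
    obtain ⟨C, hC⟩ : ∃ C, C = ∏ i ∈ Finset.range e, (Fintype.card L ^ (2 * (i + 1)) - 1) := ⟨_, rfl⟩
    obtain ⟨R, hR⟩ : ∃ R, R = ∏ i ∈ (Finset.range d).filter (fun i => ¬ k ∣ i + 1),
      (Fintype.card F ^ (2 * (i + 1)) - 1) := ⟨_, rfl⟩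
    rw [← hC] at hdvd hsplit
    rw [← hR] at hsplit
    rw [← hsplit] at hcardS
    have hC0 : 0 < C := hC ▸ Finset.prod_pos fun i _ => by
      have := Nat.one_lt_pow (n := 2 * (i + 1)) (by omega) (Fintype.one_lt_card (α := L))
      omega
    have h1 : r * C ∣ Fintype.card F ^ (d ^ 2) * R * C := by
      rw [mul_assoc, mul_comm R C, ← hcardS]
      exact Nat.mul_dvd_mul hΩ ((dvd_mul_left C _).trans hdvd)
    rcases hr.dvd_mul.1 (Nat.dvd_of_mul_dvd_mul_right hC0 h1) with h | h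
    · exact hrq (hr.dvd_of_dvd_pow h)
    · rw [hR, (Nat.prime_iff.1 hr).dvd_finsetProd_iff] at h
      obtain ⟨i, hi, hir⟩ := h
      exact (Finset.mem_filter.1 hi).2 (Nat.dvd_of_mul_dvd_mul_left two_pos (h2k.trans ((hord _).1 hir)))
  · rcases hr.dvd_mul.1 hrall with h | h
    · exact absurd (hr.dvd_of_dvd_pow h) hrq
    · rw [(Nat.prime_iff.1 hr).dvd_finsetProd_iff] at h
      obtain ⟨i, hi, hir⟩ := h
      have := Nat.le_of_dvd (by omega) ((hord _).1 hir)
      have := Finset.mem_range.1 hi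
      omega

/-- The involution changing sign on one hyperbolic plane. -/
theorem exists_sign (h2 : (2 : F) ≠ 0) (hd : 2 ≤ d) : ∃ x : GL (Fin d ⊕ Fin d) F, x ∈ Cfsg.spGL d F ∧ x ^ 2 = 1 ∧
    Module.finrank F ↥(LinearMap.range (sub1 x)) = 2 ∧ ∀ v, sub1 x (sub1 x v) = 0 → sub1 x v = 0 := by
  let i₀ : Fin d := ⟨0, by omega⟩
  let s : Fin d → F := fun i => if i = i₀ then -1 else 1
  have hs : ∀ i, s i * s i = 1 := fun i => by
    by_cases h : i = i₀ <;> simp [s, h]
  let M : Matrix (Fin d ⊕ Fin d) (Fin d ⊕ Fin d) F := Matrix.diagonal (Sum.elim s s)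
  have hMM : M * M = 1 := by
    rw [diagonal_mul_diagonal, ← diagonal_one]
    congr 1
    funext i
    rcases i with i | i <;> exact hs i
  let x : GL (Fin d ⊕ Fin d) F := ⟨M, M, hMM, hMM⟩
  have hxv : ∀ v i, glLin x v i = Sum.elim s s i * v i := fun v i => by
    rw [glLin_apply]; exact mulVec_diagonal _ _ i
  have hsub : ∀ v, sub1 x v = Pi.single (Sum.inl i₀) (-2 * v (Sum.inl i₀)) +
      Pi.single (Sum.inr i₀) (-2 * v (Sum.inr i₀)) := fun v => funext fun i => by
    rw [sub1_apply, Pi.sub_apply, hxv, Pi.add_apply]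
    rcases i with i | i <;> by_cases h : i = i₀ <;> simp [s, h, Pi.single_apply] <;> ring
  refine ⟨x, mem_spGL.2 fun u v => ?_, Units.ext (by rw [Units.val_pow_eq_pow_val, sq]; exact hMM), ?_,
    fun v hv => ?_⟩
  · simp only [Cfsg.sympForm, Matrix.J, fromBlocks_mulVec, zero_mulVec, neg_mulVec, one_mulVec, zero_add, add_zero,
      dotProduct, Fintype.sum_sum_type, Sum.elim_inl, Sum.elim_inr, Pi.neg_apply, Function.comp_apply]
    have hx' : ∀ w i, ((x : Matrix (Fin d ⊕ Fin d) (Fin d ⊕ Fin d) F) *ᵥ w) i = Sum.elim s s i * w i :=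
      fun w i => mulVec_diagonal _ _ i
    refine congrArg₂ (· + ·) (Finset.sum_congr rfl fun i _ => ?_) (Finset.sum_congr rfl fun i _ => ?_)
    · rw [hx', hx', Sum.elim_inl, Sum.elim_inr]; linear_combination (-(u (Sum.inl i) * v (Sum.inr i))) * hs i
    · rw [hx', hx', Sum.elim_inl, Sum.elim_inr]; linear_combination (u (Sum.inr i) * v (Sum.inl i)) * hs i
  · let j : (F × F) →ₗ[F] (Fin d ⊕ Fin d → F) :=
      (LinearMap.single F (fun _ : Fin d ⊕ Fin d => F) (Sum.inl i₀)).coprod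
        (LinearMap.single F (fun _ : Fin d ⊕ Fin d => F) (Sum.inr i₀))
    have hj : ∀ w, j w = Pi.single (Sum.inl i₀) w.1 + Pi.single (Sum.inr i₀) w.2 := fun w => rfl
    have hji : Function.Injective j := fun a b h => Prod.ext
      (by simpa [hj] using congrFun h (Sum.inl i₀)) (by simpa [hj] using congrFun h (Sum.inr i₀))
    have : LinearMap.range (sub1 x) = LinearMap.range j := by
      refine le_antisymm ?_ ?_
      · rintro _ ⟨v, rfl⟩
        exact ⟨(-2 * v (Sum.inl i₀), -2 * v (Sum.inr i₀)), by rw [hj, hsub]⟩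
      · rintro _ ⟨w, rfl⟩
        refine ⟨Pi.single (Sum.inl i₀) (-w.1 / 2) + Pi.single (Sum.inr i₀) (-w.2 / 2), ?_⟩
        rw [hj, hsub]
        simp only [Pi.add_apply, Pi.single_eq_same, ne_eq, reduceCtorEq, not_false_eq_true, Pi.single_eq_of_ne,
          add_zero, zero_add]
        congr 2 <;> field_simp
    rw [this, LinearMap.finrank_range_of_inj hji, Module.finrank_prod, Module.finrank_self]
  · rw [hsub, hsub] at hv
    have h1 := congrFun hv (Sum.inl i₀)
    have h3 := congrFun hv (Sum.inr i₀)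
    simp [h2] at h1 h3
    rw [hsub, h1, h3]
    simp

/-- A transvection. -/
theorem exists_transv {p : ℕ} [Fact p.Prime] [CharP F p] (hd : 0 < d) : ∃ x : GL (Fin d ⊕ Fin d) F,
    x ∈ Cfsg.spGL d F ∧ x ^ p = 1 ∧ Module.finrank F ↥(LinearMap.range (sub1 x)) = 1 := by
  obtain ⟨v, hv⟩ : ∃ v : Fin d ⊕ Fin d → F, v ≠ 0 := ⟨Pi.single (Sum.inl ⟨0, hd⟩) 1, by simp⟩
  have hsub : ∀ z, sub1 (spT v 1) z = Cfsg.sympForm d F z v • v := fun z => by
    rw [sub1_apply, glLin_apply, spT_mulVec, one_mul, add_sub_cancel_left]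
  have hj : ∀ (j : ℕ) z, glLin ((spT v (1 : F)) ^ j) z = z + ((j : F) * Cfsg.sympForm d F z v) • v := by
    intro j
    induction j with
    | zero => intro z; simp
    | succ j ih =>
      intro z
      rw [pow_succ, map_mul, LinearEquiv.mul_apply, ih, glLin_apply, spT_mulVec, one_mul]
      rw [← sympBilin_apply, ← sympBilin_apply, map_add, map_smul, LinearMap.add_apply, LinearMap.smul_apply,
        sympBilin_self, smul_zero, add_zero, Nat.cast_succ, add_mul, one_mul, add_smul, add_assoc,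
        add_comm (_ • v : Fin d ⊕ Fin d → F)]
  refine ⟨spT v 1, spT_mem_spGL v 1, ?_, ?_⟩
  · exact (glLin (ι := Fin d ⊕ Fin d) (F := F)).injective (LinearEquiv.ext fun z => by
      rw [hj, CharP.cast_eq_zero, zero_mul, zero_smul, add_zero, map_one]; rfl)
  · have : LinearMap.range (sub1 (spT v (1 : F))) = Submodule.span F {v} := by
      refine le_antisymm ?_ ?_
      · rintro _ ⟨z, rfl⟩; rw [hsub]; exact Submodule.smul_mem _ _ (Submodule.mem_span_singleton_self v)
      · rw [Submodule.span_singleton_le_iff_mem]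
        obtain ⟨z, hz⟩ : ∃ z, Cfsg.sympForm d F z v ≠ 0 := by
          by_contra h
          push Not at h
          exact hv (sympBilin_sep v fun y => by rw [sympBilin_swap, sympBilin_apply, h, neg_zero])
        exact ⟨(Cfsg.sympForm d F z v)⁻¹ • z, by rw [map_smul, hsub, smul_smul, inv_mul_cancel₀ hz, one_smul]⟩
    rw [this, finrank_span_singleton hv]

include hι hιs hsmul hk hfr hsa halt in
theorem main {p : ℕ} [Fact p.Prime] [CharP F p] {q : ℕ} (hq : Fintype.card F = q) (hd : 2 ≤ d) [hrF : Fact r.Prime]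
    (hΩ : r ∣ (Cfsg.Geo.subalgebraNormalizer K).relIndex (Cfsg.spGL d F)) :
    (∀ x ∈ Cfsg.spGL d F, (∃ z : F, ((x ^ r : GL (Fin d ⊕ Fin d) F) : Matrix (Fin d ⊕ Fin d) (Fin d ⊕ Fin d) F) = z • (1 : Matrix (Fin d ⊕ Fin d) (Fin d ⊕ Fin d) F)) →
      (∀ z : F, (x : Matrix (Fin d ⊕ Fin d) (Fin d ⊕ Fin d) F) ≠ z • (1 : Matrix (Fin d ⊕ Fin d) (Fin d ⊕ Fin d) F)) →
      ∃ g ∈ Cfsg.spGL d F, g⁻¹ * x * g ∈ Cfsg.Geo.subalgebraNormalizer K) ↔
    (r = 2 ∧ d = 2 ∧ k = 2 ∧ Odd q) := by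
  classical
  subst hq
  haveI := Fintype.ofFinite L
  haveI : FiniteDimensional F L := Module.Finite.of_finite
  have hr : r.Prime := hrF.out
  have hscal : ∀ {y : GL (Fin d ⊕ Fin d) F}, y ∈ Cfsg.spGL d F → ∀ {z : F},
      (y : Matrix (Fin d ⊕ Fin d) (Fin d ⊕ Fin d) F) = z • 1 → z * z = 1 := fun {y} hy {z} hz =>
    S5955.scalar_sq (by omega) (A := toSymp ⟨y, hy⟩) hz
  -- a witness with small moving space
  have hwit : (∀ x ∈ Cfsg.spGL d F, (∃ z : F, ((x ^ r : GL (Fin d ⊕ Fin d) F) : Matrix (Fin d ⊕ Fin d) (Fin d ⊕ Fin d) F) = z • (1 : Matrix (Fin d ⊕ Fin d) (Fin d ⊕ Fin d) F)) →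
      (∀ z : F, (x : Matrix (Fin d ⊕ Fin d) (Fin d ⊕ Fin d) F) ≠ z • (1 : Matrix (Fin d ⊕ Fin d) (Fin d ⊕ Fin d) F)) →
      ∃ g ∈ Cfsg.spGL d F, g⁻¹ * x * g ∈ Cfsg.Geo.subalgebraNormalizer K) →
      ∀ x ∈ Cfsg.spGL d F, x ^ r = 1 → ∀ c, 0 < c → (c < 2 * d ∨ r ≠ 2) →
        Module.finrank F ↥(LinearMap.range (sub1 x)) = c →
        (k ∣ c ∧ ((∀ v, sub1 x (sub1 x v) = 0 → sub1 x v = 0) → 2 * k ∣ c)) ∨
          (r = k ∧ k * (2 * d - c) ≤ 2 * d) := by
    intro hall x hx hxr c hc0 hc2 hc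
    obtain ⟨g, hg, hfix⟩ := hall x hx ⟨1, by rw [hxr, one_smul]; rfl⟩ fun z hz => by
      have hsub : ∀ v, sub1 x v = (z - 1) • v := fun v => by
        rw [sub1_apply, glLin_apply, hz, smul_mulVec, one_mulVec, sub_smul, one_smul]
      have hz1 : z ≠ 1 := fun h => by
        rw [LinearMap.range_eq_bot.2 (LinearMap.ext fun v => by rw [hsub, h, sub_self, zero_smul]; rfl),
          finrank_bot] at hc
        omega
      have htop : LinearMap.range (sub1 x) = ⊤ := LinearMap.range_eq_top.2 fun v =>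
        ⟨(z - 1)⁻¹ • v, by rw [hsub, smul_smul, mul_inv_cancel₀ (sub_ne_zero.2 hz1), one_smul]⟩
      rw [htop, finrank_top, S5983.finrank_V] at hc
      have hr2 : r ≠ 2 := hc2.resolve_left (by omega)
      have hzz := hscal hx hz
      have hzr : z ^ r = 1 := by
        have h := congrArg (fun y : GL (Fin d ⊕ Fin d) F => (y : Matrix (Fin d ⊕ Fin d) (Fin d ⊕ Fin d) F)
          (Sum.inl ⟨0, by omega⟩) (Sum.inl ⟨0, by omega⟩)) hxr
        simpa [Units.val_pow_eq_pow_val, hz, _root_.smul_pow] using h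
      obtain ⟨j, hj⟩ := hr.odd_of_ne_two hr2
      rw [hj, pow_succ, pow_mul, sq, hzz, one_pow, one_mul] at hzr
      exact hz1 hzr
    exact fixed_cases hι hιs hsmul hk hfr hsa halt hr (by omega) hx hg hxr hc hfix
  constructor
  · intro hall
    have hk2 := hk.two_le
    by_cases hrp : r = p
    · subst hrp
      exfalso
      obtain ⟨x, hx, hxr, hc⟩ := exists_transv (F := F) (p := r) (d := d) (by omega)
      rcases hwit hall x hx hxr 1 one_pos (Or.inl (by omega)) hc with ⟨h, -⟩ | ⟨-, h⟩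
      · exact absurd (Nat.le_of_dvd one_pos h) (by omega)
      · have := Nat.mul_le_mul_right (2 * d - 1) hk2
        omega
    by_cases hr2 : r = 2
    · subst hr2
      have hchar : ringChar F ≠ 2 := by rw [ringChar.eq F p]; exact Ne.symm hrp
      have h2 : (2 : F) ≠ 0 := Ring.two_ne_zero hchar
      obtain ⟨x, hx, hx2, hc, hss⟩ := exists_sign h2 hd
      rcases hwit hall x hx hx2 2 two_pos (Or.inl (by omega)) hc with ⟨-, h⟩ | ⟨rfl, h⟩
      · exact absurd (Nat.le_of_dvd two_pos (h hss)) (by omega)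
      · exact ⟨rfl, by omega, rfl, Nat.odd_iff.2 (FiniteField.odd_card_of_char_ne_two hchar)⟩
    exfalso
    obtain ⟨i, hi⟩ : ∃ i, i = orderOf (Fintype.card F : ZMod r) := ⟨_, rfl⟩
    obtain ⟨c, hc⟩ : ∃ c, c = if Even i then i else 2 * i := ⟨_, rfl⟩
    have hrq : ¬ r ∣ Fintype.card F := fun h => by
      obtain ⟨n, -, hn⟩ := FiniteField.card F p
      rw [hn] at h
      exact hrp ((Nat.prime_dvd_prime_iff_eq hr Fact.out).1 (hr.dvd_of_dvd_pow h))
    have hq0 : (Fintype.card F : ZMod r) ≠ 0 := fun h => hrq ((ZMod.natCast_eq_zero_iff _ r).1 h)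
    have hir : i ∣ r - 1 := hi ▸ orderOf_dvd_of_pow_eq_one (ZMod.pow_card_sub_one_eq_one hq0)
    have hipos : 0 < i := Nat.pos_of_dvd_of_pos hir (by have := hr.two_le; omega)
    have hord : ∀ j, r ∣ Fintype.card F ^ (2 * j) - 1 ↔ c ∣ 2 * j := fun j => by
      rw [← ZMod.natCast_eq_zero_iff, Nat.cast_sub (Nat.one_le_pow _ _ Fintype.card_pos), sub_eq_zero, Nat.cast_pow,
        Nat.cast_one, ← orderOf_dvd_iff_pow_eq_one, ← hi, hc]
      split_ifs with hev
      · rfl
      · exact ⟨fun h => mul_dvd_mul_left 2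
          ((Nat.coprime_two_right.2 (Nat.not_even_iff_odd.1 hev)).dvd_of_dvd_mul_left h),
          fun h => (dvd_mul_left i 2).trans h⟩
    obtain ⟨h2k, hc2d⟩ := index_arith hι hιs hsmul hk hfr hsa halt hr hrq hord hΩ
    have hce : Even c := by
      rw [hc]; split_ifs with hev
      · exact hev
      · exact even_two_mul i
    obtain ⟨A, hA, hAe⟩ := FixExact.exists_block (F := F) (p := p) (d := d) hr2 hrp hi hc (e := 2 * d - c)
      (M := 1) (by omega) ((Nat.even_sub hc2d).2 (iff_of_true (even_two_mul d) hce))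
    obtain ⟨⟨x, hx⟩, rfl⟩ := exists_toSymp A
    have hxr : x ^ r = 1 := Units.ext (by
      rw [Units.val_pow_eq_pow_val]
      exact congrArg Subtype.val hA)
    have hT : (Matrix.toLinAlgEquiv' ((toSymp ⟨x, hx⟩ : ↥(Matrix.symplecticGroup (Fin d) F)) :
        Matrix (Fin d ⊕ Fin d) (Fin d ⊕ Fin d) F)) - 1 = sub1 x := LinearMap.ext fun v => rfl
    have hrF' : (r : F) ≠ 0 := fun h => hrp
      ((Nat.prime_dvd_prime_iff_eq Fact.out hr).1 ((CharP.cast_eq_zero_iff F p r).1 h)).symm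
    have hss : ∀ v, sub1 x (sub1 x v) = 0 → sub1 x v = 0 := fun v hv => by
      rw [← hT] at hv ⊢
      exact FixExact.fix_mov_zero hrF' (IsoWitness.coe_pow_eq_one hA) v hv
    rw [hT] at hAe
    have hsum := (sub1 x).finrank_range_add_finrank_ker
    rw [S5983.finrank_V] at hsum
    have hcpos : 0 < c := by rw [hc]; split_ifs <;> omega
    have heq : Module.finrank F ↥(LinearMap.range (sub1 x)) = c := by omega
    rcases hwit hall x hx hxr c hcpos (Or.inr hr2) heq with ⟨-, h⟩ | ⟨rfl, h⟩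
    · exact h2k (h hss)
    · -- a field automorphism cannot have such a small moving space
      have hr3 : 3 ≤ r := by have := hr.two_le; omega
      obtain ⟨e, he⟩ : r ∣ d := by
        obtain ⟨e, he, -⟩ := ExtFixed.card_dvd_isoms (K := L) (B := sympBilin d F) S5955.geom_symp halt hsa
          (⊤ : Subgroup _) fun g _ _ => Subgroup.mem_top g
        rw [S5983.finrank_V, hfr, mul_left_comm] at he
        exact ⟨e, by omega⟩
      subst he
      have hile : i ≤ r - 1 := Nat.le_of_dvd (by omega) hir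
      have he1 : 1 ≤ e := Nat.pos_of_ne_zero fun h => by rw [h, mul_zero] at hd; omega
      have h3 : 2 * (r * e) - c ≤ 2 * e := Nat.le_of_mul_le_mul_left
        (by rw [mul_left_comm r 2 e]; exact h) hr.pos
      have h4 : 2 * r ≤ c + 2 := by nlinarith
      by_cases hev : Even i
      · rw [if_pos hev] at hc; omega
      · rw [if_neg hev] at hc
        have hio : i = r - 1 := by omega
        exact hev (hio ▸ hr.even_sub_one hr2)
  · rintro ⟨rfl, rfl, rfl, hodd⟩ x hx ⟨z, hz⟩ hns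
    have h2 : (2 : F) ≠ 0 := CfsgLib.Classical.two_ne_zero_of_odd hodd
    obtain ⟨X, hX⟩ : ∃ X, X = toSymp ⟨x, hx⟩ := ⟨_, rfl⟩
    have hXX : ∀ v, spLin X (spLin X v) = z • v := fun v => by
      rw [hX, spLin_toSymp, spLin_toSymp, glLin_apply, glLin_apply, mulVec_mulVec, ← Units.val_mul, ← sq, hz,
        smul_mulVec, one_mulVec]
    -- the automorphism of the field
    obtain ⟨σ, hσ⟩ : ∃ σ : L ≃ₐ[F] L, σ ≠ AlgEquiv.refl := by
      have hcard := IsGalois.card_aut_eq_finrank F L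
      rw [hfr] at hcard
      haveI : Nontrivial (L ≃ₐ[F] L) := Finite.one_lt_card_iff_nontrivial.1 (by omega)
      exact exists_ne _
    have hσ2 : ∀ a, σ (σ a) = a := fun a => by
      have h := pow_card_eq_one' (G := L ≃ₐ[F] L) (x := σ)
      rw [IsGalois.card_aut_eq_finrank, hfr] at h
      exact AlgEquiv.congr_fun ((sq σ).symm.trans h) a
    obtain ⟨⟨y₁, hy₁, hy₁σ, hy₁2, hy₁f⟩, y₂, hy₂, hy₂l, hy₂2⟩ :=
      ExtFixed.exists_two (K := L) S5955.geom_symp halt hsa (by rw [S5983.finrank_V, hfr]) σ hσ hσ2 hfr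
    have hfin : ∀ (y : (Fin 2 ⊕ Fin 2 → F) ≃ₗ[F] (Fin 2 ⊕ Fin 2 → F)) (τ : L ≃ₐ[F] L),
        (∀ u v, sympBilin 2 F (y u) (y v) = sympBilin 2 F u v) → (∀ a v, y (a • v) = τ a • y v) →
        (∀ Y : ↥(Matrix.symplecticGroup (Fin 2) F), (∀ v, spLin Y v = y v) → IsConj X Y) →
        ∃ g ∈ Cfsg.spGL 2 F, g⁻¹ * x * g ∈ Cfsg.Geo.subalgebraNormalizer K := by
      intro y τ hy hyτ hconj
      obtain ⟨Y, rfl⟩ := (glLin (ι := Fin 2 ⊕ Fin 2) (F := F)).surjective y
      have hYs : Y ∈ Cfsg.spGL 2 F := mem_spGL.2 fun u v => by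
        have := hy u v
        rwa [sympBilin_apply, sympBilin_apply, glLin_apply, glLin_apply] at this
      obtain ⟨G, hG⟩ := isConj_iff.1 (hconj (toSymp ⟨Y, hYs⟩) fun v => spLin_toSymp _ v)
      obtain ⟨⟨g, hg⟩, rfl⟩ := exists_toSymp G
      refine ⟨g⁻¹, inv_mem hg, ?_⟩
      rw [hX, ← map_inv, ← map_mul, ← map_mul] at hG
      have hval : g * x * g⁻¹ = Y := Units.ext (congrArg Subtype.val hG)
      rw [inv_inv, hval]
      exact mem_normalizer hι hιs hsmul τ hyτ
    rcases mul_self_eq_one_iff.1 (hscal (pow_mem hx 2) hz) with rfl | rfl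
    · have hsq : ∀ v, spLin X (spLin X v) = v := fun v => (hXX v).trans (one_smul F v)
      refine hfin y₁ σ hy₁ hy₁σ fun Y hY => isConj_of_sq_one h2 hsq (fun v => by rw [hY, hY, hy₁2]) ?_
      have hsq' : ∀ v, spLin Y (spLin Y v) = v := fun v => by rw [hY, hY, hy₁2]
      have hY1 : Module.finrank F (spEigen Y 1) = 2 := by
        refine Eq.trans ?_ hy₁f
        refine congrArg (fun W : Submodule F (Fin 2 ⊕ Fin 2 → F) => Module.finrank F ↥W) ?_
        ext v
        rw [mem_spEigen, one_smul, hY, LinearMap.mem_ker, LinearMap.sub_apply, sub_eq_zero, Module.End.one_apply,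
          LinearEquiv.coe_coe]
      have hYs := spEigen_finrank_add h2 hsq'
      obtain ⟨t, ht⟩ := spEigen_even h2 hsq
      have hXs := spEigen_finrank_add h2 hsq
      have htop : ∀ ε : F, (ε = 1 ∨ ε = -1) → Module.finrank F (spEigen X ε) ≠ 4 := fun ε hε h4 => by
        have : spEigen X ε = ⊤ := Submodule.eq_top_of_finrank_eq (by rw [h4, S5983.finrank_V])
        refine hns ε (Matrix.ext_of_mulVec_single fun j => ?_)
        have hj : (Pi.single j 1 : Fin 2 ⊕ Fin 2 → F) ∈ spEigen X ε := this ▸ Submodule.mem_top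
        rw [mem_spEigen, hX, spLin_toSymp, glLin_apply] at hj
        rw [hj, smul_mulVec, one_mulVec]
      have := htop 1 (Or.inl rfl)
      have := htop (-1) (Or.inr rfl)
      omega
    · exact hfin y₂ AlgEquiv.refl hy₂ hy₂l fun Y hY => isConj_of_sq_neg h2
        (fun v => (hXX v).trans (neg_one_smul F v)) fun v => by rw [hY, hY, hy₂2]

end

/-- Elements of prime order of PSp_n(q) and the field-extension subgroups of type Sp_{n/k}(q^k). Here `T = PSp_{2d}(F)` for a field `F` with `q` elements (`d ≥ 2`, `(d, q) ≠ (2, 2)`), realised through the matrices preserving the standard alternating form `f`; `k` is a prime and `K` is a subalgebra of the `2d × 2d` matrices that is a field of degree `k` over `F` whose elements are self-adjoint for `f` and satisfy `f(a v, v) = 0` (so `F^{2d}` becomes a vector space over `K ≅ F_{q^k}` on which `f` is the trace of a `K`-bilinear alternating form); `H` is the subgroup of `T` normalizing `K` — the symplectic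 maps that are `K`-linear or `K`-semilinear, a subgroup of type Sp_{2d/k}(q^k) (maximality is not assumed). Ω is the set of cosets of `H` in `T`, so an element of `T` of prime order `r` (`x ∈ T` with `x^r` scalar, `x` not scalar) fixes a point of Ω exactly when some `T`-conjugate of `x` normalizes `K`. Let `r` be a prime dividing the index of `H`. Then every element of `T` of order `r` fixes a point of Ω if and only if `r = 2`, `d = 2`, `k = 2` and `q` is odd. -/
theorem result {F : Type*} [Field F] [Fintype F] {p : ℕ} [Fact p.Prime] [CharP F p] {q : ℕ} (hq : Fintype.card F = q)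
    (d : ℕ) (hd : 2 ≤ d) (hT : (d, q) ≠ (2, 2)) (k : ℕ) (hk : k.Prime)
    (K : Subalgebra F (Matrix (Fin d ⊕ Fin d) (Fin d ⊕ Fin d) F)) (hK : Cfsg.Geo.IsFieldSubalgebra k K)
    (hKf : Cfsg.Geo.IsSelfAdjointFor (Cfsg.sympForm d F) K) (hKalt : ∀ a ∈ K, ∀ v : Fin d ⊕ Fin d → F, Cfsg.sympForm d F (a *ᵥ v) v = 0)
    (r : ℕ) [Fact r.Prime]
    (hΩ : r ∣ (Cfsg.Geo.subalgebraNormalizer K).relIndex (Cfsg.spGL d F)) :
    (∀ x ∈ Cfsg.spGL d F, (∃ z : F, ((x ^ r : GL (Fin d ⊕ Fin d) F) : Matrix (Fin d ⊕ Fin d) (Fin d ⊕ Fin d) F) = z • (1 : Matrix (Fin d ⊕ Fin d) (Fin d ⊕ Fin d) F)) →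
      (∀ z : F, (x : Matrix (Fin d ⊕ Fin d) (Fin d ⊕ Fin d) F) ≠ z • (1 : Matrix (Fin d ⊕ Fin d) (Fin d ⊕ Fin d) F)) →
      ∃ g ∈ Cfsg.spGL d F, g⁻¹ * x * g ∈ Cfsg.Geo.subalgebraNormalizer K) ↔
    (r = 2 ∧ d = 2 ∧ k = 2 ∧ Odd q) := by
  haveI : Nonempty (Fin d ⊕ Fin d) := ⟨Sum.inl ⟨0, by omega⟩⟩
  have hF : IsField K :=
    { exists_pair_ne := ⟨0, 1, zero_ne_one⟩
      mul_comm := fun x y => Subtype.ext (hK.comm x x.2 y y.2)
      mul_inv_cancel := fun {a} ha => by
        obtain ⟨y, hy, hxy⟩ := hK.inv a a.2 fun e => ha (Subtype.ext e)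
        exact ⟨⟨y, hy⟩, Subtype.ext hxy⟩ }
  letI : Field (SpExt.MatFieldSp K) := hF.toField
  letI : Algebra F (SpExt.MatFieldSp K) := (inferInstance : Algebra F ↥K)
  letI : Module (SpExt.MatFieldSp K) (Fin d ⊕ Fin d → F) := Module.compHom (Fin d ⊕ Fin d → F)
    (((Matrix.toLinAlgEquiv' : Matrix (Fin d ⊕ Fin d) (Fin d ⊕ Fin d) F ≃ₐ[F]
        _).toRingEquiv.toRingHom.comp
      K.val.toRingHom : ↥K →+* Module.End F (Fin d ⊕ Fin d → F)) :
      SpExt.MatFieldSp K →+* Module.End F (Fin d ⊕ Fin d → F))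
  haveI : Finite (SpExt.MatFieldSp K) := (inferInstance : Finite ↥K)
  haveI : IsScalarTower F (SpExt.MatFieldSp K) (Fin d ⊕ Fin d → F) := ⟨fun c a x => by
    show (c • (a : ↥K) : ↥K).1 *ᵥ x = c • ((a : ↥K).1 *ᵥ x)
    exact Matrix.smul_mulVec c (a : ↥K).1 x⟩
  refine main (L := SpExt.MatFieldSp K) (ι := fun a => (a : ↥K).1) (fun a => (a : ↥K).2)
    (fun a ha => ⟨(⟨a, ha⟩ : ↥K), rfl⟩) (fun a x => rfl) hk hK.finrank_eq (fun a u v => ?_) (fun a v => ?_)
    (p := p) hq hd hΩ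
  · rw [sympBilin_apply, sympBilin_apply]
    exact hKf _ (a : ↥K).2 u v
  · rw [sympBilin_apply]
    exact hKalt _ (a : ↥K).2 v


end Cfsg.Agent.S5975
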