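import Cfsg.Statements.S5976
import Cfsg.Agent.Lib.MaxSub.SpUnitHerm
import Cfsg.Agent.Lib.MaxSub.FixExact
import Cfsg.Agent.S5665
import Cfsg.Agent.S5975
-- import your own Cfsg.Agent.* helpers here

set_option autoImplicit false
open scoped MatrixGroups
open scoped Matrix
open Cfsg

namespace Cfsg.Agent.S5976

open CfsgLib CfsgLib.MaxSub CfsgLib.MaxSub.IsoSemi CfsgLib.Geom Matrix
open CfsgLib.Classical (glLin glLin_apply)
open CfsgLib.Classical
open Cfsg.Agent.S5983 (mem_spGL)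
open Cfsg.Agent.S5975 (toSymp exists_toSymp spLin_toSymp sub1 sub1_apply sub1_conj)

section

variable {F : Type*} [Field F] [Fintype F] {d : ℕ} {K : Subalgebra F (Matrix (Fin d ⊕ Fin d) (Fin d ⊕ Fin d) F)}
  {j : Matrix (Fin d ⊕ Fin d) (Fin d ⊕ Fin d) F} {δ : F}
  (hA : SpUnitFix.Anti (sympBilin d F) (Matrix.toLinAlgEquiv' j) δ) (hjK : j ∈ K)
  (hspan : ∀ k ∈ K, ∃ a b : F, k = a • 1 + b • j) (hd : 0 < d)

include hA hjK hspan hd in
/-- Normalising elements commute or anticommute with `j`. -/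
theorem exists_beta (h2 : (2 : F) ≠ 0) {y : GL (Fin d ⊕ Fin d) F} (hy : y ∈ Cfsg.Geo.subalgebraNormalizer K) :
    ∃ β : F, β * β = 1 ∧ ∀ v, glLin y (j *ᵥ v) = β • (j *ᵥ glLin y v) := by
  obtain ⟨a, b, hab⟩ := hspan _ ((hy j).mp hjK)
  have h1 : ∀ v, glLin y (j *ᵥ v) = a • glLin y v + b • (j *ᵥ glLin y v) := fun v => by
    rw [glLin_apply, glLin_apply, mulVec_mulVec]
    have h := congrArg (fun M => M * (y : Matrix (Fin d ⊕ Fin d) (Fin d ⊕ Fin d) F)) hab
    simp only [mul_assoc, ← Units.val_mul, inv_mul_cancel, Units.val_one, mul_one] at h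
    rw [h, add_mul, add_mulVec, smul_mul_assoc, smul_mul_assoc, one_mul, smul_mulVec, smul_mulVec, mulVec_mulVec]
  have hsq : ∀ v, j *ᵥ (j *ᵥ v) = δ • v := fun v => by simpa using hA.sq v
  have h3 : ∀ w, (a * a + b * b * δ - δ) • w + (2 * a * b) • (j *ᵥ w) = 0 := fun w => by
    obtain ⟨v, rfl⟩ := (glLin y).surjective w
    have h := h1 (j *ᵥ v)
    rw [hsq, map_smul, h1, mulVec_add, mulVec_smul, mulVec_smul, hsq] at h
    linear_combination (norm := module) -h
  obtain ⟨w, hw⟩ : ∃ w : Fin d ⊕ Fin d → F, w ≠ 0 := ⟨Pi.single (Sum.inl ⟨0, hd⟩) 1, by simp⟩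
  have h2ab : 2 * a * b = 0 := by
    by_contra hne
    obtain ⟨t, ht⟩ : ∃ t : F, j *ᵥ w = t • w := ⟨-(a * a + b * b * δ - δ) / (2 * a * b), by
      rw [div_eq_inv_mul, mul_smul, neg_smul, ← eq_neg_of_add_eq_zero_right (h3 w), smul_smul, inv_mul_cancel₀ hne,
        one_smul]⟩
    have h := hsq w
    rw [ht, mulVec_smul, ht, smul_smul] at h
    exact hA.nonsq t (smul_left_injective F hw h)
  have hd0 : a * a + b * b * δ - δ = 0 := by
    have h := h3 w
    rw [h2ab, zero_smul, add_zero] at h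
    exact (smul_eq_zero.1 h).resolve_right hw
  have ha : a = 0 := by
    rcases mul_eq_zero.1 h2ab with h | h
    · exact (mul_eq_zero.1 h).resolve_left h2
    · exact absurd (by rw [h] at hd0; linear_combination hd0) (hA.nonsq a)
  refine ⟨b, mul_right_cancel₀ hA.δ_ne (by rw [ha] at hd0; linear_combination hd0), fun v => ?_⟩
  rw [h1, ha, zero_smul, zero_add]

include hA hjK hspan hd in
/-- What a fixed point gives for an element of odd order. -/
theorem exists_comm (h2 : (2 : F) ≠ 0) {r : ℕ} (hr : Odd r) {x g : GL (Fin d ⊕ Fin d) F} {c : ℕ}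
    (hx : x ∈ Cfsg.spGL d F) (hg : g ∈ Cfsg.spGL d F) (hxr : x ^ r = 1)
    (hc : Module.finrank F ↥(LinearMap.range (sub1 x)) = c)
    (hfix : g⁻¹ * x * g ∈ Cfsg.Geo.subalgebraNormalizer K) :
    ∃ T : Module.End F (Fin d ⊕ Fin d → F), (∀ u v, sympBilin d F (T u) (T v) = sympBilin d F u v) ∧ T ^ r = 1 ∧
      (∀ v, T (Matrix.toLinAlgEquiv' j v) = Matrix.toLinAlgEquiv' j (T v)) ∧
        Module.finrank F ↥(LinearMap.range (T - 1)) = c := by
  obtain ⟨y, hy⟩ : ∃ y, y = g⁻¹ * x * g := ⟨_, rfl⟩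
  rw [← hy] at hfix
  have hys : y ∈ Cfsg.spGL d F := hy ▸ mul_mem (mul_mem (inv_mem hg) hx) hg
  have hyr : y ^ r = 1 := by
    rw [hy, show g⁻¹ * x * g = g⁻¹ * x * g⁻¹⁻¹ by rw [inv_inv], conj_pow, hxr, mul_one, mul_inv_cancel]
  have hpow : ∀ (k : ℕ) v, ((glLin y).toLinearMap ^ k) v = glLin (y ^ k) v := by
    intro k
    induction k with
    | zero => intro v; simp
    | succ k ih => intro v; rw [pow_succ', Module.End.mul_apply, ih, pow_succ', map_mul]; rfl
  obtain ⟨β, hβ, hβj⟩ := exists_beta hA hjK hspan hd h2 hfix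
  have hβk : ∀ (k : ℕ) v, glLin (y ^ k) (j *ᵥ v) = β ^ k • (j *ᵥ glLin (y ^ k) v) := by
    intro k
    induction k with
    | zero => intro v; simp
    | succ k ih =>
      intro v
      rw [pow_succ', map_mul, LinearEquiv.mul_apply, ih, map_smul, hβj, smul_smul, LinearEquiv.mul_apply, pow_succ]
  obtain ⟨w, hw⟩ : ∃ w : Fin d ⊕ Fin d → F, w ≠ 0 := ⟨Pi.single (Sum.inl ⟨0, hd⟩) 1, by simp⟩
  have hβ1 : β = 1 := by
    have h := hβk r w
    rw [hyr, map_one] at h
    have hjw : j *ᵥ w ≠ 0 := fun h0 => hw (hA.J_inj (by simpa using h0))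
    have h1 : β ^ r = 1 := (smul_left_injective F hjw (by simpa using h)).symm
    obtain ⟨k, rfl⟩ := hr
    rw [pow_succ, pow_mul, sq, hβ, one_pow, one_mul] at h1
    exact h1
  refine ⟨(glLin y).toLinearMap, fun u v => ?_, LinearMap.ext fun v => ?_, fun v => ?_, ?_⟩
  · rw [sympBilin_apply, sympBilin_apply, LinearEquiv.coe_coe, glLin_apply, glLin_apply]; exact mem_spGL.1 hys _ _
  · rw [hpow, hyr, map_one]; rfl
  · simpa [hβ1] using hβj v
  · have hrange : LinearMap.range (sub1 y) = (LinearMap.range (sub1 x)).map (glLin g⁻¹).toLinearMap := by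
      refine le_antisymm ?_ ?_
      · rintro _ ⟨v, rfl⟩
        exact ⟨_, ⟨glLin g v, rfl⟩, by rw [hy, sub1_conj]; rfl⟩
      · rintro _ ⟨_, ⟨v, rfl⟩, rfl⟩
        obtain ⟨w, rfl⟩ := (glLin g).surjective v
        exact ⟨w, by rw [hy, sub1_conj]; rfl⟩
    show Module.finrank F ↥(LinearMap.range (sub1 y)) = c
    rw [hrange, LinearEquiv.finrank_map_eq, hc]

/-- The index is prime to `r` when `ord_r q` is twice an odd number. -/
theorem not_dvd_index {q r i I G H : ℕ} (hq : 2 ≤ q) (hr : r.Prime) (hr2 : r ≠ 2) (hrq : ¬ r ∣ q)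
    (hi : i = orderOf (q : ZMod r)) (hi2 : Even i) (hi4 : ¬ 4 ∣ i)
    (hcard : I * H = q ^ (d ^ 2) * ∏ k ∈ Finset.range d, (q ^ (2 * (k + 1)) - 1))
    (hG : G = q ^ (d * (d - 1) / 2) * ∏ k ∈ Finset.range d, (if Even k then q ^ (k + 1) + 1 else q ^ (k + 1) - 1))
    (hGH : G ∣ H) : ¬ r ∣ I := by
  intro hI
  haveI := Fact.mk hr
  have h2r : (2 : ZMod r) ≠ 0 := fun h => hr2 ((Nat.prime_dvd_prime_iff_eq hr Nat.prime_two).1
    ((ZMod.natCast_eq_zero_iff 2 r).1 (by exact_mod_cast h)))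
  have hsplit : q ^ (d ^ 2) * ∏ k ∈ Finset.range d, (q ^ (2 * (k + 1)) - 1) = G * (q ^ (d ^ 2 - d * (d - 1) / 2) *
      ∏ k ∈ Finset.range d, (if Even k then q ^ (k + 1) - 1 else q ^ (k + 1) + 1)) := by
    rw [hG, mul_mul_mul_comm, ← pow_add, ← Finset.prod_mul_distrib, Nat.add_sub_cancel'
      ((Nat.div_le_self _ _).trans (sq d ▸ Nat.mul_le_mul_left d (Nat.sub_le d 1)))]
    congr 1
    refine Finset.prod_congr rfl fun k _ => ?_
    have h1 : q ^ (2 * (k + 1)) - 1 = (q ^ (k + 1) + 1) * (q ^ (k + 1) - 1) := by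
      rw [← Nat.sq_sub_sq, one_pow, ← pow_mul, mul_comm 2]
    rw [h1]
    split_ifs <;> ring
  have hG0 : 0 < G := hG ▸ Nat.mul_pos (pow_pos (by omega) _) (Finset.prod_pos fun k _ => by
    have := Nat.one_lt_pow (n := k + 1) (by omega) (show 1 < q by omega)
    split_ifs <;> omega)
  have h := (Nat.mul_dvd_mul hI hGH).trans (dvd_of_eq (hcard.trans (hsplit.trans (mul_comm _ _))))
  rcases hr.dvd_mul.1 (Nat.dvd_of_mul_dvd_mul_right hG0 h) with h | h
  · exact hrq (hr.dvd_of_dvd_pow h)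
  obtain ⟨k, -, hk⟩ := (Nat.prime_iff.1 hr).exists_mem_finset_dvd h
  rw [← ZMod.natCast_eq_zero_iff] at hk
  by_cases hev : Even k
  · rw [if_pos hev, Nat.cast_sub (Nat.one_le_pow _ _ (by omega)), sub_eq_zero, Nat.cast_pow, Nat.cast_one] at hk
    have := hi ▸ orderOf_dvd_of_pow_eq_one hk
    have := (even_iff_two_dvd.1 hi2).trans this
    have := even_iff_two_dvd.1 hev
    omega
  · rw [if_neg hev, Nat.cast_add, Nat.cast_pow, Nat.cast_one, add_eq_zero_iff_eq_neg] at hk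
    have hev' : 2 ∣ k + 1 := by rw [even_iff_two_dvd] at hev; omega
    have h1 : i ∣ 2 * (k + 1) := hi ▸ orderOf_dvd_of_pow_eq_one (by rw [mul_comm, pow_mul, hk, neg_one_sq])
    obtain ⟨m, rfl⟩ := hi2.two_dvd
    have h3 : 2 * m ∣ k + 1 := Nat.Coprime.mul_dvd_of_dvd_of_dvd (Nat.coprime_two_left.2 (Nat.odd_iff.2 (by omega)))
      hev' (Nat.dvd_of_mul_dvd_mul_left two_pos h1)
    obtain ⟨t, ht⟩ := h3
    rw [ht, hi, pow_mul, pow_orderOf_eq_one, one_pow] at hk
    exact h2r (by linear_combination hk)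

include hA hjK hspan in
theorem main {p : ℕ} [Fact p.Prime] [CharP F p] {q : ℕ} (hq : Fintype.card F = q) (h2 : (2 : F) ≠ 0) (hd : 2 ≤ d)
    {r : ℕ} [hrF : Fact r.Prime]
    (hΩ : r ∣ (Cfsg.Geo.subalgebraNormalizer K).relIndex (Cfsg.spGL d F))
    (hgu : q ^ (d * (d - 1) / 2) * ∏ k ∈ Finset.range d, (if Even k then q ^ (k + 1) + 1 else q ^ (k + 1) - 1) ∣
      Nat.card ↥(Cfsg.Geo.subalgebraNormalizer K ⊓ Cfsg.spGL d F)) :
    (∀ x ∈ Cfsg.spGL d F, (∃ z : F, ((x ^ r : GL (Fin d ⊕ Fin d) F) : Matrix (Fin d ⊕ Fin d) (Fin d ⊕ Fin d) F) = z • (1 : Matrix (Fin d ⊕ Fin d) (Fin d ⊕ Fin d) F)) →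
      (∀ z : F, (x : Matrix (Fin d ⊕ Fin d) (Fin d ⊕ Fin d) F) ≠ z • (1 : Matrix (Fin d ⊕ Fin d) (Fin d ⊕ Fin d) F)) →
      ∃ g ∈ Cfsg.spGL d F, g⁻¹ * x * g ∈ Cfsg.Geo.subalgebraNormalizer K) ↔ r = 2 := by
  subst hq
  classical
  have hr : r.Prime := hrF.out
  have hscal : ∀ {y : GL (Fin d ⊕ Fin d) F}, y ∈ Cfsg.spGL d F → ∀ {z : F},
      (y : Matrix (Fin d ⊕ Fin d) (Fin d ⊕ Fin d) F) = z • 1 → z * z = 1 := fun {y} hy {z} hz =>
    S5955.scalar_sq (by omega) (A := toSymp ⟨y, hy⟩) hz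
  constructor
  · intro hall
    by_contra hr2
    have hrodd := hr.odd_of_ne_two hr2
    have hwit : ∀ x ∈ Cfsg.spGL d F, x ^ r = 1 → ∀ c, 0 < c → Module.finrank F ↥(LinearMap.range (sub1 x)) = c →
        ∃ T : Module.End F (Fin d ⊕ Fin d → F), (∀ u v, sympBilin d F (T u) (T v) = sympBilin d F u v) ∧ T ^ r = 1 ∧
          (∀ v, T (Matrix.toLinAlgEquiv' j v) = Matrix.toLinAlgEquiv' j (T v)) ∧
            Module.finrank F ↥(LinearMap.range (T - 1)) = c := by
      intro x hx hxr c hc0 hc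
      obtain ⟨g, hg, hfix⟩ := hall x hx ⟨1, by rw [hxr, one_smul]; rfl⟩ fun z hz => by
        have hzr : z ^ r = 1 := by
          have h := congrArg (fun y : GL (Fin d ⊕ Fin d) F => (y : Matrix (Fin d ⊕ Fin d) (Fin d ⊕ Fin d) F)
            (Sum.inl ⟨0, by omega⟩) (Sum.inl ⟨0, by omega⟩)) hxr
          simpa [Units.val_pow_eq_pow_val, hz, _root_.smul_pow] using h
        obtain ⟨k, hk⟩ := hrodd
        rw [hk, pow_succ, pow_mul, sq, hscal hx hz, one_pow, one_mul] at hzr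
        rw [LinearMap.range_eq_bot.2 (LinearMap.ext fun v => by
          rw [sub1_apply, glLin_apply, hz, hzr, one_smul, one_mulVec, sub_self]; rfl), finrank_bot] at hc
        omega
      exact exists_comm hA hjK hspan (by omega) h2 hrodd hx hg hxr hc hfix
    by_cases hrp : r = p
    · subst hrp
      obtain ⟨x, hx, hxr, hc⟩ := S5975.exists_transv (F := F) (p := r) (d := d) (by omega)
      obtain ⟨T, -, -, hTJ, hT1⟩ := hwit x hx hxr 1 one_pos hc
      obtain ⟨⟨v, hv⟩, hv0, hvs⟩ := finrank_eq_one_iff'.1 hT1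
      obtain ⟨t, ht⟩ := hvs ⟨_, SpUnitFix.J_mov hA hTJ hv⟩
      have ht' : Matrix.toLinAlgEquiv' j v = t • v := (congrArg Subtype.val ht).symm
      have h := hA.sq v
      rw [ht', map_smul, ht', smul_smul] at h
      exact hA.nonsq t (smul_left_injective F (fun h0 => hv0 (Subtype.ext h0)) h)
    have hrF : (r : F) ≠ 0 := SympOrderR.r_ne_zero hr hrp
    obtain ⟨i, hi⟩ : ∃ i, i = orderOf (Fintype.card F : ZMod r) := ⟨_, rfl⟩
    have hipos : 0 < i := SympOrderR.i_pos (F := F) (p := p) rfl hr hrp hi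
    have hrq : ¬ r ∣ Fintype.card F := fun h => by
      rw [← ZMod.natCast_eq_zero_iff] at h
      rw [h] at hi
      simp at hi
      omega
    obtain ⟨c, hc⟩ : ∃ c, c = if Even i then i else 2 * i := ⟨_, rfl⟩
    have hcardS : (Cfsg.Geo.subalgebraNormalizer K).relIndex (Cfsg.spGL d F) *
        Nat.card ↥(Cfsg.Geo.subalgebraNormalizer K ⊓ Cfsg.spGL d F) =
          Fintype.card F ^ (d ^ 2) * ∏ k ∈ Finset.range d, (Fintype.card F ^ (2 * (k + 1)) - 1) := by
      rw [← Subgroup.inf_relIndex_right, ← KnownA.SpStemL.card_sp, ← S5983.card_spGL, mul_comm, Subgroup.relIndex,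
        ← Nat.card_congr (Subgroup.subgroupOfEquivOfLe (inf_le_right :
          Cfsg.Geo.subalgebraNormalizer K ⊓ Cfsg.spGL d F ≤ Cfsg.spGL d F)).toEquiv, Subgroup.card_mul_index]
    have hcle : c ≤ 2 * d ∧ Even c := by
      refine ⟨?_, by rw [hc]; split_ifs with h <;> [exact h; exact even_two_mul i]⟩
      rcases hr.dvd_mul.1 (hcardS ▸ dvd_mul_of_dvd_left hΩ _) with h | h
      · exact absurd (hr.dvd_of_dvd_pow h) hrq
      · obtain ⟨k, hk, hkr⟩ := (Nat.prime_iff.1 hr).exists_mem_finset_dvd h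
        have := Nat.le_of_dvd (by omega) (IsoOrth.c_dvd_two_mul hi hc hkr)
        have := Finset.mem_range.1 hk
        omega
    have hc0 : 0 < c := by rw [hc]; split_ifs <;> omega
    obtain ⟨A, hAr, hAe⟩ := FixExact.exists_block (F := F) (p := p) (d := d) hr2 hrp hi hc (e := 2 * d - c) (M := 1)
      (by omega) (by obtain ⟨a, ha⟩ := hcle.2; exact ⟨d - a, by omega⟩)
    obtain ⟨x, rfl⟩ := exists_toSymp A
    have hxr : x.1 ^ r = 1 := by
      rw [← map_pow] at hAr
      exact Units.ext (congrArg Subtype.val hAr)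
    have hxc : Module.finrank F ↥(LinearMap.range (sub1 x.1)) = c := by
      have hsum := (sub1 x.1).finrank_range_add_finrank_ker
      rw [S5983.finrank_V, show Module.finrank F ↥(LinearMap.ker (sub1 x.1)) = 2 * d - c from hAe] at hsum
      omega
    obtain ⟨T, hiso, hTr, hTJ, hTc⟩ := hwit x.1 x.2 hxr c hc0 hxc
    by_cases hev : Even i
    · by_cases h4 : 4 ∣ i
      · exact SpUnitFix.contra_four hA hr hiso hTr hrF hr2 hTJ h2 hi h4 (by rw [hTc, hc, if_pos hev])
      · exact not_dvd_index Fintype.one_lt_card hr hr2 hrq hi hev h4 hcardS rfl hgu hΩ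
    · exact SpUnitFix.contra_odd hA hr hiso hTr hrF hr2 hTJ (p := p) hi (Nat.not_even_iff_odd.1 hev)
        (by rw [hTc, hc, if_neg hev])
  · rintro rfl x hx ⟨z, hz⟩ -
    obtain ⟨X, hX⟩ : ∃ X, X = toSymp ⟨x, hx⟩ := ⟨_, rfl⟩
    have hXX : ∀ v, spLin X (spLin X v) = z • v := fun v => by
      rw [hX, spLin_toSymp, spLin_toSymp, ← LinearEquiv.mul_apply, ← map_mul, glLin_apply, ← sq, hz, smul_mulVec,
        one_mulVec]
    have hfin : ∀ (y : (Fin d ⊕ Fin d → F) ≃ₗ[F] (Fin d ⊕ Fin d → F)) (β : F), β ≠ 0 →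
        (∀ u v, sympBilin d F (y u) (y v) = sympBilin d F u v) →
        (∀ v, y (Matrix.toLinAlgEquiv' j v) = β • Matrix.toLinAlgEquiv' j (y v)) →
        (∀ Y : ↥(Matrix.symplecticGroup (Fin d) F), (∀ v, spLin Y v = y v) → IsConj X Y) →
        ∃ g ∈ Cfsg.spGL d F, g⁻¹ * x * g ∈ Cfsg.Geo.subalgebraNormalizer K := by
      intro y β hβ hy hyj hconj
      obtain ⟨Y, rfl⟩ := (glLin (ι := Fin d ⊕ Fin d) (F := F)).surjective y
      have hYs : Y ∈ Cfsg.spGL d F := mem_spGL.2 fun u v => by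
        have := hy u v
        rwa [sympBilin_apply, sympBilin_apply, glLin_apply, glLin_apply] at this
      obtain ⟨G, hG⟩ := isConj_iff.1 (hconj (toSymp ⟨Y, hYs⟩) fun v => spLin_toSymp _ v)
      obtain ⟨⟨g, hg⟩, rfl⟩ := exists_toSymp G
      refine ⟨g⁻¹, inv_mem hg, ?_⟩
      rw [hX, ← map_inv, ← map_mul, ← map_mul] at hG
      have hval : g * x * g⁻¹ = Y := Units.ext (congrArg Subtype.val hG)
      rw [inv_inv, hval]
      refine S5665.mem_normalizer hjK hspan hβ (Matrix.ext_of_mulVec_single fun k => ?_)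
      have := hyj (Pi.single k 1)
      rw [glLin_apply, glLin_apply, Matrix.toLinAlgEquiv'_apply, Matrix.toLinAlgEquiv'_apply, mulVec_mulVec,
        mulVec_mulVec] at this
      rw [this, smul_mulVec]
    rcases mul_self_eq_one_iff.1 (hscal (pow_mem hx 2) hz) with rfl | rfl
    · have hsq : ∀ v, spLin X (spLin X v) = v := fun v => (hXX v).trans (one_smul F v)
      obtain ⟨s, hs⟩ := spEigen_even h2 hsq
      have hXs := spEigen_finrank_add h2 hsq
      obtain ⟨y, hy, hyj, hy2, hyf⟩ := SpUnitFix.exists_invol hA h2 S5983.finrank_V (s := s) (by omega)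
      refine hfin y 1 one_ne_zero hy (fun v => by rw [hyj, one_smul]) fun Y hY =>
        isConj_of_sq_one h2 hsq (fun v => by rw [hY, hY, hy2]) ?_
      have hsq' : ∀ v, spLin Y (spLin Y v) = v := fun v => by rw [hY, hY, hy2]
      have hY1 : Module.finrank F (spEigen Y 1) = 2 * d - 2 * s := by
        refine Eq.trans ?_ hyf
        refine congrArg (fun W : Submodule F (Fin d ⊕ Fin d → F) => Module.finrank F ↥W) ?_
        ext v
        rw [mem_spEigen, one_smul, hY, LinearMap.mem_ker, LinearMap.sub_apply, sub_eq_zero, Module.End.one_apply,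
          LinearEquiv.coe_coe]
      have hYs := spEigen_finrank_add h2 hsq'
      omega
    · have hor : (∃ i : F, i * i = -1) ∨ ∃ t : F, t * t * δ = -1 := by
        by_cases hm : IsSquare (-1 : F)
        · obtain ⟨i, hi⟩ := hm; exact Or.inl ⟨i, hi.symm⟩
        · refine Or.inr ?_
          have hδs : ¬ IsSquare δ := fun ⟨c, hc⟩ => hA.nonsq c hc.symm
          have h1 : IsSquare (-1 * δ) := by
            rw [← quadraticChar_one_iff_isSquare (mul_ne_zero (neg_ne_zero.2 one_ne_zero) hA.δ_ne), map_mul,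
              quadraticChar_neg_one_iff_not_isSquare.2 hm, quadraticChar_neg_one_iff_not_isSquare.2 hδs]
            norm_num
          obtain ⟨e, he⟩ := h1
          refine ⟨e / δ, ?_⟩
          have := hA.δ_ne
          field_simp
          linear_combination -he
      obtain ⟨y, β, hβ, hy, hyj, hy2⟩ := SpUnitFix.exists_sq_neg hA h2 S5983.finrank_V hor
      exact hfin y β hβ hy hyj fun Y hY => isConj_of_sq_neg h2
        (fun v => (hXX v).trans (neg_one_smul F v)) fun v => by rw [hY, hY, hy2]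

end

/-- Elements of prime order of PSp_n(q), q odd, and the subgroups of type GU_{n/2}(q). Here `T = PSp_{2d}(F)` for a field `F` with `q` elements, `q` odd, `d ≥ 2`, realised through the matrices preserving the standard alternating form `f`; `K` is a subalgebra of the `2d × 2d` matrices that is a field of degree 2 over `F`, closed under taking adjoints for `f` but not consisting of self-adjoint elements (so `F^{2d}` becomes a `d`-dimensional space over `K ≅ F_{q²}` on which `f` is the trace of a multiple of a non-degenerate hermitian form); `H` is the subgroup of `T` normalizing `K` — the symplectic maps that are `K`-linear or `K`-semilinear, a subgroup of type GU_d(q) (maximality is not assumed). Ω is the set of cosets of `H` in `T`, so an element of `T` of prime order `r` (`x ∈ T` with `x^r` scalar, `x` not scalar) fixes a point of Ω exactly when some `T`-conjugate of `x` normalizes `K`. Let `r` be a prime dividing the index of `H`.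 Then every element of `T` of order `r` fixes a point of Ω if and only if `r = 2`. -/
theorem result {F : Type*} [Field F] [Fintype F] {p : ℕ} [Fact p.Prime] [CharP F p] {q : ℕ} (hq : Fintype.card F = q)
    (hodd : Odd q) (d : ℕ) (hd : 2 ≤ d)
    (K : Subalgebra F (Matrix (Fin d ⊕ Fin d) (Fin d ⊕ Fin d) F)) (hK : Cfsg.Geo.IsFieldSubalgebra 2 K)
    (hKf : Cfsg.Geo.IsAdjointClosedFor (Cfsg.sympForm d F) K) (hKns : ¬ Cfsg.Geo.IsSelfAdjointFor (Cfsg.sympForm d F) K)
    (r : ℕ) [Fact r.Prime]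
    (hΩ : r ∣ (Cfsg.Geo.subalgebraNormalizer K).relIndex (Cfsg.spGL d F)) :
    (∀ x ∈ Cfsg.spGL d F, (∃ z : F, ((x ^ r : GL (Fin d ⊕ Fin d) F) : Matrix (Fin d ⊕ Fin d) (Fin d ⊕ Fin d) F) = z • (1 : Matrix (Fin d ⊕ Fin d) (Fin d ⊕ Fin d) F)) →
      (∀ z : F, (x : Matrix (Fin d ⊕ Fin d) (Fin d ⊕ Fin d) F) ≠ z • (1 : Matrix (Fin d ⊕ Fin d) (Fin d ⊕ Fin d) F)) →
      ∃ g ∈ Cfsg.spGL d F, g⁻¹ * x * g ∈ Cfsg.Geo.subalgebraNormalizer K) ↔ r = 2 := by
  classical
  subst hq
  have h2 : (2 : F) ≠ 0 := fun h => (Nat.not_even_iff_odd.2 hodd) (Nat.even_iff.2 (FiniteField.even_card_of_char_two (by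
    haveI := (CharP.charP_iff_prime_eq_zero Nat.prime_two).2 (by exact_mod_cast h : ((2 : ℕ) : F) = 0)
    exact ringChar.eq F 2)))
  haveI : Nonempty (Fin d ⊕ Fin d) := ⟨Sum.inl ⟨0, by omega⟩⟩
  obtain ⟨j, hjK, hj0, hanti⟩ : ∃ j ∈ K, j ≠ 0 ∧
      ∀ u v, sympBilin d F (j *ᵥ u) v = -sympBilin d F u (j *ᵥ v) := by
    simp only [Cfsg.Geo.IsSelfAdjointFor, not_forall] at hKns
    obtain ⟨k, hk, u₀, v₀, hne⟩ := hKns
    obtain ⟨k', hk', hadj'⟩ := hKf k hk
    have hadj : ∀ u v, sympBilin d F (k *ᵥ u) v = sympBilin d F u (k' *ᵥ v) := fun u v => by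
      rw [sympBilin_apply, sympBilin_apply]; exact hadj' u v
    refine ⟨k - k', sub_mem hk hk', fun e => hne ?_, fun u v => ?_⟩
    · rw [hadj', ← sub_eq_zero.1 e]
    · have h' : sympBilin d F (k' *ᵥ u) v = sympBilin d F u (k *ᵥ v) := by
        rw [sympBilin_swap, ← hadj, sympBilin_swap (k *ᵥ v) u]
      rw [sub_mulVec, sub_mulVec, map_sub, map_sub, LinearMap.sub_apply, hadj, h']
      ring
  have hnsc : ∀ c : F, j ≠ c • 1 := by
    intro c e
    refine hj0 ?_
    rw [e, smul_eq_zero]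
    left
    by_contra hc
    have hz : ∀ u v, sympBilin d F u v = 0 := fun u v => by
      have h := hanti u v
      rw [e, smul_mulVec, smul_mulVec, one_mulVec, one_mulVec, map_smul, map_smul, LinearMap.smul_apply,
        smul_eq_mul] at h
      have : c * (2 * sympBilin d F u v) = 0 := by linear_combination h
      exact (mul_eq_zero.1 ((mul_eq_zero.1 this).resolve_left hc)).resolve_left h2
    have := congrFun (sympBilin_sep (Pi.single (Sum.inl ⟨0, by omega⟩) 1 : Fin d ⊕ Fin d → F) fun v => hz _ v)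
      (Sum.inl ⟨0, by omega⟩)
    simp at this
  have hspan : ∀ k ∈ K, ∃ a b : F, k = a • 1 + b • j := by
    have hle : Submodule.span F {(1 : Matrix (Fin d ⊕ Fin d) (Fin d ⊕ Fin d) F), j} ≤
        Subalgebra.toSubmodule K := Submodule.span_le.2 (by
      rintro _ (rfl | rfl)
      · exact one_mem K
      · exact hjK)
    have hli : LinearIndependent F ![(1 : Matrix (Fin d ⊕ Fin d) (Fin d ⊕ Fin d) F), j] :=
      (LinearIndependent.pair_iff' (one_ne_zero)).2 fun c e => hnsc c e.symm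
    have hfr := finrank_span_eq_card hli
    rw [Fintype.card_fin, show Set.range ![(1 : Matrix (Fin d ⊕ Fin d) (Fin d ⊕ Fin d) F), j] = {1, j} by
      simp [Set.pair_comm]] at hfr
    have he := Submodule.eq_of_le_of_finrank_eq hle (by rw [hfr]; exact hK.finrank_eq.symm)
    intro k hk
    have : k ∈ Submodule.span F {(1 : Matrix (Fin d ⊕ Fin d) (Fin d ⊕ Fin d) F), j} := by
      rw [he]; exact hk
    obtain ⟨a, b, h⟩ := Submodule.mem_span_pair.1 this
    exact ⟨a, b, h.symm⟩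
  obtain ⟨δ, hδ⟩ : ∃ δ : F, j * j = δ • 1 := by
    obtain ⟨a, b, hab⟩ := hspan _ (mul_mem hjK hjK)
    refine ⟨a, ?_⟩
    suffices b = 0 by rw [hab, this, zero_smul, add_zero]
    by_contra hb
    refine hj0 (Matrix.ext_of_mulVec_single fun i => ?_)
    rw [zero_mulVec]
    refine sympBilin_sep _ fun v => ?_
    have e1 := hanti (j *ᵥ (Pi.single i 1 : Fin d ⊕ Fin d → F)) v
    rw [hanti (Pi.single i 1 : Fin d ⊕ Fin d → F), mulVec_mulVec, mulVec_mulVec, hab, add_mulVec, add_mulVec,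
      smul_mulVec, smul_mulVec, smul_mulVec, smul_mulVec, one_mulVec, one_mulVec] at e1
    simp only [map_add, map_smul, LinearMap.add_apply, LinearMap.smul_apply, smul_eq_mul, hanti] at e1
    have : 2 * b * sympBilin d F (Pi.single i 1 : Fin d ⊕ Fin d → F) (j *ᵥ v) = 0 := by linear_combination -e1
    rw [hanti, (mul_eq_zero.1 this).resolve_left (mul_ne_zero h2 hb), neg_zero]
  have hA : SpUnitFix.Anti (sympBilin d F) (Matrix.toLinAlgEquiv' j) δ := by
    refine ⟨sympBilin_self, sympBilin_sep, fun u v => ?_, fun v => ?_, fun c hc => ?_⟩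
    · rw [Matrix.toLinAlgEquiv'_apply, Matrix.toLinAlgEquiv'_apply]; exact hanti u v
    · rw [Matrix.toLinAlgEquiv'_apply, Matrix.toLinAlgEquiv'_apply, mulVec_mulVec, hδ, smul_mulVec, one_mulVec]
    have hzero : (j + c • 1) * (j - c • 1) = 0 := by
      rw [Matrix.add_mul, Matrix.mul_sub, Matrix.mul_sub, hδ, Matrix.mul_smul, Matrix.mul_one,
        Matrix.smul_mul, Matrix.one_mul, Matrix.smul_mul, Matrix.one_mul, smul_smul, hc]
      abel
    have hne : j + c • 1 ≠ 0 := fun e => hnsc (-c) (by rw [neg_smul]; exact eq_neg_of_add_eq_zero_left e)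
    obtain ⟨y, hy, hxy⟩ := hK.inv _ (add_mem hjK (K.smul_mem (one_mem K) c)) hne
    refine hnsc c (sub_eq_zero.1 ?_)
    have := congrArg (y * ·) hzero
    simp only [← Matrix.mul_assoc, Matrix.mul_zero] at this
    rwa [hK.comm y hy _ (add_mem hjK (K.smul_mem (one_mem K) c)), hxy, Matrix.one_mul] at this
  have hF : IsField K :=
    { exists_pair_ne := ⟨0, 1, zero_ne_one⟩
      mul_comm := fun x y => Subtype.ext (hK.comm x x.2 y y.2)
      mul_inv_cancel := fun {a} ha => by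
        obtain ⟨y, hy, hxy⟩ := hK.inv a a.2 fun e => ha (Subtype.ext e)
        exact ⟨⟨y, hy⟩, Subtype.ext hxy⟩ }
  letI : Field (SpExt.MatFieldSp K) := hF.toField
  letI : Algebra F (SpExt.MatFieldSp K) := (inferInstance : Algebra F ↥K)
  letI : Module (SpExt.MatFieldSp K) (Fin d ⊕ Fin d → F) := Module.compHom (Fin d ⊕ Fin d → F)
    (((Matrix.toLinAlgEquiv' : Matrix (Fin d ⊕ Fin d) (Fin d ⊕ Fin d) F ≃ₐ[F]
        _).toRingEquiv.toRingHom.comp
      K.val.toRingHom : ↥K →+* Module.End F (Fin d ⊕ Fin d → F)) :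
      SpExt.MatFieldSp K →+* Module.End F (Fin d ⊕ Fin d → F))
  haveI : Finite (SpExt.MatFieldSp K) := (inferInstance : Finite ↥K)
  haveI := Fintype.ofFinite (SpExt.MatFieldSp K)
  haveI : IsScalarTower F (SpExt.MatFieldSp K) (Fin d ⊕ Fin d → F) := ⟨fun c a x => by
    show (c • (a : ↥K) : ↥K).1 *ᵥ x = c • ((a : ↥K).1 *ᵥ x)
    exact Matrix.smul_mulVec c (a : ↥K).1 x⟩
  have hcL : Fintype.card (SpExt.MatFieldSp K) = Fintype.card F ^ 2 := by
    rw [← Nat.card_eq_fintype_card, ← Nat.card_eq_fintype_card,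
      show Nat.card (SpExt.MatFieldSp K) = Nat.card ↥K from rfl, Module.natCard_eq_pow_finrank (K := F) (V := ↥K),
      hK.finrank_eq]
  have halgval : ∀ a : F, ((algebraMap F (SpExt.MatFieldSp K) a : ↥K)).1 = a • (1 : Matrix (Fin d ⊕ Fin d) (Fin d ⊕ Fin d) F) :=
    fun a => Algebra.algebraMap_eq_smul_one a
  refine main hA hjK hspan (p := p) rfl h2 hd hΩ ?_
  rw [← CfsgLib.Classical.card_gu hcL]
  refine (SpUnitFix.card_gu_dvd (L := SpExt.MatFieldSp K) hA h2 rfl hcL S5983.finrank_V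
    (θ := ((⟨j, hjK⟩ : ↥K) : SpExt.MatFieldSp K)) ?_ (fun v => (Matrix.toLinAlgEquiv'_apply j v).symm) (fun a => ?_)
    ((Cfsg.Geo.subalgebraNormalizer K ⊓ Cfsg.spGL d F).map (glLin (ι := Fin d ⊕ Fin d) (F := F)).toMonoidHom)
    fun g hg hgj => ?_).trans (dvd_of_eq (Subgroup.card_map_of_injective (glLin (ι := Fin d ⊕ Fin d) (F := F)).injective))
  · refine Subtype.ext ?_
    rw [halgval]
    exact hδ
  · obtain ⟨c₀, c₁, h⟩ := hspan _ (a : ↥K).2
    refine ⟨c₀, c₁, Subtype.ext ?_⟩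
    show (a : ↥K).1 = (algebraMap F (SpExt.MatFieldSp K) c₀ : ↥K).1 + (algebraMap F (SpExt.MatFieldSp K) c₁ : ↥K).1 * j
    rw [h, halgval, halgval, smul_mul_assoc, one_mul]
  · obtain ⟨y, rfl⟩ := (glLin (ι := Fin d ⊕ Fin d) (F := F)).surjective g
    refine Subgroup.mem_map_of_mem _ ⟨S5665.mem_normalizer hjK hspan one_ne_zero
      (Matrix.ext_of_mulVec_single fun k => ?_), mem_spGL.2 fun u v => ?_⟩
    · have := hgj (Pi.single k 1)
      rw [glLin_apply, glLin_apply, Matrix.toLinAlgEquiv'_apply, Matrix.toLinAlgEquiv'_apply, mulVec_mulVec,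
        mulVec_mulVec] at this
      rwa [one_smul]
    · have := hg u v
      rwa [sympBilin_apply, sympBilin_apply, glLin_apply, glLin_apply] at this

end Cfsg.Agent.S5976
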