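import Cfsg.Statements.S5979
import Cfsg.Agent.Lib.MaxSub.KronFix
-- import your own Cfsg.Agent.* helpers here

set_option autoImplicit false
open scoped MatrixGroups
open Cfsg

namespace Cfsg.Agent.S5979

open CfsgLib.MaxSub CfsgLib.MaxSub.KronFix CfsgLib.Classical Matrix
open scoped Kronecker

section

universe u
variable {F : Type u} [Field F] [Fintype F]

/-- A scalar root with `w ^ n = -1`. -/
theorem exists_root {n : ℕ} (hn : n ≠ 0) (hodd : Odd (Fintype.card F))
    (hv : padicValNat 2 n < padicValNat 2 (Fintype.card F - 1)) : ∃ w : F, w ^ n = -1 := by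
  haveI : Fact (Nat.Prime 2) := ⟨Nat.prime_two⟩
  obtain ⟨g, hg⟩ := IsCyclic.exists_generator (α := Fˣ)
  have ho : orderOf g = Fintype.card F - 1 := by
    rw [orderOf_eq_card_of_forall_mem_zpowers hg, Nat.card_units, Nat.card_eq_fintype_card]
  obtain ⟨v, hvd⟩ : ∃ v, v = padicValNat 2 n := ⟨_, rfl⟩
  rw [← hvd] at hv
  obtain ⟨t, ht⟩ : 2 ^ (v + 1) ∣ Fintype.card F - 1 := (pow_dvd_pow 2 hv).trans pow_padicValNat_dvd
  obtain ⟨k, hk⟩ := pow_padicValNat_dvd (p := 2) (n := n)
  rw [← hvd] at hk
  have hkodd : Odd k := by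
    rw [← Nat.not_even_iff_odd, even_iff_two_dvd]
    rintro ⟨s, rfl⟩
    exact pow_succ_padicValNat_not_dvd (p := 2) (n := n) hn ⟨s, by rw [← hvd, pow_succ, mul_assoc]; exact hk⟩
  have hcard := Fintype.one_lt_card (α := F)
  have ht0 : 0 < t := Nat.pos_of_ne_zero fun h => by rw [h, mul_zero] at ht; omega
  have hneg : ((g ^ t : Fˣ) : F) ^ (2 ^ v) = -1 := by
    refine (mul_self_eq_one_iff.1 ?_).resolve_left fun h => ?_
    · rw [← pow_add, ← two_mul, ← pow_succ', ← Units.val_pow_eq_pow_val, ← pow_mul, mul_comm, ← ht, ← ho,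
        pow_orderOf_eq_one, Units.val_one]
    · rw [← Units.val_pow_eq_pow_val, Units.val_eq_one, ← pow_mul, ← orderOf_dvd_iff_pow_eq_one, ho, ht] at h
      have := Nat.le_of_dvd (Nat.mul_pos ht0 (Nat.two_pow_pos v)) h
      rw [pow_succ] at this
      nlinarith [Nat.two_pow_pos v]
  exact ⟨((g ^ t : Fˣ) : F), by rw [hk, pow_mul, hneg, hkodd.neg_one_pow]⟩

/-- No such root for a large `2`-part of `n`. -/
theorem pow_ne_neg_one (h2 : (2 : F) ≠ 0) {n : ℕ} {w : F} (hw : w ≠ 0)
    (hv : padicValNat 2 (Fintype.card F - 1) ≤ padicValNat 2 n) : w ^ n ≠ -1 := by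
  haveI : Fact (Nat.Prime 2) := ⟨Nat.prime_two⟩
  intro hwn
  have hcard := Fintype.one_lt_card (α := F)
  obtain ⟨Q, hQ⟩ := pow_padicValNat_dvd (p := 2) (n := Fintype.card F - 1)
  have hQodd : Odd Q := by
    rw [← Nat.not_even_iff_odd, even_iff_two_dvd]
    rintro ⟨t, rfl⟩
    exact pow_succ_padicValNat_not_dvd (p := 2) (n := Fintype.card F - 1) (by omega)
      ⟨t, by rw [pow_succ, mul_assoc]; exact hQ⟩
  obtain ⟨k, hk⟩ := (pow_dvd_pow 2 hv).trans (pow_padicValNat_dvd (p := 2) (n := n))
  have h : (w ^ n) ^ Q = 1 := by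
    conv_lhs => rw [hk]
    rw [← pow_mul, mul_right_comm, ← hQ, pow_mul, FiniteField.pow_card_sub_one_eq_one w hw, one_pow]
  rw [hwn, hQodd.neg_one_pow] at h
  exact h2 (by linear_combination -h)

variable {a b : ℕ}

local notation "κ" => Fin a × Fin b

/-- The rank of `c x - 1` for a fixed point with scalar first factor is a multiple of `a`. -/
theorem conj_cases {x g : GL κ F} (hfix : g⁻¹ * x * g ∈ Cfsg.Geo.kroneckerSubgroup a b F) :
    (∀ c : F, b ≤ (c • (x : Matrix κ κ F) - 1).rank) ∨ ∃ M : Matrix (Fin b) (Fin b) F,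
      ((g⁻¹ * x * g : GL κ F) : Matrix κ κ F) = (1 : Matrix (Fin a) (Fin a) F) ⊗ₖ M ∧
        ∀ c : F, (c • (x : Matrix κ κ F) - 1).rank = a * (c • M - 1).rank := by
  obtain ⟨A, B, hy⟩ := hfix
  have hconj : ∀ c : F, (c • (x : Matrix κ κ F) - 1).rank =
      (c • ((g⁻¹ * x * g : GL κ F) : Matrix κ κ F) - 1).rank := fun c => by
    have h : c • ((g⁻¹ * x * g : GL κ F) : Matrix κ κ F) - 1 =
        ((g⁻¹ : GL κ F) : Matrix κ κ F) * (c • (x : Matrix κ κ F) - 1) * (g : Matrix κ κ F) := by
      rw [Matrix.mul_sub, Matrix.sub_mul, Matrix.mul_smul, Matrix.smul_mul, ← Units.val_mul, ← Units.val_mul,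
        Matrix.mul_one, ← Units.val_mul, inv_mul_cancel, Units.val_one]
    rw [h, Matrix.rank_mul_eq_left_of_isUnit_det _ _ (Matrix.isUnits_det_units g),
      Matrix.rank_mul_eq_right_of_isUnit_det _ _ (Matrix.isUnits_det_units g⁻¹)]
  by_cases hs : ∃ s : F, (A : Matrix (Fin a) (Fin a) F) = s • 1
  · obtain ⟨s, hs⟩ := hs
    refine Or.inr ⟨s • (B : Matrix (Fin b) (Fin b) F), ?_, fun c => ?_⟩
    · rw [hy, hs, Matrix.smul_kronecker, Matrix.kronecker_smul]
    · rw [hconj, hy, hs, smul_one_kron, rank_one_kron, smul_smul]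
  · push Not at hs
    exact Or.inl fun c => by rw [hconj, hy]; exact rank_ge _ hs c

/-- The statement in Kronecker coordinates. -/
theorem core {p : ℕ} [Fact p.Prime] [CharP F p] (ha : 2 ≤ a) (hlt : a < b) {r : ℕ} [Fact r.Prime]
    (hdvd : r ≠ p → orderOf (Fintype.card F : ZMod r) ≤ a * b) :
    (∀ x : GL κ F, (x : Matrix κ κ F).det = 1 → (∃ z : F, (x : Matrix κ κ F) ^ r = z • 1) →
      (∀ z : F, (x : Matrix κ κ F) ≠ z • 1) →
      ∃ g : GL κ F, (g : Matrix κ κ F).det = 1 ∧ g⁻¹ * x * g ∈ Cfsg.Geo.kroneckerSubgroup a b F) ↔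
    (r = 2 ∧ a = 2 ∧ Odd (Fintype.card F) ∧ padicValNat 2 (Fintype.card F - 1) ≤ padicValNat 2 (a * b)) := by
  classical
  have hr : r.Prime := Fact.out
  have hN : Fintype.card κ = a * b := by simp
  have hab : 2 * b ≤ a * b := Nat.mul_le_mul_right b ha
  have hscal : ∀ (x : GL κ F) (c : F) (k : ℕ), (c • (x : Matrix κ κ F) - 1).rank = k → 0 < k → k < a * b →
      ∀ z : F, (x : Matrix κ κ F) ≠ z • 1 := by
    intro x c k hk h0 hlt z hz
    rw [hz, smul_smul, show ((c * z) • (1 : Matrix κ κ F) - 1) = (c * z - 1) • (1 : Matrix κ κ F) by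
      rw [sub_smul, one_smul]] at hk
    by_cases h : c * z - 1 = 0
    · rw [h, zero_smul, Matrix.rank_zero] at hk; omega
    · rw [Matrix.rank_of_isUnit _ ((Matrix.isUnit_iff_isUnit_det _).2 (by
        rw [Matrix.det_smul, Matrix.det_one, mul_one]; exact (IsUnit.mk0 _ h).pow _)), hN] at hk
      omega
  constructor
  · intro hall
    have hwit : ∀ (x : GL κ F) (c : F) (k : ℕ), (x : Matrix κ κ F).det = 1 → (∃ z : F, (x : Matrix κ κ F) ^ r = z • 1) →
        (c • (x : Matrix κ κ F) - 1).rank = k → 0 < k → k < b → a ∣ k := by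
      intro x c k hx hxr hk h0 hkb
      obtain ⟨g, -, hfix⟩ := hall x hx hxr (hscal x c k hk h0 (by omega))
      rcases conj_cases hfix with h | ⟨M, -, h⟩
      · have := h c; omega
      · exact ⟨_, hk ▸ h c⟩
    obtain ⟨u₀, u₁, hu⟩ : ∃ u₀ u₁ : κ, u₀ ≠ u₁ :=
      ⟨(⟨0, by omega⟩, ⟨0, by omega⟩), (⟨0, by omega⟩, ⟨1, by omega⟩), by simp [Prod.ext_iff]⟩
    by_cases hrp : r = p
    · subst hrp
      exfalso
      have hp : ∀ k : ℕ, (Matrix.transvection u₀ u₁ (1 : F)) ^ k = Matrix.transvection u₀ u₁ (k : F) := by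
        intro k
        induction k with
        | zero => simp [Matrix.transvection_zero]
        | succ k ih => rw [pow_succ, ih, Matrix.transvection_mul_transvection_same _ _ hu, Nat.cast_succ]
      have hdet : (Matrix.transvection u₀ u₁ (1 : F)).det = 1 := Matrix.det_transvection_of_ne u₀ u₁ hu 1
      have hrk : ((1 : F) • Matrix.transvection u₀ u₁ (1 : F) - 1).rank = 1 := by
        rw [one_smul, Matrix.transvection, add_sub_cancel_left, Matrix.single_eq_single_vecMulVec_single]
        refine le_antisymm (Matrix.rank_vecMulVec_le _ _) (Nat.one_le_iff_ne_zero.2 fun h => ?_)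
        have h' := Submodule.finrank_eq_zero.1 h
        have : (Matrix.vecMulVec (Pi.single u₀ (1 : F)) (Pi.single u₁ 1)).mulVecLin (Pi.single u₁ 1) ∈
            LinearMap.range (Matrix.vecMulVec (Pi.single u₀ (1 : F)) (Pi.single u₁ 1)).mulVecLin := ⟨_, rfl⟩
        rw [h', Submodule.mem_bot] at this
        simpa [Matrix.vecMulVec_apply] using congrFun this u₀
      have := hwit (Matrix.GeneralLinearGroup.mkOfDetNeZero (Matrix.transvection u₀ u₁ (1 : F))
        (by rw [hdet]; exact one_ne_zero)) 1 1 hdet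
        ⟨1, by rw [one_smul]; exact (hp r).trans (by rw [CharP.cast_eq_zero, Matrix.transvection_zero])⟩ hrk one_pos
        (by omega)
      have := Nat.le_of_dvd one_pos this
      omega
    have hrF : (r : F) ≠ 0 := fun h => hrp ((Nat.prime_dvd_prime_iff_eq Fact.out hr).1
      ((CharP.cast_eq_zero_iff F p r).1 h)).symm
    have hdiag : ∀ (d : κ → F), (∀ u, d u ≠ 0) → ∏ u, d u = 1 → ∀ e : F, (∀ u, d u ^ r = e) → ∀ c : F,
        ∃ x : GL κ F, (x : Matrix κ κ F).det = 1 ∧ (∃ z : F, (x : Matrix κ κ F) ^ r = z • 1) ∧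
          (x : Matrix κ κ F) = Matrix.diagonal d ∧
          (c • (x : Matrix κ κ F) - 1).rank = Fintype.card {u // c * d u - 1 ≠ 0} := by
      intro d hd0 hd e he c
      have hdet : (Matrix.diagonal d).det = 1 := by rw [Matrix.det_diagonal, hd]
      refine ⟨Matrix.GeneralLinearGroup.mkOfDetNeZero (Matrix.diagonal d) (by rw [hdet]; exact one_ne_zero), hdet,
        ⟨e, ?_⟩, rfl, ?_⟩
      · show (Matrix.diagonal d) ^ r = _
        rw [Matrix.diagonal_pow, ← Matrix.diagonal_one, ← Matrix.diagonal_smul]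
        congr 1
        funext u
        simp [he]
      · show (c • Matrix.diagonal d - 1).rank = _
        rw [← Matrix.diagonal_smul, ← Matrix.diagonal_one, Matrix.diagonal_sub, Matrix.rank_diagonal]
        rfl
    by_cases hr2 : r = 2
    · subst hr2
      have h2 : (2 : F) ≠ 0 := by exact_mod_cast hrF
      have hodd : Odd (Fintype.card F) := Nat.odd_iff.2 (FiniteField.odd_card_of_char_ne_two fun hc => h2 (by
        have := ringChar.charP F
        rw [hc] at this
        exact_mod_cast CharP.cast_eq_zero F 2))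
      have ha2 : a = 2 := by
        obtain ⟨d, hd⟩ : ∃ d : κ → F, d = fun u : κ => if u = u₀ then -1 else if u = u₁ then -1 else 1 := ⟨_, rfl⟩
        obtain ⟨x, hx, hxr, -, hxk⟩ := hdiag d (fun u => by rw [hd]; dsimp only; split_ifs <;> norm_num)
          (by rw [Fintype.prod_eq_mul _ _ hu fun i hi => by rw [hd]; simp [hi.1, hi.2], hd]; simp [Ne.symm hu]) 1
          (fun u => by rw [hd]; dsimp only; split_ifs <;> norm_num) 1
        have hd0 : ∀ u : κ, (1 : F) * d u - 1 ≠ 0 ↔ u ∈ ({u₀, u₁} : Finset κ) := fun u => by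
          rw [hd, one_mul, Finset.mem_insert, Finset.mem_singleton]
          dsimp only
          have h2' : (-1 : F) - 1 ≠ 0 := fun h => h2 (by linear_combination -h)
          split_ifs with h1 h3
          · exact iff_of_true h2' (Or.inl h1)
          · exact iff_of_true h2' (Or.inr h3)
          · exact iff_of_false (fun h => h (sub_self 1)) (by tauto)
        rw [Fintype.card_congr (Equiv.subtypeEquivRight hd0), Fintype.card_coe, Finset.card_pair hu] at hxk
        have := Nat.le_of_dvd two_pos (hwit x 1 2 hx hxr hxk two_pos (by omega))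
        omega
      refine ⟨rfl, ha2, hodd, ?_⟩
      by_contra hv
      push Not at hv
      obtain ⟨w, hw⟩ := exists_root (F := F) (n := a * b) (by omega) hodd hv
      have hw0 : w ≠ 0 := fun h => by
        rw [h, zero_pow (by omega)] at hw; simp at hw
      obtain ⟨d, hd⟩ : ∃ d : κ → F, d = fun u : κ => if u = u₀ then -w else w := ⟨_, rfl⟩
      obtain ⟨x, hx, hxr, -, hxk⟩ := hdiag d (fun u => by rw [hd]; dsimp only; split_ifs <;> simp [hw0])
        (by
          rw [← Finset.mul_prod_erase _ _ (Finset.mem_univ u₀), Finset.prod_congr rfl (g := fun _ => w)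
            fun j hj => by rw [hd]; dsimp only; rw [if_neg (Finset.mem_erase.1 hj).1],
            Finset.prod_const, Finset.card_erase_of_mem (Finset.mem_univ _), Finset.card_univ, hN, hd]
          dsimp only
          rw [if_pos rfl, neg_mul, ← pow_succ', Nat.sub_add_cancel (by omega), hw, neg_neg])
        (w * w) (fun u => by rw [hd]; dsimp only; split_ifs <;> ring) w⁻¹
      have hd0 : ∀ u : κ, w⁻¹ * d u - 1 ≠ 0 ↔ u = u₀ := fun u => by
        rw [hd]; dsimp only
        split_ifs with h1
        · exact iff_of_true (fun h => h2 (by rw [mul_neg, inv_mul_cancel₀ hw0] at h; linear_combination -h)) h1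
        · exact iff_of_false (fun h => h (by rw [inv_mul_cancel₀ hw0, sub_self])) h1
      rw [Fintype.card_congr (Equiv.subtypeEquivRight hd0), Fintype.card_subtype_eq] at hxk
      have := Nat.le_of_dvd one_pos (hwit x w⁻¹ 1 hx hxr hxk one_pos (by omega))
      omega
    exfalso
    obtain ⟨i, hi⟩ : ∃ i, i = orderOf (Fintype.card F : ZMod r) := ⟨_, rfl⟩
    have hipos : 0 < i := hi ▸ SemiCriterion.order_pos (p := p) hrp
    by_cases hi1 : i = 1
    · obtain ⟨ω, hω⟩ : ∃ ω : F, IsPrimitiveRoot ω r := by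
        obtain ⟨g, hg⟩ := IsCyclic.exists_generator (α := Fˣ)
        have hcard := Fintype.one_lt_card (α := F)
        have ho : orderOf g = Fintype.card F - 1 := by
          rw [orderOf_eq_card_of_forall_mem_zpowers hg, Nat.card_units, Nat.card_eq_fintype_card]
        obtain ⟨t, ht⟩ : r ∣ Fintype.card F - 1 := by
          rw [← ZMod.natCast_eq_zero_iff, Nat.cast_sub (by omega), Nat.cast_one, sub_eq_zero]
          exact orderOf_eq_one_iff.1 (hi ▸ hi1)
        refine ⟨((g ^ t : Fˣ) : F), IsPrimitiveRoot.coe_units_iff.2 ?_⟩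
        have h := IsPrimitiveRoot.orderOf g
        rw [ho] at h
        exact h.pow (by omega) (by rw [ht]; ring)
      have hωr := hω.pow_eq_one
      have hω0 : ω ≠ 0 := hω.ne_zero hr.ne_zero
      have hω1 : ω ≠ 1 := hω.ne_one hr.one_lt
      have hω2 : ω⁻¹ * ω⁻¹ ≠ 1 := fun h => by
        rw [← mul_inv, inv_eq_one, ← sq] at h
        have := Nat.le_of_dvd two_pos (hω.dvd_of_pow_eq_one 2 h)
        have := hr.two_le
        omega
      obtain ⟨d, hd⟩ : ∃ d : κ → F, d = fun u : κ => if u = u₀ then ω else if u = u₁ then ω⁻¹ else 1 := ⟨_, rfl⟩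
      obtain ⟨x, hx, hxr, hxd, hx1⟩ := hdiag d (fun u => by rw [hd]; dsimp only; split_ifs <;> simp [hω0])
        (by rw [Fintype.prod_eq_mul _ _ hu fun i hi => by rw [hd]; simp [hi.1, hi.2], hd]; simp [Ne.symm hu, hω0]) 1
        (fun u => by rw [hd]; dsimp only; split_ifs <;> simp [hωr, inv_pow]) 1
      have hd1 : ∀ u : κ, (1 : F) * d u - 1 ≠ 0 ↔ u ∈ ({u₀, u₁} : Finset κ) := fun u => by
        rw [hd, one_mul, Finset.mem_insert, Finset.mem_singleton]
        dsimp only
        split_ifs with h1 h3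
        · exact iff_of_true (sub_ne_zero.2 hω1) (Or.inl h1)
        · exact iff_of_true (sub_ne_zero.2 fun h => hω1 (inv_eq_one.1 h)) (Or.inr h3)
        · exact iff_of_false (fun h => h (sub_self 1)) (by tauto)
      rw [Fintype.card_congr (Equiv.subtypeEquivRight hd1), Fintype.card_coe, Finset.card_pair hu] at hx1
      obtain ⟨g, -, hfix⟩ := hall x hx hxr (hscal x 1 2 hx1 two_pos (by omega))
      rcases conj_cases hfix with h | ⟨M, -, h⟩
      · have := h 1; omega
      have hd2 : ∀ u : κ, ω⁻¹ * d u - 1 ≠ 0 ↔ ¬ u = u₀ := fun u => by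
        rw [hd]; dsimp only
        split_ifs with h1 h3
        · exact iff_of_false (fun h => h (by rw [inv_mul_cancel₀ hω0, sub_self])) (fun h => h h1)
        · exact iff_of_true (sub_ne_zero.2 hω2) h1
        · exact iff_of_true (sub_ne_zero.2 (by rw [mul_one, ne_eq, inv_eq_one]; exact hω1)) h1
      have hω' := h ω⁻¹
      rw [hxd, ← Matrix.diagonal_smul, ← Matrix.diagonal_one, Matrix.diagonal_sub, Matrix.rank_diagonal,
        show Fintype.card {i // (ω⁻¹ • d) i - 1 ≠ 0} = Fintype.card {u : κ // ¬ u = u₀} from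
          Fintype.card_congr (Equiv.subtypeEquivRight hd2),
        Fintype.card_subtype_compl, Fintype.card_subtype_eq, hN] at hω'
      have h1 : a ∣ a * b - 1 := ⟨_, hω'⟩
      have h2 := Nat.dvd_sub (dvd_mul_right a b) h1
      rw [show a * b - (a * b - 1) = 1 by omega] at h2
      have := Nat.le_of_dvd one_pos h2
      omega
    obtain ⟨x, hx, hxr, hxk⟩ := exists_block (F := F) (ι := κ) (r := r) hrp hi (by omega)
      (by rw [hN, hi]; exact hdvd hrp)
    have hxr' : (x : Matrix κ κ F) ^ r = 1 := by rw [← Units.val_pow_eq_pow_val, hxr, Units.val_one]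
    have hxk1 : ((1 : F) • (x : Matrix κ κ F) - 1).rank = i := by rw [one_smul]; exact hxk
    have hxns : ∀ z : F, (x : Matrix κ κ F) ≠ z • 1 := by
      intro z hz
      have hz1 : z = 1 := by
        have h1 : z ^ r = 1 := by
          have h := congrFun (congrFun (hz ▸ hxr') u₀) u₀
          simpa [_root_.smul_pow] using h
        have h0 : z ≠ 0 := fun h => by rw [h, zero_pow hr.ne_zero] at h1; exact zero_ne_one h1
        have h2 := pow_gcd_eq_one.2 ⟨h1, FiniteField.pow_card_sub_one_eq_one z h0⟩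
        rwa [((Nat.Prime.coprime_iff_not_dvd hr).2 fun hd => hi1 ?_).gcd_eq_one, pow_one] at h2
        rw [← ZMod.natCast_eq_zero_iff, Nat.cast_sub Fintype.card_pos, sub_eq_zero, Nat.cast_one] at hd
        rw [hi, hd, orderOf_one]
      rw [hz, hz1, one_smul, sub_self, Matrix.rank_zero] at hxk
      omega
    obtain ⟨g, -, hfix⟩ := hall x hx ⟨1, by rw [hxr', one_smul]⟩ hxns
    have hyr : (g⁻¹ * x * g) ^ r = 1 := by
      rw [show g⁻¹ * x * g = g⁻¹ * x * g⁻¹⁻¹ by rw [inv_inv], conj_pow, hxr, mul_one, mul_inv_cancel]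
    rcases conj_cases hfix with hge | ⟨M, hM, h⟩
    · have hbi : b ≤ i := hxk1 ▸ hge 1
      obtain ⟨A, B, hy⟩ := hfix
      have hA : ∀ s : F, (A : Matrix (Fin a) (Fin a) F) ≠ s • 1 := by
        intro s hs
        have hMr : ((1 * s) • (B : Matrix (Fin b) (Fin b) F)) ^ r = 1 := by
          have h := congrArg (fun y : GL κ F => (y : Matrix κ κ F)) hyr
          simp only [Units.val_one] at h
          rw [Units.val_pow_eq_pow_val, hy, hs, Matrix.smul_kronecker, ← Matrix.kronecker_smul] at h
          have hpw : ∀ k : ℕ, ((1 : Matrix (Fin a) (Fin a) F) ⊗ₖ (s • (B : Matrix (Fin b) (Fin b) F))) ^ k =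
              (1 : Matrix (Fin a) (Fin a) F) ⊗ₖ ((s • (B : Matrix (Fin b) (Fin b) F)) ^ k) := by
            intro k
            induction k with
            | zero => simp
            | succ k ih => rw [pow_succ, pow_succ, ih, ← Matrix.mul_kronecker_mul, Matrix.one_mul]
          rw [hpw] at h
          rw [one_mul]
          ext j j'
          have h' := congrFun (congrFun h (⟨0, by omega⟩, j)) (⟨0, by omega⟩, j')
          simpa [Matrix.one_apply, Prod.ext_iff] using h'
        obtain ⟨k, hk⟩ := dvd_rank hrF hMr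
        have h : ((1 : F) • (x : Matrix κ κ F) - 1).rank = a * (i * k) := by
          rw [one_smul,
            ← Matrix.rank_mul_eq_right_of_isUnit_det (((g⁻¹ : GL κ F)) : Matrix κ κ F) ((x : Matrix κ κ F) - 1)
              (Matrix.isUnits_det_units g⁻¹),
            ← Matrix.rank_mul_eq_left_of_isUnit_det (g : Matrix κ κ F) _ (Matrix.isUnits_det_units g),
            show ((g⁻¹ : GL κ F) : Matrix κ κ F) * ((x : Matrix κ κ F) - 1) * (g : Matrix κ κ F) =
              (1 : F) • ((g⁻¹ * x * g : GL κ F) : Matrix κ κ F) - 1 by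
            rw [one_smul, Matrix.mul_sub, Matrix.sub_mul, ← Units.val_mul, ← Units.val_mul, Matrix.mul_one,
              ← Units.val_mul, inv_mul_cancel, Units.val_one],
            hy, hs, smul_one_kron, rank_one_kron, hk, hi]
        rw [hxk1] at h
        rcases Nat.eq_zero_or_pos k with rfl | hk0
        · simp at h; omega
        · have h1 := Nat.le_mul_of_pos_right i hk0
          have h2 := Nat.mul_le_mul_right (i * k) ha
          omega
      -- the first factor has order prime to `r` modulo scalars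
      have hAr : ∃ α : F, (A : Matrix (Fin a) (Fin a) F) ^ r = α • 1 := by
        by_contra hno
        push Not at hno
        have h := rank_ge ((B : Matrix (Fin b) (Fin b) F) ^ r) hno (1 : F)
        have hpw : ∀ k : ℕ, ((A : Matrix (Fin a) (Fin a) F) ⊗ₖ (B : Matrix (Fin b) (Fin b) F)) ^ k =
            ((A : Matrix (Fin a) (Fin a) F) ^ k) ⊗ₖ ((B : Matrix (Fin b) (Fin b) F) ^ k) := by
          intro k
          induction k with
          | zero => simp
          | succ k ih => rw [pow_succ, pow_succ, pow_succ, ih, ← Matrix.mul_kronecker_mul]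
        rw [← hpw, ← hy, ← Units.val_pow_eq_pow_val, hyr, Units.val_one, one_smul, sub_self, Matrix.rank_zero] at h
        omega
      obtain ⟨α, hα⟩ := hAr
      have hα0 : α ≠ 0 := fun h => by
        have hdet := congrArg Matrix.det hα
        haveI : Nonempty (Fin a) := ⟨⟨0, by omega⟩⟩
        rw [h, zero_smul, Matrix.det_zero, Matrix.det_pow] at hdet
        exact pow_ne_zero _ (Matrix.isUnits_det_units A).ne_zero hdet
      have hcop : r.Coprime (Fintype.card F - 1) := (Nat.Prime.coprime_iff_not_dvd hr).2 fun hd => hi1 (by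
        rw [← ZMod.natCast_eq_zero_iff, Nat.cast_sub Fintype.card_pos, sub_eq_zero, Nat.cast_one] at hd
        rw [hi, hd, orderOf_one])
      obtain ⟨β, hβ⟩ : ∃ β : F, β ^ r = α := by
        obtain ⟨u, hu⟩ := exists_pow_eq_self_of_coprime (x := Units.mk0 α hα0) (n := r)
          (hcop.coprime_dvd_right (orderOf_dvd_of_pow_eq_one (Units.ext (by
            rw [Units.val_pow_eq_pow_val, Units.val_mk0, FiniteField.pow_card_sub_one_eq_one α hα0, Units.val_one]))))
        exact ⟨α ^ u, by
          have := congrArg Units.val hu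
          rw [Units.val_pow_eq_pow_val, Units.val_pow_eq_pow_val, Units.val_mk0, ← pow_mul, mul_comm, pow_mul] at this
          exact this⟩
      have hβ0 : β ≠ 0 := fun h => hα0 (by rw [← hβ, h, zero_pow hr.ne_zero])
      have hAr' : (β⁻¹ • (A : Matrix (Fin a) (Fin a) F)) ^ r = 1 := by
        rw [_root_.smul_pow, hα, smul_smul, inv_pow, hβ, inv_mul_cancel₀ hα0, one_smul]
      obtain ⟨k, hk⟩ := dvd_rank hrF hAr'
      have hle := Matrix.rank_le_card_height (β⁻¹ • (A : Matrix (Fin a) (Fin a) F) - 1)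
      rw [Fintype.card_fin, hk, ← hi] at hle
      rcases Nat.eq_zero_or_pos k with rfl | hk0
      · refine hA β ?_
        rw [mul_zero] at hk
        have h0 : β⁻¹ • (A : Matrix (Fin a) (Fin a) F) - 1 = 0 := Matrix.mulVec_injective.eq_iff.1 (funext fun v => by
          have h' := Submodule.finrank_eq_zero.1 hk
          have : (β⁻¹ • (A : Matrix (Fin a) (Fin a) F) - 1).mulVecLin v ∈
              LinearMap.range (β⁻¹ • (A : Matrix (Fin a) (Fin a) F) - 1).mulVecLin := ⟨v, rfl⟩
          rw [h', Submodule.mem_bot, Matrix.mulVecLin_apply] at this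
          rw [this, Matrix.zero_mulVec])
        rw [sub_eq_zero] at h0
        rw [← h0, smul_smul, mul_inv_cancel₀ hβ0, one_smul]
      · have := Nat.le_mul_of_pos_right i hk0
        omega
    · have hMr : M ^ r = 1 := by
        have h' := congrArg (fun y : GL κ F => (y : Matrix κ κ F)) hyr
        simp only [Units.val_one] at h'
        rw [Units.val_pow_eq_pow_val, hM] at h'
        have hpw : ∀ k : ℕ, ((1 : Matrix (Fin a) (Fin a) F) ⊗ₖ M) ^ k = (1 : Matrix (Fin a) (Fin a) F) ⊗ₖ (M ^ k) := by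
          intro k
          induction k with
          | zero => simp
          | succ k ih => rw [pow_succ, pow_succ, ih, ← Matrix.mul_kronecker_mul, Matrix.one_mul]
        rw [hpw] at h'
        ext j j'
        have h'' := congrFun (congrFun h' (⟨0, by omega⟩, j)) (⟨0, by omega⟩, j')
        simpa [Matrix.one_apply, Prod.ext_iff] using h''
      obtain ⟨k, hk⟩ := dvd_rank hrF hMr
      have h1 := h 1
      rw [hxk1, one_smul, hk, ← hi] at h1
      rcases Nat.eq_zero_or_pos k with rfl | hk0
      · simp at h1; omega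
      · have h2 := Nat.le_mul_of_pos_right i hk0
        have h3 := Nat.mul_le_mul_right (i * k) ha
        omega
  · rintro ⟨rfl, rfl, hodd, hv⟩ x hxdet ⟨z, hz⟩ -
    have h2 : (2 : F) ≠ 0 := fun h => (Nat.not_even_iff_odd.2 hodd) (Nat.even_iff.2
      (FiniteField.even_card_of_char_two (by
        haveI := (CharP.charP_iff_prime_eq_zero Nat.prime_two).2 (by exact_mod_cast h : ((2 : ℕ) : F) = 0)
        exact ringChar.eq F 2)))
    have hxx : ∀ v, (x : Matrix (Fin 2 × Fin b) (Fin 2 × Fin b) F) *ᵥ ((x : Matrix (Fin 2 × Fin b) (Fin 2 × Fin b) F) *ᵥ v) = z • v := fun v => by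
      rw [Matrix.mulVec_mulVec, ← sq, hz, Matrix.smul_mulVec, Matrix.one_mulVec]
    have hd := congrArg Matrix.det hz
    rw [Matrix.det_pow, hxdet, one_pow, Matrix.det_smul, Matrix.det_one, mul_one, hN] at hd
    have hz0 : z ≠ 0 := fun h => by rw [h, zero_pow (by omega)] at hd; exact one_ne_zero hd
    let T : Module.End F ((Fin 2 × Fin b) → F) := (x : Matrix (Fin 2 × Fin b) (Fin 2 × Fin b) F).mulVecLin
    have hT : ∀ v, T v = (x : Matrix (Fin 2 × Fin b) (Fin 2 × Fin b) F) *ᵥ v := fun v => rfl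
    have hfd : Module.finrank F ((Fin 2 × Fin b) → F) = 2 * b := by rw [Module.finrank_fintype_fun_eq_card, hN]
    by_cases hsq : IsSquare z
    · obtain ⟨w, hw⟩ := hsq
      have hw0 : w ≠ 0 := fun e => hz0 (by rw [hw, e, mul_zero])
      obtain ⟨P, hP⟩ : ∃ P : Submodule F ((Fin 2 × Fin b) → F), P = LinearMap.ker (T - w • 1) := ⟨_, rfl⟩
      obtain ⟨N, hN'⟩ : ∃ N : Submodule F ((Fin 2 × Fin b) → F), N = LinearMap.ker (T + w • 1) := ⟨_, rfl⟩
      have hPm : ∀ v, v ∈ P ↔ T v = w • v := fun v => by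
        rw [hP, LinearMap.mem_ker, LinearMap.sub_apply, sub_eq_zero, LinearMap.smul_apply, Module.End.one_apply]
      have hNm : ∀ v, v ∈ N ↔ T v = -(w • v) := fun v => by
        rw [hN', LinearMap.mem_ker, LinearMap.add_apply, add_eq_zero_iff_eq_neg, LinearMap.smul_apply,
          Module.End.one_apply]
      have hc : IsCompl P N := by
        refine ⟨Submodule.disjoint_def.2 fun v h1 h1' => ?_, codisjoint_iff.2 (eq_top_iff.2 fun v _ => ?_)⟩
        · have h : (2 * w) • v = 0 := by
            have := ((hPm v).1 h1).symm.trans ((hNm v).1 h1')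
            linear_combination (norm := module) this
          exact (smul_eq_zero.1 h).resolve_left (mul_ne_zero h2 hw0)
        · refine Submodule.mem_sup.2 ⟨(2 * w)⁻¹ • (w • v + T v), ?_, (2 * w)⁻¹ • (w • v - T v), ?_, ?_⟩
          · rw [hPm, map_smul, map_add, map_smul, hT (T v), hT v, hxx, hw]; module
          · rw [hNm, map_smul, map_sub, map_smul, hT (T v), hT v, hxx, hw]; module
          · rw [← smul_add, show w • v + T v + (w • v - T v) = (2 * w) • v by module, smul_smul,
              inv_mul_cancel₀ (mul_ne_zero h2 hw0), one_smul]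
      have hsum := Submodule.finrank_add_eq_of_isCompl hc
      rw [hfd] at hsum
      have hTdet : LinearMap.det T = 1 := (LinearMap.det_toLin' _).trans hxdet
      have hTe : T = (Submodule.prodEquivOfIsCompl P N hc : (P × N) →ₗ[F] ((Fin 2 × Fin b) → F)) ∘ₗ
          ((w • (LinearMap.id : P →ₗ[F] P)).prodMap ((-w) • (LinearMap.id : N →ₗ[F] N))) ∘ₗ
            ((Submodule.prodEquivOfIsCompl P N hc).symm : ((Fin 2 × Fin b) → F) →ₗ[F] (P × N)) := by
        refine LinearMap.ext fun v => ?_
        obtain ⟨⟨u, u'⟩, rfl⟩ := (Submodule.prodEquivOfIsCompl P N hc).surjective v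
        rw [LinearMap.comp_apply, LinearMap.comp_apply, LinearEquiv.coe_coe, LinearEquiv.coe_coe,
          LinearEquiv.symm_apply_apply]
        simp only [Submodule.coe_prodEquivOfIsCompl', LinearMap.prodMap_apply, LinearMap.id_apply,
          LinearMap.smul_apply, map_add, (hPm u).1 u.2, (hNm u').1 u'.2, Submodule.coe_smul, neg_smul,
          Submodule.coe_neg]
      rw [hTe, LinearMap.det_conj, LinearMap.det_prodMap, LinearMap.det_smul, LinearMap.det_smul, LinearMap.det_id,
        LinearMap.det_id, mul_one, mul_one, neg_pow w, mul_left_comm, ← pow_add, hsum] at hTdet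
      obtain ⟨t, ht⟩ : Even (Module.finrank F N) := by
        rcases Nat.even_or_odd (Module.finrank F N) with h | h
        · exact h
        · rw [h.neg_one_pow, neg_one_mul, neg_eq_iff_eq_neg] at hTdet
          exact absurd hTdet (pow_ne_neg_one h2 hw0 hv)
      let ε : Fin b → F := fun k => if (k : ℕ) < t then -1 else 1
      have hε0 : ∀ k, ε k ≠ 0 := fun k => by dsimp only [ε]; split_ifs <;> norm_num
      let B' : GL (Fin b) F := Matrix.GeneralLinearGroup.mkOfDetNeZero (Matrix.diagonal ε)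
        (by rw [Matrix.det_diagonal, Finset.prod_ne_zero_iff]; exact fun k _ => hε0 k)
      let A' : GL (Fin 2) F := Matrix.GeneralLinearGroup.mkOfDetNeZero (w • 1)
        (by rw [Matrix.det_smul, Matrix.det_one, mul_one]; exact pow_ne_zero _ hw0)
      obtain ⟨y, hy⟩ : ∃ y : GL (Fin 2 × Fin b) F, (y : Matrix (Fin 2 × Fin b) (Fin 2 × Fin b) F) = Matrix.diagonal fun u : (Fin 2 × Fin b) => w * ε u.2 := by
        refine ⟨Matrix.GeneralLinearGroup.mkOfDetNeZero (Matrix.diagonal fun u : (Fin 2 × Fin b) => w * ε u.2) (?_), rfl⟩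
        rw [Matrix.det_diagonal, Finset.prod_ne_zero_iff]
        exact fun u _ => mul_ne_zero hw0 (hε0 _)
      have hyk : y ∈ Cfsg.Geo.kroneckerSubgroup 2 b F := ⟨A', B', by
        rw [hy]
        show _ = (w • (1 : Matrix (Fin 2) (Fin 2) F)) ⊗ₖ Matrix.diagonal ε
        rw [← Matrix.diagonal_one, ← Matrix.diagonal_smul, Matrix.diagonal_kronecker_diagonal]
        simp⟩
      have hcard : Fintype.card {u : (Fin 2 × Fin b) // (u.2 : ℕ) < t} = Module.finrank F N := by
        have e : {u : (Fin 2 × Fin b) // (u.2 : ℕ) < t} ≃ Fin 2 × Fin t :=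
          { toFun := fun u => (u.1.1, ⟨u.1.2, u.2⟩)
            invFun := fun u => ⟨(u.1, ⟨u.2, by omega⟩), u.2.2⟩
            left_inv := fun u => rfl
            right_inv := fun u => rfl }
        rw [Fintype.card_congr e, Fintype.card_prod, Fintype.card_fin, Fintype.card_fin, ht, two_mul]
      let eN : Fin (Module.finrank F N) ≃ {u : (Fin 2 × Fin b) // (u.2 : ℕ) < t} := (Fintype.equivFinOfCardEq hcard).symm
      let eP : Fin (Module.finrank F P) ≃ {u : (Fin 2 × Fin b) // ¬ (u.2 : ℕ) < t} := (Fintype.equivFinOfCardEq (by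
        rw [Fintype.card_subtype_compl, hcard, hN]; omega)).symm
      let β : Module.Basis (Fin 2 × Fin b) F ((Fin 2 × Fin b) → F) :=
        ((((Module.finBasis F N).prod (Module.finBasis F P)).map
          (Submodule.prodEquivOfIsCompl N P hc.symm)).reindex (eN.sumCongr eP)).reindex (Equiv.sumCompl _)
      obtain ⟨h, hh⟩ := exists_gl_of_basis β
      have hβ : ∀ u : (Fin 2 × Fin b), T (β u) = (w * ε u.2) • β u := by
        intro u
        obtain ⟨u', rfl⟩ := (Equiv.sumCompl fun u : (Fin 2 × Fin b) => (u.2 : ℕ) < t).surjective u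
        simp only [β, Module.Basis.reindex_apply, Equiv.symm_apply_apply]
        rcases u' with u' | u'
        · obtain ⟨k, rfl⟩ := eN.surjective u'
          simp only [Equiv.sumCongr_symm, Equiv.sumCongr_apply, Sum.map_inl, Equiv.symm_apply_apply,
            Module.Basis.map_apply, Module.Basis.prod_apply, LinearMap.coe_inl, Sum.elim_inl, Function.comp_apply,
            Submodule.coe_prodEquivOfIsCompl', Submodule.coe_zero, add_zero, Equiv.sumCompl_apply_inl]
          have hlt : ((eN k : (Fin 2 × Fin b)).2 : ℕ) < t := (eN k).2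
          rw [(hNm _).1 (Subtype.mem _)]
          simp only [ε, if_pos hlt, mul_neg, mul_one, neg_smul]
        · obtain ⟨k, rfl⟩ := eP.surjective u'
          simp only [Equiv.sumCongr_symm, Equiv.sumCongr_apply, Sum.map_inr, Equiv.symm_apply_apply,
            Module.Basis.map_apply, Module.Basis.prod_apply, LinearMap.coe_inr, Sum.elim_inr, Function.comp_apply,
            Submodule.coe_prodEquivOfIsCompl', Submodule.coe_zero, zero_add, Equiv.sumCompl_apply_inr]
          have hlt : ¬ ((eP k : (Fin 2 × Fin b)).2 : ℕ) < t := (eP k).2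
          rw [(hPm _).1 (Subtype.mem _)]
          simp only [ε, if_neg hlt, mul_one]
      obtain ⟨g, hg, hgy⟩ := exists_sl_conj (x := x) (y := y) (h := h) (Matrix.ext_of_mulVec_single fun u => by
          rw [← Matrix.mulVec_mulVec, ← Matrix.mulVec_mulVec, hh, hy, Matrix.mulVec_single_one]
          rw [show (Matrix.diagonal fun u : (Fin 2 × Fin b) => w * ε u.2).col u = (w * ε u.2) • Pi.single u 1 from funext fun v => by
            rcases eq_or_ne v u with rfl | hvu <;> simp [*], Matrix.mulVec_smul, hh]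
          exact hβ u)
        fun c hc0 => ⟨Matrix.diagonal fun u : (Fin 2 × Fin b) => if u = (0, ⟨0, by omega⟩) then c else 1,
          by rw [Matrix.det_diagonal, Finset.prod_ite_eq' Finset.univ _ (fun _ => c), if_pos (Finset.mem_univ _)],
          by rw [hy, Matrix.diagonal_mul_diagonal, Matrix.diagonal_mul_diagonal]; congr 1; funext u; ring⟩
      exact ⟨g, hg, hgy ▸ hyk⟩
    · have hz' : ∀ c : F, c * c ≠ z := fun c hc => hsq ⟨c, hc.symm⟩
      obtain ⟨β, hβ⟩ := exists_complex_basis hz' (T := T) (fun v => by rw [hT, hT]; exact hxx v) hfd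
      obtain ⟨h, hh⟩ := exists_gl_of_basis β
      obtain ⟨C, hC⟩ : ∃ C : Matrix (Fin 2) (Fin 2) F, C = !![0, z; 1, 0] := ⟨_, rfl⟩
      have hCdet : C.det ≠ 0 := by rw [hC, Matrix.det_fin_two]; simpa using hz0
      obtain ⟨y, hy⟩ : ∃ y : GL (Fin 2 × Fin b) F, (y : Matrix (Fin 2 × Fin b) (Fin 2 × Fin b) F) = C ⊗ₖ (1 : Matrix (Fin b) (Fin b) F) := by
        refine ⟨Matrix.GeneralLinearGroup.mkOfDetNeZero (C ⊗ₖ (1 : Matrix (Fin b) (Fin b) F)) (?_), rfl⟩
        rw [Matrix.det_kronecker, Matrix.det_one, one_pow, mul_one]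
        exact pow_ne_zero _ hCdet
      have hyk : y ∈ Cfsg.Geo.kroneckerSubgroup 2 b F := ⟨Matrix.GeneralLinearGroup.mkOfDetNeZero C hCdet, 1, hy⟩
      obtain ⟨g, hg, hgy⟩ := exists_sl_conj (x := x) (y := y) (h := h) (Matrix.ext_of_mulVec_single fun u => by
          rw [← Matrix.mulVec_mulVec, ← Matrix.mulVec_mulVec, hh, hy, Matrix.mulVec_single_one]
          obtain ⟨i, k⟩ := u
          have hcol : (C ⊗ₖ (1 : Matrix (Fin b) (Fin b) F)).col (i, k) =
              C 0 i • Pi.single (0, k) 1 + C 1 i • Pi.single (1, k) 1 := funext fun v => by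
            obtain ⟨i', k'⟩ := v
            rcases (by omega : i' = 0 ∨ i' = 1) with rfl | rfl <;> rcases eq_or_ne k' k with rfl | hk <;>
              simp [Matrix.one_apply, Pi.single_apply, Prod.ext_iff, *]
          rw [hcol, Matrix.mulVec_add, Matrix.mulVec_smul, Matrix.mulVec_smul, hh, hh, hC]
          rcases (by omega : i = 0 ∨ i = 1) with rfl | rfl
          · simpa [hT] using (hβ k).1
          · simpa [hT] using (hβ k).2) fun c _ => by
        obtain ⟨u, v, huv⟩ := CfsgLib.Geom.exists_binary_eq h2 (a := (1 : F)) (b := -z) one_ne_zero (neg_ne_zero.2 hz0) c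
        let K : Fin b → Matrix (Fin 2) (Fin 2) F := fun k => if k = ⟨0, by omega⟩ then !![u, z * v; v, u] else 1
        refine ⟨Matrix.blockDiagonal K, ?_, ?_⟩
        · rw [Matrix.det_blockDiagonal, Fintype.prod_eq_single ⟨0, by omega⟩ (fun k hk => by simp [K, hk])]
          simp only [K, if_true, Matrix.det_fin_two]
          simp
          linear_combination huv
        · rw [hy, Matrix.kronecker_one, ← Matrix.blockDiagonal_mul, ← Matrix.blockDiagonal_mul]
          congr 1
          funext k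
          dsimp only [K]
          split_ifs
          · rw [hC]; ext i i'; fin_cases i <;> fin_cases i' <;> simp [Matrix.mul_apply, Fin.sum_univ_two] <;> ring
          · rw [Matrix.one_mul, Matrix.mul_one]
      exact ⟨g, hg, hgy ▸ hyk⟩

end

/-- Elements of prime order of PSL_n(q) and the stabilizers of tensor decompositions with factors of different dimensions. Here `T = PSL_n(F)` for a field `F` with `q` elements and `n = a·b` with `2 ≤ a < b`; a tensor decomposition `F^n ≅ F^a ⊗ F^b` is given by a bijection `e` of index sets and a change of basis `P`, and `H` is the subgroup of matrices of determinant 1 in its stabilizer (the conjugate by `P` of the group of Kronecker products `g₁ ⊗ g₂`) — a subgroup of type GL_a(q) ⊗ GL_b(q) (maximality is not assumed); Ω is the set of cosets of `H` in `T`, so an element of `T` of prime order `r` (a matrix `x` of determinant 1 with `x^r` scalar, `x` not scalar) fixes a point of Ω exactly when some conjugate of `x` by a matrix of determinant 1 lies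 in `H`. Let `r` be a prime dividing the index of `H`. Then every element of `T` of order `r` fixes a point of Ω if and only if `r = 2`, `a = 2`, `q` is odd and `(q − 1)_2 ≤ (n)_2` (2-parts). -/
theorem result {F : Type*} [Field F] [Fintype F] {p : ℕ} [Fact p.Prime] [CharP F p] {q : ℕ} (hq : Fintype.card F = q)
    (n a b : ℕ) (hab : n = a * b) (ha : 2 ≤ a) (hlt : a < b) (e : Fin n ≃ Fin a × Fin b) (P : GL (Fin n) F)
    (r : ℕ) [Fact r.Prime]
    (hΩ : r ∣ (Cfsg.Geo.tensorProductSubgroup a b e P).relIndex (Cfsg.Geo.specialLinear (Fin n) F)) :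
    (∀ x ∈ Cfsg.Geo.specialLinear (Fin n) F, (∃ z : F, ((x ^ r : GL (Fin n) F) : Matrix (Fin n) (Fin n) F) = z • (1 : Matrix (Fin n) (Fin n) F)) →
      (∀ z : F, (x : Matrix (Fin n) (Fin n) F) ≠ z • (1 : Matrix (Fin n) (Fin n) F)) →
      ∃ g ∈ Cfsg.Geo.specialLinear (Fin n) F, g⁻¹ * x * g ∈ Cfsg.Geo.tensorProductSubgroup a b e P) ↔
    (r = 2 ∧ a = 2 ∧ Odd q ∧ padicValNat 2 (q - 1) ≤ padicValNat 2 n) := by
  classical
  subst hq
  let φ : GL (Fin n) F ≃* GL (Fin a × Fin b) F := (MulAut.conj P⁻¹).trans (Cfsg.Geo.glReindex e)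
  have hmem : ∀ x, x ∈ Cfsg.Geo.tensorProductSubgroup a b e P ↔ φ x ∈ Cfsg.Geo.kroneckerSubgroup a b F := by
    intro x
    have hinv : ∀ k, φ (MulAut.conj P (Cfsg.Geo.glReindex e.symm k)) = k := fun k => by
      show Cfsg.Geo.glReindex e (P⁻¹ * (P * Cfsg.Geo.glReindex e.symm k * P⁻¹) * P⁻¹⁻¹) = k
      rw [inv_inv, ← mul_assoc, ← mul_assoc, inv_mul_cancel, one_mul, mul_assoc, inv_mul_cancel, mul_one]
      refine Units.ext ?_
      show Matrix.reindexAlgEquiv F F e (Matrix.reindexAlgEquiv F F e.symm (k : Matrix _ _ F)) = _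
      simp
    constructor
    · rintro ⟨_, ⟨k, hk, rfl⟩, rfl⟩
      show φ (MulAut.conj P (Cfsg.Geo.glReindex e.symm k)) ∈ _
      rw [hinv]; exact hk
    · intro h
      exact ⟨_, ⟨φ x, h, rfl⟩, φ.injective (hinv (φ x))⟩
  have hdet : ∀ x, ((φ x : GL (Fin a × Fin b) F) : Matrix (Fin a × Fin b) (Fin a × Fin b) F).det =
      (x : Matrix (Fin n) (Fin n) F).det := fun x => by
    show (Matrix.reindexAlgEquiv F F e ((P⁻¹ * x * P⁻¹⁻¹ : GL (Fin n) F) : Matrix (Fin n) (Fin n) F)).det = _
    rw [Matrix.reindexAlgEquiv_apply, Matrix.det_reindex_self, Units.val_mul, Units.val_mul, inv_inv,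
      Matrix.det_units_conj']
  have hsc : ∀ (x : GL (Fin n) F) (z : F), (x : Matrix (Fin n) (Fin n) F) = z • 1 ↔
      ((φ x : GL (Fin a × Fin b) F) : Matrix (Fin a × Fin b) (Fin a × Fin b) F) = z • 1 := fun x z => by
    show _ ↔ Matrix.reindexAlgEquiv F F e ((P⁻¹ * x * P⁻¹⁻¹ : GL (Fin n) F) : Matrix (Fin n) (Fin n) F) = _
    rw [← map_one (Matrix.reindexAlgEquiv F F e), ← map_smul (Matrix.reindexAlgEquiv F F e),
      (Matrix.reindexAlgEquiv F F e).injective.eq_iff, inv_inv, Units.val_mul, Units.val_mul]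
    constructor
    · intro h
      rw [h, Matrix.mul_smul, Matrix.mul_one, Matrix.smul_mul, ← Units.val_mul, inv_mul_cancel, Units.val_one]
    · intro h
      have h' := congrArg (fun M => (P : Matrix (Fin n) (Fin n) F) * M * ((P⁻¹ : GL (Fin n) F) : Matrix (Fin n) (Fin n) F)) h
      simpa [Matrix.mul_assoc, ← Matrix.mul_assoc (P : Matrix (Fin n) (Fin n) F)] using h'
  have hSL : ∀ x : GL (Fin n) F, x ∈ Cfsg.Geo.specialLinear (Fin n) F ↔ (x : Matrix (Fin n) (Fin n) F).det = 1 :=
    fun x => ⟨fun h => congrArg Units.val (h : Matrix.GeneralLinearGroup.det x = 1), fun h => Units.ext h⟩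
  have hpow : ∀ (x : GL (Fin n) F) (z : F), ((x ^ r : GL (Fin n) F) : Matrix (Fin n) (Fin n) F) = z • 1 ↔
      ((φ x : GL (Fin a × Fin b) F) : Matrix (Fin a × Fin b) (Fin a × Fin b) F) ^ r = z • 1 := fun x z => by
    rw [hsc, map_pow, Units.val_pow_eq_pow_val]
  subst hab
  refine Iff.trans ?_ (core (p := p) (r := r) ha hlt fun hrp => ?_)
  · constructor
    · intro hall x hx ⟨z, hz⟩ hns
      obtain ⟨x, rfl⟩ := φ.surjective x
      obtain ⟨g, hg, hfix⟩ := hall x ((hSL x).2 (hdet x ▸ hx)) ⟨z, (hpow x z).2 hz⟩ fun w hw => hns w ((hsc x w).1 hw)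
      refine ⟨φ g, (hdet g).trans ((hSL g).1 hg), ?_⟩
      have := (hmem _).1 hfix
      rwa [map_mul, map_mul, map_inv] at this
    · intro hall x hx ⟨z, hz⟩ hns
      obtain ⟨g, hg, hfix⟩ := hall (φ x) ((hdet x).trans ((hSL x).1 hx)) ⟨z, (hpow x z).1 hz⟩
        fun w hw => hns w ((hsc x w).2 hw)
      obtain ⟨g, rfl⟩ := φ.surjective g
      refine ⟨g, (hSL g).2 ((hdet g).symm.trans hg), (hmem _).2 ?_⟩
      rwa [map_mul, map_mul, map_inv]
  · have hr : r.Prime := Fact.out
    have hrq : ¬ r ∣ Fintype.card F := fun h => hrp (by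
      obtain ⟨k, hp, hk⟩ := FiniteField.card F p
      exact (Nat.prime_dvd_prime_iff_eq hr hp).1 (hr.dvd_of_dvd_pow (hk ▸ h)))
    have h : r ∣ Nat.card (GL (Fin (a * b)) F) := by
      refine hΩ.trans (Dvd.dvd.trans ?_ (Subgroup.card_subgroup_dvd_card (Cfsg.Geo.specialLinear (Fin (a * b)) F)))
      exact Subgroup.index_dvd_card _
    rw [Matrix.card_GL_field] at h
    obtain ⟨k, -, hk⟩ := (Nat.prime_iff.1 hr).exists_mem_finset_dvd h
    have hkn := k.2
    rw [show Fintype.card F ^ (a * b) - Fintype.card F ^ (k : ℕ) = Fintype.card F ^ (k : ℕ) * (Fintype.card F ^ (a * b - k) - 1) by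
      rw [Nat.mul_sub, mul_one, ← pow_add, Nat.add_sub_cancel' hkn.le]] at hk
    have hk' := (hr.dvd_mul.1 hk).resolve_left fun h => hrq (hr.dvd_of_dvd_pow h)
    rw [← ZMod.natCast_eq_zero_iff, Nat.cast_sub (Nat.one_le_pow _ _ Fintype.card_pos), sub_eq_zero, Nat.cast_pow,
      Nat.cast_one] at hk'
    have := Nat.le_of_dvd (by omega) (orderOf_dvd_of_pow_eq_one hk')
    omega

end Cfsg.Agent.S5979
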