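import Cfsg.Statements.S5980
import Cfsg.Agent.Lib.MaxSub.KronOrth
import Cfsg.Agent.Lib.AschSp.Gram
import Cfsg.Agent.Lib.Aschbacher.OrthForms
import Cfsg.Agent.S5975

set_option autoImplicit false
open scoped MatrixGroups
open Cfsg

namespace Cfsg.Agent.S5980

open CfsgLib CfsgLib.MaxSub CfsgLib.Geom CfsgLib.AschSp Matrix
open CfsgLib.Classical (glLin glLin_apply)
open CfsgLib.Classical
open Cfsg.Agent.S5975 (toSymp exists_toSymp spLin_toSymp sub1 sub1_apply)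
open Cfsg.Agent.S5983 (mem_spGL)
open scoped Kronecker

section

universe u
variable {F : Type u} [Field F]

theorem kron_right_cancel {κ₁ κ₂ : Type} {A : Matrix κ₁ κ₁ F} {B B' : Matrix κ₂ κ₂ F} (hA : A ≠ 0)
    (h : A ⊗ₖ B = A ⊗ₖ B') : B = B' := by
  obtain ⟨i, j, hij⟩ : ∃ i j, A i j ≠ 0 := by
    by_contra h; push Not at h; exact hA (Matrix.ext h)
  exact Matrix.ext fun k l => mul_left_cancel₀ hij (congrFun (congrFun h (i, k)) (j, l))

theorem ext_dot {ι : Type} [Fintype ι] [DecidableEq ι] {A B : Matrix ι ι F}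
    (h : ∀ v w : ι → F, v ⬝ᵥ (A *ᵥ w) = v ⬝ᵥ (B *ᵥ w)) : A = B :=
  Matrix.ext fun k l => by simpa using h (Pi.single k 1) (Pi.single l 1)

theorem eq_one_of_rank {ι : Type} [Fintype ι] [DecidableEq ι] {M : Matrix ι ι F} (h : (M - 1).rank = 0) : M = 1 :=
  Matrix.ext_of_mulVec_single fun k => by
    have h' := Submodule.finrank_eq_zero.1 h
    have : (M - 1).mulVecLin (Pi.single k 1) ∈ LinearMap.range (M - 1).mulVecLin := ⟨_, rfl⟩
    rw [h', Submodule.mem_bot, Matrix.mulVecLin_apply, Matrix.sub_mulVec, sub_eq_zero] at this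
    exact this

theorem pow_congr {ι : Type} [Fintype ι] [DecidableEq ι] {B G : Matrix ι ι F} {μ : F} (h : Bᵀ * G * B = μ • G) :
    ∀ k : ℕ, (B ^ k)ᵀ * G * B ^ k = μ ^ k • G := by
  intro k
  induction k with
  | zero => simp
  | succ k ih =>
    rw [pow_succ, Matrix.transpose_mul,
      show Bᵀ * (B ^ k)ᵀ * G * (B ^ k * B) = Bᵀ * ((B ^ k)ᵀ * G * B ^ k) * B by noncomm_ring, ih, Matrix.mul_smul,
      Matrix.smul_mul, h, smul_smul, pow_succ]

theorem pow_eigen {ι : Type} [Fintype ι] [DecidableEq ι] {B : Matrix ι ι F} {s : F} {v : ι → F}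
    (h : B *ᵥ v = s • v) : ∀ k : ℕ, B ^ k *ᵥ v = s ^ k • v := by
  intro k
  induction k with
  | zero => simp
  | succ k ih => rw [pow_succ, ← Matrix.mulVec_mulVec, h, Matrix.mulVec_smul, ih, smul_smul, pow_succ']

variable [Fintype F] {r : ℕ}

theorem root_one (hr : r.Prime) (hq : ¬ r ∣ Fintype.card F - 1) {s : F} (hs : s ^ r = 1) : s = 1 := by
  have h0 : s ≠ 0 := fun h => by rw [h, zero_pow hr.ne_zero] at hs; exact zero_ne_one hs
  have h := pow_gcd_eq_one.2 ⟨hs, FiniteField.pow_card_sub_one_eq_one s h0⟩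
  rwa [((Nat.Prime.coprime_iff_not_dvd hr).2 hq).gcd_eq_one, pow_one] at h

theorem root_exists (hr : r.Prime) (hq : ¬ r ∣ Fintype.card F - 1) {t : F} (ht : t ≠ 0) :
    ∃ β : F, β ≠ 0 ∧ β ^ r = t := by
  have hco : (Nat.card Fˣ).Coprime r := by
    rw [Nat.card_units, Nat.card_eq_fintype_card]
    exact ((Nat.Prime.coprime_iff_not_dvd hr).2 hq).symm
  obtain ⟨β, hβ⟩ := (powCoprime hco).surjective (Units.mk0 t ht)
  exact ⟨β, Units.ne_zero β, by simpa using congrArg Units.val hβ⟩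

variable {p a b : ℕ} [Fact p.Prime] [CharP F p]

local notation "κ" => Fin a × Fin b

include p in
/-- No isometry of odd prime order moves only `c` dimensions. -/
theorem contra [Fact r.Prime] (hr2 : r ≠ 2) (hrp : r ≠ p) {i c : ℕ} (hi : i = orderOf (Fintype.card F : ZMod r))
    (hc : c = if Even i then i else 2 * i) (ha : Even a) (ha2 : 2 ≤ a) (hb : 3 ≤ b)
    {G1 : Matrix (Fin a) (Fin a) F} {G2 : Matrix (Fin b) (Fin b) F} (hG1 : IsUnit G1) (hG2 : IsUnit G2)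
    (hG2t : G2ᵀ = G2) {A : Matrix (Fin a) (Fin a) F} {B : Matrix (Fin b) (Fin b) F}
    (hiso : (A ⊗ₖ B)ᵀ * (G1 ⊗ₖ G2) * (A ⊗ₖ B) = G1 ⊗ₖ G2) (hpow : (A ⊗ₖ B) ^ r = 1)
    (hrk : (A ⊗ₖ B - 1).rank = c) : False := by
  have hr : r.Prime := Fact.out
  haveI : Nonempty (Fin a) := ⟨⟨0, by omega⟩⟩
  haveI : Nonempty (Fin b) := ⟨⟨0, by omega⟩⟩
  have hrF : (r : F) ≠ 0 := SympOrderR.r_ne_zero hr hrp
  have hipos : 0 < i := SympOrderR.i_pos (F := F) (p := p) rfl hr hrp hi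
  have hcpos : 0 < c := by rw [hc]; split_ifs <;> omega
  have hc2i : c ≤ 2 * i := by rw [hc]; split_ifs <;> omega
  have hce : Even c := by rw [hc]; split_ifs with h <;> [exact h; exact even_two_mul i]
  by_cases hA : ∃ s : F, A = s • 1
  · obtain ⟨s, rfl⟩ := hA
    obtain ⟨M, hM⟩ : ∃ M : Matrix (Fin b) (Fin b) F, M = s • B := ⟨_, rfl⟩
    have hAB : (s • (1 : Matrix (Fin a) (Fin a) F)) ⊗ₖ B = (1 : Matrix (Fin a) (Fin a) F) ⊗ₖ M := by
      rw [hM, Matrix.smul_kronecker, Matrix.kronecker_smul]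
    rw [hAB] at hiso hpow hrk
    have hMr : M ^ r = 1 := kron_right_cancel (one_ne_zero (α := Matrix (Fin a) (Fin a) F)) (by
      rw [KronFix.kron_pow, one_pow] at hpow
      rw [hpow, Matrix.one_kronecker_one])
    have hMi : Mᵀ * G2 * M = G2 := kron_right_cancel hG1.ne_zero (by
      rwa [← Matrix.kroneckerMap_transpose, ← Matrix.mul_kronecker_mul, ← Matrix.mul_kronecker_mul,
        Matrix.transpose_one, Matrix.one_mul, Matrix.mul_one] at hiso)
    have h1 : (1 : Matrix (Fin a) (Fin a) F) ⊗ₖ M - 1 = (1 : Matrix (Fin a) (Fin a) F) ⊗ₖ (M - 1) := by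
      have := KronFix.smul_one_kron (a := a) (1 : F) 1 M
      rwa [one_smul, one_smul, mul_one, one_smul] at this
    rw [h1, KronFix.rank_one_kron] at hrk
    have hM1 : M ≠ 1 := fun h => by rw [h, sub_self, Matrix.rank_zero, mul_zero] at hrk; omega
    have h2 := KronFix.le_rank_orth (p := p) hr2 hrp hi hc hG2 hG2t hMi hMr hM1
    have h3 := Nat.mul_le_mul_right (M - 1).rank ha2
    omega
  push Not at hA
  have hbc : b ≤ c := by
    have := KronFix.rank_ge B hA 1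
    rwa [one_smul, hrk] at this
  have hi2 : 2 ≤ i := by
    by_contra h
    omega
  have hq : ¬ r ∣ Fintype.card F - 1 := fun h => by
    rw [← ZMod.natCast_eq_zero_iff, Nat.cast_sub Fintype.card_pos, sub_eq_zero, Nat.cast_one] at h
    rw [h, orderOf_one] at hi
    omega
  obtain ⟨t, ht, hAr, hBr⟩ : ∃ t : F, t ≠ 0 ∧ A ^ r = t • 1 ∧ B ^ r = t⁻¹ • 1 := by
    refine kron_cancel ?_ one_ne_zero one_ne_zero
    rw [← KronFix.kron_pow, hpow, Matrix.one_kronecker_one]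
  obtain ⟨β, hβ, hβt⟩ := root_exists hr hq ht
  obtain ⟨A', hA'⟩ : ∃ A', A' = β⁻¹ • A := ⟨_, rfl⟩
  obtain ⟨B', hB'⟩ : ∃ B', B' = β • B := ⟨_, rfl⟩
  have hAB : A ⊗ₖ B = A' ⊗ₖ B' := by
    rw [hA', hB', Matrix.smul_kronecker, Matrix.kronecker_smul, smul_smul, inv_mul_cancel₀ hβ, one_smul]
  have hA'r : A' ^ r = 1 := by
    rw [hA', _root_.smul_pow, hAr, inv_pow, hβt, smul_smul, inv_mul_cancel₀ ht, one_smul]
  have hB'r : B' ^ r = 1 := by
    rw [hB', _root_.smul_pow, hBr, hβt, smul_smul, mul_inv_cancel₀ ht, one_smul]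
  have hA's : ∀ s : F, A' ≠ s • 1 := fun s h => hA (β * s) (by
    rw [← smul_smul, ← h, hA', smul_smul, mul_inv_cancel₀ hβ, one_smul])
  rw [hAB] at hiso hrk
  rw [← Matrix.kroneckerMap_transpose, ← Matrix.mul_kronecker_mul, ← Matrix.mul_kronecker_mul] at hiso
  obtain ⟨u, -, -, hu⟩ := kron_cancel hiso.symm hG1.ne_zero hG2.ne_zero
  have hu1 : u⁻¹ = 1 := root_one hr hq (by
    have h := pow_congr hu r
    rw [hB'r, Matrix.transpose_one, Matrix.one_mul, Matrix.mul_one] at h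
    exact smul_left_injective F hG2.ne_zero (by simpa using h.symm))
  rw [hu1, one_smul] at hu
  have hia : i ≤ a := by
    have h0 : (A' - 1).rank ≠ 0 := fun h => hA's 1 (by rw [eq_one_of_rank h, one_smul])
    have h1 := Nat.le_of_dvd (Nat.pos_of_ne_zero h0) (KronFix.dvd_rank hrF hA'r)
    rw [← hi] at h1
    exact h1.trans (Matrix.rank_le_height _)
  by_cases hB1 : B' = 1
  · have h0 : (A' - 1).rank ≠ 0 := fun h => hA's 1 (by rw [eq_one_of_rank h, one_smul])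
    have h1 := Nat.le_of_dvd (Nat.pos_of_ne_zero h0) (KronFix.dvd_rank hrF hA'r)
    rw [← hi] at h1
    have h2 : (1 : Matrix (Fin b) (Fin b) F) ⊗ₖ A' - 1 = (1 : Matrix (Fin b) (Fin b) F) ⊗ₖ (A' - 1) := by
      have := KronFix.smul_one_kron (a := b) (1 : F) 1 A'
      rwa [one_smul, one_smul, mul_one, one_smul] at this
    rw [hB1] at hrk
    have h3 := KronFix.rank_swap A' (1 : Matrix (Fin b) (Fin b) F) (1 : F)
    rw [one_smul, one_smul, hrk, h2, KronFix.rank_one_kron] at h3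
    have := Nat.mul_le_mul hb h1
    omega
  have h1 := KronFix.le_rank_orth (p := p) hr2 hrp hi hc hG2 hG2t hu hB'r hB1
  have h2 : (B' - 1).rank ≤ b := Matrix.rank_le_height _
  have hne : ∀ (s : F) v, B' *ᵥ v = s • v → v = 0 := fun s v h => by
    by_contra hv
    have hs : s = 1 := root_one hr hq (by
      have h' := pow_eigen h r
      rw [hB'r, Matrix.one_mulVec] at h'
      exact smul_left_injective F hv (by simpa using h'.symm))
    have hk := (B' - 1).mulVecLin.finrank_range_add_finrank_ker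
    rw [Module.finrank_fin_fun, show Module.finrank F ↥(LinearMap.range (B' - 1).mulVecLin) = (B' - 1).rank from rfl]
      at hk
    have hbot : LinearMap.ker (B' - 1).mulVecLin = ⊥ := Submodule.finrank_eq_zero.1 (by omega)
    have : v ∈ LinearMap.ker (B' - 1).mulVecLin := by
      rw [LinearMap.mem_ker, Matrix.mulVecLin_apply, Matrix.sub_mulVec, h, hs, one_smul, Matrix.one_mulVec, sub_self]
    rw [hbot] at this
    exact hv this
  have hb4 : 4 ≤ b := by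
    obtain ⟨k, hk⟩ := hce
    omega
  have h3 := KronFix.rank_swap A' B' (1 : F)
  have h4 := KronFix.rank_ge_two (b := a) A' hb4 hne (1 : F)
  rw [← h3, one_smul, hrk] at h4
  obtain ⟨k, hk⟩ := ha
  by_cases hev : Even i
  · rw [if_pos hev] at hc; omega
  · exact hev ⟨k, by omega⟩

variable {d : ℕ} (e : (Fin d ⊕ Fin d) ≃ Fin a × Fin b) (P : GL (Fin d ⊕ Fin d) F)

local notation "ιS" => (Fin d ⊕ Fin d)

omit [Fintype F] in
theorem rank_tmat (X : Matrix κ κ F) : (tmat e P X).rank = X.rank := by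
  rw [tmat, AlgEquiv.trans_apply, Aschbacher.cj_apply,
    Matrix.rank_mul_eq_left_of_isUnit_det _ _ (Matrix.isUnits_det_units P⁻¹),
    Matrix.rank_mul_eq_right_of_isUnit_det _ _ (Matrix.isUnits_det_units P), Matrix.coe_reindexAlgEquiv,
    Matrix.rank_reindex]

theorem rank_sub1 (x : GL ιS F) :
    Module.finrank F ↥(LinearMap.range (sub1 x)) = ((x : Matrix ιS ιS F) - 1).rank := by
  rw [Matrix.rank]
  suffices sub1 x = ((x : Matrix ιS ιS F) - 1).mulVecLin by rw [this]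
  refine LinearMap.ext fun v => ?_
  rw [sub1_apply, glLin_apply, Matrix.mulVecLin_apply, Matrix.sub_mulVec, Matrix.one_mulVec]

variable {c₀ : F} {G1 : Matrix (Fin a) (Fin a) F} {G2 : Matrix (Fin b) (Fin b) F}

theorem iso_iff (hc₀ : c₀ ≠ 0) (hgram : gram e P = c₀ • (G1 ⊗ₖ G2)) {y : GL ιS F} {M : Matrix κ κ F}
    (hy : (y : Matrix ιS ιS F) = tmat e P M) :
    y ∈ Cfsg.spGL d F ↔ Mᵀ * (G1 ⊗ₖ G2) * M = G1 ⊗ₖ G2 := by
  have key : ∀ v w : κ → F, Cfsg.sympForm d F ((y : Matrix ιS ιS F) *ᵥ ((P : Matrix ιS ιS F) *ᵥ (v ∘ e)))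
      ((y : Matrix ιS ιS F) *ᵥ ((P : Matrix ιS ιS F) *ᵥ (w ∘ e))) =
        v ⬝ᵥ ((c₀ • (Mᵀ * (G1 ⊗ₖ G2) * M)) *ᵥ w) := fun v w => by
    rw [hy, tmat_mulVec, tmat_mulVec, form_coords, hgram, Matrix.smul_mulVec, Matrix.smul_mulVec, dotProduct_smul,
      dotProduct_smul, ← Matrix.mulVec_mulVec w (Mᵀ * (G1 ⊗ₖ G2)) M, ← Matrix.mulVec_mulVec _ Mᵀ (G1 ⊗ₖ G2),
      Matrix.dotProduct_mulVec v Mᵀ, Matrix.vecMul_transpose]
  constructor
  · intro h
    refine smul_right_injective _ hc₀ (ext_dot fun v w => ?_)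
    show v ⬝ᵥ ((c₀ • (Mᵀ * (G1 ⊗ₖ G2) * M)) *ᵥ w) = v ⬝ᵥ ((c₀ • (G1 ⊗ₖ G2)) *ᵥ w)
    rw [← key, mem_spGL.1 h, form_coords, hgram]
  · intro h
    refine mem_spGL.2 fun u u' => ?_
    obtain ⟨v, rfl⟩ := coords_surj e P u
    obtain ⟨w, rfl⟩ := coords_surj e P u'
    rw [key, h, form_coords, hgram]

omit [Fintype F] in
theorem exists_kron (A : GL (Fin a) F) (B : GL (Fin b) F) : ∃ y : GL ιS F,
    (y : Matrix ιS ιS F) = tmat e P ((A : Matrix (Fin a) (Fin a) F) ⊗ₖ (B : Matrix (Fin b) (Fin b) F)) ∧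
      y ∈ Cfsg.Geo.tensorProductSubgroup a b e P := by
  let k : GL κ F := ⟨(A : Matrix (Fin a) (Fin a) F) ⊗ₖ (B : Matrix (Fin b) (Fin b) F),
    ((A⁻¹ : GL (Fin a) F) : Matrix (Fin a) (Fin a) F) ⊗ₖ ((B⁻¹ : GL (Fin b) F) : Matrix (Fin b) (Fin b) F),
    by rw [← Matrix.mul_kronecker_mul, ← Units.val_mul, ← Units.val_mul, mul_inv_cancel, mul_inv_cancel,
      Units.val_one, Units.val_one, Matrix.one_kronecker_one],
    by rw [← Matrix.mul_kronecker_mul, ← Units.val_mul, ← Units.val_mul, inv_mul_cancel, inv_mul_cancel,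
      Units.val_one, Units.val_one, Matrix.one_kronecker_one]⟩
  exact ⟨MulAut.conj P (Cfsg.Geo.glReindex e.symm k), rfl, _, ⟨k, ⟨A, B, rfl⟩, rfl⟩, rfl⟩

theorem scalar_sq' (hd : 2 ≤ d) {y : GL ιS F} (hy : y ∈ Cfsg.spGL d F) {z : F}
    (hz : (y : Matrix ιS ιS F) = z • 1) : z * z = 1 :=
  S5955.scalar_sq (by omega) (A := toSymp ⟨y, hy⟩) hz

include p in
/-- The direction from fixity to the conditions. -/
theorem forward (hd : 2 ≤ d) (hab : 2 * d = a * b) (ha : Even a) (ha2 : 2 ≤ a) (hb : 3 ≤ b) [Fact r.Prime]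
    (h2 : (2 : F) ≠ 0) (hc₀ : c₀ ≠ 0) (hgram : gram e P = c₀ • (G1 ⊗ₖ G2)) (hG1 : IsUnit G1) (hG2 : IsUnit G2)
    (hG2t : G2ᵀ = G2) (hΩ : r ∣ (Cfsg.Geo.tensorProductSubgroup a b e P).relIndex (Cfsg.spGL d F))
    (hall : ∀ x ∈ Cfsg.spGL d F, (∃ z : F, ((x ^ r : GL ιS F) : Matrix ιS ιS F) = z • (1 : Matrix ιS ιS F)) →
      (∀ z : F, (x : Matrix ιS ιS F) ≠ z • (1 : Matrix ιS ιS F)) →
      ∃ g ∈ Cfsg.spGL d F, g⁻¹ * x * g ∈ Cfsg.Geo.tensorProductSubgroup a b e P) : r = 2 ∧ a = 2 := by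
  have hr : r.Prime := Fact.out
  haveI : Nonempty ιS := ⟨Sum.inl ⟨0, by omega⟩⟩
  have hwit : ∀ x ∈ Cfsg.spGL d F, x ^ r = 1 → ∀ c, 0 < c → (c < 2 * d ∨ r ≠ 2) →
      Module.finrank F ↥(LinearMap.range (sub1 x)) = c →
      ∃ (A : Matrix (Fin a) (Fin a) F) (B : Matrix (Fin b) (Fin b) F),
        (A ⊗ₖ B)ᵀ * (G1 ⊗ₖ G2) * (A ⊗ₖ B) = G1 ⊗ₖ G2 ∧ (A ⊗ₖ B) ^ r = 1 ∧ (A ⊗ₖ B - 1).rank = c := by
    intro x hx hxr c hc0 hc2 hc
    rw [rank_sub1] at hc
    obtain ⟨g, hg, hfix⟩ := hall x hx ⟨1, by rw [hxr, one_smul]; rfl⟩ fun z hz => by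
      rw [hz, show z • (1 : Matrix ιS ιS F) - 1 = (z - 1) • (1 : Matrix ιS ιS F) by rw [sub_smul, one_smul]] at hc
      have hz1 : z ≠ 1 := fun h => by rw [h, sub_self, zero_smul, Matrix.rank_zero] at hc; omega
      rw [Matrix.rank_of_isUnit _ ((Matrix.isUnit_iff_isUnit_det _).2 (by
        rw [Matrix.det_smul, Matrix.det_one, mul_one]; exact (IsUnit.mk0 _ (sub_ne_zero.2 hz1)).pow _))] at hc
      simp only [Fintype.card_sum, Fintype.card_fin] at hc
      have hr2 : r ≠ 2 := hc2.resolve_left (by omega)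
      have hzr : z ^ r = 1 := by
        have h := congrArg (fun y : GL ιS F => (y : Matrix ιS ιS F) (Sum.inl ⟨0, by omega⟩) (Sum.inl ⟨0, by omega⟩)) hxr
        simpa [Units.val_pow_eq_pow_val, hz, _root_.smul_pow] using h
      obtain ⟨k, hk⟩ := hr.odd_of_ne_two hr2
      rw [hk, pow_succ, pow_mul, sq, scalar_sq' hd hx hz, one_pow, one_mul] at hzr
      exact hz1 hzr
    obtain ⟨A, B, hy⟩ := exists_tmat_of_mem hfix
    refine ⟨A, B, (iso_iff e P hc₀ hgram hy).1 (mul_mem (mul_mem (inv_mem hg) hx) hg), ?_, ?_⟩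
    · refine (tmat e P).injective ?_
      rw [map_pow, map_one, ← hy, ← Units.val_pow_eq_pow_val,
        show g⁻¹ * x * g = g⁻¹ * x * g⁻¹⁻¹ by rw [inv_inv], conj_pow, hxr, mul_one, mul_inv_cancel, Units.val_one]
    · have h := KronFix.rank_conj x g (1 : F)
      rw [one_smul, one_smul, hy, hc] at h
      rw [← rank_tmat e P, map_sub, map_one]
      exact h.symm
  have hsmall : ∀ (A : Matrix (Fin a) (Fin a) F) (B : Matrix (Fin b) (Fin b) F) (k : ℕ), 0 < k → k < 3 →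
      (A ⊗ₖ B - 1).rank = k → a ∣ k := by
    intro A B k hk0 hk hrk
    by_cases hA : ∃ s : F, A = s • 1
    · obtain ⟨s, rfl⟩ := hA
      have h := congrArg Matrix.rank (KronFix.smul_one_kron (a := a) s 1 B)
      rw [one_smul, one_mul, KronFix.rank_one_kron, hrk] at h
      exact ⟨_, h⟩
    · push Not at hA
      have := KronFix.rank_ge B hA 1
      rw [one_smul, hrk] at this
      omega
  by_cases hrp : r = p
  · subst hrp
    obtain ⟨x, hx, hxr, hc⟩ := S5975.exists_transv (F := F) (p := r) (d := d) (by omega)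
    obtain ⟨A, B, -, -, hrk⟩ := hwit x hx hxr 1 one_pos (Or.inl (by omega)) hc
    have := Nat.le_of_dvd one_pos (hsmall A B 1 one_pos (by omega) hrk)
    omega
  by_cases hr2 : r = 2
  · subst hr2
    obtain ⟨x, hx, hxr, hc, -⟩ := S5975.exists_sign (F := F) h2 hd
    obtain ⟨A, B, -, -, hrk⟩ := hwit x hx hxr 2 two_pos (Or.inl (by omega)) hc
    have := Nat.le_of_dvd two_pos (hsmall A B 2 two_pos (by omega) hrk)
    exact ⟨rfl, by omega⟩
  exfalso
  obtain ⟨i, hi⟩ : ∃ i, i = orderOf (Fintype.card F : ZMod r) := ⟨_, rfl⟩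
  have hipos : 0 < i := SympOrderR.i_pos (F := F) (p := p) rfl hr hrp hi
  have hrq : ¬ r ∣ Fintype.card F := fun h => by
    rw [← ZMod.natCast_eq_zero_iff] at h
    rw [h] at hi
    simp at hi
    omega
  obtain ⟨c, hc⟩ : ∃ c, c = if Even i then i else 2 * i := ⟨_, rfl⟩
  have hcardS : (Cfsg.Geo.tensorProductSubgroup a b e P).relIndex (Cfsg.spGL d F) *
      Nat.card ↥(Cfsg.Geo.tensorProductSubgroup a b e P ⊓ Cfsg.spGL d F) =
        Fintype.card F ^ (d ^ 2) * ∏ k ∈ Finset.range d, (Fintype.card F ^ (2 * (k + 1)) - 1) := by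
    rw [← Subgroup.inf_relIndex_right, ← KnownA.SpStemL.card_sp, ← S5983.card_spGL, mul_comm, Subgroup.relIndex,
      ← Nat.card_congr (Subgroup.subgroupOfEquivOfLe (inf_le_right :
        Cfsg.Geo.tensorProductSubgroup a b e P ⊓ Cfsg.spGL d F ≤ Cfsg.spGL d F)).toEquiv, Subgroup.card_mul_index]
  have hcle : c ≤ 2 * d ∧ Even c := by
    refine ⟨?_, by rw [hc]; split_ifs with h <;> [exact h; exact even_two_mul i]⟩
    rcases hr.dvd_mul.1 (hcardS ▸ dvd_mul_of_dvd_left hΩ _) with h | h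
    · exact absurd (hr.dvd_of_dvd_pow h) hrq
    · obtain ⟨k, hk, hkr⟩ := (Nat.prime_iff.1 hr).exists_mem_finset_dvd h
      have := Nat.le_of_dvd (by omega) (IsoOrth.c_dvd_two_mul hi hc hkr)
      have := Finset.mem_range.1 hk
      omega
  obtain ⟨X, hXr, hXe⟩ := FixExact.exists_block (F := F) (p := p) (d := d) hr2 hrp hi hc (e := 2 * d - c) (M := 1)
    (by omega) (by obtain ⟨k, hk⟩ := hcle.2; exact ⟨d - k, by omega⟩)
  obtain ⟨⟨x, hx⟩, rfl⟩ := exists_toSymp X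
  have hxr : x ^ r = 1 := by
    rw [← map_pow] at hXr
    exact Units.ext (congrArg Subtype.val hXr)
  have hxc : Module.finrank F ↥(LinearMap.range (sub1 x)) = c := by
    have hsum := (sub1 x).finrank_range_add_finrank_ker
    rw [S5983.finrank_V, show Module.finrank F ↥(LinearMap.ker (sub1 x)) = 2 * d - c from hXe] at hsum
    omega
  obtain ⟨A, B, hiso, hpow, hrk⟩ := hwit x hx hxr c (by rw [hc]; split_ifs <;> omega) (Or.inr hr2) hxc
  exact contra (p := p) hr2 hrp hi hc ha ha2 hb hG1 hG2 hG2t hiso hpow hrk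

end

/-- Elements of prime order of PSp_n(q), q odd, and the stabilizers of tensor decompositions Sp_a(q) ⊗ O_b(q). Here `T = PSp_{2d}(F)` for a field `F` with `q` elements, `q` odd, `d ≥ 2`, realised through the matrices preserving the standard alternating form `f`; `2d = a·b` with `a` even, `b ≥ 3`, and the bijection `e` and change of basis `P` exhibit `f` as a non-zero scalar multiple of the tensor product of a non-degenerate alternating form `f₁` on `F^a` and a non-degenerate symmetric bilinear form `f₂` on `F^b`; `H` is the subgroup of `T` stabilizing this tensor decomposition (the elements of `T` in the conjugate by `P` of the group of Kronecker products) — a subgroup of type Sp_a(q) ⊗ O^ε_b(q) (maximality is not assumed). Ω is the set of cosets of `H` in `T`, so an element of `T` of prime order `r` (`x ∈ T` with `x^r` scalar, `x` not scalar) fixes a point of Ω exactly when some `T`-conjugate of `x` lies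 in `H`. Let `r` be a prime dividing the index of `H`. Then every element of `T` of order `r` fixes a point of Ω if and only if `r = 2` and `a = 2`. -/
theorem result {F : Type*} [Field F] [Fintype F] {p : ℕ} [Fact p.Prime] [CharP F p] {q : ℕ} (hq : Fintype.card F = q)
    (hodd : Odd q) (d : ℕ) (hd : 2 ≤ d) (a b : ℕ) (hab : 2 * d = a * b) (ha : Even a) (ha2 : 2 ≤ a) (hb : 3 ≤ b)
    (e : (Fin d ⊕ Fin d) ≃ Fin a × Fin b) (P : GL (Fin d ⊕ Fin d) F)
    (f₁ : (Fin a → F) → (Fin a → F) → F) (f₂ : (Fin b → F) → (Fin b → F) → F)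
    (hf₁ : Cfsg.Geo.IsSymplecticForm f₁) (hf₂ : Cfsg.Geo.IsSymmetricForm f₂)
    (hS : Cfsg.Geo.IsTensorFormStructure id (Cfsg.sympForm d F) f₁ f₂ e P)
    (r : ℕ) [Fact r.Prime]
    (hΩ : r ∣ (Cfsg.Geo.tensorProductSubgroup a b e P).relIndex (Cfsg.spGL d F)) :
    (∀ x ∈ Cfsg.spGL d F, (∃ z : F, ((x ^ r : GL (Fin d ⊕ Fin d) F) : Matrix (Fin d ⊕ Fin d) (Fin d ⊕ Fin d) F) = z • (1 : Matrix (Fin d ⊕ Fin d) (Fin d ⊕ Fin d) F)) →
      (∀ z : F, (x : Matrix (Fin d ⊕ Fin d) (Fin d ⊕ Fin d) F) ≠ z • (1 : Matrix (Fin d ⊕ Fin d) (Fin d ⊕ Fin d) F)) →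
      ∃ g ∈ Cfsg.spGL d F, g⁻¹ * x * g ∈ Cfsg.Geo.tensorProductSubgroup a b e P) ↔ (r = 2 ∧ a = 2) := by
  classical
  subst hq
  have h2 : (2 : F) ≠ 0 := fun h => (Nat.not_even_iff_odd.2 hodd) (Nat.even_iff.2 (FiniteField.even_card_of_char_two (by
    haveI := (CharP.charP_iff_prime_eq_zero Nat.prime_two).2 (by exact_mod_cast h : ((2 : ℕ) : F) = 0)
    exact ringChar.eq F 2)))
  obtain ⟨c₀, hc₀, hS⟩ := hS
  obtain ⟨G1, hG1def⟩ : ∃ G1, G1 = Cfsg.Geo.gramMatrix f₁ := ⟨_, rfl⟩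
  obtain ⟨G2, hG2def⟩ : ∃ G2, G2 = Cfsg.Geo.gramMatrix f₂ := ⟨_, rfl⟩
  have hG1 : IsUnit G1 := hG1def ▸ Aschbacher.OrthForms.gram_isUnit (τ := RingHom.id F) hf₁.bilinear.add_left
    hf₁.bilinear.smul_left hf₁.bilinear.add_right hf₁.bilinear.smul_right hf₁.nondegenerate
  have hG2 : IsUnit G2 := hG2def ▸ Aschbacher.OrthForms.gram_isUnit (τ := RingHom.id F) hf₂.bilinear.add_left
    hf₂.bilinear.smul_left hf₂.bilinear.add_right hf₂.bilinear.smul_right hf₂.nondegenerate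
  have hG2t : G2ᵀ = G2 := by subst hG2def; ext k l; exact hf₂.symm _ _
  have hgram : gram e P = c₀ • (G1 ⊗ₖ G2) := ext_dot fun v w => by
    rw [← form_coords, hS, formOfGram_id, Matrix.smul_mulVec, dotProduct_smul, smul_eq_mul, hG1def, hG2def]
  refine ⟨forward (p := p) e P hd hab ha ha2 hb h2 hc₀ hgram hG1 hG2 hG2t hΩ, ?_⟩
  rintro ⟨rfl, rfl⟩ x hx ⟨z, hz⟩ -
  obtain ⟨X, hX⟩ : ∃ X, X = toSymp ⟨x, hx⟩ := ⟨_, rfl⟩
  have hXX : ∀ v, spLin X (spLin X v) = z • v := fun v => by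
    rw [hX, spLin_toSymp, spLin_toSymp, ← LinearEquiv.mul_apply, ← map_mul, glLin_apply, ← sq, hz, smul_mulVec,
      one_mulVec]
  have hfin : ∀ (A : GL (Fin 2) F) (B : GL (Fin b) F),
      ((A : Matrix (Fin 2) (Fin 2) F) ⊗ₖ (B : Matrix (Fin b) (Fin b) F))ᵀ * (G1 ⊗ₖ G2) *
        ((A : Matrix (Fin 2) (Fin 2) F) ⊗ₖ (B : Matrix (Fin b) (Fin b) F)) = G1 ⊗ₖ G2 →
      (∀ (y : GL (Fin d ⊕ Fin d) F) (hy : y ∈ Cfsg.spGL d F), (y : Matrix (Fin d ⊕ Fin d) (Fin d ⊕ Fin d) F) =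
        tmat e P ((A : Matrix (Fin 2) (Fin 2) F) ⊗ₖ (B : Matrix (Fin b) (Fin b) F)) → IsConj X (toSymp ⟨y, hy⟩)) →
      ∃ g ∈ Cfsg.spGL d F, g⁻¹ * x * g ∈ Cfsg.Geo.tensorProductSubgroup 2 b e P := by
    intro A B hiso hconj
    obtain ⟨Y, hY, hYH⟩ := exists_kron e P A B
    have hYs : Y ∈ Cfsg.spGL d F := (iso_iff e P hc₀ hgram hY).2 hiso
    obtain ⟨G, hG⟩ := isConj_iff.1 (hconj Y hYs hY)
    obtain ⟨⟨g, hg⟩, rfl⟩ := exists_toSymp G
    refine ⟨g⁻¹, inv_mem hg, ?_⟩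
    rw [hX, ← map_inv, ← map_mul, ← map_mul] at hG
    have hval : g * x * g⁻¹ = Y := Units.ext (congrArg Subtype.val hG)
    rw [inv_inv, hval]
    exact hYH
  have hlin : ∀ (y : GL (Fin d ⊕ Fin d) F) (hy : y ∈ Cfsg.spGL d F) (M : Matrix (Fin 2 × Fin b) (Fin 2 × Fin b) F),
      (y : Matrix (Fin d ⊕ Fin d) (Fin d ⊕ Fin d) F) = tmat e P M → ∀ (w : F), M * M = w • 1 →
        ∀ v, spLin (toSymp ⟨y, hy⟩) (spLin (toSymp ⟨y, hy⟩) v) = w • v := by
    intro y hy M hM w hw v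
    rw [spLin_toSymp, spLin_toSymp, glLin_apply, glLin_apply, mulVec_mulVec, hM, ← map_mul, hw, map_smul, map_one,
      smul_mulVec, one_mulVec]
  rcases mul_self_eq_one_iff.1 (scalar_sq' hd (pow_mem hx 2) hz) with rfl | rfl
  · have hsq : ∀ v, spLin X (spLin X v) = v := fun v => (hXX v).trans (one_smul F v)
    obtain ⟨s, hs⟩ := spEigen_even h2 hsq
    have hXs := spEigen_finrank_add h2 hsq
    obtain ⟨T, hTG, hTT, hTr⟩ := KronFix.exists_invol h2 hG2t (t := s) (by omega)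
    refine hfin 1 T ?_ fun y hy hyv => ?_
    · rw [Units.val_one, ← Matrix.kroneckerMap_transpose, ← Matrix.mul_kronecker_mul, ← Matrix.mul_kronecker_mul,
        Matrix.transpose_one, Matrix.one_mul, Matrix.mul_one, hTG]
    rw [Units.val_one] at hyv
    have hsq' : ∀ v, spLin (toSymp ⟨y, hy⟩) (spLin (toSymp ⟨y, hy⟩) v) = v := fun v =>
      (hlin y hy _ hyv 1 (by rw [← Matrix.mul_kronecker_mul, hTT, Matrix.one_mul, Matrix.one_kronecker_one, one_smul])
        v).trans (one_smul F v)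
    refine isConj_of_sq_one h2 hsq hsq' ?_
    have hYs := spEigen_finrank_add h2 hsq'
    have hsum := (sub1 y).finrank_range_add_finrank_ker
    have hker : LinearMap.ker (sub1 y) = spEigen (toSymp ⟨y, hy⟩) 1 := by
      ext v; rw [mem_spEigen, spLin_toSymp, LinearMap.mem_ker, sub1_apply, sub_eq_zero, one_smul]
    have hrk : Module.finrank F ↥(LinearMap.range (sub1 y)) = 2 * s := by
      have h1 : (1 : Matrix (Fin 2) (Fin 2) F) ⊗ₖ (T : Matrix (Fin b) (Fin b) F) - 1 =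
          (1 : Matrix (Fin 2) (Fin 2) F) ⊗ₖ ((T : Matrix (Fin b) (Fin b) F) - 1) := by
        have := KronFix.smul_one_kron (a := 2) (1 : F) 1 (T : Matrix (Fin b) (Fin b) F)
        rwa [one_smul, one_smul, mul_one, one_smul] at this
      rw [rank_sub1, hyv, ← map_one (tmat e P), ← map_sub, rank_tmat, h1, KronFix.rank_one_kron, hTr]
    rw [hker, hrk, S5983.finrank_V] at hsum
    omega
  · obtain ⟨J, hJ⟩ : ∃ J : Matrix (Fin 2) (Fin 2) F, J = !![0, -1; 1, 0] := ⟨_, rfl⟩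
    have hJJ : J * J = -1 := by rw [hJ]; ext k l; fin_cases k <;> fin_cases l <;> simp
    have hJ' : J * -J = 1 := by rw [Matrix.mul_neg, hJJ, neg_neg]
    refine hfin ⟨J, -J, hJ', by rw [Matrix.neg_mul, hJJ, neg_neg]⟩ 1 ?_ fun y hy hyv => ?_
    · show (J ⊗ₖ (1 : Matrix (Fin b) (Fin b) F))ᵀ * (G1 ⊗ₖ G2) * (J ⊗ₖ (1 : Matrix (Fin b) (Fin b) F)) = _
      have h0 : ∀ k, G1 k k = 0 := fun k => by rw [hG1def]; exact hf₁.alternating _
      have h10 : G1 1 0 = -G1 0 1 := by rw [hG1def]; exact hf₁.skew _ _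
      rw [← Matrix.kroneckerMap_transpose, ← Matrix.mul_kronecker_mul, ← Matrix.mul_kronecker_mul,
        Matrix.transpose_one, Matrix.one_mul, Matrix.mul_one]
      congr 1
      rw [hJ]
      ext k l
      fin_cases k <;> fin_cases l <;> simp [Matrix.mul_apply, Fin.sum_univ_two, Matrix.transpose_apply, h0, h10]
    exact isConj_of_sq_neg h2 (fun v => (hXX v).trans (neg_one_smul F v)) fun v =>
      (hlin y hy _ hyv (-1) (by
        show (J ⊗ₖ (1 : Matrix (Fin b) (Fin b) F)) * (J ⊗ₖ (1 : Matrix (Fin b) (Fin b) F)) = _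
        rw [← Matrix.mul_kronecker_mul, hJJ, Matrix.one_mul, ← neg_one_smul F (1 : Matrix (Fin 2) (Fin 2) F),
          Matrix.smul_kronecker, Matrix.one_kronecker_one]) v).trans (neg_one_smul F v)

end Cfsg.Agent.S5980
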