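import Cfsg.Statements.S5982
import Cfsg.Agent.Lib.MaxSub.SimNormal
import Cfsg.Agent.Lib.MaxSub.KronOrth
import Cfsg.Agent.Lib.KnownC.HermCongr
import Cfsg.Agent.Lib.Classical.SemiUnitary
import Cfsg.Agent.Lib.Classical.HermOrder
import Cfsg.Agent.Lib.Aschbacher.OrthForms

set_option autoImplicit false
open scoped MatrixGroups
open Cfsg

namespace Cfsg.Agent.S5982

open CfsgLib CfsgLib.MaxSub CfsgLib.MaxSub.SimFix Matrix
open CfsgLib.Classical
open scoped Kronecker

section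

variable {F : Type*} [Field F] [Fintype F] {n : ℕ}

local notation "𝕄" => Matrix (Fin n) (Fin n) F

theorem ext_conj {σ : F →+* F} {A B : 𝕄}
    (h : ∀ u v : Fin n → F, u ⬝ᵥ (A *ᵥ (σ ∘ v)) = u ⬝ᵥ (B *ᵥ (σ ∘ v))) : A = B := by
  refine Matrix.ext fun k l => ?_
  have hs : (σ ∘ (Pi.single l 1 : Fin n → F)) = Pi.single l 1 := funext fun j => by
    rw [Function.comp_apply, Pi.single_apply, apply_ite σ, map_one, map_zero]
  simpa [hs] using h (Pi.single k 1) (Pi.single l 1)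

theorem mem_sim {σ : F →+* F} {f : (Fin n → F) → (Fin n → F) → F} {G : 𝕄}
    (hf : ∀ u v, f u v = u ⬝ᵥ (G *ᵥ (σ ∘ v))) (g : GL (Fin n) F) :
    g ∈ Cfsg.Geo.similarityGroup f ↔ Sim σ G (g : 𝕄) := by
  have key : ∀ u v, f ((g : 𝕄) *ᵥ u) ((g : 𝕄) *ᵥ v) = u ⬝ᵥ (((g : 𝕄)ᵀ * G * (g : 𝕄).map σ) *ᵥ (σ ∘ v)) :=
    fun u v => by
      rw [hf, show σ ∘ ((g : 𝕄) *ᵥ v) = (g : 𝕄).map σ *ᵥ (σ ∘ v) from funext fun i => RingHom.map_mulVec σ _ v i,
        ← Matrix.mulVec_mulVec, ← Matrix.mulVec_mulVec, Matrix.dotProduct_mulVec u, Matrix.vecMul_transpose]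
  constructor
  · rintro ⟨c, hc⟩
    refine ⟨c, c.ne_zero, ext_conj (σ := σ) fun u v => ?_⟩
    rw [← key, hc, hf, Matrix.smul_mulVec, dotProduct_smul, smul_eq_mul]
  · rintro ⟨μ, hμ, h⟩
    refine ⟨Units.mk0 μ hμ, fun u v => ?_⟩
    rw [key, h, hf, Matrix.smul_mulVec, dotProduct_smul, smul_eq_mul, Units.val_mk0]

theorem exists_congr_pair (σ : F ≃+* F) (hσ : orderOf σ = 2) {G G₀ : 𝕄} (hG : IsUnit G) (hG₀ : IsUnit G₀)
    (h1 : (G.map σ)ᵀ = G) (h2 : (G₀.map σ)ᵀ = G₀) :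
    ∃ P : GL (Fin n) F, (P : 𝕄)ᵀ * G * (P : 𝕄).map σ = (1 : F) • G₀ := by
  obtain ⟨u, rfl⟩ := hG
  obtain ⟨u₀, rfl⟩ := hG₀
  obtain ⟨a, ha⟩ := KnownC.exists_congr_one σ hσ u h1
  obtain ⟨b, hb⟩ := KnownC.exists_congr_one σ hσ u₀ h2
  have hdet : ((b : 𝕄) * ((a⁻¹ : GL (Fin n) F) : 𝕄))ᵀ.det ≠ 0 := by
    rw [Matrix.det_transpose, Matrix.det_mul]
    exact mul_ne_zero (Matrix.isUnits_det_units b).ne_zero (Matrix.isUnits_det_units a⁻¹).ne_zero
  refine ⟨Matrix.GeneralLinearGroup.mkOfDetNeZero _ hdet, ?_⟩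
  show ((b : 𝕄) * ((a⁻¹ : GL (Fin n) F) : 𝕄))ᵀᵀ * (u : 𝕄) * (((b : 𝕄) * ((a⁻¹ : GL (Fin n) F) : 𝕄))ᵀ).map σ = _
  have e1 : ((a⁻¹ : GL (Fin n) F) : 𝕄) * (a : 𝕄) = 1 := by rw [← Units.val_mul, inv_mul_cancel, Units.val_one]
  have e2 : ((a : 𝕄).map σ)ᵀ * (((a⁻¹ : GL (Fin n) F) : 𝕄).map σ)ᵀ = 1 := by
    rw [← Matrix.transpose_mul, ← Matrix.map_mul, e1, Matrix.map_one σ (map_zero σ) (map_one σ), Matrix.transpose_one]
  rw [Matrix.transpose_transpose, Matrix.transpose_map, Matrix.map_mul, Matrix.transpose_mul, one_smul, hb, ha]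
  calc _ = (b : 𝕄) * (((a⁻¹ : GL (Fin n) F) : 𝕄) * (a : 𝕄)) *
        (((a : 𝕄).map σ)ᵀ * (((a⁻¹ : GL (Fin n) F) : 𝕄).map σ)ᵀ) * ((b : 𝕄).map σ)ᵀ := by noncomm_ring
    _ = _ := by rw [e1, e2, Matrix.mul_one, Matrix.mul_one]

theorem isSquare_of_pow {m : ℕ} (h2 : (2 : F) ≠ 0) {w : F} (hw : w ^ m = 1) (hm : m ≠ 0)
    (hv : padicValNat 2 m < padicValNat 2 (Fintype.card F - 1)) : IsSquare w := by
  haveI : Fact (Nat.Prime 2) := ⟨Nat.prime_two⟩
  have hw0 : w ≠ 0 := fun h => by rw [h, zero_pow hm] at hw; exact zero_ne_one hw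
  have hchar : ringChar F ≠ 2 := fun h => h2 (by
    have := ringChar.charP F
    rw [h] at this
    exact_mod_cast CharP.cast_eq_zero F 2)
  rw [FiniteField.isSquare_iff hchar hw0]
  have hodd := FiniteField.odd_card_of_char_ne_two hchar
  have hcard := Fintype.one_lt_card (α := F)
  obtain ⟨R, hR⟩ : ∃ R, Fintype.card F - 1 = 2 * R := ⟨Fintype.card F / 2, by omega⟩
  rw [show Fintype.card F / 2 = R by omega, ← orderOf_dvd_iff_pow_eq_one]
  have ho : orderOf w ≠ 0 := fun h => hm (by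
    have := orderOf_dvd_of_pow_eq_one hw
    rw [h] at this
    exact zero_dvd_iff.1 this)
  obtain ⟨a, b, hb, hab⟩ := Nat.exists_eq_two_pow_mul_odd ho
  have h1 : 2 ^ a ∣ m := (hab ▸ dvd_mul_right _ _ : 2 ^ a ∣ orderOf w).trans (orderOf_dvd_of_pow_eq_one hw)
  have h1' : a ≤ padicValNat 2 m := (padicValNat_dvd_iff_le hm).1 h1
  have h3 : 2 ^ (a + 1) ∣ Fintype.card F - 1 := (pow_dvd_pow 2 (show a + 1 ≤ padicValNat 2 (Fintype.card F - 1) by
    omega)).trans pow_padicValNat_dvd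
  rw [hR, pow_succ'] at h3
  have h4 : b ∣ 2 * R := hR ▸ (hab ▸ dvd_mul_left _ _ : b ∣ orderOf w).trans
    (orderOf_dvd_of_pow_eq_one (FiniteField.pow_card_sub_one_eq_one w hw0))
  rw [hab]
  exact (Nat.Coprime.pow_left a (Nat.coprime_two_left.2 hb)).mul_dvd_of_dvd_of_dvd
    (Nat.dvd_of_mul_dvd_mul_left two_pos h3) ((Nat.coprime_two_right.2 hb).dvd_of_dvd_mul_left h4)

/-- The block matrix with square `z`. -/
def blk (z : F) (m : ℕ) : Matrix (Fin 2 × Fin m) (Fin 2 × Fin m) F :=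
  !![0, z; 1, 0] ⊗ₖ (1 : Matrix (Fin m) (Fin m) F)

theorem blk_det (z : F) (m : ℕ) : (blk z m).det = (-z) ^ m := by
  rw [blk, Matrix.det_kronecker, Matrix.det_one, one_pow, mul_one, Matrix.det_fin_two_of, Fintype.card_fin]
  ring

theorem blk_sq (z : F) (m : ℕ) : blk z m * blk z m = z • 1 := by
  rw [blk, ← Matrix.mul_kronecker_mul, Matrix.one_mul,
    show (!![0, z; 1, 0] : Matrix (Fin 2) (Fin 2) F) * !![0, z; 1, 0] = z • 1 by
      ext i j; fin_cases i <;> fin_cases j <;> simp,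
    Matrix.smul_kronecker, Matrix.one_kronecker_one]

theorem square_of_small (h2 : (2 : F) ≠ 0) (hn0 : n ≠ 0) (hneg : IsSquare (-1 : F)) {x : 𝕄} (hx : x.det = 1) {z : F}
    (hz : x ^ 2 = z • 1) (hv : padicValNat 2 n ≤ padicValNat 2 (Fintype.card F - 1)) : IsSquare z := by
  classical
  by_contra hsq
  have hzn : z ^ n = 1 := by
    have := congrArg Matrix.det hz
    rwa [Matrix.det_pow, hx, one_pow, Matrix.det_smul, Matrix.det_one, mul_one, Fintype.card_fin, eq_comm] at this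
  obtain ⟨m, rfl⟩ : Even n := by
    by_contra h
    obtain ⟨k, rfl⟩ := Nat.not_even_iff_odd.1 h
    exact hsq ⟨z ^ (k + 1), by rw [← pow_add, show k + 1 + (k + 1) = 2 * k + 1 + 1 by ring, pow_succ, hzn, one_mul]⟩
  obtain ⟨β, hβ⟩ := KronFix.exists_complex_basis (F := F) (V := Fin (m + m) → F) (z := z)
    (fun c hc => hsq ⟨c, hc.symm⟩) (T := Matrix.toLinAlgEquiv' x) (fun v => by
      rw [Matrix.toLinAlgEquiv'_apply, Matrix.toLinAlgEquiv'_apply, Matrix.mulVec_mulVec, ← sq, hz, Matrix.smul_mulVec,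
        Matrix.one_mulVec]) (b := m) (by rw [Module.finrank_fin_fun]; omega)
  have hM : LinearMap.toMatrix β β (Matrix.toLinAlgEquiv' x) = blk z m := by
    ext ⟨a, j⟩ ⟨b, k⟩
    rw [LinearMap.toMatrix_apply]
    fin_cases b
    · show β.repr (Matrix.toLinAlgEquiv' x (β (0, k))) (a, j) = _
      rw [(hβ k).1, β.repr_self, Finsupp.single_apply]
      fin_cases a <;> simp [blk, Matrix.one_apply, eq_comm]
    · show β.repr (Matrix.toLinAlgEquiv' x (β (1, k))) (a, j) = _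
      rw [(hβ k).2, map_smul, β.repr_self, Finsupp.smul_apply, Finsupp.single_apply]
      fin_cases a <;> simp [blk, Matrix.one_apply, eq_comm]
  have hd : (-z) ^ m = 1 := by
    rw [← blk_det, ← hM, LinearMap.det_toMatrix]
    show LinearMap.det (Matrix.toLin' x) = 1
    rw [LinearMap.det_toLin', hx]
  have hm : m ≠ 0 := by omega
  have h := isSquare_of_pow h2 hd hm (by
    haveI : Fact (Nat.Prime 2) := ⟨Nat.prime_two⟩
    rw [← two_mul, padicValNat.mul two_ne_zero hm, padicValNat_self] at hv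
    omega)
  exact hsq (by simpa using hneg.mul h)

theorem exists_two_witness (h2 : (2 : F) ≠ 0) (hn : 3 ≤ n) (hneg : IsSquare (-1 : F))
    (hv : padicValNat 2 (Fintype.card F - 1) < padicValNat 2 n) :
    ∃ (x : GL (Fin n) F) (z : F), (x : 𝕄).det = 1 ∧ (x : 𝕄) ^ 2 = z • 1 ∧ ¬ IsSquare z ∧
      ∀ c : F, (x : 𝕄) ≠ c • 1 := by
  classical
  haveI : Fact (Nat.Prime 2) := ⟨Nat.prime_two⟩
  obtain ⟨m, rfl⟩ : Even n := by
    by_contra h
    rw [padicValNat.eq_zero_of_not_dvd (fun h' => h (even_iff_two_dvd.2 h'))] at hv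
    omega
  have hm : m ≠ 0 := by omega
  rw [← two_mul, padicValNat.mul two_ne_zero hm, padicValNat_self] at hv
  have hcard := Fintype.one_lt_card (α := F)
  obtain ⟨g, hg⟩ := IsCyclic.exists_generator (α := Fˣ)
  have ho : orderOf g = Fintype.card F - 1 := by
    rw [orderOf_eq_card_of_forall_mem_zpowers hg, Nat.card_units, Nat.card_eq_fintype_card]
  obtain ⟨Q, hQ⟩ := pow_padicValNat_dvd (p := 2) (n := Fintype.card F - 1)
  have hQodd : Odd Q := by
    rw [← Nat.not_even_iff_odd, even_iff_two_dvd]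
    rintro ⟨t, rfl⟩
    exact pow_succ_padicValNat_not_dvd (p := 2) (n := Fintype.card F - 1) (by omega)
      ⟨t, by rw [pow_succ, mul_assoc]; exact hQ⟩
  obtain ⟨w, hw⟩ : ∃ w : F, w = ((g ^ Q : Fˣ) : F) := ⟨_, rfl⟩
  have hwm : w ^ m = 1 := by
    obtain ⟨t, ht⟩ : 2 ^ padicValNat 2 (Fintype.card F - 1) ∣ m :=
      (pow_dvd_pow 2 (by omega)).trans pow_padicValNat_dvd
    rw [hw, ← Units.val_pow_eq_pow_val, ← pow_mul, ht, ← mul_assoc, mul_comm Q, ← hQ, pow_mul, ← ho,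
      pow_orderOf_eq_one, one_pow, Units.val_one]
  have hws : ¬ IsSquare w := by
    have hchar : ringChar F ≠ 2 := fun h => h2 (by
      have := ringChar.charP F
      rw [h] at this
      exact_mod_cast CharP.cast_eq_zero F 2)
    rw [hw, FiniteField.isSquare_iff hchar (Units.ne_zero _), ← Units.val_pow_eq_pow_val, Units.val_eq_one, ← pow_mul,
      ← orderOf_dvd_iff_pow_eq_one, ho]
    have hodd := FiniteField.odd_card_of_char_ne_two hchar
    intro h
    obtain ⟨R, hR⟩ : ∃ R, Fintype.card F - 1 = 2 * R := ⟨Fintype.card F / 2, by omega⟩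
    rw [hR, show Fintype.card F / 2 = R by omega] at h
    exact (Nat.not_even_iff_odd.2 hQodd) (even_iff_two_dvd.2 (Nat.dvd_of_mul_dvd_mul_right (by omega) h))
  let e : Fin 2 × Fin m ≃ Fin (m + m) := finProdFinEquiv.trans (finCongr (two_mul m))
  have hdet : (Matrix.reindexAlgEquiv F F e (blk (-w) m)).det = 1 := by
    rw [Matrix.reindexAlgEquiv_apply, Matrix.det_reindex_self, blk_det, neg_neg, hwm]
  refine ⟨Matrix.GeneralLinearGroup.mkOfDetNeZero _ (by rw [hdet]; exact one_ne_zero), -w, hdet, ?_, fun h => hws ?_,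
    fun c hc => ?_⟩
  · show (Matrix.reindexAlgEquiv F F e (blk (-w) m)) ^ 2 = _
    rw [sq, ← map_mul, blk_sq, map_smul, map_one]
  · simpa using hneg.mul h
  · have h1 : blk (-w) m = c • 1 := (Matrix.reindexAlgEquiv F F e).injective (hc.trans (by rw [map_smul, map_one]))
    have := congrFun (congrFun h1 (1, ⟨0, by omega⟩)) (0, ⟨0, by omega⟩)
    simp [blk] at this

theorem exists_primitive {r k : ℕ} (hk : r ^ k ∣ Fintype.card F - 1) (hr : r ≠ 0) :
    ∃ ω : F, IsPrimitiveRoot ω (r ^ k) := by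
  obtain ⟨g, hg⟩ := IsCyclic.exists_generator (α := Fˣ)
  have hcard := Fintype.one_lt_card (α := F)
  have ho : orderOf g = Fintype.card F - 1 := by
    rw [orderOf_eq_card_of_forall_mem_zpowers hg, Nat.card_units, Nat.card_eq_fintype_card]
  obtain ⟨t, ht⟩ := hk
  refine ⟨((g ^ t : Fˣ) : F), IsPrimitiveRoot.coe_units_iff.2 ?_⟩
  have h := IsPrimitiveRoot.orderOf g
  rw [ho] at h
  exact h.pow (by omega) (by rw [ht]; ring)

variable {q₀ : ℕ} (hF : Fintype.card F = q₀ ^ 2)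

/-- The similitude condition for an element of order two in odd characteristic forces a square. -/
theorem square_of_sim (h2 : (2 : F) ≠ 0) {G : 𝕄} (hG : IsUnit G) (hGt : (G.map (qFrob hF))ᵀ = G) (hn0 : n ≠ 0)
    {y : 𝕄} (hy : Sim (qFrob hF) G y) {z : F} (hz : y ^ 2 = z • 1) (hz0 : z ≠ 0) : IsSquare z := by
  haveI : Nonempty (Fin n) := ⟨⟨0, Nat.pos_of_ne_zero hn0⟩⟩
  obtain ⟨μ, hμ0, hμ⟩ := hy
  have hμμ : qFrob hF μ = μ := by
    have h := congrArg (fun M : 𝕄 => (M.map (qFrob hF))ᵀ) hμ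
    simp only [Matrix.map_mul, Matrix.transpose_mul] at h
    rw [hGt, show (yᵀ.map (qFrob hF))ᵀ = y.map (qFrob hF) from Matrix.ext fun i j => rfl,
      show ((y.map (qFrob hF)).map (qFrob hF))ᵀ = yᵀ from Matrix.ext fun i j => qFrob_qFrob hF _, ← mul_assoc, hμ,
      Matrix.map_smul' _ _ _ (map_mul (qFrob hF)), Matrix.transpose_smul, hGt] at h
    exact (smul_left_injective F hG.ne_zero h).symm
  have hsq : z * qFrob hF z = μ ^ 2 := by
    have h := pow_sim hμ 2
    rw [hz, Matrix.transpose_smul, Matrix.transpose_one, Matrix.map_smul' _ _ _ (map_mul (qFrob hF)),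
      Matrix.map_one _ (map_zero _) (map_one _), Matrix.smul_mul, Matrix.one_mul, Matrix.mul_smul, Matrix.mul_one,
      smul_smul, mul_comm] at h
    exact smul_left_injective F hG.ne_zero h
  have hchar : ringChar F ≠ 2 := fun h => h2 (by
    have := ringChar.charP F
    rw [h] at this
    exact_mod_cast CharP.cast_eq_zero F 2)
  rw [FiniteField.isSquare_iff hchar hz0]
  have hodd := FiniteField.odd_card_of_char_ne_two hchar
  rw [hF] at hodd ⊢
  have hq : Odd q₀ := (Nat.odd_pow_iff two_ne_zero).1 (Nat.odd_iff.2 hodd)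
  obtain ⟨k, rfl⟩ := hq
  rw [show (2 * k + 1) ^ 2 / 2 = (2 * k + 2) * k by
    rw [show (2 * k + 1) ^ 2 = 2 * ((2 * k + 2) * k) + 1 by ring]; omega, pow_mul,
    show z ^ (2 * k + 2) = z * qFrob hF z by rw [qFrob_apply, ← pow_succ'], hsq, ← pow_mul]
  exact mul_left_cancel₀ hμ0 (by rw [← pow_succ', mul_one, ← qFrob_apply hF, hμμ])

include hF in
/-- The index of the unitary similitudes is prime to `r` in the self-dual case. -/
theorem not_dvd_relIndex {G : 𝕄} (hG : IsUnit G) (hGt : (G.map (qFrob hF))ᵀ = G) {f : (Fin n → F) → (Fin n → F) → F}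
    (hf : ∀ u v, f u v = u ⬝ᵥ (G *ᵥ (qFrob hF ∘ v))) {r : ℕ} (hr : r.Prime) (hr2 : r ≠ 2)
    (hrq : ¬ r ∣ Fintype.card F) (hsd : IsoSemi.SelfDual (Fintype.card F) q₀ r) :
    ¬ r ∣ (Cfsg.Geo.similarityGroup f).relIndex (Cfsg.Geo.specialLinear (Fin n) F) := by
  intro hΩ
  obtain ⟨σ, hσ, hσ2⟩ := SemiUnitary.exists_qFrobEquiv hF
  have hσ' : ∀ M : 𝕄, M.map σ = M.map (qFrob hF) := fun M => Matrix.ext fun i j => hσ _
  obtain ⟨P, hP⟩ := exists_congr_pair σ hσ2 hG (G₀ := 1) isUnit_one (by rw [hσ', hGt])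
    (by rw [Matrix.map_one σ (map_zero σ) (map_one σ), Matrix.transpose_one])
  rw [hσ'] at hP
  let S := Cfsg.Geo.specialLinear (Fin n) F
  let U := Cfsg.GU n F q₀
  have h1 : Nat.card ↥(U ⊓ S) ∣ Nat.card ↥(Cfsg.Geo.similarityGroup f ⊓ S) := by
    refine (dvd_of_eq (Subgroup.card_map_of_injective (f := (MulAut.conj P).toMonoidHom) (K := U ⊓ S)
      (MulAut.conj P).injective).symm).trans (Subgroup.card_dvd_of_le ?_)
    rintro _ ⟨g, ⟨hgU, hgS⟩, rfl⟩
    refine ⟨(mem_sim hf _).2 ?_, ?_⟩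
    · show Sim (qFrob hF) G ((P * g * P⁻¹ : GL (Fin n) F) : 𝕄)
      rw [Units.val_mul, Units.val_mul]
      refine sim_congr one_ne_zero hP ⟨1, one_ne_zero, ext_conj (σ := qFrob hF) fun u v => ?_⟩
      have hh : ∀ u v : Fin n → F, Cfsg.hermForm n F q₀ u v = u ⬝ᵥ (qFrob hF ∘ v) := fun u v =>
        Finset.sum_congr rfl fun i _ => by rw [Function.comp_apply, qFrob_apply]
      have hg : Cfsg.hermForm n F q₀ ((g : 𝕄) *ᵥ u) ((g : 𝕄) *ᵥ v) = Cfsg.hermForm n F q₀ u v := hgU u v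
      rw [hh, hh, show qFrob hF ∘ ((g : 𝕄) *ᵥ v) = (g : 𝕄).map (qFrob hF) *ᵥ (qFrob hF ∘ v) from
        funext fun i => RingHom.map_mulVec _ _ v i] at hg
      rw [one_smul, Matrix.mul_one, Matrix.one_mulVec, ← Matrix.mulVec_mulVec, Matrix.dotProduct_mulVec u,
        Matrix.vecMul_transpose, hg]
    · show Matrix.GeneralLinearGroup.det (P * g * P⁻¹) = 1
      rw [map_mul, map_mul, show Matrix.GeneralLinearGroup.det g = 1 from hgS, mul_one, map_inv, mul_inv_cancel]
  have hidx : S.index = Fintype.card F - 1 := by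
    show (Matrix.GeneralLinearGroup.det : GL (Fin n) F →* Fˣ).ker.index = _
    rw [Subgroup.index_ker, MonoidHom.range_eq_top.2 ?_, Subgroup.card_top, Nat.card_units,
      Nat.card_eq_fintype_card]
    rcases Nat.eq_zero_or_pos n with rfl | hn
    · intro c
      exfalso
      have h0 : Nat.card ↥S = 1 := Nat.card_eq_one_iff_unique.2 ⟨⟨fun a b => Subtype.ext (Units.ext
        (Matrix.ext fun i => i.elim0))⟩, ⟨1⟩⟩
      have := hΩ.trans (Subgroup.relIndex_dvd_card _ _)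
      rw [h0, Nat.dvd_one] at this
      exact hr.one_lt.ne' this
    intro c
    refine ⟨Matrix.GeneralLinearGroup.mkOfDetNeZero (Matrix.diagonal fun j : Fin n => if j = ⟨0, hn⟩ then (c : F) else 1)
      (by rw [diag_det]; exact c.ne_zero), Units.ext ?_⟩
    rw [Matrix.GeneralLinearGroup.val_det_apply]
    exact diag_det _ _
  have h2 : Nat.card ↥U ∣ Nat.card ↥(U ⊓ S) * (Fintype.card F - 1) := by
    haveI : S.Normal := MonoidHom.normal_ker _
    rw [← Subgroup.card_mul_index (S.subgroupOf U), inf_comm,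
      Nat.card_congr (Subgroup.subgroupOfEquivOfLe (inf_le_right : S ⊓ U ≤ U)).symm.toEquiv,
      Subgroup.inf_subgroupOf_right]
    exact mul_dvd_mul_left _ (hidx ▸ Subgroup.relIndex_dvd_index_of_normal (H := S) (K := U))
  have h3 : (Cfsg.Geo.similarityGroup f).relIndex S * Nat.card ↥U ∣ Nat.card (GL (Fin n) F) := by
    refine (mul_dvd_mul_left _ (h2.trans (mul_dvd_mul_right h1 _))).trans (dvd_of_eq ?_)
    rw [← mul_assoc, ← Subgroup.inf_relIndex_right (Cfsg.Geo.similarityGroup f) S, mul_comm (Subgroup.relIndex _ _),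
      Subgroup.relIndex, ← Nat.card_congr (Subgroup.subgroupOfEquivOfLe (inf_le_right :
        Cfsg.Geo.similarityGroup f ⊓ S ≤ S)).toEquiv, Subgroup.card_mul_index, ← hidx, Subgroup.card_mul_index]
  rw [card_gu hF, Matrix.card_GL_field] at h3
  obtain ⟨a, ha⟩ : ∃ a : ℕ → ℕ, a = fun k => if Even k then q₀ ^ (k + 1) + 1 else q₀ ^ (k + 1) - 1 := ⟨_, rfl⟩
  obtain ⟨b, hb⟩ : ∃ b : ℕ → ℕ, b = fun k => if Even k then q₀ ^ (k + 1) - 1 else q₀ ^ (k + 1) + 1 := ⟨_, rfl⟩
  have hq0 : 1 < q₀ := two_le_of_card_sq hF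
  have hprod : (∏ j : Fin n, (Fintype.card F ^ n - Fintype.card F ^ (j : ℕ))) =
      (∏ j ∈ Finset.range n, Fintype.card F ^ j) * ((∏ k ∈ Finset.range n, a k) * ∏ k ∈ Finset.range n, b k) := by
    rw [← Finset.prod_mul_distrib, ← Finset.prod_range_reflect (fun k => a k * b k) n, ← Finset.prod_mul_distrib,
      Fin.prod_univ_eq_prod_range fun j => Fintype.card F ^ n - Fintype.card F ^ j]
    refine Finset.prod_congr rfl fun j hj => ?_
    have hj' := Finset.mem_range.1 hj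
    obtain ⟨k, hk⟩ : ∃ k, k = n - 1 - j := ⟨_, rfl⟩
    rw [← hk, show n = j + (k + 1) by omega, pow_add, ← Nat.mul_sub_one, hF, ha, hb]
    congr 1
    dsimp only
    rw [← pow_mul q₀ 2 (k + 1), mul_comm 2, pow_mul, ← one_pow 2, Nat.sq_sub_sq]
    split_ifs <;> simp [mul_comm]
  rw [hprod] at h3
  have hpa : 0 < ∏ k ∈ Finset.range n, a k := Finset.prod_pos fun k _ => by
    have := Nat.one_lt_pow (n := k + 1) (by omega) hq0
    rw [ha]; dsimp only; split_ifs <;> omega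
  have h4 : r * (∏ k ∈ Finset.range n, a k) ∣
      ((∏ j ∈ Finset.range n, Fintype.card F ^ j) * ∏ k ∈ Finset.range n, b k) * ∏ k ∈ Finset.range n, a k := by
    rw [show (∏ i ∈ Finset.range n, if Even i then q₀ ^ (i + 1) + 1 else q₀ ^ (i + 1) - 1) =
      ∏ k ∈ Finset.range n, a k by rw [ha]] at h3
    refine (mul_dvd_mul hΩ (dvd_mul_left (∏ k ∈ Finset.range n, a k) (q₀ ^ (n * (n - 1) / 2)))).trans
      (h3.trans (dvd_of_eq ?_))
    ring
  haveI := Fact.mk hr
  have hr2' : (2 : ZMod r) ≠ 0 := fun h => hr2 ((Nat.prime_dvd_prime_iff_eq hr Nat.prime_two).1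
    ((ZMod.natCast_eq_zero_iff 2 r).1 (by exact_mod_cast h)))
  obtain ⟨j, hj⟩ := hsd
  rw [hF, ← ZMod.natCast_eq_zero_iff, Nat.cast_add, Nat.cast_mul, Nat.cast_pow, Nat.cast_pow, Nat.cast_one, ← pow_mul,
    ← pow_succ', add_eq_zero_iff_eq_neg] at hj
  rcases hr.dvd_mul.1 (Nat.dvd_of_mul_dvd_mul_right hpa h4) with h | h
  · obtain ⟨k, -, hk⟩ := (Nat.prime_iff.1 hr).exists_mem_finset_dvd h
    exact hrq (hr.dvd_of_dvd_pow hk)
  · obtain ⟨k, -, hk⟩ := (Nat.prime_iff.1 hr).exists_mem_finset_dvd h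
    rw [hb, ← ZMod.natCast_eq_zero_iff] at hk
    dsimp only at hk
    by_cases hev : Even k
    · rw [if_pos hev, Nat.cast_sub (Nat.one_le_pow _ _ (by omega)), sub_eq_zero, Nat.cast_pow, Nat.cast_one] at hk
      have e1 : ((-1 : ZMod r)) ^ (k + 1) = 1 := by rw [← hj, pow_right_comm, hk, one_pow]
      rw [(Even.add_one hev).neg_one_pow] at e1
      exact hr2' (by linear_combination -e1)
    · rw [if_neg hev, Nat.cast_add, Nat.cast_pow, Nat.cast_one, add_eq_zero_iff_eq_neg] at hk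
      have e1 : ((-1 : ZMod r)) ^ (k + 1) = (-1) ^ (2 * j + 1) :=
        calc ((-1 : ZMod r)) ^ (k + 1) = ((q₀ : ZMod r) ^ (2 * j + 1)) ^ (k + 1) := by rw [hj]
          _ = ((q₀ : ZMod r) ^ (k + 1)) ^ (2 * j + 1) := pow_right_comm _ _ _
          _ = _ := by rw [hk]
      rw [(Nat.even_add_one.2 hev).neg_one_pow, (odd_two_mul_add_one j).neg_one_pow] at e1
      exact hr2' (by linear_combination e1)

end

/-- Elements of prime order of PSL_n(q), q = q₀², and the subgroups of unitary type. Here `T = PSL_n(F)` for a field `F` with `q = q₀²` elements (`n ≥ 3`), `f` is a non-degenerate unitary form on `F^n` for the involutory automorphism `x ↦ x^{q₀}`, and `H` is the subgroup of matrices of determinant 1 that preserve `f` up to a scalar — a subgroup of type GU_n(q₀) (maximality is not assumed); Ω is the set of cosets of `H` in `T`, so an element of `T` of prime order `r` (a matrix `x` of determinant 1 with `x^r` scalar, `x` not scalar)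 fixes a point of Ω exactly when some conjugate of `x` by a matrix of determinant 1 preserves `f` up to a scalar. Let `r` be a prime dividing the index of `H`, with `r = 2` or `r` different from the characteristic `p`, and with `(n, r) ≠ (6, 3)`. Then every element of `T` of order `r` fixes a point of Ω if and only if either `r = 2` and (`p = 2` or `(n)_2 ≤ (q − 1)_2`), or `r ∈ {3, 5}`, `n = r` and `(q₀ − 1)_r = r`. (Odd `r = p` and the case `(n, r) = (6, 3)` are not covered by this statement.) -/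
theorem result {F : Type*} [Field F] [Fintype F] {p : ℕ} [Fact p.Prime] [CharP F p] {q : ℕ} (hq : Fintype.card F = q)
    (q₀ : ℕ) (hq₀ : q = q₀ ^ 2) (n : ℕ) (hn : 3 ≤ n) (f : (Fin n → F) → (Fin n → F) → F) (hf : Cfsg.Geo.IsUnitaryFormPow q₀ f)
    (r : ℕ) [Fact r.Prime] (hr : r = 2 ∨ r ≠ p) (hgap : ¬ (n = 6 ∧ r = 3))
    (hΩ : r ∣ (Cfsg.Geo.similarityGroup f).relIndex (Cfsg.Geo.specialLinear (Fin n) F)) :
    (∀ x ∈ Cfsg.Geo.specialLinear (Fin n) F, (∃ z : F, ((x ^ r : GL (Fin n) F) : Matrix (Fin n) (Fin n) F) = z • (1 : Matrix (Fin n) (Fin n) F)) →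
      (∀ z : F, (x : Matrix (Fin n) (Fin n) F) ≠ z • (1 : Matrix (Fin n) (Fin n) F)) →
      ∃ g ∈ Cfsg.Geo.specialLinear (Fin n) F, g⁻¹ * x * g ∈ Cfsg.Geo.similarityGroup f) ↔
    ((r = 2 ∧ (p = 2 ∨ padicValNat 2 n ≤ padicValNat 2 (q - 1))) ∨ ((r = 3 ∨ r = 5) ∧ n = r ∧ padicValNat r (q₀ - 1) = 1)) := by
  classical
  subst hq
  obtain ⟨σ, hσdef⟩ : ∃ σ, σ = qFrob hq₀ := ⟨_, rfl⟩
  have hσa : ∀ a : F, σ a = a ^ q₀ := fun a => by rw [hσdef, qFrob_apply]
  have hσσ : ∀ a : F, σ (σ a) = a := fun a => by rw [hσdef, qFrob_qFrob]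
  obtain ⟨σe, hσe, hσ2⟩ := SemiUnitary.exists_qFrobEquiv hq₀
  have hmape : ∀ M : Matrix (Fin n) (Fin n) F, M.map σe = M.map σ := fun M => Matrix.ext fun i j => by
    rw [Matrix.map_apply, Matrix.map_apply, hσe, hσdef]
  have hadd : ∀ v x y, f v (x + y) = f v x + f v y := fun v x y => by
    rw [hf.herm v, hf.add_left, ← hσa, map_add, hσa, hσa, ← hf.herm, ← hf.herm]
  have hsmul : ∀ (c : F) (v x : Fin n → F), f v (c • x) = σ c * f v x := fun c v x => by
    rw [hf.herm v, hf.smul_left, mul_pow, ← hf.herm, hσa]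
  obtain ⟨G, hGdef⟩ : ∃ G, G = Cfsg.Geo.gramMatrix f := ⟨_, rfl⟩
  have hfG : ∀ u v, f u v = u ⬝ᵥ (G *ᵥ (σ ∘ v)) :=
    hGdef ▸ Aschbacher.OrthForms.gram_apply hf.add_left hf.smul_left hadd hsmul
  have hG : IsUnit G := hGdef ▸ Aschbacher.OrthForms.gram_isUnit hf.add_left hf.smul_left hadd hsmul hf.nondegenerate
  have hGt : (G.map σ)ᵀ = G := by
    ext k l
    rw [Matrix.transpose_apply, Matrix.map_apply, hGdef, hσa]
    exact (hf.herm _ _).symm
  have hmem := mem_sim hfG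
  have hSL : ∀ x : GL (Fin n) F, x ∈ Cfsg.Geo.specialLinear (Fin n) F ↔
      (x : Matrix (Fin n) (Fin n) F).det = 1 :=
    fun x => ⟨fun h => congrArg Units.val (h : Matrix.GeneralLinearGroup.det x = 1), fun h => Units.ext h⟩
  have hn0 : n ≠ 0 := by omega
  have hq02 : 1 < q₀ := two_le_of_card_sq hq₀
  obtain ⟨m, hp, hm⟩ := FiniteField.card F p
  obtain ⟨e, -, he⟩ : ∃ e ≤ (m : ℕ), q₀ = p ^ e :=
    (Nat.dvd_prime_pow hp).1 (hm ▸ hq₀ ▸ dvd_pow_self q₀ two_ne_zero)
  have hfac : Fintype.card F - 1 = (q₀ + 1) * (q₀ - 1) := by rw [hq₀, ← Nat.sq_sub_sq, one_pow]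
  have hneg : (2 : F) ≠ 0 → IsSquare (-1 : F) := fun h2 => by
    rw [FiniteField.isSquare_neg_one_iff, hq₀, sq, Nat.mul_mod]
    have := Nat.mod_lt q₀ (show 4 > 0 by norm_num)
    interval_cases q₀ % 4 <;> norm_num
  have h2p : p ≠ 2 → (2 : F) ≠ 0 := fun h h' => h ((Nat.prime_dvd_prime_iff_eq hp Nat.prime_two).1
    ((CharP.cast_eq_zero_iff F p 2).1 (by exact_mod_cast h')))
  constructor
  · intro hall
    have hall' : ∀ x : GL (Fin n) F, (x : Matrix (Fin n) (Fin n) F).det = 1 →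
        (∃ z : F, (x : Matrix (Fin n) (Fin n) F) ^ r = z • 1) → (∀ z : F, (x : Matrix (Fin n) (Fin n) F) ≠ z • 1) →
        ∃ h : GL (Fin n) F, Sim σ G ((h⁻¹ * x * h : GL (Fin n) F) : Matrix (Fin n) (Fin n) F) :=
      fun x hx ⟨z, hz⟩ hns => by
        obtain ⟨g, -, hg⟩ := hall x ((hSL x).2 hx) ⟨z, by rw [Units.val_pow_eq_pow_val]; exact hz⟩ hns
        exact ⟨g, (hmem _).1 hg⟩
    by_cases hr2 : r = 2
    · subst hr2
      refine Or.inl ⟨rfl, ?_⟩
      by_contra hc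
      push Not at hc
      obtain ⟨hp2, hv⟩ := hc
      obtain ⟨x, z, hx, hxz, hzs, hns⟩ := exists_two_witness (h2p hp2) hn (hneg (h2p hp2)) hv
      obtain ⟨h, hh⟩ := hall' x hx ⟨z, hxz⟩ hns
      refine hzs (square_of_sim hq₀ (h2p hp2) hG (hσdef ▸ hGt) hn0 (hσdef ▸ hh) ?_ fun h0 => hzs (by
        rw [h0]; exact IsSquare.zero))
      rw [← Units.val_pow_eq_pow_val, show h⁻¹ * x * h = h⁻¹ * x * h⁻¹⁻¹ by rw [inv_inv], conj_pow, inv_inv,
        Units.val_mul, Units.val_mul, Units.val_pow_eq_pow_val, hxz, Matrix.mul_smul, Matrix.mul_one, Matrix.smul_mul,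
        ← Units.val_mul, inv_mul_cancel, Units.val_one]
    refine Or.inr ?_
    have hrp := hr.resolve_left hr2
    have hrpr : r.Prime := Fact.out
    have hrq : ¬ r ∣ Fintype.card F := fun h => hrp ((Nat.prime_dvd_prime_iff_eq hrpr hp).1
      (hrpr.dvd_of_dvd_pow (hm ▸ h)))
    by_cases hsd : IsoSemi.SelfDual (Fintype.card F) q₀ r
    · exact absurd hΩ (not_dvd_relIndex hq₀ hG (hσdef ▸ hGt) (hσdef ▸ hfG) hrpr hr2 hrq hsd)
    have hnp : ¬ r ∣ q₀ + 1 := fun h => hsd ⟨0, by rwa [pow_zero, mul_one]⟩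
    by_cases hq1 : r ∣ Fintype.card F - 1
    · have hr0 : r ∣ q₀ - 1 := by rw [hfac] at hq1; exact (hrpr.dvd_mul.1 hq1).resolve_left hnp
      have hfix : ∀ {k : ℕ} {w : F}, IsPrimitiveRoot w k → k ∣ q₀ - 1 → σ w = w := fun {k} {w} hw hk => by
        obtain ⟨t, ht⟩ := hk
        rw [hσa, show q₀ = k * t + 1 by omega, pow_succ, pow_mul, hw.pow_eq_one, one_pow, one_mul]
      obtain ⟨ω, hω⟩ := exists_primitive (F := F) (r := r) (k := 1) (by rwa [pow_one]) hrpr.ne_zero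
      rw [pow_one] at hω
      obtain ⟨h35, hnr⟩ := forward_shape hn hG hrpr hr2 hgap hω (hfix hω hr0) hall'
      refine ⟨h35, hnr, ?_⟩
      have h1 : 1 ≤ padicValNat r (q₀ - 1) := (padicValNat_dvd_iff_le (by omega)).1 (by rwa [pow_one])
      by_contra hne
      have h2' : r ^ 2 ∣ q₀ - 1 := (padicValNat_dvd_iff_le (by omega)).2 (by omega)
      obtain ⟨c, hc⟩ := exists_primitive (F := F) (r := r) (k := 2) (hfac ▸ h2'.mul_left _) hrpr.ne_zero
      exact forward_sq hG hrpr hr2 hnr hc (hfix hc h2') hall'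
    exfalso
    obtain ⟨i, hi⟩ : ∃ i, i = orderOf (Fintype.card F : ZMod r) := ⟨_, rfl⟩
    have hipos : 0 < i := hi ▸ SemiCriterion.order_pos (p := p) hrp
    have hi2 : 2 ≤ i := by
      by_contra h
      refine hq1 ?_
      rw [← ZMod.natCast_eq_zero_iff, Nat.cast_sub Fintype.card_pos, Nat.cast_one, sub_eq_zero]
      exact orderOf_eq_one_iff.1 (by omega)
    have hin : i ≤ n := by
      have h : r ∣ Nat.card (GL (Fin n) F) := by
        refine hΩ.trans (Dvd.dvd.trans ?_ (Subgroup.card_subgroup_dvd_card (Cfsg.Geo.specialLinear (Fin n) F)))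
        exact Subgroup.index_dvd_card _
      rw [Matrix.card_GL_field] at h
      obtain ⟨k, -, hk⟩ := (Nat.prime_iff.1 hrpr).exists_mem_finset_dvd h
      rw [show Fintype.card F ^ n - Fintype.card F ^ (k : ℕ) =
        Fintype.card F ^ (k : ℕ) * (Fintype.card F ^ (n - k) - 1) by
          rw [Nat.mul_sub_one, ← pow_add, Nat.add_sub_cancel' k.2.le]] at hk
      have hk' := (hrpr.dvd_mul.1 hk).resolve_left fun h => hrq (hrpr.dvd_of_dvd_pow h)
      rw [← ZMod.natCast_eq_zero_iff, Nat.cast_sub (Nat.one_le_pow _ _ Fintype.card_pos), sub_eq_zero, Nat.cast_pow,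
        Nat.cast_one, ← orderOf_dvd_iff_pow_eq_one, ← hi] at hk'
      have := Nat.le_of_dvd (by omega) hk'
      omega
    obtain ⟨x, hx, hxr, hxk⟩ := KronFix.exists_block (F := F) (ι := Fin n) (r := r) hrp hi hi2 (by simpa using hin)
    obtain ⟨h, hh⟩ := hall' x hx ⟨1, by rw [← Units.val_pow_eq_pow_val, hxr, Units.val_one, one_smul]⟩ fun z hz => by
      rw [hz, show z • (1 : Matrix (Fin n) (Fin n) F) - 1 = (z - 1) • (1 : Matrix (Fin n) (Fin n) F) by
        rw [sub_smul, one_smul]] at hxk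
      by_cases hz1 : z - 1 = 0
      · rw [hz1, zero_smul, Matrix.rank_zero] at hxk; omega
      · have hzr : z ^ r = 1 := by
          have h := congrArg (fun y : GL (Fin n) F => (y : Matrix (Fin n) (Fin n) F) ⟨0, by omega⟩ ⟨0, by omega⟩) hxr
          simpa [Units.val_pow_eq_pow_val, hz, _root_.smul_pow] using h
        have hz0 : z ≠ 0 := fun h => by rw [h, zero_pow hrpr.ne_zero] at hzr; exact zero_ne_one hzr
        have h2 := pow_gcd_eq_one.2 ⟨hzr, FiniteField.pow_card_sub_one_eq_one z hz0⟩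
        rw [((Nat.Prime.coprime_iff_not_dvd hrpr).2 hq1).gcd_eq_one, pow_one] at h2
        exact hz1 (sub_eq_zero.2 h2)
    have hrank := KronFix.rank_conj x h (1 : F)
    rw [one_smul, one_smul, hxk] at hrank
    have := le_rank_sim (p := p) (e := e) hrpr hr2 hrp hq1 hσσ (fun a => by rw [hσa, he]) (he ▸ hsd) hG hGt hh
      (by rw [← Units.val_pow_eq_pow_val, show h⁻¹ * x * h = h⁻¹ * x * h⁻¹⁻¹ by rw [inv_inv], conj_pow, hxr, mul_one,
        mul_inv_cancel, Units.val_one])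
      (fun h1 => by rw [h1, sub_self, Matrix.rank_zero] at hrank; omega)
    omega
  · intro hcond x hx ⟨z, hz⟩ hns
    rw [Units.val_pow_eq_pow_val] at hz
    rw [hSL] at hx
    have hfin : ∀ (G₀ : Matrix (Fin n) (Fin n) F) (h D : GL (Fin n) F), IsUnit G₀ → (G₀.map σ)ᵀ = G₀ →
        (x : Matrix (Fin n) (Fin n) F) * (h : Matrix (Fin n) (Fin n) F) =
          (h : Matrix (Fin n) (Fin n) F) * (D : Matrix (Fin n) (Fin n) F) →
        Sim σ G₀ (D : Matrix (Fin n) (Fin n) F) →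
        (∀ c : F, c ≠ 0 → ∃ k : Matrix (Fin n) (Fin n) F, k.det = c ∧
          k * (D : Matrix (Fin n) (Fin n) F) = (D : Matrix (Fin n) (Fin n) F) * k) →
        ∃ g ∈ Cfsg.Geo.specialLinear (Fin n) F, g⁻¹ * x * g ∈ Cfsg.Geo.similarityGroup f := by
      intro G₀ h D hG₀ hG₀t hxh hD hk
      obtain ⟨P, hP⟩ := exists_congr_pair σe hσ2 hG hG₀ (by rw [hmape, hGt]) (by rw [hmape, hG₀t])
      rw [hmape] at hP
      obtain ⟨g, hg, hs⟩ := finish one_ne_zero hP hxh hD hk
      exact ⟨g, (hSL g).2 hg, (hmem _).2 hs⟩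
    rcases hcond with ⟨rfl, hc⟩ | ⟨h35, hnr, hν⟩
    · obtain ⟨c, hc'⟩ : IsSquare z := by
        by_cases hp2 : p = 2
        · haveI : CharP F 2 := hp2 ▸ (inferInstance : CharP F p)
          exact FiniteField.isSquare_of_char_two (ringChar.eq F 2) z
        · exact square_of_small (h2p hp2) hn0 (hneg (h2p hp2)) hx hz (hc.resolve_left hp2)
      have hz0 : z ≠ 0 := fun h => by
        have := congrArg Matrix.det hz
        haveI hne : Nonempty (Fin n) := ⟨⟨0, by omega⟩⟩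
        rw [Matrix.det_pow, hx, one_pow, h, zero_smul, Matrix.det_zero] at this
        exact one_ne_zero this
      have hc0 : c ≠ 0 := fun h => hz0 (by rw [hc', h, mul_zero])
      have hx' : (c⁻¹ • (x : Matrix (Fin n) (Fin n) F)) * (c⁻¹ • (x : Matrix (Fin n) (Fin n) F)) = 1 := by
        rw [Matrix.smul_mul, Matrix.mul_smul, smul_smul, ← sq (x : Matrix (Fin n) (Fin n) F), hz, smul_smul, hc',
          ← mul_inv, inv_mul_cancel₀ (mul_ne_zero hc0 hc0), one_smul]
      have hcx : (x : Matrix (Fin n) (Fin n) F) = c • (c⁻¹ • (x : Matrix (Fin n) (Fin n) F)) := by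
        rw [smul_smul, mul_inv_cancel₀ hc0, one_smul]
      have hsim : ∀ M : Matrix (Fin n) (Fin n) F, Mᵀ = M → M.map σ = M → M * M = 1 → Sim σ 1 (c • M) :=
        fun M h1 h2 h3 => ⟨c * σ c, mul_ne_zero hc0 ((map_ne_zero σ).2 hc0), by
          rw [Matrix.transpose_smul, Matrix.map_smul' _ _ _ (map_mul σ), h1, h2, Matrix.mul_one, Matrix.smul_mul,
            Matrix.mul_smul, h3, smul_smul]⟩
      have hone : ((1 : Matrix (Fin n) (Fin n) F).map σ)ᵀ = 1 := by
        rw [Matrix.map_one σ (map_zero σ) (map_one σ), Matrix.transpose_one]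
      have hunit : ∀ M : Matrix (Fin n) (Fin n) F, M * M = 1 → ∃ D : GL (Fin n) F,
          (D : Matrix (Fin n) (Fin n) F) = c • M := fun M h3 =>
        ⟨⟨c • M, c⁻¹ • M, by rw [Matrix.smul_mul, Matrix.mul_smul, h3, smul_smul, mul_inv_cancel₀ hc0, one_smul],
          by rw [Matrix.smul_mul, Matrix.mul_smul, h3, smul_smul, inv_mul_cancel₀ hc0, one_smul]⟩, rfl⟩
      by_cases hp2 : p = 2
      · have h20 : (2 : F) = 0 := by
          haveI : CharP F 2 := hp2 ▸ (inferInstance : CharP F p)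
          exact_mod_cast CharP.cast_eq_zero F 2
        obtain ⟨h, π, hπ, hxh⟩ := exists_swap h20 hx'
        obtain ⟨D, hD⟩ := hunit (pm π) (pm_mul_self hπ)
        refine hfin 1 h D isUnit_one hone ?_ (hD ▸ hsim _ (pm_transpose hπ) (pm_map π σ) (pm_mul_self hπ)) fun t ht => ?_
        · rw [hD, hcx, Matrix.smul_mul, hxh, Matrix.mul_smul]
        · rw [hD]
          by_cases hfx : ∃ j₀, π j₀ = j₀
          · obtain ⟨j₀, hj₀⟩ := hfx
            refine ⟨_, diag_det j₀ t, ?_⟩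
            rw [Matrix.mul_smul, Matrix.smul_mul, diag_comm_pm fun j => ?_]
            exact if_congr ⟨fun h' => by rw [← hπ j, h', hj₀], fun h' => by rw [h', hj₀]⟩ rfl rfl
          · push Not at hfx
            obtain ⟨s, hs⟩ := FiniteField.isSquare_of_char_two (F := F) (by
              haveI : CharP F 2 := hp2 ▸ (inferInstance : CharP F p)
              exact ringChar.eq F 2) t
            obtain ⟨j₀, hj₀⟩ : ∃ j₀ : Fin n, j₀ = ⟨0, by omega⟩ := ⟨_, rfl⟩
            refine ⟨Matrix.diagonal fun j => if j = j₀ ∨ j = π j₀ then s else 1, ?_, ?_⟩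
            · rw [Matrix.det_diagonal, Fintype.prod_eq_mul j₀ (π j₀) (hfx j₀).symm fun j hj => by simp [hj.1, hj.2]]
              simp [hs]
            · rw [Matrix.mul_smul, Matrix.smul_mul, diag_comm_pm fun j => ?_]
              refine if_congr ⟨fun h' => ?_, fun h' => ?_⟩ rfl rfl
              · rcases h' with h' | h'
                · exact Or.inr (by rw [← hπ j, h'])
                · exact Or.inl (by rw [← hπ j, h', hπ])
              · rcases h' with h' | h'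
                · exact Or.inr (by rw [h'])
                · exact Or.inl (by rw [h', hπ])
      · have h2 := h2p hp2
        have hω : IsPrimitiveRoot (-1 : F) 2 := by
          refine IsPrimitiveRoot.mk_of_lt _ two_pos (by ring) fun l hl0 hl2 => ?_
          obtain rfl : l = 1 := by omega
          rw [pow_one]
          exact fun h => h2 (by linear_combination -h)
        obtain ⟨h, k, hk⟩ := exists_diag two_pos (by exact_mod_cast h2) hω (x := c⁻¹ • (x : Matrix (Fin n) (Fin n) F))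
          (by rw [sq, hx'])
        obtain ⟨M, hM⟩ : ∃ M : Matrix (Fin n) (Fin n) F, M = Matrix.diagonal fun u => (-1 : F) ^ k u := ⟨_, rfl⟩
        have h3 : M * M = 1 := by
          rw [hM, Matrix.diagonal_mul_diagonal, ← Matrix.diagonal_one]
          congr 1; funext u
          rw [← mul_pow, neg_one_mul, neg_neg, one_pow]
        obtain ⟨D, hD⟩ := hunit M h3
        refine hfin 1 h D isUnit_one hone ?_ (hD ▸ hsim M (by rw [hM, Matrix.diagonal_transpose]) ?_ h3) fun t ht =>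
          ⟨_, diag_det (⟨0, by omega⟩ : Fin n) t, ?_⟩
        · rw [hD, hcx, Matrix.smul_mul, hk, Matrix.mul_smul, hM]
        · rw [hM, Matrix.diagonal_map (map_zero σ)]; congr 1; funext u; simp
        · rw [hD, hM, Matrix.mul_smul, Matrix.smul_mul, Matrix.diagonal_mul_diagonal, Matrix.diagonal_mul_diagonal]
          exact congrArg _ (congrArg _ (funext fun u => mul_comm _ _))
    · have hrpr : r.Prime := Fact.out
      have hr0 : r ∣ q₀ - 1 := by
        simpa using (padicValNat_dvd_iff_le (p := r) (n := 1) (show q₀ - 1 ≠ 0 by omega)).2 hν.ge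
      have hr2 : r ≠ 2 := by omega
      have hnp : ¬ r ∣ q₀ + 1 := fun h => by
        have h2 := Nat.dvd_sub h hr0
        rw [show q₀ + 1 - (q₀ - 1) = 2 by omega] at h2
        exact hr2 ((Nat.prime_dvd_prime_iff_eq hrpr Nat.prime_two).1 h2)
      obtain ⟨ω, hω⟩ := exists_primitive (F := F) (r := r) (k := 1) (by rw [pow_one, hfac]; exact hr0.mul_left _)
        hrpr.ne_zero
      rw [pow_one] at hω
      have hσω : σ ω = ω := by
        obtain ⟨t, ht⟩ := hr0
        rw [hσa, show q₀ = r * t + 1 by omega, pow_succ, pow_mul, hω.pow_eq_one, one_pow, one_mul]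
      have hsq : ¬ r ^ 2 ∣ Fintype.card F - 1 := fun h => by
        rw [hfac] at h
        have h' := ((Nat.Coprime.pow_left 2 ((Nat.Prime.coprime_iff_not_dvd hrpr).2 hnp))).dvd_of_dvd_mul_left h
        have := (padicValNat_dvd_iff_le (p := r) (n := 2) (show q₀ - 1 ≠ 0 by omega)).1 h'
        omega
      have hrF : (r : F) ≠ 0 := by
        rcases hr with h | h
        · omega
        · exact fun h' => h ((Nat.prime_dvd_prime_iff_eq hp hrpr).1 ((CharP.cast_eq_zero_iff F p r).1 h')).symm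
      obtain ⟨h, D, π, hπ, hxh, hD, hk⟩ := exists_small h35 hnr hrF hω σ hσω hsq hx hz
      exact hfin (pm π) h D (pm_isUnit hπ) (by rw [pm_map, pm_transpose hπ]) hxh hD hk

end Cfsg.Agent.S5982
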