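import Cfsg.Statements.S5981
import Cfsg.Agent.Lib.MaxSub.SimOrth
import Cfsg.Agent.Lib.MaxSub.KronOrth
import Cfsg.Agent.Lib.Geom.FiniteField
import Cfsg.Agent.S5982

set_option autoImplicit false
open scoped MatrixGroups
open Cfsg

namespace Cfsg.Agent.S5981

open CfsgLib CfsgLib.MaxSub CfsgLib.MaxSub.SimFix Matrix
open CfsgLib.Classical
open CfsgLib.Geom (quadIsoms mem_quadIsoms)
open QuadraticMap (polar)
open scoped Kronecker

section

universe u
variable {F : Type u} [Field F] [Fintype F] {n : ℕ}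

local notation "𝕄" => Matrix (Fin n) (Fin n) F

omit [Fintype F] in
theorem map_id' (M : 𝕄) : M.map (RingHom.id F) = M := Matrix.ext fun _ _ => rfl

/-- The order of `GL`. -/
theorem card_gl : Nat.card (GL (Fin n) F) = (∏ j ∈ Finset.range n, Fintype.card F ^ j) *
    ∏ k ∈ Finset.range n, (Fintype.card F ^ (k + 1) - 1) := by
  rw [Matrix.card_GL_field, ← Finset.prod_range_reflect (fun k => Fintype.card F ^ (k + 1) - 1) n,
    ← Finset.prod_mul_distrib, Fin.prod_univ_eq_prod_range fun j => Fintype.card F ^ n - Fintype.card F ^ j]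
  refine Finset.prod_congr rfl fun j hj => ?_
  have hj' := Finset.mem_range.1 hj
  obtain ⟨k, hk⟩ : ∃ k, k = n - 1 - j := ⟨_, rfl⟩
  rw [← hk, show n = j + (k + 1) by omega, pow_add, ← Nat.mul_sub_one]

omit [Fintype F] in
theorem mem_sim {Q : (Fin n → F) → F} (h2 : (2 : F) ≠ 0) (hself : ∀ v, polar Q v v = 2 * Q v) {G : 𝕄}
    (hG : ∀ u v, polar Q u v = u ⬝ᵥ (G *ᵥ v)) (g : GL (Fin n) F) :
    g ∈ Cfsg.Geo.quadSimilarityGroup Q ↔ Sim (RingHom.id F) G (g : 𝕄) := by
  have key : ∀ u v, polar Q ((g : 𝕄) *ᵥ u) ((g : 𝕄) *ᵥ v) = u ⬝ᵥ (((g : 𝕄)ᵀ * G * (g : 𝕄)) *ᵥ v) := fun u v => by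
    rw [hG, ← Matrix.mulVec_mulVec, ← Matrix.mulVec_mulVec, Matrix.dotProduct_mulVec u, Matrix.vecMul_transpose]
  constructor
  · rintro ⟨c, hc⟩
    refine ⟨c, c.ne_zero, Matrix.ext fun k l => ?_⟩
    have hp : ∀ u v, polar Q ((g : 𝕄) *ᵥ u) ((g : 𝕄) *ᵥ v) = (c : F) * polar Q u v := fun u v => by
      simp only [polar, ← Matrix.mulVec_add, hc]; ring
    have := hp (Pi.single k 1) (Pi.single l 1)
    rw [key, hG] at this
    rw [map_id']
    simpa using this
  · rintro ⟨μ, hμ, h⟩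
    rw [map_id'] at h
    refine ⟨Units.mk0 μ hμ, fun v => mul_left_cancel₀ h2 ?_⟩
    rw [← hself, key, h, Matrix.smul_mulVec, dotProduct_smul, ← hG, hself, smul_eq_mul, Units.val_mk0, mul_left_comm]

variable {p : ℕ} [Fact p.Prime] [CharP F p] {r : ℕ}

include p in
/-- A fixed-point-free element determines the type. -/
theorem block_contra (hr : r.Prime) (hr2 : r ≠ 2) (hrp : r ≠ p) {i k m : ℕ}
    (hi : i = orderOf (Fintype.card F : ZMod r)) (hi2 : 2 ≤ i) (hk : n = k * i) (hm : n = 2 * m) (hm0 : 1 ≤ m)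
    (Q₀ : QuadraticForm F (Fin n → F)) (hQ : ∀ x, (∀ y, polar Q₀ x y = 0) → x = 0) {G : 𝕄}
    (hG : ∀ u v, polar Q₀ u v = u ⬝ᵥ (G *ᵥ v)) (h2 : (2 : F) ≠ 0) (hGu : IsUnit G)
    (hall : ∀ x : GL (Fin n) F, (x : 𝕄).det = 1 → (∃ z : F, (x : 𝕄) ^ r = z • 1) → (∀ z : F, (x : 𝕄) ≠ z • 1) →
      ∃ h : GL (Fin n) F, Sim (RingHom.id F) G ((h⁻¹ * x * h : GL (Fin n) F) : 𝕄)) :
    ((Fintype.card F : ZMod r) ^ m = -1 → ¬ KnownC.OrthType.IsPlus Q₀ m) ∧
      ((Fintype.card F : ZMod r) ^ m = 1 → KnownC.OrthType.IsPlus Q₀ m) := by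
  classical
  haveI := Fact.mk hr
  have hq1 : (Fintype.card F : ZMod r) ≠ 1 := fun h => by rw [h, orderOf_one] at hi; omega
  have hrq1 : ¬ r ∣ Fintype.card F - 1 := fun h => hq1 (by
    rw [← ZMod.natCast_eq_zero_iff, Nat.cast_sub Fintype.card_pos, Nat.cast_one, sub_eq_zero] at h
    exact h)
  obtain ⟨A, hAd, hAr, hAk⟩ := KronFix.exists_block (F := F) (ι := Fin i) (r := r) hrp hi hi2 (by simp)
  obtain ⟨W, hW⟩ : ∃ W, W = (1 : Matrix (Fin k) (Fin k) F) ⊗ₖ (A : Matrix (Fin i) (Fin i) F) := ⟨_, rfl⟩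
  have hWd : W.det = 1 := by rw [hW, Matrix.det_kronecker, Matrix.det_one, one_pow, one_mul, hAd, one_pow]
  have hWr : W ^ r = 1 := by
    rw [hW, KronFix.kron_pow, one_pow, ← Units.val_pow_eq_pow_val, hAr, Units.val_one, Matrix.one_kronecker_one]
  have hWk : (W - 1).rank = n := by
    have h := KronFix.smul_one_kron (a := k) (1 : F) 1 (A : Matrix (Fin i) (Fin i) F)
    rw [one_smul, one_smul, mul_one, one_smul, ← hW] at h
    rw [h, KronFix.rank_one_kron, hAk, hk]
  let ε : Fin k × Fin i ≃ Fin n := finProdFinEquiv.trans (finCongr hk.symm)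
  obtain ⟨X, hX⟩ : ∃ X : 𝕄, X = Matrix.reindexAlgEquiv F F ε W := ⟨_, rfl⟩
  have hXd : X.det = 1 := by rw [hX, Matrix.reindexAlgEquiv_apply, Matrix.det_reindex_self, hWd]
  have hXr : X ^ r = 1 := by rw [hX, ← map_pow, hWr, map_one]
  have hXk : (X - 1).rank = n := by
    rw [hX, ← map_one (Matrix.reindexAlgEquiv F F ε), ← map_sub, Matrix.reindexAlgEquiv_apply, Matrix.rank_reindex, hWk]
  obtain ⟨x, hx⟩ : ∃ x : GL (Fin n) F, (x : 𝕄) = X :=
    ⟨Matrix.GeneralLinearGroup.mkOfDetNeZero X (by rw [hXd]; exact one_ne_zero), rfl⟩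
  have hroot : ∀ {s : F}, s ≠ 0 → s ^ r = 1 → s = 1 := fun {s} hs hsr => by
    have h := pow_gcd_eq_one.2 ⟨hsr, FiniteField.pow_card_sub_one_eq_one s hs⟩
    rwa [((Nat.Prime.coprime_iff_not_dvd hr).2 hrq1).gcd_eq_one, pow_one] at h
  haveI : Nonempty (Fin n) := ⟨⟨0, by omega⟩⟩
  obtain ⟨h, μ, hμ0, hμ⟩ := hall x (hx ▸ hXd) ⟨1, by rw [hx, hXr, one_smul]⟩ fun z hz => by
    rw [hx] at hz
    have hzr : z ^ r = 1 := by
      have h := congrFun (congrFun hXr (Classical.arbitrary _)) (Classical.arbitrary _)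
      simpa [hz, _root_.smul_pow] using h
    have hz0 : z ≠ 0 := fun h => by rw [h, zero_pow hr.ne_zero] at hzr; exact zero_ne_one hzr
    rw [hz, hroot hz0 hzr, one_smul, sub_self, Matrix.rank_zero] at hXk
    omega
  obtain ⟨y, hy⟩ : ∃ y, y = h⁻¹ * x * h := ⟨_, rfl⟩
  rw [← hy, map_id'] at hμ
  have hyr : y ^ r = 1 := by
    rw [hy, show h⁻¹ * x * h = h⁻¹ * x * h⁻¹⁻¹ by rw [inv_inv], conj_pow,
      show x ^ r = 1 from Units.ext (by rw [Units.val_pow_eq_pow_val, hx, hXr, Units.val_one]), mul_one, mul_inv_cancel]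
  have hμ1 : μ = 1 := by
    refine hroot hμ0 ?_
    have h := pow_sim (σ := RingHom.id F) (M := (y : 𝕄)) (G := G) (μ := μ) (by rw [map_id']; exact hμ) r
    rw [← Units.val_pow_eq_pow_val, hyr, Units.val_one, map_id', Matrix.transpose_one, Matrix.one_mul, Matrix.mul_one] at h
    exact smul_left_injective F hGu.ne_zero (by simpa using h.symm)
  have hg : glLin y ∈ quadIsoms Q₀ := fun v => by
    have hv : polar Q₀ ((y : 𝕄) *ᵥ v) ((y : 𝕄) *ᵥ v) = polar Q₀ v v := by
      have e : v ⬝ᵥ (((y : 𝕄)ᵀ * G * (y : 𝕄)) *ᵥ v) = ((y : 𝕄) *ᵥ v) ⬝ᵥ (G *ᵥ ((y : 𝕄) *ᵥ v)) := by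
        rw [← Matrix.mulVec_mulVec v ((y : 𝕄)ᵀ * G) (y : 𝕄), ← Matrix.mulVec_mulVec _ (y : 𝕄)ᵀ G,
          Matrix.dotProduct_mulVec v (y : 𝕄)ᵀ, Matrix.vecMul_transpose]
      rw [hG, hG, ← e, hμ, hμ1, one_smul]
    rw [QuadraticMap.polar_self, QuadraticMap.polar_self, two_smul, two_smul] at hv
    rw [glLin_apply]
    exact mul_left_cancel₀ h2 (by rw [two_mul, two_mul]; exact hv)
  have hgr : glLin y ^ r = 1 := by rw [← map_pow, hyr, map_one]
  have hfix : ∀ v, glLin y v = v → v = 0 := fun v hv => by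
    rw [glLin_apply] at hv
    have hrk := KronFix.rank_conj x h (1 : F)
    rw [one_smul, one_smul, ← hy, hx, hXk] at hrk
    have hu : IsUnit ((y : 𝕄) - 1) := by
      rw [← Matrix.mulVec_injective_iff_isUnit]
      have hk' := ((y : 𝕄) - 1).mulVecLin.finrank_range_add_finrank_ker
      rw [Module.finrank_fin_fun] at hk'
      change ((y : 𝕄) - 1).rank + _ = n at hk'
      have hbot : LinearMap.ker ((y : 𝕄) - 1).mulVecLin = ⊥ := Submodule.finrank_eq_zero.1 (by omega)
      exact LinearMap.ker_eq_bot.1 hbot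
    exact Matrix.mulVec_injective_iff_isUnit.2 hu (by
      rw [Matrix.sub_mulVec, hv, Matrix.one_mulVec, sub_self, Matrix.mulVec_zero])
  exact KnownC.OrthPrime.type_of_no_fixed (p := p) hr hr2 hrp hq1 Q₀ hQ hg hgr hfix hm0
    (by rw [Module.finrank_fin_fun, hm])

omit [Fintype F] in
theorem exists_gl {M : 𝕄} (h : M.det ≠ 0) : ∃ D : GL (Fin n) F, (D : 𝕄) = M :=
  ⟨Matrix.GeneralLinearGroup.mkOfDetNeZero M h, rfl⟩

include p in
theorem index_contra (hr : r.Prime) (hr2 : r ≠ 2) (hrp : r ≠ p) {i : ℕ}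
    (hi : i = orderOf (Fintype.card F : ZMod r)) (hi2 : 2 ≤ i) (hev : Even i) (hn : 3 ≤ n) {Q : (Fin n → F) → F}
    (Q₀ : QuadraticForm F (Fin n → F)) (hQQ : ∀ v, Q₀ v = Q v) (hQ : ∀ x, (∀ y, polar Q₀ x y = 0) → x = 0) {G : 𝕄}
    (hG : ∀ u v, polar Q₀ u v = u ⬝ᵥ (G *ᵥ v)) (h2 : (2 : F) ≠ 0) (hGu : IsUnit G)
    (hΩ : r ∣ (Cfsg.Geo.quadSimilarityGroup Q).relIndex (Cfsg.Geo.specialLinear (Fin n) F))
    (hall : ∀ x : GL (Fin n) F, (x : 𝕄).det = 1 → (∃ z : F, (x : 𝕄) ^ r = z • 1) → (∀ z : F, (x : 𝕄) ≠ z • 1) →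
      ∃ h : GL (Fin n) F, Sim (RingHom.id F) G ((h⁻¹ * x * h : GL (Fin n) F) : 𝕄)) : False := by
  classical
  haveI := Fact.mk hr
  have hrq : ¬ r ∣ Fintype.card F := fun h => by
    rw [← ZMod.natCast_eq_zero_iff] at h
    rw [h] at hi
    simp at hi
    omega
  have hU : Nat.card ↥((quadIsoms Q₀).comap (glLin (ι := Fin n) (F := F)).toMonoidHom) = Nat.card (quadIsoms Q₀) := by
    conv_rhs => rw [← Subgroup.map_comap_eq_self_of_surjective (f := (glLin (ι := Fin n) (F := F)).toMonoidHom)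
      (glLin (ι := Fin n) (F := F)).surjective (quadIsoms Q₀),
      Subgroup.card_map_of_injective (glLin (ι := Fin n) (F := F)).injective]
  have hdvd := relIndex_mul_dvd (by omega) (Cfsg.Geo.quadSimilarityGroup Q)
    ((quadIsoms Q₀).comap (glLin (ι := Fin n) (F := F)).toMonoidHom) fun g hg => ⟨1, fun v => by
      have h := (hg.1 : glLin g ∈ quadIsoms Q₀) v
      change Q₀ (glLin g v) = Q₀ v at h
      rw [glLin_apply, hQQ, hQQ] at h
      rw [h, Units.val_one, one_mul]⟩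
  rw [hU, card_gl] at hdvd
  obtain ⟨m, rfl | rfl⟩ : ∃ m, n = 2 * (m + 1) ∨ n = 2 * m + 1 := by
    rcases Nat.even_or_odd n with ⟨k, hk⟩ | ⟨k, hk⟩
    · exact ⟨k - 1, Or.inl (by omega)⟩
    · exact ⟨k, Or.inr hk⟩
  · have hfac : Fintype.card F ^ (2 * (m + 1)) - 1 =
        (Fintype.card F ^ (m + 1) + 1) * (Fintype.card F ^ (m + 1) - 1) := by
      rw [← Nat.sq_sub_sq, one_pow, ← pow_mul, mul_comm 2]
    have hkey : (Fintype.card F : ZMod r) ^ (2 * (m + 1)) = 1 →
        ((Fintype.card F : ZMod r) ^ (m + 1) = -1 → ¬ KnownC.OrthType.IsPlus Q₀ (m + 1)) ∧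
          ((Fintype.card F : ZMod r) ^ (m + 1) = 1 → KnownC.OrthType.IsPlus Q₀ (m + 1)) := fun h => by
      obtain ⟨k, hk⟩ : i ∣ 2 * (m + 1) := hi ▸ orderOf_dvd_of_pow_eq_one h
      exact block_contra (p := p) hr hr2 hrp hi hi2 (k := k) (by rw [hk, mul_comm]) rfl (by omega) Q₀ hQ hG h2 hGu hall
    rcases KnownC.OrthType.dichotomy Q₀ hQ (k := m + 1) (by rw [Module.finrank_fin_fun]) with hP | ⟨l, hl, hM⟩
    · obtain ⟨e, he⟩ := hP
      rw [← card_quadIsoms_congr (qfPlus (m + 1) F) Q₀ e he, card_qfPlus_isoms] at hdvd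
      refine not_dvd_of_order (A := Fintype.card F ^ (m + 1) + 1) Fintype.one_lt_card hr hrq hi hev (fun h => ?_)
        (Or.inr ⟨rfl, hfac⟩) hdvd hΩ
      rw [← ZMod.natCast_eq_zero_iff, Nat.cast_add, Nat.cast_pow, Nat.cast_one, add_eq_zero_iff_eq_neg] at h
      exact (hkey (by rw [mul_comm, pow_mul, h, neg_one_sq])).1 h ⟨e, he⟩
    · obtain rfl : m = l := by omega
      obtain ⟨a, b, hab⟩ := CfsgLib.Classical.exists_anisotropic_binary (F := F)
      obtain ⟨e, he⟩ := hM a b hab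
      rw [← card_quadIsoms_congr (qfMinus m F a b) Q₀ e he, card_qfMinus_isoms hab] at hdvd
      refine not_dvd_of_order (A := Fintype.card F ^ (m + 1) - 1) Fintype.one_lt_card hr hrq hi hev (fun h => ?_)
        (Or.inr ⟨rfl, hfac.trans (mul_comm _ _)⟩) hdvd hΩ
      rw [← ZMod.natCast_eq_zero_iff, Nat.cast_sub (Nat.one_le_pow _ _ Fintype.card_pos), Nat.cast_pow, Nat.cast_one,
        sub_eq_zero] at h
      exact KnownC.OrthType.not_plus_of_minus hab (hM a b hab) ((hkey (by rw [mul_comm, pow_mul, h, one_pow])).2 h)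
  · rw [card_odd h2 rfl Q₀ hQ] at hdvd
    exact not_dvd_of_order (A := 1) (B := 1) (e := m ^ 2) Fintype.one_lt_card hr hrq hi hev
      (fun h => hr.one_lt.ne' (Nat.dvd_one.1 h)) (Or.inl ⟨rfl, rfl, rfl⟩) (by rw [mul_one]; exact hdvd) hΩ

/-- Elements squaring to a non-square are conjugate to similitudes. -/
theorem two_nonsquare (h2 : (2 : F) ≠ 0) (hn : n ≠ 0) {G : 𝕄} (hGt : Gᵀ = G) (hGu : IsUnit G) {x : GL (Fin n) F}
    (hx : (x : 𝕄).det = 1) {z : F} (hz : (x : 𝕄) ^ 2 = z • 1) (hsq : ¬ IsSquare z) :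
    ∃ g : GL (Fin n) F, (g : 𝕄).det = 1 ∧ Sim (RingHom.id F) G ((g⁻¹ * x * g : GL (Fin n) F) : 𝕄) := by
  classical
  have hzn : z ^ n = 1 := by
    have := congrArg Matrix.det hz
    rwa [Matrix.det_pow, hx, one_pow, Matrix.det_smul, Matrix.det_one, mul_one, Fintype.card_fin, eq_comm] at this
  obtain ⟨m, rfl⟩ : Even n := by
    by_contra h
    obtain ⟨k, rfl⟩ := Nat.not_even_iff_odd.1 h
    exact hsq ⟨z ^ (k + 1), by rw [← pow_add, show k + 1 + (k + 1) = 2 * k + 1 + 1 by ring, pow_succ, hzn, one_mul]⟩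
  have hz0 : z ≠ 0 := fun h => hsq (by rw [h]; exact IsSquare.zero)
  obtain ⟨β, hβ⟩ := KronFix.exists_complex_basis (F := F) (V := Fin (m + m) → F) (z := z)
    (fun c hc => hsq ⟨c, hc.symm⟩) (T := Matrix.toLinAlgEquiv' (x : Matrix (Fin (m + m)) (Fin (m + m)) F)) (fun v => by
      rw [Matrix.toLinAlgEquiv'_apply, Matrix.toLinAlgEquiv'_apply, Matrix.mulVec_mulVec, ← sq, hz, Matrix.smul_mulVec,
        Matrix.one_mulVec]) (b := m) (by rw [Module.finrank_fin_fun]; omega)
  let ε : Fin 2 × Fin m ≃ Fin (m + m) := finProdFinEquiv.trans (finCongr (two_mul m))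
  obtain ⟨h, hh⟩ := KronFix.exists_gl_of_basis (β.reindex ε)
  obtain ⟨J, hJ⟩ : ∃ J : Matrix (Fin 2) (Fin 2) F, J = !![0, z; 1, 0] := ⟨_, rfl⟩
  obtain ⟨D, hD⟩ := exists_gl (M := Matrix.reindexAlgEquiv F F ε (Matrix.blockDiagonal fun _ : Fin m => J)) (by
    rw [Matrix.reindexAlgEquiv_apply, Matrix.det_reindex_self, Matrix.det_blockDiagonal]
    exact Finset.prod_ne_zero_iff.2 fun j _ => by rw [hJ, Matrix.det_fin_two_of]; simpa using hz0)
  have hxh : (x : Matrix (Fin (m + m)) (Fin (m + m)) F) * (h : Matrix (Fin (m + m)) (Fin (m + m)) F) =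
      (h : Matrix (Fin (m + m)) (Fin (m + m)) F) * (D : Matrix (Fin (m + m)) (Fin (m + m)) F) := by
    refine Matrix.ext_of_mulVec_single fun k => ?_
    obtain ⟨⟨a, j⟩, rfl⟩ := ε.surjective k
    rw [← Matrix.mulVec_mulVec, hh, Module.Basis.reindex_apply, Equiv.symm_apply_apply, ← Matrix.mulVec_mulVec]
    have hcol : (D : Matrix (Fin (m + m)) (Fin (m + m)) F) *ᵥ Pi.single (ε (a, j)) 1 =
        J 0 a • Pi.single (ε (0, j)) 1 + J 1 a • Pi.single (ε (1, j)) 1 := by
      ext l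
      obtain ⟨⟨b, k⟩, rfl⟩ := ε.surjective l
      rw [Matrix.mulVec_single_one, Matrix.col_apply, hD]
      simp only [Matrix.reindexAlgEquiv_apply, Matrix.reindex_apply, Matrix.submatrix_apply, Equiv.symm_apply_apply,
        Matrix.blockDiagonal_apply, Pi.add_apply, Pi.smul_apply, Pi.single_apply, smul_eq_mul,
        EmbeddingLike.apply_eq_iff_eq, Prod.mk.injEq]
      by_cases hkj : k = j
      · subst hkj; fin_cases b <;> simp
      · simp [hkj]
    rw [hcol, Matrix.mulVec_add, Matrix.mulVec_smul, Matrix.mulVec_smul, hh, hh, Module.Basis.reindex_apply,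
      Module.Basis.reindex_apply, Equiv.symm_apply_apply, Equiv.symm_apply_apply, hJ]
    have h1 := hβ j
    rw [Matrix.toLinAlgEquiv'_apply, Matrix.toLinAlgEquiv'_apply] at h1
    fin_cases a
    · simpa using h1.1
    · simpa using h1.2
  have hm : 0 < m := by omega
  obtain ⟨j₀, hj₀⟩ : ∃ j₀ : Fin m, j₀ = ⟨0, hm⟩ := ⟨_, rfl⟩
  obtain ⟨s, t, hst⟩ := CfsgLib.Geom.exists_binary_eq h2 hz0 (neg_ne_zero.2 one_ne_zero) (G.det * z ^ (m - 1))
  let S : Fin m → Matrix (Fin 2) (Fin 2) F := fun j => if j = j₀ then !![s, t; t, s * z] else !![1, 0; 0, z]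
  obtain ⟨G₀, hG₀⟩ : ∃ G₀, G₀ = Matrix.reindexAlgEquiv F F ε (Matrix.blockDiagonal S) := ⟨_, rfl⟩
  have hS : ∀ j, (S j)ᵀ = S j ∧ Jᵀ * S j * J = z • S j := fun j => by
    simp only [S, hJ]
    split_ifs <;> constructor <;> ext a b <;> fin_cases a <;> fin_cases b <;>
      simp [Matrix.mul_apply, Fin.sum_univ_two, Matrix.transpose_apply] <;> ring
  have hdet : G₀.det = (G.det * z ^ (m - 1)) * z ^ (m - 1) := by
    rw [hG₀, Matrix.reindexAlgEquiv_apply, Matrix.det_reindex_self, Matrix.det_blockDiagonal,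
      ← Finset.mul_prod_erase _ _ (Finset.mem_univ j₀), Finset.prod_congr rfl (g := fun _ => z) fun j hj => by
        simp only [S, if_neg (Finset.mem_erase.1 hj).1, Matrix.det_fin_two_of]; ring,
      Finset.prod_const, Finset.card_erase_of_mem (Finset.mem_univ _), Finset.card_univ, Fintype.card_fin]
    congr 1
    simp only [S, if_pos, Matrix.det_fin_two_of]
    linear_combination hst
  have hG₀t : G₀ᵀ = G₀ := by
    rw [hG₀, Matrix.reindexAlgEquiv_apply, Matrix.transpose_reindex, Matrix.blockDiagonal_transpose,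
      show (fun k => (S k)ᵀ) = S from funext fun j => (hS j).1]
  have hdetne : G.det ≠ 0 := ((Matrix.isUnit_iff_isUnit_det G).1 hGu).ne_zero
  have hG₀u : IsUnit G₀ := (Matrix.isUnit_iff_isUnit_det _).2 (IsUnit.mk0 _ (by
    rw [hdet]; exact mul_ne_zero (mul_ne_zero hdetne (pow_ne_zero _ hz0)) (pow_ne_zero _ hz0)))
  obtain ⟨P, hP⟩ := exists_congr_det h2 hGt hG₀t hGu hG₀u ⟨G.det * z ^ (m - 1), by rw [hdet]; ring⟩
  refine finish (σ := RingHom.id F) (a := 1) one_ne_zero (by rw [map_id', one_smul, hP]) hxh ⟨z, hz0, ?_⟩ fun c hc => ?_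
  · rw [map_id', hD, hG₀, Matrix.reindexAlgEquiv_apply, Matrix.transpose_reindex, ← Matrix.reindexAlgEquiv_apply F F,
      ← Matrix.reindexAlgEquiv_apply F F, ← map_mul, ← map_mul, ← map_smul, Matrix.blockDiagonal_transpose,
      ← Matrix.blockDiagonal_mul, ← Matrix.blockDiagonal_mul, ← Matrix.blockDiagonal_smul]
    congr 2
    exact funext fun j => (hS j).2
  · obtain ⟨u, v, huv⟩ := CfsgLib.Geom.exists_binary_eq h2 one_ne_zero (neg_ne_zero.2 hz0) c
    let K : Fin m → Matrix (Fin 2) (Fin 2) F := fun j => if j = j₀ then !![u, z * v; v, u] else 1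
    refine ⟨Matrix.reindexAlgEquiv F F ε (Matrix.blockDiagonal K), ?_, ?_⟩
    · rw [Matrix.reindexAlgEquiv_apply, Matrix.det_reindex_self, Matrix.det_blockDiagonal,
        Finset.prod_eq_single j₀ (fun j _ hj => by simp [K, hj]) (by simp)]
      simp only [K, if_pos, Matrix.det_fin_two_of]
      linear_combination huv
    · rw [hD, ← map_mul, ← map_mul, ← Matrix.blockDiagonal_mul, ← Matrix.blockDiagonal_mul]
      congr 2
      funext j
      simp only [K, hJ]
      split_ifs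
      · ext a b; fin_cases a <;> fin_cases b <;> simp [Matrix.mul_apply, Fin.sum_univ_two] <;> ring
      · rw [Matrix.one_mul, Matrix.mul_one]

end

/-- Elements of prime order of PSL_n(q), q odd, and the subgroups of orthogonal type. Here `T = PSL_n(F)` for a field `F` with `q` elements, `q` odd, `n ≥ 3`; `Q` is a non-degenerate quadratic form on `F^n` (of either type when `n` is even) and `H` is the subgroup of matrices of determinant 1 that preserve `Q` up to a scalar — a subgroup of type O^ε_n(q) (maximality is not assumed); Ω is the set of cosets of `H` in `T`, so an element of `T` of prime order `r` (a matrix `x` of determinant 1 with `x^r` scalar, `x` not scalar) fixes a point of Ω exactly when some conjugate of `x` by a matrix of determinant 1 preserves `Q` up to a scalar. Let `r` be a prime dividing the index of `H`, with `(n, r) ≠ (6, 3)`. Then every element of `T` of order `r` fixes a point of Ω if and only if `r = 2`, or `r ∈ {3, 5}`,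 `n = r` and `(q − 1)_r = r` (the `r`-part of `q − 1` is exactly `r`). The case `(n, r) = (6, 3)` is not covered by this statement. -/
theorem result {F : Type*} [Field F] [Fintype F] {p : ℕ} [Fact p.Prime] [CharP F p] {q : ℕ} (hq : Fintype.card F = q)
    (hodd : Odd q) (n : ℕ) (hn : 3 ≤ n) (Q : (Fin n → F) → F) (hQ : Cfsg.Geo.IsNondegenerateQuadraticForm Q)
    (r : ℕ) [Fact r.Prime] (hgap : ¬ (n = 6 ∧ r = 3))
    (hΩ : r ∣ (Cfsg.Geo.quadSimilarityGroup Q).relIndex (Cfsg.Geo.specialLinear (Fin n) F)) :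
    (∀ x ∈ Cfsg.Geo.specialLinear (Fin n) F, (∃ z : F, ((x ^ r : GL (Fin n) F) : Matrix (Fin n) (Fin n) F) = z • (1 : Matrix (Fin n) (Fin n) F)) →
      (∀ z : F, (x : Matrix (Fin n) (Fin n) F) ≠ z • (1 : Matrix (Fin n) (Fin n) F)) →
      ∃ g ∈ Cfsg.Geo.specialLinear (Fin n) F, g⁻¹ * x * g ∈ Cfsg.Geo.quadSimilarityGroup Q) ↔
    (r = 2 ∨ ((r = 3 ∨ r = 5) ∧ n = r ∧ padicValNat r (q - 1) = 1)) := by
  classical
  subst hq
  have hp : p.Prime := Fact.out
  have h2 : (2 : F) ≠ 0 := fun h => (Nat.not_even_iff_odd.2 hodd) (Nat.even_iff.2 (FiniteField.even_card_of_char_two (by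
    haveI := (CharP.charP_iff_prime_eq_zero Nat.prime_two).2 (by exact_mod_cast h : ((2 : ℕ) : F) = 0)
    exact ringChar.eq F 2)))
  obtain ⟨Q₀, hQQ⟩ : ∃ Q₀ : QuadraticForm F (Fin n → F), ∀ v, Q₀ v = Q v :=
    ⟨QuadraticMap.ofPolar Q (fun c v => by rw [hQ.smul, sq, smul_eq_mul]) hQ.polar_bilinear.add_left
      (fun c x y => by rw [hQ.polar_bilinear.smul_left, smul_eq_mul]), fun v => rfl⟩
  have hpol : ∀ u v, polar Q₀ u v = polar Q u v := fun u v => by simp only [polar, hQQ]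
  have hself : ∀ v, polar Q v v = 2 * Q v := fun v => by
    rw [← hpol, QuadraticMap.polar_self, hQQ, nsmul_eq_mul, Nat.cast_ofNat]
  obtain ⟨G, hGdef⟩ : ∃ G, G = Cfsg.Geo.gramMatrix (polar Q) := ⟨_, rfl⟩
  have hGv : ∀ u v, polar Q u v = u ⬝ᵥ (G *ᵥ v) := hGdef ▸ Aschbacher.OrthForms.gram_apply (τ := RingHom.id F)
    hQ.polar_bilinear.add_left hQ.polar_bilinear.smul_left hQ.polar_bilinear.add_right hQ.polar_bilinear.smul_right
  have hG : IsUnit G := hGdef ▸ Aschbacher.OrthForms.gram_isUnit (τ := RingHom.id F) hQ.polar_bilinear.add_left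
    hQ.polar_bilinear.smul_left hQ.polar_bilinear.add_right hQ.polar_bilinear.smul_right hQ.nondegenerate
  have hGt : Gᵀ = G := by
    subst hGdef; ext k l
    exact QuadraticMap.polar_comm _ _ _
  have hsep : ∀ x, (∀ y, polar Q₀ x y = 0) → x = 0 := fun x hx => by
    have hzero : G *ᵥ x = 0 := funext fun k => by
      have := hx (Pi.single k 1)
      rw [QuadraticMap.polar_comm, hpol, hGv, single_one_dotProduct] at this
      exact this
    exact Matrix.mulVec_injective_iff_isUnit.2 hG (hzero.trans (Matrix.mulVec_zero G).symm)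
  have hmem := mem_sim h2 hself hGv
  have hSL : ∀ x : GL (Fin n) F, x ∈ Cfsg.Geo.specialLinear (Fin n) F ↔
      (x : Matrix (Fin n) (Fin n) F).det = 1 :=
    fun x => ⟨fun h => congrArg Units.val (h : Matrix.GeneralLinearGroup.det x = 1), fun h => Units.ext h⟩
  have hrpr : r.Prime := Fact.out
  haveI : Nonempty (Fin n) := ⟨⟨0, by omega⟩⟩
  constructor
  · intro hall
    have hall' : ∀ x : GL (Fin n) F, (x : Matrix (Fin n) (Fin n) F).det = 1 →
        (∃ z : F, (x : Matrix (Fin n) (Fin n) F) ^ r = z • 1) → (∀ z : F, (x : Matrix (Fin n) (Fin n) F) ≠ z • 1) →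
        ∃ h : GL (Fin n) F, Sim (RingHom.id F) G ((h⁻¹ * x * h : GL (Fin n) F) : Matrix (Fin n) (Fin n) F) :=
      fun x hx ⟨z, hz⟩ hns => by
        obtain ⟨g, -, hg⟩ := hall x ((hSL x).2 hx) ⟨z, by rw [Units.val_pow_eq_pow_val]; exact hz⟩ hns
        exact ⟨g, (hmem _).1 hg⟩
    by_cases hr2 : r = 2
    · exact Or.inl hr2
    refine Or.inr ?_
    have hrp : r ≠ p := by
      rintro rfl
      obtain ⟨u₀, u₁, hu⟩ : ∃ u₀ u₁ : Fin n, u₀ ≠ u₁ := ⟨⟨0, by omega⟩, ⟨1, by omega⟩, by simp⟩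
      obtain ⟨x, hx⟩ := exists_gl (M := Matrix.transvection u₀ u₁ (1 : F))
        (by rw [Matrix.det_transvection_of_ne u₀ u₁ hu]; exact one_ne_zero)
      have hxr : (x : Matrix (Fin n) (Fin n) F) ^ r = 1 := by
        have hk : ∀ k : ℕ, (Matrix.transvection u₀ u₁ (1 : F)) ^ k = Matrix.transvection u₀ u₁ (k : F) := by
          intro k
          induction k with
          | zero => simp [Matrix.transvection_zero]
          | succ k ih => rw [pow_succ, ih, Matrix.transvection_mul_transvection_same _ _ hu, Nat.cast_succ]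
        rw [hx, hk, CharP.cast_eq_zero, Matrix.transvection_zero]
      obtain ⟨h, μ, hμ0, hμ⟩ := hall' x (by rw [hx, Matrix.det_transvection_of_ne u₀ u₁ hu]) ⟨1, by rw [hxr, one_smul]⟩
        fun z hz => by
          have := congrFun (congrFun (hx.symm.trans hz) u₀) u₁
          simp [Matrix.transvection, hu] at this
      rw [map_id'] at hμ
      have hyr : ((h⁻¹ * x * h : GL (Fin n) F) : Matrix (Fin n) (Fin n) F) ^ r = 1 := by
        rw [← Units.val_pow_eq_pow_val, show h⁻¹ * x * h = h⁻¹ * x * h⁻¹⁻¹ by rw [inv_inv], conj_pow,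
          show x ^ r = 1 from Units.ext (by rw [Units.val_pow_eq_pow_val, hxr, Units.val_one]), mul_one, mul_inv_cancel,
          Units.val_one]
      have hμ1 : μ = 1 := by
        have h' := pow_sim (σ := RingHom.id F) (M := ((h⁻¹ * x * h : GL (Fin n) F) : Matrix (Fin n) (Fin n) F)) (G := G)
          (μ := μ) (by rw [map_id']; exact hμ) r
        rw [hyr, map_id', Matrix.transpose_one, Matrix.one_mul, Matrix.mul_one] at h'
        have h1 : μ ^ r = 1 := smul_left_injective F hG.ne_zero (by simpa using h'.symm)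
        exact sub_eq_zero.1 (pow_eq_zero_iff (n := r) hrpr.ne_zero |>.1 (by rw [sub_pow_char, h1, one_pow, sub_self]))
      rw [hμ1, one_smul] at hμ
      obtain ⟨N, hN⟩ : ∃ N, N = ((h⁻¹ : GL (Fin n) F) : Matrix (Fin n) (Fin n) F) * Matrix.single u₀ u₁ (1 : F) *
          (h : Matrix (Fin n) (Fin n) F) := ⟨_, rfl⟩
      have hyN : ((h⁻¹ * x * h : GL (Fin n) F) : Matrix (Fin n) (Fin n) F) = 1 + N := by
        rw [Units.val_mul, Units.val_mul, hx, Matrix.transvection, Matrix.mul_add, Matrix.add_mul, Matrix.mul_one,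
          ← Units.val_mul, inv_mul_cancel, Units.val_one, hN]
      have e : (h : Matrix (Fin n) (Fin n) F) * ((h⁻¹ : GL (Fin n) F) : Matrix (Fin n) (Fin n) F) = 1 := by
        rw [← Units.val_mul, mul_inv_cancel, Units.val_one]
      refine no_transvection h2 hG hGt (N := N) ?_ (hyN ▸ hμ) ?_
      · rw [hN]
        calc _ = ((h⁻¹ : GL (Fin n) F) : Matrix (Fin n) (Fin n) F) * (Matrix.single u₀ u₁ (1 : F) *
            ((h : Matrix (Fin n) (Fin n) F) * ((h⁻¹ : GL (Fin n) F) : Matrix (Fin n) (Fin n) F)) *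
              Matrix.single u₀ u₁ (1 : F)) * (h : Matrix (Fin n) (Fin n) F) := by noncomm_ring
          _ = 0 := by rw [e, Matrix.mul_one, Matrix.single_mul_single_of_ne _ _ _ _ hu.symm, Matrix.mul_zero,
            Matrix.zero_mul]
      · rw [hN, Matrix.rank_mul_eq_left_of_isUnit_det _ _ (Matrix.isUnits_det_units h),
          Matrix.rank_mul_eq_right_of_isUnit_det _ _ (Matrix.isUnits_det_units h⁻¹),
          Matrix.single_eq_single_vecMulVec_single]
        refine le_antisymm (Matrix.rank_vecMulVec_le _ _) (Nat.one_le_iff_ne_zero.2 fun h => ?_)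
        have h' := Submodule.finrank_eq_zero.1 h
        have : (Matrix.vecMulVec (Pi.single u₀ (1 : F)) (Pi.single u₁ 1)).mulVecLin (Pi.single u₁ 1) ∈
            LinearMap.range (Matrix.vecMulVec (Pi.single u₀ (1 : F)) (Pi.single u₁ 1)).mulVecLin := ⟨_, rfl⟩
        rw [h', Submodule.mem_bot] at this
        simpa [Matrix.vecMulVec_apply] using congrFun this u₀
    have hrq : ¬ r ∣ Fintype.card F := fun h => hrp (by
      obtain ⟨k, -, hk⟩ := FiniteField.card F p
      exact (Nat.prime_dvd_prime_iff_eq hrpr hp).1 (hrpr.dvd_of_dvd_pow (hk ▸ h)))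
    have hcard := Fintype.one_lt_card (α := F)
    by_cases hq1 : r ∣ Fintype.card F - 1
    · obtain ⟨ω, hω⟩ := S5982.exists_primitive (F := F) (r := r) (k := 1) (by rwa [pow_one]) hrpr.ne_zero
      rw [pow_one] at hω
      obtain ⟨h35, hnr⟩ := forward_shape hn hG hrpr hr2 hgap hω rfl hall'
      refine ⟨h35, hnr, ?_⟩
      have h1 : 1 ≤ padicValNat r (Fintype.card F - 1) := (padicValNat_dvd_iff_le (by omega)).1 (by rwa [pow_one])
      by_contra hne
      obtain ⟨c, hc⟩ := S5982.exists_primitive (F := F) (r := r) (k := 2)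
        ((padicValNat_dvd_iff_le (by omega)).2 (by omega)) hrpr.ne_zero
      exact forward_sq hG hrpr hr2 hnr hc rfl hall'
    exfalso
    obtain ⟨i, hi⟩ : ∃ i, i = orderOf (Fintype.card F : ZMod r) := ⟨_, rfl⟩
    have hipos : 0 < i := hi ▸ SemiCriterion.order_pos (p := p) hrp
    have hi2 : 2 ≤ i := by
      by_contra h
      refine hq1 ?_
      rw [← ZMod.natCast_eq_zero_iff, Nat.cast_sub Fintype.card_pos, Nat.cast_one, sub_eq_zero]
      exact orderOf_eq_one_iff.1 (by omega)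
    by_cases hev : Even i
    · exact index_contra (p := p) hrpr hr2 hrp hi hi2 hev hn Q₀ hQQ hsep (fun u v => (hpol u v).trans (hGv u v)) h2 hG
        hΩ hall'
    have hin : i ≤ n := by
      have h : r ∣ Nat.card (GL (Fin n) F) := by
        refine hΩ.trans (Dvd.dvd.trans ?_ (Subgroup.card_subgroup_dvd_card (Cfsg.Geo.specialLinear (Fin n) F)))
        exact Subgroup.index_dvd_card _
      rw [card_gl] at h
      obtain ⟨k, hk', hk⟩ := (Nat.prime_iff.1 hrpr).exists_mem_finset_dvd ((hrpr.dvd_mul.1 h).resolve_left fun h => by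
        obtain ⟨k, -, hk⟩ := (Nat.prime_iff.1 hrpr).exists_mem_finset_dvd h
        exact hrq (hrpr.dvd_of_dvd_pow hk))
      rw [← ZMod.natCast_eq_zero_iff, Nat.cast_sub (Nat.one_le_pow _ _ Fintype.card_pos), sub_eq_zero, Nat.cast_pow,
        Nat.cast_one, ← orderOf_dvd_iff_pow_eq_one, ← hi] at hk
      have := Nat.le_of_dvd (by omega) hk
      have := Finset.mem_range.1 hk'
      omega
    obtain ⟨x, hx, hxr, hxk⟩ := KronFix.exists_block (F := F) (ι := Fin n) (r := r) hrp hi hi2 (by simpa using hin)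
    obtain ⟨h, hh⟩ := hall' x hx ⟨1, by rw [← Units.val_pow_eq_pow_val, hxr, Units.val_one, one_smul]⟩ fun z hz => by
      rw [hz, show z • (1 : Matrix (Fin n) (Fin n) F) - 1 = (z - 1) • (1 : Matrix (Fin n) (Fin n) F) by
        rw [sub_smul, one_smul]] at hxk
      by_cases hz1 : z - 1 = 0
      · rw [hz1, zero_smul, Matrix.rank_zero] at hxk; omega
      · have hzr : z ^ r = 1 := by
          have h := congrArg (fun y : GL (Fin n) F => (y : Matrix (Fin n) (Fin n) F) ⟨0, by omega⟩ ⟨0, by omega⟩) hxr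
          simpa [Units.val_pow_eq_pow_val, hz, _root_.smul_pow] using h
        have hz0 : z ≠ 0 := fun h => by rw [h, zero_pow hrpr.ne_zero] at hzr; exact zero_ne_one hzr
        have h2 := pow_gcd_eq_one.2 ⟨hzr, FiniteField.pow_card_sub_one_eq_one z hz0⟩
        rw [((Nat.Prime.coprime_iff_not_dvd hrpr).2 hq1).gcd_eq_one, pow_one] at h2
        exact hz1 (sub_eq_zero.2 h2)
    have hrank := KronFix.rank_conj x h (1 : F)
    rw [one_smul, one_smul, hxk] at hrank
    haveI : Fact r.Prime := ⟨hrpr⟩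
    have := le_rank_sim (p := p) (e := 0) (σ := RingHom.id F) hrpr hr2 hrp hq1 (fun a => rfl) (fun a => by simp)
      (fun hsd => hev ((IsoOrth.sd_iff hi hr2 hipos).1 hsd)) hG (by rw [map_id', hGt]) hh
      (by rw [← Units.val_pow_eq_pow_val, show h⁻¹ * x * h = h⁻¹ * x * h⁻¹⁻¹ by rw [inv_inv], conj_pow, hxr, mul_one,
        mul_inv_cancel, Units.val_one])
      (fun h1 => by rw [h1, sub_self, Matrix.rank_zero] at hrank; omega)
    omega
  · intro hcond x hx ⟨z, hz⟩ hns
    rw [Units.val_pow_eq_pow_val] at hz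
    rw [hSL] at hx
    suffices ∃ g : GL (Fin n) F, (g : Matrix (Fin n) (Fin n) F).det = 1 ∧
        Sim (RingHom.id F) G ((g⁻¹ * x * g : GL (Fin n) F) : Matrix (Fin n) (Fin n) F) by
      obtain ⟨g, hg, hs⟩ := this
      exact ⟨g, (hSL g).2 hg, (hmem _).2 hs⟩
    rcases hcond with rfl | ⟨h35, hnr, hν⟩
    · by_cases hsq : IsSquare z
      · obtain ⟨c, hc'⟩ := hsq
        have hz0 : z ≠ 0 := fun h => by
          have := congrArg Matrix.det hz
          rw [Matrix.det_pow, hx, one_pow, h, zero_smul, Matrix.det_zero] at this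
          exact one_ne_zero this
        have hc0 : c ≠ 0 := fun h => hz0 (by rw [hc', h, mul_zero])
        have hω : IsPrimitiveRoot (-1 : F) 2 := by
          refine IsPrimitiveRoot.mk_of_lt _ two_pos (by ring) fun l hl0 hl2 => ?_
          obtain rfl : l = 1 := by omega
          rw [pow_one]
          exact fun h => h2 (by linear_combination -h)
        obtain ⟨h, k, hk⟩ := exists_diag two_pos (by exact_mod_cast h2) hω (x := c⁻¹ • (x : Matrix (Fin n) (Fin n) F))
          (by rw [sq, Matrix.smul_mul, Matrix.mul_smul, smul_smul, ← sq (x : Matrix (Fin n) (Fin n) F), hz, smul_smul,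
            hc', ← mul_inv, inv_mul_cancel₀ (mul_ne_zero hc0 hc0), one_smul])
        obtain ⟨d, hd⟩ : ∃ d : Fin n → F, d = fun u => c * (-1) ^ k u := ⟨_, rfl⟩
        have hdd : ∀ u, d u * d u = c * c := fun u => by
          rw [hd]; dsimp only
          rw [mul_mul_mul_comm, ← mul_pow, neg_one_mul, neg_neg, one_pow, mul_one]
        obtain ⟨D, hD⟩ := exists_gl (M := Matrix.diagonal d) (by
          rw [Matrix.det_diagonal]
          exact Finset.prod_ne_zero_iff.2 fun u _ h => mul_ne_zero hc0 hc0 (by rw [← hdd u, h, mul_zero]))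
        obtain ⟨j₀, hj₀⟩ : ∃ j₀ : Fin n, j₀ = ⟨0, by omega⟩ := ⟨_, rfl⟩
        have hdetne : G.det ≠ 0 := ((Matrix.isUnit_iff_isUnit_det G).1 hG).ne_zero
        obtain ⟨P, hP⟩ := exists_congr_det h2 hGt (G₀ := Matrix.diagonal fun j => if j = j₀ then G.det else 1)
          (Matrix.diagonal_transpose _) hG ((Matrix.isUnit_iff_isUnit_det _).2 (by
            rw [diag_det]; exact IsUnit.mk0 _ hdetne)) ⟨G.det, by rw [diag_det]⟩
        refine finish (σ := RingHom.id F) (h := h) (D := D) (a := 1) one_ne_zero (by rw [map_id', one_smul, hP]) ?_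
          ⟨c * c, mul_ne_zero hc0 hc0, ?_⟩ fun t ht => ⟨_, diag_det j₀ t, ?_⟩
        · rw [hD, show (x : Matrix (Fin n) (Fin n) F) = c • (c⁻¹ • (x : Matrix (Fin n) (Fin n) F)) by
              rw [smul_smul, mul_inv_cancel₀ hc0, one_smul], Matrix.smul_mul, hk, ← Matrix.mul_smul,
            ← Matrix.diagonal_smul, hd]
          rfl
        · rw [map_id', hD, Matrix.diagonal_transpose, Matrix.diagonal_mul_diagonal, Matrix.diagonal_mul_diagonal,
            ← Matrix.diagonal_smul]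
          congr 1; funext u
          rw [Pi.smul_apply, smul_eq_mul, mul_right_comm, hdd]
        · rw [hD, Matrix.diagonal_mul_diagonal, Matrix.diagonal_mul_diagonal]
          exact congrArg _ (funext fun u => mul_comm _ _)
      · exact two_nonsquare h2 (by omega) hGt hG hx hz hsq
    · have hcard := Fintype.one_lt_card (α := F)
      have hr0 : r ∣ Fintype.card F - 1 := by
        simpa using (padicValNat_dvd_iff_le (p := r) (n := 1) (show Fintype.card F - 1 ≠ 0 by omega)).2 hν.ge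
      obtain ⟨ω, hω⟩ := S5982.exists_primitive (F := F) (r := r) (k := 1) (by rwa [pow_one]) hrpr.ne_zero
      rw [pow_one] at hω
      have hsq : ¬ r ^ 2 ∣ Fintype.card F - 1 := fun h => by
        have := (padicValNat_dvd_iff_le (p := r) (n := 2) (show Fintype.card F - 1 ≠ 0 by omega)).1 h
        omega
      have hrF : (r : F) ≠ 0 := fun h => by
        obtain ⟨k, -, hk⟩ := FiniteField.card F p
        have h1 : r ∣ Fintype.card F := by
          rw [← (Nat.prime_dvd_prime_iff_eq hp hrpr).1 ((CharP.cast_eq_zero_iff F p r).1 h), hk]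
          exact dvd_pow_self p k.ne_zero
        have h3 := Nat.dvd_sub h1 hr0
        rw [show Fintype.card F - (Fintype.card F - 1) = 1 by omega, Nat.dvd_one] at h3
        exact hrpr.one_lt.ne' h3
      obtain ⟨h, D, π, hπ, hxh, hD, hk⟩ := exists_small h35 hnr hrF hω (RingHom.id F) rfl hsq hx hz
      obtain ⟨a, ha, P, hP⟩ := Aschbacher.Orth.exists_congr_scalar h2
        (by rw [Fintype.card_fin]; rcases h35 with h | h <;> subst h <;> subst hnr <;> decide)
        (pm_transpose (F := F) hπ) hGt (pm_isUnit hπ) hG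
      exact finish ha (by rw [map_id', hP]) hxh hD hk

end Cfsg.Agent.S5981
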