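import Cfsg.Statements.S5984
import Cfsg.Agent.Lib.MaxSub.HermPair
import Cfsg.Agent.S5953
import Cfsg.Agent.Lib.MaxSub.FixExact
-- import your own Cfsg.Agent.* helpers here

set_option autoImplicit false
open scoped MatrixGroups
open Cfsg

namespace Cfsg.Agent.S5984

open CfsgLib CfsgLib.MaxSub CfsgLib.MaxSub.IsoSemi CfsgLib.Classical Polynomial Matrix
open CfsgLib.MaxSub.HermPair (Pair)

section

universe u
variable {F : Type u} [Field F] [Fintype F] {q n : ℕ} (hF : Fintype.card F = q ^ 2)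
  (D : Fin 2 → Submodule F (Fin n → F))

local notation "𝕍" => Fin n → F

/-- The scaled operator minus the identity. -/
noncomputable def mv (ζ : F) (x : GL (Fin n) F) : Module.End F (Fin n → F) := ζ • (glLin x).toLinearMap - 1

theorem mv_apply (ζ : F) (x : GL (Fin n) F) (v : 𝕍) : mv ζ x v = ζ • glLin x v - v := rfl

theorem finrank_mv_conj (ζ : F) (x g : GL (Fin n) F) :
    Module.finrank F ↥(LinearMap.range (mv ζ (g⁻¹ * x * g))) = Module.finrank F ↥(LinearMap.range (mv ζ x)) := by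
  have h : ∀ v, mv ζ (g⁻¹ * x * g) v = glLin g⁻¹ (mv ζ x (glLin g v)) := fun v => by
    rw [mv_apply, mv_apply, map_mul, map_mul, LinearEquiv.mul_apply, LinearEquiv.mul_apply, map_sub, map_smul,
      map_inv (glLin (ι := Fin n) (F := F)) g,
      show (glLin g)⁻¹ (glLin g v) = v from (glLin g).symm_apply_apply v]
  have : LinearMap.range (mv ζ (g⁻¹ * x * g)) = (LinearMap.range (mv ζ x)).map (glLin g⁻¹).toLinearMap := by
    refine le_antisymm ?_ ?_
    · rintro _ ⟨v, rfl⟩
      exact ⟨_, ⟨glLin g v, rfl⟩, (h v).symm⟩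
    · rintro _ ⟨_, ⟨v, rfl⟩, rfl⟩
      obtain ⟨w, rfl⟩ := (glLin g).surjective v
      exact ⟨w, h w⟩
  rw [this, LinearEquiv.finrank_map_eq]

/-- The elements fixing both members. -/
def pairFix : Subgroup (GL (Fin n) F) where
  carrier := {g | ∀ i, (D i).map (Matrix.toLin' (g : Matrix (Fin n) (Fin n) F)) = D i}
  mul_mem' {a b} ha hb i := by rw [Units.val_mul, Matrix.toLin'_mul, Submodule.map_comp, hb, ha]
  one_mem' i := by simp
  inv_mem' {a} ha i := by
    conv_lhs => rw [← ha i, ← Submodule.map_comp, ← Matrix.toLin'_mul, ← Units.val_mul, inv_mul_cancel, Units.val_one,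
      Matrix.toLin'_one, Submodule.map_id]

theorem toLin'_eq (g : GL (Fin n) F) : Matrix.toLin' (g : Matrix (Fin n) (Fin n) F) = (glLin g).toLinearMap :=
  LinearMap.ext fun v => by rw [Matrix.toLin'_apply, LinearEquiv.coe_coe, glLin_apply]

theorem map_eq_of_le {g : GL (Fin n) F} {A A' : Submodule F 𝕍} (hd : Module.finrank F A = Module.finrank F A')
    (h : ∀ v ∈ A, glLin g v ∈ A') : A.map (Matrix.toLin' (g : Matrix (Fin n) (Fin n) F)) = A' := by
  rw [toLin'_eq]
  refine Submodule.eq_of_le_of_finrank_le ?_ ?_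
  · rintro _ ⟨v, hv, rfl⟩; exact h v hv
  · rw [LinearEquiv.finrank_map_eq, hd]

theorem mem_stab_iff {y : GL (Fin n) F} : y ∈ Cfsg.Geo.decompositionStabilizer D ↔ y ∈ pairFix D ∨
    ((D 0).map (Matrix.toLin' (y : Matrix (Fin n) (Fin n) F)) = D 1 ∧
      (D 1).map (Matrix.toLin' (y : Matrix (Fin n) (Fin n) F)) = D 0) := by
  constructor
  · rintro ⟨σ, hσ⟩
    have h0 := hσ 0
    have h1 := hσ 1
    have hne : σ 0 ≠ σ 1 := σ.injective.ne (by decide)
    rcases (by omega : σ 0 = 0 ∨ σ 0 = 1) with e | e <;> rw [e] at h0 hne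
    · rw [show σ 1 = 1 by omega] at h1
      exact Or.inl fun i => by fin_cases i <;> assumption
    · rw [show σ 1 = 0 by omega] at h1
      exact Or.inr ⟨h0, h1⟩
  · rintro (h | ⟨h0, h1⟩)
    · exact ⟨1, h⟩
    · exact ⟨Equiv.swap 0 1, fun i => by fin_cases i <;> assumption⟩

/-- Stabilising elements of odd order fix both members. -/
theorem fix_of_odd (hne : D 0 ≠ D 1) {y : GL (Fin n) F} {r : ℕ} (hr : Odd r) (hy : y ∈ Cfsg.Geo.decompositionStabilizer D)
    (hyr : y ^ r = 1) : y ∈ pairFix D := by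
  refine ((mem_stab_iff D).1 hy).resolve_right fun ⟨h0, h1⟩ => ?_
  have h : ∀ k, (D 0).map (Matrix.toLin' ((y ^ (2 * k) : GL (Fin n) F) : Matrix (Fin n) (Fin n) F)) = D 0 := by
    intro k
    induction k with
    | zero => simp
    | succ k ih => rw [mul_add, mul_one, pow_add, pow_two, Units.val_mul, Units.val_mul, Matrix.toLin'_mul,
        Submodule.map_comp, Matrix.toLin'_mul, Submodule.map_comp, h0, h1, ih]
  obtain ⟨k, rfl⟩ := hr
  have he : D 0 = D 1 := by
    rw [← h0, ← h k, ← Submodule.map_comp, ← Matrix.toLin'_mul, ← Units.val_mul, h k, ← pow_succ', hyr,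
      Units.val_one, Matrix.toLin'_one, Submodule.map_id]
  exact hne he

include hF in
theorem iso_of_mem {x : GL (Fin n) F} (hx : x ∈ Cfsg.GU n F q) (u v : 𝕍) :
    hermB hF n (glLin x u) (glLin x v) = hermB hF n u v := by
  rw [glLin_apply, glLin_apply]; exact S5953.gu_iso hF hx u v

include hF in
theorem mem_of_iso {x : GL (Fin n) F} (h : ∀ u v, hermB hF n (glLin x u) (glLin x v) = hermB hF n u v) :
    x ∈ Cfsg.GU n F q := fun u v => by
  have := h v u
  rw [glLin_apply, glLin_apply, hermB_apply, hermB_apply] at this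
  exact this

include hF in
theorem det_norm {x : GL (Fin n) F} (hx : x ∈ Cfsg.GU n F q) : (x : Matrix (Fin n) (Fin n) F).det ^ (q + 1) = 1 := by
  have h := congrArg Matrix.det ((SemiUnitary.mem_gu_iff hF x).1 hx)
  rw [Matrix.det_mul, Matrix.det_transpose, Matrix.det_one] at h
  rw [← RingHom.mapMatrix_apply, ← RingHom.map_det, qFrob_apply] at h
  rw [pow_succ]
  linear_combination h

variable {D} {m : ℕ} (hP : Pair (hermB hF n) m (D 0) (D 1))
include hP

/-- An element fixing both members has even moving dimension. -/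
theorem even_mv {y : GL (Fin n) F} (hy : y ∈ Cfsg.GU n F q) (hyf : y ∈ pairFix D) {ζ : F} (hζ : ζ ^ (q + 1) = 1) :
    Even (Module.finrank F ↥(LinearMap.range (mv ζ y))) := by
  have hζ0 : ζ ≠ 0 := fun h => by rw [h] at hζ; simp at hζ
  obtain ⟨Y, hY⟩ : ∃ Y : 𝕍 ≃ₗ[F] 𝕍, ∀ v, Y v = ζ • glLin y v :=
    ⟨(glLin y).trans (LinearEquiv.smulOfNeZero F _ ζ hζ0), fun v => rfl⟩
  have hmap : ∀ i, (D i).map (Y : 𝕍 →ₗ[F] 𝕍) = D i := fun i => by
    refine Submodule.eq_of_le_of_finrank_le ?_ (by rw [LinearEquiv.finrank_map_eq])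
    rintro _ ⟨v, hv, rfl⟩
    rw [LinearEquiv.coe_coe, hY]
    refine (D i).smul_mem _ ?_
    have := hyf i
    rw [toLin'_eq] at this
    exact this.le ⟨v, hv, rfl⟩
  have h := HermPair.even_mov (IsoHerm.geom hF n) hP (y := Y) (fun u v => by
    simp only [hY, LinearMap.map_smulₛₗ, LinearMap.smul_apply, map_smul, iso_of_mem hF hy, smul_eq_mul,
      qFrob_apply, RingHom.id_apply]
    linear_combination (hermB hF n u v) * hζ) (hmap 0) (hmap 1)
  rwa [show ((Y : Module.End F 𝕍) - 1) = mv ζ y from LinearMap.ext fun v => by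
    show Y v - v = _; rw [hY, mv_apply]] at h

/-- A moving space of dimension one excludes fixed points. -/
theorem no_rank_one (hm : 2 ≤ m) {x g : GL (Fin n) F} (hx : x ∈ Cfsg.GU n F q) (hg : g ∈ Cfsg.GU n F q) {ζ : F}
    (hζ : ζ ^ (q + 1) = 1) (h1 : Module.finrank F ↥(LinearMap.range (mv ζ x)) = 1) :
    g⁻¹ * x * g ∉ Cfsg.Geo.decompositionStabilizer D := by
  intro hy
  have hyG : g⁻¹ * x * g ∈ Cfsg.GU n F q := mul_mem (mul_mem (inv_mem hg) hx) hg
  rw [← finrank_mv_conj ζ x g] at h1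
  obtain ⟨y, hydef⟩ : ∃ y, y = g⁻¹ * x * g := ⟨_, rfl⟩
  rw [← hydef] at hy hyG h1
  rcases (mem_stab_iff D).1 hy with h | ⟨h0, -⟩
  · have := even_mv hF hP hyG h hζ
    rw [h1] at this
    exact Nat.not_even_one this
  · have hinj : Function.Injective ((mv ζ y).comp (D 0).subtype) := (injective_iff_map_eq_zero _).2 fun v hv => by
      have h2 : ζ • glLin y (v : 𝕍) = v := sub_eq_zero.1 hv
      have h3 : glLin y (v : 𝕍) ∈ D 1 := by rw [← h0, toLin'_eq]; exact ⟨v, v.2, rfl⟩
      have h4 : (v : 𝕍) ∈ D 0 ⊓ D 1 := ⟨v.2, h2 ▸ (D 1).smul_mem ζ h3⟩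
      rw [hP.compl.inf_eq_bot] at h4
      exact Subtype.ext h4
    have h2 := LinearMap.finrank_range_of_inj hinj
    have h3 := Submodule.finrank_mono (LinearMap.range_comp_le_range (D 0).subtype (mv ζ y))
    rw [h1, h2, hP.dimD] at h3
    omega

/-- A group element carrying the pair to another one, of determinant one. -/
theorem exists_conj (hm : 0 < m) {E₀ E₁ : Submodule F 𝕍} (hE : Pair (hermB hF n) m E₀ E₁) :
    ∃ g ∈ Cfsg.GU n F q ⊓ Cfsg.Geo.specialLinear (Fin n) F,
      (∀ v ∈ D 0, glLin g v ∈ E₀) ∧ ∀ v ∈ D 1, glLin g v ∈ E₁ := by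
  obtain ⟨g₀, hg₀, hg₀D, hg₀E, -⟩ := HermPair.exists_isom (hermB_conj hF) (hermB_sep hF) hP hE
    (LinearEquiv.ofFinrankEq (D 0) E₀ (by rw [hP.dimD, hE.dimD]))
  obtain ⟨G₀, rfl⟩ := (glLin (ι := Fin n) (F := F)).surjective g₀
  obtain ⟨c, hc⟩ : ∃ c, c = (G₀ : Matrix (Fin n) (Fin n) F).det := ⟨_, rfl⟩
  have hc1 : c ^ (q + 1) = 1 := hc ▸ det_norm hF (mem_of_iso hF hg₀)
  have hc0 : c ≠ 0 := fun h => by rw [h] at hc1; simp at hc1
  obtain ⟨a, ha, hac⟩ : ∃ a : F, a ≠ 0 ∧ a ^ (q - 1) = c := by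
    obtain ⟨γ, hγ⟩ := IsCyclic.exists_generator (α := Fˣ)
    have ho : orderOf γ = (q - 1) * (q + 1) := by rw [orderOf_eq_card_of_forall_mem_zpowers hγ, units_card_sq hF]
    obtain ⟨k, hk⟩ := (mem_powers_iff_mem_zpowers (x := γ)).2 (hγ (Units.mk0 c hc0))
    have h1 : γ ^ (k * (q + 1)) = 1 := by
      rw [pow_mul, show γ ^ k = Units.mk0 c hc0 from hk]
      exact Units.ext (by rw [Units.val_pow_eq_pow_val, Units.val_mk0, hc1, Units.val_one])
    rw [← orderOf_dvd_iff_pow_eq_one, ho] at h1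
    obtain ⟨j, rfl⟩ := Nat.dvd_of_mul_dvd_mul_right (Nat.succ_pos q) h1
    refine ⟨((γ ^ j : Fˣ) : F), Units.ne_zero _, ?_⟩
    rw [← Units.val_pow_eq_pow_val, ← pow_mul, mul_comm, show γ ^ ((q - 1) * j) = Units.mk0 c hc0 from hk,
      Units.val_mk0]
  obtain ⟨h, hh, hhD, hhE, hhd⟩ := HermPair.exists_det (hermB_conj hF) (hermB_sep hF) hP hm ha
  obtain ⟨H, rfl⟩ := (glLin (ι := Fin n) (F := F)).surjective h
  refine ⟨G₀ * H, ⟨mul_mem (mem_of_iso hF hg₀) (mem_of_iso hF hh), ?_⟩, fun v hv => ?_, fun v hv => ?_⟩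
  · show Matrix.GeneralLinearGroup.det (G₀ * H) = 1
    refine Units.ext ?_
    rw [Matrix.GeneralLinearGroup.val_det_apply, Units.val_mul, Matrix.det_mul, Units.val_one, ← hc,
      ← LinearMap.det_toLin' (H : Matrix (Fin n) (Fin n) F), toLin'_eq, hhd, qFrob_apply]
    have hq2 := two_le_of_card_sq hF
    have haq : a ^ q = a ^ (q - 1) * a := by rw [← pow_succ, show q - 1 + 1 = q by omega]
    rw [haq, hac]
    field_simp
  · rw [map_mul, LinearEquiv.mul_apply, hg₀D ⟨_, hhD v hv⟩]; exact Subtype.mem _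
  · rw [map_mul, LinearEquiv.mul_apply]; exact hg₀E _ (hhE v hv)

/-- The index in terms of orders. -/
theorem index_dvd {r : ℕ} (hr : r.Prime) (hn : n = 2 * m)
    (hΩ : r ∣ (Cfsg.Geo.decompositionStabilizer D).relIndex (Cfsg.GU n F q ⊓ Cfsg.Geo.specialLinear (Fin n) F)) :
    r ∣ q ∨ ∃ j < m, r ∣ q ^ (2 * j + 1) + 1 := by
  classical
  obtain ⟨G, hG⟩ : ∃ G, G = Cfsg.GU n F q := ⟨_, rfl⟩
  obtain ⟨SL', hSL⟩ : ∃ SL', SL' = Cfsg.Geo.specialLinear (Fin n) F := ⟨_, rfl⟩
  obtain ⟨S, hS⟩ : ∃ S, S = pairFix D ⊓ G := ⟨_, rfl⟩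
  rw [← hG, ← hSL] at hΩ
  let δ : GL (Fin n) F →* Fˣ := Matrix.GeneralLinearGroup.det
  have hsplit : ∀ A : Subgroup (GL (Fin n) F), Nat.card A = Nat.card ↥(A ⊓ SL') * Nat.card ↥(A.map δ) := by
    intro A
    rw [← MonoidHom.domRestrict_range, ← Nat.card_congr (QuotientGroup.quotientKerEquivRange (δ.domRestrict A)).toEquiv,
      Subgroup.card_eq_card_quotient_mul_card_subgroup (δ.domRestrict A).ker, mul_comm]
    congr 1
    rw [show (δ.domRestrict A).ker = (A ⊓ SL').subgroupOf A by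
      rw [hSL]; ext ⟨g, hg⟩; exact ⟨fun h => ⟨hg, h⟩, fun h => h.2⟩]
    exact Nat.card_congr (Subgroup.subgroupOfEquivOfLe inf_le_left).toEquiv
  have hS1 : Nat.card S ∣ Nat.card ↥(Cfsg.Geo.decompositionStabilizer D ⊓ (G ⊓ SL')) * Nat.card ↥(G.map δ) := by
    rw [hsplit S]
    refine Nat.mul_dvd_mul (Subgroup.card_dvd_of_le ?_) (Subgroup.card_dvd_of_le (Subgroup.map_mono (hS ▸ inf_le_right)))
    rw [hS]
    exact fun g ⟨⟨h1, h2⟩, h3⟩ => ⟨(mem_stab_iff D).2 (Or.inl h1), h2, h3⟩
  have hG1 : r * Nat.card S ∣ Nat.card G := by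
    refine (Nat.mul_dvd_mul hΩ hS1).trans (dvd_of_eq ?_)
    rw [hsplit G, ← mul_assoc, ← Subgroup.inf_relIndex_right, Subgroup.relIndex,
      ← Nat.card_congr (Subgroup.subgroupOfEquivOfLe (inf_le_right :
        Cfsg.Geo.decompositionStabilizer D ⊓ (G ⊓ SL') ≤ G ⊓ SL')).toEquiv, mul_comm (Subgroup.index _),
      Subgroup.card_mul_index]
  have hmapD : ∀ g : ↥S, (D 0).map ((glLin g.1).toLinearMap) = D 0 := fun g => by
    rw [← toLin'_eq]
    exact (hS.le g.2).1 0
  let ψ : ↥S →* (D 0 ≃ₗ[F] D 0) := MonoidHom.mk' (fun g => LinearEquiv.ofSubmodules (glLin g.1) (D 0) (D 0) (hmapD g))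
    fun a b => LinearEquiv.ext fun v => Subtype.ext (by
      simp only [LinearEquiv.mul_apply, LinearEquiv.ofSubmodules_apply, Subgroup.coe_mul, map_mul])
  have hψ : Function.Surjective ψ := fun α => by
    obtain ⟨g, hg, hgD, hgE, -⟩ := HermPair.exists_isom (hermB_conj hF) (hermB_sep hF) hP hP α
    obtain ⟨g, rfl⟩ := (glLin (ι := Fin n) (F := F)).surjective g
    refine ⟨⟨g, hS ▸ ⟨fun i => map_eq_of_le rfl fun v hv => ?_, hG ▸ mem_of_iso hF hg⟩⟩,
      LinearEquiv.ext fun v => Subtype.ext (hgD v)⟩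
    fin_cases i
    · rw [show glLin g v = _ from hgD ⟨v, hv⟩]; exact Subtype.mem _
    · exact hgE v hv
  have hGL : Nat.card (GL (Fin m) F) ∣ Nat.card S := by
    let e := LinearEquiv.ofFinrankEq (Fin m → F) (D 0) (by rw [Module.finrank_fin_fun, hP.dimD])
    let E : ((Fin m → F) ≃ₗ[F] (Fin m → F)) ≃ (D 0 ≃ₗ[F] D 0) :=
      { toFun := fun a => e.symm.trans (a.trans e)
        invFun := fun a => e.trans (a.trans e.symm)
        left_inv := fun a => LinearEquiv.ext fun v => by simp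
        right_inv := fun a => LinearEquiv.ext fun v => by simp }
    rw [Nat.card_congr ((glLin (ι := Fin m) (F := F)).toEquiv.trans E)]
    exact Subgroup.card_dvd_of_surjective ψ hψ
  have hq2 := two_le_of_card_sq hF
  have h := (Nat.mul_dvd_mul_left r hGL).trans hG1
  rw [hG, card_gu hF, Matrix.card_GL_field, hF, hn] at h
  have hev : ∀ k, ∏ i ∈ Finset.range (2 * k), (if Even i then q ^ (i + 1) + 1 else q ^ (i + 1) - 1) =
      (∏ j ∈ Finset.range k, (q ^ (2 * j + 1) + 1)) * ∏ j ∈ Finset.range k, ((q ^ 2) ^ (j + 1) - 1) := by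
    intro k
    induction k with
    | zero => simp
    | succ k ih =>
      rw [mul_add, mul_one, Finset.prod_range_succ, Finset.prod_range_succ, ih, Finset.prod_range_succ,
        Finset.prod_range_succ, if_pos (even_two_mul k), if_neg (by simp), ← pow_mul, mul_add, mul_one]
      ring
  have hGL' : ∏ i : Fin m, ((q ^ 2) ^ m - (q ^ 2) ^ (i : ℕ)) =
      q ^ (2 * ∑ i ∈ Finset.range m, i) * ∏ j ∈ Finset.range m, ((q ^ 2) ^ (j + 1) - 1) := by
    rw [Fin.prod_univ_eq_prod_range (fun i => (q ^ 2) ^ m - (q ^ 2) ^ i), pow_mul, ← Finset.prod_pow_eq_pow_sum,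
      ← Finset.prod_range_reflect (fun j => (q ^ 2) ^ (j + 1) - 1) m, ← Finset.prod_mul_distrib]
    refine Finset.prod_congr rfl fun i hi => ?_
    rw [Finset.mem_range] at hi
    rw [Nat.mul_sub, mul_one, ← pow_add, show i + (m - 1 - i + 1) = m by omega]
  rw [hev, hGL', ← mul_assoc, ← mul_assoc] at h
  have hpos : 0 < ∏ j ∈ Finset.range m, ((q ^ 2) ^ (j + 1) - 1) := Finset.prod_pos fun j _ => by
    have := Nat.one_lt_pow (n := j + 1) (by omega) (show 1 < q ^ 2 by nlinarith)
    omega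
  rcases hr.dvd_mul.1 ((dvd_mul_right r _).trans (Nat.dvd_of_mul_dvd_mul_right hpos h)) with h | h
  · exact Or.inl (hr.dvd_of_dvd_pow h)
  · obtain ⟨j, hj, hjr⟩ := (Nat.prime_iff.1 hr).exists_mem_finset_dvd h
    exact Or.inr ⟨j, Finset.mem_range.1 hj, hjr⟩

omit hP in
include hF in
/-- A transvection. -/
theorem exists_transv {p : ℕ} [Fact p.Prime] [CharP F p] {v : 𝕍} (hv : v ≠ 0) (hvv : hermB hF n v v = 0) :
    ∃ x : GL (Fin n) F, x ∈ Cfsg.GU n F q ⊓ Cfsg.Geo.specialLinear (Fin n) F ∧ x ^ p = 1 ∧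
      Module.finrank F ↥(LinearMap.range (mv 1 x)) = 1 := by
  obtain ⟨t, ht⟩ : ∃ t, qFrob hF t ≠ t := by
    by_contra h
    push Not at h
    exact qFrob_ne_id hF (RingHom.ext h)
  obtain ⟨c, hc, hcc⟩ : ∃ c : F, c ≠ 0 ∧ c + qFrob hF c = 0 :=
    ⟨t - qFrob hF t, sub_ne_zero.2 (Ne.symm ht), by rw [map_sub, qFrob_qFrob]; ring⟩
  let T : Module.End F 𝕍 := 1 + c • (hermB hF n v).smulRight v
  have hT : ∀ z, T z = z + (c * hermB hF n v z) • v := fun z => by
    show z + c • (hermB hF n v z • v) = _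
    rw [smul_smul]
  have hj : ∀ (j : ℕ) z, (T ^ j) z = z + ((j : F) * (c * hermB hF n v z)) • v := by
    intro j
    induction j with
    | zero => intro z; simp
    | succ j ih =>
      intro z
      rw [pow_succ, Module.End.mul_apply, ih, hT, map_add, map_smul, hvv, smul_zero, add_zero, Nat.cast_succ,
        add_mul, one_mul, add_smul, add_assoc, add_comm (_ • v : 𝕍)]
  have hTp : T ^ p = 1 := LinearMap.ext fun z => by
    rw [hj, CharP.cast_eq_zero, zero_mul, zero_smul, add_zero]; rfl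
  have hp := (Fact.out : p.Prime).pos
  obtain ⟨x, hx⟩ : ∃ x : GL (Fin n) F, ∀ z, glLin x z = T z := by
    obtain ⟨x, hx⟩ := (glLin (ι := Fin n) (F := F)).surjective (LinearEquiv.ofLinear T (T ^ (p - 1))
      (show T * T ^ (p - 1) = 1 by rw [← pow_succ', Nat.sub_add_cancel hp, hTp])
      (show T ^ (p - 1) * T = 1 by rw [← pow_succ, Nat.sub_add_cancel hp, hTp]))
    exact ⟨x, fun z => by rw [hx]; rfl⟩
  have hxp : x ^ p = 1 := by
    have hpow : ∀ (k : ℕ) z, glLin (x ^ k) z = (T ^ k) z := by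
      intro k
      induction k with
      | zero => intro z; simp
      | succ k ih => intro z; rw [pow_succ', map_mul, LinearEquiv.mul_apply, ih, hx, pow_succ', Module.End.mul_apply]
    exact (glLin (ι := Fin n) (F := F)).injective (LinearEquiv.ext fun z => by rw [hpow, hTp, map_one]; rfl)
  refine ⟨x, ⟨mem_of_iso hF fun a b => ?_, ?_⟩, hxp, ?_⟩
  · rw [hx, hx, hT, hT]
    simp only [map_add, LinearMap.add_apply, LinearMap.map_smulₛₗ, LinearMap.smul_apply, map_smul, hvv, smul_eq_mul,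
      RingHom.id_apply, map_mul, hermB_conj]
    linear_combination (hermB hF n a v * hermB hF n v b) * hcc
  · show Matrix.GeneralLinearGroup.det x = 1
    refine Units.ext ?_
    have h1 := congrArg (fun y => ((Matrix.GeneralLinearGroup.det y : Fˣ) : F)) hxp
    simp only [map_pow, Units.val_pow_eq_pow_val, map_one, Units.val_one] at h1
    have h2 : (((Matrix.GeneralLinearGroup.det x : Fˣ) : F) - 1) ^ p = 0 := by rw [sub_pow_char, h1, one_pow, sub_self]
    exact sub_eq_zero.1 (pow_eq_zero_iff hp.ne' |>.1 h2)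
  · have : LinearMap.range (mv 1 x) = Submodule.span F {v} := by
      refine le_antisymm ?_ ?_
      · rintro _ ⟨z, rfl⟩
        rw [mv_apply, one_smul, hx, hT, add_sub_cancel_left]
        exact Submodule.smul_mem _ _ (Submodule.mem_span_singleton_self v)
      · rw [Submodule.span_singleton_le_iff_mem]
        obtain ⟨z, hz⟩ : ∃ z, hermB hF n v z ≠ 0 := by
          by_contra h
          push Not at h
          exact hv (hermB_sep hF v h)
        refine ⟨(c * hermB hF n v z)⁻¹ • z, ?_⟩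
        rw [map_smul, mv_apply, one_smul, hx, hT, add_sub_cancel_left, smul_smul,
          inv_mul_cancel₀ (mul_ne_zero hc hz), one_smul]
    rw [this, finrank_span_singleton hv]

end

/-- Elements of prime order of PSU_n(q) and the stabilizers of pairs of complementary totally singular subspaces. Here `T = PSU_n(q)` is realised through `SU_n(q)`, the matrices of determinant 1 over the field `F` with `q²` elements preserving the hermitian form `Σ uᵢ vᵢ^q`, with `n ≥ 4` even; `D` is a pair of complementary subspaces of dimension `n/2` on each of which the form vanishes identically, and `H` is the subgroup of `SU_n(q)` fixing or interchanging the two members — a subgroup of type GL_{n/2}(q²).2 (maximality is not assumed). Ω is the set of cosets of `H`, so an element of `T` of prime order `r` (`x ∈ SU_n(q)` with `x^r` scalar, `x` not scalar) fixes a point of Ω exactly when some `SU_n(q)`-conjugate of `x` lies in `H`. Let `r` be a prime dividing the index of `H`.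 Then every element of `T` of order `r` fixes a point of Ω if and only if `r = 2`, `q` is odd and `(q + 1)_2 ≤ (n)_2` (2-parts). -/
theorem result {F : Type*} [Field F] [Fintype F] {p : ℕ} [Fact p.Prime] [CharP F p] {q : ℕ} (hq : Fintype.card F = q ^ 2)
    (n : ℕ) (hn : 4 ≤ n) (he : Even n) (D : Fin 2 → Submodule F (Fin n → F)) (hD : Cfsg.Geo.IsMDecomposition (n / 2) D)
    (hDs : ∀ i, Cfsg.Geo.IsTotallySingularFor (Cfsg.hermForm n F q) (D i))
    (r : ℕ) [Fact r.Prime]
    (hΩ : r ∣ (Cfsg.Geo.decompositionStabilizer D).relIndex (Cfsg.GU n F q ⊓ Cfsg.Geo.specialLinear (Fin n) F)) :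
    (∀ x ∈ Cfsg.GU n F q ⊓ Cfsg.Geo.specialLinear (Fin n) F, (∃ z : F, ((x ^ r : GL (Fin n) F) : Matrix (Fin n) (Fin n) F) = z • (1 : Matrix (Fin n) (Fin n) F)) →
      (∀ z : F, (x : Matrix (Fin n) (Fin n) F) ≠ z • (1 : Matrix (Fin n) (Fin n) F)) →
      ∃ g ∈ Cfsg.GU n F q ⊓ Cfsg.Geo.specialLinear (Fin n) F, g⁻¹ * x * g ∈ Cfsg.Geo.decompositionStabilizer D) ↔
    (r = 2 ∧ Odd q ∧ padicValNat 2 (q + 1) ≤ padicValNat 2 n) := by
  classical
  obtain ⟨m, rfl⟩ : ∃ m, n = 2 * m := ⟨n / 2, by obtain ⟨k, rfl⟩ := he; omega⟩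
  rw [show 2 * m / 2 = m by omega] at hD
  have hr : r.Prime := Fact.out
  have hq2 := two_le_of_card_sq hq
  have hTI : ∀ W : Submodule F (Fin (2 * m) → F), Cfsg.Geo.IsTotallySingularFor (Cfsg.hermForm (2 * m) F q) W →
      TI (hermB hq (2 * m)) W := fun W h u hu v hv => by rw [hermB_apply]; exact h v hv u hu
  have htop : D 0 ⊔ D 1 = ⊤ := eq_top_iff.2 (hD.iSup_eq_top ▸ iSup_le fun i => by
    fin_cases i
    · exact le_sup_left
    · exact le_sup_right)
  have hP : Pair (hermB hq (2 * m)) m (D 0) (D 1) := by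
    refine ⟨hTI _ (hDs 0), hTI _ (hDs 1), hD.finrank_eq 0, hD.finrank_eq 1,
      disjoint_iff.2 (Submodule.finrank_eq_zero.1 ?_), codisjoint_iff.2 htop⟩
    have h := Submodule.finrank_sup_add_finrank_inf_eq (D 0) (D 1)
    rw [htop, finrank_top, Module.finrank_fin_fun, hD.finrank_eq, hD.finrank_eq] at h
    omega
  have hne : D 0 ≠ D 1 := fun h => by
    have := hP.compl.inf_eq_bot
    rw [h, inf_idem] at this
    have := hP.dimE
    rw [‹D 1 = ⊥›, finrank_bot] at this
    omega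
  obtain ⟨a, hqa⟩ := IsoHerm.exists_pow_of_card (p := p) (F := F) (q := q) (by rw [Nat.card_eq_fintype_card, hq])
  have hns : ∀ (x : GL (Fin (2 * m)) F) (ζ : F) (k : ℕ), Module.finrank F ↥(LinearMap.range (mv ζ x)) = k → 0 < k →
      k < 2 * m → ∀ z : F, (x : Matrix (Fin (2 * m)) (Fin (2 * m)) F) ≠ z • 1 := by
    intro x ζ k hk h0 hlt z hz
    have hmv : mv ζ x = (ζ * z - 1) • (1 : Module.End F (Fin (2 * m) → F)) := LinearMap.ext fun v => by
      rw [mv_apply, glLin_apply, hz, Matrix.smul_mulVec, Matrix.one_mulVec, LinearMap.smul_apply,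
        Module.End.one_apply, sub_smul, mul_smul, one_smul]
    by_cases hzero : ζ * z - 1 = 0
    · rw [hmv, hzero, zero_smul, LinearMap.range_zero, finrank_bot] at hk
      omega
    · rw [hmv, LinearMap.range_smul _ _ hzero, show LinearMap.range (1 : Module.End F (Fin (2 * m) → F)) = ⊤ from
        LinearMap.range_id, finrank_top, Module.finrank_fin_fun] at hk
      omega
  have hdiag : ∀ {d : Fin (2 * m) → F} {A : Matrix.SpecialLinearGroup (Fin (2 * m)) F} (ζ : F),
      (A : Matrix (Fin (2 * m)) (Fin (2 * m)) F) = Matrix.diagonal d →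
      Module.finrank F ↥(LinearMap.range (mv ζ (Matrix.SpecialLinearGroup.toGL A))) =
        Fintype.card {i // ζ * d i - 1 ≠ 0} := by
    intro d A ζ hA
    rw [← Matrix.rank_diagonal]
    refine congrArg (fun W : Submodule F (Fin (2 * m) → F) => Module.finrank F ↥W) (congrArg LinearMap.range ?_)
    refine LinearMap.ext fun v => funext fun i => ?_
    rw [mv_apply, glLin_apply, show ((Matrix.SpecialLinearGroup.toGL A : GL (Fin (2 * m)) F) :
      Matrix (Fin (2 * m)) (Fin (2 * m)) F) = Matrix.diagonal d from hA, Matrix.mulVecLin_apply]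
    simp only [Pi.sub_apply, Pi.smul_apply, Matrix.mulVec_diagonal, smul_eq_mul]
    ring
  have hmem : ∀ {A : Matrix.SpecialLinearGroup (Fin (2 * m)) F}, A ∈ Cfsg.SU (2 * m) F q →
      Matrix.SpecialLinearGroup.toGL A ∈ Cfsg.GU (2 * m) F q ⊓ Cfsg.Geo.specialLinear (Fin (2 * m)) F := fun {A} hA =>
    ⟨hA, show Matrix.GeneralLinearGroup.det (Matrix.SpecialLinearGroup.toGL A) = 1 from Units.ext A.2⟩
  obtain ⟨v, hv, hv0⟩ := (Submodule.ne_bot_iff (D 0)).1 (fun h => by
    have := hP.dimD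
    rw [h, finrank_bot] at this
    omega)
  obtain ⟨T, hT, hTp, hT1⟩ := exists_transv hq (p := p) hv0 (hP.tiD v hv v hv)
  constructor
  · intro hall
    by_cases hr2 : r = 2
    · subst hr2
      have hp2 : p ≠ 2 := fun hp2 => by
        subst hp2
        obtain ⟨g, hg, hfix⟩ := hall T hT ⟨1, by rw [hTp, Units.val_one, one_smul]⟩ (hns T 1 1 hT1 one_pos (by omega))
        exact no_rank_one hq hP (by omega) hT.1 hg.1 (one_pow _) hT1 hfix
      have hqodd : Odd q := hqa ▸ ((Fact.out : p.Prime).odd_of_ne_two hp2).pow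
      refine ⟨rfl, hqodd, ?_⟩
      by_contra hv'
      push Not at hv'
      obtain ⟨w, hw1, hwn⟩ := S5953.exists_pow_neg_one hq (n := 2 * m) hqodd (by omega) hv'
      obtain ⟨d, hd⟩ : ∃ d : Fin (2 * m) → F, d = fun j : Fin (2 * m) => if (j : ℕ) = 0 then -w else w := ⟨_, rfl⟩
      have hd1 : ∀ j, d j ^ (q + 1) = 1 := fun j => by
        rw [hd]; dsimp only
        split_ifs
        · rw [hqodd.add_one.neg_pow, hw1]
        · exact hw1
      have hprod : ∏ j, d j = 1 := by
        rw [← Finset.mul_prod_erase _ _ (Finset.mem_univ (⟨0, by omega⟩ : Fin (2 * m))),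
          Finset.prod_congr rfl (g := fun _ => w) fun j hj => by
            rw [hd]; dsimp only; rw [if_neg fun h => (Finset.mem_erase.1 hj).1 (Fin.ext h)],
          Finset.prod_const, Finset.card_erase_of_mem (Finset.mem_univ _), Finset.card_univ, Fintype.card_fin, hd]
        dsimp only
        rw [if_pos rfl, neg_mul, ← pow_succ', Nat.sub_add_cancel (by omega), hwn, neg_neg]
      obtain ⟨A, hA, hAd⟩ := S5953.diag_su (q := q) hd1 hprod
      have hw0 : w ≠ 0 := fun e => by rw [e] at hw1; simp at hw1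
      have h2 : (2 : F) ≠ 0 := fun h => hp2 ((Nat.prime_dvd_prime_iff_eq Fact.out Nat.prime_two).1
        ((CharP.cast_eq_zero_iff F p 2).1 (by exact_mod_cast h)))
      have hd0 : ∀ i : Fin (2 * m), w⁻¹ * d i - 1 ≠ 0 ↔ i = ⟨0, by omega⟩ := fun i => by
        rw [hd]; dsimp only
        by_cases hi : (i : ℕ) = 0
        · rw [if_pos hi]
          refine iff_of_true (fun h => h2 ?_) (Fin.ext hi)
          rw [mul_neg, inv_mul_cancel₀ hw0] at h
          linear_combination -h
        · rw [if_neg hi, inv_mul_cancel₀ hw0, sub_self]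
          exact iff_of_false (fun h => h rfl) fun e => hi (by rw [e])
      have h1 : Module.finrank F ↥(LinearMap.range (mv w⁻¹ (Matrix.SpecialLinearGroup.toGL A))) = 1 := by
        rw [hdiag _ hAd, Fintype.card_congr (Equiv.subtypeEquivRight hd0), Fintype.card_subtype_eq]
      obtain ⟨g, hg, hfix⟩ := hall _ (hmem hA) ⟨w * w, by
        rw [Units.val_pow_eq_pow_val, show ((Matrix.SpecialLinearGroup.toGL A : GL (Fin (2 * m)) F) :
          Matrix (Fin (2 * m)) (Fin (2 * m)) F) = Matrix.diagonal d from hAd, Matrix.diagonal_pow,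
          ← Matrix.diagonal_one, ← Matrix.diagonal_smul]
        congr 1
        funext j
        simp only [Pi.pow_apply, Pi.smul_apply, smul_eq_mul, mul_one, hd, sq]
        split_ifs <;> ring⟩ (hns _ _ 1 h1 one_pos (by omega))
      exact no_rank_one hq hP (by omega) (hmem hA).1 hg.1 (by rw [inv_pow, hw1, inv_one]) h1 hfix
    exfalso
    have hrodd := hr.odd_of_ne_two hr2
    have hcontra : ∀ x ∈ Cfsg.GU (2 * m) F q ⊓ Cfsg.Geo.specialLinear (Fin (2 * m)) F, x ^ r = 1 → ∀ ζ : F,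
        ζ ^ (q + 1) = 1 → ¬ Odd (Module.finrank F ↥(LinearMap.range (mv ζ x))) := by
      intro x hx hxr ζ hζ hodd
      obtain ⟨g, hg, hfix⟩ := hall x hx ⟨1, by rw [hxr, Units.val_one, one_smul]⟩
        (hns x ζ _ rfl hodd.pos (lt_of_le_of_ne (by
          have := (LinearMap.range (mv ζ x)).finrank_le
          rwa [Module.finrank_fin_fun] at this) fun e => by rw [e] at hodd; exact Nat.not_odd_iff_even.2 ⟨m, by omega⟩ hodd))
      have hyr : (g⁻¹ * x * g) ^ r = 1 := by
        rw [show g⁻¹ * x * g = g⁻¹ * x * g⁻¹⁻¹ by rw [inv_inv], conj_pow, hxr, mul_one, mul_inv_cancel]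
      have h := even_mv hq hP (mul_mem (mul_mem (inv_mem hg.1) hx.1) hg.1)
        (fix_of_odd D hne hrodd hfix hyr) hζ
      rw [finrank_mv_conj] at h
      exact Nat.not_even_iff_odd.2 hodd h
    by_cases hrp : r = p
    · subst hrp
      exact hcontra T hT hTp 1 (one_pow _) (hT1 ▸ odd_one)
    have hrq : ¬ r ∣ q := fun h => hrp ((Nat.prime_dvd_prime_iff_eq hr Fact.out).1 (hr.dvd_of_dvd_pow (hqa ▸ h)))
    obtain ⟨j, hj, hjr⟩ := (index_dvd hq hP hr rfl hΩ).resolve_left hrq
    obtain ⟨i, hi⟩ : ∃ i, i = orderOf (q : ZMod r) := ⟨_, rfl⟩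
    have hjr' : (q : ZMod r) ^ (2 * j + 1) = -1 := by
      rw [← ZMod.natCast_eq_zero_iff, Nat.cast_add, Nat.cast_pow, Nat.cast_one] at hjr
      linear_combination hjr
    have h2r : (2 : ZMod r) ≠ 0 := fun h => hr2 ((Nat.prime_dvd_prime_iff_eq hr Nat.prime_two).1
      ((ZMod.natCast_eq_zero_iff 2 r).1 (by exact_mod_cast h)))
    have hi2j : i ∣ 2 * (2 * j + 1) := hi ▸ orderOf_dvd_of_pow_eq_one (by rw [mul_comm, pow_mul, hjr', neg_one_sq])
    have hinj : ¬ i ∣ 2 * j + 1 := fun h => by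
      have h1 := orderOf_dvd_iff_pow_eq_one.1 (hi ▸ h)
      rw [hjr'] at h1
      exact h2r (by linear_combination -h1)
    have hipos : 0 < i := Nat.pos_of_ne_zero fun h => by rw [h] at hi2j; simp at hi2j
    have hev : Even i := by
      by_contra h
      exact hinj ((Nat.coprime_two_right.2 (Nat.not_even_iff_odd.1 h)).dvd_of_dvd_mul_left hi2j)
    obtain ⟨b, rfl⟩ := hev.two_dvd
    have hbdvd : b ∣ 2 * j + 1 := Nat.dvd_of_mul_dvd_mul_left two_pos hi2j
    have hbodd : Odd b := Odd.of_dvd_nat (odd_two_mul_add_one j) hbdvd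
    have hbn : b ≤ 2 * j + 1 := Nat.le_of_dvd (by omega) hbdvd
    have hrF : (r : F) ≠ 0 := SympOrderR.r_ne_zero (p := p) hr hrp
    by_cases hb1 : b = 1
    · subst hb1
      have hrq1 : r ∣ q + 1 := by
        rw [← ZMod.natCast_eq_zero_iff, Nat.cast_add, Nat.cast_one]
        have h1 : (q : ZMod r) ^ 2 = 1 := by rw [show 2 = 2 * 1 by rfl, hi, pow_orderOf_eq_one]
        have h2 : (q : ZMod r) ≠ 1 := fun h => hinj (by rw [hi, h, orderOf_one]; exact one_dvd _)
        rw [(sq_eq_one_iff.1 h1).resolve_left h2, neg_add_cancel]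
      obtain ⟨ω, hω⟩ : ∃ ω : F, IsPrimitiveRoot ω r := by
        obtain ⟨g, hg⟩ := IsCyclic.exists_generator (α := Fˣ)
        have ho : orderOf g = (q - 1) * (q + 1) := by
          rw [orderOf_eq_card_of_forall_mem_zpowers hg, units_card_sq hq]
        obtain ⟨t, ht⟩ := hrq1
        refine ⟨((g ^ ((q - 1) * t) : Fˣ) : F), IsPrimitiveRoot.coe_units_iff.2 ?_⟩
        have h := IsPrimitiveRoot.orderOf g
        rw [ho] at h
        exact h.pow (by rw [← ho]; exact orderOf_pos g) (by rw [ht]; ring)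
      have hωr := hω.pow_eq_one
      have hωq : ω ^ (q + 1) = 1 := by obtain ⟨t, ht⟩ := hrq1; rw [ht, pow_mul, hωr, one_pow]
      have hω0 : ω ≠ 0 := hω.ne_zero hr.ne_zero
      have hω1 : ω ≠ 1 := hω.ne_one hr.one_lt
      have hω2 : ω⁻¹ * ω⁻¹ ≠ 1 := fun h => by
        rw [← mul_inv, inv_eq_one, ← sq] at h
        have := Nat.le_of_dvd two_pos (hω.dvd_of_pow_eq_one 2 h)
        have := hr.two_le
        omega
      obtain ⟨d, hd⟩ : ∃ d : Fin (2 * m) → F, d = fun i : Fin (2 * m) =>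
          if i = ⟨0, by omega⟩ then ω else if i = ⟨1, by omega⟩ then ω⁻¹ else 1 := ⟨_, rfl⟩
      have hne01 : (⟨0, by omega⟩ : Fin (2 * m)) ≠ ⟨1, by omega⟩ := by simp
      obtain ⟨A, hA, hAd⟩ := S5953.diag_su (q := q) (d := d) (fun i => by
        rw [hd]; dsimp only; split_ifs <;> simp [inv_pow, hωq]) (by
        rw [Fintype.prod_eq_mul _ _ hne01 fun i hi => by rw [hd]; simp [hi.1, hi.2], hd]
        simp [hω0])
      have hd0 : ∀ i : Fin (2 * m), ω⁻¹ * d i - 1 ≠ 0 ↔ ¬ i = ⟨0, by omega⟩ := fun i => by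
        rw [hd]; dsimp only
        split_ifs with h0 h1
        · simp [hω0, h0]
        · exact iff_of_true (sub_ne_zero.2 hω2) h0
        · exact iff_of_true (sub_ne_zero.2 (by rw [mul_one, ne_eq, inv_eq_one]; exact hω1)) h0
      refine hcontra _ (hmem hA) ?_ ω⁻¹ (by rw [inv_pow, hωq, inv_one]) ?_
      · rw [← map_pow]
        refine Units.ext ?_
        show ((A ^ r : Matrix.SpecialLinearGroup (Fin (2 * m)) F) : Matrix (Fin (2 * m)) (Fin (2 * m)) F) = 1
        rw [Matrix.SpecialLinearGroup.coe_pow, hAd, Matrix.diagonal_pow, ← Matrix.diagonal_one]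
        congr 1
        funext i
        rw [Pi.pow_apply, hd]; dsimp only; split_ifs <;> simp [inv_pow, hωr]
      · rw [hdiag _ hAd, Fintype.card_congr (Equiv.subtypeEquivRight hd0), Fintype.card_subtype_compl,
          Fintype.card_subtype_eq, Fintype.card_fin]
        exact ⟨m - 1, by omega⟩
    have hq0 : (q : ZMod r) ≠ 0 := fun h => hrq ((ZMod.natCast_eq_zero_iff q r).1 h)
    have hcop : r.Coprime (q + 1) := (Nat.Prime.coprime_iff_not_dvd hr).2 fun h => hb1 (by
      rw [← ZMod.natCast_eq_zero_iff, Nat.cast_add, Nat.cast_one] at h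
      have := hi ▸ orderOf_dvd_of_pow_eq_one (show (q : ZMod r) ^ 2 = 1 by
        rw [eq_neg_of_add_eq_zero_left h, neg_one_sq])
      exact Nat.dvd_one.1 (Nat.dvd_of_mul_dvd_mul_left two_pos this))
    have hbe : b = orderOf (Fintype.card F : ZMod r) :=
      IsoHerm.b_eq_order hq hi (by rw [if_pos (even_two_mul b)]; omega)
    have hσ : ∀ x : F, qFrob hq x = x ^ p ^ a := fun x => by rw [qFrob_apply, hqa]
    have hqb : (q : ZMod r) ^ b = -1 := by
      refine (sq_eq_one_iff.1 (show ((q : ZMod r) ^ b) ^ 2 = 1 by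
        rw [← pow_mul, mul_comm, hi, pow_orderOf_eq_one])).resolve_left fun h => ?_
      have := Nat.le_of_dvd hbodd.pos (hi ▸ orderOf_dvd_of_pow_eq_one h)
      omega
    obtain ⟨g, hg⟩ : (SympOrderR.factors F r).Nonempty := by
      rw [← Finset.card_pos, SympOrderR.card_factors (F := F) (p := p) rfl hr hrp hbe]
      have hb' : b ∣ r - 1 := hbe ▸ orderOf_dvd_of_pow_eq_one (ZMod.pow_card_sub_one_eq_one (by
        rw [hq, Nat.cast_pow]; exact pow_ne_zero _ hq0))
      exact Nat.div_pos (Nat.le_of_dvd (by have := hr.two_le; omega) hb') hbodd.pos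
    obtain ⟨hgm, hgi, -⟩ := SympOrderR.mem_factors.1 hg
    have hgt : SemiPalin.tilde (qFrob hq) g = g := by
      refine (KnownC.SigmaFactors.tilde_fix_iff hr hrp hbe (qFrob hq) (qFrob_qFrob hq) hσ hg).2 ⟨(b + 1) / 2, ?_⟩
      obtain ⟨t, rfl⟩ := hbodd
      rw [← Nat.cast_pow p, ← hqa, hq, Nat.cast_pow, ← pow_mul, show 2 * ((2 * t + 1 + 1) / 2) = (2 * t + 1) + 1 by omega,
        pow_succ, hqb, neg_one_mul]
    have hg1 : ¬ (X - C (1 : F)) ∣ g := fun hd => (SympOrderR.facts (F := F) hr hrp hg).1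
      (eq_of_monic_of_associated hgm (monic_X_sub_C 1) ((irreducible_X_sub_C 1).associated_of_dvd hgi hd).symm)
    obtain ⟨f, hfdef⟩ : ∃ f, f = (X - C (1 : F)) ^ (2 * m - b) * g := ⟨_, rfl⟩
    obtain ⟨A, hA, hAr, hAf⟩ := IsoHerm.exists_su (p := p) hq hcop (n := 2 * m) (f := f)
      (hfdef ▸ ((monic_X_sub_C 1).pow _).mul hgm)
      (by rw [hfdef, ((monic_X_sub_C 1).pow _).natDegree_mul hgm, (monic_X_sub_C 1).natDegree_pow,
        natDegree_X_sub_C, SympOrderR.natDegree_factor (F := F) (p := p) rfl hr hrp hbe hg, mul_one]; omega)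
      (by
        rw [hfdef, SemiPalin.tilde_mul, hgt]
        congr 1
        induction (2 * m - b) with
        | zero => rw [pow_zero, SemiPalin.tilde, coeff_one_zero, map_one, inv_one, map_one, one_mul, ← map_one C,
            SemiPalin.srev_C, map_one]
        | succ k ih => rw [pow_succ, SemiPalin.tilde_mul, ih, KnownC.SigmaFactors.tilde_X_sub_one])
      (fun Q hQ hd => (hQ.prime.dvd_or_dvd (hfdef ▸ hd)).elim
        (fun h => (hQ.prime.dvd_of_dvd_pow h).trans PalinCount.X_sub_one_dvd)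
        fun h => h.trans (SympOrderR.facts (F := F) hr hrp hg).2.1)
    obtain ⟨T', hT'⟩ : ∃ T', T' = Matrix.toLinAlgEquiv' (A : Matrix (Fin (2 * m)) (Fin (2 * m)) F) := ⟨_, rfl⟩
    rw [← hT'] at hAf
    have hTr : T' ^ r = 1 := by
      rw [hT', ← map_pow, ← Matrix.SpecialLinearGroup.coe_pow, hAr]; exact map_one _
    have hker : Module.finrank F ↥(LinearMap.ker (T' - 1)) = 2 * m - b := by
      refine le_antisymm (IsoWitness.finrank_fix_lt hrF hTr fun hd => ?_) ?_
      · rw [hAf, hfdef, pow_succ, mul_dvd_mul_iff_left (pow_ne_zero _ (X_sub_C_ne_zero 1))] at hd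
        exact hg1 hd
      · refine le_trans ?_ (Submodule.finrank_mono (s := Module.End.maxGenEigenspace T' 1) fun v hv => ?_)
        · rw [LinearMap.finrank_maxGenEigenspace_eq, Polynomial.le_rootMultiplicity_iff
            (LinearMap.charpoly_monic T').ne_zero, hAf, hfdef]
          exact dvd_mul_right _ _
        · rw [Module.End.mem_maxGenEigenspace, one_smul] at hv
          obtain ⟨k, hk⟩ := hv
          have key : ∀ (k : ℕ) w, ((T' - 1) ^ k) w = 0 → (T' - 1) w = 0 := by
            intro k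
            induction k with
            | zero => intro w h; rw [show w = 0 from h, map_zero]
            | succ k ih =>
              intro w h
              rw [pow_succ, Module.End.mul_apply] at h
              exact FixExact.fix_mov_zero hrF hTr w (ih _ h)
          exact key k v hk
    refine hcontra _ (hmem hA) (by rw [← map_pow, hAr, map_one]) 1 (one_pow _) ?_
    have hmv : mv 1 (Matrix.SpecialLinearGroup.toGL A) = T' - 1 := LinearMap.ext fun v => by
      rw [mv_apply, one_smul, hT']; rfl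
    have hsum := (T' - 1).finrank_range_add_finrank_ker
    rw [Module.finrank_fin_fun, hker] at hsum
    rw [hmv, show Module.finrank F ↥(LinearMap.range (T' - 1)) = b by omega]
    exact hbodd
  · rintro ⟨rfl, hqodd, hv'⟩ x hx ⟨z, hz⟩ -
    have hp2 : p ≠ 2 := fun h => by
      subst h
      rcases Nat.eq_zero_or_pos a with rfl | ha
      · simp at hqa; omega
      · rw [hqa] at hqodd
        exact absurd ((Nat.even_pow.2 ⟨even_two, ha.ne'⟩)) (Nat.not_even_iff_odd.2 hqodd)
    have h2 : (2 : F) ≠ 0 := fun h => hp2 ((Nat.prime_dvd_prime_iff_eq Fact.out Nat.prime_two).1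
      ((CharP.cast_eq_zero_iff F p 2).1 (by exact_mod_cast h)))
    have hxG := hx.1
    have hxdet : (x : Matrix (Fin (2 * m)) (Fin (2 * m)) F).det = 1 := congrArg Units.val hx.2
    rw [Units.val_pow_eq_pow_val] at hz
    have hxx : ∀ v, glLin x (glLin x v) = z • v := fun v => by
      rw [glLin_apply, glLin_apply, Matrix.mulVec_mulVec, ← sq, hz, Matrix.smul_mulVec, Matrix.one_mulVec]
    have hz1 : z ^ (q + 1) = 1 := S5953.scalar_norm hq (by omega) (fun u v => by
      rw [sq, ← Matrix.mulVec_mulVec, ← Matrix.mulVec_mulVec, S5953.gu_iso hq hxG, S5953.gu_iso hq hxG]) hz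
    have hz0 : z ≠ 0 := fun e => by rw [e] at hz1; simp at hz1
    have hchar : ringChar F ≠ 2 := by rwa [ringChar.eq F p]
    obtain ⟨w, hw⟩ : IsSquare z := (FiniteField.isSquare_iff hchar hz0).2 (by
      obtain ⟨k, hk⟩ := hqodd
      rw [hq, show q ^ 2 / 2 = (q + 1) * k by
        rw [hk, show (2 * k + 1) ^ 2 = 2 * ((2 * k + 1 + 1) * k) + 1 by ring]; omega, pow_mul, hz1, one_pow])
    have hw0 : w ≠ 0 := fun e => hz0 (by rw [hw, e, mul_zero])
    obtain ⟨S, hS⟩ : ∃ S : Module.End F (Fin (2 * m) → F), ∀ v, S v = w⁻¹ • glLin x v :=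
      ⟨w⁻¹ • (glLin x).toLinearMap, fun v => rfl⟩
    have hSS : ∀ v, S (S v) = v := fun v => by
      rw [hS, hS, map_smul, hxx, smul_smul, smul_smul, hw, ← mul_inv, inv_mul_cancel₀ (mul_ne_zero hw0 hw0), one_smul]
    have hSB : ∀ u v, hermB hq (2 * m) (S u) (S v) = (w ^ (q + 1))⁻¹ * hermB hq (2 * m) u v := fun u v => by
      simp only [hS, LinearMap.smul_apply, LinearMap.map_smulₛₗ, map_smul, smul_eq_mul, RingHom.id_apply,
        map_inv₀, qFrob_apply, iso_of_mem hq hxG]
      rw [pow_succ, mul_inv]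
      ring
    suffices ∃ E₀ E₁, Pair (hermB hq (2 * m)) m E₀ E₁ ∧ (∀ v ∈ E₀, S v ∈ E₀) ∧ ∀ v ∈ E₁, S v ∈ E₁ by
      obtain ⟨E₀, E₁, hE, h0, h1⟩ := this
      obtain ⟨g, hg, hg0, hg1⟩ := exists_conj hq hP (by omega) hE
      refine ⟨g, hg, (mem_stab_iff D).2 (Or.inl fun i => map_eq_of_le rfl fun v hv => ?_)⟩
      have key : ∀ (E : Submodule F (Fin (2 * m) → F)) (i : Fin 2), Module.finrank F E = m →
          (∀ u ∈ D i, glLin g u ∈ E) → (∀ u ∈ E, S u ∈ E) → ∀ u ∈ D i, glLin (g⁻¹ * x * g) u ∈ D i := by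
        intro E i hE hgi hSi u hu
        have hmap : (D i).map (Matrix.toLin' (g : Matrix (Fin (2 * m)) (Fin (2 * m)) F)) = E :=
          map_eq_of_le (by rw [hE, hD.finrank_eq]) hgi
        have hxu : glLin x (glLin g u) ∈ E := by
          have := E.smul_mem w (hSi _ (hgi u hu))
          rwa [hS, smul_smul, mul_inv_cancel₀ hw0, one_smul] at this
        rw [← hmap, toLin'_eq] at hxu
        obtain ⟨u', hu', he⟩ := hxu
        rw [map_mul, map_mul, LinearEquiv.mul_apply, LinearEquiv.mul_apply, map_inv, ← he]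
        show (glLin g).symm (glLin g u') ∈ D i
        rwa [LinearEquiv.symm_apply_apply]
      fin_cases i
      · exact key E₀ 0 hE.dimD hg0 h0 v hv
      · exact key E₁ 1 hE.dimE hg1 h1 v hv
    obtain ⟨P, hPd⟩ : ∃ P, P = LinearMap.ker (S - 1) := ⟨_, rfl⟩
    obtain ⟨N, hNd⟩ : ∃ N, N = LinearMap.ker (S + 1) := ⟨_, rfl⟩
    have hPm : ∀ x, x ∈ P ↔ S x = x := fun x => by
      rw [hPd, LinearMap.mem_ker, LinearMap.sub_apply, Module.End.one_apply, sub_eq_zero]
    have hNm : ∀ x, x ∈ N ↔ S x = -x := fun x => by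
      rw [hNd, LinearMap.mem_ker, LinearMap.add_apply, Module.End.one_apply, add_eq_zero_iff_eq_neg]
    have hdec : ∀ v, v = (2 : F)⁻¹ • (v + S v) + (2 : F)⁻¹ • (v - S v) := fun v => by
      rw [← smul_add, show v + S v + (v - S v) = (2 : F) • v by rw [two_smul]; abel, smul_smul,
        inv_mul_cancel₀ h2, one_smul]
    have hp : ∀ v, (2 : F)⁻¹ • (v + S v) ∈ P := fun v => P.smul_mem _ ((hPm _).2 (by rw [map_add, hSS, add_comm]))
    have hn' : ∀ v, (2 : F)⁻¹ • (v - S v) ∈ N := fun v => N.smul_mem _ ((hNm _).2 (by rw [map_sub, hSS, neg_sub]))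
    have hPN : P ⊓ N = ⊥ := (Submodule.eq_bot_iff _).2 fun x ⟨hx, hx'⟩ => by
      have h := ((hPm x).1 hx).symm.trans ((hNm x).1 hx')
      have h' : (2 : F) • x = 0 := by rw [two_smul]; nth_rw 1 [h]; exact neg_add_cancel x
      exact (smul_eq_zero.1 h').resolve_left h2
    have hsup : P ⊔ N = ⊤ := eq_top_iff.2 fun v _ => by
      rw [hdec v]; exact Submodule.add_mem_sup (hp v) (hn' v)
    have hsum : Module.finrank F P + Module.finrank F N = 2 * m := by
      have h := Submodule.finrank_sup_add_finrank_inf_eq P N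
      rw [hsup, hPN, finrank_top, finrank_bot, Module.finrank_fin_fun, add_zero] at h
      exact h.symm
    have hc : IsCompl P N := ⟨disjoint_iff.2 hPN, codisjoint_iff.2 hsup⟩
    have hG := IsoHerm.geom hq (2 * m)
    have hinvP : ∀ W ≤ P, ∀ v ∈ W, S v ∈ W := fun W hW v hv => by rwa [(hPm v).1 (hW hv)]
    have hinvN : ∀ W ≤ N, ∀ v ∈ W, S v ∈ W := fun W hW v hv => by
      rw [(hNm v).1 (hW hv)]; exact W.neg_mem hv
    rcases mul_self_eq_one_iff.1 (show w ^ (q + 1) * w ^ (q + 1) = 1 by rw [← mul_pow, ← hw, hz1]) with hw1 | hw1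
    · have hperp : ∀ x ∈ P, ∀ y ∈ N, hermB hq (2 * m) x y = 0 := fun x hx y hy => by
        have h := hSB x y
        rw [(hPm x).1 hx, (hNm y).1 hy, map_neg, hw1, inv_one, one_mul] at h
        exact (mul_eq_zero.1 (by linear_combination -h : (2 : F) * hermB hq (2 * m) x y = 0)).resolve_left h2
      have hPnd : ND (hermB hq (2 * m)) P := fun x hx h => hG.sep x fun v => by
        rw [hdec v, map_add, h _ (hp v), hperp x hx _ (hn' v), add_zero]
      have hNnd : ND (hermB hq (2 * m)) N := fun x hx h => hG.sep x fun v => by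
        rw [hdec v, map_add, h _ (hn' v), hG.refl _ _ (hperp _ (hp v) x hx), add_zero]
      have hNev : Even (Module.finrank F N) := by
        have hSe : S = (Submodule.prodEquivOfIsCompl P N hc : (P × N) →ₗ[F] (Fin (2 * m) → F)) ∘ₗ
            ((LinearMap.id : P →ₗ[F] P).prodMap ((-1 : F) • (LinearMap.id : N →ₗ[F] N))) ∘ₗ
              ((Submodule.prodEquivOfIsCompl P N hc).symm : (Fin (2 * m) → F) →ₗ[F] (P × N)) := by
          refine LinearMap.ext fun v => ?_
          obtain ⟨⟨a, b⟩, rfl⟩ := (Submodule.prodEquivOfIsCompl P N hc).surjective v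
          rw [LinearMap.comp_apply, LinearMap.comp_apply, LinearEquiv.coe_coe, LinearEquiv.coe_coe,
            LinearEquiv.symm_apply_apply]
          simp only [Submodule.coe_prodEquivOfIsCompl', LinearMap.prodMap_apply, LinearMap.id_apply,
            LinearMap.smul_apply, map_add, (hPm a).1 a.2, (hNm b).1 b.2, Submodule.coe_smul, neg_one_smul,
            Submodule.coe_neg]
        have hd1 : LinearMap.det S = (-1 : F) ^ Module.finrank F N := by
          rw [hSe, LinearMap.det_conj, LinearMap.det_prodMap, LinearMap.det_id, LinearMap.det_smul, LinearMap.det_id,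
            one_mul, mul_one]
        have hd2 : LinearMap.det S = (w ^ (2 * m))⁻¹ := by
          rw [show S = w⁻¹ • Matrix.toLin' (x : Matrix (Fin (2 * m)) (Fin (2 * m)) F) from LinearMap.ext fun v => by
              rw [hS, LinearMap.smul_apply, Matrix.toLin'_apply, glLin_apply],
            LinearMap.det_smul, Module.finrank_fin_fun, LinearMap.det_toLin', hxdet, mul_one, inv_pow]
        rcases Nat.even_or_odd (Module.finrank F N) with h | h
        · exact h
        · refine absurd ?_ (S5953.pow_ne_neg_one hq (n := 2 * m) h2 hw1 hv')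
          rw [hd2, h.neg_one_pow, inv_eq_iff_eq_inv, inv_neg, inv_one] at hd1
          exact hd1
      obtain ⟨s, hs⟩ := hNev
      obtain ⟨W₁, hW₁, hW₁t, hW₁d⟩ := IsoHerm.exists_ti hq hG (hermB_conj hq) hPnd (m - s) (by omega)
      obtain ⟨W₂, hW₂, hW₂t, hW₂d⟩ := IsoHerm.exists_ti hq hG (hermB_conj hq) hNnd s (by omega)
      obtain ⟨U₁, hU₁, hU₁t, hU₁d, hU₁i⟩ := HermPair.exists_pair_in (hermB_conj hq) hG (exists_qFrob_trace_one hq)
        hPnd hW₁ hW₁t (k := m - s) (by omega) hW₁d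
      obtain ⟨U₂, hU₂, hU₂t, hU₂d, hU₂i⟩ := HermPair.exists_pair_in (hermB_conj hq) hG (exists_qFrob_trace_one hq)
        hNnd hW₂ hW₂t (k := s) (by omega) hW₂d
      have hdim : ∀ (A A' : Submodule F (Fin (2 * m) → F)), A ≤ P → A' ≤ N →
          Module.finrank F ↥(A ⊔ A') = Module.finrank F A + Module.finrank F A' := fun A A' hA hA' => by
        have h := Submodule.finrank_sup_add_finrank_inf_eq A A'
        rw [show A ⊓ A' = ⊥ from le_bot_iff.1 ((inf_le_inf hA hA').trans hPN.le), finrank_bot, add_zero] at h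
        exact h
      have hfull : ∀ (A A' U : Submodule F (Fin (2 * m) → F)), A ≤ U → A' ≤ U → A ⊓ A' = ⊥ →
          Module.finrank F U ≤ Module.finrank F A + Module.finrank F A' → A ⊔ A' = U := fun A A' U hA hA' hi hd => by
        refine Submodule.eq_of_le_of_finrank_le (sup_le hA hA') ?_
        have h := Submodule.finrank_sup_add_finrank_inf_eq A A'
        rw [hi, finrank_bot] at h
        omega
      refine ⟨W₁ ⊔ W₂, U₁ ⊔ U₂, ⟨ti_sup hG hW₁t hW₂t fun y hy u hu => hperp u (hW₁ hu) y (hW₂ hy),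
        ti_sup hG hU₁t hU₂t fun y hy u hu => hperp u (hU₁ hu) y (hU₂ hy), by rw [hdim _ _ hW₁ hW₂]; omega,
        by rw [hdim _ _ hU₁ hU₂]; omega, ?_⟩, ?_, ?_⟩
      · have htop' : (W₁ ⊔ W₂) ⊔ (U₁ ⊔ U₂) = ⊤ := by
          rw [sup_sup_sup_comm, hfull W₁ U₁ P hW₁ hU₁ hU₁i (by omega), hfull W₂ U₂ N hW₂ hU₂ hU₂i (by omega), hsup]
        refine ⟨disjoint_iff.2 (Submodule.finrank_eq_zero.1 ?_), codisjoint_iff.2 htop'⟩
        have h := Submodule.finrank_sup_add_finrank_inf_eq (W₁ ⊔ W₂) (U₁ ⊔ U₂)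
        rw [htop', hdim _ _ hW₁ hW₂, hdim _ _ hU₁ hU₂, finrank_top, Module.finrank_fin_fun] at h
        omega
      · intro v hv
        obtain ⟨a, ha, b, hb, rfl⟩ := Submodule.mem_sup.1 hv
        rw [map_add]; exact Submodule.add_mem_sup (hinvP _ hW₁ a ha) (hinvN _ hW₂ b hb)
      · intro v hv
        obtain ⟨a, ha, b, hb, rfl⟩ := Submodule.mem_sup.1 hv
        rw [map_add]; exact Submodule.add_mem_sup (hinvP _ hU₁ a ha) (hinvN _ hU₂ b hb)
    · have hPt : TI (hermB hq (2 * m)) P := fun x hx y hy => by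
        have h := hSB x y
        rw [(hPm x).1 hx, (hPm y).1 hy, hw1, inv_neg, inv_one] at h
        exact (mul_eq_zero.1 (by linear_combination h : (2 : F) * hermB hq (2 * m) x y = 0)).resolve_left h2
      have hNt : TI (hermB hq (2 * m)) N := fun x hx y hy => by
        have h := hSB x y
        rw [(hNm x).1 hx, (hNm y).1 hy, hw1, inv_neg, inv_one, map_neg, map_neg, LinearMap.neg_apply, neg_neg] at h
        exact (mul_eq_zero.1 (by linear_combination h : (2 : F) * hermB hq (2 * m) x y = 0)).resolve_left h2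
      have htop' : ND (hermB hq (2 * m)) (⊤ : Submodule F (Fin (2 * m) → F)) := fun u _ h =>
        hG.sep u fun v => h v trivial
      have h3 := two_mul_ti_le hG htop' le_top hPt
      have h4 := two_mul_ti_le hG htop' le_top hNt
      rw [finrank_top, Module.finrank_fin_fun] at h3 h4
      exact ⟨P, N, ⟨hPt, hNt, by omega, by omega, hc⟩, hinvP _ le_rfl, hinvN _ le_rfl⟩

end Cfsg.Agent.S5984
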