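import Cfsg.Statements.S5986
import Cfsg.Agent.Lib.MaxSub.OmegaElem
import Cfsg.Agent.Lib.KnownC.OrthPrimeClasses
-- import your own Cfsg.Agent.* helpers here

set_option autoImplicit false
open scoped MatrixGroups
open Cfsg

namespace Cfsg.Agent.S5986

open CfsgLib.MaxSub CfsgLib.Geom CfsgLib.Classical CfsgLib.KnownC CfsgLib.KnownC.OrthType Matrix Polynomial
open QuadraticMap (polar)

section

universe u
variable {F : Type u} [Field F] [Fintype F] {p : ℕ} [Fact p.Prime] [CharP F p] {r : ℕ}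

include p in
/-- An allowed polynomial of degree `2 d` without the root one when `r` divides `q ^ d + 1`. -/
theorem exists_poly [hr : Fact r.Prime] (hr2 : r ≠ 2) (hrp : r ≠ p) {d : ℕ}
    (h : (Fintype.card F : ZMod r) ^ d = -1) :
    ∃ f : F[X], f ∈ StarCount.polys (SemiPalin.tilde (RingHom.id F)) r (2 * d) ∧ ¬ f.IsRoot 1 ∧
      (Fintype.card F : ZMod r) ≠ 1 := by
  have h2 : (2 : ZMod r) ≠ 0 := fun h => hr2 ((Nat.prime_dvd_prime_iff_eq hr.out Nat.prime_two).1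
    ((ZMod.natCast_eq_zero_iff 2 r).1 (by exact_mod_cast h)))
  set i := orderOf (Fintype.card F : ZMod r) with hi
  have hipos : 0 < i := SympOrderR.i_pos (F := F) (p := p) rfl hr.out hrp hi
  obtain ⟨k, hk⟩ : i ∣ 2 * d := orderOf_dvd_of_pow_eq_one (by rw [mul_comm, pow_mul, h, neg_one_sq])
  have hev : Even i := by
    by_contra hodd
    rw [Nat.not_even_iff_odd] at hodd
    have h1 : ((Fintype.card F : ZMod r) ^ d) ^ i = 1 := by
      rw [← pow_mul, mul_comm, pow_mul, hi, pow_orderOf_eq_one, one_pow]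
    rw [h, hodd.neg_one_pow] at h1
    exact h2 (by linear_combination -h1)
  obtain ⟨g, hg⟩ : (SympOrderR.factors F r).Nonempty := by
    rw [← Finset.card_pos, SympOrderR.card_factors (F := F) (p := p) rfl hr.out hrp hi]
    refine Nat.div_pos (Nat.le_of_dvd (by have := hr.out.two_le; omega) ?_) hipos
    refine orderOf_dvd_of_pow_eq_one (ZMod.pow_card_sub_one_eq_one fun h0 => ?_)
    rw [h0] at hi
    simp at hi
    omega
  obtain ⟨hgm, hgi, -⟩ := SympOrderR.mem_factors.1 hg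
  obtain ⟨hgne, hgx, hg0⟩ := SympOrderR.facts (F := F) hr.out hrp hg
  have hgs : SemiPalin.tilde (RingHom.id F) g = g :=
    (SympOrderR.star_eq_iff (F := F) (p := p) rfl hr.out hrp hi hr2 hg).2 hev
  have hpw : ∀ j, SemiPalin.tilde (RingHom.id F) (g ^ j) = g ^ j := fun j => by
    induction j with
    | zero =>
      rw [pow_zero, OrthPrime.eq_id_tilde, coeff_one_zero, inv_one, map_one, one_mul, ← map_one C,
        SemiPalin.reverse_C]
    | succ j ih => rw [pow_succ, SemiPalin.tilde_mul, ih, hgs]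
  refine ⟨g ^ k, ⟨hgm.pow k, hpw k, ?_, fun Q _ hQ hd => (hQ.prime.dvd_of_dvd_pow hd).trans hgx⟩, fun h1 => ?_,
    fun h1 => ?_⟩
  · rw [natDegree_pow, SympOrderR.natDegree_factor (F := F) (p := p) rfl hr.out hrp hi hg, hk, mul_comm]
  · have h3 := (irreducible_X_sub_C (1 : F)).prime.dvd_of_dvd_pow (dvd_iff_isRoot.2 h1)
    exact hgne (eq_of_monic_of_associated hgm (monic_X_sub_C 1)
      ((irreducible_X_sub_C 1).associated_of_dvd hgi h3).symm)
  · rw [h1, one_pow] at h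
    exact h2 (by linear_combination h)

end

/-- Elements of prime order of Ω⁻_n(q), q even, with no fixed nonsingular 1-space. Here `T = PΩ⁻_n(F)`, `n = 2d ≥ 8`, realised through `Ω⁻_n(q)`, the commutator subgroup of the isometry group of `Q = Σ_{i<d−1} xᵢyᵢ + z₁² + a z₁z₂ + b z₂²` with `z₁² + a z₁z₂ + b z₂²` anisotropic, over the field `F` with `q` elements; an element of `T` of prime order `r` is an element `x` of `Ω⁻_n(q)` with `x^r` scalar and `x` not scalar; `q` is even (so the centre is trivial). Let Ω be the set of 1-dimensional subspaces spanned by a vector `v` with `Q(v) ≠ 0`, and let `r` be a prime dividing their number. Then every element of `T` of order `r` fixes some nonsingular 1-space if and only if `r = 2`. -/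
theorem result {F : Type*} [Field F] [Fintype F] {p : ℕ} [Fact p.Prime] [CharP F p] {q : ℕ} (hq : Fintype.card F = q)
    (hp : p = 2) (d : ℕ) (hd : 4 ≤ d) (a b : F) (hab : ∀ x y : F, x ^ 2 + a * x * y + b * y ^ 2 = 0 → x = 0 ∧ y = 0) (r : ℕ) [Fact r.Prime]
    (hrΩ : r ∣ Nat.card {W : Submodule F ((Fin (d - 1) ⊕ Fin (d - 1)) ⊕ Fin 2 → F) // Module.finrank F ↥W = 1 ∧ ∃ v ∈ W, Cfsg.quadFormMinus (d - 1) F a b v ≠ 0}) :
    (∀ x : GL ((Fin (d - 1) ⊕ Fin (d - 1)) ⊕ Fin 2) F, x ∈ Cfsg.Geo.omegaGL (Cfsg.quadFormMinus (d - 1) F a b) →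
      (∃ z : F, ((x ^ r : GL ((Fin (d - 1) ⊕ Fin (d - 1)) ⊕ Fin 2) F) : Matrix ((Fin (d - 1) ⊕ Fin (d - 1)) ⊕ Fin 2) ((Fin (d - 1) ⊕ Fin (d - 1)) ⊕ Fin 2) F) = z • (1 : Matrix ((Fin (d - 1) ⊕ Fin (d - 1)) ⊕ Fin 2) ((Fin (d - 1) ⊕ Fin (d - 1)) ⊕ Fin 2) F)) →
      (∀ z : F, (x : Matrix ((Fin (d - 1) ⊕ Fin (d - 1)) ⊕ Fin 2) ((Fin (d - 1) ⊕ Fin (d - 1)) ⊕ Fin 2) F) ≠ z • (1 : Matrix ((Fin (d - 1) ⊕ Fin (d - 1)) ⊕ Fin 2) ((Fin (d - 1) ⊕ Fin (d - 1)) ⊕ Fin 2) F)) →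
      ∃ W : Submodule F ((Fin (d - 1) ⊕ Fin (d - 1)) ⊕ Fin 2 → F), (Module.finrank F ↥W = 1 ∧ ∃ v ∈ W, Cfsg.quadFormMinus (d - 1) F a b v ≠ 0) ∧ W.map (Matrix.toLin' (x : Matrix ((Fin (d - 1) ⊕ Fin (d - 1)) ⊕ Fin 2) ((Fin (d - 1) ⊕ Fin (d - 1)) ⊕ Fin 2) F)) ≤ W) ↔ r = 2 := by
  classical
  subst hp
  have hr : r.Prime := Fact.out
  have h2 : (2 : F) = 0 := by exact_mod_cast CharP.cast_eq_zero F 2
  generalize hl : d - 1 = l at *
  obtain rfl : d = l + 1 := by omega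
  have hQc : Cfsg.quadFormMinus l F a b = ⇑(qfMinus l F a b) := funext fun v => (qfMinus_apply l a b v).symm
  have hsep := qfMinus_sep (F := F) l hab
  have hex : (∃ t : F, t ≠ 0 ∧ t ≠ 1) ∨ Module.finrank F ((Fin l ⊕ Fin l) ⊕ Fin 2 → F) ≠ 4 :=
    Or.inr (by simp; omega)
  have hone : ∀ {x : GL ((Fin l ⊕ Fin l) ⊕ Fin 2) F}, x ∈ Cfsg.Geo.omegaGL (Cfsg.quadFormMinus l F a b) → ∀ v,
      qfMinus l F a b ((x : Matrix ((Fin l ⊕ Fin l) ⊕ Fin 2) ((Fin l ⊕ Fin l) ⊕ Fin 2) F) *ᵥ v) =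
        qfMinus l F a b v := by
    intro x hx v
    obtain ⟨y, -, rfl⟩ := hx
    have := (mem_isometryGroup_iff _ _).1 y.2 v
    simpa only [hQc, Subgroup.coe_subtype] using this
  let e : (Fin l ⊕ Fin l) ⊕ Fin 2 → F := Pi.single (.inr 0) 1
  have he : qfMinus l F a b e = 1 := by
    simp [e, qfMinus_apply, Cfsg.quadFormMinus]
  have hscal : ∀ {M : Matrix ((Fin l ⊕ Fin l) ⊕ Fin 2) ((Fin l ⊕ Fin l) ⊕ Fin 2) F},
      (∀ v, qfMinus l F a b (M *ᵥ v) = qfMinus l F a b v) → ∀ {z : F}, M = z • 1 → z = 1 := by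
    intro M hM z hz
    have h := hM e
    rw [hz, smul_mulVec, one_mulVec, QuadraticMap.map_smul, he, smul_eq_mul, mul_one] at h
    exact sub_eq_zero.1 ((mul_self_eq_zero (a := z - 1)).1 (by linear_combination h + (1 - z) * h2))
  constructor
  · intro h
    by_contra hr2
    have hdvd : (Fintype.card F : ZMod r) ^ (l + 1) = -1 := by
      have h1 := OmegaElem.card_points_mul (Cfsg.quadFormMinus l F a b) fun c v => by
        rw [hQc, QuadraticMap.map_smul, smul_eq_mul, sq]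
      have h3 := OmegaElem.card_ne_zero (Cfsg.quadFormMinus l F a b)
      rw [card_quadFormMinus_eq, card_binary_zero a b hab, mul_one, Fintype.card_sum, Fintype.card_sum,
        Fintype.card_fin, Fintype.card_fin, hq] at h3
      rw [hq] at h1
      obtain ⟨N, hN⟩ := hrΩ
      rw [← h1, hN] at h3
      obtain ⟨Q', rfl⟩ : ∃ Q', q = Q' + 1 := ⟨q - 1, by have := Fintype.card_pos (α := F); omega⟩
      obtain ⟨K, rfl⟩ : ∃ K, l = K + 1 := ⟨l - 1, by omega⟩
      obtain ⟨P, hP⟩ : ∃ P, (Q' + 1) ^ (K + 1) = P + 1 :=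
        ⟨_, (Nat.succ_pred_eq_of_pos (Nat.pow_pos (by omega))).symm⟩
      simp only [Nat.add_sub_cancel, hP, pow_add _ (K + 1 + (K + 1)) 2, pow_add _ (K + 1) (K + 1)] at h3
      have hQ0 : 0 < Q' := by have := Fintype.one_lt_card (α := F); omega
      have h4 : r * N * Q' = (Q' + 1) ^ (K + 1) * ((Q' + 1) ^ (K + 1 + 1) + 1) * Q' := by
        rw [pow_succ (Q' + 1) (K + 1)]
        rw [hP]
        have h7 : P * (Q' + 1) ^ K * (Q' + 1) ^ 2 = P * (P + 1) * (Q' + 1) := by rw [← hP]; ring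
        rw [h7] at h3
        nlinarith [h3]
      have h5 : r ∣ (Q' + 1) ^ (K + 1) * ((Q' + 1) ^ (K + 1 + 1) + 1) :=
        ⟨N, (Nat.eq_of_mul_eq_mul_right hQ0 h4).symm⟩
      have hnq : ¬ r ∣ (Q' + 1) ^ (K + 1) := fun h6 => by
        have h7 : r ∣ Fintype.card F := by rw [hq]; exact hr.dvd_of_dvd_pow h6
        obtain ⟨f, -, hf⟩ := FiniteField.card F 2
        rw [hf] at h7
        exact hr2 ((Nat.prime_dvd_prime_iff_eq hr Nat.prime_two).1 (hr.dvd_of_dvd_pow h7))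
      have h6 := (hr.dvd_mul.1 h5).resolve_left hnq
      rw [← ZMod.natCast_eq_zero_iff, Nat.cast_add, Nat.cast_pow, Nat.cast_one, ← hq] at h6
      linear_combination h6
    obtain ⟨f, hf, hf1, hq1⟩ := exists_poly (F := F) (p := 2) hr2 hr2 hdvd
    obtain ⟨Q₀, A, hQ₀, hA, hAr, hAc⟩ := OrthPrime.exists_model (p := 2) hr hr2 hr2 (k := l + 1) hf hf1
    have hd2 := OrthPrime.finrank_two (F := F) (l + 1)
    have hnp : ¬ IsPlus Q₀ (l + 1) := (OrthPrime.type_of_no_fixed (p := 2) hr hr2 hr2 hq1 Q₀ hQ₀ hA hAr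
      (OrthPrime.no_fixed (hAc ▸ hf1)) (by omega) hd2).1 hdvd
    obtain ⟨l', hl', hM⟩ := (dichotomy Q₀ hQ₀ hd2).resolve_left hnp
    obtain rfl : l = l' := by omega
    obtain ⟨φ, hφ⟩ := hM a b hab
    obtain ⟨g, hg, hgr, hgc⟩ := OrthPrime.transport (R := qfMinus l F a b) φ.symm
      (fun v => by rw [← hφ, φ.apply_symm_apply]) hA hAr
    obtain ⟨x, hx, hxr, hxv⟩ := OmegaElem.exists_gl (qfMinus l F a b) hsep hex (by simp) hr hr2 hg hgr
    rw [← hQc] at hx
    have hfix : ∀ v, (x : Matrix ((Fin l ⊕ Fin l) ⊕ Fin 2) ((Fin l ⊕ Fin l) ⊕ Fin 2) F) *ᵥ v = v → v = 0 :=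
      fun v hv => OrthPrime.no_fixed (g := g) (hgc ▸ hAc ▸ hf1) v (by rw [← hxv]; exact hv)
    obtain ⟨W, ⟨hW1, v, hv, hQv⟩, hmap⟩ := h x hx ⟨1, by rw [hxr, one_smul]; rfl⟩ fun z hz => by
      have := hfix e (by rw [hz, hscal (hone hx) hz, one_smul, one_mulVec])
      rw [this, map_zero] at he
      exact zero_ne_one he
    rw [hQc] at hQv
    have hv0 : (⟨v, hv⟩ : W) ≠ 0 := fun h => hQv (by rw [show v = 0 from congrArg Subtype.val h, map_zero])
    obtain ⟨c, hc⟩ := (finrank_eq_one_iff_of_nonzero' ⟨v, hv⟩ hv0).1 hW1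
      ⟨_, hmap (Submodule.mem_map_of_mem hv)⟩
    have hc' : c • v = (x : Matrix ((Fin l ⊕ Fin l) ⊕ Fin 2) ((Fin l ⊕ Fin l) ⊕ Fin 2) F) *ᵥ v :=
      congrArg Subtype.val hc
    have h := hone hx v
    rw [← hc', QuadraticMap.map_smul, smul_eq_mul] at h
    have hc1 : c = 1 := sub_eq_zero.1 ((mul_self_eq_zero (a := c - 1)).1
      (by linear_combination mul_right_cancel₀ hQv (h.trans (one_mul _).symm) + (1 - c) * h2))
    exact hQv (by rw [hfix v (by rw [← hc', hc1, one_smul]), map_zero])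
  · rintro rfl x hx ⟨z, hz⟩ -
    have hz1 : z = 1 := hscal (fun v => hone (pow_mem hx 2) v) hz
    rw [hz1, one_smul] at hz
    obtain ⟨N, hN⟩ : ∃ N : Module.End F ((Fin l ⊕ Fin l) ⊕ Fin 2 → F),
        N = Matrix.toLinAlgEquiv' (x : Matrix ((Fin l ⊕ Fin l) ⊕ Fin 2) ((Fin l ⊕ Fin l) ⊕ Fin 2) F) - 1 := ⟨_, rfl⟩
    have hN2 : N * N = 0 := by
      have hT : Matrix.toLinAlgEquiv' (x : Matrix ((Fin l ⊕ Fin l) ⊕ Fin 2) ((Fin l ⊕ Fin l) ⊕ Fin 2) F) *
          Matrix.toLinAlgEquiv' (x : Matrix ((Fin l ⊕ Fin l) ⊕ Fin 2) ((Fin l ⊕ Fin l) ⊕ Fin 2) F) = 1 := by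
        rw [← map_mul, ← Units.val_mul, ← sq, hz, map_one]
      refine LinearMap.ext fun v => ?_
      have h1 := LinearMap.congr_fun hT v
      rw [Module.End.mul_apply, Module.End.one_apply] at h1
      funext i
      have h3 := congrFun h1 i
      simp only [hN, Module.End.mul_apply, LinearMap.sub_apply, Module.End.one_apply, map_sub, Pi.sub_apply,
        LinearMap.zero_apply, Pi.zero_apply]
      linear_combination h3 + (v i - Matrix.toLinAlgEquiv'
        (x : Matrix ((Fin l ⊕ Fin l) ⊕ Fin 2) ((Fin l ⊕ Fin l) ⊕ Fin 2) F) v i) * h2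
    have hle : LinearMap.range N ≤ LinearMap.ker N := by
      rintro _ ⟨v, rfl⟩; exact LinearMap.congr_fun hN2 v
    by_contra hno
    have hts : ∀ v ∈ LinearMap.ker N, qfMinus l F a b v = 0 := fun v hv => by
      by_contra hQv
      have hv0 : v ≠ 0 := fun h => hQv (by rw [h, map_zero])
      refine hno ⟨Submodule.span F {v}, ⟨finrank_span_singleton hv0, v, Submodule.mem_span_singleton_self v,
        by rwa [hQc]⟩, ?_⟩
      rw [Submodule.map_span, Submodule.span_le, Set.image_singleton, Set.singleton_subset_iff]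
      rw [hN, LinearMap.mem_ker, LinearMap.sub_apply, sub_eq_zero] at hv
      show Matrix.toLinAlgEquiv' _ v ∈ Submodule.span F {v}
      rw [hv]
      exact Submodule.mem_span_singleton_self v
    have h1 := OmegaElem.minus_ts_le l hab hts
    have h3 := N.finrank_range_add_finrank_ker
    have h4 := Submodule.finrank_mono hle
    rw [OrthPrime.finrank_minus] at h3
    omega

end Cfsg.Agent.S5986
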