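import Cfsg.Statements.S5987
import Cfsg.Agent.Lib.MaxSub.IsoTS
import Cfsg.Agent.Lib.MaxSub.IsoTwo
import Cfsg.Agent.Lib.MaxSub.TSCount
import Cfsg.Agent.Lib.MaxSub.IsoOrthBase
-- import your own Cfsg.Agent.* helpers here

set_option autoImplicit false
open scoped MatrixGroups
open Cfsg

namespace Cfsg.Agent.S5987

open CfsgLib CfsgLib.MaxSub CfsgLib.MaxSub.IsoSemi CfsgLib.MaxSub.IsoType CfsgLib.Classical CfsgLib.Geom CfsgLib.KnownC CfsgLib.KnownC.OrthType
open Matrix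
open QuadraticMap (polar)

section

universe u
variable {F : Type u} [Field F] [Fintype F]

theorem not_half (l : ℕ) {a b : F} (hab : ∀ x y : F, x ^ 2 + a * x * y + b * y ^ 2 = 0 → x = 0 ∧ y = 0) :
    ¬ HasHalf (qfMinus l F a b) ⊤ := by
  rintro ⟨W, -, hW, hWd⟩
  have := OmegaElem.minus_ts_le l hab hW
  rw [finrank_top, Module.finrank_fintype_fun_eq_card] at hWd
  simp at hWd
  omega

/-- An element of `Ω` with square `-1`. -/
theorem exists_rot_witness (h2 : (2 : F) ≠ 0) (hns : ¬ IsSquare (-1 : F)) (hsq2 : IsSquare (2 : F)) {l : ℕ}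
    (hl : Even l) {a b : F} (hab : ∀ x y : F, x ^ 2 + a * x * y + b * y ^ 2 = 0 → x = 0 ∧ y = 0) :
    ∃ x : GL ((Fin l ⊕ Fin l) ⊕ Fin 2) F, x ∈ Cfsg.Geo.omegaGL (⇑(qfMinus l F a b)) ∧
      ((x ^ 2 : GL ((Fin l ⊕ Fin l) ⊕ Fin 2) F) : Matrix ((Fin l ⊕ Fin l) ⊕ Fin 2) ((Fin l ⊕ Fin l) ⊕ Fin 2) F) =
        (-1 : F) • 1 ∧
      ∀ v, (x : Matrix ((Fin l ⊕ Fin l) ⊕ Fin 2) ((Fin l ⊕ Fin l) ⊕ Fin 2) F) *ᵥ
        ((x : Matrix ((Fin l ⊕ Fin l) ⊕ Fin 2) ((Fin l ⊕ Fin l) ⊕ Fin 2) F) *ᵥ v) = -v := by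
  obtain ⟨A, hAA, hA⟩ := IsoTwo.exists_rot (F := F) hl
  have h01 : ∀ x y : F, x ^ 2 + 0 * x * y + 1 * y ^ 2 = 0 → x = 0 ∧ y = 0 := fun x y h => by
    have hy : y = 0 := by
      by_contra hy
      exact hns ⟨x / y, by field_simp; linear_combination -h⟩
    subst hy
    exact ⟨pow_eq_zero_iff two_ne_zero |>.1 (by linear_combination h), rfl⟩
  let J : Module.End F ((Fin l ⊕ Fin l) ⊕ Fin 2 → F) :=
    { toFun := fun v => Sum.elim (Sum.elim (A fun i => v (.inl (.inl i))) (A fun i => v (.inl (.inr i))))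
        ![-v (.inr 1), v (.inr 0)]
      map_add' := fun v w => funext fun j => by
        have e1 : (fun i => (v + w) (.inl (.inl i))) = (fun i => v (.inl (.inl i))) + fun i => w (.inl (.inl i)) := rfl
        have e2 : (fun i => (v + w) (.inl (.inr i))) = (fun i => v (.inl (.inr i))) + fun i => w (.inl (.inr i)) := rfl
        rcases j with (j | j) | j
        · simp only [Sum.elim_inl, Pi.add_apply] at e1 ⊢
          simp only [e1, map_add, Pi.add_apply]
        · simp only [Sum.elim_inl, Sum.elim_inr, Pi.add_apply] at e2 ⊢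
          simp only [e2, map_add, Pi.add_apply]
        · fin_cases j <;> simp; ring
      map_smul' := fun c v => funext fun j => by
        have e1 : (fun i => (c • v) (.inl (.inl i))) = c • fun i => v (.inl (.inl i)) := rfl
        have e2 : (fun i => (c • v) (.inl (.inr i))) = c • fun i => v (.inl (.inr i)) := rfl
        rcases j with (j | j) | j
        · simp only [Sum.elim_inl, Pi.smul_apply, RingHom.id_apply] at e1 ⊢
          simp only [e1, map_smul, Pi.smul_apply]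
        · simp only [Sum.elim_inl, Sum.elim_inr, Pi.smul_apply, RingHom.id_apply] at e2 ⊢
          simp only [e2, map_smul, Pi.smul_apply]
        · fin_cases j <;> simp }
  have hJ : ∀ v, J (J v) = -v := fun v => funext fun j => by
    rcases j with (j | j) | j
    · show A (A fun i => v (.inl (.inl i))) j = -v (.inl (.inl j))
      rw [hAA]; rfl
    · show A (A fun i => v (.inl (.inr i))) j = -v (.inl (.inr j))
      rw [hAA]; rfl
    · fin_cases j <;> simp [J]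
  have hJQ : ∀ v, qfMinus l F 0 1 (J v) = qfMinus l F 0 1 v := fun v => by
    rw [qfMinus_apply, qfMinus_apply]
    simp only [Cfsg.quadFormMinus, J, LinearMap.coe_mk, AddHom.coe_mk, Sum.elim_inl, Sum.elim_inr,
      Matrix.cons_val_zero, Matrix.cons_val_one]
    rw [hA]
    ring
  obtain ⟨t, ht⟩ := hsq2
  have ht2 : 2 * (t / 2 * (t / 2)) = (1 : F) := by field_simp; linear_combination -ht
  obtain ⟨H₁, hH₁⟩ : ∃ H : Module.End F ((Fin l ⊕ Fin l) ⊕ Fin 2 → F), H = (t / 2) • (1 + J) := ⟨_, rfl⟩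
  have hH₁v : ∀ v, H₁ v = (t / 2) • (v + J v) := fun v => by
    rw [hH₁, LinearMap.smul_apply, LinearMap.add_apply, Module.End.one_apply]
  have hH₁Q : ∀ v, qfMinus l F 0 1 (H₁ v) = qfMinus l F 0 1 v := fun v => by
    rw [hH₁v, QuadraticMap.map_smul, QuadraticMap.map_add (qfMinus l F 0 1), hJQ,
      IsoTwo.polar_J h2 hJ hJQ, smul_eq_mul]
    linear_combination (qfMinus l F 0 1 v) * ht2
  have hH₁H : ∀ v, H₁ (H₁ v) = J v := fun v => by
    rw [hH₁v v, map_smul, map_add, hH₁v, hH₁v, hJ, smul_add, smul_smul, smul_smul]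
    calc _ = (2 * (t / 2 * (t / 2))) • J v := by module
      _ = _ := by rw [ht2, one_smul]
  obtain ⟨S, hS⟩ := exists_scaled_minus l hab h01 (one_ne_zero (α := F))
  simp only [one_mul] at hS
  have hS' : ∀ v, qfMinus l F 0 1 (S.symm v) = qfMinus l F a b v := fun v => by rw [← hS, S.apply_symm_apply]
  obtain ⟨H, hH⟩ : ∃ H : Module.End F ((Fin l ⊕ Fin l) ⊕ Fin 2 → F),
      H = S.toLinearMap ∘ₗ H₁ ∘ₗ S.symm.toLinearMap := ⟨_, rfl⟩
  have hHv : ∀ v, H v = S (H₁ (S.symm v)) := fun v => by rw [hH]; rfl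
  obtain ⟨h, hh⟩ := KnownB.BC.exists_iso (qfMinus l F a b) (qfMinus_sep l hab) H fun v => by
    rw [hHv, hS, hH₁Q, hS']
  have hx : ∀ v, ((((h * h : Cfsg.isometryGroup F (⇑(qfMinus l F a b)))) : GL ((Fin l ⊕ Fin l) ⊕ Fin 2) F) :
      Matrix ((Fin l ⊕ Fin l) ⊕ Fin 2) ((Fin l ⊕ Fin l) ⊕ Fin 2) F) *ᵥ v = S (J (S.symm v)) := fun v => by
    rw [Subgroup.coe_mul, Units.val_mul, ← Matrix.mulVec_mulVec, hh, hh, hHv, hHv, S.symm_apply_apply, hH₁H]
  have hneg : ∀ v, S (J (S.symm (S (J (S.symm v))))) = -v := fun v => by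
    rw [S.symm_apply_apply, hJ, map_neg, S.apply_symm_apply]
  refine ⟨((h * h : Cfsg.isometryGroup F (⇑(qfMinus l F a b))) : GL ((Fin l ⊕ Fin l) ⊕ Fin 2) F),
    ⟨h * h, IsoTwo.sq_mem_omega (qfMinus_sep l hab) h2 h, rfl⟩, ?_, fun v => by rw [hx, hx, hneg]⟩
  refine Matrix.ext_iff_mulVec.2 fun v => ?_
  rw [sq, Units.val_mul, ← Matrix.mulVec_mulVec, hx, hx, hneg, Matrix.smul_mulVec, Matrix.one_mulVec, neg_one_smul]

end

/-- Elements of prime order of PΩ⁻_n(q) with no fixed totally singular `m`-space. Here `T = PΩ⁻_n(F)`, `n = 2d ≥ 8`, realised through `Ω⁻_n(q)`, the commutator subgroup of the isometry group of `Q = Σ_{i<d−1} xᵢyᵢ + z₁² + a z₁z₂ + b z₂²` with `z₁² + a z₁z₂ + b z₂²` anisotropic, over the field `F` with `q` elements; an element of `T` of prime order `r` is an element `x` of `Ω⁻_n(q)` with `x^r` scalar and `x` not scalar. Let `1 ≤ m ≤ d − 1` and let `r` be a prime dividing the number of totally singular `m`-spaces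 (subspaces of dimension `m` on which `Q` vanishes); for `r ≠ p` let `i` be the multiplicative order of `q` modulo `r`, `c = i` for `i` even and `c = 2i` for `i` odd, and write `k = n mod c`, `ℓ = m mod i`, `n' = ⌊n/i⌋`, `m' = ⌊m/i⌋`, `t = (r−1)/i`. Then every element of `T` of order `r` fixes some totally singular `m`-space if and only if one of: (i) `r = 2 ≠ p` and (`n ≡ 0 (mod 4)`, or `m` is even, or `q ≢ 7 (mod 8)`); (ii) `r ≠ p` odd, `i` odd, `i ≤ m` and (`k = 0` or `k > 2ℓ`); (iii) `r ≠ p` odd, `i` even, `i ≤ m`, `n' − 2m' ≥ t`, and one of: (a) `i ≥ 2ℓ`, `k = 0`, `n/i` even and `n' − 2m' > t` (all four); (b) `k ≥ 2ℓ` and `n'` odd; (c) `k > 2ℓ` and `n'` even. -/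
theorem result {F : Type*} [Field F] [Fintype F] {p : ℕ} [Fact p.Prime] [CharP F p] {q : ℕ} (hq : Fintype.card F = q)
    (d m : ℕ) (hd : 4 ≤ d) (hm : 1 ≤ m) (hmd : m + 1 ≤ d) (a b : F) (hab : ∀ x y : F, x ^ 2 + a * x * y + b * y ^ 2 = 0 → x = 0 ∧ y = 0)
    (r : ℕ) [Fact r.Prime]
    (hrΩ : r ∣ Nat.card {W : Submodule F ((Fin (d - 1) ⊕ Fin (d - 1)) ⊕ Fin 2 → F) // Module.finrank F ↥W = m ∧ Cfsg.Geo.IsTotallySingularQuad (Cfsg.quadFormMinus (d - 1) F a b) W})
    (i c : ℕ) (hi : i = orderOf (q : ZMod r)) (hc : c = if Even i then i else 2 * i) :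
    (∀ x : GL ((Fin (d - 1) ⊕ Fin (d - 1)) ⊕ Fin 2) F, x ∈ Cfsg.Geo.omegaGL (Cfsg.quadFormMinus (d - 1) F a b) →
      (∃ z : F, ((x ^ r : GL ((Fin (d - 1) ⊕ Fin (d - 1)) ⊕ Fin 2) F) : Matrix ((Fin (d - 1) ⊕ Fin (d - 1)) ⊕ Fin 2) ((Fin (d - 1) ⊕ Fin (d - 1)) ⊕ Fin 2) F) = z • (1 : Matrix ((Fin (d - 1) ⊕ Fin (d - 1)) ⊕ Fin 2) ((Fin (d - 1) ⊕ Fin (d - 1)) ⊕ Fin 2) F)) →
      (∀ z : F, (x : Matrix ((Fin (d - 1) ⊕ Fin (d - 1)) ⊕ Fin 2) ((Fin (d - 1) ⊕ Fin (d - 1)) ⊕ Fin 2) F) ≠ z • (1 : Matrix ((Fin (d - 1) ⊕ Fin (d - 1)) ⊕ Fin 2) ((Fin (d - 1) ⊕ Fin (d - 1)) ⊕ Fin 2) F)) →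
      ∃ W : Submodule F ((Fin (d - 1) ⊕ Fin (d - 1)) ⊕ Fin 2 → F), (Module.finrank F ↥W = m ∧ Cfsg.Geo.IsTotallySingularQuad (Cfsg.quadFormMinus (d - 1) F a b) W) ∧ W.map (Matrix.toLin' (x : Matrix ((Fin (d - 1) ⊕ Fin (d - 1)) ⊕ Fin 2) ((Fin (d - 1) ⊕ Fin (d - 1)) ⊕ Fin 2) F)) ≤ W) ↔
    ((r = 2 ∧ p ≠ 2 ∧ (Even d ∨ Even m ∨ q % 8 ≠ 7)) ∨
     (r ≠ p ∧ 2 < r ∧ Odd i ∧ i ≤ m ∧ ((2 * d) % c = 0 ∨ 2 * (m % i) < (2 * d) % c)) ∨
     (r ≠ p ∧ 2 < r ∧ Even i ∧ i ≤ m ∧ (r - 1) / i + 2 * (m / i) ≤ (2 * d) / i ∧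
       ((2 * (m % i) ≤ i ∧ (2 * d) % c = 0 ∧ Even ((2 * d) / i) ∧ (r - 1) / i + 2 * (m / i) < (2 * d) / i) ∨
        (2 * (m % i) ≤ (2 * d) % c ∧ Odd ((2 * d) / i)) ∨
        (2 * (m % i) < (2 * d) % c ∧ Even ((2 * d) / i))))) := by
  classical
  subst hq
  obtain ⟨l, rfl⟩ : ∃ l, d = l + 1 := ⟨d - 1, by omega⟩
  revert hrΩ
  rw [Nat.add_sub_cancel]
  intro hrΩ
  have hrP : r.Prime := Fact.out
  obtain ⟨hrp, j, hjm, hjr⟩ := TSCount.dvd_count_minus (p := p) hab (show m ≤ l by omega) hrΩ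
  have hsep : ∀ x, (∀ y, polar (qfMinus l F a b) x y = 0) → x = 0 := qfMinus_sep l hab
  have hcard : Fintype.card ((Fin l ⊕ Fin l) ⊕ Fin 2) = 2 * (l + 1) := by simp; omega
  have hV : Module.finrank F ((Fin l ⊕ Fin l) ⊕ Fin 2 → F) = 2 * (l + 1) := by
    rw [Module.finrank_fintype_fun_eq_card, hcard]
  have htop := not_half l hab
  have hcoe : Cfsg.quadFormMinus l F a b = ⇑(qfMinus l F a b) := funext fun v => (qfMinus_apply l a b v).symm
  simp only [hcoe, Cfsg.Geo.IsTotallySingularQuad, and_assoc]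
  by_cases hr2 : r = 2
  · subst hr2
    have hp2 : p ≠ 2 := fun h => hrp h.symm
    have hchar : ringChar F ≠ 2 := by rwa [ringChar.eq F p]
    have h2 : (2 : F) ≠ 0 := Ring.two_ne_zero hchar
    have hsq : IsSquare (-1 : F) ↔ Fintype.card F % 4 ≠ 3 := FiniteField.isSquare_neg_one_iff
    have hsq2 : IsSquare (2 : F) ↔ Fintype.card F % 8 ≠ 3 ∧ Fintype.card F % 8 ≠ 5 := FiniteField.isSquare_two_iff
    constructor
    · intro h
      refine Or.inl ⟨rfl, hp2, ?_⟩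
      by_contra hne
      push Not at hne
      obtain ⟨hdo, hmo, h7⟩ := hne
      have hns : ¬ IsSquare (-1 : F) := fun hs => hsq.1 hs (by omega)
      have hle : Even l := by
        rw [Nat.even_add_one, not_not] at hdo
        exact hdo
      obtain ⟨x, hx, hx2, hxx⟩ := exists_rot_witness h2 hns (hsq2.2 (by omega)) hle hab
      obtain ⟨W, hWd, -, hWi⟩ := h x hx ⟨-1, hx2⟩ fun z hz => by
        rw [sq, Units.val_mul, hz, smul_mul_smul_comm, mul_one] at hx2
        refine hns ⟨z, ?_⟩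
        have := congrFun (congrFun hx2 (.inr 0)) (.inr 0)
        simpa using this.symm
      exact hmo (hWd ▸ IsoTwo.even_finrank (J := Matrix.toLin' (x : Matrix _ _ F))
        (fun v => by simpa [Matrix.toLin'_apply] using hxx v) hns hWi)
    · rintro (⟨-, -, hcond⟩ | ⟨-, h, -⟩ | ⟨-, h, -⟩) x hx ⟨z, hz⟩ hxn
      rotate_left
      · omega
      · omega
      obtain ⟨g, hg, rfl⟩ := hx
      obtain ⟨T, hT⟩ : ∃ T, T = isoLin g := ⟨_, rfl⟩
      have hiso : ∀ v, qfMinus l F a b (T v) = qfMinus l F a b v := fun v => by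
        rw [hT, isoLin, Matrix.toLin'_apply]; exact (mem_isometryGroup_iff _ _).1 g.2 v
      have hTT : ∀ v, T (T v) = z • v := fun v => by
        have h := congrArg (fun M => M *ᵥ v) hz
        rw [sq, Units.val_mul, ← Matrix.mulVec_mulVec, Matrix.smul_mulVec, Matrix.one_mulVec] at h
        rw [hT, isoLin, Matrix.toLin'_apply, Matrix.toLin'_apply]
        exact h
      show ∃ W : Submodule F ((Fin l ⊕ Fin l) ⊕ Fin 2 → F), Module.finrank F ↥W = m ∧
        (∀ w ∈ W, qfMinus l F a b w = 0) ∧ W.map (isoLin g) ≤ W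
      rw [← hT]
      have hz1 : z = 1 ∨ z = -1 := by
        obtain ⟨v, hv⟩ : ∃ v, qfMinus l F a b v ≠ 0 := ⟨Pi.single (.inr 0) 1,
          by simp [qfMinus_apply, Cfsg.quadFormMinus]⟩
        refine mul_self_eq_one_iff.1 (mul_right_cancel₀ hv (Eq.trans ?_ (one_mul _).symm))
        rw [← smul_eq_mul, ← QuadraticMap.map_smul, ← hTT, hiso, hiso]
      rcases hz1 with rfl | rfl
      · simp only [one_smul] at hTT
        obtain ⟨P, N, hP, hN, hPnd, hNnd, hperp, hsup, hsum⟩ := IsoTwo.eigen_split hsep h2 hiso hTT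
        obtain ⟨jN, hjN, -⟩ := IsoTwo.involution_neg hsep h2 g hg (fun v => by rw [← hT]; exact hTT v)
          (fun v => by rw [hN v, hT]) hNnd
        rw [hV] at hsum
        have hsi := hasHalf_sum_iff hsep hPnd hNnd hperp (k₁ := l + 1 - jN) (by omega) hjN
        rw [hsup, iff_false_left htop] at hsi
        obtain ⟨W₁, W₂, hW₁, hW₂, hQ₁, hQ₂, hd'⟩ : ∃ W₁ W₂ : Submodule F ((Fin l ⊕ Fin l) ⊕ Fin 2 → F),
            W₁ ≤ P ∧ W₂ ≤ N ∧ (∀ w ∈ W₁, qfMinus l F a b w = 0) ∧ (∀ w ∈ W₂, qfMinus l F a b w = 0) ∧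
              Module.finrank F W₁ + Module.finrank F W₂ = m := by
          by_cases hPh : HasHalf (qfMinus l F a b) P
          · have hNne : 1 ≤ jN := by
              by_contra h0
              refine hsi (iff_of_true hPh ?_)
              rw [Submodule.finrank_eq_zero.1 (by omega : Module.finrank F N = 0)]
              exact hasHalf_bot _
            obtain ⟨W₁, hW₁, hQ₁, hd₁⟩ := exists_ts_part hsep hPnd (k := min m (l + 1 - jN)) (by omega) (Or.inl hPh)
            obtain ⟨W₂, hW₂, hQ₂, hd₂⟩ := exists_ts_part hsep hNnd (k := m - min m (l + 1 - jN)) (by omega)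
              (Or.inr (by omega))
            exact ⟨W₁, W₂, hW₁, hW₂, hQ₁, hQ₂, by omega⟩
          · have hNh : HasHalf (qfMinus l F a b) N := by
              by_contra hNh; exact hsi (iff_of_false hPh hNh)
            have hPne : jN < l + 1 := by
              by_contra h0
              refine hPh ?_
              rw [Submodule.finrank_eq_zero.1 (by omega : Module.finrank F P = 0)]
              exact hasHalf_bot _
            obtain ⟨W₂, hW₂, hQ₂, hd₂⟩ := exists_ts_part hsep hNnd (k := min m jN) (by omega) (Or.inl hNh)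
            obtain ⟨W₁, hW₁, hQ₁, hd₁⟩ := exists_ts_part hsep hPnd (k := m - min m jN) (by omega)
              (Or.inr (by omega))
            exact ⟨W₁, W₂, hW₁, hW₂, hQ₁, hQ₂, by omega⟩
        obtain ⟨h1, hq', h3⟩ := IsoTwo.join_eigen hsep hP hN hPnd hperp hW₁ hW₂ hQ₁ hQ₂
        exact ⟨W₁ ⊔ W₂, by omega, hq', h3⟩
      · simp only [neg_one_smul] at hTT
        by_cases hs : IsSquare (-1 : F)
        · obtain ⟨ι₀, hι⟩ := hs
          exact IsoTwo.exists_inv_ts_of_sq h2 hTT hiso hι.symm (by omega)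
        · have hde : ¬ Even (l + 1) := mt (IsoTwo.hasHalf_iff_even hsep h2 hTT hiso hs hV).2 htop
          rcases (hcond.resolve_left hde) with ⟨k, rfl⟩ | h7
          · obtain ⟨W, hWi, hW, hWd⟩ := IsoTwo.grow hsep h2 hTT hiso hs k (by omega)
            exact ⟨W, by omega, hW, hWi⟩
          · have h3 : Fintype.card F % 4 = 3 := by by_contra h3; exact hs (hsq.2 h3)
            refine absurd hg (IsoTwo.not_mem_omega hsep h2 hs (fun h => ?_) (Nat.not_even_iff_odd.1 hde) hcard g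
              (fun v => by rw [← hT]; exact hTT v))
            have := (hsq2.1 h).1
            omega
  have hr3 : 2 < r := lt_of_le_of_ne hrP.two_le (Ne.symm hr2)
  have hmain := IsoTS.main (p := p) hsep hr2 hrp hi hc hm (show m < l + 1 by omega) (by omega) hcard (ε := False)
    (iff_false_intro htop)
    (fun k hk Q₀ hQ₀ hcase => by
      rcases dichotomy Q₀ hQ₀ (OrthPrime.finrank_two (F := F) k) with ⟨e, he⟩ | ⟨l', rfl, hM⟩
      · have hlt : k < l + 1 := hcase.resolve_right fun h =>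
          h.1 ((isPlus_iff_hasHalf _ hQ₀ (OrthPrime.finrank_two _)).1 ⟨e, he⟩)
        obtain ⟨ψ, hψ⟩ := embed_plus_minus (F := F) (show k ≤ l by omega) a b
        exact ⟨ψ ∘ₗ e.symm.toLinearMap, fun v => by
          rw [LinearMap.comp_apply, hψ, ← he]; exact congrArg Q₀ (e.apply_symm_apply v)⟩
      · obtain ⟨e, he⟩ := hM a b hab
        obtain ⟨ψ, hψ⟩ := embed_minus_minus (F := F) (show l' ≤ l by omega) a b
        exact ⟨ψ ∘ₗ e.symm.toLinearMap, fun v => by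
          rw [LinearMap.comp_apply, hψ, ← he]; exact congrArg Q₀ (e.apply_symm_apply v)⟩)
    (fun ho => by
      rcases hjr with h | h
      · obtain ⟨u, hu⟩ := IsoOrthBase.dvd_of_sub hi h
        exact ⟨u, j + 1, by rw [mul_assoc, ← mul_add, ← hu]; omega, fun h => h.elim, fun _ => ⟨by omega, by omega⟩⟩
      · exact absurd (IsoOrthBase.odd_part_of_add hi hr2 h).1 (Nat.not_even_iff_odd.2 ho))
    (fun _ => by
      rcases hjr with h | h
      · obtain ⟨u, hu⟩ := IsoOrthBase.dvd_of_sub hi h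
        exact ⟨2 * u, j + 1, by rw [Nat.mul_left_comm, ← mul_add, ← hu]; omega,
          Or.inr ⟨by simp, by omega, by omega⟩⟩
      · obtain ⟨-, s, hs, hs'⟩ := IsoOrthBase.odd_part_of_add hi hr2 h
        exact ⟨s, j, by omega, Or.inl ⟨by simpa using hs, hjm⟩⟩)
  rw [hmain]
  simp only [false_iff, not_false_eq_true, false_and, false_or, true_and, not_not, Nat.not_even_iff_odd, Nat.not_odd_iff_even, hr2, hrp,
    ne_eq, hr3]

end Cfsg.Agent.S5987
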