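import Cfsg.Statements.S5988
import Cfsg.Agent.Lib.MaxSub.IsoNDCrit
import Cfsg.Agent.Lib.MaxSub.IsoNDTwoEven
import Cfsg.Agent.Lib.MaxSub.IsoNDStd
import Cfsg.Agent.Lib.MaxSub.IsoNDPlusUnip
-- import your own Cfsg.Agent.* helpers here

set_option autoImplicit false
open scoped MatrixGroups
open Cfsg

namespace Cfsg.Agent.S5988

open CfsgLib CfsgLib.MaxSub CfsgLib.MaxSub.IsoSemi CfsgLib.MaxSub.IsoType CfsgLib.Classical CfsgLib.Geom CfsgLib.KnownC CfsgLib.KnownC.OrthType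
open Matrix
open QuadraticMap (polar)

/-- Elements of prime order of PΩ⁺_n(q) with no fixed elliptic `m`-space. Here `T = PΩ⁺_n(F)`, `n = 2d ≥ 8`, realised through `Ω⁺_n(q)`, the commutator subgroup of the isometry group of `Q = Σ xᵢyᵢ` over the field `F` with `q` elements; an element of `T` of prime order `r` is an element `x` of `Ω⁺_n(q)` with `x^r` scalar and `x` not scalar; a nondegenerate `m`-space (even `m`) is a subspace on which the polar form of `Q` is nondegenerate; it is hyperbolic if it contains an `m/2`-dimensional subspace on which `Q` vanishes, elliptic otherwise. Let `m` be even with `2 ≤ m < n/2` and let `r` be a prime dividing the number of elliptic `m`-spaces; for `r ≠ p` let `i` be the multiplicative order of `q` modulo `r`, `c = i` for `i` even and `c = 2i` for `i` odd, and write `k = n mod c`, `ℓ = m mod i`, `ℓ' = m mod c`, `n' = ⌊n/i⌋`, `m' = ⌊m/i⌋`, `t = (r−1)/i`. Then every element of `T` of order `r` fixes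 some elliptic `m`-space if and only if one of: (i) `r = 2 ≠ p` and either `n ≡ 0 (mod 4)`, `q ≡ 3 (mod 4)` and `m ≡ 2 (mod 4)`, or `n ≡ 2 (mod 4)` and `q ≢ 1 (mod 8)`; (ii) `r ≠ p` odd, `i` odd, `c ≤ m` and `k > ℓ' > 0`; (iii) `r ≠ p` odd, `i` even, and either `k = 0` and (`n/i` odd, or `ℓ' = 0` and `m/i` odd), or `i ≤ m` and (`k > ℓ' > 0`, or `k = ℓ' > 0` and `(n + m − 2k)/i` odd, or `k > ℓ' = 0` and `m/i` odd). (For `r = p` there is always an element of order `p` fixing no elliptic `m`-space.) -/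
theorem result {F : Type*} [Field F] [Fintype F] {p : ℕ} [Fact p.Prime] [CharP F p] {q : ℕ} (hq : Fintype.card F = q)
    (d m : ℕ) (hd : 4 ≤ d) (hm : 2 ≤ m) (hme : Even m) (hmd : m < d)
    (r : ℕ) [Fact r.Prime]
    (hrΩ : r ∣ Nat.card {W : Submodule F (Fin d ⊕ Fin d → F) // Module.finrank F ↥W = m ∧ Cfsg.Geo.IsNondegenerateOn (QuadraticMap.polar (Cfsg.quadFormPlus d F)) W ∧ ¬ Cfsg.Geo.IsPlusTypeOn (Cfsg.quadFormPlus d F) W})
    (i c : ℕ) (hi : i = orderOf (q : ZMod r)) (hc : c = if Even i then i else 2 * i) :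
    (∀ x : GL (Fin d ⊕ Fin d) F, x ∈ Cfsg.Geo.omegaGL (Cfsg.quadFormPlus d F) →
      (∃ z : F, ((x ^ r : GL (Fin d ⊕ Fin d) F) : Matrix (Fin d ⊕ Fin d) (Fin d ⊕ Fin d) F) = z • (1 : Matrix (Fin d ⊕ Fin d) (Fin d ⊕ Fin d) F)) →
      (∀ z : F, (x : Matrix (Fin d ⊕ Fin d) (Fin d ⊕ Fin d) F) ≠ z • (1 : Matrix (Fin d ⊕ Fin d) (Fin d ⊕ Fin d) F)) →
      ∃ W : Submodule F (Fin d ⊕ Fin d → F), (Module.finrank F ↥W = m ∧ Cfsg.Geo.IsNondegenerateOn (QuadraticMap.polar (Cfsg.quadFormPlus d F)) W ∧ ¬ Cfsg.Geo.IsPlusTypeOn (Cfsg.quadFormPlus d F) W) ∧ W.map (Matrix.toLin' (x : Matrix (Fin d ⊕ Fin d) (Fin d ⊕ Fin d) F)) ≤ W) ↔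
    ((r = 2 ∧ p ≠ 2 ∧ ((Even d ∧ q % 4 = 3 ∧ m % 4 = 2) ∨ (Odd d ∧ q % 8 ≠ 1))) ∨
     (r ≠ p ∧ 2 < r ∧ Odd i ∧ c ≤ m ∧ 0 < m % c ∧ m % c < (2 * d) % c) ∨
     (r ≠ p ∧ 2 < r ∧ Even i ∧
       (((2 * d) % c = 0 ∧ (Odd ((2 * d) / i) ∨ (m % c = 0 ∧ Odd (m / i)))) ∨
        (i ≤ m ∧ ((0 < m % c ∧ m % c < (2 * d) % c) ∨
                  (0 < m % c ∧ m % c = (2 * d) % c ∧ Odd ((2 * d + m - 2 * ((2 * d) % c)) / i)) ∨
                  (m % c = 0 ∧ 0 < (2 * d) % c ∧ Odd (m / i))))))) := by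
  classical
  subst hq
  have hrP : r.Prime := Fact.out
  have hsep : ∀ x, (∀ y, polar (qfPlus d F) x y = 0) → x = 0 := qfPlus_sep d
  have hcard : Fintype.card (Fin d ⊕ Fin d) = 2 * d := by simp; omega
  simp only [← qfPlus_coe, IsoNDTwo.member_minus] at hrΩ ⊢
  by_cases hrp : r = p
  · subst hrp
    refine iff_of_false (fun h => ?_) (fun h => by
      rcases h with ⟨h1, h2, -⟩ | ⟨h, -⟩ | ⟨h, -⟩
      · exact h2 h1
      · exact h rfl
      · exact h rfl)
    obtain ⟨x, hx, hxp, hxn, hxW⟩ := IsoNDPlusUnip.exists_unip (p := r) (F := F) (d := d) (by omega)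
    obtain ⟨W, ⟨hWd, -, hWt⟩, hWi⟩ := h x hx ⟨1, by rw [hxp, one_smul, Units.val_one]⟩ hxn
    obtain ⟨k, hk⟩ := hme.two_dvd
    exact hWt.1 (hxW W hWi k (hWd.trans hk))
  by_cases hr2 : r = 2
  · subst hr2
    have hp2 : p ≠ 2 := fun h => hrp h.symm
    have hchar : ringChar F ≠ 2 := by rwa [ringChar.eq F p]
    have h2 : (2 : F) ≠ 0 := Ring.two_ne_zero hchar
    have hodd : Fintype.card F % 2 = 1 := FiniteField.odd_card_of_char_ne_two hchar
    have hmm := Nat.even_iff.1 hme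
    rw [IsoNDTwoEven.two_iff (ε := True) hsep h2 hcard (by omega) hme (by omega)
      (iff_true_intro (IsoNDStd.plus_top d)) (Or.inl (by omega)) fun h => IsoNDStd.plus_J (h.1 trivial)]
    simp only [true_iff, false_iff, hp2, true_and, lt_self_iff_false, false_and, and_false, or_false, ne_eq,
      not_false_eq_true, FiniteField.isSquare_neg_one_iff, FiniteField.isSquare_two_iff, Nat.even_iff, Nat.odd_iff]
    omega
  have hr3 : 2 < r := lt_of_le_of_ne hrP.two_le (Ne.symm hr2)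
  obtain ⟨v₀, hv₀⟩ : ∃ v₀, qfPlus d F v₀ ≠ 0 :=
    ⟨Pi.single (.inl ⟨0, by omega⟩) 1 + Pi.single (.inr ⟨0, by omega⟩) 1,
      by simp [qfPlus_apply, Cfsg.quadFormPlus, Pi.single_apply]⟩
  rw [IsoNDMain.lhs_scalar (Q := qfPlus d F) (hrP.odd_of_ne_two hr2) hv₀
      (fun W => IsoNDCount.Member (qfPlus d F) m False W),
    IsoNDCrit.even_dim (p := p) (ε := True) hsep hr2 hrp hi hc hcard (by omega) (even_two_mul d) (by omega) hme
      (by omega) (iff_true_intro (IsoNDStd.plus_top d)) (IsoNDStd.plus_emb d) hrΩ]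
  simp only [hr2, hr3, hrp, ne_eq, not_false_eq_true, true_and, false_and, false_or, true_iff, false_iff,
    IsoNDMain.PType]
  rcases Nat.even_or_odd i with hev | hod
  · rw [if_pos hev] at hc
    subst hc
    simp only [Nat.not_odd_iff_even.2 hev, hev, false_and, false_or, true_and, Nat.not_even_iff_odd]
    have hsum : 0 < m % c → m % c = (2 * d) % c →
        (Odd ((2 * d + m - 2 * ((2 * d) % c)) / c) ↔ (Odd (m / c) ↔ Even ((2 * d) / c))) := fun _ h => by
      have hc0 : 0 < c := Nat.pos_of_ne_zero fun e => by subst e; simp at h; omega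
      have h1 : (2 * d + m - 2 * ((2 * d) % c)) = c * ((2 * d) / c + m / c) := by
        have := Nat.div_add_mod (2 * d) c
        have := Nat.div_add_mod m c
        rw [mul_add]; omega
      rw [h1, Nat.mul_div_cancel_left _ hc0, Nat.odd_add']
    rcases Nat.eq_zero_or_pos ((2 * d) % c) with hk | hk <;> rcases Nat.eq_zero_or_pos (m % c) with hl | hl
    · simp only [hk, hl, true_and, le_refl, forall_const, lt_self_iff_false, false_and, and_false, or_false,
        IsEmpty.forall_iff, and_true]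
      exact ⟨fun h => h.imp id fun h => h.2, fun h => h.imp id fun h => ⟨Nat.le_of_dvd (by omega)
        (Nat.dvd_of_mod_eq_zero hl), h⟩⟩
    · simp [hk, hl, hl.ne', Nat.not_le.2 hl]
    · simp [hk, hk.ne', hl, hk.ne]
    · simp only [hk.ne', hl.ne', hk, hl, true_and, false_and, false_or, or_false, IsEmpty.forall_iff, forall_const]
      constructor
      · rintro ⟨hcm, hle, h⟩
        refine ⟨hcm, ?_⟩
        rcases lt_or_eq_of_le hle with h' | h'
        · exact Or.inl h'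
        · exact Or.inr ⟨h', (hsum hl h').2 (h h')⟩
      · rintro ⟨hcm, h | ⟨h, ho⟩⟩
        · exact ⟨hcm, h.le, fun e => absurd e h.ne⟩
        · exact ⟨hcm, h.le, fun _ => (hsum hl h).1 ho⟩
  · simp only [hod, Nat.not_even_iff_odd.2 hod, true_and, false_and, or_false, true_or, not_true, and_false,
      false_iff, iff_true, false_or]
    constructor
    · rintro ⟨hcm, hle, h0, h⟩
      exact ⟨hcm, Nat.pos_of_ne_zero h0, lt_of_le_of_ne hle (h (Nat.pos_of_ne_zero h0))⟩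
    · rintro ⟨hcm, h, h'⟩
      exact ⟨hcm, h'.le, fun e => by omega, fun _ e => absurd e h'.ne⟩

end Cfsg.Agent.S5988
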