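import Cfsg.Statements.S5989
import Cfsg.Agent.Lib.MaxSub.IsoNDOddDim
import Cfsg.Agent.Lib.MaxSub.IsoNDStd
-- import your own Cfsg.Agent.* helpers here

set_option autoImplicit false
open scoped MatrixGroups
open Cfsg

namespace Cfsg.Agent.S5989

open CfsgLib CfsgLib.MaxSub CfsgLib.MaxSub.IsoSemi CfsgLib.MaxSub.IsoType CfsgLib.Classical CfsgLib.Geom CfsgLib.KnownC CfsgLib.KnownC.OrthType
open Matrix
open QuadraticMap (polar)

/-- Elements of prime order of PΩ⁺_n(q), q odd, with no fixed nondegenerate `m`-space of odd dimension. Here `T = PΩ⁺_n(F)`, `n = 2d ≥ 8`, realised through `Ω⁺_n(q)`, the commutator subgroup of the isometry group of `Q = Σ xᵢyᵢ` over the field `F` with `q` elements; an element of `T` of prime order `r` is an element `x` of `Ω⁺_n(q)` with `x^r` scalar and `x` not scalar; `q` and `m` are odd, `1 ≤ m < n/2`. The nondegenerate `m`-spaces (subspaces on which the polar form is nondegenerate) fall into two isometry classes,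 each an orbit of `T`, and the two actions are equivalent; fix one such space `W₀` and let Ω be the set of nondegenerate `m`-spaces isometric to `W₀` (some linear isomorphism preserves `Q`). Let `r` be a prime dividing the size of Ω; for `r ≠ p` let `i` be the multiplicative order of `q` modulo `r`, `c = i` for `i` even and `c = 2i` for `i` odd, and write `k = n mod c`, `ℓ = m mod i`, `ℓ' = m mod c`, `n' = ⌊n/i⌋`, `m' = ⌊m/i⌋`, `t = (r−1)/i`. Then every element of `T` of order `r` fixes a member of Ω if and only if one of: (i) `r = 2`, `n ≡ 2 (mod 4)` and `q ≢ 1 (mod 8)`; (ii) `r ≠ p` odd, `i` odd, `c ≤ m` and `k > ℓ' > 0`; (iii) `r ≠ p` odd, `i` even, and either `k = 0` and `n/i` odd, or `i ≤ m` and `k > ℓ' > 0`. (For `r = p` there is always an element of order `p` fixing no member of Ω.) -/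
theorem result {F : Type*} [Field F] [Fintype F] {p : ℕ} [Fact p.Prime] [CharP F p] {q : ℕ} (hq : Fintype.card F = q)
    (hodd : Odd q) (d m : ℕ) (hd : 4 ≤ d) (hm : Odd m) (hmd : m < d)
    (W₀ : Submodule F (Fin d ⊕ Fin d → F)) (hW₀ : Module.finrank F ↥W₀ = m ∧ Cfsg.Geo.IsNondegenerateOn (QuadraticMap.polar (Cfsg.quadFormPlus d F)) W₀)
    (r : ℕ) [Fact r.Prime]
    (hrΩ : r ∣ Nat.card {W : Submodule F (Fin d ⊕ Fin d → F) // Module.finrank F ↥W = m ∧ Cfsg.Geo.IsNondegenerateOn (QuadraticMap.polar (Cfsg.quadFormPlus d F)) W ∧ Cfsg.Geo.AreIsometricFor (Cfsg.quadFormPlus d F) W W₀})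
    (i c : ℕ) (hi : i = orderOf (q : ZMod r)) (hc : c = if Even i then i else 2 * i) :
    (∀ x : GL (Fin d ⊕ Fin d) F, x ∈ Cfsg.Geo.omegaGL (Cfsg.quadFormPlus d F) →
      (∃ z : F, ((x ^ r : GL (Fin d ⊕ Fin d) F) : Matrix (Fin d ⊕ Fin d) (Fin d ⊕ Fin d) F) = z • (1 : Matrix (Fin d ⊕ Fin d) (Fin d ⊕ Fin d) F)) →
      (∀ z : F, (x : Matrix (Fin d ⊕ Fin d) (Fin d ⊕ Fin d) F) ≠ z • (1 : Matrix (Fin d ⊕ Fin d) (Fin d ⊕ Fin d) F)) →
      ∃ W : Submodule F (Fin d ⊕ Fin d → F), (Module.finrank F ↥W = m ∧ Cfsg.Geo.IsNondegenerateOn (QuadraticMap.polar (Cfsg.quadFormPlus d F)) W ∧ Cfsg.Geo.AreIsometricFor (Cfsg.quadFormPlus d F) W W₀) ∧ W.map (Matrix.toLin' (x : Matrix (Fin d ⊕ Fin d) (Fin d ⊕ Fin d) F)) ≤ W) ↔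
    ((r = 2 ∧ Odd d ∧ q % 8 ≠ 1) ∨
     (r ≠ p ∧ 2 < r ∧ Odd i ∧ c ≤ m ∧ 0 < m % c ∧ m % c < (2 * d) % c) ∨
     (r ≠ p ∧ 2 < r ∧ Even i ∧ (((2 * d) % c = 0 ∧ Odd ((2 * d) / i)) ∨ (i ≤ m ∧ 0 < m % c ∧ m % c < (2 * d) % c)))) := by
  classical
  subst hq
  have hrP : r.Prime := Fact.out
  have hsep : ∀ x, (∀ y, polar (qfPlus d F) x y = 0) → x = 0 := qfPlus_sep d
  have hcard : Fintype.card (Fin d ⊕ Fin d) = 2 * d := by simp; omega
  simp only [← qfPlus_coe] at hW₀ hrΩ ⊢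
  simp only [IsoNDOddDim.member_geo hW₀.1] at hrΩ ⊢
  obtain ⟨hW₀d, hW₀'⟩ := hW₀
  have hW₀n := IsoNDTwo.nd_iff_geo.1 hW₀'
  have hq2 := Nat.odd_iff.1 hodd
  have hchar : ringChar F ≠ 2 := fun h => by
    have := FiniteField.even_card_of_char_two (F := F) h
    omega
  have h2 : (2 : F) ≠ 0 := Ring.two_ne_zero hchar
  by_cases hr2 : r = 2
  · subst hr2
    rw [IsoNDOddDim.two_iff (ε := True) hsep h2 hcard (iff_true_intro (IsoNDStd.plus_top d)) hm (by omega) hW₀n
      hW₀d fun h => IsoNDStd.plus_J (h.1 trivial)]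
    simp only [true_iff, true_and, lt_self_iff_false, false_and, and_false, or_false,
      FiniteField.isSquare_neg_one_iff, FiniteField.isSquare_two_iff, Nat.even_iff, Nat.odd_iff]
    omega
  by_cases hrp : r = p
  · subst hrp
    exact iff_of_false (IsoNDOddDim.not_all_p (p := r) hsep h2 hcard hd hW₀n (hW₀d.symm ▸ hm))
      (by simp [hr2])
  have hr3 : 2 < r := lt_of_le_of_ne hrP.two_le (Ne.symm hr2)
  obtain ⟨v₀, hv₀⟩ : ∃ v₀, qfPlus d F v₀ ≠ 0 :=
    ⟨Pi.single (.inl ⟨0, by omega⟩) 1 + Pi.single (.inr ⟨0, by omega⟩) 1,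
      by simp [qfPlus_apply, Cfsg.quadFormPlus, Pi.single_apply]⟩
  rw [IsoNDMain.lhs_scalar (Q := qfPlus d F) (hrP.odd_of_ne_two hr2) hv₀
      (fun W => IsoNDCountIso.MemberIso (qfPlus d F) ((qfPlus d F).comp W₀.subtype) W),
    IsoNDOddDim.criterion (p := p) (ε := True) hsep hr2 hrp hi hc hcard (by omega) h2
      (iff_true_intro (IsoNDStd.plus_top d)) hm (by omega) hW₀n hW₀d (IsoNDStd.plus_emb d) hrΩ]
  have hmc : 0 < m % c := by
    have hce : 2 ∣ c := by
      rw [hc]; split_ifs with h' <;> [exact h'.two_dvd; exact dvd_mul_right 2 i]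
    have := Nat.mod_mod_of_dvd m hce
    have := Nat.odd_iff.1 hm
    omega
  simp only [hr2, hr3, hrp, ne_eq, not_false_eq_true, true_and, false_and, false_or, true_iff, IsoNDMain.PType, hmc]
  rcases Nat.even_or_odd i with hev | hod
  · rw [if_pos hev] at hc
    subst hc
    simp only [Nat.not_odd_iff_even.2 hev, hev, false_and, false_or, true_and, Nat.not_even_iff_odd]
  · simp only [hod, Nat.not_even_iff_odd.2 hod, true_and, false_and, or_false, true_or, not_true, and_false,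
      false_or]

end Cfsg.Agent.S5989
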