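import Cfsg.Statements.S5990
import Cfsg.Agent.Lib.MaxSub.IsoNDCrit
import Cfsg.Agent.Lib.MaxSub.IsoNDTwoEven
import Cfsg.Agent.Lib.MaxSub.IsoNDStd
import Cfsg.Agent.Lib.MaxSub.IsoNDMinusTwo
-- import your own Cfsg.Agent.* helpers here

set_option autoImplicit false
open scoped MatrixGroups
open Cfsg

namespace Cfsg.Agent.S5990

open CfsgLib CfsgLib.MaxSub CfsgLib.MaxSub.IsoSemi CfsgLib.MaxSub.IsoType CfsgLib.Classical CfsgLib.Geom CfsgLib.KnownC CfsgLib.KnownC.OrthType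
open Matrix
open QuadraticMap (polar)

/-- Elements of prime order of PΩ⁻_n(q) with no fixed elliptic `m`-space. Here `T = PΩ⁻_n(F)`, `n = 2d ≥ 8`, realised through `Ω⁻_n(q)`, the commutator subgroup of the isometry group of `Q = Σ_{i<d−1} xᵢyᵢ + z₁² + a z₁z₂ + b z₂²` with `z₁² + a z₁z₂ + b z₂²` anisotropic, over the field `F` with `q` elements; an element of `T` of prime order `r` is an element `x` of `Ω⁻_n(q)` with `x^r` scalar and `x` not scalar; a nondegenerate `m`-space (even `m`) is a subspace on which the polar form of `Q` is nondegenerate; it is hyperbolic if it contains an `m/2`-dimensional subspace on which `Q` vanishes, elliptic otherwise. Let `m` be even with `2 ≤ m ≤ n − 2` (no restriction `m < n/2`: fixing an elliptic `m`-space is the same as fixing its hyperbolic orthogonal complement) and let `r` be a prime dividing the number of elliptic `m`-spaces, with `r = 2` or `r ≠ p`; for `r ≠ p` let `i` be the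 multiplicative order of `q` modulo `r`, `c = i` for `i` even and `c = 2i` for `i` odd, and write `k = n mod c`, `ℓ = m mod i`, `ℓ' = m mod c`, `n' = ⌊n/i⌋`, `m' = ⌊m/i⌋`, `t = (r−1)/i`. Then every element of `T` of order `r` fixes some elliptic `m`-space if and only if one of: (i) `r = p = 2` and (`n ≡ 0 (mod 4)` or `m ≡ 2 (mod 4)`); (ii) `r = 2 ≠ p` and (`n ≡ 0 (mod 4)`, or `q ≢ 7 (mod 8)`, or `m ≡ 2 (mod 4)`); (iii) `r ≠ p` odd, `i` odd, and `k = 0` or (`c ≤ m` and `k ≥ ℓ' > 0`); (iv) `r ≠ p` odd, `i` even, and either `k = 0` and (`n/i` even, or `ℓ' = 0` and `m/i` odd), or `k > 0`, `i ≤ m` and (`k > ℓ' > 0`, or `ℓ' = 0` and `m/i` odd, or `k = ℓ'` and `(n + m − 2k)/i` even). (Odd `r = p` is not covered by this statement.) -/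
theorem result {F : Type*} [Field F] [Fintype F] {p : ℕ} [Fact p.Prime] [CharP F p] {q : ℕ} (hq : Fintype.card F = q)
    (d m : ℕ) (hd : 4 ≤ d) (hm : 2 ≤ m) (hme : Even m) (hmn : m + 2 ≤ 2 * d) (a b : F) (hab : ∀ x y : F, x ^ 2 + a * x * y + b * y ^ 2 = 0 → x = 0 ∧ y = 0)
    (r : ℕ) [Fact r.Prime] (hr : r = 2 ∨ r ≠ p)
    (hrΩ : r ∣ Nat.card {W : Submodule F ((Fin (d - 1) ⊕ Fin (d - 1)) ⊕ Fin 2 → F) // Module.finrank F ↥W = m ∧ Cfsg.Geo.IsNondegenerateOn (QuadraticMap.polar (Cfsg.quadFormMinus (d - 1) F a b)) W ∧ ¬ Cfsg.Geo.IsPlusTypeOn (Cfsg.quadFormMinus (d - 1) F a b) W})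
    (i c : ℕ) (hi : i = orderOf (q : ZMod r)) (hc : c = if Even i then i else 2 * i) :
    (∀ x : GL ((Fin (d - 1) ⊕ Fin (d - 1)) ⊕ Fin 2) F, x ∈ Cfsg.Geo.omegaGL (Cfsg.quadFormMinus (d - 1) F a b) →
      (∃ z : F, ((x ^ r : GL ((Fin (d - 1) ⊕ Fin (d - 1)) ⊕ Fin 2) F) : Matrix ((Fin (d - 1) ⊕ Fin (d - 1)) ⊕ Fin 2) ((Fin (d - 1) ⊕ Fin (d - 1)) ⊕ Fin 2) F) = z • (1 : Matrix ((Fin (d - 1) ⊕ Fin (d - 1)) ⊕ Fin 2) ((Fin (d - 1) ⊕ Fin (d - 1)) ⊕ Fin 2) F)) →
      (∀ z : F, (x : Matrix ((Fin (d - 1) ⊕ Fin (d - 1)) ⊕ Fin 2) ((Fin (d - 1) ⊕ Fin (d - 1)) ⊕ Fin 2) F) ≠ z • (1 : Matrix ((Fin (d - 1) ⊕ Fin (d - 1)) ⊕ Fin 2) ((Fin (d - 1) ⊕ Fin (d - 1)) ⊕ Fin 2) F)) →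
      ∃ W : Submodule F ((Fin (d - 1) ⊕ Fin (d - 1)) ⊕ Fin 2 → F), (Module.finrank F ↥W = m ∧ Cfsg.Geo.IsNondegenerateOn (QuadraticMap.polar (Cfsg.quadFormMinus (d - 1) F a b)) W ∧ ¬ Cfsg.Geo.IsPlusTypeOn (Cfsg.quadFormMinus (d - 1) F a b) W) ∧ W.map (Matrix.toLin' (x : Matrix ((Fin (d - 1) ⊕ Fin (d - 1)) ⊕ Fin 2) ((Fin (d - 1) ⊕ Fin (d - 1)) ⊕ Fin 2) F)) ≤ W) ↔
    ((r = 2 ∧ p = 2 ∧ (Even d ∨ m % 4 = 2)) ∨
     (r = 2 ∧ p ≠ 2 ∧ (Even d ∨ q % 8 ≠ 7 ∨ m % 4 = 2)) ∨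
     (r ≠ p ∧ 2 < r ∧ Odd i ∧ ((2 * d) % c = 0 ∨ (c ≤ m ∧ 0 < m % c ∧ m % c ≤ (2 * d) % c))) ∨
     (r ≠ p ∧ 2 < r ∧ Even i ∧
       (((2 * d) % c = 0 ∧ (Even ((2 * d) / i) ∨ (m % c = 0 ∧ Odd (m / i)))) ∨
        (0 < (2 * d) % c ∧ i ≤ m ∧ ((0 < m % c ∧ m % c < (2 * d) % c) ∨ (m % c = 0 ∧ Odd (m / i)) ∨
                                    (m % c = (2 * d) % c ∧ Even ((2 * d + m - 2 * ((2 * d) % c)) / i))))))) := by
  classical
  subst hq
  obtain ⟨l, rfl⟩ : ∃ l, d = l + 1 := ⟨d - 1, by omega⟩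
  revert hrΩ
  rw [Nat.add_sub_cancel]
  intro hrΩ
  have hrP : r.Prime := Fact.out
  have hsep : ∀ x, (∀ y, polar (qfMinus l F a b) x y = 0) → x = 0 := qfMinus_sep l hab
  have hcard : Fintype.card ((Fin l ⊕ Fin l) ⊕ Fin 2) = 2 * (l + 1) := by simp; omega
  have hmm := Nat.even_iff.1 hme
  simp only [← qfMinus_coe, IsoNDTwo.member_minus] at hrΩ ⊢
  by_cases hr2 : r = 2
  · subst hr2
    by_cases hp2 : p = 2
    · subst hp2
      have h2 : (2 : F) = 0 := CharP.cast_eq_zero F 2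
      rw [IsoNDMinusTwo.two_iff hab h2 (by omega) hme hm (by omega)]
      simp only [ne_eq, not_true, lt_self_iff_false, false_and, and_false, true_and, or_false]
    have hchar : ringChar F ≠ 2 := by rwa [ringChar.eq F p]
    have h2 : (2 : F) ≠ 0 := Ring.two_ne_zero hchar
    have hodd : Fintype.card F % 2 = 1 := FiniteField.odd_card_of_char_ne_two hchar
    rw [IsoNDTwoEven.two_iff (ε := False) hsep h2 hcard (by omega) hme (by omega)
      (iff_false_intro (IsoNDStd.minus_top l hab)) (Or.inr id) fun h => IsoNDStd.minus_J hab h2 h]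
    simp only [false_iff, true_and, false_and, false_or, hp2, ne_eq, not_false_eq_true, lt_self_iff_false, and_false,
      or_false, FiniteField.isSquare_neg_one_iff, FiniteField.isSquare_two_iff, Nat.even_iff]
    omega
  have hrp : r ≠ p := hr.resolve_left hr2
  have hr3 : 2 < r := lt_of_le_of_ne hrP.two_le (Ne.symm hr2)
  obtain ⟨v₀, hv₀⟩ : ∃ v₀, qfMinus l F a b v₀ ≠ 0 :=
    ⟨Pi.single (.inr 0) 1, by simp [qfMinus_apply, Cfsg.quadFormMinus]⟩
  rw [IsoNDMain.lhs_scalar (Q := qfMinus l F a b) (hrP.odd_of_ne_two hr2) hv₀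
      (fun W => IsoNDCount.Member (qfMinus l F a b) m False W),
    IsoNDCrit.even_dim (p := p) (ε := False) hsep hr2 hrp hi hc hcard (by omega) (even_two_mul _) (by omega) hme
      (by omega) (iff_false_intro (IsoNDStd.minus_top l hab)) (IsoNDStd.minus_emb hab l) hrΩ]
  simp only [hr2, hr3, hrp, ne_eq, not_false_eq_true, true_and, false_and, false_or, false_iff, not_not,
    IsoNDMain.PType]
  rcases Nat.even_or_odd i with hev | hod
  · rw [if_pos hev] at hc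
    subst hc
    simp only [Nat.not_odd_iff_even.2 hev, hev, false_and, false_or, true_and, Nat.not_even_iff_odd]
    have hsum : m % c = (2 * (l + 1)) % c → 0 < m % c →
        (Even ((2 * (l + 1) + m - 2 * ((2 * (l + 1)) % c)) / c) ↔ (Odd (m / c) ↔ Odd ((2 * (l + 1)) / c))) := fun h h0 => by
      have hc0 : 0 < c := Nat.pos_of_ne_zero fun e => by subst e; simp at h; omega
      have h1 : (2 * (l + 1) + m - 2 * ((2 * (l + 1)) % c)) = c * ((2 * (l + 1)) / c + m / c) := by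
        have := Nat.div_add_mod (2 * (l + 1)) c
        have := Nat.div_add_mod m c
        have := mul_add c ((2 * (l + 1)) / c) (m / c)
        omega
      rw [h1, Nat.mul_div_cancel_left _ hc0, Nat.even_add']
      exact iff_comm
    rcases Nat.eq_zero_or_pos ((2 * (l + 1)) % c) with hk | hk <;> rcases Nat.eq_zero_or_pos (m % c) with hl | hl
    · simp only [hk, hl, true_and, le_refl, forall_const, lt_self_iff_false, false_and, or_false,
        IsEmpty.forall_iff, and_true]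
      exact ⟨fun h => h.imp id fun h => h.2, fun h => h.imp id fun h => ⟨Nat.le_of_dvd (by omega)
        (Nat.dvd_of_mod_eq_zero hl), h⟩⟩
    · simp [hk, hl.ne', Nat.not_le.2 hl]
    · simp [hk, hk.ne', hl, hk.ne]
    · simp only [hk.ne', hl.ne', hk, hl, true_and, false_and, false_or, IsEmpty.forall_iff, forall_const]
      constructor
      · rintro ⟨hcm, hle, h⟩
        refine ⟨hcm, ?_⟩
        rcases lt_or_eq_of_le hle with h' | h'
        · exact Or.inl h'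
        · exact Or.inr ⟨h', (hsum h' hl).2 (h h')⟩
      · rintro ⟨hcm, h | ⟨h, ho⟩⟩
        · exact ⟨hcm, h.le, fun e => absurd e h.ne⟩
        · exact ⟨hcm, h.le, fun _ => (hsum h hl).1 ho⟩
  · simp only [hod, Nat.not_even_iff_odd.2 hod, true_and, false_and, or_false, true_or, not_true, and_true,
      iff_true, iff_false, not_not]
    constructor
    · rintro (h | ⟨hcm, hle, h0, h⟩)
      · exact Or.inl h
      · exact Or.inr ⟨hcm, Nat.pos_of_ne_zero h0, hle⟩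
    · rintro (h | ⟨hcm, h, h'⟩)
      · exact Or.inl h
      · exact Or.inr ⟨hcm, h', fun e => by omega, fun _ _ => trivial⟩

end Cfsg.Agent.S5990
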