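import Cfsg.Statements.S5991
import Cfsg.Agent.Lib.MaxSub.IsoNDOddDim
import Cfsg.Agent.Lib.MaxSub.IsoNDStd
-- import your own Cfsg.Agent.* helpers here

set_option autoImplicit false
open scoped MatrixGroups
open Cfsg

namespace Cfsg.Agent.S5991

open CfsgLib CfsgLib.MaxSub CfsgLib.MaxSub.IsoSemi CfsgLib.MaxSub.IsoType CfsgLib.Classical CfsgLib.Geom CfsgLib.KnownC CfsgLib.KnownC.OrthType
open Matrix
open QuadraticMap (polar)

/-- Elements of prime order of PΩ⁻_n(q), q odd, with no fixed nondegenerate `m`-space of odd dimension. Here `T = PΩ⁻_n(F)`, `n = 2d ≥ 8`, realised through `Ω⁻_n(q)`, the commutator subgroup of the isometry group of `Q = Σ_{i<d−1} xᵢyᵢ + z₁² + a z₁z₂ + b z₂²` with `z₁² + a z₁z₂ + b z₂²` anisotropic, over the field `F` with `q` elements; an element of `T` of prime order `r` is an element `x` of `Ω⁻_n(q)` with `x^r` scalar and `x` not scalar; `q` and `m` are odd, `1 ≤ m < n/2`.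 The nondegenerate `m`-spaces fall into two isometry classes, each an orbit of `T`, with equivalent actions; fix one such space `W₀` and let Ω be the set of nondegenerate `m`-spaces isometric to `W₀`. Let `r` be a prime dividing the size of Ω; for `r ≠ p` let `i` be the multiplicative order of `q` modulo `r`, `c = i` for `i` even and `c = 2i` for `i` odd, and write `k = n mod c`, `ℓ = m mod i`, `ℓ' = m mod c`, `n' = ⌊n/i⌋`, `m' = ⌊m/i⌋`, `t = (r−1)/i`. Then every element of `T` of order `r` fixes a member of Ω if and only if one of: (i) `r = 2` and (`n ≡ 0 (mod 4)` or `q ≢ 7 (mod 8)`); (ii) `r ≠ p` odd, `i` odd, and `k = 0` or (`c ≤ m` and `k > ℓ' > 0`); (iii) `r ≠ p` odd, `i` even, and either `k = 0` and `n/i` even, or `k > 0`, `i ≤ m` and `k > ℓ' > 0`. (For `r = p` there is always an element of order `p` fixing no member of Ω.) -/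
theorem result {F : Type*} [Field F] [Fintype F] {p : ℕ} [Fact p.Prime] [CharP F p] {q : ℕ} (hq : Fintype.card F = q)
    (hodd : Odd q) (d m : ℕ) (hd : 4 ≤ d) (hm : Odd m) (hmd : m < d) (a b : F) (hab : ∀ x y : F, x ^ 2 + a * x * y + b * y ^ 2 = 0 → x = 0 ∧ y = 0)
    (W₀ : Submodule F ((Fin (d - 1) ⊕ Fin (d - 1)) ⊕ Fin 2 → F)) (hW₀ : Module.finrank F ↥W₀ = m ∧ Cfsg.Geo.IsNondegenerateOn (QuadraticMap.polar (Cfsg.quadFormMinus (d - 1) F a b)) W₀)
    (r : ℕ) [Fact r.Prime]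
    (hrΩ : r ∣ Nat.card {W : Submodule F ((Fin (d - 1) ⊕ Fin (d - 1)) ⊕ Fin 2 → F) // Module.finrank F ↥W = m ∧ Cfsg.Geo.IsNondegenerateOn (QuadraticMap.polar (Cfsg.quadFormMinus (d - 1) F a b)) W ∧ Cfsg.Geo.AreIsometricFor (Cfsg.quadFormMinus (d - 1) F a b) W W₀})
    (i c : ℕ) (hi : i = orderOf (q : ZMod r)) (hc : c = if Even i then i else 2 * i) :
    (∀ x : GL ((Fin (d - 1) ⊕ Fin (d - 1)) ⊕ Fin 2) F, x ∈ Cfsg.Geo.omegaGL (Cfsg.quadFormMinus (d - 1) F a b) →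
      (∃ z : F, ((x ^ r : GL ((Fin (d - 1) ⊕ Fin (d - 1)) ⊕ Fin 2) F) : Matrix ((Fin (d - 1) ⊕ Fin (d - 1)) ⊕ Fin 2) ((Fin (d - 1) ⊕ Fin (d - 1)) ⊕ Fin 2) F) = z • (1 : Matrix ((Fin (d - 1) ⊕ Fin (d - 1)) ⊕ Fin 2) ((Fin (d - 1) ⊕ Fin (d - 1)) ⊕ Fin 2) F)) →
      (∀ z : F, (x : Matrix ((Fin (d - 1) ⊕ Fin (d - 1)) ⊕ Fin 2) ((Fin (d - 1) ⊕ Fin (d - 1)) ⊕ Fin 2) F) ≠ z • (1 : Matrix ((Fin (d - 1) ⊕ Fin (d - 1)) ⊕ Fin 2) ((Fin (d - 1) ⊕ Fin (d - 1)) ⊕ Fin 2) F)) →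
      ∃ W : Submodule F ((Fin (d - 1) ⊕ Fin (d - 1)) ⊕ Fin 2 → F), (Module.finrank F ↥W = m ∧ Cfsg.Geo.IsNondegenerateOn (QuadraticMap.polar (Cfsg.quadFormMinus (d - 1) F a b)) W ∧ Cfsg.Geo.AreIsometricFor (Cfsg.quadFormMinus (d - 1) F a b) W W₀) ∧ W.map (Matrix.toLin' (x : Matrix ((Fin (d - 1) ⊕ Fin (d - 1)) ⊕ Fin 2) ((Fin (d - 1) ⊕ Fin (d - 1)) ⊕ Fin 2) F)) ≤ W) ↔
    ((r = 2 ∧ (Even d ∨ q % 8 ≠ 7)) ∨
     (r ≠ p ∧ 2 < r ∧ Odd i ∧ ((2 * d) % c = 0 ∨ (c ≤ m ∧ 0 < m % c ∧ m % c < (2 * d) % c))) ∨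
     (r ≠ p ∧ 2 < r ∧ Even i ∧ (((2 * d) % c = 0 ∧ Even ((2 * d) / i)) ∨ (0 < (2 * d) % c ∧ i ≤ m ∧ 0 < m % c ∧ m % c < (2 * d) % c)))) := by
  classical
  subst hq
  obtain ⟨l, rfl⟩ : ∃ l, d = l + 1 := ⟨d - 1, by omega⟩
  revert W₀
  rw [Nat.add_sub_cancel]
  intro W₀ hW₀ hrΩ
  have hrP : r.Prime := Fact.out
  have hsep : ∀ x, (∀ y, polar (qfMinus l F a b) x y = 0) → x = 0 := qfMinus_sep l hab
  have hcard : Fintype.card ((Fin l ⊕ Fin l) ⊕ Fin 2) = 2 * (l + 1) := by simp; omega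
  simp only [← qfMinus_coe] at hW₀ hrΩ ⊢
  simp only [IsoNDOddDim.member_geo hW₀.1] at hrΩ ⊢
  obtain ⟨hW₀d, hW₀'⟩ := hW₀
  have hW₀n := IsoNDTwo.nd_iff_geo.1 hW₀'
  have hq2 := Nat.odd_iff.1 hodd
  have hchar : ringChar F ≠ 2 := fun h => by
    have := FiniteField.even_card_of_char_two (F := F) h
    omega
  have h2 : (2 : F) ≠ 0 := Ring.two_ne_zero hchar
  by_cases hr2 : r = 2
  · subst hr2
    rw [IsoNDOddDim.two_iff (ε := False) hsep h2 hcard (iff_false_intro (IsoNDStd.minus_top l hab)) hm (by omega) hW₀n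
      hW₀d fun h => IsoNDStd.minus_J hab h2 h]
    simp only [false_iff, true_and, lt_self_iff_false, false_and, and_false, or_false,
      FiniteField.isSquare_neg_one_iff, FiniteField.isSquare_two_iff, Nat.even_iff, Nat.odd_iff]
    omega
  by_cases hrp : r = p
  · subst hrp
    exact iff_of_false (IsoNDOddDim.not_all_p (p := r) hsep h2 hcard hd hW₀n (hW₀d.symm ▸ hm))
      (by simp [hr2])
  have hr3 : 2 < r := lt_of_le_of_ne hrP.two_le (Ne.symm hr2)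
  obtain ⟨v₀, hv₀⟩ : ∃ v₀, qfMinus l F a b v₀ ≠ 0 :=
    ⟨Pi.single (.inr 0) 1, by simp [qfMinus_apply, Cfsg.quadFormMinus]⟩
  rw [IsoNDMain.lhs_scalar (Q := qfMinus l F a b) (hrP.odd_of_ne_two hr2) hv₀
      (fun W => IsoNDCountIso.MemberIso (qfMinus l F a b) ((qfMinus l F a b).comp W₀.subtype) W),
    IsoNDOddDim.criterion (p := p) (ε := False) hsep hr2 hrp hi hc hcard (by omega) h2
      (iff_false_intro (IsoNDStd.minus_top l hab)) hm (by omega) hW₀n hW₀d (IsoNDStd.minus_emb hab l) hrΩ]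
  have hmc : 0 < m % c := by
    have hce : 2 ∣ c := by
      rw [hc]; split_ifs with h' <;> [exact h'.two_dvd; exact dvd_mul_right 2 i]
    have := Nat.mod_mod_of_dvd m hce
    have := Nat.odd_iff.1 hm
    omega
  simp only [hr2, hr3, hrp, ne_eq, not_false_eq_true, true_and, false_and, false_or, false_iff, not_not,
    IsoNDMain.PType, hmc]
  rcases Nat.even_or_odd i with hev | hod
  · rw [if_pos hev] at hc
    subst hc
    simp only [Nat.not_odd_iff_even.2 hev, hev, false_and, false_or, true_and]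
    constructor
    · rintro (h | h)
      · exact Or.inl h
      · exact Or.inr ⟨by omega, h⟩
    · exact Or.imp id And.right
  · simp only [hod, Nat.not_even_iff_odd.2 hod, true_and, false_and, or_false, true_or, and_true]

end Cfsg.Agent.S5991
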