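import Cfsg.Statements.S5992
import Cfsg.Agent.Lib.MaxSub.IsoNDCrit
import Cfsg.Agent.Lib.MaxSub.IsoNDTwo
-- import your own Cfsg.Agent.* helpers here

set_option autoImplicit false
open scoped MatrixGroups
open Cfsg

namespace Cfsg.Agent.S5992

open CfsgLib CfsgLib.MaxSub CfsgLib.MaxSub.IsoSemi CfsgLib.MaxSub.IsoType CfsgLib.Classical CfsgLib.Geom CfsgLib.KnownC CfsgLib.KnownC.OrthType
open Matrix
open QuadraticMap (polar)

/-- Elements of prime order r ≠ p of Ω_n(q), nq odd, with no fixed hyperbolic `m`-space. Here `T = Ω_n(F)`, `n = 2d+1 ≥ 7`, `q` odd, realised as the commutator subgroup of the isometry group of `Q = x₀² + Σ xᵢyᵢ` over the field `F` with `q` elements (trivial centre, so its elements of prime order `r` are used directly); a nondegenerate `m`-space (even `m`) is a subspace on which the polar form of `Q` is nondegenerate; it is hyperbolic if it contains an `m/2`-dimensional subspace on which `Q` vanishes, elliptic otherwise. Let `m` be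 even with `2 ≤ m ≤ n − 1` (no restriction `m < n/2`) and let `r ≠ p` be a prime dividing the number of hyperbolic `m`-spaces; for `r ≠ p` let `i` be the multiplicative order of `q` modulo `r`, `c = i` for `i` even and `c = 2i` for `i` odd, and write `k = n mod c`, `ℓ' = m mod c`. Then every element of `T` of order `r` fixes some hyperbolic `m`-space if and only if `r = 2`, or `r` is odd and one of: (i) `i` odd, `c ≤ m` and either `k > ℓ' > 0` or `ℓ' = 0`; (ii) `i` even, `i ≤ m`, `k > ℓ'`, and `m/i` even whenever `ℓ' = 0`. (`r = p` is not covered by this statement.) -/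
theorem result {F : Type*} [Field F] [Fintype F] {p : ℕ} [Fact p.Prime] [CharP F p] {q : ℕ} (hq : Fintype.card F = q) (hqodd : Odd q)
    (d m : ℕ) (hd : 3 ≤ d) (hm : 2 ≤ m) (hme : Even m) (hmn : m ≤ 2 * d)
    (r : ℕ) [Fact r.Prime] (hrp : r ≠ p)
    (hrΩ : r ∣ Nat.card {W : Submodule F (Unit ⊕ (Fin d ⊕ Fin d) → F) // Module.finrank F ↥W = m ∧ Cfsg.Geo.IsNondegenerateOn (QuadraticMap.polar (Cfsg.quadFormOdd d F)) W ∧ Cfsg.Geo.IsPlusTypeOn (Cfsg.quadFormOdd d F) W})
    (i c : ℕ) (hi : i = orderOf (q : ZMod r)) (hc : c = if Even i then i else 2 * i) :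
    (∀ x : GL (Unit ⊕ (Fin d ⊕ Fin d)) F, x ∈ Cfsg.Geo.omegaGL (Cfsg.quadFormOdd d F) → orderOf x = r →
      ∃ W : Submodule F (Unit ⊕ (Fin d ⊕ Fin d) → F), (Module.finrank F ↥W = m ∧ Cfsg.Geo.IsNondegenerateOn (QuadraticMap.polar (Cfsg.quadFormOdd d F)) W ∧ Cfsg.Geo.IsPlusTypeOn (Cfsg.quadFormOdd d F) W) ∧ W.map (Matrix.toLin' (x : Matrix (Unit ⊕ (Fin d ⊕ Fin d)) (Unit ⊕ (Fin d ⊕ Fin d)) F)) ≤ W) ↔
    (r = 2 ∨
     (2 < r ∧ Odd i ∧ c ≤ m ∧ (m % c = 0 ∨ (0 < m % c ∧ m % c < (2 * d + 1) % c))) ∨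
     (2 < r ∧ Even i ∧ i ≤ m ∧ m % c < (2 * d + 1) % c ∧ (0 < m % c ∨ Even (m / i)))) := by
  classical
  subst hq
  have hrP : r.Prime := Fact.out
  have hchar : ringChar F ≠ 2 := fun h => by
    have := FiniteField.even_card_of_char_two (F := F) h
    have := Nat.odd_iff.1 hqodd
    omega
  have h2 : (2 : F) ≠ 0 := Ring.two_ne_zero hchar
  have hsep : ∀ x, (∀ y, polar (qfOdd d F) x y = 0) → x = 0 := qfOdd_sep h2 d
  simp only [← qfOdd_coe, IsoNDTwo.member_plus] at hrΩ ⊢
  rw [IsoNDMain.lhs_order (Q := qfOdd d F) hrP (fun W => IsoNDCount.Member (qfOdd d F) m True W)]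
  have hcard : Fintype.card (Unit ⊕ (Fin d ⊕ Fin d)) = 2 * d + 1 := by simp; omega
  have hV : Module.finrank F (Unit ⊕ (Fin d ⊕ Fin d) → F) = 2 * d + 1 := by
    rw [Module.finrank_fintype_fun_eq_card, hcard]
  by_cases hr2 : r = 2
  · subst hr2
    refine iff_of_true (fun x hx hx2 _ => ?_) (Or.inl rfl)
    obtain ⟨g, hg, rfl⟩ := hx
    have hTT : ∀ v, isoLin g (isoLin g v) = v := fun v => by
      have h := congrArg (fun M : GL (Unit ⊕ (Fin d ⊕ Fin d)) F => (M : Matrix (Unit ⊕ (Fin d ⊕ Fin d)) (Unit ⊕ (Fin d ⊕ Fin d)) F) *ᵥ v) hx2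
      simp only [sq, Units.val_mul, ← Matrix.mulVec_mulVec, Units.val_one, Matrix.one_mulVec] at h
      rw [isoLin, Matrix.toLin'_apply, Matrix.toLin'_apply]
      exact h
    obtain ⟨P, N, hP, hN, hPnd, hNnd, hperp, -, hsum⟩ := IsoTwo.eigen_split hsep h2
      (fun v => by rw [isoLin, Matrix.toLin'_apply]; exact (mem_isometryGroup_iff _ _).1 g.2 v) hTT
    obtain ⟨j, hj, -⟩ := IsoTwo.involution_neg hsep h2 g hg hTT hN hNnd
    rw [hV] at hsum
    exact IsoNDTwo.involution_member hsep h2 (fun x => (hP x).1) (fun x => (hN x).1) hPnd hNnd hperp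
      (by omega) hme True (by omega) (by have := Nat.even_iff.1 hme; omega)
  rw [IsoNDCrit.odd_dim (p := p) hsep hr2 hrp hi hc hcard (by omega) (by simp) h2 (by omega) hme (by omega) hrΩ]
  have hr3 : 2 < r := lt_of_le_of_ne hrP.two_le (Ne.symm hr2)
  simp only [hr2, hr3, true_and, false_or, true_iff, IsoNDMain.PType]
  have hne : m % c ≠ (2 * d + 1) % c := fun h => by
    have hce : 2 ∣ c := by
      rw [hc]; split_ifs with h' <;> [exact h'.two_dvd; exact dvd_mul_right 2 i]
    have h1 := congrArg (· % 2) h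
    simp only [Nat.mod_mod_of_dvd _ hce] at h1
    have := Nat.even_iff.1 hme
    omega
  rcases Nat.even_or_odd i with hev | hod
  · rw [if_pos hev] at hc
    subst hc
    simp only [Nat.not_odd_iff_even.2 hev, hev, false_and, false_or, true_and]
    constructor
    · rintro ⟨hcm, hle, hη⟩
      exact ⟨hcm, by omega, (Nat.eq_zero_or_pos _).symm.imp id hη⟩
    · rintro ⟨hcm, hlt, h⟩
      exact ⟨hcm, hlt.le, fun h0 => h.resolve_left (by omega)⟩
  · simp only [hod, Nat.not_even_iff_odd.2 hod, true_and, false_and, or_false, true_or, implies_true, and_true]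
    constructor
    · rintro ⟨hcm, hle⟩
      exact ⟨hcm, (Nat.eq_zero_or_pos _).imp id fun h => ⟨h, by omega⟩⟩
    · rintro ⟨hcm, h | ⟨h, h'⟩⟩
      · exact ⟨hcm, by omega⟩
      · exact ⟨hcm, h'.le⟩

end Cfsg.Agent.S5992
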