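import Cfsg.Statements.S5993
import Cfsg.Agent.Lib.MaxSub.IsoNDCrit
import Cfsg.Agent.Lib.MaxSub.IsoNDTwo
import Cfsg.Agent.Lib.MaxSub.IsoNDUnip
-- import your own Cfsg.Agent.* helpers here

set_option autoImplicit false
open scoped MatrixGroups
open Cfsg

namespace Cfsg.Agent.S5993

open CfsgLib CfsgLib.MaxSub CfsgLib.MaxSub.IsoSemi CfsgLib.MaxSub.IsoType CfsgLib.Classical CfsgLib.Geom CfsgLib.KnownC CfsgLib.KnownC.OrthType
open Matrix
open QuadraticMap (polar)

section

universe u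
variable {F : Type u} [Field F] [Fintype F]

/-- An element of order `p` of `Ω` fixing no elliptic subspace. -/
theorem exists_unip {p : ℕ} [Fact p.Prime] [CharP F p] (hp : Odd p) (h2 : (2 : F) ≠ 0) {d : ℕ} (hd : 2 ≤ d) :
    ∃ x : GL (Unit ⊕ (Fin d ⊕ Fin d)) F, x ∈ Cfsg.Geo.omegaGL (⇑(qfOdd d F)) ∧ x ^ p = 1 ∧ x ≠ 1 ∧
      ∀ W : Submodule F (Unit ⊕ (Fin d ⊕ Fin d) → F),
        W.map (Matrix.toLin' (x : Matrix (Unit ⊕ (Fin d ⊕ Fin d)) (Unit ⊕ (Fin d ⊕ Fin d)) F)) ≤ W →
        ∀ k, Module.finrank F W = 2 * k → HasHalf (qfOdd d F) W := by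
  classical
  have hp3 : 3 ≤ p := by
    have := (Fact.out : p.Prime).two_le
    obtain ⟨t, rfl⟩ := hp
    omega
  let toX : (Unit ⊕ (Fin d ⊕ Fin d) → F) →ₗ[F] (Fin d → F) :=
    LinearMap.funLeft F F fun j => Sum.inr (Sum.inr j)
  let toS : (Unit ⊕ (Fin d ⊕ Fin d) → F) →ₗ[F] (Unit ⊕ Fin d → F) :=
    LinearMap.funLeft F F (Sum.map id Sum.inr)
  obtain ⟨X, hXd⟩ : ∃ X, X = LinearMap.ker toX := ⟨_, rfl⟩
  obtain ⟨S, hSd⟩ : ∃ S, S = LinearMap.ker toS := ⟨_, rfl⟩
  have memX : ∀ v, v ∈ X ↔ ∀ j, v (.inr (.inr j)) = 0 := fun v => by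
    rw [hXd, LinearMap.mem_ker, funext_iff]; rfl
  have memS : ∀ v, v ∈ S ↔ v (.inl ()) = 0 ∧ ∀ j, v (.inr (.inr j)) = 0 := fun v => by
    rw [hSd, LinearMap.mem_ker, funext_iff]
    exact ⟨fun h => ⟨h (.inl ()), fun j => h (.inr j)⟩, fun h j => j.casesOn (fun _ => h.1) h.2⟩
  have hS : ∀ w ∈ S, qfOdd d F w = 0 := fun w hw => by
    obtain ⟨h0, hf⟩ := (memS w).1 hw
    simp [qfOdd_apply, Cfsg.quadFormOdd, h0, hf]
  have hSX : S ≤ X := fun w hw => (memX w).2 ((memS w).1 hw).2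
  have hdX : Module.finrank F X ≤ Module.finrank F S + 1 := by
    have h1 := toX.finrank_range_add_finrank_ker
    have h2' := toS.finrank_range_add_finrank_ker
    rw [LinearMap.range_eq_top.2 (LinearMap.funLeft_surjective_of_injective F F _
      (fun a b h => Sum.inr_injective (Sum.inr_injective h))), ← hXd] at h1
    rw [LinearMap.range_eq_top.2 (LinearMap.funLeft_surjective_of_injective F F _
      (Function.Injective.sumMap Function.injective_id Sum.inr_injective)), ← hSd] at h2'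
    simp [Module.finrank_fintype_fun_eq_card] at h1 h2'
    omega
  suffices h : ∃ N : Module.End F (Unit ⊕ (Fin d ⊕ Fin d) → F), (∀ v, qfOdd d F (v + N v) = qfOdd d F v) ∧
      N ^ 3 = 0 ∧ ((LinearMap.ker N ≤ S ∧ LinearMap.range N ≤ X) ∨ (LinearMap.ker N ≤ X ∧ LinearMap.range N ≤ S)) by
    obtain ⟨N, hQ, hN3, hN⟩ := h
    have hH : ∀ v, qfOdd d F ((1 + N) v) = qfOdd d F v := hQ
    have hne : N ≠ 0 := fun h0 => by
      have hK : LinearMap.ker N ≤ X := hN.elim (fun h => h.1.trans hSX) fun h => h.1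
      rw [h0, LinearMap.ker_zero, top_le_iff] at hK
      have h1 : (Pi.single (.inr (.inr ⟨0, by omega⟩)) 1 : Unit ⊕ (Fin d ⊕ Fin d) → F) ∈ (⊤ : Submodule F _) :=
        trivial
      rw [← hK] at h1
      have h3 := (memX _).1 h1 ⟨0, by omega⟩
      rw [Pi.single_eq_same] at h3
      exact one_ne_zero h3
    have hpow : (1 + N) ^ p = 1 := IsoNDUnip.pow_char (by
      rw [add_sub_cancel_left, show p = 3 + (p - 3) by omega, pow_add, hN3, zero_mul])
    obtain ⟨x, hx, hxp, hxT⟩ := IsoNDUnip.mem_omega_of_pow (qfOdd_sep h2 d) h2 hp hH hpow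
    refine ⟨x, hx, hxp, fun h1 => hne ?_, fun W hW k hk =>
      IsoNDUnip.hasHalf_of_inv (T := 1 + N) hS hSX hdX (by rwa [add_sub_cancel_left]) (hxT ▸ hW) hk⟩
    rw [h1, Units.val_one, Matrix.toLin'_one] at hxT
    exact add_eq_left.1 hxT.symm
  rcases Nat.even_or_odd d with hev | ⟨e, he⟩
  · obtain ⟨A, hAA, hA⟩ := IsoTwo.exists_rot (F := F) hev
    have hskew : ∀ f : Fin d → F, ∑ i, A f i * f i = 0 := fun f => by
      have h := hA f (A f)
      rw [hAA] at h
      have h' : ∑ i, f i * A f i = -∑ i, f i * A f i := by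
        rw [← Finset.sum_neg_distrib]
        conv_lhs => rw [← h]
        exact Finset.sum_congr rfl fun i _ => by simp [mul_comm]
      rw [eq_neg_iff_add_eq_zero, ← two_mul] at h'
      simp only [mul_comm (A f _)]
      exact (mul_eq_zero.1 h').resolve_left h2
    let emb : (Fin d → F) →ₗ[F] (Unit ⊕ (Fin d ⊕ Fin d) → F) :=
      LinearMap.pi (Sum.elim (fun _ => 0) (Sum.elim (fun j => LinearMap.proj j) fun _ => 0))
    let N : Module.End F (Unit ⊕ (Fin d ⊕ Fin d) → F) := emb ∘ₗ A ∘ₗ toX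
    have e0 : ∀ v, N v (.inl ()) = 0 := fun v => rfl
    have e1 : ∀ v j, N v (.inr (.inl j)) = A (fun i => v (.inr (.inr i))) j := fun v j => rfl
    have e2 : ∀ v j, N v (.inr (.inr j)) = 0 := fun v j => rfl
    have hrS : ∀ v, N v ∈ S := fun v => (memS _).2 ⟨rfl, fun j => rfl⟩
    have hS0 : ∀ v ∈ S, N v = 0 := fun v hv => funext fun j => by
      have hz : (fun i => v (.inr (.inr i))) = 0 := funext fun i => ((memS v).1 hv).2 i
      rcases j with j | j | j
      · rfl
      · rw [e1, hz, map_zero]; rfl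
      · rfl
    refine ⟨N, fun v => ?_, LinearMap.ext fun v => ?_, Or.inr ⟨fun v hv => (memX v).2 fun j => ?_, ?_⟩⟩
    · simp only [qfOdd_apply, Cfsg.quadFormOdd, Pi.add_apply, e0, e1, e2, add_zero, add_mul,
        Finset.sum_add_distrib, hskew]
    · rw [pow_succ', pow_succ', Module.End.mul_apply, Module.End.mul_apply, pow_one, hS0 _ (hrS v), map_zero]
      rfl
    · rw [LinearMap.mem_ker] at hv
      have h : A (fun i => v (.inr (.inr i))) = 0 := funext fun i => (e1 v i).symm.trans (by rw [hv]; rfl)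
      have h' := congrArg A h
      rw [hAA, map_zero, neg_eq_zero] at h'
      exact congrFun h' j
    · rintro _ ⟨v, rfl⟩; exact hrS v
  · subst he
    obtain ⟨A, hAA, hA⟩ := IsoTwo.exists_rot (F := F) (show Even (2 * e) from even_two_mul e)
    have hskew : ∀ f : Fin (2 * e) → F, ∑ i, A f i * f i = 0 := fun f => by
      have h := hA f (A f)
      rw [hAA] at h
      have h' : ∑ i, f i * A f i = -∑ i, f i * A f i := by
        rw [← Finset.sum_neg_distrib]
        conv_lhs => rw [← h]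
        exact Finset.sum_congr rfl fun i _ => by simp [mul_comm]
      rw [eq_neg_iff_add_eq_zero, ← two_mul] at h'
      simp only [mul_comm (A f _)]
      exact (mul_eq_zero.1 h').resolve_left h2
    let f0 : (Unit ⊕ (Fin (2 * e + 1) ⊕ Fin (2 * e + 1)) → F) →ₗ[F] F := LinearMap.proj (.inr (.inr 0))
    let z : (Unit ⊕ (Fin (2 * e + 1) ⊕ Fin (2 * e + 1)) → F) →ₗ[F] F := LinearMap.proj (.inl ())
    let tl : (Unit ⊕ (Fin (2 * e + 1) ⊕ Fin (2 * e + 1)) → F) →ₗ[F] (Fin (2 * e) → F) :=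
      A ∘ₗ LinearMap.funLeft F F fun j => Sum.inr (Sum.inr j.succ)
    let N : Module.End F (Unit ⊕ (Fin (2 * e + 1) ⊕ Fin (2 * e + 1)) → F) :=
      LinearMap.pi (Sum.elim (fun _ => f0)
        (Sum.elim (Fin.cons ((-2 : F) • z - f0) fun j => LinearMap.proj j ∘ₗ tl) fun _ => 0))
    have e0 : ∀ v, N v (.inl ()) = v (.inr (.inr 0)) := fun v => rfl
    have e1 : ∀ v, N v (.inr (.inl 0)) = -2 * v (.inl ()) - v (.inr (.inr 0)) := fun v => rfl
    have e1' : ∀ v j, N v (.inr (.inl (Fin.succ j))) = A (fun i => v (.inr (.inr i.succ))) j := fun v j => by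
      simp [N, tl, LinearMap.funLeft, Function.comp_def]
    have e2 : ∀ v j, N v (.inr (.inr j)) = 0 := fun v j => rfl
    have hrX : ∀ v, N v ∈ X := fun v => (memX _).2 fun j => rfl
    have hXS : ∀ v ∈ X, N v ∈ S := fun v hv => (memS _).2 ⟨(memX v).1 hv 0, fun j => rfl⟩
    have hS0 : ∀ v ∈ S, N v = 0 := fun v hv => funext fun j => by
      obtain ⟨h0, hf⟩ := (memS v).1 hv
      have hz : (fun i : Fin (2 * e) => v (.inr (.inr i.succ))) = 0 := funext fun i => hf _
      rcases j with j | j | j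
      · exact hf 0
      · refine Fin.cases ?_ (fun j => ?_) j
        · rw [e1, h0, hf 0]; simp
        · rw [e1', hz, map_zero]; rfl
      · rfl
    refine ⟨N, fun v => ?_, LinearMap.ext fun v => ?_, Or.inl ⟨fun v hv => ?_, ?_⟩⟩
    · simp only [qfOdd_apply, Cfsg.quadFormOdd, Fin.sum_univ_succ, Pi.add_apply, e0, e1, e1', e2, add_zero,
        add_mul, Finset.sum_add_distrib, hskew]
      ring
    · rw [pow_succ', pow_succ', Module.End.mul_apply, Module.End.mul_apply, pow_one, hS0 _ (hXS _ (hrX v))]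
      rfl
    · rw [LinearMap.mem_ker] at hv
      have hf0 : v (.inr (.inr 0)) = 0 := (e0 v).symm.trans (by rw [hv]; rfl)
      have hz : v (.inl ()) = 0 := by
        have h := (e1 v).symm.trans (show N v (.inr (.inl 0)) = 0 by rw [hv]; rfl)
        rw [hf0, sub_zero, mul_eq_zero] at h
        exact h.resolve_left (neg_ne_zero.2 h2)
      have h : A (fun i => v (.inr (.inr i.succ))) = 0 := funext fun i => (e1' v i).symm.trans (by rw [hv]; rfl)
      have h' := congrArg A h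
      rw [hAA, map_zero, neg_eq_zero] at h'
      exact (memS v).2 ⟨hz, fun j => Fin.cases hf0 (fun i => congrFun h' i) j⟩
    · rintro _ ⟨v, rfl⟩; exact hrX v

end

/-- Elements of prime order of Ω_n(q), nq odd, with no fixed elliptic `m`-space. Here `T = Ω_n(F)`, `n = 2d+1 ≥ 7`, `q` odd, realised as the commutator subgroup of the isometry group of `Q = x₀² + Σ xᵢyᵢ` over the field `F` with `q` elements (trivial centre, so its elements of prime order `r` are used directly); a nondegenerate `m`-space (even `m`) is a subspace on which the polar form of `Q` is nondegenerate; it is hyperbolic if it contains an `m/2`-dimensional subspace on which `Q` vanishes, elliptic otherwise. Let `m` be even with `2 ≤ m ≤ n − 1` (no restriction `m < n/2`) and let `r` be a prime dividing the number of elliptic `m`-spaces; for `r ≠ p` let `i` be the multiplicative order of `q` modulo `r`, `c = i` for `i` even and `c = 2i` for `i` odd, and write `k = n mod c`, `ℓ'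 = m mod c`. Then every element of `T` of order `r` fixes some elliptic `m`-space if and only if `r = 2`, or `r ≠ p` is odd and one of: (i) `i` odd, `c ≤ m` and `k > ℓ' > 0`; (ii) `i` even, `i ≤ m`, `k > ℓ'`, and `m/i` odd whenever `ℓ' = 0`. (For `r = p` there is always an element of order `p` fixing no elliptic `m`-space.) -/
theorem result {F : Type*} [Field F] [Fintype F] {p : ℕ} [Fact p.Prime] [CharP F p] {q : ℕ} (hq : Fintype.card F = q) (hqodd : Odd q)
    (d m : ℕ) (hd : 3 ≤ d) (hm : 2 ≤ m) (hme : Even m) (hmn : m ≤ 2 * d)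
    (r : ℕ) [Fact r.Prime]
    (hrΩ : r ∣ Nat.card {W : Submodule F (Unit ⊕ (Fin d ⊕ Fin d) → F) // Module.finrank F ↥W = m ∧ Cfsg.Geo.IsNondegenerateOn (QuadraticMap.polar (Cfsg.quadFormOdd d F)) W ∧ ¬ Cfsg.Geo.IsPlusTypeOn (Cfsg.quadFormOdd d F) W})
    (i c : ℕ) (hi : i = orderOf (q : ZMod r)) (hc : c = if Even i then i else 2 * i) :
    (∀ x : GL (Unit ⊕ (Fin d ⊕ Fin d)) F, x ∈ Cfsg.Geo.omegaGL (Cfsg.quadFormOdd d F) → orderOf x = r →
      ∃ W : Submodule F (Unit ⊕ (Fin d ⊕ Fin d) → F), (Module.finrank F ↥W = m ∧ Cfsg.Geo.IsNondegenerateOn (QuadraticMap.polar (Cfsg.quadFormOdd d F)) W ∧ ¬ Cfsg.Geo.IsPlusTypeOn (Cfsg.quadFormOdd d F) W) ∧ W.map (Matrix.toLin' (x : Matrix (Unit ⊕ (Fin d ⊕ Fin d)) (Unit ⊕ (Fin d ⊕ Fin d)) F)) ≤ W) ↔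
    (r = 2 ∨
     (r ≠ p ∧ 2 < r ∧ Odd i ∧ c ≤ m ∧ 0 < m % c ∧ m % c < (2 * d + 1) % c) ∨
     (r ≠ p ∧ 2 < r ∧ Even i ∧ i ≤ m ∧ m % c < (2 * d + 1) % c ∧ (0 < m % c ∨ Odd (m / i)))) := by
  classical
  subst hq
  have hrP : r.Prime := Fact.out
  have hchar : ringChar F ≠ 2 := fun h => by
    have := FiniteField.even_card_of_char_two (F := F) h
    have := Nat.odd_iff.1 hqodd
    omega
  have h2 : (2 : F) ≠ 0 := Ring.two_ne_zero hchar
  have hsep : ∀ x, (∀ y, polar (qfOdd d F) x y = 0) → x = 0 := qfOdd_sep h2 d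
  simp only [← qfOdd_coe, IsoNDTwo.member_minus] at hrΩ ⊢
  rw [IsoNDMain.lhs_order (Q := qfOdd d F) hrP (fun W => IsoNDCount.Member (qfOdd d F) m False W)]
  have hcard : Fintype.card (Unit ⊕ (Fin d ⊕ Fin d)) = 2 * d + 1 := by simp; omega
  have hV : Module.finrank F (Unit ⊕ (Fin d ⊕ Fin d) → F) = 2 * d + 1 := by
    rw [Module.finrank_fintype_fun_eq_card, hcard]
  by_cases hr2 : r = 2
  · subst hr2
    refine iff_of_true (fun x hx hx2 _ => ?_) (Or.inl rfl)
    obtain ⟨g, hg, rfl⟩ := hx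
    have hTT : ∀ v, isoLin g (isoLin g v) = v := fun v => by
      have h := congrArg (fun M : GL (Unit ⊕ (Fin d ⊕ Fin d)) F => (M : Matrix (Unit ⊕ (Fin d ⊕ Fin d)) (Unit ⊕ (Fin d ⊕ Fin d)) F) *ᵥ v) hx2
      simp only [sq, Units.val_mul, ← Matrix.mulVec_mulVec, Units.val_one, Matrix.one_mulVec] at h
      rw [isoLin, Matrix.toLin'_apply, Matrix.toLin'_apply]
      exact h
    obtain ⟨P, N, hP, hN, hPnd, hNnd, hperp, -, hsum⟩ := IsoTwo.eigen_split hsep h2
      (fun v => by rw [isoLin, Matrix.toLin'_apply]; exact (mem_isometryGroup_iff _ _).1 g.2 v) hTT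
    obtain ⟨j, hj, -⟩ := IsoTwo.involution_neg hsep h2 g hg hTT hN hNnd
    rw [hV] at hsum
    exact IsoNDTwo.involution_member hsep h2 (fun x => (hP x).1) (fun x => (hN x).1) hPnd hNnd hperp
      (by omega) hme False (by omega) (by have := Nat.even_iff.1 hme; omega)
  by_cases hrp : r = p
  · subst hrp
    refine iff_of_false (fun h => ?_) (by simp [hr2])
    obtain ⟨x, hx, hxp, hx1, hW⟩ := exists_unip (p := r) (F := F) (hrP.odd_of_ne_two hr2) h2 (d := d) (by omega)
    obtain ⟨W, ⟨hWd, -, hWt⟩, hWi⟩ := h x hx hxp hx1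
    obtain ⟨k, hk⟩ := hme.two_dvd
    exact hWt.1 (hW W hWi k (hWd.trans hk))
  rw [IsoNDCrit.odd_dim (p := p) hsep hr2 hrp hi hc hcard (by omega) (by simp) h2 (by omega) hme (by omega) hrΩ]
  have hr3 : 2 < r := lt_of_le_of_ne hrP.two_le (Ne.symm hr2)
  simp only [hr2, hr3, hrp, ne_eq, not_false_eq_true, true_and, false_or, false_iff, IsoNDMain.PType]
  have hne : m % c ≠ (2 * d + 1) % c := fun h => by
    have hce : 2 ∣ c := by
      rw [hc]; split_ifs with h' <;> [exact h'.two_dvd; exact dvd_mul_right 2 i]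
    have h1 := congrArg (· % 2) h
    simp only [Nat.mod_mod_of_dvd _ hce] at h1
    have := Nat.even_iff.1 hme
    omega
  rcases Nat.even_or_odd i with hev | hod
  · rw [if_pos hev] at hc
    subst hc
    simp only [Nat.not_odd_iff_even.2 hev, hev, false_and, false_or, true_and, Nat.not_even_iff_odd]
    constructor
    · rintro ⟨hcm, hle, hη⟩
      exact ⟨hcm, by omega, (Nat.eq_zero_or_pos _).symm.imp id hη⟩
    · rintro ⟨hcm, hlt, h⟩
      exact ⟨hcm, hlt.le, fun h0 => h.resolve_left (by omega)⟩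
  · simp only [hod, Nat.not_even_iff_odd.2 hod, true_and, false_and, or_false, true_or, not_true]
    constructor
    · rintro ⟨hcm, hle, hη⟩
      exact ⟨hcm, Nat.pos_of_ne_zero hη, by omega⟩
    · rintro ⟨hcm, h, h'⟩
      exact ⟨hcm, h'.le, fun h0 => by omega⟩

end Cfsg.Agent.S5993
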