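import Cfsg.Statements.S5994
import Cfsg.Agent.Lib.MaxSub.IsoNDJordanFix
import Cfsg.Agent.Lib.MaxSub.IsoNDStd
-- import your own Cfsg.Agent.* helpers here

set_option autoImplicit false
open scoped MatrixGroups
open Cfsg

namespace Cfsg.Agent.S5994

open CfsgLib CfsgLib.MaxSub CfsgLib.MaxSub.IsoType CfsgLib.Classical CfsgLib.Geom
open QuadraticMap (polar)

/-- A necessary condition for every element of order p of PΩ⁻_n(q), q odd, to fix an elliptic `m`-space. Here `T = PΩ⁻_n(F)`, `n = 2d ≥ 8`, realised through `Ω⁻_n(q)`, the commutator subgroup of the isometry group of `Q = Σ_{i<d−1} xᵢyᵢ + z₁² + a z₁z₂ + b z₂²` with `z₁² + a z₁z₂ + b z₂²` anisotropic, over the field `F` with `q` elements; an element of `T` of prime order `r` is an element `x` of `Ω⁻_n(q)` with `x^r` scalar and `x` not scalar; `q` is odd; a nondegenerate `m`-space (even `m`) is a subspace on which the polar form of `Q` is nondegenerate; it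 is hyperbolic if it contains an `m/2`-dimensional subspace on which `Q` vanishes, elliptic otherwise. Let `m` be even with `2 ≤ m ≤ n − 2` and suppose `p` divides the number of elliptic `m`-spaces. If every element of `T` of order `p` fixes some elliptic `m`-space, then `n ≡ m (mod 4)` and every partition of `n` into parts of size at most `p` in which every even part has even multiplicity contains (as a sub-multiset) a partition of `m` in which every even part has even multiplicity. -/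
theorem result {F : Type*} [Field F] [Fintype F] {p : ℕ} [Fact p.Prime] [CharP F p] {q : ℕ} (hq : Fintype.card F = q) (hqodd : Odd q)
    (d m : ℕ) (hd : 4 ≤ d) (hm : 2 ≤ m) (hme : Even m) (hmn : m + 2 ≤ 2 * d) (a b : F) (hab : ∀ x y : F, x ^ 2 + a * x * y + b * y ^ 2 = 0 → x = 0 ∧ y = 0)
    (hpΩ : p ∣ Nat.card {W : Submodule F ((Fin (d - 1) ⊕ Fin (d - 1)) ⊕ Fin 2 → F) // Module.finrank F ↥W = m ∧ Cfsg.Geo.IsNondegenerateOn (QuadraticMap.polar (Cfsg.quadFormMinus (d - 1) F a b)) W ∧ ¬ Cfsg.Geo.IsPlusTypeOn (Cfsg.quadFormMinus (d - 1) F a b) W}) :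
    (∀ x : GL ((Fin (d - 1) ⊕ Fin (d - 1)) ⊕ Fin 2) F, x ∈ Cfsg.Geo.omegaGL (Cfsg.quadFormMinus (d - 1) F a b) →
      (∃ z : F, ((x ^ p : GL ((Fin (d - 1) ⊕ Fin (d - 1)) ⊕ Fin 2) F) : Matrix ((Fin (d - 1) ⊕ Fin (d - 1)) ⊕ Fin 2) ((Fin (d - 1) ⊕ Fin (d - 1)) ⊕ Fin 2) F) = z • (1 : Matrix ((Fin (d - 1) ⊕ Fin (d - 1)) ⊕ Fin 2) ((Fin (d - 1) ⊕ Fin (d - 1)) ⊕ Fin 2) F)) →
      (∀ z : F, (x : Matrix ((Fin (d - 1) ⊕ Fin (d - 1)) ⊕ Fin 2) ((Fin (d - 1) ⊕ Fin (d - 1)) ⊕ Fin 2) F) ≠ z • (1 : Matrix ((Fin (d - 1) ⊕ Fin (d - 1)) ⊕ Fin 2) ((Fin (d - 1) ⊕ Fin (d - 1)) ⊕ Fin 2) F)) →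
      ∃ W : Submodule F ((Fin (d - 1) ⊕ Fin (d - 1)) ⊕ Fin 2 → F), (Module.finrank F ↥W = m ∧ Cfsg.Geo.IsNondegenerateOn (QuadraticMap.polar (Cfsg.quadFormMinus (d - 1) F a b)) W ∧ ¬ Cfsg.Geo.IsPlusTypeOn (Cfsg.quadFormMinus (d - 1) F a b) W) ∧ W.map (Matrix.toLin' (x : Matrix ((Fin (d - 1) ⊕ Fin (d - 1)) ⊕ Fin 2) ((Fin (d - 1) ⊕ Fin (d - 1)) ⊕ Fin 2) F)) ≤ W) →
    ((2 * d) % 4 = m % 4 ∧ (∀ μ : Multiset ℕ, (∀ e ∈ μ, 0 < e ∧ e ≤ p) → (∀ e : ℕ, Even e → Even (μ.count e)) → μ.sum = 2 * d →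
        ∃ ν : Multiset ℕ, ν ≤ μ ∧ ν.sum = m ∧ ∀ e : ℕ, Even e → Even (ν.count e))) := by
  classical
  subst hq
  have hq2 := Nat.odd_iff.1 hqodd
  have hchar : ringChar F ≠ 2 := fun h => by
    have := FiniteField.even_card_of_char_two (F := F) h
    omega
  have h2 : (2 : F) ≠ 0 := Ring.two_ne_zero hchar
  have hp : Odd p := (Fact.out : p.Prime).odd_of_ne_two fun h => hchar ((ringChar.eq F p).trans h)
  obtain ⟨l, rfl⟩ : ∃ l, d = l + 1 := ⟨d - 1, by omega⟩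
  revert hpΩ
  rw [Nat.add_sub_cancel]
  intro _ hall
  have hsep : ∀ x, (∀ y, polar (qfMinus l F a b) x y = 0) → x = 0 := qfMinus_sep l hab
  simp only [← qfMinus_coe, IsoNDTwo.member_minus] at hall
  have hcard : Fintype.card ((Fin l ⊕ Fin l) ⊕ Fin 2) = 2 * (l + 1) := by simp; omega
  have hfix : IsoNDJordanFix.AllFix (qfMinus l F a b) p m (fun W => ¬ HasHalf (qfMinus l F a b) W) :=
    fun x hx hxp _ hsc => by
    obtain ⟨W, ⟨hWd, hW, hh⟩, hWi⟩ := hall x hx ⟨1, by rw [hxp, Units.val_one, one_smul]⟩ hsc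
    exact ⟨W, ⟨hWd, hW, fun h => hh.1 h⟩, hWi⟩
  have hm2 := Nat.even_iff.1 hme
  refine ⟨?_, fun μ hle heven hsum =>
    IsoNDJordanFix.exists_part hsep h2 hp hfix hle heven (hsum.trans hcard.symm) hme (by omega)⟩
  by_contra hm4
  by_cases hm0 : m % 4 = 0
  · exact IsoNDJordanFix.hasHalf_member hsep h2 hp hfix (k := l) (Nat.even_iff.2 (by omega)) (by omega)
      (by rw [hcard]; omega) hm0 fun W h => h
  · exact IsoNDJordanFix.not_two_mod hsep h2 hp hfix {3, 1} (l - 1) (by decide) (by decide) (by decide)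
      (Nat.even_iff.2 (by omega)) (Or.inr (by decide))
      (by rw [hcard]; simp; omega)
      (fun σ hσ => by
        rw [show m % 4 = 2 by omega]
        exact (by decide : ∀ σ ∈ ({3, 1} : Multiset ℕ).powerset, σ.sum % 4 ≠ 2) σ (Multiset.mem_powerset.2 hσ))

end Cfsg.Agent.S5994
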