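import Cfsg.Statements.S5995
import Cfsg.Agent.Lib.MaxSub.IsoNDJordanFix
import Cfsg.Agent.Lib.MaxSub.IsoNDStd
-- import your own Cfsg.Agent.* helpers here

set_option autoImplicit false
open scoped MatrixGroups
open Cfsg

namespace Cfsg.Agent.S5995

open CfsgLib CfsgLib.MaxSub CfsgLib.MaxSub.IsoType CfsgLib.Classical CfsgLib.Geom
open QuadraticMap (polar)

/-- A necessary condition for every element of order p of Ω_n(q), nq odd, to fix a hyperbolic `m`-space. Here `T = Ω_n(F)`, `n = 2d+1 ≥ 7`, `q` odd, realised as the commutator subgroup of the isometry group of `Q = x₀² + Σ xᵢyᵢ` over the field `F` with `q` elements (trivial centre, so its elements of prime order `r` are used directly); a nondegenerate `m`-space (even `m`) is a subspace on which the polar form of `Q` is nondegenerate; it is hyperbolic if it contains an `m/2`-dimensional subspace on which `Q` vanishes, elliptic otherwise. Let `m` be even with `2 ≤ m ≤ n − 1` and suppose `p` divides the number of hyperbolic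 `m`-spaces. If every element of `T` of order `p` fixes some hyperbolic `m`-space, then `m ≡ 0 (mod 4)` and every partition of `n` into parts of size at most `p` in which every even part has even multiplicity contains (as a sub-multiset) a partition of `m` in which every even part has even multiplicity. -/
theorem result {F : Type*} [Field F] [Fintype F] {p : ℕ} [Fact p.Prime] [CharP F p] {q : ℕ} (hq : Fintype.card F = q) (hqodd : Odd q)
    (d m : ℕ) (hd : 3 ≤ d) (hm : 2 ≤ m) (hme : Even m) (hmn : m ≤ 2 * d)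
    (hpΩ : p ∣ Nat.card {W : Submodule F (Unit ⊕ (Fin d ⊕ Fin d) → F) // Module.finrank F ↥W = m ∧ Cfsg.Geo.IsNondegenerateOn (QuadraticMap.polar (Cfsg.quadFormOdd d F)) W ∧ Cfsg.Geo.IsPlusTypeOn (Cfsg.quadFormOdd d F) W}) :
    (∀ x : GL (Unit ⊕ (Fin d ⊕ Fin d)) F, x ∈ Cfsg.Geo.omegaGL (Cfsg.quadFormOdd d F) → orderOf x = p →
      ∃ W : Submodule F (Unit ⊕ (Fin d ⊕ Fin d) → F), (Module.finrank F ↥W = m ∧ Cfsg.Geo.IsNondegenerateOn (QuadraticMap.polar (Cfsg.quadFormOdd d F)) W ∧ Cfsg.Geo.IsPlusTypeOn (Cfsg.quadFormOdd d F) W) ∧ W.map (Matrix.toLin' (x : Matrix (Unit ⊕ (Fin d ⊕ Fin d)) (Unit ⊕ (Fin d ⊕ Fin d)) F)) ≤ W) →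
    (m % 4 = 0 ∧ (∀ μ : Multiset ℕ, (∀ e ∈ μ, 0 < e ∧ e ≤ p) → (∀ e : ℕ, Even e → Even (μ.count e)) → μ.sum = 2 * d + 1 →
        ∃ ν : Multiset ℕ, ν ≤ μ ∧ ν.sum = m ∧ ∀ e : ℕ, Even e → Even (ν.count e))) := by
  classical
  subst hq
  have hq2 := Nat.odd_iff.1 hqodd
  have hchar : ringChar F ≠ 2 := fun h => by
    have := FiniteField.even_card_of_char_two (F := F) h
    omega
  have h2 : (2 : F) ≠ 0 := Ring.two_ne_zero hchar
  have hp : Odd p := (Fact.out : p.Prime).odd_of_ne_two fun h => hchar ((ringChar.eq F p).trans h)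
  intro hall
  have hsep : ∀ x, (∀ y, polar (qfOdd d F) x y = 0) → x = 0 := qfOdd_sep h2 d
  simp only [← qfOdd_coe, IsoNDTwo.member_plus] at hall
  have hcard : Fintype.card (Unit ⊕ (Fin d ⊕ Fin d)) = 2 * d + 1 := by simp; omega
  have hfix : IsoNDJordanFix.AllFix (qfOdd d F) p m (fun W => HasHalf (qfOdd d F) W) := fun x hx hxp hx1 _ => by
    obtain ⟨W, ⟨hWd, hW, hh⟩, hWi⟩ := hall x hx (orderOf_eq_prime hxp hx1)
    exact ⟨W, ⟨hWd, hW, hh.2 trivial⟩, hWi⟩
  have hm2 := Nat.even_iff.1 hme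
  refine ⟨?_, fun μ hle heven hsum =>
    IsoNDJordanFix.exists_part hsep h2 hp hfix hle heven (hsum.trans hcard.symm) hme (by omega)⟩
  by_contra hm4
  rcases Nat.even_or_odd d with hde | hdo
  · exact IsoNDJordanFix.not_two_mod hsep h2 hp hfix {1} d (by decide) (by decide) (by decide) hde (Or.inl (by omega))
      (by rw [hcard, Multiset.sum_singleton]; omega)
      (fun σ hσ => by
        rw [show m % 4 = 2 by omega]
        exact (by decide : ∀ σ ∈ ({1} : Multiset ℕ).powerset, σ.sum % 4 ≠ 2) σ (Multiset.mem_powerset.2 hσ))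
  · obtain ⟨k, rfl⟩ := hdo
    exact IsoNDJordanFix.not_two_mod hsep h2 hp hfix {3} (2 * k) (by decide) (by decide) (by decide) (even_two_mul k)
      (Or.inr (by decide)) (by rw [hcard, Multiset.sum_singleton]; omega)
      (fun σ hσ => by
        rw [show m % 4 = 2 by omega]
        exact (by decide : ∀ σ ∈ ({3} : Multiset ℕ).powerset, σ.sum % 4 ≠ 2) σ (Multiset.mem_powerset.2 hσ))

end Cfsg.Agent.S5995
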