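import Cfsg.Statements.S5997
import Mathlib.GroupTheory.Perm.Cycle.Type
import Mathlib.GroupTheory.PGroup
import Mathlib.FieldTheory.Finite.Basic
import Mathlib.Tactic
import Mathlib.LinearAlgebra.Matrix.GeneralLinearGroup.Defs
-- import your own Cfsg.Agent.* helpers here

set_option autoImplicit false
open scoped MatrixGroups
open Cfsg

namespace Cfsg.Agent.S5997

variable {F : Type*} [Field F]

theorem exists_span {c : Matrix (Fin 2) (Fin 2) F} (hc : ∀ s : F, c ≠ s • 1) {y : Matrix (Fin 2) (Fin 2) F}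
    (h : c * y = y * c) : ∃ a b : F, y = a • 1 + b • c := by
  have e00 := congrFun (congrFun h 0) 0
  have e01 := congrFun (congrFun h 0) 1
  have e10 := congrFun (congrFun h 1) 0
  simp [Matrix.mul_apply, Fin.sum_univ_two] at e00 e01 e10
  by_cases h01 : c 0 1 = 0
  · by_cases h10 : c 1 0 = 0
    · have hd : c 1 1 - c 0 0 ≠ 0 := fun hd => hc (c 0 0) (by
        ext i j
        fin_cases i <;> fin_cases j <;> simp [h01, h10]
        linear_combination hd)
      refine ⟨y 0 0 - (y 1 1 - y 0 0) / (c 1 1 - c 0 0) * c 0 0, (y 1 1 - y 0 0) / (c 1 1 - c 0 0), ?_⟩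
      have y01 : y 0 1 = 0 := (mul_eq_zero.1 (show (c 1 1 - c 0 0) * y 0 1 = 0 by
        linear_combination -e01 + (y 1 1 - y 0 0) * h01)).resolve_left hd
      have y10 : y 1 0 = 0 := (mul_eq_zero.1 (show (c 1 1 - c 0 0) * y 1 0 = 0 by
        linear_combination e10 + (y 1 1 - y 0 0) * h10)).resolve_left hd
      ext i j
      fin_cases i <;> fin_cases j <;> simp [h01, h10, y01, y10]
      field_simp
      ring
    · refine ⟨y 0 0 - y 1 0 / c 1 0 * c 0 0, y 1 0 / c 1 0, ?_⟩
      ext i j
      fin_cases i <;> fin_cases j <;> simp <;> field_simp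
      · linear_combination -e00
      · linear_combination -e10
  · refine ⟨y 0 0 - y 0 1 / c 0 1 * c 0 0, y 0 1 / c 0 1, ?_⟩
    ext i j
    fin_cases i <;> fin_cases j <;> simp <;> field_simp
    · linear_combination e00
    · linear_combination e01

theorem commute_of_commute {c y z : Matrix (Fin 2) (Fin 2) F} (hc : ∀ s : F, c ≠ s • 1)
    (hy : c * y = y * c) (hz : c * z = z * c) : y * z = z * y := by
  obtain ⟨a, b, rfl⟩ := exists_span hc hy
  obtain ⟨a', b', rfl⟩ := exists_span hc hz
  simp [add_mul, mul_add, Algebra.mul_smul_comm, Algebra.smul_mul_assoc, smul_smul]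
  module

theorem cayley (A : Matrix (Fin 2) (Fin 2) F) : A * A = A.trace • A - A.det • 1 := by
  ext i j
  fin_cases i <;> fin_cases j <;> simp [Matrix.mul_apply, Fin.sum_univ_two, Matrix.trace_fin_two, Matrix.det_fin_two] <;> ring

theorem trace_det_of_sq {A : Matrix (Fin 2) (Fin 2) F} (hA : ∀ s : F, A ≠ s • 1) {a b : F}
    (h : A * A = a • A + b • 1) : A.trace = a ∧ A.det = -b := by
  rw [cayley] at h
  have ht : A.trace = a := by
    by_contra hne
    refine hA ((b + A.det) / (A.trace - a)) ?_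
    rw [div_eq_inv_mul, ← smul_smul, eq_inv_smul_iff₀ (sub_ne_zero.2 hne), sub_smul]
    rw [← sub_eq_zero] at h ⊢
    rw [← h]; module
  refine ⟨ht, ?_⟩
  rw [ht, sub_eq_add_neg, add_right_inj, ← neg_smul] at h
  have := congrFun (congrFun h 0) 0
  simp at this
  linear_combination -this

theorem exists_cyclic {A : Matrix (Fin 2) (Fin 2) F} (hA : ∀ s : F, A ≠ s • 1) :
    ∃ K : Matrix (Fin 2) (Fin 2) F, K.det ≠ 0 ∧ A * K = K * !![0, -A.det; 1, A.trace] := by
  obtain ⟨v, hv⟩ : ∃ v : Fin 2 → F, v 0 * (A.mulVec v) 1 - v 1 * (A.mulVec v) 0 ≠ 0 := by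
    by_cases h10 : A 1 0 = 0
    · by_cases h01 : A 0 1 = 0
      · refine ⟨![1, 1], fun h => hA (A 0 0) ?_⟩
        simp [Matrix.mulVec, dotProduct, Fin.sum_univ_two, h10, h01] at h
        ext i j
        fin_cases i <;> fin_cases j <;> simp [h10, h01]
        linear_combination h
      · exact ⟨![0, 1], by simp [Matrix.mulVec, dotProduct, Fin.sum_univ_two, h01]⟩
    · exact ⟨![1, 0], by simp [Matrix.mulVec, dotProduct, Fin.sum_univ_two, h10]⟩
  refine ⟨!![v 0, (A.mulVec v) 0; v 1, (A.mulVec v) 1], ?_, ?_⟩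
  · rw [Matrix.det_fin_two]
    simp
    intro h
    exact hv (by simp [Matrix.mulVec, dotProduct, Fin.sum_univ_two]; linear_combination h)
  · have h := cayley A
    have h0 := congrFun (congrArg (fun M => Matrix.mulVec M v) h) 0
    have h1 := congrFun (congrArg (fun M => Matrix.mulVec M v) h) 1
    simp [Matrix.mul_apply, Matrix.mulVec, dotProduct, Fin.sum_univ_two] at h0 h1
    ext i j
    fin_cases i <;> fin_cases j <;> simp [Matrix.mul_apply, Matrix.mulVec, dotProduct, Fin.sum_univ_two]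
    · linear_combination h0
    · linear_combination h1

theorem conj_sl [Fintype F] (h2 : (2 : F) ≠ 0) {A B : GL (Fin 2) F} (hA : ∀ s : F, (A : Matrix (Fin 2) (Fin 2) F) ≠ s • 1)
    (hB : ∀ s : F, (B : Matrix (Fin 2) (Fin 2) F) ≠ s • 1) (hdA : (A : Matrix (Fin 2) (Fin 2) F).det = 1)
    (hdB : (B : Matrix (Fin 2) (Fin 2) F).det = 1) {t : F} (htA : (A : Matrix (Fin 2) (Fin 2) F).trace = t)
    (htB : (B : Matrix (Fin 2) (Fin 2) F).trace = t) (ht : t * t ≠ 4) :
    ∃ g ∈ Cfsg.Geo.specialLinear (Fin 2) F, g⁻¹ * A * g = B := by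
  obtain ⟨K, hK, hAK⟩ := exists_cyclic hA
  obtain ⟨L, hL, hBL⟩ := exists_cyclic hB
  rw [hdA, htA] at hAK
  rw [hdB, htB] at hBL
  obtain ⟨δ, hδ⟩ : ∃ δ, δ = L.det / K.det := ⟨_, rfl⟩
  have h4 : (4 : F) ≠ 0 := by rw [show (4 : F) = 2 * 2 by norm_num]; exact mul_ne_zero h2 h2
  have hc : (1 - t * t / 4 : F) ≠ 0 := fun h => ht (by
    field_simp at h; linear_combination -h)
  obtain ⟨u, b, hub⟩ := FiniteField.exists_root_sum_quadratic (f := Polynomial.X ^ 2 - Polynomial.C δ)
    (g := Polynomial.C (1 - t * t / 4 : F) * Polynomial.X ^ 2) (Polynomial.degree_X_pow_sub_C (by norm_num) δ)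
    (by rw [Polynomial.degree_C_mul_X_pow 2 hc]; rfl)
    (FiniteField.odd_card_of_char_ne_two fun h => h2 (by
      have := ringChar.Nat.cast_ringChar (R := F); rw [h] at this; exact_mod_cast this))
  simp at hub
  obtain ⟨N, hN⟩ : ∃ N : Matrix (Fin 2) (Fin 2) F, N = !![u - b * t / 2, -b; b, u - b * t / 2 + b * t] := ⟨_, rfl⟩
  have hNd : N.det = δ := by
    rw [hN, Matrix.det_fin_two]; simp
    field_simp at hub ⊢
    linear_combination hub
  have hNC : !![0, -1; 1, t] * N = N * !![0, -1; 1, t] := by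
    rw [hN]; ext i j; fin_cases i <;> fin_cases j <;> simp [Matrix.mul_apply, Fin.sum_univ_two] <;> ring
  let Li := Matrix.GeneralLinearGroup.mkOfDetNeZero L hL
  let G : Matrix (Fin 2) (Fin 2) F := K * N * ((Li⁻¹ : GL (Fin 2) F) : Matrix (Fin 2) (Fin 2) F)
  have hdi : ((Li⁻¹ : GL (Fin 2) F) : Matrix (Fin 2) (Fin 2) F).det * L.det = 1 := by
    rw [← Matrix.det_mul, show L = (Li : Matrix (Fin 2) (Fin 2) F) from rfl, ← Units.val_mul, inv_mul_cancel,
      Units.val_one, Matrix.det_one]
  have hGd : G.det = 1 := by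
    rw [Matrix.det_mul, Matrix.det_mul, hNd, hδ, mul_div_cancel₀ _ hK]
    linear_combination hdi
  let g := Matrix.GeneralLinearGroup.mkOfDetNeZero G (by rw [hGd]; exact one_ne_zero)
  refine ⟨g, Units.ext hGd, ?_⟩
  rw [mul_assoc, inv_mul_eq_iff_eq_mul]
  apply Units.ext
  show (A : Matrix (Fin 2) (Fin 2) F) * (K * N * ((Li⁻¹ : GL (Fin 2) F) : Matrix (Fin 2) (Fin 2) F)) =
    K * N * ((Li⁻¹ : GL (Fin 2) F) : Matrix (Fin 2) (Fin 2) F) * (B : Matrix (Fin 2) (Fin 2) F)
  have hB' : ((Li⁻¹ : GL (Fin 2) F) : Matrix (Fin 2) (Fin 2) F) * (B : Matrix (Fin 2) (Fin 2) F) =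
      !![0, -1; 1, t] * ((Li⁻¹ : GL (Fin 2) F) : Matrix (Fin 2) (Fin 2) F) := by
    calc _ = ((Li⁻¹ : GL (Fin 2) F) : Matrix (Fin 2) (Fin 2) F) * ((B : Matrix (Fin 2) (Fin 2) F) * L) *
          ((Li⁻¹ : GL (Fin 2) F) : Matrix (Fin 2) (Fin 2) F) := by
            rw [mul_assoc, mul_assoc, show L = (Li : Matrix (Fin 2) (Fin 2) F) from rfl, Units.mul_inv, mul_one]
      _ = _ := by
            rw [hBL, ← mul_assoc, show L = (Li : Matrix (Fin 2) (Fin 2) F) from rfl, Units.inv_mul, one_mul]
  rw [mul_assoc (K * N), hB', ← mul_assoc, ← mul_assoc, hAK, mul_assoc K, hNC]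
  simp [mul_assoc]

/-- Elements of prime order of PSL_2(p) and the normalizer of a quaternion subgroup. Here `T = PSL_2(F)` for the field `F` with `p` elements, `p ≥ 5` prime; `R` is a subgroup of GL_2(F) isomorphic to the quaternion group of order 8 (an absolutely irreducible 2-group of symplectic type), and `H` is the subgroup of matrices of determinant 1 normalizing `R` — a subgroup of type 2^{1+2}.O₂⁻(2), isomorphic modulo scalars to A₄ or S₄ (maximality is not assumed). Ω is the set of cosets of `H` in `T`, so an element of `T` of prime order `r` (a matrix `x` of determinant 1 with `x^r` scalar, `x` not scalar) fixes a point of Ω exactly when some conjugate of `x` by a matrix of determinant 1 normalizes `R`. Let `r` be a prime dividing the index of `H`. Then every element of `T` of order `r` fixes a point of Ω if and only if `r = 2` or `r = 3`. -/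
theorem result {F : Type*} [Field F] [Fintype F] {p : ℕ} [Fact p.Prime] [CharP F p] (hF : Fintype.card F = p) (hp : 5 ≤ p)
    (R : Subgroup (GL (Fin 2) F)) (hR : Nonempty (↥R ≃* QuaternionGroup 2))
    (r : ℕ) [Fact r.Prime]
    (hΩ : r ∣ (Cfsg.Geo.subgroupNormalizer R).relIndex (Cfsg.Geo.specialLinear (Fin 2) F)) :
    (∀ x ∈ Cfsg.Geo.specialLinear (Fin 2) F, (∃ z : F, ((x ^ r : GL (Fin 2) F) : Matrix (Fin 2) (Fin 2) F) = z • (1 : Matrix (Fin 2) (Fin 2) F)) →
      (∀ z : F, (x : Matrix (Fin 2) (Fin 2) F) ≠ z • (1 : Matrix (Fin 2) (Fin 2) F)) →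
      ∃ g ∈ Cfsg.Geo.specialLinear (Fin 2) F, g⁻¹ * x * g ∈ Cfsg.Geo.subgroupNormalizer R) ↔ (r = 2 ∨ r = 3) := by
  classical
  have hpp : p.Prime := Fact.out
  have hn : ∀ m : ℕ, m < p → m ≠ 0 → (m : F) ≠ 0 := fun m hm hm0 h =>
    hm0 (Nat.eq_zero_of_dvd_of_lt ((CharP.cast_eq_zero_iff F p m).1 h) hm)
  have h2 : (2 : F) ≠ 0 := by exact_mod_cast hn 2 (by omega) (by norm_num)
  have h3 : (3 : F) ≠ 0 := by exact_mod_cast hn 3 (by omega) (by norm_num)
  have h4 : (4 : F) ≠ 0 := by exact_mod_cast hn 4 (by omega) (by norm_num)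
  obtain ⟨φ⟩ := hR
  let ι : QuaternionGroup 2 →* GL (Fin 2) F := R.subtype.comp φ.symm.toMonoidHom
  have hιinj : Function.Injective ι := Subtype.val_injective.comp φ.symm.injective
  have hιR : ∀ y, y ∈ R ↔ ∃ u, ι u = y := fun y => ⟨fun hy => ⟨φ ⟨y, hy⟩, by simp [ι]⟩, fun ⟨u, hu⟩ => hu ▸ (φ.symm u).2⟩
  obtain ⟨I, hI⟩ : ∃ I, ι (QuaternionGroup.a 1) = I := ⟨_, rfl⟩
  obtain ⟨J, hJ⟩ : ∃ J, ι (QuaternionGroup.xa 0) = J := ⟨_, rfl⟩
  obtain ⟨Z, hZ⟩ : ∃ Z, ι (QuaternionGroup.a 2) = Z := ⟨_, rfl⟩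
  have hII : I * I = Z := by rw [← hI, ← hZ, ← map_mul]; congr 1
  have hJJ : J * J = Z := by rw [← hJ, ← hZ, ← map_mul]; congr 1
  have hJI : J * I = I * J * Z := by rw [← hI, ← hJ, ← hZ, ← map_mul, ← map_mul, ← map_mul]; congr 1
  have hZI : Z * I = I * Z := by rw [← hI, ← hZ, ← map_mul, ← map_mul]; congr 1
  have hZJ : Z * J = J * Z := by rw [← hJ, ← hZ, ← map_mul, ← map_mul]; congr 1
  have hIJ : I * J ≠ J * I := fun h => by
    rw [← hI, ← hJ, ← map_mul, ← map_mul] at h
    exact absurd (hιinj h) (by decide)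
  have hZ1 : Z ≠ 1 := fun h => by
    rw [← hZ, ← map_one ι] at h
    exact absurd (hιinj h) (by decide)
  have hZ2 : Z * Z = 1 := by rw [← hZ, ← map_mul, ← map_one ι]; congr 1
  have hZm : (Z : Matrix (Fin 2) (Fin 2) F) = -1 := by
    by_cases hs : ∃ s : F, (Z : Matrix (Fin 2) (Fin 2) F) = s • 1
    · obtain ⟨s, hs⟩ := hs
      have h := congrArg Units.val hZ2
      rw [Units.val_mul, hs, Algebra.smul_mul_assoc, one_mul, smul_smul, Units.val_one] at h
      have h' := congrFun (congrFun h 0) 0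
      simp at h'
      have hs1 : (s - 1) * (s + 1) = 0 := by linear_combination h'
      rcases mul_eq_zero.1 hs1 with h1 | h1
      · exact absurd (Units.ext (by rw [hs, sub_eq_zero.1 h1, one_smul, Units.val_one])) hZ1
      · rw [hs, eq_neg_of_add_eq_zero_left h1, neg_one_smul]
    · push Not at hs
      refine absurd (Units.ext ?_) hIJ
      rw [Units.val_mul, Units.val_mul]
      exact commute_of_commute hs (by rw [← Units.val_mul, ← Units.val_mul, hZI]) (by rw [← Units.val_mul, ← Units.val_mul, hZJ])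
  obtain ⟨i, hi⟩ : ∃ i, (I : Matrix (Fin 2) (Fin 2) F) = i := ⟨_, rfl⟩
  obtain ⟨j, hj⟩ : ∃ j, (J : Matrix (Fin 2) (Fin 2) F) = j := ⟨_, rfl⟩
  have mii : i * i = -1 := by rw [← hi, ← Units.val_mul, hII, hZm]
  have mjj : j * j = -1 := by rw [← hj, ← Units.val_mul, hJJ, hZm]
  have mji : j * i = -(i * j) := by
    rw [← hi, ← hj, ← Units.val_mul, hJI, Units.val_mul, hZm, mul_neg, mul_one, Units.val_mul]
  have hnsc : ∀ y : GL (Fin 2) F, y * I = I * y → y * J = J * y → ∃ s : F, (y : Matrix (Fin 2) (Fin 2) F) = s • 1 := by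
    intro y hy1 hy2
    by_contra h
    push Not at h
    refine hIJ (Units.ext ?_)
    rw [Units.val_mul, Units.val_mul]
    exact commute_of_commute h (by rw [← Units.val_mul, ← Units.val_mul, hy1]) (by rw [← Units.val_mul, ← Units.val_mul, hy2])
  have hins : ∀ s : F, i ≠ s • 1 := fun s h => hIJ (Units.ext (by
    rw [Units.val_mul, Units.val_mul, hi, h, Algebra.smul_mul_assoc, Algebra.mul_smul_comm, one_mul, mul_one]))
  have hscal : ∀ x : GL (Fin 2) F, x ∈ Cfsg.Geo.specialLinear (Fin 2) F → (x : Matrix (Fin 2) (Fin 2) F).det = 1 :=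
    fun x hx => congrArg Units.val hx
  constructor
  · intro hall
    by_contra hr
    push Not at hr
    have hrp : r.Prime := Fact.out
    have hr5 : 5 ≤ r := by
      rcases Nat.lt_or_ge r 5 with h | h
      · interval_cases r <;> first | omega | exact absurd hrp (by norm_num)
      · exact h
    obtain ⟨⟨x, hxS⟩, hxo⟩ := exists_prime_orderOf_dvd_card' r
      (hΩ.trans ((Cfsg.Geo.subgroupNormalizer R).relIndex_dvd_card _))
    have hxr : x ^ r = 1 := by
      have := pow_orderOf_eq_one (⟨x, hxS⟩ : Cfsg.Geo.specialLinear (Fin 2) F)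
      rw [hxo] at this
      exact congrArg Subtype.val this
    have hxns : ∀ z : F, (x : Matrix (Fin 2) (Fin 2) F) ≠ z • 1 := fun z hz => by
      have hd := hscal x hxS
      rw [hz, Matrix.det_smul, Matrix.det_one, Fintype.card_fin, mul_one, pow_two] at hd
      have h1 := congrArg Units.val hxr
      rw [Units.val_pow_eq_pow_val, hz, smul_pow, one_pow, Units.val_one] at h1
      have h1' := congrFun (congrFun h1 0) 0
      simp at h1'
      obtain ⟨l, hl⟩ := hrp.odd_of_ne_two hr.1
      rw [hl, pow_succ, pow_mul, pow_two, hd, one_pow, one_mul] at h1'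
      rw [h1', one_smul] at hz
      have : (⟨x, hxS⟩ : Cfsg.Geo.specialLinear (Fin 2) F) = 1 := Subtype.ext (Units.ext hz)
      rw [this, orderOf_one] at hxo
      exact hrp.one_lt.ne hxo
    obtain ⟨g, hgS, hg⟩ := hall x hxS ⟨1, by rw [hxr, Units.val_one, one_smul]⟩ hxns
    obtain ⟨y, hy⟩ : ∃ y, y = g⁻¹ * x * g := ⟨_, rfl⟩
    rw [← hy] at hg
    have hyr : y ^ r = 1 := by
      rw [hy, show g⁻¹ * x * g = g⁻¹ * x * (g⁻¹)⁻¹ by rw [inv_inv], conj_pow, hxr]; group
    -- conjugation by `y` on `R`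
    let σ : Equiv.Perm R :=
      { toFun := fun u => ⟨y * u * y⁻¹, (Subgroup.mem_normalizer_iff.1 hg u).1 u.2⟩
        invFun := fun u => ⟨y⁻¹ * u * y, by
          refine (Subgroup.mem_normalizer_iff.1 hg _).2 ?_
          simpa [mul_assoc] using u.2⟩
        left_inv := fun u => Subtype.ext (by simp [mul_assoc])
        right_inv := fun u => Subtype.ext (by simp [mul_assoc]) }
    have hσ : ∀ (m : ℕ) u, ((σ ^ m) u : GL (Fin 2) F) = y ^ m * u * (y ^ m)⁻¹ := by
      intro m u
      induction m with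
      | zero => simp
      | succ m ihm =>
        rw [pow_succ', Equiv.Perm.mul_apply]
        show y * ((σ ^ m) u : GL (Fin 2) F) * y⁻¹ = _
        rw [ihm, pow_succ', mul_inv_rev]; group
    have hσr : σ ^ r = 1 := Equiv.ext fun u => Subtype.ext (by rw [hσ, hyr]; simp)
    haveI : Fintype R := Fintype.ofFinite _
    obtain ⟨s, hs⟩ : ∃ s : Function.End R, s = ⇑σ := ⟨_, rfl⟩
    have hsp : ∀ m, ∀ u, (s ^ m) u = (σ ^ m) u := by
      intro m
      induction m with
      | zero => intro u; rfl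
      | succ m ihm =>
        intro u
        rw [pow_succ', pow_succ', Equiv.Perm.mul_apply, ← ihm u, ← congrFun hs ((s ^ m) u)]
        rfl
    have hcong := Equiv.Perm.card_fixedPoints_modEq (f := s) (p := r) (n := 1) (funext fun u => by
      rw [pow_one, hsp, hσr]; rfl)
    subst hs
    let Fix : Subgroup R := (Subgroup.centralizer {y}).subgroupOf R
    have hfix : ∀ u : R, u ∈ Function.fixedPoints σ ↔ u ∈ Fix := fun u => by
      show σ u = u ↔ _
      rw [Subtype.ext_iff, Subgroup.mem_subgroupOf, Subgroup.mem_centralizer_singleton_iff]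
      show y * u * y⁻¹ = u ↔ _
      rw [mul_inv_eq_iff_eq_mul]
      exact eq_comm
    have hR8 : Nat.card R = 8 := by rw [Nat.card_congr φ.toEquiv, Nat.card_eq_fintype_card, QuaternionGroup.card]
    have hFix : Nat.card (Function.fixedPoints σ) = Nat.card Fix := Nat.card_congr (Equiv.subtypeEquivRight hfix)
    rw [← Nat.card_eq_fintype_card, ← Nat.card_eq_fintype_card, hFix, hR8] at hcong
    have hdvd : Nat.card Fix ∣ 8 := hR8 ▸ Subgroup.card_subgroup_dvd_card Fix
    have hgt : 1 < Nat.card Fix := by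
      haveI : Nontrivial Fix := ⟨⟨⟨⟨Z, (hιR Z).2 ⟨_, hZ⟩⟩, by
        rw [Subgroup.mem_subgroupOf, Subgroup.mem_centralizer_singleton_iff]
        exact Units.ext (by rw [Units.val_mul, Units.val_mul, hZm, mul_neg, neg_mul, mul_one, one_mul])⟩, 1,
        fun h => hZ1 (congrArg (fun u : Fix => ((u : R) : GL (Fin 2) F)) h)⟩⟩
      exact Finite.one_lt_card
    have hle : Nat.card Fix ≤ 8 := Nat.le_of_dvd (by norm_num) hdvd
    have hall8 : Nat.card Fix = 8 := by
      have h8 : r ∣ 8 - Nat.card Fix := by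
        have hcf := (Nat.modEq_iff_dvd' hle).1 hcong.symm
        exact hcf
      interval_cases hm : Nat.card Fix <;> first
        | rfl
        | omega
        | (exfalso; have := Nat.le_of_dvd (by norm_num) h8; interval_cases r <;> revert h8 hrp <;> norm_num)
    have hcent : ∀ u ∈ R, y * u = u * y := fun u hu => by
      have : (⟨u, hu⟩ : R) ∈ Fix := by
        rw [Subgroup.eq_top_of_card_eq Fix (hall8.trans hR8.symm)]; trivial
      rw [Subgroup.mem_subgroupOf, Subgroup.mem_centralizer_singleton_iff] at this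
      exact this.symm
    obtain ⟨s, hs⟩ := hnsc y (hcent _ ((hιR I).2 ⟨_, hI⟩)) (hcent _ ((hιR J).2 ⟨_, hJ⟩))
    refine hxns s ?_
    rw [show x = g * y * g⁻¹ by rw [hy]; group, Units.val_mul, Units.val_mul, hs, Algebra.mul_smul_comm, mul_one,
      Algebra.smul_mul_assoc, ← Units.val_mul, mul_inv_cancel, Units.val_one]
  · intro hr x hxS hz hxns
    obtain ⟨z, hz⟩ := hz
    have hdx := hscal x hxS
    have hcx := cayley (x : Matrix (Fin 2) (Fin 2) F)
    rw [hdx, one_smul] at hcx
    rcases hr with rfl | rfl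
    · rw [Units.val_pow_eq_pow_val, pow_two] at hz
      have htx := (trace_det_of_sq hxns (a := 0) (b := z) (by rw [hz, zero_smul, zero_add])).1
      obtain ⟨hti, hdi⟩ := trace_det_of_sq hins (a := 0) (b := -1) (by rw [mii]; simp)
      obtain ⟨g, hg, hgx⟩ := conj_sl h2 hxns (B := I) (hi ▸ hins) hdx (by rw [hi, hdi]; norm_num) htx (by rw [hi, hti])
        (by rw [mul_zero]; exact fun h => h4 h.symm)
      exact ⟨g, hg, hgx ▸ Subgroup.le_normalizer ((hιR I).2 ⟨_, hI⟩)⟩
    · obtain ⟨t, ht⟩ : ∃ t, (x : Matrix (Fin 2) (Fin 2) F).trace = t := ⟨_, rfl⟩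
      rw [ht] at hcx
      rw [Units.val_pow_eq_pow_val, pow_succ, pow_two, hcx, sub_mul, Algebra.smul_mul_assoc, hcx, one_mul] at hz
      have ht2 : t * t = 1 := by
        by_contra hne
        refine hxns ((z + t) / (t * t - 1)) ?_
        rw [div_eq_inv_mul, ← smul_smul, eq_inv_smul_iff₀ (sub_ne_zero.2 hne)]
        rw [← sub_eq_zero] at hz ⊢
        rw [← hz]; module
      obtain ⟨h, hh⟩ : ∃ h : Matrix (Fin 2) (Fin 2) F, h = (t * (2 : F)⁻¹) • (1 + i + j + i * j) := ⟨_, rfl⟩
      have k1 : i * j * i = j := by rw [mul_assoc, mji, mul_neg, ← mul_assoc, mii]; simp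
      have k2 : i * j * j = -i := by rw [mul_assoc, mjj]; simp
      have k3 : i * (i * j) = -j := by rw [← mul_assoc, mii]; simp
      have k4 : j * (i * j) = i := by rw [← mul_assoc, mji, neg_mul, mul_assoc, mjj]; simp
      have k5 : i * j * (i * j) = -1 := by rw [← mul_assoc, k1, mjj]
      have hhh : h * h = t • h + (-1 : F) • 1 := by
        rw [hh]
        simp only [Algebra.smul_mul_assoc, Algebra.mul_smul_comm, smul_smul, add_mul, mul_add, one_mul, mul_one,
          mii, mjj, mji, k1, k2, k3, k4, k5]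
        match_scalars <;> field_simp <;> first | ring1 | linear_combination (-2 : F) * ht2 | linear_combination (2 : F) * ht2 | linear_combination -ht2 | linear_combination ht2 | linear_combination (5 : F) * ht2 | linear_combination (-5 : F) * ht2 | linear_combination (3 : F) * ht2 | linear_combination (-3 : F) * ht2 | linear_combination (4 : F) * ht2 | linear_combination (-4 : F) * ht2
      have e1 : h * i = j * h := by
        rw [hh]
        simp only [Algebra.smul_mul_assoc, Algebra.mul_smul_comm, add_mul, mul_add, one_mul, mul_one,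
          mii, mjj, mji, k1, k2, k3, k4, k5]
        module
      have e2 : h * j = i * j * h := by
        rw [hh]
        simp only [Algebra.smul_mul_assoc, Algebra.mul_smul_comm, add_mul, mul_add, one_mul, mul_one,
          mii, mjj, mji, k1, k2, k3, k4, k5]
        module
      have ht0 : t ≠ 0 := fun h => by simp [h] at ht2
      have hhns : ∀ s : F, h ≠ s • 1 := fun s hs => by
        have hs0 : s ≠ 0 := fun h0 => by
          rw [hs, h0, zero_smul, mul_zero, smul_zero, zero_add] at hhh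
          simpa using congrFun (congrFun hhh 0) 0
        rw [hs, Algebra.smul_mul_assoc, Algebra.mul_smul_comm, one_mul, mul_one] at e1
        exact hIJ (by rw [Units.ext (hi.trans ((smul_right_injective (Matrix (Fin 2) (Fin 2) F) hs0 e1).trans hj.symm))])
      obtain ⟨hth, hdh⟩ := trace_det_of_sq hhns hhh
      let H := Matrix.GeneralLinearGroup.mkOfDetNeZero h (by rw [hdh]; norm_num)
      have hHI : H * I = J * H := Units.ext (by rw [Units.val_mul, Units.val_mul, hi, hj]; exact e1)
      have hHJ : H * J = I * J * H := Units.ext (by rw [Units.val_mul, Units.val_mul, Units.val_mul, hi, hj]; exact e2)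
      have hgen : ∀ u : QuaternionGroup 2, H * ι u * H⁻¹ ∈ R := by
        have hmul : ∀ u v, H * ι u * H⁻¹ ∈ R → H * ι v * H⁻¹ ∈ R → H * ι (u * v) * H⁻¹ ∈ R := fun u v hu hv => by
          convert mul_mem hu hv using 1
          rw [map_mul]; group
        have ha : ∀ k : ℕ, H * ι (QuaternionGroup.a (k : ZMod (2 * 2))) * H⁻¹ ∈ R := by
          intro k
          induction k with
          | zero => rw [Nat.cast_zero, QuaternionGroup.a_zero, map_one, mul_one, mul_inv_cancel]; exact one_mem R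
          | succ k ihk =>
            rw [Nat.cast_succ, ← QuaternionGroup.a_mul_a]
            refine hmul _ _ ihk ?_
            rw [hI, hHI, mul_inv_cancel_right]
            exact (hιR J).2 ⟨_, hJ⟩
        rintro (k | k)
        · rw [← ZMod.natCast_zmod_val k]; exact ha _
        · rw [show QuaternionGroup.xa k = QuaternionGroup.xa 0 * QuaternionGroup.a ((k.val : ℕ) : ZMod (2 * 2)) by
            rw [QuaternionGroup.xa_mul_a, zero_add, ZMod.natCast_zmod_val]]
          refine hmul _ _ ?_ (ha _)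
          rw [hJ, hHJ, mul_inv_cancel_right]
          exact mul_mem ((hιR I).2 ⟨_, hI⟩) ((hιR J).2 ⟨_, hJ⟩)
      have hHN : H ∈ Cfsg.Geo.subgroupNormalizer R := by
        show H ∈ Subgroup.normalizer (R : Set (GL (Fin 2) F))
        haveI : Finite R := Finite.of_equiv _ φ.symm.toEquiv
        rw [Subgroup.mem_normalizer_iff]
        have hto : ∀ v ∈ R, H * v * H⁻¹ ∈ R := fun v hv => by
          obtain ⟨u, rfl⟩ := (hιR v).1 hv; exact hgen u
        intro v
        refine ⟨hto v, fun hv => ?_⟩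
        obtain ⟨w, hw⟩ := Finite.surjective_of_injective (f := fun u : R => (⟨_, hto u u.2⟩ : R)) (fun a b hab => by
          simpa using congrArg Subtype.val hab) ⟨_, hv⟩
        have : (w : GL (Fin 2) F) = v := by simpa using congrArg Subtype.val hw
        exact this ▸ w.2
      obtain ⟨g, hg, hgx⟩ := conj_sl h2 hxns (B := H) hhns hdx (by show h.det = 1; rw [hdh, neg_neg]) ht
        (by show h.trace = t; exact hth) (by rw [ht2]; exact fun h1 => h3 (by linear_combination -h1))
      exact ⟨g, hg, hgx ▸ hHN⟩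

end Cfsg.Agent.S5997
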