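import Cfsg.Statements.S5998
import Cfsg.Agent.Lib.ExtraThree.Fixers
import Cfsg.Agent.Lib.Classical.SLOrder

set_option autoImplicit false
open scoped MatrixGroups
open Cfsg

namespace Cfsg.Agent.S5998

open CfsgLib.ExtraThree Matrix

/-- Elements of prime order of PSL_3(p), p ≡ 1 (mod 3), and the normalizer of an extraspecial subgroup of order 27. Here `T = PSL_3(F)` for the field `F` with `p` elements, `p` a prime with `p ≡ 1 (mod 3)`; `R` is a non-abelian subgroup of GL_3(F) of order 27 and exponent 3 (an extraspecial group 3^{1+2}, acting absolutely irreducibly), and `H` is the subgroup of matrices of determinant 1 normalizing `R` — a subgroup of type 3^{1+2}.Sp₂(3) (maximality is not assumed). Ω is the set of cosets of `H` in `T`, so an element of `T` of prime order `r` (a matrix `x` of determinant 1 with `x^r` scalar, `x` not scalar) fixes a point of Ω exactly when some conjugate of `x` by a matrix of determinant 1 normalizes `R`. Let `r` be a prime dividing the index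 of `H`. Then every element of `T` of order `r` fixes a point of Ω if and only if `r = 2`, or `r = 3` and `p ≡ 1 (mod 9)`. -/
theorem result {F : Type*} [Field F] [Fintype F] {p : ℕ} [Fact p.Prime] [CharP F p] (hF : Fintype.card F = p) (hp3 : p % 3 = 1)
    (R : Subgroup (GL (Fin 3) F)) (hR : Nat.card R = 27) (hRe : Monoid.exponent R = 3) (hRna : ¬ IsMulCommutative R)
    (r : ℕ) [Fact r.Prime]
    (hΩ : r ∣ (Cfsg.Geo.subgroupNormalizer R).relIndex (Cfsg.Geo.specialLinear (Fin 3) F)) :
    (∀ x ∈ Cfsg.Geo.specialLinear (Fin 3) F, (∃ z : F, ((x ^ r : GL (Fin 3) F) : Matrix (Fin 3) (Fin 3) F) = z • (1 : Matrix (Fin 3) (Fin 3) F)) →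
      (∀ z : F, (x : Matrix (Fin 3) (Fin 3) F) ≠ z • (1 : Matrix (Fin 3) (Fin 3) F)) →
      ∃ g ∈ Cfsg.Geo.specialLinear (Fin 3) F, g⁻¹ * x * g ∈ Cfsg.Geo.subgroupNormalizer R) ↔ (r = 2 ∨ (r = 3 ∧ p % 9 = 1)) := by
  classical
  have hp : p.Prime := Fact.out
  have hp7 : 7 ≤ p := by
    rcases hp.eq_two_or_odd with h | h
    · omega
    · have := hp.two_le; omega
  have h3 : (3 : F) ≠ 0 := fun h => by
    have := Nat.le_of_dvd (by norm_num) ((CharP.cast_eq_zero_iff F p 3).1 (by exact_mod_cast h)); omega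
  have h2 : (2 : F) ≠ 0 := fun h => by
    have := Nat.le_of_dvd (by norm_num) ((CharP.cast_eq_zero_iff F p 2).1 (by exact_mod_cast h)); omega
  have hunits : Fintype.card Fˣ = p - 1 := by rw [Fintype.card_units, hF]
  obtain ⟨ω, hω⟩ : ∃ ω : Fˣ, orderOf ω = 3 :=
    haveI := Fact.mk Nat.prime_three
    exists_prime_orderOf_dvd_card 3 (by omega)
  have hω3 : (ω : F) ^ 3 = 1 := by rw [← Units.val_pow_eq_pow_val, ← hω, pow_orderOf_eq_one, Units.val_one]
  have hω1 : (ω : F) ≠ 1 := fun e => by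
    rw [Units.val_eq_one] at e
    rw [e, orderOf_one] at hω
    omega
  obtain ⟨D⟩ := exists_frame h3 hω3 hω1 hR hRe hRna
  haveI : Finite R := Nat.finite_of_card_ne_zero (by omega)
  have hr : r.Prime := Fact.out
  have hsl : ∀ g : GL (Fin 3) F, g ∈ Cfsg.Geo.specialLinear (Fin 3) F ↔
      (g : Matrix (Fin 3) (Fin 3) F).det = 1 := fun g => by
    show Matrix.GeneralLinearGroup.det g = 1 ↔ _
    rw [Units.ext_iff]; rfl
  have hzdet : ∀ x ∈ Cfsg.Geo.specialLinear (Fin 3) F, ∀ z : F,
      ((x ^ r : GL (Fin 3) F) : Matrix (Fin 3) (Fin 3) F) = z • 1 → z ^ 3 = 1 := by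
    intro x hx z hz
    have h := congrArg Matrix.det hz
    rw [(hsl _).1 (pow_mem hx r), Matrix.det_smul, Matrix.det_one, mul_one, Fintype.card_fin] at h
    exact h.symm
  -- an element of the normaliser in coordinates
  have hmk : ∀ M : Matrix (Fin 3) (Fin 3) F, M.det ≠ 0 → ∃ g : GL (Fin 3) F,
      (g : Matrix (Fin 3) (Fin 3) F) * D.P = (D.P : Matrix (Fin 3) (Fin 3) F) * M := by
    intro M hM
    refine ⟨D.P * Matrix.GeneralLinearGroup.mk'' M (isUnit_iff_ne_zero.2 hM) * D.P⁻¹, ?_⟩
    rw [← Units.val_mul, inv_mul_cancel_right, Units.val_mul]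
    rfl
  have hscaled : ∀ (x : GL (Fin 3) F), x ∈ Cfsg.Geo.specialLinear (Fin 3) F → ∀ (t : F), t ≠ 0 →
      ∀ (Q : GL (Fin 3) F) (d : Fin 3 → F), (t⁻¹ • (x : Matrix (Fin 3) (Fin 3) F)) * Q =
        (Q : Matrix (Fin 3) (Fin 3) F) * Matrix.diagonal d →
      ∀ (g Q' : GL (Fin 3) F), g ∈ Cfsg.Geo.subgroupNormalizer R → (g : Matrix (Fin 3) (Fin 3) F) * Q' =
        (Q' : Matrix (Fin 3) (Fin 3) F) * Matrix.diagonal d →
      ∃ h ∈ Cfsg.Geo.specialLinear (Fin 3) F, h⁻¹ * x * h ∈ Cfsg.Geo.subgroupNormalizer R := by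
    intro x _ t ht Q d hQ g Q' hg hQ'
    let tg : GL (Fin 3) F := Units.map (Matrix.scalar (Fin 3) : F →+* _).toMonoidHom (Units.mk0 t ht) * g
    have htg : (tg : Matrix (Fin 3) (Fin 3) F) = t • (g : Matrix (Fin 3) (Fin 3) F) := by
      simp [tg, Matrix.smul_eq_diagonal_mul]
    have hd : Matrix.diagonal (fun i => t * d i) = t • Matrix.diagonal d := by
      rw [← Matrix.diagonal_smul]; rfl
    obtain ⟨h, hh, e⟩ := exists_sl_conj (x := x) (y := tg) (d := fun i => t * d i) (Q := Q) (Q' := Q')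
      (by rw [hd, Matrix.mul_smul, ← hQ, smul_mul, smul_smul, mul_inv_cancel₀ ht, one_smul])
      (by rw [hd, Matrix.mul_smul, ← hQ', htg, smul_mul])
    exact ⟨h, hh, e ▸ D.smul_mem_normalizer hg ht htg⟩
  have hnsmul : ∀ (x : GL (Fin 3) F) (t : F), t ≠ 0 →
      (∀ z : F, (x : Matrix (Fin 3) (Fin 3) F) ≠ z • 1) → ∀ z : F, t⁻¹ • (x : Matrix (Fin 3) (Fin 3) F) ≠ z • 1 := by
    intro x t ht hx z e
    refine hx (t * z) ?_
    rw [← smul_smul, ← e, smul_smul, mul_inv_cancel₀ ht, one_smul]
  constructor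
  · intro hall
    by_cases h2r : r = 2
    · exact Or.inl h2r
    refine Or.inr ?_
    by_cases h3r : r = 3
    · refine ⟨h3r, ?_⟩
      by_contra h9
      exfalso
      subst h3r
      have hRsl : R ≤ Cfsg.Geo.specialLinear (Fin 3) F := by
        rw [← D.closure_eq, Subgroup.closure_le]
        have hdet : ∀ (g : GL (Fin 3) F) (M : Matrix (Fin 3) (Fin 3) F),
            (g : Matrix (Fin 3) (Fin 3) F) * D.P = D.P * M → M.det = 1 → g ∈ Cfsg.Geo.specialLinear (Fin 3) F := by
          intro g M h hM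
          have h' := congrArg Matrix.det h
          rw [Matrix.det_mul, Matrix.det_mul, hM, mul_comm] at h'
          exact (hsl g).2 (mul_left_cancel₀ ((Matrix.isUnit_iff_isUnit_det _).1 D.P.isUnit).ne_zero h')
        rintro _ (rfl | rfl)
        · refine hdet _ _ D.a_eq ?_
          simp [matA, Matrix.det_diagonal, Fin.prod_univ_three]
          linear_combination D.w_cube
        · refine hdet _ _ D.b_eq ?_
          simp [matB, Matrix.det_fin_three]
      have hcard : 81 ∣ Nat.card (Cfsg.Geo.specialLinear (Fin 3) F) := by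
        have hle : R ≤ Cfsg.Geo.subgroupNormalizer R ⊓ Cfsg.Geo.specialLinear (Fin 3) F :=
          le_inf Subgroup.le_normalizer hRsl
        have hd := Subgroup.relIndex_dvd_of_le_left (Cfsg.Geo.specialLinear (Fin 3) F) hle
        rw [Subgroup.inf_relIndex_right] at hd
        obtain ⟨k, hk⟩ := hΩ.trans hd
        have h := Subgroup.card_mul_index (R.subgroupOf (Cfsg.Geo.specialLinear (Fin 3) F))
        rw [Nat.card_congr (Subgroup.subgroupOfEquivOfLe hRsl).toEquiv, hR] at h
        rw [Subgroup.relIndex] at hk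
        exact ⟨k, by rw [← h, hk]; ring⟩
      have hc := CfsgLib.Classical.card_sl_mul (F := F) (n := 3) (by norm_num)
      rw [hF, ← CfsgLib.Classical.card_ker_det] at hc
      simp only [Fin.prod_univ_three, Fin.val_zero, Fin.val_one, Fin.val_two, pow_zero, pow_one] at hc
      obtain ⟨m, rfl⟩ : ∃ m, p = 3 * m + 1 := ⟨p / 3, by omega⟩
      obtain ⟨c, hc81⟩ := hcard
      have hc' : Nat.card (Cfsg.Geo.specialLinear (Fin 3) F) = 81 * c := hc81
      have e1 : (3 * m + 1) ^ 3 - 1 = 3 * m * (3 * (3 * m ^ 2 + 3 * m + 1)) :=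
        Nat.sub_eq_of_eq_add (by ring)
      have e2 : (3 * m + 1) ^ 3 - (3 * m + 1) = 3 * m * ((3 * m + 1) * (3 * m + 2)) :=
        Nat.sub_eq_of_eq_add (by ring)
      have e3 : (3 * m + 1) ^ 3 - (3 * m + 1) ^ 2 = 3 * m * (3 * m + 1) ^ 2 :=
        Nat.sub_eq_of_eq_add (by ring)
      have h1 : Nat.card (MonoidHom.ker (Matrix.GeneralLinearGroup.det : GL (Fin 3) F →* Fˣ)) = 81 * c := hc'
      rw [e1, e2, e3, h1, Nat.add_sub_cancel] at hc
      have hm : 0 < m := by omega
      have hkey : 3 * c = m ^ 2 * ((3 * m ^ 2 + 3 * m + 1) * ((3 * m + 1) * (3 * m + 2) * (3 * m + 1) ^ 2)) :=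
        Nat.eq_of_mul_eq_mul_left (show 0 < 81 * m by omega) (by linear_combination hc)
      have h3d : 3 ∣ m ^ 2 * ((3 * m ^ 2 + 3 * m + 1) * ((3 * m + 1) * (3 * m + 2) * (3 * m + 1) ^ 2)) :=
        ⟨c, hkey.symm⟩
      rcases Nat.prime_three.dvd_mul.1 h3d with h | h
      · have := Nat.prime_three.dvd_of_dvd_pow h
        omega
      rcases Nat.prime_three.dvd_mul.1 h with h | h
      · omega
      rcases Nat.prime_three.dvd_mul.1 h with h | h
      · rcases Nat.prime_three.dvd_mul.1 h with h | h <;> omega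
      · have := Nat.prime_three.dvd_of_dvd_pow h
        omega
    · exfalso
      have hr5 : 5 ≤ r := by
        have := hr.two_le
        have : r ≠ 4 := fun h => absurd (h ▸ hr) (by norm_num)
        omega
      have hdvd : r ∣ Nat.card (Cfsg.Geo.specialLinear (Fin 3) F) := hΩ.trans (Subgroup.relIndex_dvd_card _ _)
      obtain ⟨x, hx⟩ := exists_prime_orderOf_dvd_card' r hdvd
      have hxr : (x : GL (Fin 3) F) ^ r = 1 := by
        rw [← SubmonoidClass.coe_pow, ← hx, pow_orderOf_eq_one]; rfl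
      have hxns : ∀ z : F, ((x : GL (Fin 3) F) : Matrix (Fin 3) (Fin 3) F) ≠ z • 1 := by
        intro z hz
        have hz3 : z ^ 3 = 1 := by
          have h := congrArg Matrix.det hz
          rw [(hsl _).1 x.2, Matrix.det_smul, Matrix.det_one, mul_one, Fintype.card_fin] at h
          exact h.symm
        have hzr : z ^ r = 1 := by
          have h := congrArg (fun g : GL (Fin 3) F => (g : Matrix (Fin 3) (Fin 3) F) 0 0) hxr
          simpa [Units.val_pow_eq_pow_val, hz, smul_pow] using h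
        have hz1 : z = 1 := by
          have h : orderOf z ∣ Nat.gcd 3 r :=
            Nat.dvd_gcd (orderOf_dvd_of_pow_eq_one hz3) (orderOf_dvd_of_pow_eq_one hzr)
          rw [(Nat.coprime_primes Nat.prime_three hr).2 (Ne.symm h3r), Nat.dvd_one, orderOf_eq_one_iff] at h
          exact h
        rw [hz1, one_smul] at hz
        rw [show x = 1 from Subtype.ext (Units.ext hz), orderOf_one] at hx
        exact hr.one_lt.ne hx
      obtain ⟨g, -, hg⟩ := hall x x.2 ⟨1, by rw [hxr, one_smul]; rfl⟩ hxns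
      obtain ⟨s, hs⟩ := D.scalar_of_prime_order hR hr hr5 hg (by
        rw [show g⁻¹ * (x : GL (Fin 3) F) * g = MulAut.conj g⁻¹ (x : GL (Fin 3) F) by simp, ← map_pow, hxr,
          map_one])
      refine hxns s ?_
      have e := congrArg (fun A : Matrix (Fin 3) (Fin 3) F => (g : Matrix (Fin 3) (Fin 3) F) * A *
        ((g⁻¹ : GL (Fin 3) F) : Matrix (Fin 3) (Fin 3) F)) hs
      rw [← Units.val_mul, ← Units.val_mul, show g * (g⁻¹ * (x : GL (Fin 3) F) * g) * g⁻¹ = x by group] at e
      rw [e, Matrix.mul_smul, mul_one, smul_mul, Units.mul_inv]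
  · rintro h x hx ⟨z, hz⟩ hns
    have hz3 := hzdet x hx z hz
    have hz0 : z ≠ 0 := fun e => by simp [e] at hz3
    rcases h with rfl | ⟨rfl, h9⟩
    · have ht : z ^ 2 ≠ 0 := pow_ne_zero _ hz0
      set Y := (z ^ 2)⁻¹ • (x : Matrix (Fin 3) (Fin 3) F) with hYdef
      have hY2 : Y ^ 2 = 1 := by
        rw [hYdef, smul_pow, ← Units.val_pow_eq_pow_val, hz, smul_smul, inv_pow, ← pow_mul,
          show z ^ (2 * 2) = z by linear_combination z * hz3, inv_mul_cancel₀ hz0, one_smul]
      obtain ⟨Q, d, hd, hQ⟩ := diag_two h2 hY2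
      have hQd : (Q : Matrix (Fin 3) (Fin 3) F).det ≠ 0 := ((Matrix.isUnit_iff_isUnit_det _).1 Q.isUnit).ne_zero
      have hprod : d 0 * d 1 * d 2 = 1 := by
        have h := congrArg Matrix.det hQ
        rw [Matrix.det_mul, Matrix.det_mul, hYdef, Matrix.det_smul, (hsl x).1 hx, mul_one, Fintype.card_fin,
          inv_pow, ← pow_mul, show z ^ (2 * 3) = 1 by linear_combination (z ^ 3 + 1) * hz3, inv_one, one_mul,
          Matrix.det_diagonal, Fin.prod_univ_three] at h
        exact mul_left_cancel₀ hQd (by rw [mul_one]; exact h.symm)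
      obtain ⟨g, hg⟩ := hmk (matT F) (by simp [matT, Matrix.det_fin_three])
      have hgN := D.matT_mem_normalizer g hg
      have hfin : ∀ Q' : Matrix (Fin 3) (Fin 3) F, Q'.det ≠ 0 → matT F * Q' = Q' * Matrix.diagonal d →
          ∃ h ∈ Cfsg.Geo.specialLinear (Fin 3) F, h⁻¹ * x * h ∈ Cfsg.Geo.subgroupNormalizer R := by
        intro Q' hQ' he
        refine hscaled x hx _ ht Q d hQ g (D.P * Matrix.GeneralLinearGroup.mk'' Q' (isUnit_iff_ne_zero.2 hQ')) hgN ?_
        rw [Units.val_mul, ← mul_assoc, hg, mul_assoc]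
        show _ * (matT F * Q') = _ * Q' * _
        rw [he, mul_assoc]
      have hne : ∀ s : F, ¬ (d 0 = s ∧ d 1 = s ∧ d 2 = s) := by
        rintro s ⟨a, b, c⟩
        exact hnsmul x _ ht hns s (scalar_diag hQ fun i => by fin_cases i <;> assumption)
      have h4 : (1 : F) + 1 ≠ 0 := by rwa [one_add_one_eq_two]
      rcases hd 0 with h0 | h0 <;> rcases hd 1 with h1 | h1 <;> rcases hd 2 with h2' | h2'
      all_goals
        try simp only [Set.mem_singleton_iff] at h0 h1 h2'
        rw [h0, h1, h2'] at hprod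
      · exact absurd ⟨h0, h1, h2'⟩ (hne 1)
      · exact absurd (show (-1 : F) = 1 by linear_combination hprod) fun e => h4 (by linear_combination -e)
      · exact absurd (show (-1 : F) = 1 by linear_combination hprod) fun e => h4 (by linear_combination -e)
      · refine hfin !![0, 1, 0; 1, 0, 1; -1, 0, 1] (by simp [Matrix.det_fin_three]; exact fun e => h4 (by linear_combination -e)) ?_
        ext i j
        fin_cases i <;> fin_cases j <;> simp [matT, Matrix.mul_apply, Fin.sum_univ_three, Matrix.diagonal_apply, h0, h1, h2']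
      · exact absurd (show (-1 : F) = 1 by linear_combination hprod) fun e => h4 (by linear_combination -e)
      · refine hfin !![1, 0, 0; 0, 1, 1; 0, -1, 1] (by simp [Matrix.det_fin_three, h4]) ?_
        ext i j
        fin_cases i <;> fin_cases j <;> simp [matT, Matrix.mul_apply, Fin.sum_univ_three, Matrix.diagonal_apply, h0, h1, h2']
      · refine hfin !![1, 0, 0; 0, 1, 1; 0, 1, -1] (by simp [Matrix.det_fin_three]; exact fun e => h4 (by linear_combination -e)) ?_
        ext i j
        fin_cases i <;> fin_cases j <;> simp [matT, Matrix.mul_apply, Fin.sum_univ_three, Matrix.diagonal_apply, h0, h1, h2']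
      · exact absurd ⟨h0, h1, h2'⟩ (hne (-1))
    · have h9' : 9 ∣ Fintype.card Fˣ := by omega
      obtain ⟨ε, hε⟩ := IsCyclic.exists_ofOrder_eq_natCard (α := Fˣ)
      rw [Nat.card_eq_fintype_card] at hε
      set η : Fˣ := ε ^ (Fintype.card Fˣ / 9)
      have hη : orderOf η = 9 := by
        rw [orderOf_pow_of_dvd (by omega) (by rw [hε]; exact Nat.div_dvd_of_dvd h9'), hε,
          Nat.div_div_self h9' (by omega)]
      have hη' : IsPrimitiveRoot (η : F) 9 := by
        rw [← hη, ← orderOf_units]; exact IsPrimitiveRoot.orderOf _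
      obtain ⟨i, -, hi⟩ := (hη'.pow (by norm_num) (show 9 = 3 * 3 by norm_num)).eq_pow_of_pow_eq_one hz3
      set t := (η : F) ^ i
      have ht : t ≠ 0 := pow_ne_zero _ η.ne_zero
      have htz : t ^ 3 = z := by rw [← hi, ← pow_mul, ← pow_mul, mul_comm]
      have hY : (t⁻¹ • (x : Matrix (Fin 3) (Fin 3) F)) ^ 3 = 1 := by
        rw [smul_pow, ← Units.val_pow_eq_pow_val, hz, smul_smul, inv_pow, htz, inv_mul_cancel₀ hz0, one_smul]
      obtain ⟨Q, e, hQ⟩ := diag_three h3 D.w_cube D.w_ne hY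
      have hw0 : D.w ≠ 0 := fun e => by simpa [e] using D.w_cube
      obtain ⟨g, hg⟩ := hmk (Matrix.diagonal fun k => D.w ^ (e k : ℕ)) (by
        rw [Matrix.det_diagonal]; exact Finset.prod_ne_zero_iff.2 fun k _ => pow_ne_zero _ hw0)
      exact hscaled x hx t ht Q _ hQ g D.P (D.diag_mem_normalizer g e hg) hg

end Cfsg.Agent.S5998
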