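import Cfsg.Statements.S5999
import Cfsg.Agent.Lib.ExtraThree.Unitary

set_option autoImplicit false
open scoped MatrixGroups
open Cfsg

namespace Cfsg.Agent.S5999

open CfsgLib.ExtraThree CfsgLib.Classical Matrix

/-- Elements of prime order of PSU_3(p), p ≡ 2 (mod 3), and the normalizer of an extraspecial subgroup of order 27. Here `T = PSU_3(p)` for a prime `p ≥ 5` with `p ≡ 2 (mod 3)`, realised through `SU_3(p)`, the matrices of determinant 1 over the field `F` with `p²` elements preserving the hermitian form `Σ uᵢvᵢ^p`; `R` is a non-abelian subgroup of order 27 and exponent 3 of the full unitary group of that form (an extraspecial group 3^{1+2}, acting absolutely irreducibly), and `H` is the subgroup of `SU_3(p)` normalizing `R` — a subgroup of type 3^{1+2}.Sp₂(3) (maximality is not assumed). Ω is the set of cosets of `H`, so an element of `T` of prime order `r` (`x ∈ SU_3(p)` with `x^r` scalar, `x` not scalar) fixes a point of Ω exactly when some `SU_3(p)`-conjugate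 of `x` normalizes `R`. Let `r` be a prime dividing the index of `H`. Then every element of `T` of order `r` fixes a point of Ω if and only if `r = 2`, or `r = 3` and `p ≡ 8 (mod 9)`. -/
theorem result {F : Type*} [Field F] [Fintype F] {p : ℕ} [Fact p.Prime] [CharP F p] (hF : Fintype.card F = p ^ 2) (hp : 5 ≤ p) (hp3 : p % 3 = 2)
    (R : Subgroup (GL (Fin 3) F)) (hRU : R ≤ Cfsg.GU 3 F p) (hR : Nat.card R = 27) (hRe : Monoid.exponent R = 3) (hRna : ¬ IsMulCommutative R)
    (r : ℕ) [Fact r.Prime]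
    (hΩ : r ∣ (Cfsg.Geo.subgroupNormalizer R).relIndex (Cfsg.GU 3 F p ⊓ Cfsg.Geo.specialLinear (Fin 3) F)) :
    (∀ x ∈ Cfsg.GU 3 F p ⊓ Cfsg.Geo.specialLinear (Fin 3) F, (∃ z : F, ((x ^ r : GL (Fin 3) F) : Matrix (Fin 3) (Fin 3) F) = z • (1 : Matrix (Fin 3) (Fin 3) F)) →
      (∀ z : F, (x : Matrix (Fin 3) (Fin 3) F) ≠ z • (1 : Matrix (Fin 3) (Fin 3) F)) →
      ∃ g ∈ Cfsg.GU 3 F p ⊓ Cfsg.Geo.specialLinear (Fin 3) F, g⁻¹ * x * g ∈ Cfsg.Geo.subgroupNormalizer R) ↔ (r = 2 ∨ (r = 3 ∧ p % 9 = 8)) := by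
  classical
  have hp0 : p.Prime := Fact.out
  have h3 : (3 : F) ≠ 0 := fun h => by
    have := Nat.le_of_dvd (by norm_num) ((CharP.cast_eq_zero_iff F p 3).1 (by exact_mod_cast h)); omega
  have h2 : (2 : F) ≠ 0 := fun h => by
    have := Nat.le_of_dvd (by norm_num) ((CharP.cast_eq_zero_iff F p 2).1 (by exact_mod_cast h)); omega
  have hunits : Nat.card Fˣ = (p - 1) * (p + 1) := units_card_sq hF
  have h3d : 3 ∣ p + 1 := by omega
  obtain ⟨ω, hω⟩ : ∃ ω : Fˣ, orderOf ω = 3 :=
    haveI := Fact.mk Nat.prime_three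
    exists_prime_orderOf_dvd_card' 3 (by rw [hunits]; exact h3d.mul_left _)
  have hω3 : (ω : F) ^ 3 = 1 := by rw [← Units.val_pow_eq_pow_val, ← hω, pow_orderOf_eq_one, Units.val_one]
  have hω1 : (ω : F) ≠ 1 := fun e => by
    rw [Units.val_eq_one] at e
    rw [e, orderOf_one] at hω
    omega
  have hnorm : ∀ z : F, z ^ 3 = 1 → qFrob hF z * z = 1 := fun z hz => by
    rw [qFrob_apply, ← pow_succ]
    obtain ⟨k, hk⟩ := h3d
    rw [hk, pow_mul, hz, one_pow]
  obtain ⟨D⟩ := exists_frame h3 hω3 hω1 hR hRe hRna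
  haveI : Finite R := Nat.finite_of_card_ne_zero (by omega)
  have hwn : qFrob hF D.w * D.w = 1 := hnorm _ D.w_cube
  obtain ⟨P, hPU, hP⟩ := D.exists_unitary hF hRU hwn
  have hr : r.Prime := Fact.out
  have hsl : ∀ g : GL (Fin 3) F, g ∈ Cfsg.Geo.specialLinear (Fin 3) F ↔
      (g : Matrix (Fin 3) (Fin 3) F).det = 1 := fun g => by
    show Matrix.GeneralLinearGroup.det g = 1 ↔ _
    rw [Units.ext_iff]; rfl
  have hzdet : ∀ x ∈ Cfsg.Geo.specialLinear (Fin 3) F, ∀ z : F,
      ((x ^ r : GL (Fin 3) F) : Matrix (Fin 3) (Fin 3) F) = z • 1 → z ^ 3 = 1 := by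
    intro x hx z hz
    have h := congrArg Matrix.det hz
    rw [(hsl _).1 (pow_mem hx r), Matrix.det_smul, Matrix.det_one, mul_one, Fintype.card_fin] at h
    exact h.symm
  -- unitary elements in coordinates
  have hmk : ∀ g₀ : GL (Fin 3) F, g₀ ∈ Cfsg.GU 3 F p → ∃ g : GL (Fin 3) F, g ∈ Cfsg.GU 3 F p ∧
      (g : Matrix (Fin 3) (Fin 3) F) * D.P = (D.P : Matrix (Fin 3) (Fin 3) F) * g₀ := by
    intro g₀ hg₀
    refine ⟨P * g₀ * P⁻¹, Subgroup.mul_mem _ (Subgroup.mul_mem _ hPU hg₀) (Subgroup.inv_mem _ hPU),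
      (hP _ _).2 ?_⟩
    rw [← Units.val_mul, inv_mul_cancel_right, Units.val_mul]
  have hscaled : ∀ (x : GL (Fin 3) F) (t : F), qFrob hF t * t = 1 →
      ∀ (Q : GL (Fin 3) F) (d : Fin 3 → F), Q ∈ Cfsg.GU 3 F p →
      (t⁻¹ • (x : Matrix (Fin 3) (Fin 3) F)) * Q = (Q : Matrix (Fin 3) (Fin 3) F) * Matrix.diagonal d →
      ∀ (g Q' : GL (Fin 3) F), g ∈ Cfsg.Geo.subgroupNormalizer R → Q' ∈ Cfsg.GU 3 F p →
      (g : Matrix (Fin 3) (Fin 3) F) * Q' = (Q' : Matrix (Fin 3) (Fin 3) F) * Matrix.diagonal d →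
      ∃ h ∈ Cfsg.GU 3 F p ⊓ Cfsg.Geo.specialLinear (Fin 3) F, h⁻¹ * x * h ∈ Cfsg.Geo.subgroupNormalizer R := by
    intro x t htn Q d hQU hQ g Q' hg hQU' hQ'
    have ht : t ≠ 0 := fun e => by simp [e] at htn
    let tg : GL (Fin 3) F := Units.map (Matrix.scalar (Fin 3) : F →+* _).toMonoidHom (Units.mk0 t ht) * g
    have htg : (tg : Matrix (Fin 3) (Fin 3) F) = t • (g : Matrix (Fin 3) (Fin 3) F) := by
      simp [tg, Matrix.smul_eq_diagonal_mul]
    have hd : Matrix.diagonal (fun i => t * d i) = t • Matrix.diagonal d := by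
      rw [← Matrix.diagonal_smul]; rfl
    obtain ⟨h, hh, e⟩ := exists_su_conj (x := x) (y := tg) (d := fun i => t * d i) (Q := Q) (Q' := Q') hF hQU hQU'
      (by rw [hd, Matrix.mul_smul, ← hQ, smul_mul, smul_smul, mul_inv_cancel₀ ht, one_smul])
      (by rw [hd, Matrix.mul_smul, ← hQ', htg, smul_mul])
    exact ⟨h, hh, e ▸ D.smul_mem_normalizer hg ht htg⟩
  have hnsmul : ∀ (x : GL (Fin 3) F) (t : F), t ≠ 0 →
      (∀ z : F, (x : Matrix (Fin 3) (Fin 3) F) ≠ z • 1) → ∀ z : F, t⁻¹ • (x : Matrix (Fin 3) (Fin 3) F) ≠ z • 1 := by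
    intro x t ht hx z e
    refine hx (t * z) ?_
    rw [← smul_smul, ← e, smul_smul, mul_inv_cancel₀ ht, one_smul]
  -- unitary scaling
  have hscU : ∀ (x : GL (Fin 3) F) (t : F), qFrob hF t * t = 1 → x ∈ Cfsg.GU 3 F p →
      ∀ u v, hermB hF 3 ((t⁻¹ • (x : Matrix (Fin 3) (Fin 3) F)) *ᵥ u)
        ((t⁻¹ • (x : Matrix (Fin 3) (Fin 3) F)) *ᵥ v) = hermB hF 3 u v := by
    intro x t ht hx u v
    rw [Matrix.smul_mulVec, Matrix.smul_mulVec, hermB_smul_smul, (mem_GU_iff hF).1 hx, map_inv₀, ← mul_inv, ht,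
      inv_one, one_mul]
  constructor
  · intro hall
    by_cases h2r : r = 2
    · exact Or.inl h2r
    refine Or.inr ?_
    by_cases h3r : r = 3
    · refine ⟨h3r, ?_⟩
      by_contra h9
      exfalso
      subst h3r
      have hRsu : R ≤ Cfsg.GU 3 F p ⊓ Cfsg.Geo.specialLinear (Fin 3) F := by
        refine le_inf hRU ?_
        rw [← D.closure_eq, Subgroup.closure_le]
        have hdet : ∀ (g : GL (Fin 3) F) (M : Matrix (Fin 3) (Fin 3) F),
            (g : Matrix (Fin 3) (Fin 3) F) * D.P = D.P * M → M.det = 1 → g ∈ Cfsg.Geo.specialLinear (Fin 3) F := by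
          intro g M h hM
          have h' := congrArg Matrix.det h
          rw [Matrix.det_mul, Matrix.det_mul, hM, mul_comm] at h'
          exact (hsl g).2 (mul_left_cancel₀ ((Matrix.isUnit_iff_isUnit_det _).1 D.P.isUnit).ne_zero h')
        rintro _ (rfl | rfl)
        · refine hdet _ _ D.a_eq ?_
          simp [matA, Matrix.det_diagonal, Fin.prod_univ_three]
          linear_combination D.w_cube
        · refine hdet _ _ D.b_eq ?_
          simp [matB, Matrix.det_fin_three]
      set G := Cfsg.GU 3 F p ⊓ Cfsg.Geo.specialLinear (Fin 3) F with hG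
      have hcard : 81 ∣ Nat.card G := by
        have hle : R ≤ Cfsg.Geo.subgroupNormalizer R ⊓ G := le_inf Subgroup.le_normalizer hRsu
        have hd := Subgroup.relIndex_dvd_of_le_left G hle
        rw [Subgroup.inf_relIndex_right] at hd
        obtain ⟨k, hk⟩ := hΩ.trans hd
        have h := Subgroup.card_mul_index (R.subgroupOf G)
        rw [Nat.card_congr (Subgroup.subgroupOfEquivOfLe hRsu).toEquiv, hR] at h
        rw [Subgroup.relIndex] at hk
        exact ⟨k, by rw [← h, hk]; ring⟩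
      -- determinants of unitary elements fill the norm one group
      let δ : (Cfsg.GU 3 F p) →* Fˣ := Matrix.GeneralLinearGroup.det.comp (Cfsg.GU 3 F p).subtype
      have hker : Nat.card δ.ker = Nat.card G := Nat.card_congr
        ⟨fun g => ⟨g.1.1, g.1.2, g.2⟩, fun g => ⟨⟨g.1, g.2.1⟩, g.2.2⟩, fun g => rfl, fun g => rfl⟩
      have him : (powMonoidHom (p + 1) : Fˣ →* Fˣ).ker ≤ δ.range := by
        intro u hu
        have hu' : qFrob hF (u : F) * u = 1 := by
          rw [qFrob_apply, ← pow_succ, ← Units.val_pow_eq_pow_val]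
          exact congrArg Units.val (show u ^ (p + 1) = 1 from hu)
        obtain ⟨S, hSU, hS⟩ := exists_diagonal_mem_GU hF (d := ![(u : F), 1, 1]) fun i => by
          fin_cases i <;> simp [hu']
        refine ⟨⟨S, hSU⟩, Units.ext ?_⟩
        show (S : Matrix (Fin 3) (Fin 3) F).det = u
        simp [hS, Matrix.det_diagonal, Fin.prod_univ_three]
      have hk := Subgroup.card_dvd_of_le him
      rw [IsCyclic.card_powMonoidHom_ker, hunits, mul_comm (p - 1), Nat.gcd_mul_right_left] at hk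
      have hc := Subgroup.card_mul_index δ.ker
      rw [Subgroup.index_ker, hker, card_gu hF] at hc
      obtain ⟨c, hc'⟩ := hcard
      obtain ⟨e, he⟩ := hk
      rw [hc', he] at hc
      simp only [Finset.prod_range_succ, Finset.prod_range_zero, one_mul,
        show Even 0 from Even.zero, show Even 2 from even_two, show ¬ Even 1 from Nat.not_even_one, if_true,
        if_false] at hc
      obtain ⟨k, rfl⟩ : ∃ k, p = 3 * k + 2 := ⟨p / 3, by omega⟩
      have hmain : 81 * (c * e) = (3 * k + 2) ^ 3 * (((3 * k + 2) ^ 2 - 1) * ((3 * k + 2) ^ 3 + 1)) := by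
        refine Nat.eq_of_mul_eq_mul_left (show 0 < 3 * k + 2 + 1 by omega) ?_
        norm_num at hc
        linear_combination hc
      rw [show (3 * k + 2) ^ 2 - 1 = 3 * (k + 1) * (3 * k + 1) from Nat.sub_eq_of_eq_add (by ring),
        show (3 * k + 2) ^ 3 + 1 = 9 * ((k + 1) * (3 * k ^ 2 + 3 * k + 1)) by ring] at hmain
      have hkey : 3 * (c * e) =
          (3 * k + 2) ^ 3 * ((k + 1) * ((3 * k + 1) * ((k + 1) * (3 * k ^ 2 + 3 * k + 1)))) := by
        linarith
      have h3d : 3 ∣ (3 * k + 2) ^ 3 * ((k + 1) * ((3 * k + 1) * ((k + 1) * (3 * k ^ 2 + 3 * k + 1)))) :=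
        ⟨c * e, hkey.symm⟩
      rcases Nat.prime_three.dvd_mul.1 h3d with h | h
      · have := Nat.prime_three.dvd_of_dvd_pow h
        omega
      rcases Nat.prime_three.dvd_mul.1 h with h | h
      · omega
      rcases Nat.prime_three.dvd_mul.1 h with h | h
      · omega
      rcases Nat.prime_three.dvd_mul.1 h with h | h
      · omega
      · have : 3 * k ^ 2 + 3 * k + 1 = 3 * (k ^ 2 + k) + 1 := by ring
        omega
    · exfalso
      have hr5 : 5 ≤ r := by
        have := hr.two_le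
        have : r ≠ 4 := fun h => absurd (h ▸ hr) (by norm_num)
        omega
      have hdvd : r ∣ Nat.card ↥(Cfsg.GU 3 F p ⊓ Cfsg.Geo.specialLinear (Fin 3) F) :=
        hΩ.trans (Subgroup.relIndex_dvd_card _ _)
      obtain ⟨x, hx⟩ := exists_prime_orderOf_dvd_card' r hdvd
      have hxr : (x : GL (Fin 3) F) ^ r = 1 := by
        rw [← SubmonoidClass.coe_pow, ← hx, pow_orderOf_eq_one]; rfl
      have hxns : ∀ z : F, ((x : GL (Fin 3) F) : Matrix (Fin 3) (Fin 3) F) ≠ z • 1 := by
        intro z hz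
        have hz3 : z ^ 3 = 1 := by
          have h := congrArg Matrix.det hz
          rw [(hsl _).1 x.2.2, Matrix.det_smul, Matrix.det_one, mul_one, Fintype.card_fin] at h
          exact h.symm
        have hzr : z ^ r = 1 := by
          have h := congrArg (fun g : GL (Fin 3) F => (g : Matrix (Fin 3) (Fin 3) F) 0 0) hxr
          simpa [Units.val_pow_eq_pow_val, hz, smul_pow] using h
        have hz1 : z = 1 := by
          have h : orderOf z ∣ Nat.gcd 3 r :=
            Nat.dvd_gcd (orderOf_dvd_of_pow_eq_one hz3) (orderOf_dvd_of_pow_eq_one hzr)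
          rw [(Nat.coprime_primes Nat.prime_three hr).2 (Ne.symm h3r), Nat.dvd_one, orderOf_eq_one_iff] at h
          exact h
        rw [hz1, one_smul] at hz
        rw [show x = 1 from Subtype.ext (Units.ext hz), orderOf_one] at hx
        exact hr.one_lt.ne hx
      obtain ⟨g, -, hg⟩ := hall x x.2 ⟨1, by rw [hxr, one_smul]; rfl⟩ hxns
      obtain ⟨s, hs⟩ := D.scalar_of_prime_order hR hr hr5 hg (by
        rw [show g⁻¹ * (x : GL (Fin 3) F) * g = MulAut.conj g⁻¹ (x : GL (Fin 3) F) by simp, ← map_pow, hxr,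
          map_one])
      refine hxns s ?_
      have e := congrArg (fun A : Matrix (Fin 3) (Fin 3) F => (g : Matrix (Fin 3) (Fin 3) F) * A *
        ((g⁻¹ : GL (Fin 3) F) : Matrix (Fin 3) (Fin 3) F)) hs
      rw [← Units.val_mul, ← Units.val_mul, show g * (g⁻¹ * (x : GL (Fin 3) F) * g) * g⁻¹ = x by group] at e
      rw [e, Matrix.mul_smul, mul_one, smul_mul, Units.mul_inv]
  · rintro h x hx ⟨z, hz⟩ hns
    have hz3 := hzdet x hx.2 z hz
    have hz0 : z ≠ 0 := fun e => by simp [e] at hz3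
    rcases h with rfl | ⟨rfl, h9⟩
    · have ht : qFrob hF (z ^ 2) * z ^ 2 = 1 := by rw [map_pow, ← mul_pow, hnorm z hz3, one_pow]
      set Y := (z ^ 2)⁻¹ • (x : Matrix (Fin 3) (Fin 3) F) with hYdef
      have hY2 : Y ^ 2 = 1 := by
        rw [hYdef, smul_pow, ← Units.val_pow_eq_pow_val, hz, smul_smul, inv_pow, ← pow_mul,
          show z ^ (2 * 2) = z by linear_combination z * hz3, inv_mul_cancel₀ hz0, one_smul]
      have hYdet : Y.det = 1 := by
        rw [hYdef, Matrix.det_smul, (hsl x).1 hx.2, mul_one, Fintype.card_fin, inv_pow, ← pow_mul,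
          show z ^ (2 * 3) = 1 by linear_combination (z ^ 3 + 1) * hz3, inv_one]
      have hs1 : ∀ a ∈ ({1, -1} : Set F), qFrob hF a * a = 1 := by
        rintro a (rfl | rfl) <;> simp
      -- unitary diagonal form of an involution of determinant one
      have hinv : ∀ M : Matrix (Fin 3) (Fin 3) F, M ^ 2 = 1 → M.det = 1 → (∀ c : F, M ≠ c • 1) →
          (∀ u v, hermB hF 3 (M *ᵥ u) (M *ᵥ v) = hermB hF 3 u v) → ∃ Q : GL (Fin 3) F, Q ∈ Cfsg.GU 3 F p ∧
            M * (Q : Matrix (Fin 3) (Fin 3) F) = (Q : Matrix (Fin 3) (Fin 3) F) * Matrix.diagonal ![1, -1, -1] := by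
        intro M hM hdet hnsc hMU
        obtain ⟨Q₀, d₀, hd₀, hQ₀⟩ := diag_two h2 hM
        obtain ⟨Q, hQU, d, hd, hQ⟩ := exists_unitary_diag hF hMU (fun i => hs1 _ (hd₀ i)) hQ₀
        have hd' : ∀ i, d i = 1 ∨ d i = -1 := fun i => by
          obtain ⟨j, hj⟩ := hd i
          rw [← hj]; exact hd₀ j
        have hQd : (Q : Matrix (Fin 3) (Fin 3) F).det ≠ 0 := ((Matrix.isUnit_iff_isUnit_det _).1 Q.isUnit).ne_zero
        have hprod : d 0 * d 1 * d 2 = 1 := by
          have h := congrArg Matrix.det hQ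
          rw [Matrix.det_mul, Matrix.det_mul, hdet, one_mul, Matrix.det_diagonal, Fin.prod_univ_three] at h
          exact mul_left_cancel₀ hQd (by rw [mul_one]; exact h.symm)
        have hne : ∀ s : F, ¬ (d 0 = s ∧ d 1 = s ∧ d 2 = s) := by
          rintro s ⟨a, b, c⟩
          exact hnsc s (scalar_diag hQ fun i => by fin_cases i <;> assumption)
        have h11 : (-1 : F) ≠ 1 := fun e => h2 (by linear_combination -e)
        obtain ⟨π, hπ⟩ : ∃ π : Equiv.Perm (Fin 3), d ∘ π = ![1, -1, -1] := by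
          rcases hd' 0 with h0 | h0 <;> rcases hd' 1 with h1 | h1 <;> rcases hd' 2 with h2' | h2'
          all_goals rw [h0, h1, h2'] at hprod
          · exact absurd ⟨h0, h1, h2'⟩ (hne 1)
          · exact absurd (show (-1 : F) = 1 by linear_combination hprod) h11
          · exact absurd (show (-1 : F) = 1 by linear_combination hprod) h11
          · exact ⟨1, funext fun i => by fin_cases i <;> simp [h0, h1, h2']⟩
          · exact absurd (show (-1 : F) = 1 by linear_combination hprod) h11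
          · exact ⟨Equiv.swap 0 1, funext fun i => by fin_cases i <;> simp [Equiv.swap_apply_def, h0, h1, h2']⟩
          · exact ⟨Equiv.swap 0 2, funext fun i => by fin_cases i <;> simp [Equiv.swap_apply_def, h0, h1, h2']⟩
          · exact absurd ⟨h0, h1, h2'⟩ (hne (-1))
        obtain ⟨Q', hQ'U, hQ'⟩ := exists_perm_diag hF hQU hQ π
        exact ⟨Q', hQ'U, by rw [← hπ]; exact hQ'⟩
      obtain ⟨Q, hQU, hQ⟩ := hinv Y hY2 hYdet (hnsmul x _ (pow_ne_zero _ hz0) hns) (hscU x _ ht hx.1)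
      obtain ⟨T, hTU, hT⟩ := exists_gl_of_cols hF (M := matT F) fun i j => by
        simp only [Matrix.mulVec_single_one, hermB_apply, Cfsg.hermForm, Fin.sum_univ_three]
        have h0 : (0 : F) ^ p = 0 := zero_pow (by omega)
        have h1 : (-1 : F) ^ p = -1 := (hp0.odd_of_ne_two (by omega)).neg_one_pow
        fin_cases i <;> fin_cases j <;> simp [matT, Matrix.col, h0, h1]
      obtain ⟨g, hgU, hg⟩ := hmk T hTU
      rw [hT] at hg
      obtain ⟨Q', hQU', hQ'⟩ := hinv (matT F) (by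
          ext i j
          fin_cases i <;> fin_cases j <;> simp [matT, pow_two, Matrix.mul_apply, Fin.sum_univ_three])
        (by simp [matT, Matrix.det_fin_three])
        (fun c e => by
          have := congrFun (congrFun e 1) 2
          simp [matT] at this)
        (fun u v => hT ▸ (mem_GU_iff hF).1 hTU u v)
      refine hscaled x _ ht Q _ hQU hQ g (P * Q') (D.matT_mem_normalizer g hg)
        (Subgroup.mul_mem _ hPU hQU') ?_
      rw [Units.val_mul, ← mul_assoc, (hP _ _).1 hg, mul_assoc, hQ', mul_assoc]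
    · have h9' : 9 ∣ p + 1 := by omega
      obtain ⟨ε, hε⟩ := IsCyclic.exists_ofOrder_eq_natCard (α := Fˣ)
      set η : Fˣ := ε ^ (Nat.card Fˣ / 9)
      have h9u : 9 ∣ Nat.card Fˣ := hunits ▸ h9'.mul_left _
      have hη : orderOf η = 9 := by
        rw [orderOf_pow_of_dvd (Nat.div_pos (Nat.le_of_dvd Nat.card_pos h9u) (by norm_num)).ne'
          (by rw [hε]; exact Nat.div_dvd_of_dvd h9u), hε, Nat.div_div_self h9u Nat.card_pos.ne']
      have hη' : IsPrimitiveRoot (η : F) 9 := by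
        rw [← hη, ← orderOf_units]; exact IsPrimitiveRoot.orderOf _
      obtain ⟨i, -, hi⟩ := (hη'.pow (by norm_num) (show 9 = 3 * 3 by norm_num)).eq_pow_of_pow_eq_one hz3
      set t := (η : F) ^ i
      have ht : qFrob hF t * t = 1 := by
        obtain ⟨k, hk⟩ := h9'
        rw [qFrob_apply, ← pow_succ, ← pow_mul, hk, mul_comm, mul_assoc, pow_mul, hη'.pow_eq_one, one_pow]
      have htz : t ^ 3 = z := by rw [← hi, ← pow_mul, ← pow_mul, mul_comm]
      have hY : (t⁻¹ • (x : Matrix (Fin 3) (Fin 3) F)) ^ 3 = 1 := by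
        rw [smul_pow, ← Units.val_pow_eq_pow_val, hz, smul_smul, inv_pow, htz, inv_mul_cancel₀ hz0, one_smul]
      obtain ⟨Q₀, e₀, hQ₀⟩ := diag_three h3 D.w_cube D.w_ne hY
      have hwn' : ∀ k : ℕ, qFrob hF (D.w ^ k) * D.w ^ k = 1 := fun k => by
        rw [map_pow, ← mul_pow, hwn, one_pow]
      obtain ⟨Q, hQU, d, hd, hQ⟩ := exists_unitary_diag hF (hscU x t ht hx.1) (fun j => hwn' _) hQ₀
      choose j hj using hd
      obtain ⟨g₀, hg₀U, hg₀⟩ := exists_diagonal_mem_GU hF (d := d) fun k => by rw [← hj k]; exact hwn' _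
      obtain ⟨g, hgU, hg⟩ := hmk g₀ hg₀U
      rw [hg₀] at hg
      refine hscaled x t ht Q _ hQU hQ g P (D.diag_mem_normalizer g (fun k => e₀ (j k)) ?_) hPU ((hP _ _).1 hg)
      rw [hg]
      congr 2
      funext k
      exact (hj k).symm

end Cfsg.Agent.S5999
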