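import Cfsg.Statements.S6000
import Cfsg.Agent.Lib.MaxSub.SympTypeFourLinear
-- import your own Cfsg.Agent.* helpers here

set_option autoImplicit false
open scoped MatrixGroups
open Cfsg

namespace Cfsg.Agent.S6000

/-- Elements of prime order of PSL_4(p), p ≡ 1 (mod 4), and the normalizer of a 2-group of symplectic type of order 2⁶. Here `T = PSL_4(F)` for the field `F` with `p` elements, `p` a prime with `p ≡ 1 (mod 4)`; `R` is an absolutely irreducible subgroup of GL_4(F) of order 2⁶ that is a 2-group of symplectic type of exponent 4 with centre of order 4 (the central product of the scalars of order 4 with an extraspecial group 2^{1+4}), and `H` is the subgroup of matrices of determinant 1 normalizing `R` — a subgroup of type 2⁴.Sp₄(2) (maximality is not assumed). Ω is the set of cosets of `H` in `T`, so an element of `T` of prime order `r` (a matrix `x` of determinant 1 with `x^r` scalar, `x` not scalar) fixes a point of Ω exactly when some conjugate of `x` by a matrix of determinant 1 normalizes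 `R`. Let `r` be a prime dividing the index of `H`. Then every element of `T` of order `r` fixes a point of Ω if and only if `r = 2`, or `r = 3` and `p ≡ 2 (mod 3)`, or `r = 5` and `p ≡ ±2 (mod 5)` (`p` has multiplicative order 4 modulo 5). -/
theorem result {F : Type*} [Field F] [Fintype F] {p : ℕ} [Fact p.Prime] [CharP F p] (hF : Fintype.card F = p) (hp4 : p % 4 = 1)
    (R : Subgroup (GL (Fin 4) F)) (hR : Cfsg.Geo.IsLinearSymplecticTypeData 2 R) (hR6 : Nat.card R = 2 ^ 6)
    (r : ℕ) [Fact r.Prime]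
    (hΩ : r ∣ (Cfsg.Geo.subgroupNormalizer R).relIndex (Cfsg.Geo.specialLinear (Fin 4) F)) :
    (∀ x ∈ Cfsg.Geo.specialLinear (Fin 4) F, (∃ z : F, ((x ^ r : GL (Fin 4) F) : Matrix (Fin 4) (Fin 4) F) = z • (1 : Matrix (Fin 4) (Fin 4) F)) →
      (∀ z : F, (x : Matrix (Fin 4) (Fin 4) F) ≠ z • (1 : Matrix (Fin 4) (Fin 4) F)) →
      ∃ g ∈ Cfsg.Geo.specialLinear (Fin 4) F, g⁻¹ * x * g ∈ Cfsg.Geo.subgroupNormalizer R) ↔ (r = 2 ∨ (r = 3 ∧ p % 3 = 2) ∨ (r = 5 ∧ orderOf (p : ZMod 5) = 4)) := by
  have hp : p.Prime := Fact.out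
  have hz : Nat.card (Subgroup.center R) = 4 := by
    obtain ⟨p', e, -, -, hcase⟩ := hR.field
    rcases hcase with ⟨hodd, -⟩ | ⟨-, -, h, -⟩ | ⟨-, -, h, -⟩
    · exact absurd hodd (by decide)
    · exact h
    · simp at h
  have h2 : (2 : F) ≠ 0 := CfsgLib.MaxSub.SymFour.Linear.two_ne hF hp4
  have hP : CfsgLib.MaxSub.SymFour.Pauli R :=
    CfsgLib.MaxSub.SymFour.Pauli.of_sympType (Fintype.card_fin 4) h2 hR.symplecticType hR.absIrred
      (Or.inl ⟨hR6, hz⟩)
  have hdvd : r ∣ Nat.card (Cfsg.Geo.specialLinear (Fin 4) F) :=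
    hΩ.trans (Subgroup.relIndex_dvd_card _ _)
  rw [CfsgLib.MaxSub.SymFour.orderOf_cast_five]
  constructor
  · intro hfix
    by_contra hcon
    simp only [not_or, not_and] at hcon
    have hr := (Fact.out : r.Prime)
    rcases lt_or_ge r 7 with h7 | h7
    · have h357 : r = 3 ∨ r = 5 := by
        have := hr.two_le
        interval_cases r <;> first | omega | (norm_num at hr)
      rcases h357 with rfl | rfl
      · refine CfsgLib.MaxSub.SymFour.Linear.not_fix_three hF hp4 hP ?_ hfix
        have h0 : p % 3 ≠ 0 := fun h => by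
          have := (Nat.prime_dvd_prime_iff_eq Nat.prime_three hp).1 (Nat.dvd_of_mod_eq_zero h)
          omega
        have := hcon.2.1 rfl
        omega
      · exact CfsgLib.MaxSub.SymFour.Linear.not_fix_five hF hp4 hP (by simpa using hcon.2.2 rfl) hfix
    · exact CfsgLib.MaxSub.SymFour.Linear.not_fix_of_seven_le hF hp4 hP h7 hdvd hfix
  · rintro (rfl | ⟨rfl, h⟩ | ⟨rfl, h⟩)
    · exact CfsgLib.MaxSub.SymFour.Linear.fix_two hF hp4 hP hz
    · exact CfsgLib.MaxSub.SymFour.Linear.fix_three hF hp4 hP hz h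
    · exact CfsgLib.MaxSub.SymFour.Linear.fix_five hF hp4 hP hz h

end Cfsg.Agent.S6000
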